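import Mathlib
import Groth.Prelude.Def_FlatCA

/-!
# Associated primes (annihilators of elements) and fibres

`FlatCA.ass` of fibre modules `N ⊗ κ(p)`, of `N/pN` and of `N ⊗_R M`: the comparison lemma between
the sets `A`, `A'`, `A_fin`, `B`, `B_fin`.
-/

set_option autoImplicit false
set_option linter.unusedSectionVars false
universe u v
open TensorProduct

namespace Groth.Agent.Lib.Helper26.FiberAss

section general

variable {S : Type u} [CommRing S] {M : Type v} [AddCommGroup M] [Module S M]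

theorem mem_ass_iff {q : Ideal S} :
    q ∈ FlatCA.ass S M ↔ q.IsPrime ∧ ∃ m : M, ∀ s : S, s ∈ q ↔ s • m = 0 := by
  change (q.IsPrime ∧ ∃ m : M, q = (Submodule.span S {m}).annihilator) ↔ _
  refine and_congr_right fun _ => exists_congr fun m => ?_
  constructor
  · rintro rfl s
    rw [Submodule.mem_annihilator_span_singleton]
  · intro h
    ext s
    rw [h s, Submodule.mem_annihilator_span_singleton]

theorem ass_subset_of_injective {M' : Type*} [AddCommGroup M'] [Module S M'] (f : M →ₗ[S] M')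
    (hf : Function.Injective f) : FlatCA.ass S M ⊆ FlatCA.ass S M' := by
  intro q hq
  rw [mem_ass_iff] at hq ⊢
  obtain ⟨hp, m, hm⟩ := hq
  refine ⟨hp, f m, fun s => ?_⟩
  rw [hm s, ← map_smul, ← map_zero f, hf.eq_iff]

theorem ass_eq_of_linearEquiv {M' : Type*} [AddCommGroup M'] [Module S M'] (e : M ≃ₗ[S] M') :
    FlatCA.ass S M = FlatCA.ass S M' :=
  Set.Subset.antisymm (ass_subset_of_injective e.toLinearMap e.injective)
    (ass_subset_of_injective e.symm.toLinearMap e.symm.injective)

/-- associated primes of the middle term of an exact sequence -/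
theorem ass_subset_union_of_exact {M' M'' : Type*} [AddCommGroup M'] [Module S M']
    [AddCommGroup M''] [Module S M''] (f : M' →ₗ[S] M) (g : M →ₗ[S] M'')
    (hf : Function.Injective f) (hfg : Function.Exact f g) :
    FlatCA.ass S M ⊆ FlatCA.ass S M' ∪ FlatCA.ass S M'' := by
  intro q hq
  rw [mem_ass_iff] at hq
  obtain ⟨hp, m, hm⟩ := hq
  by_cases h : ∃ s : S, s ∉ q ∧ g (s • m) = 0
  · left
    obtain ⟨s, hs, hgs⟩ := h
    obtain ⟨m', hm'⟩ := (hfg (s • m)).1 hgs
    rw [mem_ass_iff]
    refine ⟨hp, m', fun t => ?_⟩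
    constructor
    · intro ht
      apply hf
      rw [map_smul, hm', map_zero, smul_comm, (hm t).1 ht, smul_zero]
    · intro ht
      have h1 : (t * s) • m = 0 := by
        rw [mul_smul, ← hm', ← map_smul, ht, map_zero]
      rcases hp.mem_or_mem ((hm _).2 h1) with h2 | h2
      · exact h2
      · exact absurd h2 hs
  · right
    push Not at h
    rw [mem_ass_iff]
    refine ⟨hp, g m, fun t => ?_⟩
    rw [← map_smul]
    constructor
    · intro ht
      rw [(hm t).1 ht, map_zero]
    · intro ht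
      by_contra hcon
      exact h t hcon ht

end general


section fiber

variable {R : Type u} [CommRing R] (p : Ideal R) [p.IsPrime] (N : Type u) [AddCommGroup N]
  [Module R N]

theorem residue_exists (a : p.ResidueField) :
    ∃ r ∉ p, ∃ b : R, r • a = algebraMap R p.ResidueField b := by
  obtain ⟨r, hr, b, hb⟩ := Ideal.ResidueField.exists_smul_eq_tmul_one p (S := R)
    ((1 : R) ⊗ₜ[R] a)
  refine ⟨r, hr, b, ?_⟩
  have := congrArg (TensorProduct.lid R p.ResidueField) hb
  simpa [Algebra.smul_def] using this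

/-- every element of `N ⊗ κ(p)` is, up to a unit, of the form `x ⊗ 1` -/
theorem exists_smul_eq_tmul_one (z : N ⊗[R] p.ResidueField) :
    ∃ r ∉ p, ∃ x : N, r • z = x ⊗ₜ[R] (1 : p.ResidueField) := by
  induction z using TensorProduct.induction_on with
  | zero => exact ⟨1, fun h => (Ideal.ne_top_iff_one p).1 (Ideal.IsPrime.ne_top inferInstance) h,
      0, by simp⟩
  | tmul n a =>
    obtain ⟨r, hr, b, hb⟩ := residue_exists p a
    refine ⟨r, hr, b • n, ?_⟩
    rw [TensorProduct.smul_tmul', TensorProduct.smul_tmul, hb, TensorProduct.smul_tmul,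
      Algebra.algebraMap_eq_smul_one]
  | add z₁ z₂ h₁ h₂ =>
    obtain ⟨r₁, hr₁, x₁, e₁⟩ := h₁
    obtain ⟨r₂, hr₂, x₂, e₂⟩ := h₂
    refine ⟨r₁ * r₂, fun h => ?_, r₂ • x₁ + r₁ • x₂, ?_⟩
    · rcases Ideal.IsPrime.mem_or_mem inferInstance h with h | h
      · exact hr₁ h
      · exact hr₂ h
    · rw [smul_add, mul_comm r₁ r₂, mul_smul, e₁, mul_comm r₂ r₁, mul_smul, e₂,
        TensorProduct.add_tmul, TensorProduct.smul_tmul', TensorProduct.smul_tmul']

/-- elements outside `p` act injectively on `N ⊗ κ(p)` -/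
theorem eq_zero_of_smul_eq_zero {r : R} (hr : r ∉ p) (z : N ⊗[R] p.ResidueField)
    (h : r • z = 0) : z = 0 := by
  have hu : algebraMap R p.ResidueField r ≠ 0 := by
    rwa [ne_eq, Ideal.algebraMap_residueField_eq_zero]
  let φ : N ⊗[R] p.ResidueField →ₗ[R] N ⊗[R] p.ResidueField :=
    LinearMap.lTensor N (LinearMap.mulLeft R (algebraMap R p.ResidueField r)⁻¹)
  have hφ : ∀ w, φ (r • w) = w := by
    intro w
    induction w using TensorProduct.induction_on with
    | zero => simp
    | tmul n a =>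
      rw [TensorProduct.smul_tmul', TensorProduct.smul_tmul]
      simp only [φ, LinearMap.lTensor_tmul, LinearMap.mulLeft_apply]
      rw [Algebra.smul_def, ← mul_assoc, inv_mul_cancel₀ hu, one_mul]
    | add w₁ w₂ h₁ h₂ => rw [smul_add, map_add, h₁, h₂]
  rw [← hφ z, h, map_zero]

theorem tmul_one_eq_zero_of_mem {x : N} (hx : x ∈ p • (⊤ : Submodule R N)) :
    x ⊗ₜ[R] (1 : p.ResidueField) = 0 := by
  refine Submodule.smul_induction_on hx (fun a ha n _ => ?_) (fun x y hx hy => ?_)
  · rw [TensorProduct.smul_tmul, Algebra.smul_def, mul_one,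
      Ideal.algebraMap_residueField_eq_zero.2 ha, TensorProduct.tmul_zero]
  · rw [TensorProduct.add_tmul, hx, hy, add_zero]

/-- the detection map `N ⊗ κ(p) → κ(p) ⊗_{R/p} N/pN` -/
noncomputable def detect :
    N ⊗[R] p.ResidueField →ₗ[R] p.ResidueField ⊗[R ⧸ p] (N ⧸ p • (⊤ : Submodule R N)) :=
  TensorProduct.lift
    (LinearMap.mk₂ R (fun (n : N) (a : p.ResidueField) =>
        a ⊗ₜ[R ⧸ p] (Submodule.Quotient.mk n : N ⧸ p • (⊤ : Submodule R N)))
      (fun n₁ n₂ a => by rw [Submodule.Quotient.mk_add, TensorProduct.tmul_add])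
      (fun c n a => by
        rw [← Module.Quotient.mk_smul_mk, ← TensorProduct.smul_tmul, TensorProduct.smul_tmul']
        congr 1
        exact algebraMap_smul (R ⧸ p) c a)
      (fun n a₁ a₂ => by rw [TensorProduct.add_tmul])
      (fun c n a => by
        rw [TensorProduct.smul_tmul']))

theorem detect_tmul (n : N) (a : p.ResidueField) :
    detect p N (n ⊗ₜ[R] a) = a ⊗ₜ[R ⧸ p] (Submodule.Quotient.mk n : N ⧸ p • (⊤ : Submodule R N)) :=
  rfl

/-- the kernel of `N → N ⊗ κ(p)` -/
theorem tmul_one_eq_zero_iff (x : N) :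
    x ⊗ₜ[R] (1 : p.ResidueField) = 0 ↔ ∃ r ∉ p, r • x ∈ p • (⊤ : Submodule R N) := by
  constructor
  · intro h
    have h1 := congrArg (detect p N) h
    rw [detect_tmul, map_zero] at h1
    have h2 : TensorProduct.mk (R ⧸ p) p.ResidueField (N ⧸ p • (⊤ : Submodule R N)) 1
        (Submodule.Quotient.mk x) = 0 := h1
    rw [IsLocalizedModule.eq_zero_iff (nonZeroDivisors (R ⧸ p))] at h2
    obtain ⟨⟨t, ht⟩, ht2⟩ := h2
    obtain ⟨r, rfl⟩ := Ideal.Quotient.mk_surjective t
    refine ⟨r, fun hr => ?_, ?_⟩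
    · rw [mem_nonZeroDivisors_iff_ne_zero] at ht
      exact ht (Ideal.Quotient.eq_zero_iff_mem.2 hr)
    · have h3 : Ideal.Quotient.mk p r • (Submodule.Quotient.mk x : N ⧸ p • (⊤ : Submodule R N)) = 0 :=
        ht2
      rw [Module.Quotient.mk_smul_mk, Submodule.Quotient.mk_eq_zero] at h3
      exact h3
  · rintro ⟨r, hr, h⟩
    apply eq_zero_of_smul_eq_zero p N hr
    rw [TensorProduct.smul_tmul']
    exact tmul_one_eq_zero_of_mem p N h

end fiber


section overS

variable {R S : Type u} [CommRing R] [CommRing S] [Algebra R S] (p : Ideal R) [p.IsPrime]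
  (N : Type u) [AddCommGroup N] [Module S N] [Module R N] [IsScalarTower R S N]

theorem mem_map_smul_top_iff (x : N) :
    x ∈ (p.map (algebraMap R S)) • (⊤ : Submodule S N) ↔ x ∈ p • (⊤ : Submodule R N) := by
  constructor
  · intro hx
    refine Submodule.smul_induction_on hx (fun a ha n _ => ?_) (fun x y hx hy => add_mem hx hy)
    -- a ∈ p.map: induction on span
    suffices key : ∀ n : N, a • n ∈ p • (⊤ : Submodule R N) from key n
    refine Submodule.span_induction (p := fun a _ => ∀ n : N, a • n ∈ p • (⊤ : Submodule R N))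
      ?_ ?_ ?_ ?_ ha
    · rintro _ ⟨r, hr, rfl⟩ n
      rw [algebraMap_smul]
      exact Submodule.smul_mem_smul hr Submodule.mem_top
    · intro n; rw [zero_smul]; exact zero_mem _
    · intro a b _ _ ha hb n
      rw [add_smul]; exact add_mem (ha n) (hb n)
    · intro c a _ ha n
      rw [smul_eq_mul, mul_comm, mul_smul]
      exact ha (c • n)
  · intro hx
    refine Submodule.smul_induction_on hx (fun a ha n _ => ?_) (fun x y hx hy => add_mem hx hy)
    rw [← algebraMap_smul S a n]
    exact Submodule.smul_mem_smul (Ideal.mem_map_of_mem _ ha) Submodule.mem_top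

attribute [local instance] Algebra.TensorProduct.rightAlgebra in
/-- the fibre module is `N ⊗ κ(p)` (plain tensor product version) -/
noncomputable def fiberModEquiv₀ : (p.Fiber S) ⊗[S] N ≃ₗ[S] N ⊗[R] p.ResidueField :=
  (TensorProduct.congr (Algebra.TensorProduct.commRight R S p.ResidueField).symm.toLinearEquiv
      (LinearEquiv.refl S N)) ≪≫ₗ
    (TensorProduct.comm S (S ⊗[R] p.ResidueField) N) ≪≫ₗ
    (TensorProduct.AlgebraTensorModule.cancelBaseChange R S S N p.ResidueField)

attribute [local instance] Algebra.TensorProduct.rightAlgebra in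
theorem fiberModEquiv₀_tmul (x : N) :
    fiberModEquiv₀ p N ((1 : p.Fiber S) ⊗ₜ[S] x) = x ⊗ₜ[R] (1 : p.ResidueField) := by
  have h : fiberModEquiv₀ p N (((1 : p.ResidueField) ⊗ₜ[R] (1 : S)) ⊗ₜ[S] x) =
      ((1 : S) • x) ⊗ₜ[R] (1 : p.ResidueField) := rfl
  rw [one_smul] at h
  exact h

/-- the fibre module is `N ⊗ κ(p)` -/
noncomputable def fiberModEquiv : FlatCA.fiberMod p S N ≃ₗ[S] N ⊗[R] p.ResidueField :=
  fiberModEquiv₀ p N

theorem fiberModEquiv_toFiberMod (x : N) :
    fiberModEquiv p N (FlatCA.toFiberMod p S N x) = x ⊗ₜ[R] (1 : p.ResidueField) :=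
  fiberModEquiv₀_tmul p N x


/-- annihilator of `x ⊗ 1` in `N ⊗ κ(p)` as an `S`-module -/
theorem smul_tmul_one_eq_zero_iff (x : N) (s : S) :
    s • (x ⊗ₜ[R] (1 : p.ResidueField)) = 0 ↔
      ∃ r ∉ p, (algebraMap R S r * s) • x ∈ (p.map (algebraMap R S)) • (⊤ : Submodule S N) := by
  rw [TensorProduct.smul_tmul', tmul_one_eq_zero_iff]
  refine exists_congr fun r => and_congr_right fun _ => ?_
  rw [mem_map_smul_top_iff, mul_smul, algebraMap_smul]

theorem quotient_smul_eq_zero_iff (x : N) (s : S) :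
    s • (Submodule.Quotient.mk x : N ⧸ (p.map (algebraMap R S)) • (⊤ : Submodule S N)) = 0 ↔
      s • x ∈ (p.map (algebraMap R S)) • (⊤ : Submodule S N) := by
  rw [← Submodule.Quotient.mk_smul, Submodule.Quotient.mk_eq_zero]

/-- `A_fin ⊆ A` -/
theorem mem_ass_fiberMod_of_mem_ass_quotient (q : Ideal S) [q.IsPrime]
    (hq : q.comap (algebraMap R S) = p)
    (h : q ∈ FlatCA.ass S (N ⧸ (p.map (algebraMap R S)) • (⊤ : Submodule S N))) :
    q ∈ FlatCA.ass S (FlatCA.fiberMod p S N) := by
  rw [ass_eq_of_linearEquiv (fiberModEquiv p N)]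
  rw [mem_ass_iff] at h ⊢
  obtain ⟨hp, m, hm⟩ := h
  obtain ⟨x, rfl⟩ := Submodule.Quotient.mk_surjective _ m
  refine ⟨hp, x ⊗ₜ[R] (1 : p.ResidueField), fun s => ?_⟩
  rw [smul_tmul_one_eq_zero_iff]
  constructor
  · intro hs
    refine ⟨1, fun h1 => (Ideal.ne_top_iff_one p).1 (Ideal.IsPrime.ne_top inferInstance) h1, ?_⟩
    rw [map_one, one_mul, ← quotient_smul_eq_zero_iff, ← hm]
    exact hs
  · rintro ⟨r, hr, h1⟩
    rw [← quotient_smul_eq_zero_iff, ← hm] at h1
    rcases hp.mem_or_mem h1 with h2 | h2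
    · exfalso
      apply hr
      rw [← hq]
      exact h2
    · exact h2


/-- `S`-annihilators in `N ⊗ κ(p)` are unchanged by multiplying by an element outside `p` -/
theorem smul_smul_eq_zero_iff {r : R} (hr : r ∉ p) (s : S) (z : N ⊗[R] p.ResidueField) :
    s • (r • z) = 0 ↔ s • z = 0 := by
  rw [smul_comm]
  constructor
  · exact eq_zero_of_smul_eq_zero p N hr _
  · intro h; rw [h, smul_zero]

/-- `A ⊆ A_fin` for Noetherian `S` -/
theorem mem_ass_quotient_of_mem_ass_fiberMod [IsNoetherianRing S] (q : Ideal S) [q.IsPrime]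
    (h : q ∈ FlatCA.ass S (FlatCA.fiberMod p S N)) :
    q ∈ FlatCA.ass S (N ⧸ (p.map (algebraMap R S)) • (⊤ : Submodule S N)) := by
  classical
  rw [ass_eq_of_linearEquiv (fiberModEquiv p N)] at h
  rw [mem_ass_iff] at h ⊢
  obtain ⟨hp, z, hz⟩ := h
  obtain ⟨r₀, hr₀, x, hx⟩ := exists_smul_eq_tmul_one p N z
  have hz' : ∀ s, s ∈ q ↔ s • (x ⊗ₜ[R] (1 : p.ResidueField)) = 0 := by
    intro s
    rw [← hx, smul_smul_eq_zero_iff p N hr₀]
    exact hz s
  obtain ⟨G, hG⟩ := (isNoetherianRing_iff_ideal_fg S).1 inferInstance q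
  have hgen : ∀ g : S, g ∈ G → ∃ r : R, r ∉ p ∧
      (algebraMap R S r * g) • x ∈ (p.map (algebraMap R S)) • (⊤ : Submodule S N) := by
    intro g hg
    have : g ∈ q := hG ▸ Ideal.subset_span hg
    exact (smul_tmul_one_eq_zero_iff p N x g).1 ((hz' g).1 this)
  choose! r hr using hgen
  have hrtot : (∏ g ∈ G, r g) ∉ p := by
    rw [Ideal.IsPrime.prod_mem_iff]
    rintro ⟨g, hg, hgp⟩
    exact (hr g hg).1 hgp
  refine ⟨hp, Submodule.Quotient.mk (algebraMap R S (∏ g ∈ G, r g) • x), fun s => ?_⟩
  rw [quotient_smul_eq_zero_iff]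
  constructor
  · intro hs
    rw [← hG] at hs
    refine Submodule.span_induction (p := fun s _ => s • algebraMap R S (∏ g ∈ G, r g) • x ∈
      (p.map (algebraMap R S)) • (⊤ : Submodule S N)) ?_ ?_ ?_ ?_ hs
    · intro g hg
      have e : g • algebraMap R S (∏ g ∈ G, r g) • x =
          algebraMap R S (∏ x ∈ G.erase g, r x) • ((algebraMap R S (r g) * g) • x) := by
        rw [← Finset.mul_prod_erase G r hg, map_mul, smul_smul, smul_smul]
        congr 1
        ring
      rw [e]
      exact Submodule.smul_mem _ _ (hr g hg).2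
    · rw [zero_smul]; exact zero_mem _
    · intro a b _ _ ha hb
      rw [add_smul]; exact add_mem ha hb
    · intro c a _ ha
      rw [smul_eq_mul, mul_smul]
      exact Submodule.smul_mem _ c ha
  · intro hs
    rw [hz', smul_tmul_one_eq_zero_iff]
    refine ⟨∏ g ∈ G, r g, hrtot, ?_⟩
    rw [mul_comm, mul_smul]
    exact hs


/-- for flat `N`, elements outside `p` are nonzerodivisors on `N/pN` -/
theorem mem_smul_top_of_smul_mem_of_flat {M : Type u} [AddCommGroup M] [Module R M]
    [Module.Flat R M] {r : R} (hr : r ∉ p) (n : M)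
    (h : r • n ∈ p • (⊤ : Submodule R M)) : n ∈ p • (⊤ : Submodule R M) := by
  let f : (R ⧸ p) →ₗ[R] (R ⧸ p) := LinearMap.lsmul R (R ⧸ p) r
  have hf : Function.Injective f := by
    rw [injective_iff_map_eq_zero]
    intro a ha
    obtain ⟨a, rfl⟩ := Ideal.Quotient.mk_surjective a
    have h1 : Ideal.Quotient.mk p (r * a) = 0 := by
      rw [map_mul]; exact ha
    rw [Ideal.Quotient.eq_zero_iff_mem] at h1 ⊢
    rcases Ideal.IsPrime.mem_or_mem inferInstance h1 with h2 | h2
    · exact absurd h2 hr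
    · exact h2
  have hinj := Module.Flat.lTensor_preserves_injective_linearMap (M := M) f hf
  have e1 : TensorProduct.tensorQuotEquivQuotSMul M p
      (f.lTensor M (n ⊗ₜ[R] (1 : R ⧸ p))) = 0 := by
    rw [LinearMap.lTensor_tmul]
    have : f 1 = Ideal.Quotient.mk p r := by
      simp [f, Algebra.smul_def]
    rw [this, TensorProduct.tensorQuotEquivQuotSMul_tmul_mk, Submodule.Quotient.mk_eq_zero]
    exact h
  have e2 : f.lTensor M (n ⊗ₜ[R] (1 : R ⧸ p)) = 0 := by
    rwa [LinearEquiv.map_eq_zero_iff] at e1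
  have e3 : n ⊗ₜ[R] (1 : R ⧸ p) = 0 := by
    rw [← map_zero (f.lTensor M)] at e2
    exact hinj e2
  have e4 := congrArg (TensorProduct.tensorQuotEquivQuotSMul M p) e3
  rw [← map_one (Ideal.Quotient.mk p), TensorProduct.tensorQuotEquivQuotSMul_tmul_mk, one_smul,
    map_zero, Submodule.Quotient.mk_eq_zero] at e4
  exact e4

/-- for `N` flat over `R` the associated primes of `N/pN` lie over `p` -/
theorem comap_eq_of_mem_ass_quotient_of_flat [Module.Flat R N] (q : Ideal S)
    (h : q ∈ FlatCA.ass S (N ⧸ (p.map (algebraMap R S)) • (⊤ : Submodule S N))) :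
    q.comap (algebraMap R S) = p := by
  rw [mem_ass_iff] at h
  obtain ⟨hp, m, hm⟩ := h
  obtain ⟨x, rfl⟩ := Submodule.Quotient.mk_surjective _ m
  ext r
  rw [Ideal.mem_comap, hm, quotient_smul_eq_zero_iff]
  constructor
  · intro h1
    by_contra hr
    rw [mem_map_smul_top_iff, algebraMap_smul] at h1
    have h2 := mem_smul_top_of_smul_mem_of_flat p hr x h1
    rw [← mem_map_smul_top_iff (S := S)] at h2
    have h3 : (1 : S) ∈ q := by
      rw [hm, quotient_smul_eq_zero_iff, one_smul]
      exact h2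
    exact hp.ne_top ((Ideal.eq_top_iff_one q).2 h3)
  · intro hr
    exact Submodule.smul_mem_smul (Ideal.mem_map_of_mem _ hr) Submodule.mem_top

/-- `A = A_fin` for flat `N` -/
theorem ass_quotient_eq_ass_fiberMod_of_flat [Module.Flat R N] :
    FlatCA.ass S (N ⧸ (p.map (algebraMap R S)) • (⊤ : Submodule S N)) =
      FlatCA.ass S (FlatCA.fiberMod p S N) := by
  apply Set.Subset.antisymm
  · intro q hq
    have : q.IsPrime := hq.1
    exact mem_ass_fiberMod_of_mem_ass_quotient p N q
      (comap_eq_of_mem_ass_quotient_of_flat p N q hq) hq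
  · intro q h
    rw [ass_eq_of_linearEquiv (fiberModEquiv p N)] at h
    rw [mem_ass_iff] at h ⊢
    obtain ⟨hp, z, hz⟩ := h
    obtain ⟨r₀, hr₀, x, hx⟩ := exists_smul_eq_tmul_one p N z
    have hz' : ∀ s, s ∈ q ↔ s • (x ⊗ₜ[R] (1 : p.ResidueField)) = 0 := by
      intro s
      rw [← hx, smul_smul_eq_zero_iff p N hr₀]
      exact hz s
    refine ⟨hp, Submodule.Quotient.mk x, fun s => ?_⟩
    rw [hz', smul_tmul_one_eq_zero_iff, quotient_smul_eq_zero_iff]
    constructor
    · rintro ⟨r, hr, h1⟩
      rw [mem_map_smul_top_iff, mul_smul, algebraMap_smul] at h1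
      rw [mem_map_smul_top_iff]
      exact mem_smul_top_of_smul_mem_of_flat p hr _ h1
    · intro h1
      refine ⟨1, fun h1 => (Ideal.ne_top_iff_one p).1 (Ideal.IsPrime.ne_top inferInstance) h1, ?_⟩
      rwa [map_one, one_mul]

end overS


section tensorFG

variable {R S : Type u} [CommRing R] [CommRing S] [Algebra R S]
  (N : Type u) [AddCommGroup N] [Module S N] [Module R N] [IsScalarTower R S N]
  (M : Type u) [AddCommGroup M] [Module R M]

/-- `S`-linear version of `lTensor N f` -/
noncomputable abbrev lT {M₁ M₂ : Type u} [AddCommGroup M₁] [Module R M₁] [AddCommGroup M₂]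
    [Module R M₂] (f : M₁ →ₗ[R] M₂) : N ⊗[R] M₁ →ₗ[S] N ⊗[R] M₂ :=
  TensorProduct.AlgebraTensorModule.lTensor S N f

omit [Module S N] [IsScalarTower R S N] [Algebra R S] in
/-- an element vanishing in `N ⊗ M` vanishes in `N ⊗ M₂` for a bigger f.g. submodule `M₂` -/
theorem exists_fg_lTensor_inclusion_eq_zero {M₁ : Submodule R M} (h₁ : M₁.FG) (t : N ⊗[R] M₁)
    (ht : M₁.subtype.lTensor N t = 0) :
    ∃ M₂ : Submodule R M, M₂.FG ∧ ∃ h : M₁ ≤ M₂, (Submodule.inclusion h).lTensor N t = 0 := by
  have h0 : M₁.subtype.rTensor N (TensorProduct.comm R N M₁ t) =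
      M₁.subtype.rTensor N 0 := by
    rw [LinearMap.rTensor_comm, ht, map_zero, map_zero]
  obtain ⟨M₂, h₂, h, e⟩ := h₁.exists_rTensor_fg_inclusion_eq h0
  refine ⟨M₂, h₂, h, ?_⟩
  rw [map_zero, LinearMap.rTensor_comm] at e
  exact (LinearEquiv.map_eq_zero_iff _).1 e

omit [Module S N] [IsScalarTower R S N] [Algebra R S] in
/-- finitely many elements vanishing in `N ⊗ M` vanish in `N ⊗ M'` for a bigger f.g. `M'` -/
theorem exists_fg_lTensor_inclusion_eq_zero_finset {M₀ : Submodule R M} (h₀ : M₀.FG)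
    (T : Finset (N ⊗[R] M₀)) (hT : ∀ t ∈ T, M₀.subtype.lTensor N t = 0) :
    ∃ M' : Submodule R M, M'.FG ∧ ∃ h : M₀ ≤ M',
      ∀ t ∈ T, (Submodule.inclusion h).lTensor N t = 0 := by
  classical
  induction T using Finset.induction_on with
  | empty => exact ⟨M₀, h₀, le_rfl, fun t ht => absurd ht (Finset.notMem_empty t)⟩
  | insert a T _ ih =>
    obtain ⟨M₁, h₁, h01, hk⟩ := ih (fun t ht => hT t (Finset.mem_insert_of_mem ht))
    have ha : M₁.subtype.lTensor N ((Submodule.inclusion h01).lTensor N a) = 0 := by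
      rw [← LinearMap.comp_apply, ← LinearMap.lTensor_comp]
      exact hT a (Finset.mem_insert_self a T)
    obtain ⟨M₂, h₂, h12, e⟩ := exists_fg_lTensor_inclusion_eq_zero N M h₁ _ ha
    refine ⟨M₂, h₂, h01.trans h12, fun t ht => ?_⟩
    have hcomp : (Submodule.inclusion (h01.trans h12)).lTensor N t =
        (Submodule.inclusion h12).lTensor N ((Submodule.inclusion h01).lTensor N t) := by
      rw [← LinearMap.comp_apply, ← LinearMap.lTensor_comp]
      rfl
    rw [hcomp]
    rcases Finset.mem_insert.1 ht with rfl | ht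
    · exact e
    · rw [hk t ht, map_zero]

/-- `B = B_fin` for flat `N` -/
theorem exists_fg_mem_ass_tensor_of_flat [Module.Flat R N] (q : Ideal S)
    (h : q ∈ FlatCA.ass S (N ⊗[R] M)) :
    ∃ M' : Submodule R M, M'.FG ∧ q ∈ FlatCA.ass S (N ⊗[R] ↥M') := by
  rw [mem_ass_iff] at h
  obtain ⟨hp, z, hz⟩ := h
  obtain ⟨M', hfin, hM'⟩ := TensorProduct.exists_finite_submodule_right_of_setFinite {z}
    (Set.finite_singleton z)
  obtain ⟨z', hz'⟩ := hM' (Set.mem_singleton z)
  refine ⟨M', Module.Finite.iff_fg.1 hfin, ?_⟩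
  rw [mem_ass_iff]
  refine ⟨hp, z', fun s => ?_⟩
  have hinj : Function.Injective (lT (S := S) N M'.subtype) :=
    Module.Flat.lTensor_preserves_injective_linearMap (M := N) M'.subtype M'.injective_subtype
  have e : lT (S := S) N M'.subtype z' = z := hz'
  rw [hz s, ← e, ← map_smul, ← map_zero (lT (S := S) N M'.subtype), hinj.eq_iff]

/-- `B = B_fin` for Noetherian `S` -/
theorem exists_fg_mem_ass_tensor_of_isNoetherianRing [IsNoetherianRing S] (q : Ideal S)
    (h : q ∈ FlatCA.ass S (N ⊗[R] M)) :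
    ∃ M' : Submodule R M, M'.FG ∧ q ∈ FlatCA.ass S (N ⊗[R] ↥M') := by
  classical
  rw [mem_ass_iff] at h
  obtain ⟨hp, z, hz⟩ := h
  obtain ⟨M₀, hfin, hM₀⟩ := TensorProduct.exists_finite_submodule_right_of_setFinite {z}
    (Set.finite_singleton z)
  obtain ⟨z₀, hz₀⟩ := hM₀ (Set.mem_singleton z)
  have e₀ : lT (S := S) N M₀.subtype z₀ = z := hz₀
  obtain ⟨G, hG⟩ := (isNoetherianRing_iff_ideal_fg S).1 inferInstance q
  obtain ⟨M', hM', h0, hk⟩ := exists_fg_lTensor_inclusion_eq_zero_finset N M
    (Module.Finite.iff_fg.1 hfin) (G.image fun g => g • z₀) (by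
      intro t ht
      obtain ⟨g, hg, rfl⟩ := Finset.mem_image.1 ht
      change lT (S := S) N M₀.subtype (g • z₀) = 0
      rw [map_smul, e₀, ← hz]
      exact hG ▸ Ideal.subset_span hg)
  refine ⟨M', hM', ?_⟩
  rw [mem_ass_iff]
  refine ⟨hp, lT (S := S) N (Submodule.inclusion h0) z₀, fun s => ?_⟩
  constructor
  · intro hs
    rw [← hG] at hs
    refine Submodule.span_induction (p := fun s _ =>
      s • lT (S := S) N (Submodule.inclusion h0) z₀ = 0) ?_ ?_ ?_ ?_ hs
    · intro g hg
      rw [← map_smul]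
      exact hk _ (Finset.mem_image_of_mem _ hg)
    · rw [zero_smul]
    · intro a b _ _ ha hb
      rw [add_smul, ha, hb, add_zero]
    · intro c a _ ha
      rw [smul_eq_mul, mul_smul, ha, smul_zero]
  · intro hs
    rw [hz, ← e₀]
    have hcomp : lT (S := S) N M₀.subtype z₀ =
        lT (S := S) N M'.subtype (lT (S := S) N (Submodule.inclusion h0) z₀) := by
      change M₀.subtype.lTensor N z₀ = M'.subtype.lTensor N ((Submodule.inclusion h0).lTensor N z₀)
      rw [← LinearMap.comp_apply, ← LinearMap.lTensor_comp]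
      rfl
    rw [hcomp, ← map_smul, hs, map_zero]


/-- over a Noetherian base and for flat `N`, associated primes of `N ⊗ M` (`M` finite) are
associated primes of some `N/p'N` -/
theorem exists_prime_mem_ass_quotient_of_mem_ass_tensor [IsNoetherianRing R] [Module.Flat R N]
    [hM : Module.Finite R M] (q : Ideal S) (h : q ∈ FlatCA.ass S (N ⊗[R] M)) :
    ∃ p' : Ideal R, p'.IsPrime ∧
      q ∈ FlatCA.ass S (N ⧸ (p'.map (algebraMap R S)) • (⊤ : Submodule S N)) := by
  revert q
  induction hM using IsNoetherianRing.induction_on_isQuotientEquivQuotientPrime R with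
  | subsingleton M =>
    intro q h
    rw [mem_ass_iff] at h
    obtain ⟨hp, z, hz⟩ := h
    exfalso
    have h1 : (1 : S) ∈ q := by
      rw [hz, Subsingleton.elim z 0, smul_zero]
    exact hp.ne_top ((Ideal.eq_top_iff_one q).2 h1)
  | quotient M p' e =>
    intro q h
    have := p'.2
    refine ⟨p'.1, p'.2, ?_⟩
    rw [ass_eq_of_linearEquiv
      (TensorProduct.AlgebraTensorModule.congr (LinearEquiv.refl S N) e)] at h
    rw [mem_ass_iff] at h ⊢
    have hsurj : ∀ z : N ⊗[R] (R ⧸ p'.1), ∃ x : N, x ⊗ₜ[R] (1 : R ⧸ p'.1) = z := by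
      intro z
      induction z using TensorProduct.induction_on with
      | zero => exact ⟨0, by simp⟩
      | tmul n a =>
        obtain ⟨a, rfl⟩ := Ideal.Quotient.mk_surjective a
        refine ⟨a • n, ?_⟩
        rw [TensorProduct.smul_tmul, ← Ideal.Quotient.algebraMap_eq, Algebra.algebraMap_eq_smul_one]
      | add z₁ z₂ h₁ h₂ =>
        obtain ⟨x₁, rfl⟩ := h₁
        obtain ⟨x₂, rfl⟩ := h₂
        exact ⟨x₁ + x₂, TensorProduct.add_tmul _ _ _⟩
    obtain ⟨hp, z, hz⟩ := h
    obtain ⟨x, rfl⟩ := hsurj z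
    refine ⟨hp, Submodule.Quotient.mk x, fun s => ?_⟩
    rw [hz, quotient_smul_eq_zero_iff, mem_map_smul_top_iff, TensorProduct.smul_tmul',
      ← (TensorProduct.tensorQuotEquivQuotSMul N p'.1).map_eq_zero_iff,
      ← map_one (Ideal.Quotient.mk p'.1), TensorProduct.tensorQuotEquivQuotSMul_tmul_mk, one_smul,
      Submodule.Quotient.mk_eq_zero]
  | exact M₁ M₂ M₃ f g hf hg hfg h₁ h₃ =>
    intro q h
    have hinj : Function.Injective (lT (S := S) N f) :=
      Module.Flat.lTensor_preserves_injective_linearMap (M := N) f hf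
    have hex : Function.Exact (lT (S := S) N f) (lT (S := S) N g) := lTensor_exact N hfg hg
    rcases ass_subset_union_of_exact (lT (S := S) N f) (lT (S := S) N g) hinj hex h with h | h
    · exact h₁ q h
    · exact h₃ q h

/-- `B_fin ⊆ A_fin` -/
theorem mem_ass_quotient_of_mem_ass_tensor [IsNoetherianRing R] [Module.Flat R N]
    [Module.Finite R M] (p : Ideal R) (q : Ideal S) (hq : q.comap (algebraMap R S) = p)
    (h : q ∈ FlatCA.ass S (N ⊗[R] M)) :
    q ∈ FlatCA.ass S (N ⧸ (p.map (algebraMap R S)) • (⊤ : Submodule S N)) := by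
  obtain ⟨p', hp', h'⟩ := exists_prime_mem_ass_quotient_of_mem_ass_tensor N M q h
  have := comap_eq_of_mem_ass_quotient_of_flat p' N q h'
  rw [hq] at this
  subst this
  exact h'

end tensorFG


section fiberPrimes

variable {R S : Type u} [CommRing R] [CommRing S] [Algebra R S] (p : Ideal R) [p.IsPrime]
  (N : Type u) [AddCommGroup N] [Module S N] [Module R N] [IsScalarTower R S N]

attribute [local instance] Algebra.TensorProduct.rightAlgebra

/-- the `S`-action on the fibre module is through `S → κ(p) ⊗ S` -/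
theorem includeRight_smul (s : S) (m : FlatCA.fiberMod p S N) :
    ((Algebra.TensorProduct.includeRight (R := R) (A := p.ResidueField) (B := S) s : p.Fiber S)) • m
      = s • m := by
  change (algebraMap S (p.Fiber S) s) • (show (p.Fiber S) ⊗[S] N from m) = s • (show (p.Fiber S) ⊗[S] N from m)
  exact algebraMap_smul (p.Fiber S) s _

theorem isUnit_includeRight_algebraMap {r : R} (hr : r ∉ p) :
    IsUnit ((Algebra.TensorProduct.includeRight (R := R) (A := p.ResidueField) (B := S)
      (algebraMap R S r) : p.Fiber S)) := by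
  have h1 : (Algebra.TensorProduct.includeRight (R := R) (A := p.ResidueField) (B := S)
      (algebraMap R S r) : p.Fiber S) =
      Algebra.TensorProduct.includeLeft (R := R) (S := R) (A := p.ResidueField) (B := S)
        (algebraMap R p.ResidueField r) := by
    simp only [Algebra.TensorProduct.includeRight_apply, Algebra.TensorProduct.includeLeft_apply]
    rw [Algebra.algebraMap_eq_smul_one, Algebra.algebraMap_eq_smul_one, TensorProduct.smul_tmul]
  rw [h1]
  apply IsUnit.map
  rw [isUnit_iff_ne_zero, ne_eq, Ideal.algebraMap_residueField_eq_zero]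
  exact hr

theorem smul_eq_includeRight_mul (r : R) (f : p.Fiber S) :
    r • f = (Algebra.TensorProduct.includeRight (R := R) (A := p.ResidueField) (B := S)
      (algebraMap R S r) : p.Fiber S) * f := by
  rw [Algebra.smul_def]
  congr 1
  simp only [Algebra.TensorProduct.includeRight_apply, Algebra.TensorProduct.algebraMap_apply]
  rw [Algebra.algebraMap_eq_smul_one, Algebra.algebraMap_eq_smul_one (A := S),
    TensorProduct.smul_tmul]

theorem mem_ass_fiberMod_iff (q : Ideal S) [q.IsPrime] (hq : q.comap (algebraMap R S) = p) :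
    q ∈ FlatCA.ass S (FlatCA.fiberMod p S N) ↔
      ∃ Q ∈ FlatCA.ass (p.Fiber S) (FlatCA.fiberMod p S N),
        Q.comap (Algebra.TensorProduct.includeRight (R := R) (A := p.ResidueField)
          (B := S)).toRingHom = q := by
  constructor
  · intro h
    rw [mem_ass_iff] at h
    obtain ⟨hp, m, hm⟩ := h
    refine ⟨(Submodule.span (p.Fiber S) {m}).annihilator, ⟨?_, m, rfl⟩, ?_⟩
    · -- primality
      constructor
      · intro htop
        have h1 : (1 : p.Fiber S) ∈ (Submodule.span (p.Fiber S) {m}).annihilator := by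
          rw [htop]; trivial
        rw [Submodule.mem_annihilator_span_singleton, one_smul] at h1
        have h2 : (1 : S) ∈ q := by rw [hm, h1, smul_zero]
        exact hp.ne_top ((Ideal.eq_top_iff_one q).2 h2)
      · intro f f' hff'
        rw [Submodule.mem_annihilator_span_singleton] at hff'
        obtain ⟨r, hr, s, hs⟩ := Ideal.Fiber.exists_smul_eq_one_tmul p f
        obtain ⟨r', hr', s', hs'⟩ := Ideal.Fiber.exists_smul_eq_one_tmul p f'
        rw [smul_eq_includeRight_mul] at hs hs'
        have hss' : (s * s') • m = 0 := by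
          rw [← includeRight_smul, map_mul]
          change (((1 : p.ResidueField) ⊗ₜ[R] s : p.Fiber S) * ((1 : p.ResidueField) ⊗ₜ[R] s')) • m = 0
          rw [← hs, ← hs', mul_mul_mul_comm, mul_smul, hff', smul_zero]
        rcases hp.mem_or_mem ((hm _).2 hss') with h1 | h1
        · left
          rw [Submodule.mem_annihilator_span_singleton]
          have h2 := (hm _).1 h1
          rw [← includeRight_smul] at h2
          change ((1 : p.ResidueField) ⊗ₜ[R] s : p.Fiber S) • m = 0 at h2
          rw [← hs, mul_smul] at h2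
          exact (isUnit_includeRight_algebraMap p hr).smul_eq_zero.1 h2
        · right
          rw [Submodule.mem_annihilator_span_singleton]
          have h2 := (hm _).1 h1
          rw [← includeRight_smul] at h2
          change ((1 : p.ResidueField) ⊗ₜ[R] s' : p.Fiber S) • m = 0 at h2
          rw [← hs', mul_smul] at h2
          exact (isUnit_includeRight_algebraMap p hr').smul_eq_zero.1 h2
    · ext s
      rw [Ideal.mem_comap, Submodule.mem_annihilator_span_singleton, hm]
      exact (includeRight_smul p N s m) ▸ Iff.rfl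
  · rintro ⟨Q, hQ, rfl⟩
    rw [mem_ass_iff] at hQ ⊢
    obtain ⟨hQp, m, hm⟩ := hQ
    refine ⟨inferInstance, m, fun s => ?_⟩
    rw [Ideal.mem_comap, hm]
    exact (includeRight_smul p N s m) ▸ Iff.rfl

end fiberPrimes

end Groth.Agent.Lib.Helper26.FiberAss
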