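import Groth.Prelude.Def_Models
import Groth.Agent.S2171
import Mathlib

/-!
# Numerical types: Zariski's lemma in integer form, and subgraph exclusion

For a numerical type `T` (frozen `Models.NumericalType`), the quadratic form
`quad T x = ∑ i j, a i j x i x j` is `≤ 0`, and a vector with a zero entry and `0 ≤ quad T x` is zero.
Consequently no proper set of indices carries a non-zero vector `c` with non-negative form
(`false_of_subgraph`), and for `(-2)`-indices a "null vector" criterion (`quad_nonneg_of_adj`)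
produces such vectors from (affine Dynkin) graphs.
-/

set_option autoImplicit false
open Finset Models

namespace Groth.Agent.Lib.Helper26.NumType

variable {n : ℕ} (T : NumericalType n)

/-- the intersection quadratic form -/
def quad (x : Fin n → ℤ) : ℤ := ∑ i, ∑ j, T.a i j * x i * x j

theorem quad_cast (x : Fin n → ℤ) : ((quad T x : ℤ) : ℝ) =
    dotProduct (fun i => (x i : ℝ)) ((T.a.map (Int.cast : ℤ → ℝ)).mulVec (fun i => (x i : ℝ))) := by
  simp only [quad, dotProduct, Matrix.mulVec, Matrix.map_apply]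
  push_cast
  refine Finset.sum_congr rfl (fun i _ => ?_)
  rw [Finset.mul_sum]
  refine Finset.sum_congr rfl (fun j _ => ?_)
  ring

theorem real_hyps :
    (T.a.map (Int.cast : ℤ → ℝ)).IsSymm ∧
    (∀ i j, i ≠ j → (0 : ℝ) ≤ (T.a.map (Int.cast : ℤ → ℝ)) i j) ∧
    (∀ i, (0 : ℝ) < (T.m i : ℝ)) ∧
    (T.a.map (Int.cast : ℤ → ℝ)).mulVec (fun i => (T.m i : ℝ)) = 0 ∧
    (∀ I : Finset (Fin n), I.Nonempty → I ≠ univ →
      ∃ i ∈ I, ∃ j ∉ I, (T.a.map (Int.cast : ℤ → ℝ)) i j ≠ 0) := by
  refine ⟨?_, ?_, ?_, ?_, ?_⟩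
  · ext i j
    simp only [Matrix.transpose_apply, Matrix.map_apply]
    rw [T.symm.apply]
  · intro i j hij
    simp only [Matrix.map_apply]
    exact_mod_cast T.offDiag_nonneg i j hij
  · intro i
    exact_mod_cast T.m_pos i
  · funext i
    have h := congrFun T.mulVec_m i
    simp only [Matrix.mulVec, dotProduct, Pi.zero_apply] at h
    simp only [Matrix.mulVec, dotProduct, Matrix.map_apply, Pi.zero_apply]
    exact_mod_cast h
  · intro I hI hI'
    obtain ⟨i, hi, j, hj, hij⟩ := T.connected I hI hI'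
    refine ⟨i, hi, j, hj, ?_⟩
    simp only [Matrix.map_apply]
    exact_mod_cast hij

/-- Zariski's lemma: the form is negative semi-definite. -/
theorem quad_nonpos (x : Fin n → ℤ) : quad T x ≤ 0 := by
  obtain ⟨h1, h2, h3, h4, h5⟩ := real_hyps T
  have := (Groth.Agent.S2171.result _ _ h1 h2 h3 h4 h5 (fun i => (x i : ℝ))).1
  rw [← quad_cast] at this
  exact_mod_cast this

/-- Zariski's lemma, strict part: a vector with a zero entry and non-negative form is zero. -/
theorem eq_zero_of_quad_nonneg (x : Fin n → ℤ) (k : Fin n) (hk : x k = 0) (h : 0 ≤ quad T x) :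
    x = 0 := by
  obtain ⟨h1, h2, h3, h4, h5⟩ := real_hyps T
  have hz : quad T x = 0 := le_antisymm (quad_nonpos T x) h
  have key := (Groth.Agent.S2171.result _ _ h1 h2 h3 h4 h5 (fun i => (x i : ℝ))).2
  rw [← quad_cast, hz] at key
  obtain ⟨q, hq⟩ := key.1 (by simp)
  have hqk := congrFun hq k
  simp only [Pi.smul_apply, smul_eq_mul, hk, Int.cast_zero] at hqk
  have hq0 : q = 0 := by
    rcases mul_eq_zero.1 hqk.symm with h | h
    · exact h
    · exact absurd h (h3 k).ne'
  funext i
  have hqi := congrFun hq i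
  simp only [Pi.smul_apply, smul_eq_mul, hq0, zero_mul] at hqi
  exact_mod_cast hqi

/-- the vector supported on the image of `v` with coefficients `c` -/
def supp {r : ℕ} (v : Fin r ↪ Fin n) (c : Fin r → ℤ) : Fin n → ℤ :=
  fun i => ∑ s, if v s = i then c s else 0

theorem supp_apply {r : ℕ} (v : Fin r ↪ Fin n) (c : Fin r → ℤ) (s : Fin r) :
    supp v c (v s) = c s := by
  simp only [supp, EmbeddingLike.apply_eq_iff_eq]
  rw [Finset.sum_ite_eq' univ s c]
  simp

theorem supp_of_forall_ne {r : ℕ} (v : Fin r ↪ Fin n) (c : Fin r → ℤ) (i : Fin n)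
    (h : ∀ s, v s ≠ i) : supp v c i = 0 := by
  simp only [supp]
  exact Finset.sum_eq_zero (fun s _ => by rw [if_neg (h s)])

theorem sum_mul_supp {r : ℕ} (v : Fin r ↪ Fin n) (c : Fin r → ℤ) (f : Fin n → ℤ) :
    ∑ i, f i * supp v c i = ∑ s, f (v s) * c s := by
  simp only [supp, Finset.mul_sum]
  rw [Finset.sum_comm]
  refine Finset.sum_congr rfl (fun s _ => ?_)
  simp only [mul_ite, mul_zero]
  rw [Finset.sum_ite_eq univ (v s) (fun i => f i * c s)]
  simp

theorem quad_supp {r : ℕ} (v : Fin r ↪ Fin n) (c : Fin r → ℤ) :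
    quad T (supp v c) = ∑ s, ∑ t, T.a (v s) (v t) * c s * c t := by
  have h1 : quad T (supp v c) = ∑ i, (∑ j, T.a i j * supp v c j) * supp v c i := by
    simp only [quad]
    refine Finset.sum_congr rfl (fun i _ => ?_)
    rw [Finset.sum_mul]
    refine Finset.sum_congr rfl (fun j _ => ?_)
    ring
  rw [h1, sum_mul_supp v c (fun i => ∑ j, T.a i j * supp v c j)]
  refine Finset.sum_congr rfl (fun s _ => ?_)
  rw [sum_mul_supp v c (fun j => T.a (v s) j), Finset.sum_mul]
  refine Finset.sum_congr rfl (fun t _ => ?_)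
  ring

/-- No proper set of indices supports a non-zero vector on which the form is non-negative. -/
theorem false_of_subgraph {r : ℕ} (v : Fin r ↪ Fin n) (hr : r < n) (c : Fin r → ℤ)
    (hc : ∃ s, c s ≠ 0) (h : 0 ≤ ∑ s, ∑ t, T.a (v s) (v t) * c s * c t) : False := by
  obtain ⟨k, hk⟩ : ∃ k : Fin n, ∀ s, v s ≠ k := by
    by_contra hcon
    push Not at hcon
    have hsurj : Function.Surjective v := fun k => hcon k
    have := Fintype.card_le_of_surjective v hsurj
    simp only [Fintype.card_fin] at this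
    omega
  have hx := eq_zero_of_quad_nonneg T (supp v c) k (supp_of_forall_ne v c k hk)
    (by rw [quad_supp]; exact h)
  obtain ⟨s, hs⟩ := hc
  apply hs
  rw [← supp_apply v c s, hx]
  rfl

/-- a non-zero off-diagonal entry is at least both `w`'s -/
theorem w_le_of_ne {i j : Fin n} (hij : i ≠ j) (h : T.a i j ≠ 0) :
    T.w i ≤ T.a i j ∧ T.w j ≤ T.a i j := by
  have hpos : 0 < T.a i j := lt_of_le_of_ne (T.offDiag_nonneg i j hij) (Ne.symm h)
  refine ⟨Int.le_of_dvd hpos (T.w_dvd i j), ?_⟩
  have := T.w_dvd j i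
  rw [T.symm.apply] at this
  exact Int.le_of_dvd hpos this

/-- Null-vector criterion: for `(-2)`-indices `v s` and a graph `adj` on `Fin r` all of whose edges
have non-zero intersection number, a non-negative vector `c` with `2 c_s ≤ ∑_{t ~ s} c_t` has
non-negative form. -/
theorem quad_nonneg_of_adj {r : ℕ} (v : Fin r ↪ Fin n) (hv : ∀ s, T.IsMinusTwo (v s))
    (c : Fin r → ℤ) (hc : ∀ s, 0 ≤ c s)
    (adj : Fin r → Fin r → Prop) [DecidableRel adj] (hirr : ∀ s, ¬ adj s s)
    (hadj : ∀ s t, adj s t → T.a (v s) (v t) ≠ 0)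
    (hnull : ∀ s, 2 * c s ≤ ∑ t ∈ univ.filter (adj s), c t) :
    0 ≤ ∑ s, ∑ t, T.a (v s) (v t) * c s * c t := by
  refine Finset.sum_nonneg (fun s _ => ?_)
  have hterm : ∀ t, ((if t = s then -2 * T.w (v s) * c s * c s else 0) +
      (if adj s t then T.w (v s) * c s * c t else 0)) ≤ T.a (v s) (v t) * c s * c t := by
    intro t
    by_cases hts : t = s
    · subst hts
      rw [if_pos rfl, if_neg (hirr t), (hv t).2, add_zero]
    · rw [if_neg hts, zero_add]
      have hne : v s ≠ v t := fun h => hts (v.injective h).symm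
      by_cases ha : adj s t
      · rw [if_pos ha]
        have h0 := (w_le_of_ne T hne (hadj s t ha)).1
        have h1 : 0 ≤ c s * c t := mul_nonneg (hc s) (hc t)
        nlinarith
      · rw [if_neg ha]
        have := T.offDiag_nonneg _ _ hne
        exact mul_nonneg (mul_nonneg this (hc s)) (hc t)
  have hsum : ∑ t, ((if t = s then -2 * T.w (v s) * c s * c s else 0) +
      (if adj s t then T.w (v s) * c s * c t else 0)) =
      T.w (v s) * c s * (∑ t ∈ univ.filter (adj s), c t - 2 * c s) := by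
    rw [Finset.sum_add_distrib, Finset.sum_ite_eq' univ s, ← Finset.sum_filter, mul_sub,
      Finset.mul_sum]
    simp only [Finset.mem_univ, if_true]
    ring
  calc (0 : ℤ) ≤ T.w (v s) * c s * (∑ t ∈ univ.filter (adj s), c t - 2 * c s) :=
        mul_nonneg (mul_nonneg (T.w_pos _).le (hc s)) (by linarith [hnull s])
    _ = _ := hsum.symm
    _ ≤ _ := Finset.sum_le_sum (fun t _ => hterm t)

/-- Exclusion of a graph of `(-2)`-indices carrying a null vector, on a proper index set. -/
theorem false_of_adj {r : ℕ} (v : Fin r ↪ Fin n) (hr : r < n) (hv : ∀ s, T.IsMinusTwo (v s))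
    (c : Fin r → ℤ) (hc : ∀ s, 0 ≤ c s) (hc0 : ∃ s, c s ≠ 0)
    (adj : Fin r → Fin r → Prop) [DecidableRel adj] (hirr : ∀ s, ¬ adj s s)
    (hadj : ∀ s t, adj s t → T.a (v s) (v t) ≠ 0)
    (hnull : ∀ s, 2 * c s ≤ ∑ t ∈ univ.filter (adj s), c t) : False :=
  false_of_subgraph T v hr c hc0 (quad_nonneg_of_adj T v hv c hc adj hirr hadj hnull)

/-- adjacency relation generated by a list of edges (symmetrised) -/
def adjOf {r : ℕ} (E : List (Fin r × Fin r)) (s t : Fin r) : Prop := (s, t) ∈ E ∨ (t, s) ∈ E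

instance {r : ℕ} (E : List (Fin r × Fin r)) : DecidableRel (adjOf E) := fun s t =>
  inferInstanceAs (Decidable ((s, t) ∈ E ∨ (t, s) ∈ E))

/-- Exclusion of a graph of `(-2)`-indices given by a list of edges and a null vector. -/
theorem false_of_edges {r : ℕ} (v : Fin r ↪ Fin n) (hr : r < n) (hv : ∀ s, T.IsMinusTwo (v s))
    (c : Fin r → ℤ) (E : List (Fin r × Fin r))
    (hE : ∀ e ∈ E, T.a (v e.1) (v e.2) ≠ 0) (hirr : ∀ s, ¬ adjOf E s s)
    (hc : ∀ s, 0 ≤ c s) (hc0 : ∃ s, c s ≠ 0)
    (hnull : ∀ s, 2 * c s ≤ ∑ t ∈ univ.filter (adjOf E s), c t) : False := by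
  refine false_of_adj T v hr hv c hc hc0 (adjOf E) hirr ?_ hnull
  rintro s t (h1 | h1)
  · exact hE (s, t) h1
  · rw [T.symm.apply]
    exact hE (t, s) h1

/-- row inequality: a partial row sum (off the diagonal) is bounded by the diagonal term -/
theorem row_le (i : Fin n) (S : Finset (Fin n)) (hS : i ∉ S) :
    ∑ l ∈ S, T.a i l * T.m l ≤ -(T.a i i * T.m i) := by
  classical
  have h := congrFun T.mulVec_m i
  simp only [Matrix.mulVec, dotProduct, Pi.zero_apply] at h
  rw [← Finset.sum_erase_add _ _ (Finset.mem_univ i)] at h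
  have hsub : S ⊆ univ.erase i := by
    intro l hl
    rw [Finset.mem_erase]
    exact ⟨fun hli => hS (hli ▸ hl), Finset.mem_univ _⟩
  have := Finset.sum_le_sum_of_subset_of_nonneg hsub (f := fun l => T.a i l * T.m l)
    (fun l hl _ => mul_nonneg (T.offDiag_nonneg i l (Finset.ne_of_mem_erase hl).symm)
      (T.m_pos l).le)
  linarith

theorem row_le_one {i j : Fin n} (hij : i ≠ j) : T.a i j * T.m j ≤ -(T.a i i * T.m i) := by
  have := row_le T i {j} (by simpa using hij)
  simpa using this

theorem row_le_two {i j k : Fin n} (hij : i ≠ j) (hik : i ≠ k) (hjk : j ≠ k) :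
    T.a i j * T.m j + T.a i k * T.m k ≤ -(T.a i i * T.m i) := by
  have := row_le T i {j, k} (by simp [hij, hik])
  rwa [Finset.sum_pair hjk] at this

/-- three distinct indices as an embedding of `Fin 3` -/
def emb3 {i j k : Fin n} (hij : i ≠ j) (hjk : j ≠ k) (hik : i ≠ k) : Fin 3 ↪ Fin n :=
  ⟨![i, j, k], by
    intro a b h
    fin_cases a <;> fin_cases b <;> simp_all [Ne.symm]⟩

/-- On three distinct indices (a proper subset, `3 < n`) the form is negative definite. -/
theorem false_of_three {i j k : Fin n} (hij : i ≠ j) (hjk : j ≠ k) (hik : i ≠ k) (hn : 3 < n)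
    (x y z : ℤ) (hne : x ≠ 0 ∨ y ≠ 0 ∨ z ≠ 0)
    (h : 0 ≤ T.a i i * x ^ 2 + T.a j j * y ^ 2 + T.a k k * z ^ 2 + 2 * T.a i j * x * y +
      2 * T.a j k * y * z + 2 * T.a i k * x * z) : False := by
  refine false_of_subgraph T (emb3 hij hjk hik) hn ![x, y, z] ?_ ?_
  · rcases hne with h' | h' | h'
    · exact ⟨0, h'⟩
    · exact ⟨1, h'⟩
    · exact ⟨2, h'⟩
  · have hsum : ∑ s, ∑ t, T.a (emb3 hij hjk hik s) (emb3 hij hjk hik t) * ![x, y, z] s * ![x, y, z] t =
        (T.a i i * x * x + T.a i j * x * y + T.a i k * x * z) +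
        (T.a j i * y * x + T.a j j * y * y + T.a j k * y * z) +
        (T.a k i * z * x + T.a k j * z * y + T.a k k * z * z) := by
      simp only [Fin.sum_univ_three]
      rfl
    rw [hsum, T.symm.apply i j, T.symm.apply j k, T.symm.apply i k]
    nlinarith [h]

/-- On two distinct indices (a proper subset, `2 < n`) the form is negative definite. -/
theorem false_of_two {i j : Fin n} (hij : i ≠ j) (hn : 2 < n)
    (x y : ℤ) (hne : x ≠ 0 ∨ y ≠ 0)
    (h : 0 ≤ T.a i i * x ^ 2 + T.a j j * y ^ 2 + 2 * T.a i j * x * y) : False := by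
  let v : Fin 2 ↪ Fin n := ⟨![i, j], by
    intro a b h
    fin_cases a <;> fin_cases b <;> simp_all [Ne.symm]⟩
  refine false_of_subgraph T v hn ![x, y] ?_ ?_
  · rcases hne with h' | h'
    · exact ⟨0, h'⟩
    · exact ⟨1, h'⟩
  · have hsum : ∑ s, ∑ t, T.a (v s) (v t) * ![x, y] s * ![x, y] t =
        (T.a i i * x * x + T.a i j * x * y) + (T.a j i * y * x + T.a j j * y * y) := by
      simp only [Fin.sum_univ_two]
      rfl
    rw [hsum, T.symm.apply i j]
    nlinarith [h]

end Groth.Agent.Lib.Helper26.NumType
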