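import Mathlib
import Groth.Agent.Lib.Helper10.FlatPt3
import Groth.Agent.Lib.Helper14.FibDimComp
import Groth.Agent.Lib.Helper14.LqfDim0
import Groth.Agent.Lib.Helper20.HM26
import Groth.Agent.Lib.Helper21.EquiDim1
import Groth.Agent.Lib.Helper10.OrbitDim2
import Groth.Agent.Lib.Helper18.CatFlat

set_option autoImplicit false
universe u
open AlgebraicGeometry CategoryTheory CategoryTheory.Limits

namespace Groth.Agent.Lib.Helper26.AbIsogA

/-- local dimension of an irreducible scheme locally of finite type over a field -/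
theorem localDim_eq_of_irreducible (k : Type u) [Field k] {X : Scheme.{u}}
    (p : X ⟶ Spec (CommRingCat.of k)) [LocallyOfFiniteType p] [IrreducibleSpace X] (x : X) :
    FlatMor.localDim X x = topologicalKrullDim X := by
  letI : X.Over (Spec (CommRingCat.of k)) := ⟨p⟩
  haveI : LocallyOfFiniteType (X ↘ Spec (CommRingCat.of k)) := ‹LocallyOfFiniteType p›
  refine Groth.Agent.Lib.Helper21.EquiDim.localDim_eq_of_equidim k X _ ?_ x
  intro Z hZ
  rw [irreducibleComponents_eq_singleton] at hZ
  rw [Set.mem_singleton_iff] at hZ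
  subst hZ
  exact (Homeomorph.Set.univ X).isHomeomorph.topologicalKrullDim_eq

/-- a flat morphism between irreducible schemes of finite type over a field of the same
dimension is locally quasi-finite -/
theorem locallyQuasiFinite_of_flat (k : Type u) [Field k] {X Y : Scheme.{u}}
    (p : X ⟶ Spec (CommRingCat.of k)) (q : Y ⟶ Spec (CommRingCat.of k))
    [LocallyOfFiniteType p] [LocallyOfFiniteType q] [QuasiCompact q]
    [IrreducibleSpace X] [IrreducibleSpace Y] (f : X ⟶ Y) (hw : f ≫ q = p) [Flat f]
    (hdim : topologicalKrullDim X = topologicalKrullDim Y) : LocallyQuasiFinite f := by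
  haveI : Subsingleton ↥(Spec (CommRingCat.of k)) :=
    inferInstanceAs (Subsingleton (PrimeSpectrum k))
  haveI : LocallyOfFiniteType (f ≫ q) := by rw [hw]; infer_instance
  haveI : LocallyOfFiniteType f := locallyOfFiniteType_of_comp f q
  rw [Groth.Agent.Lib.Helper14.AS.locallyQuasiFinite_iff_fibreDimAt_eq_zero]
  intro x
  have hflat : (f.stalkMap x).hom.Flat := (Flat.iff_flat_stalkMap f).1 inferInstance x
  have h1 := Groth.Agent.Lib.Helper14.AS.fibreDimAt_comp_eq f q x hflat
  rw [Groth.Agent.Lib.Helper20.HM.fibreDimAt_eq_localDim_of_subsingleton,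
    Groth.Agent.Lib.Helper20.HM.fibreDimAt_eq_localDim_of_subsingleton q] at h1
  haveI : LocallyOfFiniteType (f ≫ q) := by rw [hw]; infer_instance
  rw [localDim_eq_of_irreducible k (f ≫ q), localDim_eq_of_irreducible k q, hdim] at h1
  have hlt : topologicalKrullDim Y < ⊤ := Groth.Agent.Lib.Helper10.OrbitDim.dim_lt_top q
  have hne : topologicalKrullDim Y ≠ ⊥ := by
    intro h
    rw [topologicalKrullDim, Order.krullDim_eq_bot_iff] at h
    exact h.false ⟨Set.univ, (irreducibleSpace_def Y).1 inferInstance, isClosed_univ⟩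
  -- dim Y = n natural
  obtain ⟨n, hn⟩ : ∃ n : ℕ, topologicalKrullDim Y = (n : WithBot ℕ∞) := by
    cases hY : topologicalKrullDim Y with
    | bot => exact absurd hY hne
    | coe m =>
      cases m with
      | top => rw [hY] at hlt; exact absurd hlt (lt_irrefl _)
      | coe n => exact ⟨n, rfl⟩
  rw [hn] at h1
  have h2 : (0 : WithBot ℕ∞) + ((n : ℕ∞) : WithBot ℕ∞) =
      FlatMor.fibreDimAt f x + ((n : ℕ∞) : WithBot ℕ∞) := by
    rw [zero_add]
    exact h1
  exact (Groth.Agent.Lib.Helper18.CatFlat.withBot_enat_add_right_cancel (ENat.natCast_ne_top n) h2).symm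

open MonObj in
theorem main_19572 (k : Type u) [Field k]
    (X Y : Over (Spec (CommRingCat.of k)))
    [GrpObj X] [IsProper X.hom] [GeometricallyIntegral X.hom]
    [GrpObj Y] [IsProper Y.hom] [GeometricallyIntegral Y.hom]
    (f : X ⟶ Y) [IsMonHom f] [Surjective f.left]
    (hdim : topologicalKrullDim X.left = topologicalKrullDim Y.left) :
    IsFinite f.left ∧ Flat f.left := by
  haveI : Subsingleton ↥(Spec (CommRingCat.of k)) :=
    inferInstanceAs (Subsingleton (PrimeSpectrum k))
  haveI : IsIntegral X.left := GeometricallyIntegral.isIntegral_of_subsingleton X.hom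
  haveI : IsIntegral Y.left := GeometricallyIntegral.isIntegral_of_subsingleton Y.hom
  have hw : f.left ≫ Y.hom = X.hom := Over.w f
  haveI : IsProper (f.left ≫ Y.hom) := by rw [hw]; infer_instance
  haveI : IsProper f.left := IsProper.of_comp f.left Y.hom
  have hflat : Flat f.left :=
    Groth.Agent.Lib.Helper10.FlatPt.flat_of_dominant_reduced f
      (Function.Surjective.denseRange (Surjective.surj (f := f.left)))
  haveI := hflat
  haveI : LocallyQuasiFinite f.left :=
    locallyQuasiFinite_of_flat k X.hom Y.hom f.left hw hdim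
  exact ⟨IsFinite.of_isProper_of_locallyQuasiFinite f.left, hflat⟩

end Groth.Agent.Lib.Helper26.AbIsogA
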