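import Mathlib
import Groth.Agent.Lib.Helper18.SchDim1

set_option autoImplicit false
universe u

open CategoryTheory AlgebraicGeometry TopologicalSpace

namespace Groth.Agent.Lib.Helper26.SteinA

open Groth.Agent.Lib.Helper18.SchDim

/-- incomparability for integral morphisms -/
theorem eq_of_specializes_of_integral {Y' Y : Scheme.{u}} (g : Y' ⟶ Y) [IsIntegralHom g]
    {z₁ z₂ : Y'} (h : z₁ ⤳ z₂) (hg : g z₁ = g z₂) : z₁ = z₂ := by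
  obtain ⟨_, ⟨V, hV, rfl⟩, hxV, -⟩ :=
    Y.isBasis_affineOpens.exists_subset_of_mem_open (Set.mem_univ (g z₂)) isOpen_univ
  have hW : IsAffineOpen (g ⁻¹ᵁ V) := hV.preimage g
  have h2 : z₂ ∈ g ⁻¹ᵁ V := hxV
  have h1 : z₁ ∈ g ⁻¹ᵁ V := h.mem_open (g ⁻¹ᵁ V).2 h2
  letI : Algebra Γ(Y, V) Γ(Y', g ⁻¹ᵁ V) := (g.appLE V (g ⁻¹ᵁ V) le_rfl).hom.toAlgebra
  haveI : Algebra.IsIntegral Γ(Y, V) Γ(Y', g ⁻¹ᵁ V) := by
    have := g.isIntegral_app V hV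
    rw [Scheme.Hom.app_eq_appLE] at this
    exact ⟨this⟩
  have hle : hW.primeIdealOf ⟨z₁, h1⟩ ≤ hW.primeIdealOf ⟨z₂, h2⟩ := by
    rw [PrimeSpectrum.le_iff_specializes]
    have hs : (⟨z₁, h1⟩ : (g ⁻¹ᵁ V : Y'.Opens)) ⤳ ⟨z₂, h2⟩ :=
      (subtype_specializes_iff _ _).mpr h
    exact hs.map hW.isoSpec.hom.continuous
  have c1 := comap_primeIdealOf g hW hV le_rfl z₁ h1
  have c2 := comap_primeIdealOf g hW hV le_rfl z₂ h2
  have hc : (hW.primeIdealOf ⟨z₁, h1⟩).asIdeal.comap (algebraMap Γ(Y, V) Γ(Y', g ⁻¹ᵁ V)) =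
      (hW.primeIdealOf ⟨z₂, h2⟩).asIdeal.comap (algebraMap Γ(Y, V) Γ(Y', g ⁻¹ᵁ V)) := by
    rw [show algebraMap Γ(Y, V) Γ(Y', g ⁻¹ᵁ V) = (g.appLE V (g ⁻¹ᵁ V) le_rfl).hom from rfl, c1, c2]
    congr 2
    exact Subtype.ext hg
  have heq : hW.primeIdealOf ⟨z₁, h1⟩ = hW.primeIdealOf ⟨z₂, h2⟩ := by
    by_contra hne
    have hlt : (hW.primeIdealOf ⟨z₁, h1⟩).asIdeal < (hW.primeIdealOf ⟨z₂, h2⟩).asIdeal :=
      lt_of_le_of_ne hle (fun h' => hne (PrimeSpectrum.ext h'))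
    have := Ideal.IsIntegral.comap_lt_comap (R := Γ(Y, V)) hlt
    rw [hc] at this
    exact lt_irrefl _ this
  have h5 := congrArg hW.fromSpec heq
  rw [hW.fromSpec_primeIdealOf, hW.fromSpec_primeIdealOf] at h5
  exact h5

end Groth.Agent.Lib.Helper26.SteinA
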