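import Mathlib

set_option autoImplicit false
universe u

open CategoryTheory AlgebraicGeometry TopologicalSpace

namespace Groth.Agent.Lib.Helper26.SteinB

theorem exists_open_inter_eq_singleton {T : Type*} [TopologicalSpace T] [QuasiSober T]
    (S : Set T) [NoetherianSpace S]
    (hgen : ∀ η : T, η ∈ closure S → (∃ z ∈ S, η ⤳ z) → η ∈ S)
    (hanti : ∀ z₁ ∈ S, ∀ z₂ ∈ S, z₁ ⤳ z₂ → z₁ = z₂) (s : T) (hs : s ∈ S) :
    ∃ W : Set T, IsOpen W ∧ W ∩ S = {s} := by
  have hfin : S.Finite := by
    have h1 := NoetherianSpace.finite_irreducibleComponents (α := S)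
    have h2 : ∀ Z ∈ irreducibleComponents S, Z.Subsingleton := by
      intro Z hZ
      have hirr : IsIrreducible Z := hZ.1
      have hirr' : IsIrreducible (closure (Subtype.val '' Z)) :=
        (hirr.image _ continuous_subtype_val.continuousOn).closure
      obtain ⟨η, hη⟩ := QuasiSober.sober hirr' isClosed_closure
      have hηS : η ∈ S := by
        apply hgen
        · have : η ∈ closure (Subtype.val '' Z) := hη.mem
          exact closure_mono (Subtype.coe_image_subset S Z) this
        · obtain ⟨z, hz⟩ := hirr.nonempty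
          exact ⟨z.1, z.2, hη.specializes (subset_closure ⟨z, hz, rfl⟩)⟩
      intro a ha b hb
      have ea : η = a.1 := hanti η hηS a.1 a.2 (hη.specializes (subset_closure ⟨a, ha, rfl⟩))
      have eb : η = b.1 := hanti η hηS b.1 b.2 (hη.specializes (subset_closure ⟨b, hb, rfl⟩))
      exact Subtype.ext (ea.symm.trans eb)
    have h3 : (Set.univ : Set S).Finite := by
      rw [← sUnion_irreducibleComponents]
      exact h1.sUnion fun Z hZ => (h2 Z hZ).finite
    exact Set.finite_coe_iff.mp (Set.finite_univ_iff.mp h3)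
  have hsep : ∀ z ∈ S, z ≠ s → ∃ W : Set T, IsOpen W ∧ s ∈ W ∧ z ∉ W := by
    intro z hz hne
    by_contra hcon
    push_neg at hcon
    exact hne (hanti z hz s hs (specializes_iff_forall_open.mpr fun W hW hsW => hcon W hW hsW))
  choose! Wf hWo hWs hWz using hsep
  refine ⟨⋂ z ∈ (S \ {s}), Wf z, ?_, ?_⟩
  · exact (hfin.subset Set.diff_subset).isOpen_biInter fun z hz => hWo z hz.1 hz.2
  · ext t; constructor
    · rintro ⟨ht, htS⟩
      by_contra hts
      have := Set.mem_iInter₂.mp ht t ⟨htS, hts⟩
      exact hWz t htS hts this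
    · rintro rfl
      exact ⟨Set.mem_iInter₂.mpr fun z hz => hWs z hz.1 hz.2, hs⟩

end Groth.Agent.Lib.Helper26.SteinB
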