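import Mathlib
import Groth.Agent.Lib.Helper26.SteinA
import Groth.Agent.Lib.Helper26.SteinB

set_option autoImplicit false
universe u

open CategoryTheory AlgebraicGeometry TopologicalSpace

namespace Groth.Agent.Lib.Helper26.SteinC

open Groth.Agent.Lib.Helper26

theorem noetherianSpace_fibre {X Y : Scheme.{u}} (f : X ⟶ Y) [LocallyOfFiniteType f] [QuasiCompact f]
    (y : Y) : NoetherianSpace (f.fiber y) := by
  have : LocallyOfFiniteType (f.fiberToSpecResidueField y) :=
    MorphismProperty.pullback_snd _ _ inferInstance
  have : IsLocallyNoetherian (f.fiber y) :=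
    LocallyOfFiniteType.isLocallyNoetherian (f.fiberToSpecResidueField y)
  have : IsNoetherian (f.fiber y) := ⟨⟩
  infer_instance

theorem quasiFiniteAt_of_preimage_eq {X Y : Scheme.{u}} (f : X ⟶ Y) [IsProper f] (x : X)
    (hx : f.toNormalization.base ⁻¹' {f.toNormalization.base x} = {x}) : f.QuasiFiniteAt x := by
  set f' := f.toNormalization with hf'
  set g := f.fromNormalization with hg
  have hfg : f' ≫ g = f := f.toNormalization_fromNormalization
  have hsurj : Function.Surjective f'.base := f'.surjective
  have hpt : ∀ p : X, g (f' p) = f p := fun p => by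
    rw [← Scheme.Hom.comp_apply, hfg]
  set y := f x with hy
  set S : Set f.normalization := g.base ⁻¹' {y} with hS
  have hSr : S = Set.range (f.fiberι y ≫ f').base := by
    ext z
    constructor
    · intro hz
      obtain ⟨p, rfl⟩ := hsurj z
      have hp : p ∈ f ⁻¹' {y} := by
        show f p = y
        rw [← hpt]; exact hz
      rw [← f.range_fiberι y] at hp
      obtain ⟨q, rfl⟩ := hp
      exact ⟨q, rfl⟩
    · rintro ⟨q, rfl⟩
      show g (f' (f.fiberι y q)) = y
      have h1 : f (f.fiberι y q) = y := by
        have : f.fiberι y q ∈ Set.range (f.fiberι y) := ⟨q, rfl⟩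
        rw [f.range_fiberι y] at this
        exact this
      rw [hpt, h1]
  haveI := noetherianSpace_fibre f y
  haveI : NoetherianSpace S := by
    rw [hSr]
    exact NoetherianSpace.range _ (f.fiberι y ≫ f').base.hom.continuous
  obtain ⟨W, hWo, hWS⟩ := SteinB.exists_open_inter_eq_singleton S
    (by
      rintro η hη ⟨z, hz, hηz⟩
      have h1 : g η ⤳ y := by
        have := hηz.map g.base.hom.continuous
        rwa [show g z = y from hz] at this
      have h2 : y ⤳ g η := by
        rw [specializes_iff_mem_closure]
        have hcl : closure S ⊆ g.base ⁻¹' closure {y} :=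
          closure_minimal (Set.preimage_mono subset_closure)
            (isClosed_closure.preimage g.base.hom.continuous)
        exact hcl hη
      exact (h1.antisymm h2).eq)
    (by
      intro z₁ hz₁ z₂ hz₂ h
      exact SteinA.eq_of_specializes_of_integral g h (hz₁.trans hz₂.symm))
    (f' x) (by show g (f' x) = y; rw [hpt])
  rw [Scheme.Hom.quasiFiniteAt_iff_isOpen_singleton_asFiber]
  have hopen : IsOpen ({⟨x, rfl⟩} : Set (f ⁻¹' {f x})) := by
    have : ({⟨x, rfl⟩} : Set (f ⁻¹' {f x})) = Subtype.val ⁻¹' (f'.base ⁻¹' W) := by
      ext p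
      constructor
      · intro hp
        rw [Set.mem_singleton_iff] at hp
        subst hp
        show f' x ∈ W
        have : f' x ∈ W ∩ S := by rw [hWS]; rfl
        exact this.1
      · intro hp
        have hp1 : f' p.1 ∈ W := hp
        have hp2 : f' p.1 ∈ S := by
          show g (f' p.1) = y
          rw [hpt]
          exact p.2
        have hp3 : f' p.1 ∈ W ∩ S := ⟨hp1, hp2⟩
        rw [hWS] at hp3
        have hp4 : p.1 ∈ f'.base ⁻¹' {f'.base x} := hp3
        rw [hx] at hp4
        exact Subtype.ext hp4
    rw [this]
    exact (hWo.preimage f'.base.hom.continuous).preimage continuous_subtype_val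
  have := (f.fiberHomeo (f x)).symm.isOpen_image.mpr hopen
  rwa [Set.image_singleton] at this

end Groth.Agent.Lib.Helper26.SteinC
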