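import Mathlib
import Groth.Agent.Lib.Helper18.SchDim3
import Groth.Agent.Lib.Helper18.TopDim
import Groth.Agent.Lib.Helper18.ZeroDim
import Groth.Agent.Lib.Helper10.OrbitDim2
import Groth.Agent.Lib.Helper26.SteinC

set_option autoImplicit false
universe u
open AlgebraicGeometry CategoryTheory TopologicalSpace

namespace Groth.Agent.Lib.Helper26.ZdimA

theorem isIntegral_residueFieldMap_of_quasiFiniteAt {X Y : Scheme.{u}} (g : X ⟶ Y) (x : X)
    (h : g.QuasiFiniteAt x) : (g.residueFieldMap x).hom.IsIntegral := by
  letI alg : Algebra (Y.presheaf.stalk (g x)) (X.presheaf.stalk x) := (g.stalkMap x).hom.toAlgebra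
  haveI hloc : IsLocalHom (algebraMap (Y.presheaf.stalk (g x)) (X.presheaf.stalk x)) :=
    inferInstanceAs (IsLocalHom (g.stalkMap x).hom)
  haveI hqf : Algebra.QuasiFinite (Y.presheaf.stalk (g x)) (X.presheaf.stalk x) := h
  haveI h1 : Algebra.QuasiFinite (Y.presheaf.stalk (g x))
      (IsLocalRing.ResidueField (X.presheaf.stalk x)) :=
    inferInstanceAs (Algebra.QuasiFinite (Y.presheaf.stalk (g x))
      (X.presheaf.stalk x ⧸ IsLocalRing.maximalIdeal (X.presheaf.stalk x)))
  haveI h2 : Algebra.QuasiFinite (IsLocalRing.ResidueField (Y.presheaf.stalk (g x)))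
      (IsLocalRing.ResidueField (X.presheaf.stalk x)) :=
    .of_restrictScalars (Y.presheaf.stalk (g x)) _ _
  haveI h3 : Module.Finite (IsLocalRing.ResidueField (Y.presheaf.stalk (g x)))
      (IsLocalRing.ResidueField (X.presheaf.stalk x)) := Module.Finite.of_quasiFinite
  have h4 : (algebraMap (IsLocalRing.ResidueField (Y.presheaf.stalk (g x)))
      (IsLocalRing.ResidueField (X.presheaf.stalk x))).IsIntegral :=
    fun z => Algebra.IsIntegral.isIntegral z
  have h5 : algebraMap (IsLocalRing.ResidueField (Y.presheaf.stalk (g x)))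
      (IsLocalRing.ResidueField (X.presheaf.stalk x)) = (g.residueFieldMap x).hom := by
    ext z
    obtain ⟨z, rfl⟩ := IsLocalRing.residue_surjective z
    rfl
  rw [← h5]
  exact h4

open Groth.Agent.Lib.Helper18 Groth.Agent.Lib.Helper26 in
theorem main_7798 (k : Type u) [Field k] {X Y : Scheme.{u}}
    (p : X ⟶ Spec (CommRingCat.of k)) (q : Y ⟶ Spec (CommRingCat.of k)) [IsProper p]
    [IsSeparated q] [LocallyOfFiniteType q] [QuasiCompact q]
    [IrreducibleSpace X] [IrreducibleSpace Y]
    (hdim : topologicalKrullDim Y ≤ topologicalKrullDim X)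
    (f : X ⟶ Y) (hf : f ≫ q = p) (y : Y) (hy : topologicalKrullDim ↥(f.fiber y) = 0) :
    Function.Surjective f ∧ topologicalKrullDim X = topologicalKrullDim Y := by
  haveI : IsProper (f ≫ q) := hf ▸ inferInstance
  haveI : IsProper f := IsProper.of_comp f q
  haveI : IsLocallyNoetherian Y := LocallyOfFiniteType.isLocallyNoetherian q
  haveI : IsLocallyNoetherian X := LocallyOfFiniteType.isLocallyNoetherian p
  haveI : NoetherianSpace (f.fiber y) := SteinC.noetherianSpace_fibre f y
  have hne : Nonempty (f.fiber y) := by
    by_contra hcon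
    rw [not_nonempty_iff] at hcon
    haveI : IsEmpty (IrreducibleCloseds ↥(f.fiber y)) :=
      ⟨fun Z => IsEmpty.false (Z.isIrreducible.nonempty.some : ↥(f.fiber y))⟩
    have : topologicalKrullDim ↥(f.fiber y) = ⊥ := by
      unfold topologicalKrullDim
      exact Order.krullDim_eq_bot
    rw [this] at hy
    exact absurd hy (by simp)
  obtain ⟨hfin, hdisc⟩ := (TopDim.topologicalKrullDim_eq_zero_iff).1 hy
  obtain ⟨t⟩ := hne
  have key : ∀ x : X, f x = y → f.QuasiFiniteAt x := by
    rintro x rfl
    exact Scheme.Hom.quasiFiniteAt_iff_isOpen_singleton_asFiber.mpr (isOpen_discrete _)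
  have hξ : f.QuasiFiniteAt (genericPoint X) := by
    have hopen : IsOpen {x | f.QuasiFiniteAt x} := f.isOpen_quasiFiniteAt
    exact ((genericPoint_spec X).mem_open_set_iff hopen).2
      ⟨f.fiberι y t, trivial, key _ (f.fiberHomeo y t).2⟩
  have hξ' : f.toImage.QuasiFiniteAt (genericPoint X) := by
    have : (f.toImage ≫ f.imageι).QuasiFiniteAt (genericPoint X) := by
      rw [f.toImage_imageι]; exact hξ
    exact Scheme.Hom.quasiFiniteAt_comp_iff.1 this
  haveI : IsLocallyNoetherian f.image := LocallyOfFiniteType.isLocallyNoetherian f.imageι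
  haveI : LocallyOfFiniteType f.toImage := by
    have : LocallyOfFiniteType (f.toImage ≫ f.imageι) := by
      rw [f.toImage_imageι]; infer_instance
    exact locallyOfFiniteType_of_comp f.toImage f.imageι
  have h1 : topologicalKrullDim X ≤ topologicalKrullDim f.image + ((0 : ℕ) : WithBot ℕ∞) := by
    refine SchDim.topologicalKrullDim_le_add f.toImage 0 (fun ξ hξc => ?_)
    have hξeq : ξ = genericPoint X := by
      have h1 : closure {ξ} = Set.univ := by
        have := hξc.2 (show IsIrreducible (Set.univ : Set X) from
          (IrreducibleSpace.isIrreducible_univ X)) (Set.subset_univ _)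
        exact Set.eq_univ_of_univ_subset this
      have h2 : IsGenericPoint ξ Set.univ := h1
      exact h2.eq (genericPoint_spec X)
    subst hξeq
    letI := (f.toImage.residueFieldMap (genericPoint X)).hom.toAlgebra
    haveI : Algebra.IsIntegral (f.image.residueField (f.toImage (genericPoint X)))
        (X.residueField (genericPoint X)) :=
      ⟨isIntegral_residueFieldMap_of_quasiFiniteAt _ _ hξ'⟩
    haveI : Algebra.IsAlgebraic (f.image.residueField (f.toImage (genericPoint X)))
        (X.residueField (genericPoint X)) := Algebra.IsIntegral.isAlgebraic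
    rw [trdeg_eq_zero]
    simp
  rw [Nat.cast_zero, add_zero] at h1
  have h2 : topologicalKrullDim f.image ≤ topologicalKrullDim Y :=
    f.imageι.isEmbedding.isInducing.topologicalKrullDim_le
  have heq : topologicalKrullDim X = topologicalKrullDim Y :=
    le_antisymm (h1.trans h2) hdim
  refine ⟨?_, heq⟩
  -- surjectivity
  have hsurj' : Function.Surjective f.toImage := by
    have hcl : IsClosed (Set.range f.toImage) := f.toImage.isClosedMap.isClosed_range
    have hd : DenseRange f.toImage := IsDominant.denseRange
    intro z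
    have : Set.range f.toImage = Set.univ := by
      rw [← hcl.closure_eq]; exact hd.closure_range
    have hz : z ∈ Set.range f.toImage := this ▸ Set.mem_univ z
    exact hz
  suffices hι : Set.range f.imageι = Set.univ by
    intro y'
    obtain ⟨z, rfl⟩ : y' ∈ Set.range f.imageι := hι ▸ Set.mem_univ y'
    obtain ⟨x, rfl⟩ := hsurj' z
    exact ⟨x, by rw [← Scheme.Hom.comp_apply, f.toImage_imageι]⟩
  by_contra hne
  have hRcl : IsClosed (Set.range f.imageι) := f.imageι.isClosedEmbedding.isClosed_range
  have hint : interior (Set.range f.imageι) = ∅ := by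
    by_contra hi
    have hi' : (interior (Set.range f.imageι)).Nonempty := Set.nonempty_iff_ne_empty.2 hi
    have hc : (Set.range f.imageι)ᶜ.Nonempty := Set.nonempty_compl.2 hne
    obtain ⟨w, hw1, hw2⟩ := nonempty_preirreducible_inter isOpen_interior hRcl.isOpen_compl hi' hc
    exact hw2 (interior_subset hw1)
  have h3 := ZeroDim.topologicalKrullDim_add_one_le_of_nowhereDense _ hRcl hint
  have h4 : topologicalKrullDim f.image ≤ topologicalKrullDim ↥(Set.range f.imageι) :=
    (f.imageι.isEmbedding.isInducing.codRestrict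
      (fun z => Set.mem_range_self z)).topologicalKrullDim_le
  have hlt : topologicalKrullDim X < ⊤ := Groth.Agent.Lib.Helper10.OrbitDim.dim_lt_top p
  have h0 : (0 : WithBot ℕ∞) ≤ topologicalKrullDim X := by
    haveI : Nonempty X := ⟨genericPoint X⟩
    exact TopDim.zero_le_topologicalKrullDim
  have h5 : topologicalKrullDim X + 1 ≤ topologicalKrullDim X :=
    (add_le_add (h1.trans h4) le_rfl).trans (h3.trans hdim)
  generalize topologicalKrullDim X = a at h0 hlt h5
  induction a using WithBot.recBotCoe with
  | bot => simp at h0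
  | coe a =>
    induction a using ENat.recTopCoe with
    | top => exact absurd hlt (lt_irrefl _)
    | coe n =>
      have : ((n + 1 : ℕ) : WithBot ℕ∞) ≤ ((n : ℕ) : WithBot ℕ∞) := by exact_mod_cast h5
      have : n + 1 ≤ n := by exact_mod_cast this
      omega

end Groth.Agent.Lib.Helper26.ZdimA
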