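import Mathlib
import Groth.Agent.Lib.Helper26.AbIsogA
import Groth.Agent.Lib.Helper26.ZdimA
import Groth.Agent.Lib.Helper1.GeomIntSmooth
import Groth.Agent.Lib.Helper10.SmoothReduced2

set_option autoImplicit false
universe u
open AlgebraicGeometry CategoryTheory CategoryTheory.Limits
open Groth.Agent.Lib.Helper26

namespace Groth.Agent.Lib.Helper26.AbIsogB

theorem irreducibleSpace_of_smooth_connected (k : Type u) [Field k] {X : Scheme.{u}}
    (p : X ⟶ Spec (CommRingCat.of k)) [Smooth p] [GeometricallyConnected p] :
    IrreducibleSpace X := by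
  haveI : Subsingleton ↥(Spec (CommRingCat.of k)) :=
    inferInstanceAs (Subsingleton (PrimeSpectrum k))
  haveI : ConnectedSpace X := GeometricallyConnected.connectedSpace_of_subsingleton p
  haveI : IsLocallyNoetherian X := LocallyOfFiniteType.isLocallyNoetherian p
  exact Groth.Agent.Lib.Helper1.ConnIrr.irreducibleSpace_of_connected X
    (fun x => Groth.Agent.Lib.Helper1.GeomIntSmooth.isDomain_stalk_of_smooth p x)

theorem dim_fiber_eq_zero {X Y : Scheme.{u}} (f : X ⟶ Y) [LocallyQuasiFinite f] [QuasiCompact f]
    (x : X) : topologicalKrullDim ↥(f.fiber (f x)) = 0 := by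
  haveI : Nonempty ↥(f.fiber (f x)) := ⟨f.asFiber x⟩
  haveI : Finite ↥(f.fiber (f x)) := inferInstance
  haveI : DiscreteTopology ↥(f.fiber (f x)) := inferInstance
  exact Groth.Agent.Lib.Helper18.TopDim.topologicalKrullDim_eq_zero_iff.2 ⟨inferInstance, inferInstance⟩

open MonObj in
theorem main_17255 (k : Type u) [Field k]
    (A B : Over (Spec (CommRingCat.of k)))
    [GrpObj A] [Smooth A.hom] [IsProper A.hom] [GeometricallyConnected A.hom]
    [GrpObj B] [Smooth B.hom] [IsProper B.hom] [GeometricallyConnected B.hom]
    (f : A ⟶ B) [IsMonHom f] (hdim : topologicalKrullDim A.left = topologicalKrullDim B.left) :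
    Flat f.left ↔ IsFinite f.left := by
  haveI : IrreducibleSpace A.left := irreducibleSpace_of_smooth_connected k A.hom
  haveI : IrreducibleSpace B.left := irreducibleSpace_of_smooth_connected k B.hom
  have hw : f.left ≫ B.hom = A.hom := Over.w f
  haveI : IsProper (f.left ≫ B.hom) := by rw [hw]; infer_instance
  haveI : IsProper f.left := IsProper.of_comp f.left B.hom
  constructor
  · intro hflat
    haveI := hflat
    haveI : LocallyQuasiFinite f.left :=
      AbIsogA.locallyQuasiFinite_of_flat k A.hom B.hom f.left hw hdim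
    exact IsFinite.of_isProper_of_locallyQuasiFinite f.left
  · intro hfin
    haveI := hfin
    obtain ⟨x₀⟩ : Nonempty A.left := inferInstance
    have hy := dim_fiber_eq_zero f.left x₀
    obtain ⟨hsurj, -⟩ := ZdimA.main_7798 k A.hom B.hom hdim.ge f.left hw (f.left x₀) hy
    haveI : IsReduced B.left :=
      Groth.Agent.Lib.Helper10.SmoothReduced.isReduced_of_smooth_scheme B.hom
    exact Groth.Agent.Lib.Helper10.FlatPt.flat_of_dominant_reduced f hsurj.denseRange

end Groth.Agent.Lib.Helper26.AbIsogB
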