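import Mathlib
import Groth.Agent.Lib.Helper26.AbIsogB
import Groth.Agent.Lib.Helper21.BaseChg4

set_option autoImplicit false
universe u
open AlgebraicGeometry CategoryTheory CategoryTheory.Limits MonObj
open Groth.Agent.Lib.Helper26

namespace Groth.Agent.Lib.Helper26.AbIsogC

theorem lqf_iff_surjective_field (k : Type u) [Field k]
    (A B : Over (Spec (CommRingCat.of k)))
    [GrpObj A] [Smooth A.hom] [IsProper A.hom] [GeometricallyConnected A.hom]
    [GrpObj B] [Smooth B.hom] [IsProper B.hom] [GeometricallyConnected B.hom]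
    (f : A ⟶ B) [IsMonHom f] (hdim : topologicalKrullDim A.left = topologicalKrullDim B.left) :
    LocallyQuasiFinite f.left ↔ Surjective f.left := by
  haveI : IrreducibleSpace A.left := AbIsogB.irreducibleSpace_of_smooth_connected k A.hom
  haveI : IrreducibleSpace B.left := AbIsogB.irreducibleSpace_of_smooth_connected k B.hom
  have hw : f.left ≫ B.hom = A.hom := Over.w f
  haveI : IsProper (f.left ≫ B.hom) := by rw [hw]; infer_instance
  haveI : IsProper f.left := IsProper.of_comp f.left B.hom
  constructor
  · intro hq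
    haveI := hq
    obtain ⟨x₀⟩ : Nonempty A.left := inferInstance
    have hy := AbIsogB.dim_fiber_eq_zero f.left x₀
    obtain ⟨hsurj, -⟩ := ZdimA.main_7798 k A.hom B.hom hdim.ge f.left hw (f.left x₀) hy
    exact ⟨hsurj⟩
  · intro hs
    haveI : IsReduced B.left :=
      Groth.Agent.Lib.Helper10.SmoothReduced.isReduced_of_smooth_scheme B.hom
    haveI : Flat f.left :=
      Groth.Agent.Lib.Helper10.FlatPt.flat_of_dominant_reduced f hs.surj.denseRange
    exact AbIsogA.locallyQuasiFinite_of_flat k A.hom B.hom f.left hw hdim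

theorem isPullback_fiber_map {X Y S T : Scheme.{u}} (f : X ⟶ Y) (q : Y ⟶ S) (p : X ⟶ S)
    (hw : f ≫ q = p) (j : T ⟶ S) (fs : pullback p j ⟶ pullback q j)
    (h1 : fs ≫ pullback.fst q j = pullback.fst p j ≫ f)
    (h2 : fs ≫ pullback.snd q j = pullback.snd p j) :
    IsPullback (pullback.fst p j) fs f (pullback.fst q j) := by
  subst hw
  refine IsPullback.of_bot ?_ h1.symm (IsPullback.of_hasPullback q j)
  rw [h2]
  exact IsPullback.of_hasPullback (f ≫ q) j

theorem main_18385 {S : Scheme.{u}} (A B : Over S)
    [GrpObj A] [Smooth A.hom] [IsProper A.hom] [GeometricallyConnected A.hom]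
    [GrpObj B] [Smooth B.hom] [IsProper B.hom] [GeometricallyConnected B.hom]
    (f : A ⟶ B) [IsMonHom f]
    (hdim : ∀ s : S, topologicalKrullDim ↥(A.hom.fiber s) = topologicalKrullDim ↥(B.hom.fiber s)) :
    LocallyQuasiFinite f.left ↔ Surjective f.left := by
  have hw : f.left ≫ B.hom = A.hom := Over.w f
  haveI : LocallyOfFiniteType (f.left ≫ B.hom) := by rw [hw]; infer_instance
  haveI : LocallyOfFiniteType f.left := locallyOfFiniteType_of_comp f.left B.hom
  -- fibrewise data
  have key : ∀ s : S, ∃ (fs : A.hom.fiber s ⟶ B.hom.fiber s),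
      IsPullback (A.hom.fiberι s) fs f.left (B.hom.fiberι s) ∧
      (LocallyQuasiFinite fs ↔ Surjective fs) := by
    intro s
    let j := S.fromSpecResidueField s
    let As := (Over.pullback j).obj A
    let Bs := (Over.pullback j).obj B
    letI : GrpObj As := Functor.grpObjObj
    letI : GrpObj Bs := Functor.grpObjObj
    let fs : As ⟶ Bs := (Over.pullback j).map f
    haveI : IsMonHom fs := inferInstance
    haveI : Smooth As.hom := (inferInstance : Smooth (pullback.snd A.hom j))
    haveI : IsProper As.hom := (inferInstance : IsProper (pullback.snd A.hom j))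
    haveI : GeometricallyConnected As.hom :=
      (inferInstance : GeometricallyConnected (pullback.snd A.hom j))
    haveI : Smooth Bs.hom := (inferInstance : Smooth (pullback.snd B.hom j))
    haveI : IsProper Bs.hom := (inferInstance : IsProper (pullback.snd B.hom j))
    haveI : GeometricallyConnected Bs.hom :=
      (inferInstance : GeometricallyConnected (pullback.snd B.hom j))
    refine ⟨fs.left, ?_, lqf_iff_surjective_field (S.residueField s) As Bs fs (hdim s)⟩
    refine isPullback_fiber_map f.left B.hom A.hom hw j fs.left ?_ (Over.w fs)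
    exact pullback.lift_fst _ _ _
  constructor
  · intro hq
    haveI := hq
    refine ⟨fun b => ?_⟩
    obtain ⟨fs, hsq, hiff⟩ := key (B.hom b)
    haveI : LocallyQuasiFinite fs :=
      MorphismProperty.of_isPullback (P := @LocallyQuasiFinite) hsq inferInstance
    have hs : Surjective fs := hiff.1 inferInstance
    have hb : b ∈ Set.range (B.hom.fiberι (B.hom b)) := by
      rw [Scheme.Hom.range_fiberι]
      rfl
    obtain ⟨b', hb'⟩ := hb
    obtain ⟨a', ha'⟩ := hs.surj b'
    refine ⟨A.hom.fiberι (B.hom b) a', ?_⟩
    have := congrArg (fun φ : A.hom.fiber (B.hom b) ⟶ B.left => φ a') hsq.w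
    simp only [Scheme.Hom.comp_apply] at this
    rw [this, ha', hb']
  · intro hs
    haveI := hs
    rw [Groth.Agent.Lib.Helper14.AS.locallyQuasiFinite_iff_fibreDimAt_eq_zero]
    intro a
    obtain ⟨fs, hsq, hiff⟩ := key (A.hom a)
    haveI : Surjective fs :=
      MorphismProperty.of_isPullback (P := @Surjective) hsq inferInstance
    haveI : LocallyQuasiFinite fs := hiff.2 inferInstance
    haveI : LocallyOfFiniteType fs :=
      MorphismProperty.of_isPullback (P := @LocallyOfFiniteType) hsq inferInstance
    have ha : a ∈ Set.range (A.hom.fiberι (A.hom a)) := by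
      rw [Scheme.Hom.range_fiberι]
      rfl
    obtain ⟨a', ha'⟩ := ha
    have h1 := Groth.Agent.Lib.Helper21.BaseChg.fibreDimAt_eq_of_isPullback hsq a'
    rw [ha'] at h1
    rw [← h1]
    exact (Groth.Agent.Lib.Helper14.AS.locallyQuasiFinite_iff_fibreDimAt_eq_zero fs).1
      inferInstance a'

end Groth.Agent.Lib.Helper26.AbIsogC
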