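import Mathlib
import Groth.Agent.Lib.Helper10.FlatPt3
import Groth.Agent.Lib.Helper14.FPFib4

set_option autoImplicit false
set_option backward.isDefEq.respectTransparency.types false
universe u
open AlgebraicGeometry CategoryTheory CategoryTheory.Limits MonoidalCategory CartesianMonoidalCategory MonObj GrpObj

namespace Groth.Agent.Lib.Helper26.GrpFlatA

open Groth.Agent.Lib.Helper10 in
/-- a surjective homomorphism onto a reduced group scheme over a field is flat (no
quasi-compactness needed) -/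
theorem flat_of_surjective_reduced {k : Type u} [Field k]
    {G H : Over (Spec (CommRingCat.of k))} [GrpObj G] [GrpObj H]
    (f : G ⟶ H) [IsMonHom f] (hf : Function.Surjective f.left) [IsReduced H.left] :
    Flat f.left := by
  obtain ⟨pt⟩ : Nonempty ↥(𝟙_ (Over (Spec (CommRingCat.of k)))).left :=
    inferInstanceAs (Nonempty (PrimeSpectrum k))
  haveI : Nonempty H.left := ⟨η[H].left pt⟩
  obtain ⟨ξ, hξ⟩ := FlatPt.exists_isField_stalk H.left
  obtain ⟨x, hfx⟩ := hf ξ
  have hflat : (f.left.stalkMap x).hom.Flat := FlatPt.flatAt_of_isField f.left x (hfx ▸ hξ)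
  haveI : Subsingleton ↥(Spec (CommRingCat.of k)) :=
    inferInstanceAs (Subsingleton (PrimeSpectrum k))
  haveI : Flat G.hom := inferInstance
  exact FlatPt.flat_of_flatAt (TrivLoc.translAction f) f
    (fun g g' => FlatPt.hom_equivariant f g g') x hflat

/-- fibrewise criterion for flatness, packaged -/
theorem flat_of_fibrewise {X Y S : Scheme.{u}} (f : X ⟶ Y) (q : Y ⟶ S) (p : X ⟶ S)
    (hw : f ≫ q = p) [Flat p] [LocallyOfFinitePresentation p] [LocallyOfFiniteType q]
    (h : ∀ s : S, ∃ fs : p.fiber s ⟶ q.fiber s, fs ≫ q.fiberι s = p.fiberι s ≫ f ∧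
      fs ≫ q.fiberToSpecResidueField s = p.fiberToSpecResidueField s ∧ Flat fs) :
    Flat f ∧ ∀ x : X, (q.stalkMap (f x)).hom.Flat := by
  subst hw
  have key : ∀ x : X, (q.stalkMap (f x)).hom.Flat ∧ (f.stalkMap x).hom.Flat := by
    intro x
    have hx : x ∈ Set.range ((f ≫ q).fiberι ((f ≫ q) x)) := by
      rw [Scheme.Hom.range_fiberι]
      rfl
    obtain ⟨x', hx'⟩ := hx
    obtain ⟨fs, h1, h2, hfl⟩ := h ((f ≫ q) x)
    have hfl1 : ((f ≫ q).stalkMap ((f ≫ q).fiberι ((f ≫ q) x) x')).hom.Flat :=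
      (Flat.iff_flat_stalkMap (f ≫ q)).1 inferInstance _
    have hfl2 : (fs.stalkMap x').hom.Flat := (Flat.iff_flat_stalkMap fs).1 hfl _
    have := Groth.Agent.Lib.Helper14.AS.flat_of_fibre_flat_fp f q ((f ≫ q) x)
      ((f ≫ q).fiberι ((f ≫ q) x)) ((f ≫ q).fiberToSpecResidueField ((f ≫ q) x))
      (q.fiberι ((f ≫ q) x)) (q.fiberToSpecResidueField ((f ≫ q) x))
      (IsPullback.of_hasPullback _ _) (IsPullback.of_hasPullback _ _) fs h1 h2 x' hfl1 hfl2
    rw [hx'] at this
    exact this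
  exact ⟨(Flat.iff_flat_stalkMap f).2 (fun x => (key x).2), fun x => (key x).1⟩

end Groth.Agent.Lib.Helper26.GrpFlatA
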