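import Mathlib
import Groth.Agent.Lib.Helper26.GrpFlatA
import Groth.Agent.Lib.Helper26.AbIsogC

set_option autoImplicit false
universe u
open AlgebraicGeometry CategoryTheory CategoryTheory.Limits MonObj
open Groth.Agent.Lib.Helper26

namespace Groth.Agent.Lib.Helper26.GrpFlatB

/-- fibrewise data of a homomorphism of group schemes -/
theorem exists_fibre_hom {S : Scheme.{u}} (G H : Over S) [GrpObj G] [GrpObj H]
    (f : G ⟶ H) [IsMonHom f] (s : S) :
    ∃ (_ : GrpObj ((Over.pullback (S.fromSpecResidueField s)).obj G))
      (_ : GrpObj ((Over.pullback (S.fromSpecResidueField s)).obj H)),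
      IsMonHom ((Over.pullback (S.fromSpecResidueField s)).map f) ∧
      IsPullback (G.hom.fiberι s) ((Over.pullback (S.fromSpecResidueField s)).map f).left f.left
        (H.hom.fiberι s) := by
  refine ⟨Functor.grpObjObj, Functor.grpObjObj, inferInstance, ?_⟩
  refine AbIsogC.isPullback_fiber_map f.left H.hom G.hom (Over.w f) _ _ ?_
    (Over.w ((Over.pullback (S.fromSpecResidueField s)).map f))
  exact pullback.lift_fst _ _ _

theorem main_7800 {S : Scheme.{u}} (G H : Over S) [GrpObj G] [GrpObj H]
    [IsSeparated G.hom] [LocallyOfFinitePresentation G.hom] [Flat G.hom]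
    [IsSeparated H.hom] [LocallyOfFinitePresentation H.hom] [GeometricallyReduced H.hom]
    (f : G ⟶ H) [IsMonHom f] [Surjective f.left] : Flat f.left ∧ Flat H.hom := by
  have hmain := GrpFlatA.flat_of_fibrewise f.left H.hom G.hom (Over.w f) (fun s => by
    obtain ⟨i1, i2, i3, hsq⟩ := exists_fibre_hom G H f s
    refine ⟨((Over.pullback (S.fromSpecResidueField s)).map f).left, hsq.w.symm,
      Over.w ((Over.pullback (S.fromSpecResidueField s)).map f), ?_⟩
    haveI : Surjective ((Over.pullback (S.fromSpecResidueField s)).map f).left :=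
      MorphismProperty.of_isPullback (P := @Surjective) hsq inferInstance
    haveI : IsReduced ((Over.pullback (S.fromSpecResidueField s)).obj H).left :=
      (inferInstance : IsReduced (H.hom.fiber s))
    exact GrpFlatA.flat_of_surjective_reduced (k := S.residueField s)
      ((Over.pullback (S.fromSpecResidueField s)).map f) (Surjective.surj))
  refine ⟨hmain.1, ?_⟩
  rw [Flat.iff_flat_stalkMap]
  intro y
  obtain ⟨x, rfl⟩ := (Surjective.surj (f := f.left)) y
  exact hmain.2 x

end Groth.Agent.Lib.Helper26.GrpFlatB
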