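import Mathlib
import Groth.Agent.Lib.Helper26.GrpFlatB
import Groth.Agent.Lib.Helper8.Shear
import Groth.Agent.Lib.Helper14.LqfLocus
import Groth.Agent.Lib.Helper21.BaseChg4

set_option autoImplicit false
set_option backward.isDefEq.respectTransparency.types false
universe u
open AlgebraicGeometry CategoryTheory CategoryTheory.Limits MonoidalCategory
  CartesianMonoidalCategory MonObj GrpObj
open Groth.Agent.Lib.Helper26

namespace Groth.Agent.Lib.Helper26.GrpLocB

/-- homogeneity of the local fibre dimension for a homomorphism of group schemes over a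
one-point base: it equals the local dimension of the kernel at its unit point -/
theorem fibreDimAt_hom_const {S : Scheme.{u}} [Subsingleton S] {G H : Over S} [GrpObj G] [GrpObj H]
    (f : G ⟶ H) [IsMonHom f] [LocallyOfFiniteType f.left] (x y : G.left) :
    FlatMor.fibreDimAt f.left x = FlatMor.fibreDimAt f.left y := by
  -- the kernel
  let N := pullback f η[H]
  let i : N ⟶ G := pullback.fst f η[H]
  have hN : AlgGrp.IsKernel i f := by
    have := IsPullback.of_hasPullback f η[H]
    rw [toUnit_unique (pullback.snd f η[H]) (toUnit _)] at this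
    exact this
  haveI : LocallyOfFiniteType N.hom :=
    Groth.Agent.Lib.Helper8.Shear.kernel_of (P := @LocallyOfFiniteType) f i hN inferInstance
  -- unit section of the kernel
  have h1 : η[G] ≫ f = toUnit (𝟙_ (Over S)) ≫ η[H] := by
    rw [IsMonHom.one_hom, toUnit_unique (toUnit (𝟙_ (Over S))) (𝟙 _), Category.id_comp]
  let eN : 𝟙_ (Over S) ⟶ N := hN.lift η[G] (toUnit _) h1
  have heN : eN ≫ i = η[G] := hN.lift_fst _ _ _
  -- the shear square
  let m : N ⊗ G ⟶ G := (fst N G ≫ i) * snd N G
  have sq1 : IsPullback m.left (snd N G).left f.left f.left :=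
    (Groth.Agent.Lib.Helper8.Shear.isPullback_left
      (Groth.Agent.Lib.Helper8.Shear.isPullback_shear f i hN)).flip
  have sq2 : IsPullback (fst N G).left (snd N G).left N.hom G.hom :=
    (Groth.Agent.Lib.Helper8.Shear.isPullback_snd N G).flip
  -- the section `x ↦ (e, x)`
  let σ : G ⟶ N ⊗ G := lift (toUnit G ≫ eN) (𝟙 G)
  have hσm : σ ≫ m = 𝟙 G := by
    change lift (toUnit G ≫ eN) (𝟙 G) ≫ ((fst N G ≫ i) * snd N G) = 𝟙 G
    rw [MonObj.comp_mul, ← Category.assoc, lift_fst, lift_snd, Category.assoc, heN]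
    change (toUnit G ≫ η[G]) * 𝟙 G = 𝟙 G
    rw [← Hom.one_def, _root_.one_mul]
  have hσ1 : σ ≫ fst N G = toUnit G ≫ eN := lift_fst _ _
  have key : ∀ z : G.left, FlatMor.fibreDimAt f.left z =
      FlatMor.fibreDimAt N.hom ((toUnit G ≫ eN).left z) := by
    intro z
    have e1 := Groth.Agent.Lib.Helper21.BaseChg.fibreDimAt_eq_of_isPullback sq1 (σ.left z)
    have e2 := Groth.Agent.Lib.Helper21.BaseChg.fibreDimAt_eq_of_isPullback sq2 (σ.left z)
    have e3 : m.left (σ.left z) = z := by
      have := congrArg (fun φ => φ.left z) hσm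
      simpa using this
    have e4 : (fst N G).left (σ.left z) = (toUnit G ≫ eN).left z := by
      have := congrArg (fun φ => φ.left z) hσ1
      simpa using this
    rw [e3] at e1
    rw [e4] at e2
    rw [← e1, e2]
  rw [key x, key y]
  congr 1
  haveI : Subsingleton ↥(𝟙_ (Over S)).left := (inferInstance : Subsingleton ↥S)
  have : (toUnit G).left x = (toUnit G).left y := Subsingleton.elim _ _
  change eN.left ((toUnit G).left x) = eN.left ((toUnit G).left y)
  rw [this]

theorem main_5315 (S : Scheme.{u}) (G H : Over S) [GrpObj G] [GrpObj H] (u : G ⟶ H)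
    [IsMonHom u] [LocallyOfFiniteType u.left] :
    IsOpen {s : S | LocallyQuasiFinite ((Over.pullback (S.fromSpecResidueField s)).map u).left} ∧
    {x : G.left | ∃ W : G.left.Opens, x ∈ W ∧ LocallyQuasiFinite (W.ι ≫ u.left)} =
      G.hom.base ⁻¹'
        {s : S | LocallyQuasiFinite ((Over.pullback (S.fromSpecResidueField s)).map u).left} := by
  have key : ∀ x : G.left, (∃ W : G.left.Opens, x ∈ W ∧ LocallyQuasiFinite (W.ι ≫ u.left)) ↔
      LocallyQuasiFinite ((Over.pullback (S.fromSpecResidueField (G.hom x))).map u).left := by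
    intro x
    obtain ⟨i1, i2, i3, hsq⟩ := GrpFlatB.exists_fibre_hom G H u (G.hom x)
    haveI : LocallyOfFiniteType ((Over.pullback (S.fromSpecResidueField (G.hom x))).map u).left :=
      MorphismProperty.of_isPullback (P := @LocallyOfFiniteType) hsq inferInstance
    haveI : Subsingleton ↥(Spec (S.residueField (G.hom x))) :=
      inferInstanceAs (Subsingleton (PrimeSpectrum (S.residueField (G.hom x))))
    have hx : x ∈ Set.range (G.hom.fiberι (G.hom x)) := by
      rw [Scheme.Hom.range_fiberι]
      rfl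
    obtain ⟨x', hx'⟩ := hx
    have hbc := Groth.Agent.Lib.Helper21.BaseChg.fibreDimAt_eq_of_isPullback hsq x'
    rw [hx'] at hbc
    constructor
    · rintro ⟨W, hxW, hW⟩
      have h0 := Groth.Agent.Lib.Helper14.AS.fibreDimAt_eq_zero_of_opens_lqf u.left W x hxW hW
        inferInstance
      rw [Groth.Agent.Lib.Helper14.AS.locallyQuasiFinite_iff_fibreDimAt_eq_zero]
      intro y'
      exact ((fibreDimAt_hom_const _ y' x').trans hbc).trans h0
    · intro hq
      have h0 := (Groth.Agent.Lib.Helper14.AS.locallyQuasiFinite_iff_fibreDimAt_eq_zero _).1 hq x'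
      have h0' : FlatMor.fibreDimAt u.left x = 0 := hbc.symm.trans h0
      obtain ⟨W, hxW, hW, -⟩ :=
        Groth.Agent.Lib.Helper14.AS.exists_opens_lqf_of_fibreDimAt_le_zero u.left x h0'.le
      exact ⟨W, hxW, hW⟩
  have hset : {x : G.left | ∃ W : G.left.Opens, x ∈ W ∧ LocallyQuasiFinite (W.ι ≫ u.left)} =
      G.hom.base ⁻¹'
        {s : S | LocallyQuasiFinite ((Over.pullback (S.fromSpecResidueField s)).map u).left} := by
    ext x
    exact key x
  refine ⟨?_, hset⟩
  have hW : IsOpen {x : G.left | ∃ W : G.left.Opens, x ∈ W ∧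
      LocallyQuasiFinite (W.ι ≫ u.left)} := by
    rw [isOpen_iff_forall_mem_open]
    rintro x ⟨W, hxW, hW⟩
    exact ⟨W, fun y hy => ⟨W, hy, hW⟩, W.2, hxW⟩
  let ε : S ⟶ G.left := η[G].left
  have hε : ε ≫ G.hom = 𝟙 S := Over.w η[G]
  have : {s : S | LocallyQuasiFinite ((Over.pullback (S.fromSpecResidueField s)).map u).left} =
      ε.base ⁻¹' {x : G.left | ∃ W : G.left.Opens, x ∈ W ∧
        LocallyQuasiFinite (W.ι ≫ u.left)} := by
    ext s
    rw [hset]
    have e1 : G.hom (ε s) = s := by
      rw [← Scheme.Hom.comp_apply, hε]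
      rfl
    change _ ↔ LocallyQuasiFinite
      ((Over.pullback (S.fromSpecResidueField (G.hom (ε s)))).map u).left
    rw [e1]
    rfl
  rw [this]
  exact hW.preimage ε.continuous

end Groth.Agent.Lib.Helper26.GrpLocB
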