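import Mathlib
import Groth.Agent.Lib.Helper26.GrpFlatB
import Groth.Agent.Lib.Helper8.Shear
import Groth.Agent.Lib.Helper20.UnramifiedNear

set_option autoImplicit false
set_option backward.isDefEq.respectTransparency.types false
universe u v
open AlgebraicGeometry CategoryTheory CategoryTheory.Limits MonoidalCategory
  CartesianMonoidalCategory MonObj GrpObj
open Groth.Agent.Lib.Helper26 Groth.Agent.Lib.Helper20

namespace Groth.Agent.Lib.Helper26.GrpLocC

/-- general homogeneity principle: a base-change invariant pointwise invariant of morphisms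
(in a base-change stable class `T`) is constant along a homomorphism of group schemes over a
one-point base -/
theorem hom_const {α : Type v} (F : ∀ {X Y : Scheme.{u}} (_ : X ⟶ Y), X → α)
    (T : MorphismProperty Scheme.{u}) [T.IsStableUnderBaseChange]
    (hF : ∀ {X' X S' S : Scheme.{u}} {g' : X' ⟶ X} {f' : X' ⟶ S'} {f : X ⟶ S} {g : S' ⟶ S},
      IsPullback g' f' f g → T f → ∀ x' : X', F f' x' = F f (g' x'))
    {S : Scheme.{u}} [Subsingleton S] {G H : Over S} [GrpObj G] [GrpObj H]
    (f : G ⟶ H) [IsMonHom f] (hf : T f.left) (x y : G.left) :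
    F f.left x = F f.left y := by
  -- the kernel
  let N := pullback f η[H]
  let i : N ⟶ G := pullback.fst f η[H]
  have hN : AlgGrp.IsKernel i f := by
    have := IsPullback.of_hasPullback f η[H]
    rw [toUnit_unique (pullback.snd f η[H]) (toUnit _)] at this
    exact this
  have hTN : T N.hom :=
    Groth.Agent.Lib.Helper8.Shear.kernel_of (P := T) f i hN hf
  -- unit section of the kernel
  have h1 : η[G] ≫ f = toUnit (𝟙_ (Over S)) ≫ η[H] := by
    rw [IsMonHom.one_hom, toUnit_unique (toUnit (𝟙_ (Over S))) (𝟙 _), Category.id_comp]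
  let eN : 𝟙_ (Over S) ⟶ N := hN.lift η[G] (toUnit _) h1
  have heN : eN ≫ i = η[G] := hN.lift_fst _ _ _
  -- the shear square
  let m : N ⊗ G ⟶ G := (fst N G ≫ i) * snd N G
  have sq1 : IsPullback m.left (snd N G).left f.left f.left :=
    (Groth.Agent.Lib.Helper8.Shear.isPullback_left
      (Groth.Agent.Lib.Helper8.Shear.isPullback_shear f i hN)).flip
  have sq2 : IsPullback (fst N G).left (snd N G).left N.hom G.hom :=
    (Groth.Agent.Lib.Helper8.Shear.isPullback_snd N G).flip
  -- the section `x ↦ (e, x)`
  let σ : G ⟶ N ⊗ G := lift (toUnit G ≫ eN) (𝟙 G)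
  have hσm : σ ≫ m = 𝟙 G := by
    change lift (toUnit G ≫ eN) (𝟙 G) ≫ ((fst N G ≫ i) * snd N G) = 𝟙 G
    rw [MonObj.comp_mul, ← Category.assoc, lift_fst, lift_snd, Category.assoc, heN]
    change (toUnit G ≫ η[G]) * 𝟙 G = 𝟙 G
    rw [← Hom.one_def, _root_.one_mul]
  have hσ1 : σ ≫ fst N G = toUnit G ≫ eN := lift_fst _ _
  have key : ∀ z : G.left, F f.left z = F N.hom ((toUnit G ≫ eN).left z) := by
    intro z
    have e1 := hF sq1 hf (σ.left z)
    have e2 := hF sq2 hTN (σ.left z)
    have e3 : m.left (σ.left z) = z := by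
      have := congrArg (fun φ => φ.left z) hσm
      simpa using this
    have e4 : (fst N G).left (σ.left z) = (toUnit G ≫ eN).left z := by
      have := congrArg (fun φ => φ.left z) hσ1
      simpa using this
    rw [e3] at e1
    rw [e4] at e2
    rw [← e1, e2]
  rw [key x, key y]
  congr 1
  haveI : Subsingleton ↥(𝟙_ (Over S)).left := (inferInstance : Subsingleton ↥S)
  have : (toUnit G).left x = (toUnit G).left y := Subsingleton.elim _ _
  change eN.left ((toUnit G).left x) = eN.left ((toUnit G).left y)
  rw [this]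

/-- base change invariance of "formally unramified near a point" for general pullback squares -/
theorem holdsNear_fu_of_isPullback {X' X S' S : Scheme.{u}} {g' : X' ⟶ X} {f' : X' ⟶ S'}
    {f : X ⟶ S} {g : S' ⟶ S} (hsq : IsPullback g' f' f g) (hf : LocallyOfFiniteType f)
    (x' : X') :
    HoldsNear @FormallyUnramified f' x' = HoldsNear @FormallyUnramified f (g' x') := by
  apply propext
  have h1 := holdsNear_square openStable_formallyUnramified f' (pullback.snd f g)
    hsq.isoPullback.hom (𝟙 S') (by simp) x'
  rw [h1, holdsNear_formallyUnramified_pullback_iff f g]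
  have : pullback.fst f g (hsq.isoPullback.hom x') = g' x' := by
    rw [← Scheme.Hom.comp_apply, hsq.isoPullback_hom_fst]
  rw [this]

/-- a morphism is formally unramified iff it is so near every point -/
theorem fu_iff_forall_holdsNear {X Y : Scheme.{u}} (g : X ⟶ Y) :
    FormallyUnramified g ↔ ∀ x : X, HoldsNear @FormallyUnramified g x := by
  constructor
  · intro h x
    exact ⟨X, 𝟙 X, inferInstance, ⟨x, rfl⟩, by rw [Category.id_comp]; exact h⟩
  · intro h
    have h' : ∀ x : X, ∃ U : X.Opens, x ∈ U ∧ FormallyUnramified (U.ι ≫ g) := fun x =>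
      (holdsNear_iff_opens @FormallyUnramified g x).1 (h x)
    choose U hxU hU using h'
    refine IsZariskiLocalAtSource.of_iSup_eq_top (P := @FormallyUnramified) U ?_ hU
    rw [eq_top_iff]
    intro x _
    exact TopologicalSpace.Opens.mem_iSup.2 ⟨x, hxU x⟩

theorem main_5316 (S : Scheme.{u}) (G H : Over S) [GrpObj G] [GrpObj H] (u : G ⟶ H)
    [IsMonHom u] [LocallyOfFinitePresentation u.left] :
    IsOpen {s : S | FormallyUnramified ((Over.pullback (S.fromSpecResidueField s)).map u).left} ∧
    {x : G.left | ∃ W : G.left.Opens, x ∈ W ∧ FormallyUnramified (W.ι ≫ u.left)} =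
      G.hom.base ⁻¹'
        {s : S | FormallyUnramified ((Over.pullback (S.fromSpecResidueField s)).map u).left} := by
  have key : ∀ x : G.left, (∃ W : G.left.Opens, x ∈ W ∧ FormallyUnramified (W.ι ≫ u.left)) ↔
      FormallyUnramified ((Over.pullback (S.fromSpecResidueField (G.hom x))).map u).left := by
    intro x
    obtain ⟨i1, i2, i3, hsq⟩ := GrpFlatB.exists_fibre_hom G H u (G.hom x)
    haveI : LocallyOfFiniteType ((Over.pullback (S.fromSpecResidueField (G.hom x))).map u).left :=
      MorphismProperty.of_isPullback (P := @LocallyOfFiniteType) hsq inferInstance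
    haveI : Subsingleton ↥(Spec (S.residueField (G.hom x))) :=
      inferInstanceAs (Subsingleton (PrimeSpectrum (S.residueField (G.hom x))))
    have hx : x ∈ Set.range (G.hom.fiberι (G.hom x)) := by
      rw [Scheme.Hom.range_fiberι]
      rfl
    obtain ⟨x', hx'⟩ := hx
    have hbc := holdsNear_fu_of_isPullback hsq inferInstance x'
    rw [hx'] at hbc
    rw [← holdsNear_iff_opens @FormallyUnramified u.left x, ← hbc, fu_iff_forall_holdsNear]
    constructor
    · intro h y'
      have := hom_const (fun {X Y} (f : X ⟶ Y) (x : X) => HoldsNear @FormallyUnramified f x)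
        @LocallyOfFiniteType
        (fun {X' X S' S g' f' f g} hsq hf x' => holdsNear_fu_of_isPullback hsq hf x')
        ((Over.pullback (S.fromSpecResidueField (G.hom x))).map u) inferInstance y' x'
      rw [this]
      exact h
    · intro h
      exact h x'
  have hset : {x : G.left | ∃ W : G.left.Opens, x ∈ W ∧ FormallyUnramified (W.ι ≫ u.left)} =
      G.hom.base ⁻¹'
        {s : S | FormallyUnramified ((Over.pullback (S.fromSpecResidueField s)).map u).left} := by
    ext x
    exact key x
  refine ⟨?_, hset⟩
  have hW : IsOpen {x : G.left | ∃ W : G.left.Opens, x ∈ W ∧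
      FormallyUnramified (W.ι ≫ u.left)} := by
    rw [isOpen_iff_forall_mem_open]
    rintro x ⟨W, hxW, hW⟩
    exact ⟨W, fun y hy => ⟨W, hy, hW⟩, W.2, hxW⟩
  let ε : S ⟶ G.left := η[G].left
  have hε : ε ≫ G.hom = 𝟙 S := Over.w η[G]
  have : {s : S | FormallyUnramified ((Over.pullback (S.fromSpecResidueField s)).map u).left} =
      ε.base ⁻¹' {x : G.left | ∃ W : G.left.Opens, x ∈ W ∧
        FormallyUnramified (W.ι ≫ u.left)} := by
    ext s
    rw [hset]
    have e1 : G.hom (ε s) = s := by
      rw [← Scheme.Hom.comp_apply, hε]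
      rfl
    change _ ↔ FormallyUnramified
      ((Over.pullback (S.fromSpecResidueField (G.hom (ε s)))).map u).left
    rw [e1]
    rfl
  rw [this]
  exact hW.preimage ε.continuous

end Groth.Agent.Lib.Helper26.GrpLocC
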