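import Mathlib
import Groth.Agent.Lib.Helper10.MaxOpen1
import Groth.Agent.Lib.Helper20.HoldsNear
import Groth.Agent.Lib.Helper14.FppfDesc3
import Groth.Agent.Lib.Helper25.FiberSmoothGlobal
import Groth.Agent.S2155
import Groth.Agent.Lib.Helper26.GrpLocC

set_option autoImplicit false
set_option backward.isDefEq.respectTransparency.types false
universe u v
open AlgebraicGeometry CategoryTheory CategoryTheory.Limits MonoidalCategory
  CartesianMonoidalCategory MonObj GrpObj
open Groth.Agent.Lib.Helper20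

namespace Groth.Agent.Lib.Helper26.NearA

/-- a pointwise property of morphisms of schemes ("`f` is P near `x`") which only depends on
the germ of `f` at `x` and is invariant under flat lfp base change -/
structure NearProp (PP : ∀ {X Y : Scheme.{u}} (_ : X ⟶ Y), X → Prop) : Prop where
  iso_source : ∀ {X' X Y : Scheme.{u}} (e : X' ⟶ X) [IsIso e] (f : X ⟶ Y) (x' : X'),
    PP (e ≫ f) x' ↔ PP f (e x')
  iso_target : ∀ {X Y Y' : Scheme.{u}} (f : X ⟶ Y) (e : Y ⟶ Y') [IsIso e] (x : X),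
    PP (f ≫ e) x ↔ PP f x
  bc : ∀ {X' X S' S : Scheme.{u}} {g' : X' ⟶ X} {f' : X' ⟶ S'} {f : X ⟶ S} {g : S' ⟶ S},
    IsPullback g' f' f g → Flat g → LocallyOfFinitePresentation g → ∀ x' : X',
      (PP f' x' ↔ PP f (g' x'))

open Groth.Agent.Lib.Helper10.GrpTranslate Groth.Agent.Lib.Helper10.HomSp in
/-- translation stability of the locus of a `NearProp` of a homomorphism of group schemes -/
theorem transl_stable {PP : ∀ {X Y : Scheme.{u}} (_ : X ⟶ Y), X → Prop} (hPP : NearProp PP)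
    {S : Scheme.{u}} {G H : Over S} [GrpObj G] [GrpObj H] (u : G ⟶ H) [IsMonHom u]
    {T : Over S} [Flat T.hom] [LocallyOfFinitePresentation T.hom] (p : T ⟶ G)
    (y : (T ⊗ G).left) :
    PP u.left ((snd T G).left y) ↔ PP u.left ((transl p ≫ snd T G).left y) := by
  have sqB : IsPullback (snd T G).left (T ◁ u).left u.left (snd T H).left :=
    ((isPullback_whiskerLeft_snd T u).map (Over.forget S)).flip
  haveI : Flat (snd T H).left := by
    rw [Over.snd_left]; infer_instance
  haveI : LocallyOfFinitePresentation (snd T H).left := by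
    rw [Over.snd_left]; infer_instance
  have h1 := hPP.bc sqB inferInstance inferInstance y
  have h2 := hPP.bc sqB inferInstance inferInstance ((transl p).left y)
  haveI : IsIso (transl (p ≫ u)).left :=
    inferInstanceAs (IsIso ((Over.forget _).map (transl (p ≫ u))))
  haveI : IsIso (transl p).left :=
    inferInstanceAs (IsIso ((Over.forget _).map (transl p)))
  have h3 := hPP.iso_source (transl p).left (T ◁ u).left y
  have h4 := hPP.iso_target (T ◁ u).left (transl (p ≫ u)).left y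
  have e : (transl p).left ≫ (T ◁ u).left = (T ◁ u).left ≫ (transl (p ≫ u)).left := by
    rw [← Over.comp_left, ← Over.comp_left, Groth.Agent.Lib.Helper10.MaxOpen.transl_whiskerLeft]
  rw [e] at h3
  rw [← h1, Over.comp_left, Scheme.Hom.comp_apply, ← h2, ← h3, h4]

section HoldsNear

variable (Q : MorphismProperty Scheme.{u})

theorem holdsNear_iso_source {X' X Y : Scheme.{u}} (e : X' ⟶ X) [IsIso e] (f : X ⟶ Y) (x' : X') :
    HoldsNear Q (e ≫ f) x' ↔ HoldsNear Q f (e x') := by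
  constructor
  · rintro ⟨W, w, hw, ⟨z, hz⟩, hq⟩
    refine ⟨W, w ≫ e, inferInstance, ⟨z, by rw [Scheme.Hom.comp_apply, hz]⟩, ?_⟩
    rw [Category.assoc]
    exact hq
  · rintro ⟨W, w, hw, ⟨z, hz⟩, hq⟩
    refine ⟨W, w ≫ inv e, inferInstance, ⟨z, ?_⟩, ?_⟩
    · rw [Scheme.Hom.comp_apply, hz, ← Scheme.Hom.comp_apply, IsIso.hom_inv_id]
      rfl
    · rw [Category.assoc, IsIso.inv_hom_id_assoc]
      exact hq

theorem holdsNear_iso_target [Q.RespectsIso] {X Y Y' : Scheme.{u}} (f : X ⟶ Y) (e : Y ⟶ Y')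
    [IsIso e] (x : X) : HoldsNear Q (f ≫ e) x ↔ HoldsNear Q f x := by
  constructor
  · rintro ⟨W, w, hw, hx, hq⟩
    refine ⟨W, w, hw, hx, ?_⟩
    rw [← Category.assoc] at hq
    exact (Q.cancel_right_of_respectsIso _ e).1 hq
  · rintro ⟨W, w, hw, hx, hq⟩
    refine ⟨W, w, hw, hx, ?_⟩
    rw [← Category.assoc]
    exact (Q.cancel_right_of_respectsIso _ e).2 hq

/-- the easy direction of base change for `HoldsNear` -/
theorem holdsNear_of_isPullback [Q.IsStableUnderBaseChange] {X' X S' S : Scheme.{u}}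
    {g' : X' ⟶ X} {f' : X' ⟶ S'} {f : X ⟶ S} {g : S' ⟶ S} (hsq : IsPullback g' f' f g)
    (x' : X') (h : HoldsNear Q f (g' x')) : HoldsNear Q f' x' := by
  obtain ⟨W, w, hw, hx, hq⟩ := h
  refine ⟨pullback w g', pullback.snd w g', inferInstance, ?_, ?_⟩
  · rw [Scheme.Pullback.range_snd]
    exact hx
  · have sq1 : IsPullback (pullback.fst w g') (pullback.snd w g') w g' :=
      IsPullback.of_hasPullback w g'
    have sq2 : IsPullback (pullback.fst w g') (pullback.snd w g' ≫ f') (w ≫ f) g :=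
      sq1.paste_vert hsq
    exact MorphismProperty.of_isPullback (P := Q) sq2 hq

end HoldsNear

section Descent

variable {X' X S' S : Scheme.{u}} {g' : X' ⟶ X} {f' : X' ⟶ S'} {f : X ⟶ S} {g : S' ⟶ S}

/-- the open image of an open chart under a flat lfp morphism, with the induced fppf cover -/
theorem exists_image_chart (g' : X' ⟶ X) [Flat g'] [LocallyOfFinitePresentation g']
    {W' : Scheme.{u}} (w' : W' ⟶ X') [IsOpenImmersion w'] :
    ∃ (O : X.Opens) (q : W' ⟶ O.toScheme), q ≫ O.ι = w' ≫ g' ∧ Flat q ∧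
      LocallyOfFinitePresentation q ∧ Function.Surjective q ∧
      (O : Set X) = Set.range (w' ≫ g') := by
  have hopen : IsOpen (Set.range (w' ≫ g')) := (w' ≫ g').isOpenMap.isOpen_range
  let O : X.Opens := ⟨Set.range (w' ≫ g'), hopen⟩
  have hr : Set.range (w' ≫ g') ⊆ Set.range O.ι := by
    rw [Scheme.Opens.range_ι]
    rfl
  let q : W' ⟶ O.toScheme := IsOpenImmersion.lift O.ι (w' ≫ g') hr
  have hq : q ≫ O.ι = w' ≫ g' := IsOpenImmersion.lift_fac _ _ _
  refine ⟨O, q, hq, ?_, ?_, ?_, rfl⟩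
  · exact MorphismProperty.of_postcomp (W := @Flat) (W' := @IsOpenImmersion) q O.ι
      inferInstance (by rw [hq]; infer_instance)
  · exact MorphismProperty.of_postcomp (W := @LocallyOfFinitePresentation)
      (W' := @IsOpenImmersion) q O.ι inferInstance (by rw [hq]; infer_instance)
  · intro o
    obtain ⟨t, ht⟩ : O.ι o ∈ Set.range (w' ≫ g') := o.2
    refine ⟨t, ?_⟩
    apply O.ι.injective
    rw [← Scheme.Hom.comp_apply, hq]
    exact ht

/-- flatness is fppf local on the source, pointwise form -/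
theorem flat_of_forall_exists_flat {X Y : Scheme.{u}} (f : X ⟶ Y)
    (H : ∀ x : X, ∃ (X' : Scheme.{u}) (g : X' ⟶ X), Flat g ∧ Flat (g ≫ f) ∧ x ∈ Set.range g) :
    Flat f := by
  rw [Flat.iff_flat_stalkMap]
  intro x
  obtain ⟨X', g, hg, hgf, z, rfl⟩ := H x
  exact Groth.Agent.Lib.Helper25.FiberSmoothGlobal.flat_stalkMap_of_comp f g z
    ((Flat.iff_flat_stalkMap g).1 hg z) ((Flat.iff_flat_stalkMap (g ≫ f)).1 hgf z)

/-- descent of local finite presentation near a point along a flat lfp base change -/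
theorem lfp_descent (hsq : IsPullback g' f' f g) [Flat g] [LocallyOfFinitePresentation g]
    {W' : Scheme.{u}} (w' : W' ⟶ X') [IsOpenImmersion w']
    (h : LocallyOfFinitePresentation (w' ≫ f')) (O : X.Opens) (q : W' ⟶ O.toScheme)
    (hq : q ≫ O.ι = w' ≫ g') [Flat q] [LocallyOfFinitePresentation q]
    (hs : Function.Surjective q) : LocallyOfFinitePresentation (O.ι ≫ f) := by
  apply Groth.Agent.Lib.Helper14.AS.lfp_of_forall_exists_fppf
  intro z
  obtain ⟨t, ht⟩ := hs z
  refine ⟨W', q, inferInstance, inferInstance, ?_, ⟨t, ht⟩⟩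
  have e : q ≫ O.ι ≫ f = (w' ≫ f') ≫ g := by
    rw [← Category.assoc, hq, Category.assoc, hsq.w, Category.assoc]
  rw [e]
  infer_instance

theorem flat_descent (hsq : IsPullback g' f' f g) [Flat g]
    {W' : Scheme.{u}} (w' : W' ⟶ X') [IsOpenImmersion w']
    (h : Flat (w' ≫ f')) (O : X.Opens) (q : W' ⟶ O.toScheme)
    (hq : q ≫ O.ι = w' ≫ g') [Flat q]
    (hs : Function.Surjective q) : Flat (O.ι ≫ f) := by
  apply flat_of_forall_exists_flat
  intro z
  obtain ⟨t, ht⟩ := hs z
  refine ⟨W', q, inferInstance, ?_, ⟨t, ht⟩⟩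
  have e : q ≫ O.ι ≫ f = (w' ≫ f') ≫ g := by
    rw [← Category.assoc, hq, Category.assoc, hsq.w, Category.assoc]
  rw [e]
  infer_instance

end Descent

section Descent2

variable {X' X S' S : Scheme.{u}} {g' : X' ⟶ X} {f' : X' ⟶ S'} {f : X ⟶ S} {g : S' ⟶ S}

/-- the restricted cartesian square over an open of `X` -/
theorem isPullback_restrict (hsq : IsPullback g' f' f g) (O : X.Opens) :
    IsPullback (g' ∣_ O) ((g' ⁻¹ᵁ O).ι ≫ f') (O.ι ≫ f) g :=
  (isPullback_morphismRestrict g' O).paste_vert hsq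

/-- an open chart landing in `g' ⁻¹ᵁ O` factors through it -/
theorem exists_factor (O : X.Opens) {W' : Scheme.{u}} (w' : W' ⟶ X') [IsOpenImmersion w']
    (q : W' ⟶ O.toScheme) (hq : q ≫ O.ι = w' ≫ g') :
    ∃ l : W' ⟶ (g' ⁻¹ᵁ O).toScheme, IsOpenImmersion l ∧ l ≫ (g' ⁻¹ᵁ O).ι = w' ∧
      ∀ t : W', (g' ∣_ O) (l t) = q t := by
  have hr : Set.range w' ⊆ Set.range (g' ⁻¹ᵁ O).ι := by
    rw [Scheme.Opens.range_ι]
    rintro _ ⟨t, rfl⟩
    change g' (w' t) ∈ O
    rw [← Scheme.Hom.comp_apply, ← hq, Scheme.Hom.comp_apply]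
    exact (q t).2
  let l : W' ⟶ (g' ⁻¹ᵁ O).toScheme := IsOpenImmersion.lift (g' ⁻¹ᵁ O).ι w' hr
  have hl : l ≫ (g' ⁻¹ᵁ O).ι = w' := IsOpenImmersion.lift_fac _ _ _
  refine ⟨l, ?_, hl, ?_⟩
  · have : IsOpenImmersion (l ≫ (g' ⁻¹ᵁ O).ι) := by rw [hl]; infer_instance
    exact IsOpenImmersion.of_comp l (g' ⁻¹ᵁ O).ι
  · intro t
    apply O.ι.injective
    have h1 : O.ι ((g' ∣_ O) (l t)) = g' ((g' ⁻¹ᵁ O).ι (l t)) := by
      rw [← Scheme.Hom.comp_apply, ← Scheme.Hom.comp_apply, morphismRestrict_ι]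
      rfl
    rw [h1, ← Scheme.Hom.comp_apply l, hl, ← Scheme.Hom.comp_apply, ← hq, Scheme.Hom.comp_apply]

/-- descent of smoothness near a point along a flat lfp base change -/
theorem smooth_descent (hsq : IsPullback g' f' f g) [Flat g] [LocallyOfFinitePresentation g]
    {W' : Scheme.{u}} (w' : W' ⟶ X') [IsOpenImmersion w']
    (h : Smooth (w' ≫ f')) (O : X.Opens) (q : W' ⟶ O.toScheme)
    (hq : q ≫ O.ι = w' ≫ g') [Flat q] [LocallyOfFinitePresentation q]
    (hs : Function.Surjective q) : Smooth (O.ι ≫ f) := by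
  haveI hlfp : LocallyOfFinitePresentation (O.ι ≫ f) :=
    lfp_descent hsq w' inferInstance O q hq hs
  have sq' := isPullback_restrict hsq O
  haveI : LocallyOfFinitePresentation ((g' ⁻¹ᵁ O).ι ≫ f') :=
    MorphismProperty.of_isPullback (P := @LocallyOfFinitePresentation) sq' hlfp
  have e := Groth.Agent.S2155.result (O.ι ≫ f) g ((g' ⁻¹ᵁ O).ι ≫ f') (g' ∣_ O) sq'
    (Or.inr inferInstance)
  obtain ⟨l, hli, hl, hlq⟩ := exists_factor O w' q hq
  haveI : Smooth (l ≫ (g' ⁻¹ᵁ O).ι ≫ f') := by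
    rw [← Category.assoc, hl]
    exact h
  rw [← Scheme.Hom.smoothLocus_eq_top_iff, eq_top_iff]
  intro z _
  obtain ⟨t, rfl⟩ := hs z
  have h1 : (l ≫ (g' ⁻¹ᵁ O).ι ≫ f').smoothLocus = ⊤ := Scheme.Hom.smoothLocus_eq_top _
  rw [← Scheme.Hom.preimage_smoothLocus_eq] at h1
  have h2 : l t ∈ ((g' ⁻¹ᵁ O).ι ≫ f').smoothLocus := by
    have : t ∈ l ⁻¹ᵁ ((g' ⁻¹ᵁ O).ι ≫ f').smoothLocus := by rw [h1]; trivial
    exact this
  rw [e] at h2
  rw [← hlq t]
  exact h2

end Descent2

section Instances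

variable {X' X S' S : Scheme.{u}} {g' : X' ⟶ X} {f' : X' ⟶ S'} {f : X ⟶ S} {g : S' ⟶ S}

theorem range_image_chart {W' : Scheme.{u}} (w' : W' ⟶ X') (O : X.Opens) (q : W' ⟶ O.toScheme)
    (hq : q ≫ O.ι = w' ≫ g') (t : W') : g' (w' t) ∈ Set.range O.ι :=
  ⟨q t, by rw [← Scheme.Hom.comp_apply, hq, Scheme.Hom.comp_apply]⟩

theorem nearProp_lfp :
    NearProp (fun {X Y : Scheme.{u}} (f : X ⟶ Y) (x : X) =>
      HoldsNear @LocallyOfFinitePresentation f x) where
  iso_source := holdsNear_iso_source _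
  iso_target := holdsNear_iso_target _
  bc := by
    intro X' X S' S g' f' f g hsq hg1 hg2 x'
    refine ⟨?_, holdsNear_of_isPullback _ hsq x'⟩
    rintro ⟨W', w', hw', ⟨t, rfl⟩, hq⟩
    haveI : Flat g' := MorphismProperty.of_isPullback (P := @Flat) hsq.flip hg1
    haveI : LocallyOfFinitePresentation g' :=
      MorphismProperty.of_isPullback (P := @LocallyOfFinitePresentation) hsq.flip hg2
    obtain ⟨O, q, hq', hfl, hlfp, hs, -⟩ := exists_image_chart g' w'
    exact ⟨O, O.ι, inferInstance, range_image_chart w' O q hq' t,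
      lfp_descent hsq w' hq O q hq' hs⟩

theorem nearProp_flat_lfp :
    NearProp (fun {X Y : Scheme.{u}} (f : X ⟶ Y) (x : X) =>
      HoldsNear (@Flat ⊓ @LocallyOfFinitePresentation) f x) where
  iso_source := holdsNear_iso_source _
  iso_target := holdsNear_iso_target _
  bc := by
    intro X' X S' S g' f' f g hsq hg1 hg2 x'
    refine ⟨?_, holdsNear_of_isPullback _ hsq x'⟩
    rintro ⟨W', w', hw', ⟨t, rfl⟩, hq1, hq2⟩
    haveI : Flat g' := MorphismProperty.of_isPullback (P := @Flat) hsq.flip hg1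
    haveI : LocallyOfFinitePresentation g' :=
      MorphismProperty.of_isPullback (P := @LocallyOfFinitePresentation) hsq.flip hg2
    obtain ⟨O, q, hq', hfl, hlfp, hs, -⟩ := exists_image_chart g' w'
    exact ⟨O, O.ι, inferInstance, range_image_chart w' O q hq' t,
      flat_descent hsq w' hq1 O q hq' hs, lfp_descent hsq w' hq2 O q hq' hs⟩

theorem nearProp_smooth :
    NearProp (fun {X Y : Scheme.{u}} (f : X ⟶ Y) (x : X) => HoldsNear @Smooth f x) where
  iso_source := holdsNear_iso_source _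
  iso_target := holdsNear_iso_target _
  bc := by
    intro X' X S' S g' f' f g hsq hg1 hg2 x'
    refine ⟨?_, holdsNear_of_isPullback _ hsq x'⟩
    rintro ⟨W', w', hw', ⟨t, rfl⟩, hq⟩
    haveI : Flat g' := MorphismProperty.of_isPullback (P := @Flat) hsq.flip hg1
    haveI : LocallyOfFinitePresentation g' :=
      MorphismProperty.of_isPullback (P := @LocallyOfFinitePresentation) hsq.flip hg2
    obtain ⟨O, q, hq', hfl, hlfp, hs, -⟩ := exists_image_chart g' w'
    exact ⟨O, O.ι, inferInstance, range_image_chart w' O q hq' t,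
      smooth_descent hsq w' hq O q hq' hs⟩

theorem nearProp_etale :
    NearProp (fun {X Y : Scheme.{u}} (f : X ⟶ Y) (x : X) => HoldsNear @Etale f x) where
  iso_source := holdsNear_iso_source _
  iso_target := holdsNear_iso_target _
  bc := by
    intro X' X S' S g' f' f g hsq hg1 hg2 x'
    refine ⟨?_, holdsNear_of_isPullback _ hsq x'⟩
    rintro ⟨W', w', hw', ⟨t, rfl⟩, hq⟩
    haveI : Etale (w' ≫ f') := hq
    haveI : Flat g' := MorphismProperty.of_isPullback (P := @Flat) hsq.flip hg1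
    haveI : LocallyOfFinitePresentation g' :=
      MorphismProperty.of_isPullback (P := @LocallyOfFinitePresentation) hsq.flip hg2
    obtain ⟨O, q, hq', hfl, hlfp, hs, -⟩ := exists_image_chart g' w'
    haveI hsm : Smooth (O.ι ≫ f) := smooth_descent hsq w' inferInstance O q hq' hs
    have sq' := isPullback_restrict hsq O
    obtain ⟨l, hli, hl, hlq⟩ := exists_factor O w' q hq'
    have hfu : FormallyUnramified (l ≫ (g' ⁻¹ᵁ O).ι ≫ f') := by
      rw [← Category.assoc, hl]
      infer_instance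
    have h1 : HoldsNear @FormallyUnramified ((g' ⁻¹ᵁ O).ι ≫ f') (l t) :=
      ⟨W', l, hli, ⟨t, rfl⟩, hfu⟩
    rw [Groth.Agent.Lib.Helper26.GrpLocC.holdsNear_fu_of_isPullback sq' inferInstance (l t)] at h1
    obtain ⟨W₂, w₂, hw₂, ⟨s, hs₂⟩, hfu₂⟩ := h1
    refine ⟨W₂, w₂ ≫ O.ι, inferInstance, ⟨s, ?_⟩, ?_⟩
    · rw [Scheme.Hom.comp_apply, hs₂, hlq t, ← Scheme.Hom.comp_apply, hq',
        Scheme.Hom.comp_apply]
    · rw [Category.assoc]
      haveI : FormallyUnramified (w₂ ≫ O.ι ≫ f) := hfu₂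
      exact Etale.iff_flat_and_formallyUnramified.mpr ⟨inferInstance, inferInstance, inferInstance⟩

end Instances

end Groth.Agent.Lib.Helper26.NearA
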