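import Mathlib
import Groth.Agent.Lib.Helper26.NearA
import Groth.Agent.Lib.Helper26.GrpLocB
import Groth.Agent.Lib.Helper26.GrpLocC
import Groth.Agent.Lib.Helper10.HomSp5

set_option autoImplicit false
set_option backward.isDefEq.respectTransparency.types false
universe u v
open AlgebraicGeometry CategoryTheory CategoryTheory.Limits MonoidalCategory
  CartesianMonoidalCategory MonObj GrpObj
open Groth.Agent.Lib.Helper20 Groth.Agent.Lib.Helper26 Groth.Agent.Lib.Helper26.NearA

namespace Groth.Agent.Lib.Helper26.NearB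

open Groth.Agent.Lib.Helper10.GrpTranslate in
/-- homogeneity: over a one-point base, the locus of a `NearProp` of a homomorphism whose source
is flat and locally of finite presentation is empty or everything -/
theorem near_const {PP : ∀ {X Y : Scheme.{u}} (_ : X ⟶ Y), X → Prop} (hPP : NearProp PP)
    {S : Scheme.{u}} [Subsingleton S] {G H : Over S} [GrpObj G] [GrpObj H] (u : G ⟶ H)
    [IsMonHom u] [Flat G.hom] [LocallyOfFinitePresentation G.hom] (x y : G.left)
    (hx : PP u.left x) : PP u.left y := by
  have hxy : G.hom x = G.hom y := Subsingleton.elim _ _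
  obtain ⟨z₀, hz1, hz2⟩ := Scheme.Pullback.exists_preimage_pullback x y hxy
  let φ : G ⊗ G ⟶ G ⊗ G := lift (fst G G * (snd G G)⁻¹) (snd G G)
  have h1 : φ ≫ snd G G = snd G G := lift_snd _ _
  have h2 : φ ≫ transl (𝟙 G) ≫ snd G G = fst G G := by
    rw [transl_snd, MonObj.comp_mul, ← Category.assoc, lift_fst, lift_snd,
      Category.comp_id]
    group
  have key := transl_stable hPP u (T := G) (𝟙 G) (φ.left z₀)
  have e1 : (snd G G).left (φ.left z₀) = y := by
    rw [← Scheme.Hom.comp_apply, ← Over.comp_left, h1]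
    exact hz2
  have e2 : (transl (𝟙 G) ≫ snd G G).left (φ.left z₀) = x := by
    rw [← Scheme.Hom.comp_apply, ← Over.comp_left, h2]
    exact hz1
  rw [e1, e2] at key
  exact key.2 hx

/-- a property local at the source holds as soon as it holds near every point -/
theorem of_forall_holdsNear (Q : MorphismProperty Scheme.{u}) [IsZariskiLocalAtSource Q]
    {X Y : Scheme.{u}} (g : X ⟶ Y) (h : ∀ x : X, HoldsNear Q g x) : Q g := by
  have h' : ∀ x : X, ∃ U : X.Opens, x ∈ U ∧ Q (U.ι ≫ g) := fun x =>
    (holdsNear_iff_opens Q g x).1 (h x)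
  choose U hxU hU using h'
  refine IsZariskiLocalAtSource.of_iSup_eq_top (P := Q) U ?_ hU
  rw [eq_top_iff]
  intro x _
  exact TopologicalSpace.Opens.mem_iSup.2 ⟨x, hxU x⟩

theorem holdsNear_of_opens (Q : MorphismProperty Scheme.{u}) {X Y : Scheme.{u}} (g : X ⟶ Y)
    (W : X.Opens) (h : Q (W.ι ≫ g)) (x : X) (hx : x ∈ W) : HoldsNear Q g x :=
  ⟨W, W.ι, inferInstance, by rw [Scheme.Opens.range_ι]; exact hx, h⟩

theorem main_5337 (A : Type u) [CommRing A] [IsArtinianRing A] [IsLocalRing A]
    (G H : Over (Spec (CommRingCat.of A))) [GrpObj G] [GrpObj H]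
    [Flat G.hom] [LocallyOfFiniteType G.hom] (u : G ⟶ H) [IsMonHom u] (W : G.left.Opens)
    (hW : (W : Set G.left).Nonempty) :
    (LocallyQuasiFinite (W.ι ≫ u.left) → LocallyQuasiFinite u.left) ∧
    (FormallyUnramified (W.ι ≫ u.left) → LocallyOfFinitePresentation (W.ι ≫ u.left) →
      FormallyUnramified u.left ∧ LocallyOfFinitePresentation u.left) ∧
    (Smooth (W.ι ≫ u.left) → Smooth u.left) ∧ (Etale (W.ι ≫ u.left) → Etale u.left) := by
  haveI := Groth.Agent.Lib.Helper10.HomSp.subsingleton_Spec_artin A
  haveI : LocallyOfFinitePresentation G.hom := inferInstance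
  have hw : u.left ≫ H.hom = G.hom := Over.w u
  haveI : LocallyOfFiniteType (u.left ≫ H.hom) := by rw [hw]; infer_instance
  haveI : LocallyOfFiniteType u.left := locallyOfFiniteType_of_comp u.left H.hom
  obtain ⟨w, hwW⟩ := hW
  refine ⟨?_, ?_, ?_, ?_⟩
  · intro h
    have h0 := Groth.Agent.Lib.Helper14.AS.fibreDimAt_eq_zero_of_opens_lqf u.left W w hwW h
      inferInstance
    rw [Groth.Agent.Lib.Helper14.AS.locallyQuasiFinite_iff_fibreDimAt_eq_zero]
    intro y
    exact (GrpLocB.fibreDimAt_hom_const u y w).trans h0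
  · intro h1 h2
    constructor
    · rw [GrpLocC.fu_iff_forall_holdsNear]
      intro y
      have := GrpLocC.hom_const
        (fun {X Y} (f : X ⟶ Y) (x : X) => HoldsNear @FormallyUnramified f x)
        @LocallyOfFiniteType
        (fun {X' X S' S g' f' f g} hsq hf x' => GrpLocC.holdsNear_fu_of_isPullback hsq hf x')
        u inferInstance y w
      rw [this]
      exact holdsNear_of_opens _ _ W h1 w hwW
    · apply of_forall_holdsNear @LocallyOfFinitePresentation
      intro y
      exact near_const nearProp_lfp u w y (holdsNear_of_opens _ _ W h2 w hwW)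
  · intro h
    apply of_forall_holdsNear @Smooth
    intro y
    exact near_const nearProp_smooth u w y (holdsNear_of_opens _ _ W h w hwW)
  · intro h
    apply of_forall_holdsNear @Etale
    intro y
    exact near_const nearProp_etale u w y (holdsNear_of_opens _ _ W h w hwW)

end Groth.Agent.Lib.Helper26.NearB
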