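import Mathlib

set_option autoImplicit false
universe u

open CategoryTheory AlgebraicGeometry TopologicalSpace Opposite

namespace Groth.Agent.Lib.Helper26.FibrA

theorem nat_apply {X Y : Scheme.{u}} (f : X ⟶ Y) {U V : Y.Opens} (h : V ≤ U) (a : Γ(Y, U)) :
    (f.app V).hom ((Y.presheaf.map (homOfLE h).op).hom a) =
      (X.presheaf.map (homOfLE (f.preimage_mono h)).op).hom ((f.app U).hom a) := by
  have := f.naturality (homOfLE h).op
  exact congr($(this) a)

theorem surjective_app_of_affine {X Y : Scheme.{u}} (f : X ⟶ Y)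
    (hinj : ∀ U : Y.Opens, Function.Injective (f.app U).hom)
    (hsurj : ∀ U : Y.Opens, IsAffineOpen U → Function.Surjective (f.app U).hom) (U : Y.Opens) :
    Function.Surjective (f.app U).hom := by
  intro b
  let ι := {V : Y.affineOpens // (V : Y.Opens) ≤ U}
  let W : ι → Y.Opens := fun V => V.1.1
  have hcover : U ≤ iSup W := by
    intro y hy
    obtain ⟨_, ⟨V, hV, rfl⟩, hyV, hVU⟩ := Y.isBasis_affineOpens.exists_subset_of_mem_open hy U.2
    exact Opens.mem_iSup.mpr ⟨⟨⟨V, hV⟩, hVU⟩, hyV⟩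
  have hloc : ∀ i : ι, ∃ a : Γ(Y, W i), (f.app (W i)).hom a =
      (X.presheaf.map (homOfLE (f.preimage_mono i.2)).op).hom b := fun i => hsurj _ i.1.2 _
  choose sf hsf using hloc
  have hcompat : TopCat.Presheaf.IsCompatible Y.presheaf W sf := by
    intro i j
    apply hinj
    have e1 := nat_apply f (inf_le_left : W i ⊓ W j ≤ W i) (sf i)
    have e2 := nat_apply f (inf_le_right : W i ⊓ W j ≤ W j) (sf j)
    refine e1.trans (Eq.trans ?_ e2.symm)
    rw [hsf i, hsf j]
    rw [← CommRingCat.comp_apply, ← CommRingCat.comp_apply, ← X.presheaf.map_comp,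
      ← X.presheaf.map_comp]
    rfl
  obtain ⟨a, ha, -⟩ := Y.sheaf.existsUnique_gluing' W U (fun i => homOfLE i.2) hcover sf hcompat
  refine ⟨a, ?_⟩
  have hcover' : f ⁻¹ᵁ U ≤ ⨆ i, f ⁻¹ᵁ W i := by
    intro x hx
    have hx' : f x ∈ iSup W := hcover hx
    obtain ⟨i, hi⟩ := Opens.mem_iSup.mp hx'
    exact Opens.mem_iSup.mpr ⟨i, hi⟩
  apply X.sheaf.eq_of_locally_eq' (fun i => f ⁻¹ᵁ W i) (f ⁻¹ᵁ U)
    (fun i => homOfLE (f.preimage_mono i.2)) hcover'
  intro i
  have e1 := nat_apply f i.2 a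
  have e2 : (Y.presheaf.map (homOfLE i.2).op).hom a = sf i := ha i
  rw [e2, hsf i] at e1
  exact e1.symm

end Groth.Agent.Lib.Helper26.FibrA
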