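import Mathlib
import Groth.Agent.Lib.Helper29.NormalNorm
import Groth.Agent.Lib.Helper26.FibrA

set_option autoImplicit false
universe u

open CategoryTheory AlgebraicGeometry TopologicalSpace

namespace Groth.Agent.Lib.Helper26.FibrB

open Groth.Agent.Lib.Helper26
open Groth.Agent.Lib.Helper29.QCoh.NormalNorm

theorem app_injective' {X Y : Scheme.{u}} [IsIntegral X] [IsIntegral Y] (f : X ⟶ Y)
    (hgen : f.base (genericPoint X) = genericPoint Y) (U : Y.Opens) :
    Function.Injective (f.app U).hom := by
  by_cases hne : (U : Set Y).Nonempty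
  · have hη : genericPoint Y ∈ U :=
      ((genericPoint_spec Y).mem_open_set_iff U.isOpen).mpr (by simpa using hne)
    intro a a' h
    apply toK_injective U hη
    apply (fieldMap f hgen).injective
    rw [fieldMap_toK, fieldMap_toK, h]
  · have hV0 : U = ⊥ := by
      ext y
      simp only [Opens.coe_bot, Set.mem_empty_iff_false, iff_false]
      intro hy
      exact hne ⟨y, hy⟩
    subst hV0
    intro a b _
    exact Subsingleton.elim _ _

/-- the integral-closure computation -/
theorem mem_range_of_isIntegral {X Y : Scheme.{u}} [IsIntegral X] [IsIntegral Y] (f : X ⟶ Y)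
    (hgen : f.base (genericPoint X) = genericPoint Y)
    (hsurj : Function.Surjective (fieldMap f hgen))
    (hY : ∀ y : Y, IsIntegrallyClosed (Y.presheaf.stalk y))
    {V : Y.Opens} (hV : IsAffineOpen V) (hη : genericPoint Y ∈ V)
    (b : Γ(X, f ⁻¹ᵁ V)) (hb : (f.app V).hom.IsIntegralElem b) :
    ∃ a : Γ(Y, V), (f.app V).hom a = b := by
  haveI : Nonempty V := ⟨⟨_, hη⟩⟩
  letI := (f.app V).hom.toAlgebra
  obtain ⟨a', ha'⟩ := hsurj (toL f hgen V hη b)
  haveI := functionField_isFractionRing_of_isAffineOpen Y V hV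
  haveI : IsIntegrallyClosed Γ(Y, V) := isIntegrallyClosed_of_isAffineOpen hY hV
  have hint : IsIntegral Γ(Y, V) a' := by
    obtain ⟨p, hp, hpb⟩ := hb
    refine ⟨p, hp, ?_⟩
    apply (fieldMap f hgen).injective
    rw [map_zero, Polynomial.hom_eval₂, ha']
    have h1 : (fieldMap f hgen).comp (algebraMap Γ(Y, V) Y.functionField) =
        (toL f hgen V hη).comp (f.app V).hom := by
      ext a
      exact fieldMap_toK f hgen V hη a
    rw [h1, ← Polynomial.hom_eval₂, hpb, map_zero]
  obtain ⟨a, ha⟩ := IsIntegrallyClosed.isIntegral_iff.mp hint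
  refine ⟨a, ?_⟩
  apply toL_injective f hgen V hη
  rw [← fieldMap_toK, ← ha']
  congr 1

theorem isIntegral_of_comp_injective {A B C : Type*} [CommRing A] [CommRing B] [CommRing C]
    (φ : A →+* B) (ψ : B →+* C) (hψ : Function.Injective ψ) (h : (ψ.comp φ).IsIntegral) :
    φ.IsIntegral := by
  intro b
  obtain ⟨p, hp, hpb⟩ := h (ψ b)
  refine ⟨p, hp, ?_⟩
  apply hψ
  rw [map_zero, Polynomial.hom_eval₂]
  exact hpb

theorem isIntegral_app {X Y : Scheme.{u}} (f : X ⟶ Y) [UniversallyClosed f]
    {V : Y.Opens} (hV : IsAffineOpen V) : (f.app V).hom.IsIntegral := by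
  haveI : IsAffine V.toScheme := hV
  have h1 := isIntegral_appTop_of_universallyClosed (f ∣_ V)
  have e := morphismRestrict_app f V ⊤
  have hVV : V.ι ''ᵁ ⊤ = V := by simp
  suffices h : (f.app (V.ι ''ᵁ ⊤)).hom.IsIntegral by
    revert h
    rw [hVV]
    exact id
  have h2 : Function.Bijective (X.presheaf.map
      (eqToHom (image_morphismRestrict_preimage f V ⊤)).op) :=
    ConcreteCategory.bijective_of_isIso _
  apply isIntegral_of_comp_injective (f.app (V.ι ''ᵁ ⊤)).hom (X.presheaf.map
      (eqToHom (image_morphismRestrict_preimage f V ⊤)).op).hom h2.1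
  have e' : ((f ∣_ V).appTop).hom = (X.presheaf.map
      (eqToHom (image_morphismRestrict_preimage f V ⊤)).op).hom.comp
        (f.app (V.ι ''ᵁ ⊤)).hom := by
    show ((f ∣_ V).app ⊤).hom = _
    rw [e]
    rfl
  rw [e'] at h1
  exact h1

theorem isIso_app_of_birational {X Y : Scheme.{u}} [IsIntegral X] [IsIntegral Y] (f : X ⟶ Y)
    [UniversallyClosed f]
    (hgen : f.base (genericPoint X) = genericPoint Y)
    (hsurj : Function.Surjective (fieldMap f hgen))
    (hY : ∀ y : Y, IsIntegrallyClosed (Y.presheaf.stalk y)) (U : Y.Opens) : IsIso (f.app U) := by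
  have hinj := app_injective' f hgen
  have hs : ∀ V : Y.Opens, IsAffineOpen V → Function.Surjective (f.app V).hom := by
    intro V hV b
    by_cases hne : (V : Set Y).Nonempty
    · have hη : genericPoint Y ∈ V :=
        ((genericPoint_spec Y).mem_open_set_iff V.isOpen).mpr (by simpa using hne)
      exact mem_range_of_isIntegral f hgen hsurj hY hV hη b (isIntegral_app f hV b)
    · have hV0 : V = ⊥ := by
        ext y
        simp only [Opens.coe_bot, Set.mem_empty_iff_false, iff_false]
        intro hy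
        exact hne ⟨y, hy⟩
      subst hV0
      haveI : Subsingleton Γ(X, f ⁻¹ᵁ ⊥) := by
        rw [show f ⁻¹ᵁ ⊥ = ⊥ from rfl]
        infer_instance
      exact ⟨0, Subsingleton.elim _ _⟩
  have h3 := FibrA.surjective_app_of_affine f hinj hs U
  exact (ConcreteCategory.isIso_iff_bijective _).mpr ⟨hinj U, h3⟩

end Groth.Agent.Lib.Helper26.FibrB
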