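import Mathlib

set_option autoImplicit false
universe u

open MvPolynomial

namespace Groth.Agent.Lib.Helper26.NodePoly

variable (k : Type u) [Field k]

/-- the coordinate ring of the node `k[x,y]/(xy)`. -/
noncomputable abbrev NA : Type u := MvPolynomial (Fin 2) k ⧸ Ideal.span {(X 0 * X 1 : MvPolynomial (Fin 2) k)}

/-- the quotient map. -/
noncomputable abbrev qm : MvPolynomial (Fin 2) k →+* NA k :=
  Ideal.Quotient.mk (Ideal.span {(X 0 * X 1 : MvPolynomial (Fin 2) k)})

/-- the other index -/
def oth (i : Fin 2) : Fin 2 := if i = 0 then 1 else 0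

lemma oth_ne (i : Fin 2) : oth i ≠ i := by
  fin_cases i <;> simp [oth]

lemma ne_oth (i : Fin 2) : i ≠ oth i := (oth_ne i).symm

lemma eq_or_eq_oth (i j : Fin 2) : j = i ∨ j = oth i := by
  fin_cases i <;> fin_cases j <;> simp [oth]

lemma X_mul_X_oth (i : Fin 2) : qm k (X i) * qm k (X (oth i)) = 0 := by
  rw [← map_mul, Ideal.Quotient.eq_zero_iff_mem]
  fin_cases i
  · exact Ideal.subset_span rfl
  · show (X 1 * X 0 : MvPolynomial (Fin 2) k) ∈ _
    rw [mul_comm]; exact Ideal.subset_span rfl

/-- evaluation `X i ↦ X`, `X (oth i) ↦ 0` on polynomials. -/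
noncomputable def B (i : Fin 2) : MvPolynomial (Fin 2) k →ₐ[k] Polynomial k :=
  aeval (fun j => if j = i then Polynomial.X else 0)

lemma B_X_same (i : Fin 2) : B k i (X i) = Polynomial.X := by simp [B]

lemma B_X_oth (i : Fin 2) : B k i (X (oth i)) = 0 := by simp [B, oth_ne]

/-- the section `k[X] → k[X0,X1]`, `X ↦ X i`. -/
noncomputable def sec (i : Fin 2) : Polynomial k →ₐ[k] MvPolynomial (Fin 2) k :=
  Polynomial.aeval (X i)

lemma B_sec (i : Fin 2) (p : Polynomial k) : B k i (sec k i p) = p := by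
  induction p using Polynomial.induction_on' with
  | add p q hp hq => rw [map_add, map_add, hp, hq]
  | monomial n a =>
    simp [sec, B, ← Polynomial.C_mul_X_pow_eq_monomial]

lemma sub_sec_B_mem (i : Fin 2) (F : MvPolynomial (Fin 2) k) :
    F - sec k i (B k i F) ∈ Ideal.span {(X (oth i) : MvPolynomial (Fin 2) k)} := by
  induction F using MvPolynomial.induction_on with
  | C a => simp [sec, B]
  | add p q hp hq =>
    rw [map_add, map_add]
    have : p + q - (sec k i (B k i p) + sec k i (B k i q)) =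
      (p - sec k i (B k i p)) + (q - sec k i (B k i q)) := by ring
    rw [this]; exact add_mem hp hq
  | mul_X p j hp =>
    rcases eq_or_eq_oth i j with rfl | rfl
    · rw [map_mul, B_X_same, map_mul]
      have : sec k j Polynomial.X = X j := by simp [sec]
      rw [this, ← sub_mul]
      exact Ideal.mul_mem_right _ _ hp
    · rw [map_mul, B_X_oth, mul_zero, map_zero, sub_zero]
      exact Ideal.mul_mem_left _ _ (Ideal.subset_span rfl)

lemma ker_B (i : Fin 2) (F : MvPolynomial (Fin 2) k) (hF : B k i F = 0) :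
    F ∈ Ideal.span {(X (oth i) : MvPolynomial (Fin 2) k)} := by
  have := sub_sec_B_mem k i F
  rwa [hF, map_zero, sub_zero] at this

/-- the branch map `NA → k[X]`. -/
noncomputable def br (i : Fin 2) : NA k →+* Polynomial k :=
  Ideal.Quotient.lift _ (B k i : MvPolynomial (Fin 2) k →+* Polynomial k) (by
    intro a ha
    rw [Ideal.mem_span_singleton'] at ha
    obtain ⟨c, rfl⟩ := ha
    rw [map_mul, map_mul]
    have h2 : (B k i : MvPolynomial (Fin 2) k →+* Polynomial k) (X 0) *
        (B k i : MvPolynomial (Fin 2) k →+* Polynomial k) (X 1) = 0 := by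
      fin_cases i
      · have := B_X_oth k 0
        simp only [oth, if_true] at this
        show _ * (B k 0 (X 1)) = 0
        rw [this, mul_zero]
      · have := B_X_oth k 1
        simp only [oth] at this
        show (B k 1 (X 0)) * _ = 0
        rw [if_neg (by decide)] at this
        rw [this, zero_mul]
    rw [h2, mul_zero])

lemma br_qm (i : Fin 2) (F : MvPolynomial (Fin 2) k) : br k i (qm k F) = B k i F := rfl

lemma br_surjective (i : Fin 2) : Function.Surjective (br k i) := by
  intro p
  exact ⟨qm k (sec k i p), by rw [br_qm, B_sec]⟩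

lemma br_eq_zero_iff (i : Fin 2) (z : NA k) : br k i z = 0 ↔ ∃ w, z = qm k (X (oth i)) * w := by
  obtain ⟨F, rfl⟩ := Ideal.Quotient.mk_surjective z
  constructor
  · intro h
    rw [br_qm] at h
    have := ker_B k i F h
    rw [Ideal.mem_span_singleton'] at this
    obtain ⟨G, hG⟩ := this
    exact ⟨qm k G, by rw [← map_mul, mul_comm (X (oth i)) G, hG]⟩
  · rintro ⟨w, hw⟩
    rw [hw, map_mul, br_qm, B_X_oth, zero_mul]

lemma ker_br (i : Fin 2) : RingHom.ker (br k i) = Ideal.span {qm k (X (oth i))} := by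
  ext z
  rw [RingHom.mem_ker, br_eq_zero_iff, Ideal.mem_span_singleton']
  constructor
  · rintro ⟨w, rfl⟩; exact ⟨w, mul_comm _ _⟩
  · rintro ⟨w, rfl⟩; exact ⟨w, mul_comm _ _⟩

/-- annihilator of a variable. -/
lemma ann_var (i : Fin 2) (z : NA k) (hz : qm k (X i) * z = 0) :
    ∃ w, z = qm k (X (oth i)) * w := by
  rw [← br_eq_zero_iff]
  have := congrArg (br k i) hz
  rw [map_mul, br_qm, B_X_same, map_zero] at this
  exact (mul_eq_zero.mp this).resolve_left Polynomial.X_ne_zero

/-- `(x) ∩ (y) = 0`. -/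
lemma var_mul_eq_var_mul (i : Fin 2) (f g : NA k)
    (h : qm k (X i) * f = qm k (X (oth i)) * g) : qm k (X i) * f = 0 := by
  have := congrArg (br k i) h
  rw [map_mul, map_mul, br_qm, br_qm, B_X_same, B_X_oth, zero_mul] at this
  have hf : br k i f = 0 := (mul_eq_zero.mp this).resolve_left Polynomial.X_ne_zero
  obtain ⟨w, rfl⟩ := (br_eq_zero_iff k i f).mp hf
  rw [← mul_assoc, X_mul_X_oth, zero_mul]

/-- `NA/(var (oth i)) ≃ k[X]`. -/
noncomputable def quotEquiv (i : Fin 2) :
    (NA k ⧸ Ideal.span {qm k (X (oth i))}) ≃+* Polynomial k :=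
  (Ideal.quotEquivOfEq (ker_br k i).symm).trans
    (RingHom.quotientKerEquivOfSurjective (br_surjective k i))


/-- the ideal of the origin. -/
noncomputable abbrev mm : Ideal (NA k) := Ideal.span {qm k (X 0), qm k (X 1)}

lemma x_mem_mm : qm k (X 0) ∈ mm k := Ideal.subset_span (Set.mem_insert _ _)
lemma y_mem_mm : qm k (X 1) ∈ mm k := Ideal.subset_span (Set.mem_insert_of_mem _ rfl)

lemma var_mem_mm (i : Fin 2) : qm k (X i) ∈ mm k := by
  fin_cases i
  · exact x_mem_mm k
  · exact y_mem_mm k

/-- evaluation at the origin. -/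
noncomputable def ev0 : NA k →+* k :=
  Ideal.Quotient.lift _ (MvPolynomial.constantCoeff : MvPolynomial (Fin 2) k →+* k) (by
    intro a ha
    rw [Ideal.mem_span_singleton'] at ha
    obtain ⟨c, rfl⟩ := ha
    simp)

lemma ev0_qm (F : MvPolynomial (Fin 2) k) : ev0 k (qm k F) = MvPolynomial.constantCoeff F := rfl

lemma sub_C_mem (F : MvPolynomial (Fin 2) k) :
    qm k F - qm k (C (MvPolynomial.constantCoeff F)) ∈ mm k := by
  induction F using MvPolynomial.induction_on with
  | C a => simp
  | add p q hp hq =>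
    rw [map_add, map_add, map_add, map_add]
    have : qm k p + qm k q - (qm k (C (constantCoeff p)) + qm k (C (constantCoeff q))) =
      (qm k p - qm k (C (constantCoeff p))) + (qm k q - qm k (C (constantCoeff q))) := by ring
    rw [this]; exact add_mem hp hq
  | mul_X p j _ =>
    have : constantCoeff (p * X j) = 0 := by simp
    rw [this, map_zero, map_zero, sub_zero, map_mul]
    exact Ideal.mul_mem_left _ _ (var_mem_mm k j)

lemma ker_ev0 : RingHom.ker (ev0 k) = mm k := by
  apply le_antisymm
  · intro z hz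
    obtain ⟨F, rfl⟩ := Ideal.Quotient.mk_surjective z
    rw [RingHom.mem_ker, ev0_qm] at hz
    have := sub_C_mem k F
    rwa [hz, map_zero, map_zero, sub_zero] at this
  · rw [Ideal.span_le]
    intro z hz
    rcases hz with rfl | rfl
    · simp [ev0_qm]
    · simp [ev0_qm]

lemma ev0_surjective : Function.Surjective (ev0 k) := fun a => ⟨qm k (C a), by simp [ev0_qm]⟩

instance mm_isMaximal : (mm k).IsMaximal := by
  rw [← ker_ev0]
  exact RingHom.ker_isMaximal_of_surjective _ (ev0_surjective k)

lemma length_quot_mm : Module.length (NA k) (NA k ⧸ mm k) = 1 := by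
  rw [Module.length_eq_one_iff, isSimpleModule_iff_isCoatom, ← Ideal.isMaximal_def]
  exact mm_isMaximal k

lemma smul_quot_mm (z : NA k) (hz : z ∈ mm k) (c : NA k ⧸ mm k) : z • c = 0 := by
  obtain ⟨w, rfl⟩ := Ideal.Quotient.mk_surjective c
  show Ideal.Quotient.mk (mm k) (z * w) = 0
  rw [Ideal.Quotient.eq_zero_iff_mem]
  exact Ideal.mul_mem_right _ _ hz

lemma one_ne_zero_quot_mm : (Ideal.Quotient.mk (mm k) 1 : NA k ⧸ mm k) ≠ 0 := by
  rw [Ne, Ideal.Quotient.eq_zero_iff_mem]
  exact (Ideal.ne_top_iff_one _).mp (mm_isMaximal k).ne_top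

end Groth.Agent.Lib.Helper26.NodePoly
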