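import Mathlib
import Groth.Prelude.Def_KZero
import Groth.Agent.Lib.Helper17.K0PID
import Groth.Agent.Lib.Helper26.NodePoly

set_option autoImplicit false
set_option linter.style.haveILetI false
universe u

open CategoryTheory Limits KZero MvPolynomial

namespace Groth.Agent.Lib.Helper26.NodeK0

open Groth.Agent.Lib.Helper17.K0Der (clSub_eq clSub_of_shortExact)
open Groth.Agent.Lib.Helper17.K0PID (Fin' clSub_of_subsingleton clSub_submodule clSub_of_linearEquiv)
open Groth.Agent.Lib.Helper26.NodePoly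

section general

variable {A : Type u} [CommRing A]

/-- additivity of classes along an exact sequence of linear maps. -/
lemma clSub_of_exact {M₁ M₂ M₃ : Type u} [AddCommGroup M₁] [Module A M₁] [AddCommGroup M₂]
    [Module A M₂] [AddCommGroup M₃] [Module A M₃] [Module.Finite A M₁] [Module.Finite A M₂]
    [Module.Finite A M₃] (f : M₁ →ₗ[A] M₂) (g : M₂ →ₗ[A] M₃) (hf : Function.Injective f)
    (hfg : Function.Exact f g) (hg : Function.Surjective g) :
    clSub (Fin' A) (ModuleCat.of A M₂) =
      clSub (Fin' A) (ModuleCat.of A M₁) + clSub (Fin' A) (ModuleCat.of A M₃) := by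
  let S : ShortComplex (ModuleCat.{u} A) :=
    ShortComplex.mk (ModuleCat.ofHom f) (ModuleCat.ofHom g) (by
      ext x
      exact hfg.apply_apply_eq_zero x)
  have hS : S.ShortExact :=
    { exact := by
        rw [ShortComplex.ShortExact.moduleCat_exact_iff_function_exact]
        exact hfg
      mono_f := (ModuleCat.mono_iff_injective _).mpr hf
      epi_g := (ModuleCat.epi_iff_surjective _).mpr hg }
  exact clSub_of_shortExact (Fin' A) S hS
    (show Module.Finite A M₁ from inferInstance) (show Module.Finite A M₂ from inferInstance)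
    (show Module.Finite A M₃ from inferInstance)

variable [IsNoetherianRing A]

/-- if all cyclic modules killed by `t` have class in `ℤ c`, so do all finite modules killed
by `t`. -/
lemma clSub_mem_of_cyclic (t : A) (c : K0sub (Fin' A))
    (hcyc : ∀ I : Ideal A, t ∈ I → ∃ z : ℤ, clSub (Fin' A) (ModuleCat.of A (A ⧸ I)) = z • c) :
    ∀ (n : ℕ) (M : Type u) [AddCommGroup M] [Module A M] (s : Finset M),
    s.card ≤ n → Submodule.span A (s : Set M) = ⊤ → (∀ m : M, t • m = 0) →
    ∃ z : ℤ, clSub (Fin' A) (ModuleCat.of A M) = z • c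
  | 0, M, _, _, s, hs, hspan, _ => by
      have hs0 : s = ∅ := Finset.card_eq_zero.mp (Nat.le_zero.mp hs)
      rw [hs0, Finset.coe_empty, Submodule.span_empty] at hspan
      have : Subsingleton M := by
        rw [← Submodule.subsingleton_iff A]
        exact subsingleton_of_bot_eq_top hspan
      refine ⟨0, ?_⟩
      rw [zero_smul]
      exact clSub_of_subsingleton (show Subsingleton (ModuleCat.of A M) from this)
  | n + 1, M, _, _, s, hs, hspan, ht => by
      classical
      haveI : Module.Finite A M := ⟨⟨s, hspan⟩⟩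
      by_cases hse : s = ∅
      · exact clSub_mem_of_cyclic t c hcyc n M s (by rw [hse]; simp) hspan ht
      obtain ⟨x, hx⟩ := Finset.nonempty_iff_ne_empty.mpr hse
      let N := Submodule.span A {x}
      haveI : Module.Finite A N := Module.Finite.of_fg (IsNoetherian.noetherian N)
      let s' : Finset (M ⧸ N) := (s.erase x).image N.mkQ
      have hs' : s'.card ≤ n := by
        refine Finset.card_image_le.trans ?_
        rw [Finset.card_erase_of_mem hx]
        omega
      have hspan' : Submodule.span A (s' : Set (M ⧸ N)) = ⊤ := by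
        rw [eq_top_iff]
        rintro y -
        obtain ⟨m, rfl⟩ := N.mkQ_surjective y
        have hm : m ∈ Submodule.span A (s : Set M) := by rw [hspan]; trivial
        refine Submodule.span_induction (p := fun m _ => N.mkQ m ∈ Submodule.span A (s' : Set (M ⧸ N)))
          ?_ ?_ ?_ ?_ hm
        · intro z hz
          by_cases hzx : z = x
          · have : N.mkQ z = 0 := by
              rw [hzx]
              exact (Submodule.Quotient.mk_eq_zero N).mpr (Submodule.mem_span_singleton_self x)
            rw [this]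
            exact zero_mem _
          · apply Submodule.subset_span
            exact Finset.mem_coe.mpr (Finset.mem_image.mpr ⟨z, Finset.mem_erase.mpr ⟨hzx, hz⟩, rfl⟩)
        · rw [map_zero]
          exact zero_mem _
        · intro a b _ _ ha hb
          rw [map_add]
          exact add_mem ha hb
        · intro a b _ hb
          rw [map_smul]
          exact Submodule.smul_mem _ _ hb
      -- the cyclic part
      let φ : A →ₗ[A] N := LinearMap.toSpanSingleton A N ⟨x, Submodule.mem_span_singleton_self x⟩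
      have hφ : Function.Surjective φ := by
        rintro ⟨y, hy⟩
        obtain ⟨a, rfl⟩ := Submodule.mem_span_singleton.mp hy
        exact ⟨a, Subtype.ext (by simp [φ])⟩
      have htI : t ∈ (LinearMap.ker φ : Ideal A) := by
        rw [LinearMap.mem_ker]
        apply Subtype.ext
        simp [φ, ht x]
      obtain ⟨k₁, hk₁⟩ := hcyc (LinearMap.ker φ) htI
      have h2 : clSub (Fin' A) (ModuleCat.of A (A ⧸ (LinearMap.ker φ : Ideal A))) =
          clSub (Fin' A) (ModuleCat.of A N) :=
        clSub_of_linearEquiv (φ.quotKerEquivOfSurjective hφ)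
      have ht' : ∀ m : M ⧸ N, t • m = 0 := by
        intro m
        obtain ⟨m, rfl⟩ := N.mkQ_surjective m
        rw [← map_smul, ht m, map_zero]
      obtain ⟨k₂, hk₂⟩ := clSub_mem_of_cyclic t c hcyc n (M ⧸ N) s' hs' hspan' ht'
      refine ⟨k₁ + k₂, ?_⟩
      rw [clSub_submodule N, ← h2, hk₁, hk₂, add_smul]

lemma clSub_mem_of_cyclic' (t : A) (c : K0sub (Fin' A))
    (hcyc : ∀ I : Ideal A, t ∈ I → ∃ z : ℤ, clSub (Fin' A) (ModuleCat.of A (A ⧸ I)) = z • c)
    (M : Type u) [AddCommGroup M] [Module A M] [Module.Finite A M] (ht : ∀ m : M, t • m = 0) :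
    ∃ z : ℤ, clSub (Fin' A) (ModuleCat.of A M) = z • c := by
  obtain ⟨s, hs⟩ := (Module.Finite.fg_top (R := A) (M := M))
  exact clSub_mem_of_cyclic t c hcyc s.card M s le_rfl hs ht

end general


section node

variable (k : Type u) [Field k]

/-- the variable `var i` in `NA k`. -/
noncomputable abbrev var (i : Fin 2) : NA k := qm k (X i)

lemma oth_oth (i : Fin 2) : oth (oth i) = i := by fin_cases i <;> simp [oth]

/-- the class of the branch `A/(var i)`. -/
noncomputable abbrev brCl (i : Fin 2) : K0sub (Fin' (NA k)) :=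
  clSub (Fin' (NA k)) (ModuleCat.of (NA k) (NA k ⧸ Ideal.span {var k i}))

lemma ker_br' (i : Fin 2) : RingHom.ker (br k (oth i)) = Ideal.span {var k i} := by
  rw [ker_br, oth_oth]

lemma cyclic_case (i : Fin 2) (I : Ideal (NA k)) (hI : var k i ∈ I) :
    ∃ z : ℤ, clSub (Fin' (NA k)) (ModuleCat.of (NA k) (NA k ⧸ I)) = z • brCl k i := by
  have hle : Ideal.span {var k i} ≤ I := (Ideal.span_singleton_le_iff_mem _).mpr hI
  -- principal generator of the image
  obtain ⟨gbar, hgbar⟩ := (IsPrincipalIdealRing.principal (Ideal.map (br k (oth i)) I)).principal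
  obtain ⟨g, rfl⟩ := br_surjective k (oth i) gbar
  have hcomap : Ideal.comap (br k (oth i)) (Ideal.map (br k (oth i)) I) = I := by
    rw [Ideal.comap_map_of_surjective _ (br_surjective k (oth i)), ← RingHom.ker_eq_comap_bot,
      ker_br', sup_eq_left.mpr hle]
  have hgI : g ∈ I := by
    rw [← hcomap, Ideal.mem_comap, hgbar]
    exact Ideal.mem_span_singleton_self _
  have hI_eq : ∀ z, z ∈ I ↔ ∃ u v, z = var k i * u + g * v := by
    intro z
    constructor
    · intro hz
      have : br k (oth i) z ∈ Ideal.map (br k (oth i)) I := Ideal.mem_map_of_mem _ hz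
      rw [hgbar, Ideal.mem_span_singleton'] at this
      obtain ⟨hbar, hh⟩ := this
      obtain ⟨h, rfl⟩ := br_surjective k (oth i) hbar
      have h0 : z - g * h ∈ RingHom.ker (br k (oth i)) := by
        rw [RingHom.mem_ker, map_sub, map_mul, ← hh, mul_comm, sub_self]
      rw [ker_br', Ideal.mem_span_singleton'] at h0
      obtain ⟨u, hu⟩ := h0
      exact ⟨u, h, by rw [mul_comm (var k i) u, hu]; ring⟩
    · rintro ⟨u, v, rfl⟩
      exact add_mem (Ideal.mul_mem_right _ _ hI) (Ideal.mul_mem_right _ _ hgI)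
  by_cases hg0 : br k (oth i) g = 0
  · -- `I = (var i)`
    have hIeq : I = Ideal.span {var k i} := by
      apply le_antisymm _ hle
      intro z hz
      obtain ⟨u, v, rfl⟩ := (hI_eq z).mp hz
      have hg' : g ∈ Ideal.span {var k i} := by rw [← ker_br', RingHom.mem_ker]; exact hg0
      exact add_mem (Ideal.mul_mem_right _ _ (Ideal.mem_span_singleton_self _))
        (Ideal.mul_mem_right _ _ hg')
    refine ⟨1, ?_⟩
    rw [one_smul]
    exact clSub_of_linearEquiv (Submodule.quotEquivOfEq _ _ hIeq)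
  · -- `0 → A/(var i) → A/(var i) → A/I → 0`
    refine ⟨0, ?_⟩
    rw [zero_smul]
    let Q := NA k ⧸ Ideal.span {var k i}
    let μ : Q →ₗ[NA k] Q := LinearMap.lsmul (NA k) Q g
    let π : Q →ₗ[NA k] (NA k ⧸ I) :=
      Submodule.mapQ (Ideal.span {var k i}) I LinearMap.id hle
    have hμ : Function.Injective μ := by
      rw [← LinearMap.ker_eq_bot, LinearMap.ker_eq_bot']
      intro q hq
      obtain ⟨z, rfl⟩ := Ideal.Quotient.mk_surjective q
      have h1 : Ideal.Quotient.mk (Ideal.span {var k i}) (g * z) = 0 := hq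
      rw [Ideal.Quotient.eq_zero_iff_mem, ← ker_br', RingHom.mem_ker, map_mul] at h1
      have h2 : br k (oth i) z = 0 := (mul_eq_zero.mp h1).resolve_left hg0
      rw [← RingHom.mem_ker, ker_br'] at h2
      exact (Ideal.Quotient.eq_zero_iff_mem).mpr h2
    have hπ : Function.Surjective π := by
      intro q
      obtain ⟨z, rfl⟩ := Ideal.Quotient.mk_surjective q
      exact ⟨Ideal.Quotient.mk _ z, rfl⟩
    have hex : Function.Exact μ π := by
      intro q
      obtain ⟨z, rfl⟩ := Ideal.Quotient.mk_surjective q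
      constructor
      · intro hq
        have h1 : Ideal.Quotient.mk I z = 0 := hq
        rw [Ideal.Quotient.eq_zero_iff_mem, hI_eq] at h1
        obtain ⟨u, v, rfl⟩ := h1
        refine ⟨Ideal.Quotient.mk _ v, ?_⟩
        show Ideal.Quotient.mk (Ideal.span {var k i}) (g * v) = _
        rw [Ideal.Quotient.eq, Ideal.mem_span_singleton']
        exact ⟨-u, by ring⟩
      · rintro ⟨q', hq'⟩
        obtain ⟨v, rfl⟩ := Ideal.Quotient.mk_surjective q'
        have h1 : Ideal.Quotient.mk (Ideal.span {var k i}) (g * v) =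
            Ideal.Quotient.mk (Ideal.span {var k i}) z := hq'
        show Ideal.Quotient.mk I z = 0
        rw [Ideal.Quotient.eq_zero_iff_mem]
        rw [Ideal.Quotient.eq, Ideal.mem_span_singleton'] at h1
        obtain ⟨u, hu⟩ := h1
        rw [hI_eq]
        exact ⟨-u, v, by linear_combination hu⟩
    have := clSub_of_exact μ π hμ hex hπ
    exact (add_eq_left.mp this.symm)

lemma clSub_killed (i : Fin 2) (M : Type u) [AddCommGroup M] [Module (NA k) M]
    [Module.Finite (NA k) M] (ht : ∀ m : M, var k i • m = 0) :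
    ∃ z : ℤ, clSub (Fin' (NA k)) (ModuleCat.of (NA k) M) = z • brCl k i :=
  clSub_mem_of_cyclic' (var k i) (brCl k i) (cyclic_case k i) M ht

end node


section gen

variable (k : Type u) [Field k]

lemma var0_mul_var1 : var k 0 * var k 1 = 0 := by
  have := X_mul_X_oth k 0
  simpa [oth] using this

lemma clSub_gen (M : Type u) [AddCommGroup M] [Module (NA k) M] [Module.Finite (NA k) M] :
    ∃ z₀ z₁ : ℤ, clSub (Fin' (NA k)) (ModuleCat.of (NA k) M) = z₀ • brCl k 0 + z₁ • brCl k 1 := by
  let N : Submodule (NA k) M := LinearMap.range (LinearMap.lsmul (NA k) M (var k 0))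
  haveI : Module.Finite (NA k) N := Module.Finite.of_fg (IsNoetherian.noetherian N)
  have hN : ∀ n : N, var k 1 • n = 0 := by
    rintro ⟨n, m, rfl⟩
    apply Subtype.ext
    show var k 1 • (var k 0 • m) = 0
    have h10 : var k 1 * var k 0 = 0 := by
      rw [mul_comm (var k 1) (var k 0)]; exact var0_mul_var1 k
    rw [smul_smul, h10]
    exact zero_smul (NA k) m
  have hQ : ∀ q : M ⧸ N, var k 0 • q = 0 := by
    intro q
    obtain ⟨m, rfl⟩ := N.mkQ_surjective q
    rw [← map_smul]
    exact (Submodule.Quotient.mk_eq_zero N).mpr ⟨m, rfl⟩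
  obtain ⟨z₁, h₁⟩ := clSub_killed k 1 N hN
  obtain ⟨z₀, h₀⟩ := clSub_killed k 0 (M ⧸ N) hQ
  refine ⟨z₀, z₁, ?_⟩
  rw [clSub_submodule N, h₁, h₀, add_comm]

end gen


section rank

open TensorProduct

variable (k : Type u) [Field k]

/-- the function field of the branch, as a type synonym carrying an `NA k`-algebra structure. -/
def Kb (_i : Fin 2) : Type u := FractionRing (Polynomial k)

noncomputable instance (i : Fin 2) : Field (Kb k i) :=
  inferInstanceAs (Field (FractionRing (Polynomial k)))

/-- the map `NA k → Kb k i`. -/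
noncomputable def toK (i : Fin 2) : NA k →+* Kb k i :=
  (algebraMap (Polynomial k) (FractionRing (Polynomial k))).comp (br k i)

noncomputable instance (i : Fin 2) : Algebra (NA k) (Kb k i) := (toK k i).toAlgebra

lemma algebraMap_Kb (i : Fin 2) (z : NA k) : algebraMap (NA k) (Kb k i) z = toK k i z := rfl

lemma toK_eq_zero_iff (i : Fin 2) (z : NA k) : toK k i z = 0 ↔ br k i z = 0 := by
  show algebraMap (Polynomial k) (FractionRing (Polynomial k)) (br k i z) = 0 ↔ _
  rw [map_eq_zero_iff _ (IsFractionRing.injective (Polynomial k) (FractionRing (Polynomial k)))]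

lemma toK_var_same (i : Fin 2) : toK k i (var k i) ≠ 0 := by
  rw [Ne, toK_eq_zero_iff, br_qm, B_X_same]
  exact Polynomial.X_ne_zero

lemma toK_var_oth (i : Fin 2) : toK k i (var k (oth i)) = 0 := by
  rw [toK_eq_zero_iff, br_qm, B_X_oth]

instance ker_br_isPrime (i : Fin 2) : (RingHom.ker (br k i)).IsPrime := RingHom.ker_isPrime _

instance isLocalization_Kb (i : Fin 2) :
    IsLocalization (RingHom.ker (br k i)).primeCompl (Kb k i) where
  map_units := by
    rintro ⟨s, hs⟩
    rw [algebraMap_Kb, isUnit_iff_ne_zero, Ne, toK_eq_zero_iff]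
    exact hs
  surj := by
    intro z
    obtain ⟨⟨p, q⟩, hpq⟩ := IsLocalization.surj (S := FractionRing (Polynomial k))
      (nonZeroDivisors (Polynomial k)) (show FractionRing (Polynomial k) from z)
    obtain ⟨a, ha⟩ := br_surjective k i p
    obtain ⟨s, hs⟩ := br_surjective k i q.1
    have hs' : s ∈ (RingHom.ker (br k i)).primeCompl := by
      show ¬ (s ∈ RingHom.ker (br k i))
      rw [RingHom.mem_ker, hs]
      exact nonZeroDivisors.ne_zero q.2
    refine ⟨(a, ⟨s, hs'⟩), ?_⟩
    show (show FractionRing (Polynomial k) from z) *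
        algebraMap (Polynomial k) (FractionRing (Polynomial k)) (br k i s) =
      algebraMap (Polynomial k) (FractionRing (Polynomial k)) (br k i a)
    rw [ha, hs]
    exact hpq
  exists_of_eq := by
    intro a b hab
    have h1 : toK k i (a - b) = 0 := by
      rw [map_sub, sub_eq_zero]; exact hab
    rw [toK_eq_zero_iff, br_eq_zero_iff] at h1
    obtain ⟨w, hw⟩ := h1
    have hv : var k i ∈ (RingHom.ker (br k i)).primeCompl := by
      show ¬ (var k i ∈ RingHom.ker (br k i))
      rw [RingHom.mem_ker, br_qm, B_X_same]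
      exact Polynomial.X_ne_zero
    refine ⟨⟨var k i, hv⟩, ?_⟩
    show var k i * a = var k i * b
    have : var k i * (a - b) = 0 := by
      rw [hw, ← mul_assoc, X_mul_X_oth, zero_mul]
    linear_combination this

instance flat_Kb (i : Fin 2) : Module.Flat (NA k) (Kb k i) :=
  IsLocalization.flat (Kb k i) (RingHom.ker (br k i)).primeCompl



/-- the rank at the generic point of a branch. -/
noncomputable def rkM (i : Fin 2) (M : Type u) [AddCommGroup M] [Module (NA k) M] : ℕ :=
  Module.finrank (Kb k i) (Kb k i ⊗[NA k] M)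

lemma rkM_add (i : Fin 2) {M₁ M₂ M₃ : Type u} [AddCommGroup M₁] [Module (NA k) M₁]
    [AddCommGroup M₂] [Module (NA k) M₂] [AddCommGroup M₃] [Module (NA k) M₃]
    [Module.Finite (NA k) M₁] [Module.Finite (NA k) M₂] [Module.Finite (NA k) M₃]
    (f : M₁ →ₗ[NA k] M₂) (g : M₂ →ₗ[NA k] M₃) (hf : Function.Injective f)
    (hfg : Function.Exact f g) (hg : Function.Surjective g) :
    rkM k i M₂ = rkM k i M₁ + rkM k i M₃ := by
  let f' : Kb k i ⊗[NA k] M₁ →ₗ[Kb k i] Kb k i ⊗[NA k] M₂ := f.baseChange (Kb k i)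
  let g' : Kb k i ⊗[NA k] M₂ →ₗ[Kb k i] Kb k i ⊗[NA k] M₃ := g.baseChange (Kb k i)
  have hf' : Function.Injective f' :=
    Module.Flat.lTensor_preserves_injective_linearMap (M := Kb k i) f hf
  have hg' : Function.Surjective g' := LinearMap.lTensor_surjective (Kb k i) hg
  have hex : Function.Exact f' g' := lTensor_exact (Kb k i) hfg hg
  have h1 := LinearMap.finrank_range_add_finrank_ker g'
  have h2 : LinearMap.range g' = ⊤ := LinearMap.range_eq_top.mpr hg'
  have h3 : LinearMap.ker g' = LinearMap.range f' := (LinearMap.exact_iff.mp hex)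
  have h4 : Module.finrank (Kb k i) (LinearMap.range f') =
      Module.finrank (Kb k i) (Kb k i ⊗[NA k] M₁) :=
    (LinearEquiv.ofInjective f' hf').finrank_eq.symm
  rw [h2, finrank_top, h3, h4] at h1
  unfold rkM
  omega



lemma rkM_add_ses (i : Fin 2) (S : ShortComplex (ModuleCat.{u} (NA k))) (hS : S.ShortExact)
    (h₁ : Fin' (NA k) S.X₁) (h₂ : Fin' (NA k) S.X₂) (h₃ : Fin' (NA k) S.X₃) :
    rkM k i S.X₂ = rkM k i S.X₁ + rkM k i S.X₃ := by
  haveI : Module.Finite (NA k) S.X₁ := h₁
  haveI : Module.Finite (NA k) S.X₂ := h₂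
  haveI : Module.Finite (NA k) S.X₃ := h₃
  exact rkM_add k i S.f.hom S.g.hom hS.moduleCat_injective_f
    ((ShortComplex.ShortExact.moduleCat_exact_iff_function_exact S).mp hS.exact)
    hS.moduleCat_surjective_g

/-- the rank homomorphism. -/
noncomputable def rkHom (i : Fin 2) : K0sub (Fin' (NA k)) →+ ℤ :=
  QuotientAddGroup.lift (relSub (Fin' (NA k)))
    (FreeAbelianGroup.lift (fun X : Subtype (Fin' (NA k)) => (rkM k i X.1 : ℤ)))
    (by
      rw [relSub, AddSubgroup.closure_le]
      rintro x ⟨S, h₁, h₂, h₃, hS, rfl⟩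
      rw [SetLike.mem_coe, AddMonoidHom.mem_ker, map_sub, map_sub,
        FreeAbelianGroup.lift_apply_of, FreeAbelianGroup.lift_apply_of,
        FreeAbelianGroup.lift_apply_of]
      dsimp only
      rw [rkM_add_ses k i S hS h₁ h₂ h₃]
      push_cast
      ring)

lemma rkHom_clSub (i : Fin 2) (M : ModuleCat.{u} (NA k)) (hM : Fin' (NA k) M) :
    rkHom k i (clSub (Fin' (NA k)) M) = rkM k i M := by
  rw [clSub_eq (Fin' (NA k)) hM]
  exact (QuotientAddGroup.lift_mk _ _ _).trans (FreeAbelianGroup.lift_apply_of _ _)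

/-- every element of `K ⊗ A/I` is a multiple of `1 ⊗ 1`. -/
lemma tensor_quot_cyclic (i : Fin 2) (I : Ideal (NA k)) (w : Kb k i ⊗[NA k] (NA k ⧸ I)) :
    ∃ c : Kb k i, c • ((1 : Kb k i) ⊗ₜ[NA k] (Ideal.Quotient.mk I 1 : NA k ⧸ I)) = w := by
  induction w using TensorProduct.induction_on with
  | zero => exact ⟨0, zero_smul _ _⟩
  | tmul c q =>
    obtain ⟨z, rfl⟩ := Ideal.Quotient.mk_surjective q
    refine ⟨c * toK k i z, ?_⟩
    rw [TensorProduct.smul_tmul', smul_eq_mul, mul_one]
    have h1 : (Ideal.Quotient.mk I z : NA k ⧸ I) = z • (Ideal.Quotient.mk I 1 : NA k ⧸ I) := by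
      show _ = Ideal.Quotient.mk I (z * 1)
      rw [mul_one]
    rw [h1]
    have h2 := TensorProduct.smul_tmul (R := NA k) (R' := NA k) z c
      (Ideal.Quotient.mk I 1 : NA k ⧸ I)
    have h3 : c * toK k i z = z • c := by
      rw [Algebra.smul_def, algebraMap_Kb, mul_comm]
    rw [h3]
    exact h2
  | add a b ha hb =>
    obtain ⟨c, rfl⟩ := ha
    obtain ⟨d, rfl⟩ := hb
    exact ⟨c + d, add_smul _ _ _⟩

lemma rkM_quot_le_one (i : Fin 2) (I : Ideal (NA k)) : rkM k i (NA k ⧸ I) ≤ 1 :=
  finrank_le_one _ (tensor_quot_cyclic k i I)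

/-- if `I` contains an element that is invertible in `K`, the rank of `A/I` is zero. -/
lemma rkM_quot_eq_zero (i : Fin 2) (I : Ideal (NA k)) (s : NA k) (hs : s ∈ I)
    (hs' : toK k i s ≠ 0) : rkM k i (NA k ⧸ I) = 0 := by
  have h0 : ((1 : Kb k i) ⊗ₜ[NA k] (Ideal.Quotient.mk I 1 : NA k ⧸ I)) = 0 := by
    have h1 : (1 : Kb k i) = s • (toK k i s)⁻¹ := by
      rw [Algebra.smul_def, algebraMap_Kb, mul_inv_cancel₀ hs']
    have h2 : s • (Ideal.Quotient.mk I 1 : NA k ⧸ I) = 0 := by
      show Ideal.Quotient.mk I (s * 1) = 0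
      rw [mul_one, Ideal.Quotient.eq_zero_iff_mem]; exact hs
    have h3 := TensorProduct.smul_tmul (R := NA k) (R' := NA k) s ((toK k i s)⁻¹ : Kb k i)
      (Ideal.Quotient.mk I 1 : NA k ⧸ I)
    rw [h1]
    refine h3.trans ?_
    rw [h2, TensorProduct.tmul_zero]
  have : Subsingleton (Kb k i ⊗[NA k] (NA k ⧸ I)) := by
    refine ⟨fun a b => ?_⟩
    obtain ⟨c, rfl⟩ := tensor_quot_cyclic k i I a
    obtain ⟨d, rfl⟩ := tensor_quot_cyclic k i I b
    rw [h0, smul_zero, smul_zero]
  exact Module.finrank_zero_of_subsingleton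

/-- if `I` maps to zero in `K`, the rank of `A/I` is one. -/
lemma rkM_quot_eq_one (i : Fin 2) (I : Ideal (NA k)) (hI : ∀ s ∈ I, toK k i s = 0) :
    rkM k i (NA k ⧸ I) = 1 := by
  apply le_antisymm (rkM_quot_le_one k i I)
  let ψ : (NA k ⧸ I) →ₗ[NA k] Kb k i :=
    Submodule.liftQ I (Algebra.linearMap (NA k) (Kb k i)) (by
      intro s hs
      rw [LinearMap.mem_ker, Algebra.linearMap_apply, algebraMap_Kb]
      exact hI s hs)
  let φ : Kb k i ⊗[NA k] (NA k ⧸ I) →ₗ[Kb k i] Kb k i := ψ.liftBaseChange (Kb k i)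
  have hφ : φ ((1 : Kb k i) ⊗ₜ[NA k] (Ideal.Quotient.mk I 1 : NA k ⧸ I)) = 1 := by
    show (1 : Kb k i) • ψ (Ideal.Quotient.mk I 1) = 1
    rw [one_smul]
    show algebraMap (NA k) (Kb k i) 1 = 1
    exact map_one _
  have hne : ((1 : Kb k i) ⊗ₜ[NA k] (Ideal.Quotient.mk I 1 : NA k ⧸ I)) ≠ 0 := by
    intro h
    rw [h, map_zero] at hφ
    exact zero_ne_one hφ
  haveI : Module.Finite (Kb k i) (Kb k i ⊗[NA k] (NA k ⧸ I)) := inferInstance
  exact Nat.succ_le_of_lt (Module.finrank_pos_iff_exists_ne_zero.mpr ⟨_, hne⟩)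

lemma rkM_branch_same (i : Fin 2) : rkM k i (NA k ⧸ Ideal.span {var k i}) = 0 :=
  rkM_quot_eq_zero k i _ (var k i) (Ideal.mem_span_singleton_self _) (toK_var_same k i)

lemma rkM_branch_oth (i : Fin 2) : rkM k i (NA k ⧸ Ideal.span {var k (oth i)}) = 1 := by
  apply rkM_quot_eq_one
  intro s hs
  rw [Ideal.mem_span_singleton'] at hs
  obtain ⟨w, rfl⟩ := hs
  rw [map_mul, toK_var_oth, mul_zero]

end rank


section main

variable (k : Type u) [Field k]

lemma fin_branch (i : Fin 2) :
    Fin' (NA k) (ModuleCat.of (NA k) (NA k ⧸ Ideal.span {var k i})) :=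
  show Module.Finite (NA k) (NA k ⧸ Ideal.span {var k i}) from inferInstance

lemma rkHom_brCl_same (i : Fin 2) : rkHom k i (brCl k i) = 0 := by
  rw [brCl, rkHom_clSub k i _ (fin_branch k i)]
  exact_mod_cast rkM_branch_same k i

lemma rkHom_brCl_oth (i : Fin 2) : rkHom k i (brCl k (oth i)) = 1 := by
  rw [brCl, rkHom_clSub k i _ (fin_branch k (oth i))]
  exact_mod_cast rkM_branch_oth k i

theorem main : Function.Bijective (fun p : ℤ × ℤ => p.1 • brCl k 0 + p.2 • brCl k 1) := by
  have h01 : oth (0 : Fin 2) = 1 := by simp [oth]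
  have h10 : oth (1 : Fin 2) = 0 := by simp [oth]
  constructor
  · rintro ⟨a, b⟩ ⟨c, d⟩ h
    simp only at h
    have e0 := congrArg (rkHom k 0) h
    have e1 := congrArg (rkHom k 1) h
    have r00 := rkHom_brCl_same k 0
    have r01 := rkHom_brCl_oth k 0
    have r11 := rkHom_brCl_same k 1
    have r10 := rkHom_brCl_oth k 1
    rw [h01] at r01
    rw [h10] at r10
    simp only [map_add, map_zsmul, r00, r01, r11, r10, smul_eq_mul, mul_zero, mul_one,
      zero_add, add_zero] at e0 e1
    rw [e0, e1]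
  · intro x
    induction x using QuotientAddGroup.induction_on with
    | H x =>
      induction x using FreeAbelianGroup.induction_on with
      | zero => exact ⟨(0, 0), by simp⟩
      | of X =>
        have h2 : ((FreeAbelianGroup.of X : FreeAbelianGroup (Subtype (Fin' (NA k)))) :
            K0sub (Fin' (NA k))) = clSub (Fin' (NA k)) X.1 := (clSub_eq (Fin' (NA k)) X.2).symm
        haveI : Module.Finite (NA k) X.1 := X.2
        obtain ⟨z₀, z₁, hz⟩ := clSub_gen k X.1
        exact ⟨(z₀, z₁), by rw [h2]; exact hz.symm⟩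
      | neg X hX =>
        obtain ⟨⟨a, b⟩, hab⟩ := hX
        refine ⟨(-a, -b), ?_⟩
        simp only at hab ⊢
        rw [QuotientAddGroup.mk_neg, ← hab, neg_smul, neg_smul, neg_add]
      | add x y hx hy =>
        obtain ⟨⟨a, b⟩, hab⟩ := hx
        obtain ⟨⟨c, d⟩, hcd⟩ := hy
        refine ⟨(a + c, b + d), ?_⟩
        simp only at hab hcd ⊢
        rw [QuotientAddGroup.mk_add, ← hab, ← hcd, add_smul, add_smul]
        abel

end main

end Groth.Agent.Lib.Helper26.NodeK0
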