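import Mathlib

/-!
# Normal surface singularities: reduced principal divisors (helper26)

For a Noetherian normal local domain `R` of dimension 2 and finitely many height one primes,
there is a nonzero `f` in all of them with `R/f` reduced (`exists_reduced`).
Also: localization at height one primes is a DVR, `ord`, unmixedness of principal ideals
(`mem_span_of_forall_ord_le`), reducedness criterion.
-/

set_option autoImplicit false
set_option linter.style.haveILetI false
set_option linter.unusedSectionVars false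

namespace Groth.Agent.Lib.Helper26.NormalSurf

open IsLocalRing

section Local

variable {L : Type*} [CommRing L] [IsDomain L] [IsNoetherianRing L] [IsLocalRing L]
  [IsIntegrallyClosed L]

/-- Key dichotomy in an integrally closed Noetherian local domain: if `b • m ⊆ (f)` and
`b ∉ (f)`, then `m` is principal. -/
theorem maximalIdeal_isPrincipal_of_colon (f b : L) (hf : f ≠ 0) (hb : ¬ f ∣ b)
    (hm : ∀ t ∈ maximalIdeal L, f ∣ b * t) (hm0 : maximalIdeal L ≠ ⊥) :
    (maximalIdeal L).IsPrincipal := by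
  by_cases h : ∀ t ∈ maximalIdeal L, ∀ u, b * t = f * u → u ∈ maximalIdeal L
  · exfalso
    let K := FractionRing L
    have hinj : Function.Injective (algebraMap L K) := IsFractionRing.injective L K
    have hfK : algebraMap L K f ≠ 0 := by
      intro h0; exact hf (hinj (by rw [h0, map_zero]))
    set x : K := algebraMap L K b / algebraMap L K f with hx
    let N : Submodule L K := Submodule.map (Algebra.linearMap L K) (maximalIdeal L)
    have hN : N ≠ ⊥ := by
      obtain ⟨t, ht, ht0⟩ := Submodule.exists_mem_ne_zero_of_ne_bot hm0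
      intro hbot
      have : algebraMap L K t ∈ N := ⟨t, ht, rfl⟩
      rw [hbot, Submodule.mem_bot] at this
      exact ht0 (hinj (by rw [this, map_zero]))
    have hNfg : N.FG := Submodule.FG.map _ (IsNoetherian.noetherian _)
    have hstab : ∀ n ∈ N, x • n ∈ N := by
      rintro n ⟨t, ht, rfl⟩
      obtain ⟨u, hu⟩ := hm t ht
      refine ⟨u, h t ht u hu, ?_⟩
      simp only [Algebra.linearMap_apply, smul_eq_mul, hx]
      have := congrArg (algebraMap L K) hu
      rw [map_mul, map_mul] at this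
      rw [div_mul_eq_mul_div, this, mul_div_assoc, mul_div_cancel₀ _ hfK]
    have hint : IsIntegral L x := isIntegral_of_smul_mem_submodule N hN hNfg x hstab
    obtain ⟨w, hw⟩ := IsIntegrallyClosed.isIntegral_iff.mp hint
    apply hb
    refine ⟨w, hinj ?_⟩
    rw [map_mul, hw, hx, mul_div_cancel₀ _ hfK]
  · push Not at h
    obtain ⟨t, ht, u, hu, hum⟩ := h
    have huu : IsUnit u := by
      by_contra hnu
      exact hum ((IsLocalRing.mem_maximalIdeal u).mpr hnu)
    refine ⟨⟨t, le_antisymm ?_ ?_⟩⟩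
    · intro c hc
      obtain ⟨v, hv⟩ := hm c hc
      obtain ⟨u', rfl⟩ := huu
      rw [Ideal.submodule_span_eq, Ideal.mem_span_singleton]
      refine ⟨v * ↑u'⁻¹, ?_⟩
      have h1 : f * (↑u' * c) = f * (t * v) := by
        calc f * (↑u' * c) = (f * ↑u') * c := by ring
          _ = (b * t) * c := by rw [hu]
          _ = t * (b * c) := by ring
          _ = t * (f * v) := by rw [hv]
          _ = f * (t * v) := by ring
      have h2 : ↑u' * c = t * v := mul_left_cancel₀ hf h1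
      calc c = ↑u'⁻¹ * (↑u' * c) := by rw [← mul_assoc, Units.inv_mul, one_mul]
        _ = ↑u'⁻¹ * (t * v) := by rw [h2]
        _ = t * (v * ↑u'⁻¹) := by ring
    · rw [Ideal.submodule_span_eq, Ideal.span_singleton_le_iff_mem]
      exact ht

end Local

section Global

variable {R : Type*} [CommRing R] [IsDomain R] [IsNoetherianRing R] [IsIntegrallyClosed R]

theorem height_le_one_of_colon (P : Ideal R) [P.IsPrime] (f b : R) (hf : f ≠ 0)
    (hP : ∀ r, r ∈ P ↔ f ∣ r * b) : P.height ≤ 1 := by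
  set L := Localization.AtPrime P
  have hinj : Function.Injective (algebraMap R L) :=
    IsLocalization.injective L P.primeCompl_le_nonZeroDivisors
  haveI : IsIntegrallyClosed L :=
    isIntegrallyClosed_of_isLocalization L P.primeCompl P.primeCompl_le_nonZeroDivisors
  have hfP : f ∈ P := (hP f).mpr ⟨b, rfl⟩
  have h1 : ¬ algebraMap R L f ∣ algebraMap R L b := by
    rintro ⟨w, hw⟩
    obtain ⟨r, s, rfl⟩ := IsLocalization.exists_mk'_eq P.primeCompl w
    have h3 : algebraMap R L (b * s) = algebraMap R L (f * r) := by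
      rw [map_mul, map_mul, hw, mul_assoc, IsLocalization.mk'_spec]
    have h4 := hinj h3
    exact s.2 ((hP s).mpr ⟨r, by rw [mul_comm]; exact h4⟩)
  have h2 : ∀ t ∈ maximalIdeal L, algebraMap R L f ∣ algebraMap R L b * t := by
    intro t ht
    obtain ⟨c, s, rfl⟩ := IsLocalization.exists_mk'_eq P.primeCompl t
    have hc : c ∈ P := (IsLocalization.AtPrime.mk'_mem_maximal_iff L P c s).mp ht
    obtain ⟨d, hd⟩ := (hP c).mp hc
    refine ⟨IsLocalization.mk' L d s, ?_⟩
    rw [IsLocalization.mul_mk'_eq_mk'_of_mul, IsLocalization.mul_mk'_eq_mk'_of_mul, mul_comm b c, hd]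
  have hf0 : algebraMap R L f ≠ 0 := by
    intro h0; exact hf (hinj (by rw [h0, map_zero]))
  have hm0 : maximalIdeal L ≠ ⊥ := by
    intro hbot
    have : algebraMap R L f ∈ maximalIdeal L :=
      (IsLocalization.AtPrime.to_map_mem_maximal_iff L P f).mpr hfP
    rw [hbot, Ideal.mem_bot] at this
    exact hf0 this
  haveI := maximalIdeal_isPrincipal_of_colon _ _ hf0 h1 h2 hm0
  have h5 := Ideal.height_le_one_of_isPrincipal_of_mem_minimalPrimes_of_isLocalRing
    (maximalIdeal L) ⟨⟨inferInstance, le_rfl⟩, fun q hq _ => hq.2⟩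
  have h6 : ((maximalIdeal L).height : WithBot ℕ∞) = (P.height : WithBot ℕ∞) := by
    rw [IsLocalRing.maximalIdeal_height_eq_ringKrullDim,
      IsLocalization.AtPrime.ringKrullDim_eq_height P L]
  have h7 : (maximalIdeal L).height = P.height := by exact_mod_cast h6
  rw [← h7]; exact h5

theorem isDVR_of_height_one (q : Ideal R) [q.IsPrime] (hq : q.height = 1) :
    IsDiscreteValuationRing (Localization.AtPrime q) := by
  set L := Localization.AtPrime q
  haveI : IsIntegrallyClosed L :=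
    isIntegrallyClosed_of_isLocalization L q.primeCompl q.primeCompl_le_nonZeroDivisors
  have hdim : ringKrullDim L = 1 := by
    rw [IsLocalization.AtPrime.ringKrullDim_eq_height q L, hq]; rfl
  have hnf : ¬ IsField L := by
    intro hF
    have := ringKrullDim_eq_zero_of_isField hF
    rw [hdim] at this
    exact one_ne_zero this
  haveI : Ring.KrullDimLE 1 L := Ring.krullDimLE_iff.mpr (by rw [hdim]; rfl)
  have key : IsIntegrallyClosed L ∧ ∃! P : Ideal L, P ≠ ⊥ ∧ P.IsPrime := by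
    refine ⟨inferInstance, maximalIdeal L,
      ⟨fun h => hnf (IsLocalRing.isField_iff_maximalIdeal_eq.mpr h), inferInstance⟩, ?_⟩
    rintro P' ⟨hP0, hPp⟩
    exact IsLocalRing.eq_maximalIdeal (Ideal.IsPrime.isMaximal_of_ne_bot hPp hP0)
  exact ((IsDiscreteValuationRing.TFAE L hnf).out 0 3).mpr key

/-- height one primes -/
def H1 (q : Ideal R) : Prop := q.IsPrime ∧ q.height = 1

/-- order of vanishing along a height one prime -/
noncomputable def ord (q : Ideal R) (hq : H1 q) (a : R) : ℕ∞ :=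
  haveI := hq.1
  haveI := isDVR_of_height_one q hq.2
  IsDiscreteValuationRing.addVal (Localization.AtPrime q) (algebraMap R (Localization.AtPrime q) a)

variable (q : Ideal R) (hq : H1 q)

theorem ord_mul (a b : R) : ord q hq (a * b) = ord q hq a + ord q hq b := by
  haveI := hq.1
  haveI := isDVR_of_height_one q hq.2
  unfold ord
  rw [map_mul, IsDiscreteValuationRing.addVal_mul]

theorem ord_pow (a : R) (n : ℕ) : ord q hq (a ^ n) = n • ord q hq a := by
  haveI := hq.1
  haveI := isDVR_of_height_one q hq.2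
  unfold ord
  rw [map_pow, IsDiscreteValuationRing.addVal_pow]

theorem ord_add (a b : R) : min (ord q hq a) (ord q hq b) ≤ ord q hq (a + b) := by
  haveI := hq.1
  haveI := isDVR_of_height_one q hq.2
  unfold ord
  rw [map_add]
  exact IsDiscreteValuationRing.addVal_add

theorem ord_eq_top_iff (a : R) : ord q hq a = ⊤ ↔ a = 0 := by
  haveI := hq.1
  haveI := isDVR_of_height_one q hq.2
  unfold ord
  rw [IsDiscreteValuationRing.addVal_eq_top_iff]
  constructor
  · intro h
    exact IsLocalization.injective (Localization.AtPrime q) q.primeCompl_le_nonZeroDivisors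
      (by rw [h, map_zero])
  · rintro rfl; exact map_zero _

theorem ord_eq_zero_iff (a : R) : ord q hq a = 0 ↔ a ∉ q := by
  haveI := hq.1
  haveI := isDVR_of_height_one q hq.2
  unfold ord
  rw [IsDiscreteValuationRing.addVal_eq_zero_iff,
    IsLocalization.AtPrime.isUnit_to_map_iff (Localization.AtPrime q) q a]
  rfl

theorem one_le_ord_iff (a : R) : 1 ≤ ord q hq a ↔ a ∈ q := by
  rw [Order.one_le_iff_ne_zero, Ne, ord_eq_zero_iff, not_not]

theorem ord_le_of_dvd {f c : R} (h : f ∣ c) : ord q hq f ≤ ord q hq c := by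
  obtain ⟨k, rfl⟩ := h
  rw [ord_mul]
  exact le_self_add

theorem exists_of_ord_le {f a : R} (h : ord q hq f ≤ ord q hq a) : ∃ s, s ∉ q ∧ f ∣ s * a := by
  haveI := hq.1
  haveI := isDVR_of_height_one q hq.2
  unfold ord at h
  rw [IsDiscreteValuationRing.addVal_le_iff_dvd] at h
  obtain ⟨w, hw⟩ := h
  obtain ⟨r, s, rfl⟩ := IsLocalization.exists_mk'_eq q.primeCompl w
  have h3 : algebraMap R (Localization.AtPrime q) (a * s) =
      algebraMap R (Localization.AtPrime q) (f * r) := by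
    rw [map_mul, map_mul, hw, mul_assoc, IsLocalization.mk'_spec]
  have h4 := IsLocalization.injective (Localization.AtPrime q) q.primeCompl_le_nonZeroDivisors h3
  exact ⟨s, s.2, r, by rw [mul_comm]; exact h4⟩

theorem exists_ord_eq_one : ∃ π, π ∈ q ∧ ord q hq π = 1 := by
  haveI := hq.1
  haveI := isDVR_of_height_one q hq.2
  obtain ⟨ϖ, hϖ⟩ := IsDiscreteValuationRing.exists_irreducible (Localization.AtPrime q)
  obtain ⟨a, s, rfl⟩ := IsLocalization.exists_mk'_eq q.primeCompl ϖ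
  have h1 : ord q hq a = 1 := by
    have h2 : ord q hq (s : R) = 0 := (ord_eq_zero_iff q hq _).mpr s.2
    have h3 : algebraMap R (Localization.AtPrime q) a =
        IsLocalization.mk' (Localization.AtPrime q) a s * algebraMap R _ (s : R) :=
      (IsLocalization.mk'_spec _ _ _).symm
    unfold ord at h2 ⊢
    rw [h3, IsDiscreteValuationRing.addVal_mul, h2, add_zero,
      IsDiscreteValuationRing.addVal_uniformizer hϖ]
  exact ⟨a, (one_le_ord_iff q hq a).mp h1.ge, h1⟩

omit q hq in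
/-- unmixedness of principal ideals in a normal Noetherian domain -/
theorem mem_span_of_forall_ord_le (f a : R) (hf : f ≠ 0)
    (h : ∀ (q : Ideal R) (hq : H1 q), f ∈ q → ord q hq f ≤ ord q hq a) :
    a ∈ Ideal.span {f} := by
  by_contra ha
  have hx : (Ideal.Quotient.mk (Ideal.span {f}) a : R ⧸ Ideal.span {f}) ≠ 0 := by
    rwa [Ne, Ideal.Quotient.eq_zero_iff_mem]
  obtain ⟨P, hP, hle⟩ := exists_le_isAssociatedPrime_of_isNoetherianRing R _ hx
  obtain ⟨hPp, z, hz⟩ := isAssociatedPrime_iff.mp hP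
  obtain ⟨b, rfl⟩ := Ideal.Quotient.mk_surjective z
  have hmem : ∀ r, r ∈ P ↔ f ∣ r * b := by
    intro r
    rw [hz, Submodule.mem_colon_singleton, Submodule.mem_bot, Algebra.smul_def,
      Ideal.Quotient.algebraMap_eq, ← map_mul, Ideal.Quotient.eq_zero_iff_mem,
      Ideal.mem_span_singleton]
  have hfP : f ∈ P := (hmem f).mpr ⟨b, rfl⟩
  have hht : P.height = 1 := by
    refine le_antisymm (height_le_one_of_colon P f b hf hmem) ?_
    rw [Order.one_le_iff_ne_zero, Ne, Ideal.height_eq_zero_iff_eq_bot]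
    rintro rfl
    exact hf ((Ideal.mem_bot).mp hfP)
  have hq : H1 P := ⟨hPp, hht⟩
  obtain ⟨s, hsP, hs⟩ := exists_of_ord_le P hq (h P hq hfP)
  apply hsP
  apply hle
  rw [Submodule.mem_colon_singleton, Submodule.mem_bot, Algebra.smul_def,
    Ideal.Quotient.algebraMap_eq, ← map_mul, Ideal.Quotient.eq_zero_iff_mem,
    Ideal.mem_span_singleton]
  exact hs

omit q hq in
theorem isReduced_quotient_of_forall_ord_eq_one (f : R) (hf : f ≠ 0)
    (h : ∀ (q : Ideal R) (hq : H1 q), f ∈ q → ord q hq f = 1) :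
    IsReduced (R ⧸ Ideal.span {f}) := by
  rw [← Ideal.isRadical_iff_quotient_reduced]
  intro a ha
  obtain ⟨n, hn⟩ := ha
  refine mem_span_of_forall_ord_le f a hf fun q hq hfq => ?_
  rw [h q hq hfq]
  have h1 : ord q hq f ≤ ord q hq (a ^ n) := ord_le_of_dvd q hq (Ideal.mem_span_singleton.mp hn)
  rw [h q hq hfq, ord_pow] at h1
  rw [Order.one_le_iff_ne_zero]
  intro h0
  rw [h0, smul_zero] at h1
  exact absurd h1 (by simp)

end Global

section Surface

variable {R : Type*} [CommRing R] [IsDomain R] [IsNoetherianRing R] [IsIntegrallyClosed R]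

theorem H1.eq_of_le {q q' : Ideal R} (hq : H1 q) (hq' : H1 q') (h : q ≤ q') : q = q' := by
  haveI := hq.1; haveI := hq'.1
  by_contra hne
  have hlt : q < q' := lt_of_le_of_ne h hne
  have h1 := Ideal.height_strict_mono_of_isPrime_of_isPrime hlt
  rw [hq.2, hq'.2] at h1
  exact lt_irrefl _ h1

/-- the set of height one primes containing `f` -/
def Z (f : R) : Set (Ideal R) := {q | H1 q ∧ f ∈ q}

theorem Z_subset (f : R) (hf : f ≠ 0) : Z f ⊆ (Ideal.span {f}).minimalPrimes := by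
  rintro q ⟨hq, hfq⟩
  haveI := hq.1
  refine Ideal.mem_minimalPrimes_of_height_le ((Ideal.span_singleton_le_iff_mem _).mpr hfq) ?_
  rw [hq.2]
  exact Ideal.one_le_height_span_singleton_of_mem_nonZeroDivisors
    (mem_nonZeroDivisors_of_ne_zero hf)

theorem Z_finite (f : R) (hf : f ≠ 0) : (Z f).Finite :=
  (Ideal.finite_minimalPrimes_of_isNoetherianRing R _).subset (Z_subset f hf)

theorem exists_mem_Z_le (f : R) (hf : f ≠ 0) (P : Ideal R) [P.IsPrime] (hfP : f ∈ P) :
    ∃ q ∈ Z f, q ≤ P := by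
  obtain ⟨q, hq, hqP⟩ :=
    Ideal.exists_minimalPrimes_le ((Ideal.span_singleton_le_iff_mem (I := P)).mpr hfP)
  haveI := hq.isPrime
  have hfq : f ∈ q := hq.1.2 (Ideal.mem_span_singleton_self f)
  refine ⟨q, ⟨⟨hq.isPrime, le_antisymm
    (Ideal.height_le_one_of_isPrincipal_of_mem_minimalPrimes _ q hq) ?_⟩, hfq⟩, hqP⟩
  rw [Order.one_le_iff_ne_zero, Ne, Ideal.height_eq_zero_iff_eq_bot]
  rintro rfl
  exact hf (Ideal.mem_bot.mp hfq)

variable [IsLocalRing R]

theorem H1.ne_maximalIdeal (hdim : ringKrullDim R = 2) {q : Ideal R} (hq : H1 q) :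
    q ≠ maximalIdeal R := by
  rintro rfl
  have h1 : ((maximalIdeal R).height : WithBot ℕ∞) = ringKrullDim R :=
    IsLocalRing.maximalIdeal_height_eq_ringKrullDim
  rw [hq.2, hdim] at h1
  exact absurd h1 (by decide)

theorem exists_avoid (hdim : ringKrullDim R = 2) (f0 : R) (hf0 : f0 ≠ 0) :
    ∃ y ∈ maximalIdeal R, ∀ q ∈ Z f0, y ∉ q := by
  classical
  by_contra hcon
  push Not at hcon
  set S := (Z_finite f0 hf0).toFinset with hS
  have hsub : ((maximalIdeal R : Ideal R) : Set R) ⊆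
      ⋃ i ∈ (↑S : Set (Ideal R)), ((fun i => i) i : Ideal R) := by
    intro y hy
    obtain ⟨q, hq, hyq⟩ := hcon y hy
    simp only [Set.mem_iUnion]
    exact ⟨q, by simpa [hS] using hq, hyq⟩
  obtain ⟨q, hqS, hmq⟩ := (Ideal.subset_union_prime (f := fun i : Ideal R => i) ⊥ ⊥
    (fun i hi _ _ => by
      have : i ∈ Z f0 := by simpa [hS] using hi
      exact this.1.1)).mp hsub
  have hqZ : q ∈ Z f0 := by simpa [hS] using hqS
  haveI := hqZ.1.1
  exact hqZ.1.ne_maximalIdeal hdim
    (le_antisymm (IsLocalRing.le_maximalIdeal hqZ.1.1.ne_top) hmq)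

theorem isArtinianRing_quotient (hdim : ringKrullDim R = 2) (f0 y : R) (hf0 : f0 ≠ 0)
    (hy : ∀ q ∈ Z f0, y ∉ q) : IsArtinianRing (R ⧸ Ideal.span {f0, y}) := by
  haveI : FiniteRingKrullDim R := by
    rw [finiteRingKrullDim_iff_ne_bot_and_top, hdim]
    exact ⟨by decide, by decide⟩
  haveI : Ring.KrullDimLE 0 (R ⧸ Ideal.span {f0, y}) := by
    rw [Ring.krullDimLE_zero_iff]
    intro P' hP'
    have hsurj : Function.Surjective (Ideal.Quotient.mk (Ideal.span {f0, y})) :=
      Ideal.Quotient.mk_surjective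
    set P := P'.comap (Ideal.Quotient.mk (Ideal.span {f0, y})) with hPdef
    haveI : P.IsPrime := Ideal.comap_isPrime _ _
    have hJP : Ideal.span {f0, y} ≤ P := by
      intro x hx
      rw [hPdef, Ideal.mem_comap, Ideal.Quotient.eq_zero_iff_mem.mpr hx]
      exact zero_mem _
    have hf0P : f0 ∈ P := hJP (Ideal.subset_span (by simp))
    have hyP : y ∈ P := hJP (Ideal.subset_span (by simp))
    obtain ⟨q, hqZ, hqP⟩ := exists_mem_Z_le f0 hf0 P hf0P
    haveI := hqZ.1.1
    have hlt : q < P := lt_of_le_of_ne hqP (fun h => hy q hqZ (h ▸ hyP))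
    have h2 : q.height + 1 ≤ P.height := Ideal.height_add_one_le_of_lt_of_isPrime hlt
    rw [hqZ.1.2] at h2
    have hPm : P = maximalIdeal R := by
      rw [← Ideal.height_eq_ringKrullDim_iff, hdim]
      have h3 : (P.height : WithBot ℕ∞) ≤ ringKrullDim R := Ideal.height_le_ringKrullDim_of_isPrime
      rw [hdim] at h3
      refine le_antisymm h3 ?_
      have h2' : (2 : ℕ∞) ≤ P.height := by rw [← one_add_one_eq_two]; exact h2
      have h4 : ((2 : ℕ∞) : WithBot ℕ∞) ≤ (P.height : WithBot ℕ∞) := WithBot.coe_le_coe.mpr h2'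
      exact h4
    have : P' = (maximalIdeal R).map (Ideal.Quotient.mk (Ideal.span {f0, y})) := by
      rw [← hPm, hPdef, Ideal.map_comap_of_surjective _ hsurj]
    rw [this]
    refine Ideal.IsMaximal.map_of_surjective_of_ker_le hsurj ?_
    rw [Ideal.mk_ker, ← hPm]
    exact hJP
  exact IsNoetherianRing.isArtinianRing_of_krullDimLE_zero

end Surface

section Step

variable {R : Type*} [CommRing R] [IsDomain R] [IsNoetherianRing R] [IsIntegrallyClosed R]

theorem ord_add_eq_of_lt (q : Ideal R) (hq : H1 q) {a b : R} (h : ord q hq b < ord q hq a) :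
    ord q hq (a + b) = ord q hq b := by
  haveI := hq.1
  haveI := isDVR_of_height_one q hq.2
  unfold ord at h ⊢
  rw [map_add]
  exact AddValuation.map_add_eq_of_lt_right _ h

theorem step (f y : R) (hf : f ≠ 0) (hyZ : ∀ q ∈ Z f, y ∉ q) (q1 : Ideal R) (hq1 : H1 q1)
    (hfq1 : f ∈ q1) (hbad : ord q1 hq1 f ≠ 1) :
    ∃ g : R, (∀ q ∈ Z f, g ∈ q) ∧ ord q1 hq1 (f + y * g) = 1 ∧
      ∀ (q : Ideal R) (hq : H1 q), f ∈ q → ord q hq f = 1 → ord q hq (f + y * g) = 1 := by
  classical
  haveI := hq1.1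
  set S := (Z_finite f hf).toFinset.erase q1 with hS
  have hSmem : ∀ q, q ∈ S ↔ q ≠ q1 ∧ q ∈ Z f := by
    intro q; simp [hS]
  have hex : ∀ q : Ideal R, ∃ c : R, q ∈ S → c ∈ q ∧ c ∉ q1 := by
    intro q
    by_cases hqS : q ∈ S
    · obtain ⟨hne, hqZ⟩ := (hSmem q).mp hqS
      have hnle : ¬ q ≤ q1 := fun hle => hne (hqZ.1.eq_of_le hq1 hle)
      obtain ⟨c, hcq, hcq1⟩ := SetLike.not_le_iff_exists.mp hnle
      exact ⟨c, fun _ => ⟨hcq, hcq1⟩⟩
    · exact ⟨0, fun h => absurd h hqS⟩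
  choose c hc using hex
  obtain ⟨π, hπq, hπ⟩ := exists_ord_eq_one q1 hq1
  set P := ∏ q ∈ S, (c q) ^ 2 with hP
  have hPq1 : P ∉ q1 := by
    rw [hP, Ideal.IsPrime.prod_mem_iff]
    rintro ⟨q, hqS, hmem⟩
    exact (hc q hqS).2 (hq1.1.mem_of_pow_mem _ hmem)
  have hy1 : y ∉ q1 := hyZ q1 ⟨hq1, hfq1⟩
  refine ⟨π * P, ?_, ?_, ?_⟩
  · intro q hqZ
    by_cases hqq : q = q1
    · rw [hqq]; exact Ideal.mul_mem_right _ _ hπq
    · have hqS : q ∈ S := (hSmem q).mpr ⟨hqq, hqZ⟩
      refine Ideal.mul_mem_left _ _ ?_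
      have hdvd : (c q) ^ 2 ∣ P := Finset.dvd_prod_of_mem (fun q => (c q) ^ 2) hqS
      obtain ⟨k, hk⟩ := hdvd
      rw [hk]
      exact Ideal.mul_mem_right _ _ (Ideal.pow_mem_of_mem _ (hc q hqS).1 2 (by norm_num))
  · have h1 : ord q1 hq1 (y * (π * P)) = 1 := by
      rw [ord_mul, ord_mul, (ord_eq_zero_iff q1 hq1 y).mpr hy1,
        (ord_eq_zero_iff q1 hq1 P).mpr hPq1, hπ, zero_add, add_zero]
    have h2 : 1 ≤ ord q1 hq1 f := (one_le_ord_iff q1 hq1 f).mpr hfq1
    have h3 : ord q1 hq1 (y * (π * P)) < ord q1 hq1 f := by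
      rw [h1]; exact lt_of_le_of_ne h2 (Ne.symm hbad)
    rw [ord_add_eq_of_lt q1 hq1 h3, h1]
  · intro q hq hfq ho
    by_cases hqq : q = q1
    · subst hqq
      exact absurd ho hbad
    · have hqS : q ∈ S := (hSmem q).mpr ⟨hqq, ⟨hq, hfq⟩⟩
      have hdvd : (c q) ^ 2 ∣ y * (π * P) :=
        Dvd.dvd.mul_left (Dvd.dvd.mul_left (Finset.dvd_prod_of_mem (fun q => (c q) ^ 2) hqS) π) y
      have h1 : ord q hq ((c q) ^ 2) ≤ ord q hq (y * (π * P)) := ord_le_of_dvd q hq hdvd
      have h2 : 1 ≤ ord q hq (c q) := (one_le_ord_iff q hq _).mpr (hc q hqS).1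
      have h3 : (2 : ℕ∞) ≤ ord q hq ((c q) ^ 2) := by
        rw [ord_pow]
        calc (2 : ℕ∞) = 2 • (1 : ℕ∞) := by norm_num
          _ ≤ 2 • ord q hq (c q) := nsmul_le_nsmul_right h2 2
      have h4 : ord q hq f < ord q hq (y * (π * P)) := by
        rw [ho]
        exact lt_of_lt_of_le (by norm_num) (h3.trans h1)
      rw [add_comm, ord_add_eq_of_lt q hq h4, ho]

end Step

section Main

variable {R : Type*} [CommRing R] [IsDomain R] [IsNoetherianRing R] [IsIntegrallyClosed R]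
  [IsLocalRing R]

/-- good primes of `f` -/
def Gd (f : R) : Set (Ideal R) := {q | ∃ hq : H1 q, f ∈ q ∧ ord q hq f = 1}

theorem Gd_subset_Z (f : R) : Gd f ⊆ Z f := fun _ ⟨hq, hfq, _⟩ => ⟨hq, hfq⟩

theorem exists_reduced (hdim : ringKrullDim R = 2) (s : Finset (Ideal R))
    (hs : ∀ p ∈ s, p.IsPrime ∧ p.height = 1) :
    ∃ f : R, f ≠ 0 ∧ (∀ p ∈ s, f ∈ p) ∧ IsReduced (R ⧸ Ideal.span {f}) := by
  classical
  have hex : ∀ p : Ideal R, ∃ x : R, p ∈ s → x ∈ p ∧ x ≠ 0 := by
    intro p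
    by_cases hp : p ∈ s
    · obtain ⟨x, hx, hx0⟩ :=
        Submodule.exists_mem_ne_zero_of_ne_bot (Ideal.ne_bot_of_height_eq_one (hs p hp).2)
      exact ⟨x, fun _ => ⟨hx, hx0⟩⟩
    · exact ⟨0, fun h => absurd h hp⟩
  choose x hx using hex
  set f0 := ∏ p ∈ s, x p with hf0def
  have hf0 : f0 ≠ 0 := Finset.prod_ne_zero_iff.mpr fun p hp => (hx p hp).2
  have hf0s : ∀ p ∈ s, f0 ∈ p := by
    intro p hp
    obtain ⟨k, hk⟩ := Finset.dvd_prod_of_mem x hp
    rw [hf0def, hk]
    exact Ideal.mul_mem_right _ _ (hx p hp).1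
  obtain ⟨y, hym, hy⟩ := exists_avoid hdim f0 hf0
  haveI := isArtinianRing_quotient hdim f0 y hf0 hy
  set J := Ideal.span {f0, y} with hJ
  let Fam : R → Prop := fun f => f ≠ 0 ∧ (∀ p ∈ s, f ∈ p) ∧ f - f0 ∈ Ideal.span {y}
  have hyF : ∀ f, Fam f → ∀ q ∈ Z f, y ∉ q := by
    intro f hF q hq hyq
    have h1 : f - f0 ∈ q := ((Ideal.span_singleton_le_iff_mem (I := q)).mpr hyq) hF.2.2
    have h2 : f0 ∈ q := by
      have : f0 = f - (f - f0) := by ring
      rw [this]; exact q.sub_mem hq.2 h1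
    exact hy q ⟨hq.1, h2⟩ hyq
  let A : R → Ideal R := fun f => sInf (Gd f)
  have hfA : ∀ f, f ∈ A f := by
    intro f
    rw [Ideal.mem_sInf]
    rintro q ⟨_, hfq, _⟩
    exact hfq
  have hJA : ∀ f, Fam f → J ≤ A f ⊔ Ideal.span {y} := by
    intro f hF
    rw [hJ, Ideal.span_le]
    rintro z hz
    rcases hz with hz | hz
    · have : z = f - (f - f0) := by rw [hz]; ring
      rw [this]
      exact Ideal.sub_mem _ (Ideal.mem_sup_left (hfA f)) (Ideal.mem_sup_right hF.2.2)
    · rw [Set.mem_singleton_iff] at hz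
      rw [hz]
      exact Ideal.mem_sup_right (Ideal.mem_span_singleton_self y)
  let 𝒮 : Set (Ideal (R ⧸ J)) :=
    {I | ∃ f, Fam f ∧ I = (A f ⊔ Ideal.span {y}).map (Ideal.Quotient.mk J)}
  have hne : 𝒮.Nonempty := ⟨_, f0, ⟨hf0, hf0s, by simp⟩, rfl⟩
  obtain ⟨I, ⟨f, hF, rfl⟩, hmin⟩ := IsArtinian.set_has_minimal 𝒮 hne
  refine ⟨f, hF.1, hF.2.1, isReduced_quotient_of_forall_ord_eq_one f hF.1 ?_⟩
  intro q1 hq1 hfq1
  by_contra hbad
  obtain ⟨g, hgZ, hg1, hgood⟩ := step f y hF.1 (hyF f hF) q1 hq1 hfq1 hbad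
  have hf'0 : f + y * g ≠ 0 := by
    intro h0
    rw [h0, (ord_eq_top_iff q1 hq1 0).mpr rfl] at hg1
    exact absurd hg1 (by simp)
  have hF' : Fam (f + y * g) := by
    refine ⟨hf'0, fun p hp => p.add_mem (hF.2.1 p hp)
      (p.mul_mem_left _ (hgZ p ⟨hs p hp, hF.2.1 p hp⟩)), ?_⟩
    have : f + y * g - f0 = (f - f0) + g * y := by ring
    rw [this]
    exact Ideal.add_mem _ hF.2.2 (Ideal.mul_mem_left _ _ (Ideal.mem_span_singleton_self y))
  have hGd : Gd f ⊆ Gd (f + y * g) := by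
    rintro q ⟨hq, hfq, ho⟩
    exact ⟨hq, q.add_mem hfq (q.mul_mem_left _ (hgZ q ⟨hq, hfq⟩)), hgood q hq hfq ho⟩
  have hq1G : q1 ∈ Gd (f + y * g) :=
    ⟨hq1, q1.add_mem hfq1 (q1.mul_mem_left _ (hgZ q1 ⟨hq1, hfq1⟩)), hg1⟩
  have hA : A (f + y * g) ≤ A f := sInf_le_sInf hGd
  have hA1 : A (f + y * g) ≤ q1 := sInf_le hq1G
  have hmap_le : (A (f + y * g) ⊔ Ideal.span {y}).map (Ideal.Quotient.mk J) ≤
      (A f ⊔ Ideal.span {y}).map (Ideal.Quotient.mk J) :=
    Ideal.map_mono (sup_le_sup_right hA _)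
  have hnlt := hmin _ ⟨f + y * g, hF', rfl⟩
  have heq : (A (f + y * g) ⊔ Ideal.span {y}).map (Ideal.Quotient.mk J) =
      (A f ⊔ Ideal.span {y}).map (Ideal.Quotient.mk J) := by
    by_contra hne'
    exact hnlt (lt_of_le_of_ne hmap_le hne')
  have heq2 : A (f + y * g) ⊔ Ideal.span {y} = A f ⊔ Ideal.span {y} := by
    have h1 := congrArg (Ideal.comap (Ideal.Quotient.mk J)) heq
    rw [Ideal.comap_map_of_surjective _ Ideal.Quotient.mk_surjective,
      Ideal.comap_map_of_surjective _ Ideal.Quotient.mk_surjective,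
      ← RingHom.ker_eq_comap_bot, Ideal.mk_ker, sup_of_le_left (hJA _ hF'),
      sup_of_le_left (hJA f hF)] at h1
    exact h1
  have hle : A f ≤ A (f + y * g) := by
    refine Submodule.le_of_le_smul_of_le_jacobson_bot (IsNoetherian.noetherian _)
      (IsLocalRing.maximalIdeal_le_jacobson ⊥) ?_
    intro a ha
    have h1 : a ∈ A (f + y * g) ⊔ Ideal.span {y} := heq2 ▸ Ideal.mem_sup_left ha
    obtain ⟨b, hb, c, hc, rfl⟩ := Submodule.mem_sup.mp h1
    obtain ⟨t, rfl⟩ := Ideal.mem_span_singleton'.mp hc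
    have hty : t * y ∈ A f := by
      have := (A f).sub_mem ha (hA hb)
      simpa using this
    have ht : t ∈ A f := by
      rw [Ideal.mem_sInf] at hty ⊢
      intro q hq
      obtain ⟨hq', hfq, ho⟩ := hq
      exact (hq'.1.mem_or_mem (hty ⟨hq', hfq, ho⟩)).resolve_right (hyF f hF q ⟨hq', hfq⟩)
    refine Submodule.mem_sup.mpr ⟨b, hb, t * y, ?_, rfl⟩
    rw [mul_comm]
    exact Submodule.smul_mem_smul hym ht
  have hfin : (Gd f).Finite := (Z_finite f hF.1).subset (Gd_subset_Z f)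
  have hAq1 : hfin.toFinset.inf id ≤ q1 := by
    rw [Finset.inf_id_eq_sInf, Set.Finite.coe_toFinset]
    exact hle.trans hA1
  obtain ⟨q, hqG, hqq1⟩ := (Ideal.IsPrime.inf_le' hq1.1).mp hAq1
  have hqG' : q ∈ Gd f := by simpa using hqG
  obtain ⟨hq, hfq, ho⟩ := hqG'
  have hqq : q = q1 := hq.eq_of_le hq1 hqq1
  subst hqq
  exact hbad ho

end Main

end Groth.Agent.Lib.Helper26.NormalSurf
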