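import Mathlib
import Groth.Prelude.Def_MoreMor

/-!
# Finite type along thickenings with finitely generated nilpotent ideal
-/

set_option autoImplicit false
universe u
open AlgebraicGeometry CategoryTheory

namespace Groth.Agent.Lib.Helper26.ThickeningFT

/-- Nakayama for nilpotent ideals (no finiteness needed). -/
theorem nakayama_nilpotent {R M : Type*} [CommRing R] [AddCommGroup M] [Module R M]
    (J : Ideal R) (N : Submodule R M) (hJ : ∃ n : ℕ, J ^ n • (⊤ : Submodule R M) = ⊥)
    (h : N ⊔ J • (⊤ : Submodule R M) = ⊤) : N = ⊤ := by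
  obtain ⟨n, hn⟩ := hJ
  have key : ∀ m : ℕ, N ⊔ J ^ m • (⊤ : Submodule R M) = ⊤ := by
    intro m
    induction m with
    | zero => simp
    | succ m ih =>
      rw [eq_top_iff]
      calc (⊤ : Submodule R M) = N ⊔ J • (⊤ : Submodule R M) := h.symm
        _ = N ⊔ J • (N ⊔ J ^ m • (⊤ : Submodule R M)) := by rw [ih]
        _ = N ⊔ (J • N ⊔ J • (J ^ m • (⊤ : Submodule R M))) := by rw [Submodule.smul_sup]
        _ ≤ N ⊔ J ^ (m + 1) • (⊤ : Submodule R M) := by
          rw [← Submodule.mul_smul, ← pow_succ']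
          exact sup_le le_sup_left (sup_le (le_sup_of_le_left Submodule.smul_le_right) le_sup_right)
  have := key n
  rwa [hn, sup_bot_eq] at this

theorem finiteType_of_quotient_nilpotent {A B : Type*} [CommRing A] [CommRing B] [Algebra A B]
    (I : Ideal B) (hfg : I.FG) (hnil : IsNilpotent I) (hq : Algebra.FiniteType A (B ⧸ I)) :
    Algebra.FiniteType A B := by
  classical
  obtain ⟨s₀, hs₀⟩ := hq.out
  obtain ⟨t, ht⟩ := hfg
  obtain ⟨n, hn⟩ := hnil
  -- lift generators
  have : ∀ x : B ⧸ I, ∃ b : B, Ideal.Quotient.mk I b = x := Ideal.Quotient.mk_surjective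
  choose lift hlift using this
  let s : Finset B := s₀.image lift
  let B' : Subalgebra A B := Algebra.adjoin A (↑(s ∪ t) : Set B)
  suffices hB' : B' = ⊤ by
    exact ⟨⟨s ∪ t, hB'⟩⟩
  -- every element of B is congruent mod I to an element of B'
  have h1 : ∀ b : B, ∃ b' ∈ B', b - b' ∈ I := by
    intro b
    have hmap : (B'.map (Ideal.Quotient.mkₐ A I)) = ⊤ := by
      rw [eq_top_iff, ← hs₀, Algebra.adjoin_le_iff]
      intro x hx
      refine ⟨lift x, Algebra.subset_adjoin ?_, hlift x⟩
      simp only [Finset.coe_union, Set.mem_union, Finset.mem_coe]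
      exact Or.inl (Finset.mem_image_of_mem _ hx)
    have : Ideal.Quotient.mkₐ A I b ∈ B'.map (Ideal.Quotient.mkₐ A I) := by rw [hmap]; trivial
    obtain ⟨b', hb', hbb'⟩ := this
    refine ⟨b', hb', ?_⟩
    rw [← Ideal.Quotient.eq]
    exact hbb'.symm
  -- the ideal of B' generated by t
  have htB' : ∀ x ∈ t, x ∈ B' := fun x hx => Algebra.subset_adjoin (by
    simp only [Finset.coe_union, Set.mem_union, Finset.mem_coe]; exact Or.inr hx)
  let J : Ideal B' := Ideal.span {x : B' | (x : B) ∈ t}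
  let N : Submodule B' B := LinearMap.range (Algebra.linearMap B' B)
  have hI : ∀ x ∈ I, x ∈ J • (⊤ : Submodule B' B) := by
    intro x hx
    rw [← ht] at hx
    refine Submodule.span_induction ?_ ?_ ?_ ?_ hx
    · intro y hy
      have : y = (⟨y, htB' y hy⟩ : B') • (1 : B) := by
        rw [Algebra.smul_def]; simp
      rw [this]
      exact Submodule.smul_mem_smul (Ideal.subset_span hy) trivial
    · exact Submodule.zero_mem _
    · intro a b _ _ ha hb; exact Submodule.add_mem _ ha hb
    · intro a b _ hb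
      -- a • b = a * b with b ∈ J • ⊤
      have : a • b = a * b := rfl
      rw [this]
      refine Submodule.smul_induction_on hb ?_ ?_
      · intro r hr m _
        have : a * (r • m) = r • (a * m) := by
          rw [Algebra.smul_def, Algebra.smul_def]; ring
        rw [this]
        exact Submodule.smul_mem_smul hr trivial
      · intro x y hx hy
        rw [mul_add]; exact Submodule.add_mem _ hx hy
  have hJmap : Ideal.map (algebraMap B' B) J ≤ I := by
    rw [Ideal.map_span, Ideal.span_le]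
    rintro _ ⟨x, hx, rfl⟩
    rw [← ht]
    exact Ideal.subset_span hx
  have hJn : J ^ n • (⊤ : Submodule B' B) = ⊥ := by
    rw [eq_bot_iff]
    rw [Submodule.smul_le]
    intro r hr m _
    have : algebraMap B' B r ∈ I ^ n := by
      have h2 : Ideal.map (algebraMap B' B) (J ^ n) ≤ I ^ n := by
        rw [Ideal.map_pow]; exact Ideal.pow_right_mono hJmap n
      exact h2 (Ideal.mem_map_of_mem _ hr)
    rw [hn] at this
    have h0 : algebraMap B' B r = 0 := this
    rw [Algebra.smul_def, h0, zero_mul]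
    exact Submodule.zero_mem _
  have hN : N = ⊤ := by
    apply nakayama_nilpotent J N ⟨n, hJn⟩
    rw [eq_top_iff]
    intro b _
    obtain ⟨b', hb', hbb'⟩ := h1 b
    have : b = (b' : B) + (b - b') := by ring
    rw [this]
    exact Submodule.add_mem_sup ⟨⟨b', hb'⟩, rfl⟩ (hI _ hbb')
  rw [eq_top_iff]
  intro b _
  have : b ∈ N := by rw [hN]; trivial
  obtain ⟨b', rfl⟩ := this
  exact b'.2

theorem ringHom_finiteType_of_comp_surjective_nilpotent {A B B₀ : Type*} [CommRing A] [CommRing B]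
    [CommRing B₀] (φ : A →+* B) (π : B →+* B₀) (hπ : Function.Surjective π)
    (hfg : (RingHom.ker π).FG) (hnil : IsNilpotent (RingHom.ker π))
    (h : (π.comp φ).FiniteType) : φ.FiniteType := by
  algebraize [φ]
  let e : (B ⧸ RingHom.ker π) ≃+* B₀ := RingHom.quotientKerEquivOfSurjective hπ
  have h2 : ((e.symm : B₀ →+* B ⧸ RingHom.ker π).comp (π.comp φ)).FiniteType :=
    RingHom.FiniteType.comp (RingHom.FiniteType.of_surjective _ e.symm.surjective) h
  have h3 : (e.symm : B₀ →+* B ⧸ RingHom.ker π).comp (π.comp φ) =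
      algebraMap A (B ⧸ RingHom.ker π) := by
    ext a
    change e.symm (π (φ a)) = Ideal.Quotient.mk _ (φ a)
    rw [RingEquiv.symm_apply_eq]
    rfl
  rw [h3] at h2
  have h4 : Algebra.FiniteType A (B ⧸ RingHom.ker π) := h2
  exact finiteType_of_quotient_nilpotent (RingHom.ker π) hfg hnil h4

theorem appLE_congr_hom {X Y : Scheme.{u}} {f g : X ⟶ Y} (h : f = g) (U : Y.Opens) (V : X.Opens)
    (e : V ≤ f ⁻¹ᵁ U) : f.appLE U V e = g.appLE U V (h ▸ e) := by
  subst h; rfl

theorem locallyOfFiniteType_iff_of_thickening {X X₀ Y Y₀ : Scheme.{u}}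
    (F : Y ⟶ X) (F₀ : Y₀ ⟶ X₀) (i : Y₀ ⟶ Y) (j : X₀ ⟶ X)
    (hi : MoreMor.IsThickening i) (hj : MoreMor.IsThickening j)
    (hinil : ∀ U : Y.affineOpens, IsNilpotent (i.ker.ideal U))
    (hfg : ∀ U : Y.affineOpens, (i.ker.ideal U).FG)
    (w : F₀ ≫ j = i ≫ F) :
    LocallyOfFiniteType F ↔ LocallyOfFiniteType F₀ := by
  have := hi.1
  have := hj.1
  constructor
  · intro hF
    have h1 : LocallyOfFiniteType (F₀ ≫ j) := by rw [w]; infer_instance
    exact locallyOfFiniteType_of_comp F₀ j
  · intro hF₀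
    rw [HasRingHomProperty.iff_appLE (P := @LocallyOfFiniteType)]
    intro U V e
    have hU₀ : IsAffineOpen (j ⁻¹ᵁ U.1) := U.2.preimage j
    have hV₀ : IsAffineOpen (i ⁻¹ᵁ V.1) := V.2.preimage i
    have e₀ : i ⁻¹ᵁ V.1 ≤ F₀ ⁻¹ᵁ (j ⁻¹ᵁ U.1) := by
      intro x hx
      have h1 : i x ∈ V.1 := hx
      have h2 : F (i x) ∈ U.1 := e h1
      have h3 : j (F₀ x) = F (i x) := by
        rw [← Scheme.Hom.comp_apply, ← Scheme.Hom.comp_apply, w]
      change j (F₀ x) ∈ U.1
      rw [h3]; exact h2
    have h0 := (HasRingHomProperty.iff_appLE (P := @LocallyOfFiniteType)).1 hF₀ ⟨_, hU₀⟩ ⟨_, hV₀⟩ e₀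
    have sq : F.appLE U.1 V.1 e ≫ i.app V.1 =
        j.app U.1 ≫ F₀.appLE (j ⁻¹ᵁ U.1) (i ⁻¹ᵁ V.1) e₀ := by
      have h1 := Scheme.Hom.comp_appLE F₀ j U.1 (i ⁻¹ᵁ V.1) e₀
      have h2 := Scheme.Hom.appLE_comp_appLE i F U.1 V.1 (i ⁻¹ᵁ V.1) e le_rfl
      rw [i.app_eq_appLE, h2, ← h1]
      exact (appLE_congr_hom w _ _ _).symm
    have hsurj : Function.Surjective (i.app V.1).hom := i.app_surjective V.1 V.2
    have hker : RingHom.ker (i.app V.1).hom = i.ker.ideal V := (Scheme.Hom.ker_apply i V).symm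
    apply ringHom_finiteType_of_comp_surjective_nilpotent _ (i.app V.1).hom hsurj
      (hker ▸ hfg V) (hker ▸ hinil V)
    rw [← CommRingCat.hom_comp, sq, CommRingCat.hom_comp]
    exact RingHom.FiniteType.comp h0
      (RingHom.FiniteType.of_surjective _ (j.app_surjective U.1 U.2))


theorem lfp_of_lft_of_isLocallyNoetherian {X Y : Scheme.{u}} [IsLocallyNoetherian X] (f : Y ⟶ X)
    [hf : LocallyOfFiniteType f] : LocallyOfFinitePresentation f := by
  rw [HasRingHomProperty.iff_appLE (P := @LocallyOfFinitePresentation)]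
  intro U V e
  have : IsNoetherianRing Γ(X, U.1) := IsLocallyNoetherian.component_noetherian U
  exact RingHom.FinitePresentation.of_finiteType.1
    ((HasRingHomProperty.iff_appLE (P := @LocallyOfFiniteType)).1 hf U V e)

theorem isLocallyNoetherian_of_isClosedImmersion {X X₀ : Scheme.{u}} [IsLocallyNoetherian X]
    (j : X₀ ⟶ X) [IsClosedImmersion j] : IsLocallyNoetherian X₀ := by
  let S : X.affineOpens → X₀.affineOpens := fun U => ⟨j ⁻¹ᵁ U.1, U.2.preimage j⟩
  refine isLocallyNoetherian_of_affine_cover (S := S) ?_ ?_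
  · rw [eq_top_iff]
    intro x _
    have h1 : j x ∈ (⨆ i : X.affineOpens, (i : X.Opens)) := by
      rw [iSup_affineOpens_eq_top]; trivial
    obtain ⟨U, hx⟩ := TopologicalSpace.Opens.mem_iSup.1 h1
    exact TopologicalSpace.Opens.mem_iSup.2 ⟨U, hx⟩
  · intro U
    have : IsNoetherianRing Γ(X, U.1) := IsLocallyNoetherian.component_noetherian U
    exact isNoetherianRing_of_surjective _ _ (j.app U.1).hom (j.app_surjective U.1 U.2)

theorem locallyOfFinitePresentation_iff_of_thickening {X X₀ Y Y₀ : Scheme.{u}} [IsLocallyNoetherian X]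
    (F : Y ⟶ X) (F₀ : Y₀ ⟶ X₀) (i : Y₀ ⟶ Y) (j : X₀ ⟶ X)
    (hi : MoreMor.IsThickening i) (hj : MoreMor.IsThickening j)
    (hinil : ∀ U : Y.affineOpens, IsNilpotent (i.ker.ideal U))
    (hfg : ∀ U : Y.affineOpens, (i.ker.ideal U).FG)
    (w : F₀ ≫ j = i ≫ F) :
    LocallyOfFinitePresentation F ↔ LocallyOfFinitePresentation F₀ := by
  have := hj.1
  have := isLocallyNoetherian_of_isClosedImmersion j
  have key := locallyOfFiniteType_iff_of_thickening
    F F₀ i j hi hj hinil hfg w
  constructor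
  · intro h
    have : LocallyOfFiniteType F₀ := key.1 inferInstance
    exact lfp_of_lft_of_isLocallyNoetherian F₀
  · intro h
    have : LocallyOfFiniteType F := key.2 inferInstance
    exact lfp_of_lft_of_isLocallyNoetherian F

end Groth.Agent.Lib.Helper26.ThickeningFT
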