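import Mathlib
import Groth.Prelude.Def_EtMil

/-!
# Kernel of `L' → (B ⊗ L') × (A' ⊗ L')` for a fibre square of rings `B' = B ×_A A'`
-/

set_option autoImplicit false
set_option linter.unusedSectionVars false
universe u
open TensorProduct

namespace Groth.Agent.Lib.Helper26.FibreSquareKer

variable {B' B A' A : Type u} [CommRing B'] [CommRing B] [CommRing A'] [CommRing A]
  [Algebra B' B] [Algebra B' A'] [Algebra B A] [Algebra A' A] [Algebra B' A]
  [IsScalarTower B' B A] [IsScalarTower B' A' A]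

/-- `B' → B` is surjective in a fibre square with `A' → A` surjective. -/
theorem surjective_algebraMap (hsq : EtMil.IsFibreSquare B' B A' A) :
    Function.Surjective (algebraMap B' B) := by
  intro b
  obtain ⟨a', ha'⟩ := hsq.1 (algebraMap B A b)
  obtain ⟨b', ⟨h1, -⟩, -⟩ := hsq.2 b a' ha'.symm
  exact ⟨b', h1⟩

/-- an element of `B'` is determined by its images in `B` and `A'` -/
theorem ext_of_fibreSquare (hsq : EtMil.IsFibreSquare B' B A' A) {x y : B'}
    (h1 : algebraMap B' B x = algebraMap B' B y) (h2 : algebraMap B' A' x = algebraMap B' A' y) :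
    x = y := by
  have hc : algebraMap B A (algebraMap B' B y) = algebraMap A' A (algebraMap B' A' y) := by
    rw [← IsScalarTower.algebraMap_apply, ← IsScalarTower.algebraMap_apply]
  obtain ⟨z, -, hz⟩ := hsq.2 _ _ hc
  exact (hz x ⟨h1, h2⟩).trans (hz y ⟨rfl, rfl⟩).symm

/-- for `j` in the kernel of `B' → B`, the `B'`-linear map `A' → B'` sending `1` to `j` -/
theorem exists_linearMap_of_mem_ker (hsq : EtMil.IsFibreSquare B' B A' A) (j : B')
    (hj : algebraMap B' B j = 0) : ∃ μ : A' →ₗ[B'] B', μ 1 = j := by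
  have key : ∀ a' : A', ∃ b' : B', algebraMap B' B b' = 0 ∧
      algebraMap B' A' b' = a' * algebraMap B' A' j := by
    intro a'
    have hc : algebraMap B A 0 = algebraMap A' A (a' * algebraMap B' A' j) := by
      rw [map_zero, map_mul, ← IsScalarTower.algebraMap_apply B' A' A,
        IsScalarTower.algebraMap_apply B' B A, hj, map_zero, mul_zero]
    obtain ⟨b', hb', -⟩ := hsq.2 0 (a' * algebraMap B' A' j) hc
    exact ⟨b', hb'⟩
  choose μ hμ1 hμ2 using key
  refine ⟨{ toFun := μ, map_add' := ?_, map_smul' := ?_ }, ?_⟩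
  · intro x y
    apply ext_of_fibreSquare hsq
    · rw [map_add, hμ1, hμ1, hμ1, add_zero]
    · rw [map_add, hμ2, hμ2, hμ2, add_mul]
  · intro r x
    apply ext_of_fibreSquare hsq
    · rw [RingHom.id_apply, smul_eq_mul, map_mul, hμ1, hμ1, mul_zero]
    · rw [RingHom.id_apply, smul_eq_mul, map_mul, hμ2, hμ2, Algebra.smul_def, mul_assoc]
  · apply ext_of_fibreSquare hsq
    · change algebraMap B' B (μ 1) = _
      rw [hμ1, hj]
    · change algebraMap B' A' (μ 1) = _
      rw [hμ2, one_mul]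

theorem smul_eq_zero_of_tmul_eq_zero (hsq : EtMil.IsFibreSquare B' B A' A)
    {L' : Type u} [AddCommGroup L'] [Module B' L'] (l : L')
    (h2 : ((1 : A') ⊗ₜ[B'] l : A' ⊗[B'] L') = 0) (j : B') (hj : algebraMap B' B j = 0) :
    j • l = 0 := by
  obtain ⟨μ, hμ⟩ := exists_linearMap_of_mem_ker hsq j hj
  have h := congrArg (fun t => TensorProduct.lid B' L' (LinearMap.rTensor L' μ t)) h2
  simpa [hμ] using h

theorem mem_smul_top_of_tmul_eq_zero {R S : Type u} [CommRing R] [CommRing S] [Algebra R S]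
    (hs : Function.Surjective (algebraMap R S)) {M : Type u} [AddCommGroup M] [Module R M] (m : M)
    (h : ((1 : S) ⊗ₜ[R] m : S ⊗[R] M) = 0) :
    m ∈ (RingHom.ker (algebraMap R S)) • (⊤ : Submodule R M) := by
  let e : (R ⧸ RingHom.ker (algebraMap R S)) ≃ₐ[R] S :=
    Ideal.quotientKerAlgEquivOfSurjective (f := Algebra.ofId R S) hs
  have h' := congrArg (LinearMap.rTensor M e.symm.toLinearMap) h
  rw [LinearMap.rTensor_tmul, map_zero] at h'
  have h1 : e.symm.toLinearMap (1 : S) = 1 := map_one e.symm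
  rw [h1] at h'
  have h'' := congrArg (TensorProduct.quotTensorEquivQuotSMul M (RingHom.ker (algebraMap R S))) h'
  rw [TensorProduct.quotTensorEquivQuotSMul_mk_one_tmul, map_zero,
    Submodule.Quotient.mk_eq_zero] at h''
  exact h''

theorem ker_torsion_and_mem (hsq : EtMil.IsFibreSquare B' B A' A)
    {L' : Type u} [AddCommGroup L'] [Module B' L'] (l : L')
    (h1 : ((1 : B) ⊗ₜ[B'] l : B ⊗[B'] L') = 0) (h2 : ((1 : A') ⊗ₜ[B'] l : A' ⊗[B'] L') = 0) :
    (∀ j : B', algebraMap B' B j = 0 → j • l = 0) ∧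
      l ∈ (RingHom.ker (algebraMap B' B)) • (⊤ : Submodule B' L') :=
  ⟨fun j hj => smul_eq_zero_of_tmul_eq_zero hsq l h2 j hj,
    mem_smul_top_of_tmul_eq_zero (surjective_algebraMap hsq) l h1⟩

theorem subsingleton_of_baseChange (hsq : EtMil.IsFibreSquare B' B A' A)
    (L' : Type u) [AddCommGroup L'] [Module B' L']
    [Subsingleton (B ⊗[B'] L')] [Subsingleton (A' ⊗[B'] L')] : Subsingleton L' := by
  refine ⟨fun x y => ?_⟩
  suffices h : ∀ l : L', l = 0 by rw [h x, h y]
  intro l
  have hmem := (ker_torsion_and_mem hsq l (Subsingleton.elim _ _) (Subsingleton.elim _ _)).2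
  refine Submodule.smul_induction_on hmem ?_ ?_
  · intro j hj m _
    exact smul_eq_zero_of_tmul_eq_zero hsq m (Subsingleton.elim _ _) j hj
  · intro a b ha hb
    rw [ha, hb, add_zero]

theorem mul_eq_zero_of_ker (hsq : EtMil.IsFibreSquare B' B A' A)
    (D' : Type u) [CommRing D'] [Algebra B' D'] (x y : D')
    (hx : ((1 : B) ⊗ₜ[B'] x : B ⊗[B'] D') = 0)
    (hy' : ((1 : A') ⊗ₜ[B'] y : A' ⊗[B'] D') = 0) : x * y = 0 := by
  have hmem := mem_smul_top_of_tmul_eq_zero (surjective_algebraMap hsq) x hx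
  refine Submodule.smul_induction_on hmem ?_ ?_
  · intro j hj d _
    have := smul_eq_zero_of_tmul_eq_zero hsq y hy' j hj
    rw [smul_mul_assoc, ← mul_smul_comm, this, mul_zero]
  · intro a b ha hb
    rw [add_mul, ha, hb, add_zero]

end Groth.Agent.Lib.Helper26.FibreSquareKer
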