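import Groth.Agent.Lib.Helper29.QCohLocFree
import Groth.Agent.Lib.Helper29.QCohPush
import Groth.Agent.Lib.Helper29.QCohIdealMod
import Groth.Prelude.Def_Mor2

set_option autoImplicit false
set_option linter.style.haveILetI false
universe u
open CategoryTheory CategoryTheory.Limits AlgebraicGeometry Opposite TopologicalSpace
open Groth.Agent.Lib.Helper29.QCoh

namespace Groth.Agent.Lib.Helper26.FinLocFreeMor

variable {X S : Scheme.{u}}

noncomputable section

theorem appLE_eq (f : X ⟶ S) {V : S.Opens} {U : X.Opens} (e : U ≤ f ⁻¹ᵁ V) :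
    f.appLE V U e = f.app V ≫ X.presheaf.map (homOfLE e).op := rfl

theorem id_appLE {U' U : X.Opens} (e : U ≤ U') (e' : U ≤ (𝟙 X : X ⟶ X) ⁻¹ᵁ U') :
    (𝟙 X : X ⟶ X).appLE U' U e' = X.presheaf.map (homOfLE e).op := by
  rw [appLE_eq]
  simp only [Scheme.Hom.id_app]
  rfl

theorem res_flat {U' U : X.Opens} (hU' : IsAffineOpen U') (hU : IsAffineOpen U) (e : U ≤ U') :
    (X.presheaf.map (homOfLE e).op).hom.Flat := by
  have e' : U ≤ (𝟙 X : X ⟶ X) ⁻¹ᵁ U' := e
  rw [← id_appLE e e']
  exact (𝟙 X : X ⟶ X).flat_appLE hU' hU e'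

theorem res_fp {U' U : X.Opens} (hU' : IsAffineOpen U') (hU : IsAffineOpen U) (e : U ≤ U') :
    (X.presheaf.map (homOfLE e).op).hom.FinitePresentation := by
  have e' : U ≤ (𝟙 X : X ⟶ X) ⁻¹ᵁ U' := e
  rw [← id_appLE e e']
  exact (𝟙 X : X ⟶ X).finitePresentation_appLE hU' hU e'

/-- the module structure on sections of the pushforward of the structure sheaf -/
theorem sections_smul (f : X ⟶ S) (V : S.Opens) (a : Γ(S, V))
    (m : Γ((Scheme.Modules.pushforward f).obj (unitM X), V)) :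
    a • m = toUnit ((f.app V).hom a * fromUnit m) := rfl

/-- Sections of `f_* O_X` over `V` are `Γ(X, f⁻¹V)`, linearly over `Γ(S, V)`. -/
def sectionsEquiv (f : X ⟶ S) (V : S.Opens) :
    letI alg : Algebra Γ(S, V) Γ(X, f ⁻¹ᵁ V) := (f.app V).hom.toAlgebra
    Γ((Scheme.Modules.pushforward f).obj (unitM X), V) ≃ₗ[Γ(S, V)] Γ(X, f ⁻¹ᵁ V) :=
  letI alg : Algebra Γ(S, V) Γ(X, f ⁻¹ᵁ V) := (f.app V).hom.toAlgebra
  { toFun := fun m => fromUnit m
    invFun := fun a => toUnit a
    map_add' := fun _ _ => rfl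
    map_smul' := fun a m => by
      rw [sections_smul]
      rfl
    left_inv := fun _ => rfl
    right_inv := fun _ => rfl }

theorem forward (f : X ⟶ S) [IsAffineHom f]
    (h : FlatMod.IsFinLocFree ((Scheme.Modules.pushforward f).obj (unitM X))) :
    Mor2.IsFinLocFree f := by
  have key : ∀ {V : S.Opens} (hV : IsAffineOpen V),
      (f.app V).hom.Finite ∧ (f.app V).hom.Flat ∧ (f.app V).hom.FinitePresentation := by
    intro V hV
    obtain ⟨h1, h2⟩ := finite_projective_sections_of_isFinLocFree h hV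
    letI alg : Algebra Γ(S, V) Γ(X, f ⁻¹ᵁ V) := (f.app V).hom.toAlgebra
    have e := sectionsEquiv f V
    have hfin : Module.Finite Γ(S, V) Γ(X, f ⁻¹ᵁ V) := Module.Finite.equiv e
    have hproj : Module.Projective Γ(S, V) Γ(X, f ⁻¹ᵁ V) := Module.Projective.of_equiv e
    have hfp : Module.FinitePresentation Γ(S, V) Γ(X, f ⁻¹ᵁ V) :=
      Module.finitePresentation_of_projective _ _
    refine ⟨?_, ?_, ?_⟩
    · exact hfin
    · exact (inferInstance : Module.Flat Γ(S, V) Γ(X, f ⁻¹ᵁ V))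
    · exact (inferInstance : Algebra.FinitePresentation Γ(S, V) Γ(X, f ⁻¹ᵁ V))
  refine ⟨⟨fun V hV => (key hV).1⟩, ⟨?_⟩, ⟨?_⟩⟩
  · intro V hV U hU e
    rw [appLE_eq]
    exact RingHom.Flat.comp (key hV).2.1 (res_flat (hV.preimage f) hU e)
  · intro V hV U hU e
    rw [appLE_eq]
    exact RingHom.FinitePresentation.comp (res_fp (hV.preimage f) hU e) (key hV).2.2

theorem backward (f : X ⟶ S) (h : Mor2.IsFinLocFree f) :
    IsAffineHom f ∧ FlatMod.IsFinLocFree ((Scheme.Modules.pushforward f).obj (unitM X)) := by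
  obtain ⟨h1, h2, h3⟩ := h
  refine ⟨inferInstance, ?_⟩
  haveI := isQuasicoherent_pushforward_of_isAffineHom f (unitM X)
  refine isFinLocFree_of_finite_projective_sections _ (fun V : S.affineOpens => (V : S.Opens))
    ?_ (fun V => V.2) ?_ ?_
  · exact iSup_affineOpens_eq_top S
  all_goals
    intro V
    have hV : IsAffineOpen (V : S.Opens) := V.2
    letI alg : Algebra Γ(S, (V : S.Opens)) Γ(X, f ⁻¹ᵁ (V : S.Opens)) :=
      (f.app (V : S.Opens)).hom.toAlgebra
    have e := (sectionsEquiv f (V : S.Opens)).symm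
    have hfin : Module.Finite Γ(S, (V : S.Opens)) Γ(X, f ⁻¹ᵁ (V : S.Opens)) :=
      f.finite_app _ hV
    have hflat : Module.Flat Γ(S, (V : S.Opens)) Γ(X, f ⁻¹ᵁ (V : S.Opens)) := by
      have := f.flat_appLE hV (hV.preimage f) le_rfl
      rwa [← Scheme.Hom.app_eq_appLE] at this
    have hfp : Algebra.FinitePresentation Γ(S, (V : S.Opens)) Γ(X, f ⁻¹ᵁ (V : S.Opens)) := by
      have := f.finitePresentation_appLE hV (hV.preimage f) le_rfl
      rwa [← Scheme.Hom.app_eq_appLE] at this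
    have hmfp : Module.FinitePresentation Γ(S, (V : S.Opens)) Γ(X, f ⁻¹ᵁ (V : S.Opens)) :=
      Module.FinitePresentation.of_finite_of_finitePresentation _ _
    have hproj : Module.Projective Γ(S, (V : S.Opens)) Γ(X, f ⁻¹ᵁ (V : S.Opens)) :=
      Module.Flat.projective_of_finitePresentation
  · exact Module.Finite.equiv e
  · exact Module.Projective.of_equiv e

theorem main (f : X ⟶ S) :
    (IsAffineHom f ∧ FlatMod.IsFinLocFree
      ((Scheme.Modules.pushforward f).obj (Coh.structureModule X))) ↔ Mor2.IsFinLocFree f :=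
  ⟨fun h => haveI := h.1; forward f h.2, backward f⟩

end

end Groth.Agent.Lib.Helper26.FinLocFreeMor
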