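import Mathlib
import Groth.Agent.Helper19.Idem
set_option autoImplicit false
set_option linter.style.haveILetI false
universe u

namespace Groth.Agent.Lib.Helper26.ProdLocal

open MaximalSpectrum

/-- For a finite product of local rings, the map to the product of localizations at maximal
ideals is surjective. -/
theorem toPiLocalization_pi_surjective {ι : Type*} [Finite ι] (C : ι → Type*)
    [∀ j, CommRing (C j)] [∀ j, IsLocalRing (C j)] :
    Function.Surjective (toPiLocalization (Π j, C j)) := by
  classical
  intro x
  -- the maximal ideals `I j`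
  let I : ι → MaximalSpectrum (Π j, C j) := fun j =>
    ⟨(IsLocalRing.maximalIdeal (C j)).comap (Pi.evalRingHom C j),
      (IsLocalRing.maximalIdeal.isMaximal (C j)).comap_piEvalRingHom⟩
  let e : ∀ j, C j ≃ₐ[C j] Localization.AtPrime (IsLocalRing.maximalIdeal (C j)) := fun j =>
    IsLocalization.atUnits (C j) (IsLocalRing.maximalIdeal (C j)).primeCompl (by
      intro c hc
      exact (IsLocalRing.notMem_maximalIdeal.mp hc))
  let r : Π j, C j := fun j =>
    (e j).symm (Localization.AtPrime.mapPiEvalRingHom (IsLocalRing.maximalIdeal (C j)) (x (I j)))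
  refine ⟨r, ?_⟩
  funext J
  -- every maximal ideal is some `I j`
  obtain ⟨j, q, hq⟩ := PrimeSpectrum.exists_comap_evalRingHom_eq (⟨J.1, J.2.isPrime⟩ : PrimeSpectrum (Π j, C j))
  have hJ : J = I j := by
    apply MaximalSpectrum.ext
    have h1 : J.asIdeal = q.asIdeal.comap (Pi.evalRingHom C j) := (congrArg PrimeSpectrum.asIdeal hq).symm
    have h2 : J.asIdeal ≤ (I j).asIdeal := by
      rw [h1]
      exact Ideal.comap_mono (IsLocalRing.le_maximalIdeal q.2.ne_top)
    exact J.2.eq_of_le (I j).2.ne_top h2
  subst hJ
  apply (Localization.AtPrime.mapPiEvalRingHom_bijective (IsLocalRing.maximalIdeal (C j))).1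
  rw [toPiLocalization_apply_apply, Localization.AtPrime.mapPiEvalRingHom_algebraMap_apply]
  change algebraMap _ _ ((e j).symm _) = _
  have hcomm : ∀ c : C j, (e j) c = algebraMap _ _ c := fun c => by
    simpa using (e j).commutes c
  rw [← hcomm, AlgEquiv.apply_symm_apply]

theorem main17982 (A : Type u) [CommRing A] [IsLocalRing A] (B : Type u) [CommRing B] [Algebra A B]
    [Module.Finite A B] :
    (∃ (ι : Type u) (_ : Fintype ι) (C : ι → Type u) (_ : ∀ j, CommRing (C j)),
        (∀ j, IsLocalRing (C j)) ∧ Nonempty (B ≃+* (∀ j, C j))) ↔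
    Function.Bijective
      (RingHom.pi (fun n : MaximalSpectrum B => algebraMap B (Localization.AtPrime n.asIdeal))) := by
  have hfun : ⇑(RingHom.pi (fun n : MaximalSpectrum B =>
      algebraMap B (Localization.AtPrime n.asIdeal))) = ⇑(toPiLocalization B) := rfl
  rw [hfun]
  constructor
  · rintro ⟨ι, _, C, _, hC, ⟨e⟩⟩
    refine ⟨toPiLocalization_injective B, ?_⟩
    have hs := toPiLocalization_pi_surjective C
    have hebij : Function.Bijective (e.toRingHom) := e.bijective
    have hnat := mapPiLocalization_naturality e.toRingHom hebij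
    have hcomp : Function.Surjective
        (⇑(mapPiLocalization e.toRingHom hebij) ∘ ⇑(toPiLocalization B)) := by
      have h1 : ⇑(mapPiLocalization e.toRingHom hebij) ∘ ⇑(toPiLocalization B) =
          ⇑(toPiLocalization (Π j, C j)) ∘ ⇑e := by
        funext b
        exact congrArg (fun f => f b) hnat
      rw [h1]
      exact hs.comp e.surjective
    exact hcomp.of_comp_left (mapPiLocalization_bijective _ hebij).1
  · intro h
    have hfin : Finite (MaximalSpectrum B) := finite_of_toPiLocalization_surjective h.2
    have := Fintype.ofFinite (MaximalSpectrum B)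
    exact ⟨MaximalSpectrum B, inferInstance, fun n => Localization.AtPrime n.asIdeal,
      inferInstance, fun n => inferInstance,
      ⟨RingEquiv.ofBijective (toPiLocalization B) h⟩⟩

/-- In a product of local rings, idempotents lift modulo any ideal. -/
theorem exists_idempotent_lift {B : Type*} [CommRing B] {ι : Type*} (C : ι → Type*)
    [∀ j, CommRing (C j)] [∀ j, IsLocalRing (C j)] (e : B ≃+* (∀ j, C j)) (J : Ideal B)
    (b : B) (hb : b * b - b ∈ J) : ∃ b' : B, IsIdempotentElem b' ∧ b - b' ∈ J := by
  have key : ∀ j, ∃ ε u : C j, ε * ε = ε ∧ e b j - ε = u * (e b j * e b j - e b j) := by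
    intro j
    rcases IsLocalRing.isUnit_or_isUnit_one_sub_self (e b j) with h | h
    · obtain ⟨v, hv⟩ := h.exists_left_inv
      refine ⟨1, v, one_mul 1, ?_⟩
      linear_combination (1 - e b j) * hv
    · obtain ⟨v, hv⟩ := h.exists_left_inv
      refine ⟨0, -v, zero_mul 0, ?_⟩
      linear_combination (- e b j) * hv
  choose ε u hε hu using key
  refine ⟨e.symm ε, ?_, ?_⟩
  · change e.symm ε * e.symm ε = e.symm ε
    rw [← map_mul]
    congr 1
    funext j
    exact hε j
  · have h1 : b - e.symm ε = e.symm u * (b * b - b) := by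
      apply e.injective
      rw [map_sub, map_mul, map_sub, map_mul, e.apply_symm_apply, e.apply_symm_apply]
      funext j
      exact hu j
    rw [h1]
    exact J.mul_mem_left _ hb

theorem main17970
    (A : Type u) [CommRing A] [IsLocalRing A] (B : Type u) [CommRing B] [Algebra A B] [Module.Finite A B] :
    (∃ (ι : Type u) (_ : Fintype ι) (C : ι → Type u) (_ : ∀ j, CommRing (C j)),
        (∀ j, IsLocalRing (C j)) ∧ Nonempty (B ≃+* (∀ j, C j))) ↔
      Set.SurjOn (Ideal.Quotient.mk (Ideal.map (algebraMap A B) (IsLocalRing.maximalIdeal A)))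
        {e : B | IsIdempotentElem e} {e | IsIdempotentElem e} := by
  classical
  set J : Ideal B := Ideal.map (algebraMap A B) (IsLocalRing.maximalIdeal A) with hJdef
  constructor
  · rintro ⟨ι, _, C, _, hC, ⟨e⟩⟩
    intro y hy
    obtain ⟨b, rfl⟩ := Ideal.Quotient.mk_surjective y
    have hb : b * b - b ∈ J := by
      rw [← Ideal.Quotient.eq, map_mul]
      exact hy
    obtain ⟨b', hb', hbb'⟩ := exists_idempotent_lift C e J b hb
    refine ⟨b', hb', ?_⟩
    exact ((Ideal.Quotient.eq).mpr hbb').symm
  · intro hlift
    have hJ : J ≤ Ideal.jacobson ⊥ :=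
      Groth.Agent.Helper19.Idem.map_le_jacobson_of_isIntegral (IsLocalRing.maximalIdeal A)
        (IsLocalRing.maximalIdeal_le_jacobson ⊥)
    have hArt : IsArtinianRing (B ⧸ J) := by
      letI : Field (A ⧸ IsLocalRing.maximalIdeal A) := Ideal.Quotient.field _
      have : Module.Finite (A ⧸ IsLocalRing.maximalIdeal A) (B ⧸ J) :=
        Module.Finite.of_restrictScalars_finite A _ _
      exact IsArtinianRing.of_finite (A ⧸ IsLocalRing.maximalIdeal A) (B ⧸ J)
    let mk := Ideal.Quotient.mk J
    haveI : Fintype (MaximalSpectrum (B ⧸ J)) := Fintype.ofFinite _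
    let L : MaximalSpectrum (B ⧸ J) → Type u := fun i => Localization.AtPrime i.1
    let E : (B ⧸ J) ≃+* (Π i, L i) := (MaximalSpectrum.toPiLocalizationEquiv (B ⧸ J)).toRingEquiv
    have hcoi0 : CompleteOrthogonalIdempotents (fun i : MaximalSpectrum (B ⧸ J) =>
        (Pi.single i 1 : Π i, L i)) := CompleteOrthogonalIdempotents.single L
    have hcoi1 : CompleteOrthogonalIdempotents (fun i : MaximalSpectrum (B ⧸ J) =>
        E.symm (Pi.single i 1 : Π i, L i)) := hcoi0.map E.symm.toRingHom
    have hex : ∀ i : MaximalSpectrum (B ⧸ J), ∃ x : B, IsIdempotentElem x ∧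
        mk x = E.symm (Pi.single i 1 : Π i, L i) := fun i => hlift (hcoi1.idem i)
    choose e he_idem he_mk using hex
    have hzero : ∀ x : B, IsIdempotentElem x → mk x = 0 → x = 0 := by
      intro x hx h0
      apply Groth.Agent.Helper19.Idem.idempotent_eq_of_sub_mem_jacobson hx IsIdempotentElem.zero
      rw [sub_zero]
      exact hJ (Ideal.Quotient.eq_zero_iff_mem.mp h0)
    have hcoi : CompleteOrthogonalIdempotents e := by
      refine ⟨⟨he_idem, ?_⟩, ?_⟩
      · intro i j hij
        apply hzero _ ((he_idem i).mul (he_idem j))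
        rw [map_mul, he_mk, he_mk]
        exact hcoi1.ortho hij
      · have hsum_idem : IsIdempotentElem (∑ i, e i) :=
          OrthogonalIdempotents.isIdempotentElem_sum ⟨he_idem, ?_⟩
        · apply Groth.Agent.Helper19.Idem.idempotent_eq_of_sub_mem_jacobson hsum_idem
            IsIdempotentElem.one
          apply hJ
          rw [← Ideal.Quotient.eq, map_sum, map_one]
          rw [Finset.sum_congr rfl (fun i _ => he_mk i)]
          exact hcoi1.complete
        · intro i j hij
          apply hzero _ ((he_idem i).mul (he_idem j))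
          rw [map_mul, he_mk, he_mk]
          exact hcoi1.ortho hij
    -- values of `E (mk (e i))`
    have hEe : ∀ i, E (mk (e i)) = (Pi.single i 1 : Π i, L i) := by
      intro i
      rw [he_mk, E.apply_symm_apply]
    let C : MaximalSpectrum (B ⧸ J) → Type u := fun i => B ⧸ Ideal.span {1 - e i}
    have hbij := hcoi.bijective_pi
    refine ⟨MaximalSpectrum (B ⧸ J), inferInstance, C, fun i => inferInstance, ?_,
      ⟨RingEquiv.ofBijective _ hbij⟩⟩
    intro i
    -- the map `C i → L i`
    let φ : B →+* L i := (Pi.evalRingHom L i).comp (E.toRingHom.comp mk)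
    have hφ : ∀ b : B, φ b = E (mk b) i := fun b => rfl
    have hker : ∀ a ∈ Ideal.span {1 - e i}, φ a = 0 := by
      intro a ha
      obtain ⟨c, rfl⟩ := Ideal.mem_span_singleton'.mp ha
      rw [map_mul, map_sub, map_one, hφ (e i), hEe, Pi.single_eq_same, sub_self, mul_zero]
    let ψ : C i →+* L i := Ideal.Quotient.lift _ φ hker
    have hloc : IsLocalHom ψ := by
      constructor
      intro x hx
      obtain ⟨b, rfl⟩ := Ideal.Quotient.mk_surjective x
      have hx' : IsUnit (E (mk b) i) := by
        have : ψ (Ideal.Quotient.mk _ b) = φ b := Ideal.Quotient.lift_mk _ _ _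
        rw [this, hφ] at hx
        exact hx
      set b' : B := b * e i + (1 - e i) with hb'
      have hunit1 : IsUnit (E (mk b')) := by
        rw [Pi.isUnit_iff]
        intro j
        have : E (mk b') j = E (mk b) j * (Pi.single i 1 : Π i, L i) j +
            (1 - (Pi.single i 1 : Π i, L i) j) := by
          rw [hb', map_add, map_mul, map_sub, map_one, map_add, map_mul, map_sub, map_one, hEe]
          rfl
        rw [this]
        by_cases hji : j = i
        · subst hji
          rw [Pi.single_eq_same, mul_one, sub_self, add_zero]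
          exact hx'
        · rw [Pi.single_eq_of_ne hji, mul_zero, sub_zero, zero_add]
          exact isUnit_one
      have hunit2 : IsUnit (mk b') := by
        have := hunit1.map E.symm.toRingHom
        simpa using this
      have hunit3 : IsUnit b' := by
        haveI := isLocalHom_of_le_jacobson_bot J hJ
        exact isUnit_of_map_unit (Ideal.Quotient.mk J) b' hunit2
      have h0 : Ideal.Quotient.mk (Ideal.span {1 - e i}) (1 - e i) = 0 :=
        Ideal.Quotient.eq_zero_iff_mem.mpr (Ideal.mem_span_singleton_self _)
      have h1 : Ideal.Quotient.mk (Ideal.span {1 - e i}) (e i) = 1 := by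
        rw [map_sub, map_one, sub_eq_zero] at h0
        exact h0.symm
      have heq : Ideal.Quotient.mk (Ideal.span {1 - e i}) b' =
          Ideal.Quotient.mk (Ideal.span {1 - e i}) b := by
        rw [hb', map_add, map_mul, h0, h1, mul_one, add_zero]
      rw [← heq]
      exact hunit3.map _
    exact RingHom.domain_isLocalRing ψ
end Groth.Agent.Lib.Helper26.ProdLocal
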