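import Mathlib
import Groth.Prelude.Def_QFDual

set_option autoImplicit false
set_option linter.style.haveILetI false
set_option linter.unusedSectionVars false

namespace Groth.Agent.Lib.Helper26.QFD6

open QFDual TensorProduct

universe u v w

variable {A : Type u} {B' : Type v} {A₁ : Type w} {B'₁ : Type v}
  [CommRing A] [CommRing B'] [CommRing A₁] [CommRing B'₁]
  [Algebra A B'] [Algebra A A₁] [Algebra B' B'₁] [Algebra A₁ B'₁] [Algebra A B'₁]
  [IsScalarTower A A₁ B'₁] [IsScalarTower A B' B'₁]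
  (h : Algebra.IsPushout A A₁ B' B'₁)

/-- for flat `A₁` and finitely presented `B'`, `toDual` is a base change -/
theorem isBaseChange_toDual [Module.Flat A A₁] [Module.FinitePresentation A B'] :
    IsBaseChange A₁ h.out.toDual := by
  have h0 := Module.FinitePresentation.isBaseChange_map A B' A A₁
  let E : (A₁ ⊗[A] B' →ₗ[A₁] A₁ ⊗[A] A) ≃ₗ[A₁] (B'₁ →ₗ[A₁] A₁) :=
    LinearEquiv.arrowCongr h.out.equiv (AlgebraTensorModule.rid A A₁ A₁)
  have h1 := h0.comp (IsBaseChange.ofEquiv E)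
  convert h1 using 1
  refine LinearMap.ext fun φ => ?_
  apply h.out.algHom_ext
  intro x
  rw [IsBaseChange.toDual_comp_apply]
  change _ = (AlgebraTensorModule.rid A A₁ A₁) ((LinearMap.baseChange A₁ φ)
    (h.out.equiv.symm ((IsScalarTower.toAlgHom A B' B'₁).toLinearMap x)))
  rw [IsBaseChange.equiv_symm_apply, LinearMap.baseChange_tmul, AlgebraTensorModule.rid_tmul,
    Algebra.algebraMap_eq_smul_one]

theorem smulA_toLinearMap (a₁ : A₁) (ψ : Disc.Omega A₁ B'₁) :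
    (algebraMap A₁ B'₁ a₁ • ψ).toLinearMap = a₁ • ψ.toLinearMap := by
  ext z
  rw [Disc.Omega.smul_toLinearMap_apply, ← Algebra.smul_def, map_smul, LinearMap.smul_apply]

theorem smulA_toLinearMap' (a : A) (φ : Disc.Omega A B') :
    (algebraMap A B' a • φ).toLinearMap = a • φ.toLinearMap := by
  ext z
  rw [Disc.Omega.smul_toLinearMap_apply, ← Algebra.smul_def, map_smul, LinearMap.smul_apply]

theorem bcFin_smul (c : B') (φ : Disc.Omega A B') :
    bcFin h (c • φ) = algebraMap B' B'₁ c • bcFin h φ :=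
  (bcFin h).map_smulₛₗ c φ

theorem bcFin_toLinearMap (φ : Disc.Omega A B') :
    (bcFin h φ).toLinearMap = h.out.toDual φ.toLinearMap := rfl

/-- universal property of `bcFin` at the level of `B' → B'₁`, from the one over `A → A₁` -/
theorem exists_lift (hD : IsBaseChange A₁ h.out.toDual)
    {Q : Type*} [AddCommGroup Q] [Module B'₁ Q]
    (g : Disc.Omega A B' →+ Q)
    (hg : ∀ (c : B') (φ : Disc.Omega A B'), g (c • φ) = algebraMap B' B'₁ c • g φ) :
    ∃ g' : Disc.Omega A₁ B'₁ →ₗ[B'₁] Q, ∀ φ, g' (bcFin h φ) = g φ := by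
  letI : Module A₁ Q := Module.compHom Q (algebraMap A₁ B'₁)
  letI : Module A Q := Module.compHom Q (algebraMap A B'₁)
  haveI : IsScalarTower A₁ B'₁ Q := ⟨fun a b q => by
    change (a • b) • q = algebraMap A₁ B'₁ a • b • q
    rw [Algebra.smul_def, mul_smul]⟩
  haveI : IsScalarTower A A₁ Q := ⟨fun a b q => by
    change algebraMap A₁ B'₁ (a • b) • q = algebraMap A B'₁ a • algebraMap A₁ B'₁ b • q
    rw [Algebra.smul_def, map_mul, mul_smul, ← IsScalarTower.algebraMap_apply]⟩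
  have smulA₁ : ∀ (a : A₁) (q : Q), a • q = algebraMap A₁ B'₁ a • q := fun a q => rfl
  have smulA : ∀ (a : A) (q : Q), a • q = algebraMap A B'₁ a • q := fun a q => rfl
  let gA : Module.Dual A B' →ₗ[A] Q :=
    { toFun := fun φ => g ⟨φ⟩
      map_add' := fun φ₁ φ₂ => by
        rw [← map_add]; rfl
      map_smul' := fun a φ => by
        have : (⟨a • φ⟩ : Disc.Omega A B') = algebraMap A B' a • ⟨φ⟩ := by
          apply Disc.Omega.ext
          rw [smulA_toLinearMap']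
        rw [this, hg, RingHom.id_apply, smulA, ← IsScalarTower.algebraMap_apply] }
  have gA_apply : ∀ φ : Disc.Omega A B', gA φ.toLinearMap = g φ := fun φ => rfl
  let g₀ : Module.Dual A₁ B'₁ →ₗ[A₁] Q := hD.lift gA
  have g₀_D : ∀ φ : Module.Dual A B', g₀ (h.out.toDual φ) = gA φ := fun φ => hD.lift_eq gA φ
  let G : Disc.Omega A₁ B'₁ →+ Q :=
    { toFun := fun ψ => g₀ ψ.toLinearMap
      map_zero' := by rw [Disc.Omega.zero_toLinearMap, map_zero]
      map_add' := fun ψ₁ ψ₂ => by rw [Disc.Omega.add_toLinearMap, map_add] }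
  have G_def : ∀ ψ, G ψ = g₀ ψ.toLinearMap := fun ψ => rfl
  have G_smulA : ∀ (a₁ : A₁) ψ, G (algebraMap A₁ B'₁ a₁ • ψ) = algebraMap A₁ B'₁ a₁ • G ψ := by
    intro a₁ ψ
    rw [G_def, G_def, smulA_toLinearMap, map_smul, smulA₁]
  have G_j : ∀ φ, G (bcFin h φ) = g φ := by
    intro φ
    rw [G_def, bcFin_toLinearMap, g₀_D, gA_apply]
  have G_tmul : ∀ (m : B') ψ, G (algebraMap B' B'₁ m • ψ) = algebraMap B' B'₁ m • G ψ := by
    intro m ψ
    obtain ⟨ψl⟩ := ψ
    induction ψl using hD.inductionOn with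
    | zero =>
      have : (⟨0⟩ : Disc.Omega A₁ B'₁) = 0 := rfl
      rw [this, smul_zero, map_zero, smul_zero]
    | tmul φ =>
      have : (⟨h.out.toDual φ⟩ : Disc.Omega A₁ B'₁) = bcFin h ⟨φ⟩ := rfl
      rw [this, ← bcFin_smul, G_j, G_j, hg]
    | smul a₁ ψl ih =>
      have : (⟨a₁ • ψl⟩ : Disc.Omega A₁ B'₁) = algebraMap A₁ B'₁ a₁ • ⟨ψl⟩ := by
        apply Disc.Omega.ext
        rw [smulA_toLinearMap]
      rw [this, smul_comm, G_smulA, ih, G_smulA, smul_comm]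
    | add ψ₁ ψ₂ h₁ h₂ =>
      have : (⟨ψ₁ + ψ₂⟩ : Disc.Omega A₁ B'₁) = ⟨ψ₁⟩ + ⟨ψ₂⟩ := rfl
      rw [this, smul_add, map_add, map_add, h₁, h₂, smul_add]
  have G_smul : ∀ (x : B'₁) ψ, G (x • ψ) = x • G ψ := by
    intro x
    induction x using h.out.inductionOn with
    | zero => intro ψ; rw [zero_smul, zero_smul, map_zero]
    | tmul m => intro ψ; exact G_tmul m ψ
    | smul a₁ n ih =>
      intro ψ
      rw [Algebra.smul_def, mul_smul, G_smulA, ih, mul_smul]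
    | add n₁ n₂ h₁ h₂ => intro ψ; rw [add_smul, map_add, h₁, h₂, add_smul]
  exact ⟨{ toFun := G, map_add' := G.map_add, map_smul' := G_smul }, G_j⟩

/-- uniqueness in the universal property -/
theorem lift_ext (hD : IsBaseChange A₁ h.out.toDual)
    {Q : Type*} [AddCommGroup Q] [Module B'₁ Q]
    (g₁ g₂ : Disc.Omega A₁ B'₁ →ₗ[B'₁] Q)
    (hg : ∀ φ, g₁ (bcFin h φ) = g₂ (bcFin h φ)) : g₁ = g₂ := by
  refine LinearMap.ext fun ψ => ?_
  obtain ⟨ψl⟩ := ψ
  induction ψl using hD.inductionOn with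
  | zero =>
    have : (⟨0⟩ : Disc.Omega A₁ B'₁) = 0 := rfl
    rw [this, map_zero, map_zero]
  | tmul φ => exact hg ⟨φ⟩
  | smul a₁ ψl ih =>
    have : (⟨a₁ • ψl⟩ : Disc.Omega A₁ B'₁) = algebraMap A₁ B'₁ a₁ • ⟨ψl⟩ := by
      apply Disc.Omega.ext
      rw [smulA_toLinearMap]
    rw [this, map_smul, map_smul, ih]
  | add ψ₁ ψ₂ h₁ h₂ =>
    have : (⟨ψ₁ + ψ₂⟩ : Disc.Omega A₁ B'₁) = ⟨ψ₁⟩ + ⟨ψ₂⟩ := rfl
    rw [this, map_add, map_add, h₁, h₂]

variable {B₁ : Type v} [CommRing B₁] [Algebra B'₁ B₁] [Algebra B' B₁] [IsScalarTower B' B'₁ B₁]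

theorem omegaBC_bijective (hD : IsBaseChange A₁ h.out.toDual) :
    Function.Bijective (omegaBC (B₁ := B₁) h) := by
  -- the map `φ ↦ 1 ⊗ φ`
  let g : Disc.Omega A B' →+ omega A B' B₁ :=
    { toFun := fun φ => (1 : B₁) ⊗ₜ[B'] φ
      map_zero' := by rw [tmul_zero]
      map_add' := fun φ₁ φ₂ => by rw [tmul_add] }
  have hg : ∀ (c : B') (φ : Disc.Omega A B'), g (c • φ) = algebraMap B' B'₁ c • g φ := by
    intro c φ
    change (1 : B₁) ⊗ₜ[B'] (c • φ) = algebraMap B' B'₁ c • ((1 : B₁) ⊗ₜ[B'] φ)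
    rw [← smul_tmul, smul_tmul', algebraMap_smul]
  obtain ⟨g', hg'⟩ := exists_lift h hD g hg
  let Θ : omega A₁ B'₁ B₁ →ₗ[B₁] omega A B' B₁ := LinearMap.liftBaseChange B₁ g'
  have hΘ : ∀ (b₁ : B₁) ψ, Θ (b₁ ⊗ₜ[B'₁] ψ) = b₁ • g' ψ := fun b₁ ψ => by
    simp [Θ]
  have h1 : Θ ∘ₗ omegaBC (B₁ := B₁) h = LinearMap.id := by
    apply TensorProduct.AlgebraTensorModule.ext
    intro b₁ φ
    rw [LinearMap.comp_apply, omegaBC_tmul, hΘ, hg', LinearMap.id_apply]
    change b₁ • ((1 : B₁) ⊗ₜ[B'] φ) = _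
    rw [smul_tmul', smul_eq_mul, mul_one]
  have h2 : omegaBC (B₁ := B₁) h ∘ₗ Θ = LinearMap.id := by
    apply TensorProduct.AlgebraTensorModule.ext
    intro b₁ ψ
    rw [LinearMap.comp_apply, hΘ, map_smul, LinearMap.id_apply]
    have key : ((omegaBC (B₁ := B₁) h).restrictScalars B'₁) ∘ₗ g' =
        (TensorProduct.mk B'₁ B₁ (Disc.Omega A₁ B'₁) 1) := by
      apply lift_ext h hD
      intro φ
      rw [LinearMap.comp_apply, hg']
      change omegaBC h ((1 : B₁) ⊗ₜ[B'] φ) = _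
      rw [omegaBC_tmul]
      rfl
    have := LinearMap.congr_fun key ψ
    rw [LinearMap.comp_apply] at this
    change omegaBC h (g' ψ) = (1 : B₁) ⊗ₜ[B'₁] ψ at this
    rw [this, smul_tmul', smul_eq_mul, mul_one]
  exact ⟨fun x y hxy => by
      have := congrArg Θ hxy
      rwa [← LinearMap.comp_apply, ← LinearMap.comp_apply, h1] at this,
    fun y => ⟨Θ y, by rw [← LinearMap.comp_apply, h2, LinearMap.id_apply]⟩⟩

end Groth.Agent.Lib.Helper26.QFD6
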