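import Groth.Agent.Lib.Helper7.NoetherDifferentTrace

/-!
# Noether different of a finite free algebra: `{φ(τ)}` and `D² ⊆ 𝔑 ⊆ D`
-/

set_option autoImplicit false
universe u v

namespace Groth.Agent.Lib.Helper26.NoetherDiff
open Groth.Agent.Lib.Helper7.ND TensorProduct

variable {A : Type u} {B : Type v} [CommRing A] [CommRing B] [Algebra A B]

/-- The `B`-linear map `ω → B` attached to an element of `Ann(I)`. -/
noncomputable def omegaHomOf [Module.Finite A B] [Module.Free A B] (ξ : B ⊗[A] B)
    (hξ : ξ ∈ Submodule.annihilator (RingHom.ker (Algebra.TensorProduct.lmul' (S := B) A))) :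
    Disc.Omega A B →ₗ[B] B where
  toFun l := theta ξ l.toLinearMap
  map_add' l l' := by
    change theta ξ (l.toLinearMap + l'.toLinearMap) = _
    rw [map_add]
  map_smul' c l := by
    have h := (mem_annihilator_ker_iff ξ).mp hξ c l.toLinearMap
    change theta ξ (l.toLinearMap ∘ₗ LinearMap.mulLeft A c) = c • theta ξ l.toLinearMap
    rw [h, smul_eq_mul]

theorem range_eq [Module.Finite A B] [Module.Free A B] :
    (Disc.noetherDifferent A B : Set B) =
      Set.range (fun φ : Disc.Omega A B →ₗ[B] B => φ (Disc.Omega.trace A B)) := by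
  classical
  ext d
  constructor
  · intro hd
    obtain ⟨ξ, hξ, rfl⟩ := (mem_noetherDifferent_iff d).mp hd
    refine ⟨omegaHomOf ξ hξ, ?_⟩
    exact theta_trace (Module.Free.chooseBasis A B) ξ ((mem_annihilator_ker_iff ξ).mp hξ)
  · rintro ⟨φ, rfl⟩
    obtain ⟨ξ, ⟨hξ, hξ'⟩, -⟩ := exists_unique_of_omegaHom φ
    refine (mem_noetherDifferent_iff _).mpr ⟨ξ, hξ, ?_⟩
    simp only
    rw [hξ']
    exact (theta_trace (Module.Free.chooseBasis A B) ξ ((mem_annihilator_ker_iff ξ).mp hξ)).symm

/-- A free module's dual separates points. -/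
theorem eq_zero_of_forall_dual [Module.Free A B] (x : B) (h : ∀ l : B →ₗ[A] A, l x = 0) : x = 0 := by
  have := (Module.Free.chooseBasis A B).ext_elem_iff (x := x) (y := 0)
  rw [this]
  intro i
  simpa using h ((Module.Free.chooseBasis A B).coord i)

theorem sq_mem_noetherDifferent [Module.Finite A B] [Module.Free A B] (b : B)
    (hb : b ∈ Disc.differentSet A B) : b * b ∈ Disc.noetherDifferent A B := by
  classical
  -- `N = Ann(τ)` is killed by `b`
  have hN : ∀ c : B, (∀ x, Algebra.trace A B (c * x) = 0) → b * c = 0 := by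
    intro c hc
    apply eq_zero_of_forall_dual (A := A)
    intro l
    obtain ⟨c', hc'⟩ := hb l
    rw [hc' c, mul_comm c' c]
    exact hc _
  choose f hf using hb
  -- `φ = b * f`
  let φ : Disc.Omega A B →ₗ[B] B :=
  { toFun := fun l => b * f l.toLinearMap
    map_add' := by
      intro l l'
      rw [← mul_add, ← sub_eq_zero, ← mul_sub]
      apply hN
      intro x
      rw [sub_mul, add_mul, map_sub, map_add, ← hf, ← hf, ← hf]
      change l.toLinearMap (b * x) + l'.toLinearMap (b * x) - _ = 0
      simp
    map_smul' := by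
      intro y l
      rw [RingHom.id_apply, smul_eq_mul, mul_left_comm, ← sub_eq_zero, ← mul_sub]
      apply hN
      intro x
      rw [sub_mul, map_sub, ← hf, mul_assoc, mul_left_comm y, ← hf]
      change l.toLinearMap (y * (b * x)) - l.toLinearMap (b * (y * x)) = 0
      rw [mul_left_comm, sub_self] }
  have hφ : φ (Disc.Omega.trace A B) = b * b := by
    change b * f (Algebra.trace A B) = b * b
    rw [← sub_eq_zero, ← mul_sub]
    apply hN
    intro x
    rw [sub_mul, map_sub, ← hf, sub_self]
  have : b * b ∈ (Disc.noetherDifferent A B : Set B) := by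
    rw [range_eq]; exact ⟨φ, hφ⟩
  exact this

end Groth.Agent.Lib.Helper26.NoetherDiff
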