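import Mathlib

set_option autoImplicit false
universe u v
open scoped TensorProduct

namespace Groth.Agent.Lib.Helper26.FlatGlue

variable {R : Type u} {R' : Type u} [CommRing R] [CommRing R'] [Algebra R R']
variable {ι : Type v} [Fintype ι] [DecidableEq ι]
variable {A : Type u} [AddCommGroup A] [Module R A]
  {Ai : ι → Type u} [∀ i, AddCommGroup (Ai i)] [∀ i, Module R (Ai i)]
  {Aij : ι → ι → Type u} [∀ i j, AddCommGroup (Aij i j)] [∀ i j, Module R (Aij i j)]
  (r : ∀ i, A →ₗ[R] Ai i) (r1 : ∀ i j, Ai i →ₗ[R] Aij i j) (r2 : ∀ i j, Ai j →ₗ[R] Aij i j)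

theorem piRight_proj (M : ι → Type u) [∀ i, AddCommGroup (M i)] [∀ i, Module R (M i)]
    (z : R' ⊗[R] (∀ i, M i)) (i : ι) :
    TensorProduct.piRight R R' R' M z i = (LinearMap.proj i : (∀ i, M i) →ₗ[R] M i).lTensor R' z := by
  induction z with
  | zero => simp
  | add x y hx hy => rw [map_add, map_add, Pi.add_apply, hx, hy]
  | tmul x f => simp

theorem eq_zero_of_proj (M : ι → Type u) [∀ i, AddCommGroup (M i)] [∀ i, Module R (M i)]
    (z : R' ⊗[R] (∀ i, M i))
    (h : ∀ i, (LinearMap.proj i : (∀ i, M i) →ₗ[R] M i).lTensor R' z = 0) : z = 0 := by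
  apply (TensorProduct.piRight R R' R' M).injective
  rw [map_zero]
  funext i
  rw [piRight_proj, h]
  rfl

/-- the first Čech differential -/
def d0 : A →ₗ[R] (∀ i, Ai i) := LinearMap.pi r

/-- the second Čech differential -/
def d1 : (∀ i, Ai i) →ₗ[R] (∀ p : ι × ι, Aij p.1 p.2) :=
  LinearMap.pi fun p => (r1 p.1 p.2) ∘ₗ LinearMap.proj p.1 - (r2 p.1 p.2) ∘ₗ LinearMap.proj p.2

theorem exact_d (hr : ∀ i j a, r1 i j (r i a) = r2 i j (r j a))
    (hglue : ∀ a : ∀ i, Ai i, (∀ i j, r1 i j (a i) = r2 i j (a j)) → ∃ a0, ∀ i, r i a0 = a i) :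
    Function.Exact (d0 r) (d1 r1 r2) := by
  intro a
  constructor
  · intro h
    have h' : ∀ i j, r1 i j (a i) = r2 i j (a j) := by
      intro i j
      have := congrFun h (i, j)
      simp only [d1, LinearMap.pi_apply, LinearMap.sub_apply, LinearMap.comp_apply,
        LinearMap.proj_apply, Pi.zero_apply] at this
      exact sub_eq_zero.mp this
    obtain ⟨a0, ha0⟩ := hglue a h'
    exact ⟨a0, funext ha0⟩
  · rintro ⟨a0, rfl⟩
    funext p
    simp only [d1, d0, LinearMap.pi_apply, LinearMap.sub_apply, LinearMap.comp_apply,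
      LinearMap.proj_apply, Pi.zero_apply]
    exact sub_eq_zero.mpr (hr p.1 p.2 a0)

variable [Module.Flat R R']
variable {B : Type u} [AddCommGroup B] [Module R' B]
  {Bi : ι → Type u} [∀ i, AddCommGroup (Bi i)] [∀ i, Module R' (Bi i)]
  {Bij : ι → ι → Type u} [∀ i j, AddCommGroup (Bij i j)] [∀ i j, Module R' (Bij i j)]
  (s : ∀ i, B →+ Bi i) (s1 : ∀ i j, Bi i →+ Bij i j) (s2 : ∀ i j, Bi j →+ Bij i j)
  (θ : R' ⊗[R] A →ₗ[R'] B) (θi : ∀ i, R' ⊗[R] Ai i →ₗ[R'] Bi i)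
  (θij : ∀ i j, R' ⊗[R] Aij i j →ₗ[R'] Bij i j)

include r in
theorem injective_of_cover (hinj : ∀ a, (∀ i, r i a = 0) → a = 0)
    (hθ : ∀ i x, s i (θ x) = θi i ((r i).lTensor R' x))
    (hi : ∀ i, Function.Injective (θi i)) : Function.Injective θ := by
  rw [injective_iff_map_eq_zero]
  intro x hx
  have h0 : Function.Injective (d0 r) := by
    rw [injective_iff_map_eq_zero]
    intro a ha
    exact hinj a fun i => congrFun ha i
  have h1 := Module.Flat.lTensor_preserves_injective_linearMap (M := R') (d0 r) h0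
  apply h1
  rw [map_zero]
  apply eq_zero_of_proj
  intro i
  rw [← LinearMap.lTensor_comp_apply]
  have : (LinearMap.proj i : (∀ i, Ai i) →ₗ[R] Ai i) ∘ₗ d0 r = r i := rfl
  rw [this]
  apply hi i
  rw [← hθ, hx, map_zero, map_zero]

include r r1 r2 s1 s2 θij in
theorem bijective_of_cover (hinj : ∀ a, (∀ i, r i a = 0) → a = 0)
    (hr : ∀ i j a, r1 i j (r i a) = r2 i j (r j a))
    (hglue : ∀ a : ∀ i, Ai i, (∀ i j, r1 i j (a i) = r2 i j (a j)) → ∃ a0, ∀ i, r i a0 = a i)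
    (hs : ∀ i j b, s1 i j (s i b) = s2 i j (s j b))
    (hBinj : ∀ b, (∀ i, s i b = 0) → b = 0)
    (hθ : ∀ i x, s i (θ x) = θi i ((r i).lTensor R' x))
    (hθ1 : ∀ i j x, s1 i j (θi i x) = θij i j ((r1 i j).lTensor R' x))
    (hθ2 : ∀ i j x, s2 i j (θi j x) = θij i j ((r2 i j).lTensor R' x))
    (hi : ∀ i, Function.Bijective (θi i)) (hij : ∀ i j, Function.Injective (θij i j)) :
    Function.Bijective θ := by
  refine ⟨injective_of_cover r s θ θi hinj hθ fun i => (hi i).1, fun y => ?_⟩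
  choose x hx using fun i => (hi i).2 (s i y)
  let z : R' ⊗[R] (∀ i, Ai i) := (TensorProduct.piRight R R' R' Ai).symm x
  have hz : ∀ i, (LinearMap.proj i : (∀ i, Ai i) →ₗ[R] Ai i).lTensor R' z = x i := by
    intro i
    rw [← piRight_proj, LinearEquiv.apply_symm_apply]
  have hcomp : ∀ i j, (r1 i j).lTensor R' (x i) = (r2 i j).lTensor R' (x j) := by
    intro i j
    apply hij i j
    rw [← hθ1, ← hθ2, hx, hx, hs]
  have hz1 : (d1 r1 r2).lTensor R' z = 0 := by
    apply eq_zero_of_proj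
    intro p
    rw [← LinearMap.lTensor_comp_apply]
    have : (LinearMap.proj p : (∀ p : ι × ι, Aij p.1 p.2) →ₗ[R] Aij p.1 p.2) ∘ₗ d1 r1 r2 =
        (r1 p.1 p.2) ∘ₗ LinearMap.proj p.1 - (r2 p.1 p.2) ∘ₗ LinearMap.proj p.2 := rfl
    rw [this, LinearMap.lTensor_sub, LinearMap.sub_apply, LinearMap.lTensor_comp_apply,
      LinearMap.lTensor_comp_apply, hz, hz, hcomp, sub_self]
  have hex := Module.Flat.lTensor_exact R' (exact_d r r1 r2 hr hglue)
  obtain ⟨x0, hx0⟩ := (hex z).mp hz1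
  refine ⟨x0, ?_⟩
  rw [← sub_eq_zero]
  apply hBinj
  intro i
  rw [map_sub, hθ, sub_eq_zero, ← hx i]
  congr 1
  have : (LinearMap.proj i : (∀ i, Ai i) →ₗ[R] Ai i) ∘ₗ d0 r = r i := rfl
  rw [← this, LinearMap.lTensor_comp_apply, hx0, hz]

end Groth.Agent.Lib.Helper26.FlatGlue
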