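import Groth.Agent.Lib.Helper26.AffineBC
import Groth.Agent.Lib.Helper26.FlatGlue
import Groth.Agent.Lib.Helper29.QCohQcqs

set_option autoImplicit false
set_option linter.style.haveILetI false
universe u
open CategoryTheory AlgebraicGeometry Opposite TopologicalSpace
open Groth.Agent.Lib.Helper29.QCoh
open scoped TensorProduct
open Scheme.Modules

namespace Groth.Agent.Lib.Helper26.FlatBC

variable {X Y X' Y' : Scheme.{u}}

noncomputable section

/-- `Γ(M, U)` viewed as a `Γ(Y, V)`-module through `f.appLE V U hU`. -/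
def SecMod (f : X ⟶ Y) (M : X.Modules) (V : Y.Opens) (U : X.Opens) (_hU : U ≤ f ⁻¹ᵁ V) : Type u :=
  Γ(M, U)

section SecMod
variable (f : X ⟶ Y) (M : X.Modules) (V : Y.Opens) (U : X.Opens) (hU : U ≤ f ⁻¹ᵁ V)

instance : AddCommGroup (SecMod f M V U hU) := inferInstanceAs (AddCommGroup Γ(M, U))

instance : Module Γ(Y, V) (SecMod f M V U hU) :=
  Module.compHom (Γ(M, U) : Type u) (f.appLE V U hU).hom

/-- the identity map to sections -/
def SecMod.out (m : SecMod f M V U hU) : Γ(M, U) := m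
/-- the identity map from sections -/
def SecMod.mk (m : Γ(M, U)) : SecMod f M V U hU := m

theorem SecMod.smul_out (a : Γ(Y, V)) (m : SecMod f M V U hU) :
    (a • m).out = (f.appLE V U hU).hom a • m.out := rfl

/-- restriction maps are linear -/
def resL {U' : X.Opens} (h : U' ≤ U) :
    SecMod f M V U hU →ₗ[Γ(Y, V)] SecMod f M V U' (h.trans hU) where
  toFun m := SecMod.mk f M V U' _ (res M h m.out)
  map_add' a b := map_add (res M h) a.out b.out
  map_smul' a m := by
    change res M h ((f.appLE V U hU).hom a • m.out) =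
      (f.appLE V U' (h.trans hU)).hom a • res M h m.out
    rw [res_smul, ← Scheme.Hom.appLE_map f hU (homOfLE h).op]
    rfl

theorem resL_out {U' : X.Opens} (h : U' ≤ U) (m : SecMod f M V U hU) :
    (resL f M V U hU h m).out = res M h m.out := rfl

end SecMod

section Theta
variable (f : X ⟶ Y) (g : Y' ⟶ Y) (g' : X' ⟶ X) (f' : X' ⟶ Y') (w : g' ≫ f = f' ≫ g)
  (M : X.Modules) {V : Y.Opens} {V' : Y'.Opens} (hVV : V' ≤ g ⁻¹ᵁ V)

/-- the open `g'⁻¹U ∩ f'⁻¹V'` -/
abbrev dag (g' : X' ⟶ X) (f' : X' ⟶ Y') (V' : Y'.Opens) (U : X.Opens) : X'.Opens :=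
  g' ⁻¹ᵁ U ⊓ f' ⁻¹ᵁ V'

theorem dag_mono {U U' : X.Opens} (h : U' ≤ U) : dag g' f' V' U' ≤ dag g' f' V' U :=
  inf_le_inf_right _ (g'.preimage_mono h)

/-- pulled-back sections restricted to `dag U` -/
def rho (V' : Y'.Opens) (U : X.Opens) : Γ(M, U) →+ Γ((pullback g').obj M, dag g' f' V' U) :=
  (res ((pullback g').obj M) inf_le_left).comp (pullSect g' M U)

theorem rho_smul (U : X.Opens) (a : Γ(X, U)) (m : Γ(M, U)) :
    rho g' f' M V' U (a • m) =
      (g'.appLE U (dag g' f' V' U) inf_le_left).hom a • rho g' f' M V' U m := by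
  change res _ _ (pullSect g' M U (a • m)) = _
  rw [pullSect_smul, res_smul]
  rfl

theorem rho_res {U U' : X.Opens} (h : U' ≤ U) (m : Γ(M, U)) :
    rho g' f' M V' U' (res M h m) =
      res ((pullback g').obj M) (dag_mono g' f' h) (rho g' f' M V' U m) := by
  change res _ _ (pullSect g' M U' (res M h m)) = res _ _ (res _ _ (pullSect g' M U m))
  rw [pullSect_res, res_res, res_res]

include w in
theorem appLE_comm {U : X.Opens} (hU : U ≤ f ⁻¹ᵁ V) (a : Γ(Y, V)) :
    (g'.appLE U (dag g' f' V' U) inf_le_left).hom ((f.appLE V U hU).hom a) =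
      (f'.appLE V' (dag g' f' V' U) inf_le_right).hom ((g.appLE V V' hVV).hom a) := by
  rw [← CommRingCat.comp_apply, ← CommRingCat.comp_apply, Scheme.Hom.appLE_comp_appLE,
    Scheme.Hom.appLE_comp_appLE]
  simp only [w]

/-- the target module `Γ(g'^*M, dag U)` over `Γ(Y', V')` -/
abbrev Tgt (V' : Y'.Opens) (U : X.Opens) : Type u :=
  SecMod f' ((pullback g').obj M) V' (dag g' f' V' U) inf_le_right

/-- `ρ` as a semilinear map, made linear over `Γ(Y, V)` by restricting scalars on the target. -/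
def rhoL {U : X.Opens} (hU : U ≤ f ⁻¹ᵁ V) :
    letI := (g.appLE V V' hVV).hom.toAlgebra
    letI : Module Γ(Y, V) (Tgt g' f' M V' U) :=
      Module.compHom _ (algebraMap Γ(Y, V) Γ(Y', V'))
    SecMod f M V U hU →ₗ[Γ(Y, V)] Tgt g' f' M V' U :=
  letI := (g.appLE V V' hVV).hom.toAlgebra
  letI : Module Γ(Y, V) (Tgt g' f' M V' U) :=
    Module.compHom _ (algebraMap Γ(Y, V) Γ(Y', V'))
  { toFun := fun m => SecMod.mk f' _ V' _ _ (rho g' f' M V' U m.out)
    map_add' := fun a b => map_add (rho g' f' M V' U) a.out b.out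
    map_smul' := fun a m => by
      change rho g' f' M V' U ((f.appLE V U hU).hom a • m.out) =
        (f'.appLE V' (dag g' f' V' U) inf_le_right).hom ((g.appLE V V' hVV).hom a) •
          rho g' f' M V' U m.out
      rw [rho_smul, appLE_comm f g g' f' w hVV hU] }

/-- the comparison map `Γ(Y',V') ⊗ Γ(M,U) → Γ(g'^*M, dag U)` -/
def theta {U : X.Opens} (hU : U ≤ f ⁻¹ᵁ V) :
    letI := (g.appLE V V' hVV).hom.toAlgebra
    Γ(Y', V') ⊗[Γ(Y, V)] SecMod f M V U hU →ₗ[Γ(Y', V')] Tgt g' f' M V' U :=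
  letI := (g.appLE V V' hVV).hom.toAlgebra
  letI : Module Γ(Y, V) (Tgt g' f' M V' U) :=
    Module.compHom _ (algebraMap Γ(Y, V) Γ(Y', V'))
  haveI : IsScalarTower Γ(Y, V) Γ(Y', V') (Tgt g' f' M V' U) :=
    IsScalarTower.of_algebraMap_smul fun _ _ => rfl
  LinearMap.liftBaseChange Γ(Y', V') (rhoL f g g' f' w M hVV hU)

theorem theta_tmul {U : X.Opens} (hU : U ≤ f ⁻¹ᵁ V) (r' : Γ(Y', V'))
    (m : SecMod f M V U hU) :
    letI := (g.appLE V V' hVV).hom.toAlgebra
    theta f g g' f' w M hVV hU (r' ⊗ₜ m) =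
      r' • SecMod.mk f' ((pullback g').obj M) V' _ inf_le_right (rho g' f' M V' U m.out) := by
  letI := (g.appLE V V' hVV).hom.toAlgebra
  letI : Module Γ(Y, V) (Tgt g' f' M V' U) :=
    Module.compHom _ (algebraMap Γ(Y, V) Γ(Y', V'))
  haveI : IsScalarTower Γ(Y, V) Γ(Y', V') (Tgt g' f' M V' U) :=
    IsScalarTower.of_algebraMap_smul fun _ _ => rfl
  exact LinearMap.liftBaseChange_tmul _ _ _ _

/-- restriction on the target side, as an additive map -/
def sres {U U' : X.Opens} (h : U' ≤ U) : Tgt g' f' M V' U →+ Tgt g' f' M V' U' :=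
  res ((pullback g').obj M) (dag_mono g' f' h)

theorem sres_smul {U U' : X.Opens} (h : U' ≤ U) (r' : Γ(Y', V')) (n : Tgt g' f' M V' U) :
    sres g' f' M h (r' • n) = r' • sres g' f' M h n := by
  change res ((pullback g').obj M) (dag_mono g' f' h)
      ((f'.appLE V' (dag g' f' V' U) inf_le_right).hom r' • n.out) =
    (f'.appLE V' (dag g' f' V' U') inf_le_right).hom r' •
      res ((pullback g').obj M) (dag_mono g' f' h) n.out
  rw [res_smul, ← Scheme.Hom.appLE_map f' inf_le_right (homOfLE (dag_mono g' f' h)).op]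
  rfl

theorem theta_natural {U U' : X.Opens} (hU : U ≤ f ⁻¹ᵁ V) (h : U' ≤ U) :
    letI := (g.appLE V V' hVV).hom.toAlgebra
    ∀ x : Γ(Y', V') ⊗[Γ(Y, V)] SecMod f M V U hU,
      sres g' f' M h (theta f g g' f' w M hVV hU x) =
        theta f g g' f' w M hVV (h.trans hU) ((resL f M V U hU h).lTensor Γ(Y', V') x) := by
  letI := (g.appLE V V' hVV).hom.toAlgebra
  intro x
  induction x with
  | zero => simp
  | add x y hx hy => rw [map_add, map_add, map_add, map_add, hx, hy]
  | tmul r' m =>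
    rw [LinearMap.lTensor_tmul, theta_tmul, theta_tmul, sres_smul]
    congr 1
    exact (rho_res g' f' M h m.out).symm

end Theta

section Affine
variable (f : X ⟶ Y) (g : Y' ⟶ Y) (g' : X' ⟶ X) (f' : X' ⟶ Y') (hc : IsPullback g' f' f g)
  (M : X.Modules) [M.IsQuasicoherent] {V : Y.Opens} {V' : Y'.Opens} (hVV : V' ≤ g ⁻¹ᵁ V)

set_option maxRecDepth 8000 in
theorem theta_bijective_of_isAffineOpen (hV : IsAffineOpen V) (hV' : IsAffineOpen V')
    {U : X.Opens} (hU : IsAffineOpen U) (hUV : U ≤ f ⁻¹ᵁ V) :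
    Function.Bijective (theta f g g' f' hc.w M hVV hUV) := by
  have hiso := isIso_pushoutSection_of_isAffineOpen hc hVV hUV rfl hV hV' hU
  have hpo := (isIso_pushoutSection_iff hc hVV hUV rfl).mp hiso
  have hU' : IsAffineOpen (dag g' f' V' U) := by
    have : IsAffine V.toScheme := hV
    have : IsAffine V'.toScheme := hV'
    have : IsAffine U.toScheme := hU
    exact .of_isIso (Scheme.Hom.isPullback_resLE hc hVV hUV rfl).isoPullback.hom
  letI algRA : Algebra Γ(Y, V) Γ(X, U) := (f.appLE V U hUV).hom.toAlgebra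
  letI algRR' : Algebra Γ(Y, V) Γ(Y', V') := (g.appLE V V' hVV).hom.toAlgebra
  letI algAA' : Algebra Γ(X, U) Γ(X', dag g' f' V' U) :=
    (g'.appLE U (dag g' f' V' U) inf_le_left).hom.toAlgebra
  letI algR'A' : Algebra Γ(Y', V') Γ(X', dag g' f' V' U) :=
    (f'.appLE V' (dag g' f' V' U) inf_le_right).hom.toAlgebra
  letI algRA' : Algebra Γ(Y, V) Γ(X', dag g' f' V' U) :=
    ((g'.appLE U (dag g' f' V' U) inf_le_left).hom.comp (f.appLE V U hUV).hom).toAlgebra
  haveI : IsScalarTower Γ(Y, V) Γ(X, U) Γ(X', dag g' f' V' U) :=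
    IsScalarTower.of_algebraMap_eq' rfl
  haveI : IsScalarTower Γ(Y, V) Γ(Y', V') Γ(X', dag g' f' V' U) := by
    apply IsScalarTower.of_algebraMap_eq'
    change (g'.appLE U (dag g' f' V' U) inf_le_left).hom.comp (f.appLE V U hUV).hom =
      (f'.appLE V' (dag g' f' V' U) inf_le_right).hom.comp (g.appLE V V' hVV).hom
    rw [← CommRingCat.hom_comp, ← CommRingCat.hom_comp]
    exact congrArg CommRingCat.Hom.hom hpo.w
  haveI hpush : Algebra.IsPushout Γ(Y, V) Γ(X, U) Γ(Y', V') Γ(X', dag g' f' V' U) :=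
    CommRingCat.isPushout_iff_isPushout.mp hpo
  haveI hpush' : Algebra.IsPushout Γ(Y, V) Γ(Y', V') Γ(X, U) Γ(X', dag g' f' V' U) :=
    hpush.symm
  letI modA : Module Γ(X, U) (SecMod f M V U hUV) := inferInstanceAs (Module Γ(X, U) Γ(M, U))
  haveI : IsScalarTower Γ(Y, V) Γ(X, U) (SecMod f M V U hUV) :=
    IsScalarTower.of_algebraMap_smul fun _ _ => rfl
  let e₂ := pullbackSectionsEquiv g' M hU' hU inf_le_left
  let c := Algebra.IsPushout.cancelBaseChange Γ(Y, V) Γ(Y', V') Γ(X, U) Γ(X', dag g' f' V' U)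
    (SecMod f M V U hUV)
  let ιM : Γ(M, U) ≃ₗ[Γ(X, U)] SecMod f M V U hUV :=
    { toFun := fun m => m
      invFun := fun m => m
      map_add' := fun _ _ => rfl
      map_smul' := fun _ _ => rfl
      left_inv := fun _ => rfl
      right_inv := fun _ => rfl }
  let jj : Γ(X', dag g' f' V' U) ⊗[Γ(X, U)] Γ(M, U) ≃ₗ[Γ(X', dag g' f' V' U)]
      Γ(X', dag g' f' V' U) ⊗[Γ(X, U)] SecMod f M V U hUV :=
    TensorProduct.AlgebraTensorModule.congr (LinearEquiv.refl _ _) ιM
  let Φ : Tgt g' f' M V' U → Γ(Y', V') ⊗[Γ(Y, V)] SecMod f M V U hUV :=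
    fun n => c (jj (e₂ n.out))
  have Φadd : ∀ a b, Φ (a + b) = Φ a + Φ b := by
    intro a b
    change c (jj (e₂ (a.out + b.out))) = _
    rw [map_add, map_add, map_add]
  have Φzero : Φ 0 = 0 := by
    change c (jj (e₂ 0)) = _
    rw [map_zero, map_zero, map_zero]
  have Φtmul : ∀ (r' : Γ(Y', V')) (m : SecMod f M V U hUV),
      Φ (r' • SecMod.mk f' ((pullback g').obj M) V' _ inf_le_right (rho g' f' M V' U m.out)) =
        r' ⊗ₜ m := by
    intro r' m
    have hout : (r' • SecMod.mk f' ((pullback g').obj M) V' _ inf_le_right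
        (rho g' f' M V' U m.out)).out =
        (f'.appLE V' (dag g' f' V' U) inf_le_right).hom r' • rho g' f' M V' U m.out := rfl
    have h3 : e₂ (rho g' f' M V' U m.out) = (1 : Γ(X', dag g' f' V' U)) ⊗ₜ[Γ(X, U)] m.out :=
      Groth.Agent.Helper19.PullUnit.pullbackSectionsEquiv_pullSect g' M hU' hU inf_le_left m.out
    have h4 : jj ((1 : Γ(X', dag g' f' V' U)) ⊗ₜ[Γ(X, U)] m.out) =
        (1 : Γ(X', dag g' f' V' U)) ⊗ₜ[Γ(X, U)] m := rfl
    have h5 : Φ (r' • SecMod.mk f' ((pullback g').obj M) V' _ inf_le_right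
        (rho g' f' M V' U m.out)) =
        c (jj (e₂ ((f'.appLE V' (dag g' f' V' U) inf_le_right).hom r' •
          rho g' f' M V' U m.out))) := rfl
    rw [h5, _root_.map_smul, h3, _root_.map_smul, h4, TensorProduct.smul_tmul', smul_eq_mul, mul_one]
    have h6 := Algebra.IsPushout.cancelBaseChange_symm_tmul Γ(Y, V) Γ(Y', V') Γ(X, U)
        Γ(X', dag g' f' V' U) (SecMod f M V U hUV) r' m
    rw [LinearEquiv.symm_apply_eq] at h6
    exact h6.symm
  have key : ∀ x : Γ(Y', V') ⊗[Γ(Y, V)] SecMod f M V U hUV,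
      Φ (theta f g g' f' hc.w M hVV hUV x) = x := by
    intro x
    induction x with
    | zero => rw [map_zero, Φzero]
    | add x y hx hy => rw [map_add, Φadd, hx, hy]
    | tmul r' m => rw [theta_tmul, Φtmul]
  have hΦ : Function.Bijective Φ := by
    have b1 : Function.Bijective e₂ := e₂.bijective
    have b2 : Function.Bijective jj := jj.bijective
    have b3 : Function.Bijective c := c.bijective
    exact (b3.comp (b2.comp b1))
  refine ⟨fun a b hab => ?_, fun n => ?_⟩
  · rw [← key a, ← key b, hab]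
  · obtain ⟨x, hx⟩ : ∃ x, x = Φ n := ⟨_, rfl⟩
    refine ⟨x, hΦ.1 ?_⟩
    rw [key, hx]

end Affine

section Glue
variable (f : X ⟶ Y) (g : Y' ⟶ Y) (g' : X' ⟶ X) (f' : X' ⟶ Y') (hc : IsPullback g' f' f g)
  (M : X.Modules) {V : Y.Opens} {V' : Y'.Opens} (hVV : V' ≤ g ⁻¹ᵁ V)

theorem dag_cover {U : X.Opens} {ι : Type*} (Ui : ι → X.Opens) (hcov : U ≤ iSup Ui) :
    dag g' f' V' U ≤ ⨆ i, dag g' f' V' (Ui i) := by
  intro x hx
  have h1 : g' x ∈ U := hx.1
  obtain ⟨i, hi⟩ := Opens.mem_iSup.mp (hcov h1)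
  exact Opens.mem_iSup.mpr ⟨i, hi, hx.2⟩

theorem theta_injective_of_cover [Flat g] (hV : IsAffineOpen V) (hV' : IsAffineOpen V')
    {U : X.Opens} (hUV : U ≤ f ⁻¹ᵁ V) {n : ℕ} (Ui : Fin n → X.Opens) (hUi : ∀ i, Ui i ≤ U)
    (hcov : U ≤ iSup Ui)
    (hi : ∀ i, Function.Injective (theta f g g' f' hc.w M hVV ((hUi i).trans hUV))) :
    Function.Injective (theta f g g' f' hc.w M hVV hUV) := by
  letI := (g.appLE V V' hVV).hom.toAlgebra
  haveI : Module.Flat Γ(Y, V) Γ(Y', V') := g.flat_appLE hV hV' hVV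
  refine FlatGlue.injective_of_cover (r := fun i => resL f M V U hUV (hUi i))
    (s := fun i => sres g' f' M (hUi i)) (theta f g g' f' hc.w M hVV hUV)
    (fun i => theta f g g' f' hc.w M hVV ((hUi i).trans hUV)) ?_ ?_ hi
  · intro a ha
    exact eq_zero_of_res_cover_eq_zero M Ui hUi hcov a.out ha
  · intro i x
    exact theta_natural f g g' f' hc.w M hVV hUV (hUi i) x

theorem theta_bijective_of_cover [Flat g] (hV : IsAffineOpen V) (hV' : IsAffineOpen V')
    {U : X.Opens} (hUV : U ≤ f ⁻¹ᵁ V) {n : ℕ} (Ui : Fin n → X.Opens) (hUi : ∀ i, Ui i ≤ U)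
    (hcov : U ≤ iSup Ui)
    (hi : ∀ i, Function.Bijective (theta f g g' f' hc.w M hVV ((hUi i).trans hUV)))
    (hij : ∀ i j, Function.Injective (theta f g g' f' hc.w M hVV
      ((inf_le_left.trans (hUi i)).trans hUV : Ui i ⊓ Ui j ≤ f ⁻¹ᵁ V))) :
    Function.Bijective (theta f g g' f' hc.w M hVV hUV) := by
  letI := (g.appLE V V' hVV).hom.toAlgebra
  haveI : Module.Flat Γ(Y, V) Γ(Y', V') := g.flat_appLE hV hV' hVV
  refine FlatGlue.bijective_of_cover (r := fun i => resL f M V U hUV (hUi i))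
    (r1 := fun i j => resL f M V (Ui i) ((hUi i).trans hUV) (inf_le_left : Ui i ⊓ Ui j ≤ Ui i))
    (r2 := fun i j => resL f M V (Ui j) ((hUi j).trans hUV) (inf_le_right : Ui i ⊓ Ui j ≤ Ui j))
    (s := fun i => sres g' f' M (hUi i))
    (s1 := fun i j => sres g' f' M (inf_le_left : Ui i ⊓ Ui j ≤ Ui i))
    (s2 := fun i j => sres g' f' M (inf_le_right : Ui i ⊓ Ui j ≤ Ui j))
    (theta f g g' f' hc.w M hVV hUV)
    (fun i => theta f g g' f' hc.w M hVV ((hUi i).trans hUV))
    (fun i j => theta f g g' f' hc.w M hVV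
      ((inf_le_left.trans (hUi i)).trans hUV : Ui i ⊓ Ui j ≤ f ⁻¹ᵁ V))
    ?_ ?_ ?_ ?_ ?_ ?_ ?_ ?_ hi hij
  · intro a ha
    exact eq_zero_of_res_cover_eq_zero M Ui hUi hcov a.out ha
  · intro i j a
    change res M _ (res M _ a.out) = res M _ (res M _ a.out)
    rw [res_res, res_res]
  · intro a ha
    exact exists_gluing M Ui U hUi hcov (fun i => (a i).out) ha
  · intro i j b
    change res _ _ (res _ _ b.out) = res _ _ (res _ _ b.out)
    rw [res_res, res_res]
  · intro b hb
    exact eq_zero_of_res_cover_eq_zero ((pullback g').obj M) (fun i => dag g' f' V' (Ui i))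
      (fun i => dag_mono g' f' (hUi i)) (dag_cover g' f' Ui hcov) b.out hb
  · intro i x
    exact theta_natural f g g' f' hc.w M hVV hUV (hUi i) x
  · intro i j x
    exact theta_natural f g g' f' hc.w M hVV ((hUi i).trans hUV) inf_le_left x
  · intro i j x
    exact theta_natural f g g' f' hc.w M hVV ((hUi j).trans hUV) inf_le_right x

variable [M.IsQuasicoherent]

theorem theta_injective_of_isCompact [Flat g] (hV : IsAffineOpen V) (hV' : IsAffineOpen V')
    {U : X.Opens} (hUV : U ≤ f ⁻¹ᵁ V) (hU : IsCompact (U : Set X)) :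
    Function.Injective (theta f g g' f' hc.w M hVV hUV) := by
  obtain ⟨n, Ui, hUa, hUi, hcov⟩ := exists_finite_affine_cover hU
  exact theta_injective_of_cover f g g' f' hc M hVV hV hV' hUV Ui hUi hcov fun i =>
    (theta_bijective_of_isAffineOpen f g g' f' hc M hVV hV hV' (hUa i) ((hUi i).trans hUV)).1

theorem theta_bijective_of_qcqs [Flat g] (hV : IsAffineOpen V) (hV' : IsAffineOpen V')
    {U : X.Opens} (hUV : U ≤ f ⁻¹ᵁ V) (hU : IsCompact (U : Set X))
    (hU' : IsQuasiSeparated (U : Set X)) :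
    Function.Bijective (theta f g g' f' hc.w M hVV hUV) := by
  obtain ⟨n, Ui, hUa, hUi, hcov⟩ := exists_finite_affine_cover hU
  refine theta_bijective_of_cover f g g' f' hc M hVV hV hV' hUV Ui hUi hcov (fun i =>
    theta_bijective_of_isAffineOpen f g g' f' hc M hVV hV hV' (hUa i) ((hUi i).trans hUV))
    (fun i j => ?_)
  apply theta_injective_of_isCompact f g g' f' hc M hVV hV hV'
  exact hU' (Ui i) (Ui j) (hUi i) (Ui i).2 (hUa i).isCompact (hUi j) (Ui j).2 (hUa j).isCompact

end Glue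

section Final
variable (f : X ⟶ Y) (g : Y' ⟶ Y) (g' : X' ⟶ X) (f' : X' ⟶ Y') (hc : IsPullback g' f' f g)
  (M : X.Modules) [M.IsQuasicoherent] {V : Y.Opens} {V' : Y'.Opens} (hVV : V' ≤ g ⁻¹ᵁ V)

theorem res_bijective_of_eq {Z : Scheme.{u}} (N : Z.Modules) {A B : Z.Opens} (h : A = B) :
    Function.Bijective (res N h.le) := by
  subst h
  exact ⟨fun a b hab => by simpa [res_self] using hab, fun a => ⟨a, res_self N a⟩⟩

open Groth.Agent.Lib.Helper26.AffineBC in
set_option maxRecDepth 8000 in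
include hVV in
theorem uMap_app_bijective [QuasiCompact f] [QuasiSeparated f] [Flat g]
    (hV : IsAffineOpen V) (hV' : IsAffineOpen V') :
    Function.Bijective ((uMap f g g' f' hc.w M).app V') := by
  have hWc : IsCompact ((f ⁻¹ᵁ V : X.Opens) : Set X) :=
    QuasiCompact.isCompact_preimage (f := f) _ V.2 hV.isCompact
  have hWs : IsQuasiSeparated ((f ⁻¹ᵁ V : X.Opens) : Set X) :=
    f.isQuasiSeparated_preimage hV.isQuasiSeparated
  have hθ := theta_bijective_of_qcqs f g g' f' hc M hVV hV hV' (le_refl (f ⁻¹ᵁ V)) hWc hWs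
  have hU'U : f' ⁻¹ᵁ V' ≤ g' ⁻¹ᵁ (f ⁻¹ᵁ V) := by
    rw [← preimage_eq f g g' f' hc.w V]
    exact f'.preimage_mono hVV
  have hdag : dag g' f' V' (f ⁻¹ᵁ V) = f' ⁻¹ᵁ V' := inf_eq_right.mpr hU'U
  haveI hGq : ((pushforward f).obj M).IsQuasicoherent :=
    isQuasicoherent_pushforward_of_qcqs f M
  letI algRR' : Algebra Γ(Y, V) Γ(Y', V') := (g.appLE V V' hVV).hom.toAlgebra
  let e₁ := pullbackSectionsEquiv g ((pushforward f).obj M) hV' hV hVV
  let ιG : Γ((pushforward f).obj M, V) ≃ₗ[Γ(Y, V)] SecMod f M V (f ⁻¹ᵁ V) le_rfl :=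
    { toFun := fun m => m
      invFun := fun m => m
      map_add' := fun _ _ => rfl
      map_smul' := fun a m => by
        change (f.app V).hom a • (show Γ(M, f ⁻¹ᵁ V) from m) =
          (f.appLE V (f ⁻¹ᵁ V) le_rfl).hom a • (show Γ(M, f ⁻¹ᵁ V) from m)
        rw [Scheme.Hom.app_eq_appLE]
      left_inv := fun _ => rfl
      right_inv := fun _ => rfl }
  let T : Γ(Y', V') ⊗[Γ(Y, V)] Γ((pushforward f).obj M, V) ≃ₗ[Γ(Y', V')]
      Γ(Y', V') ⊗[Γ(Y, V)] SecMod f M V (f ⁻¹ᵁ V) le_rfl :=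
    TensorProduct.AlgebraTensorModule.congr (LinearEquiv.refl Γ(Y', V') Γ(Y', V')) ιG
  let uF : Γ((pullback g).obj ((pushforward f).obj M), V') → Γ((pullback g').obj M, f' ⁻¹ᵁ V') :=
    fun z => (uMap f g g' f' hc.w M).app V' z
  let rE : Γ((pullback g').obj M, f' ⁻¹ᵁ V') → Γ((pullback g').obj M, dag g' f' V' (f ⁻¹ᵁ V)) :=
    fun z => res ((pullback g').obj M) hdag.le z
  have hrE : Function.Bijective rE := res_bijective_of_eq _ hdag
  have uadd : ∀ a b, uF (a + b) = uF a + uF b := fun a b =>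
    _root_.map_add ((uMap f g g' f' hc.w M).app V').hom a b
  have uzero : uF 0 = 0 := _root_.map_zero ((uMap f g g' f' hc.w M).app V').hom
  have usmul : ∀ (s : Γ(Y', V')) a, uF (s • a) = (f'.app V').hom s • uF a :=
    fun s a => app_smul' (uMap f g g' f' hc.w M) s a
  have radd : ∀ a b, rE (a + b) = rE a + rE b := fun a b => _root_.map_add _ a b
  have rzero : rE 0 = 0 := _root_.map_zero _
  have key : ∀ w : Γ(Y', V') ⊗[Γ(Y, V)] Γ((pushforward f).obj M, V),
      rE (uF (e₁.symm w)) = (theta f g g' f' hc.w M hVV (le_refl (f ⁻¹ᵁ V)) (T w)).out := by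
    intro w
    induction w with
    | zero =>
      rw [_root_.map_zero, uzero, rzero, _root_.map_zero, _root_.map_zero]
      rfl
    | add x y hx hy =>
      rw [_root_.map_add, uadd, radd, hx, hy, _root_.map_add, _root_.map_add]
      rfl
    | tmul s m =>
      have h1 : e₁.symm (s ⊗ₜ[Γ(Y, V)] m) =
          s • res ((pullback g).obj ((pushforward f).obj M)) hVV
            (pullSect g ((pushforward f).obj M) V m) := by
        rw [LinearEquiv.symm_apply_eq, _root_.map_smul]
        have := Groth.Agent.Helper19.PullUnit.pullbackSectionsEquiv_pullSect g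
          ((pushforward f).obj M) hV' hV hVV m
        rw [this, TensorProduct.smul_tmul', smul_eq_mul, mul_one]
      have h2 : uF (res ((pullback g).obj ((pushforward f).obj M)) hVV
            (pullSect g ((pushforward f).obj M) V m)) =
          res ((pullback g').obj M) hU'U (pullSect g' M (f ⁻¹ᵁ V) (ιG m).out) :=
        uMap_res_pullSect f g g' f' hc.w M hVV hU'U m
      have h3 : T (s ⊗ₜ[Γ(Y, V)] m) = s ⊗ₜ[Γ(Y, V)] (ιG m) := rfl
      rw [h1, usmul, h2, h3, theta_tmul]
      change res ((pullback g').obj M) hdag.le ((f'.app V').hom s •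
        res ((pullback g').obj M) hU'U (pullSect g' M (f ⁻¹ᵁ V) (ιG m).out)) =
        (f'.appLE V' (dag g' f' V' (f ⁻¹ᵁ V)) inf_le_right).hom s •
          res ((pullback g').obj M) inf_le_left (pullSect g' M (f ⁻¹ᵁ V) (ιG m).out)
      rw [res_smul, res_res]
      rfl
  have hfun : rE ∘ uF = (fun n : Tgt g' f' M V' (f ⁻¹ᵁ V) => n.out) ∘
      (theta f g g' f' hc.w M hVV (le_refl (f ⁻¹ᵁ V))) ∘ T ∘ e₁ := by
    funext z
    simp only [Function.comp_apply]
    rw [← key (e₁ z), LinearEquiv.symm_apply_apply]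
  have b1 : Function.Bijective e₁ := e₁.bijective
  have b2 : Function.Bijective T := T.bijective
  have b4 : Function.Bijective (fun n : Tgt g' f' M V' (f ⁻¹ᵁ V) => n.out) :=
    ⟨fun a b h => h, fun a => ⟨a, rfl⟩⟩
  have hcomp : Function.Bijective (rE ∘ uF) := by
    rw [hfun]
    exact b4.comp (hθ.comp (b2.comp b1))
  exact (Function.Bijective.of_comp_iff' hrE uF).mp hcomp

open Groth.Agent.Lib.Helper26.AffineBC in
theorem isIso_uMap [QuasiCompact f] [QuasiSeparated f] [Flat g] :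
    IsIso (uMap f g g' f' hc.w M) := by
  haveI : QuasiCompact f' := MorphismProperty.of_isPullback hc ‹_›
  haveI : QuasiSeparated f' := MorphismProperty.of_isPullback hc ‹_›
  haveI : ((pushforward f).obj M).IsQuasicoherent := isQuasicoherent_pushforward_of_qcqs f M
  haveI : ((pullback g).obj ((pushforward f).obj M)).IsQuasicoherent := isQuasicoherent_pullback _ _
  haveI : ((pullback g').obj M).IsQuasicoherent := isQuasicoherent_pullback _ _
  haveI : ((pushforward f').obj ((pullback g').obj M)).IsQuasicoherent :=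
    isQuasicoherent_pushforward_of_qcqs f' _
  refine isIso_of_app_bijective_of_affine_cover (uMap f g g' f' hc.w M)
    (fun p : AffinePairs g => (p.1.1 : Y'.Opens)) (fun p => p.1.1.2) (fun x => ?_) (fun p => ?_)
  · obtain ⟨U, V, hU, hV, hxU, hUV⟩ := exists_affine_pair g x
    exact ⟨⟨(⟨U, hU⟩, ⟨V, hV⟩), hUV⟩, hxU⟩
  · exact uMap_app_bijective f g g' f' hc M p.2 p.1.2.2 p.1.1.2

open Groth.Agent.Lib.Helper26.AffineBC in
theorem main [QuasiCompact f] [QuasiSeparated f] [Flat g] :
    IsIso ((Scheme.Modules.pullback g).map ((Scheme.Modules.pushforward f).map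
        ((Scheme.Modules.pullbackPushforwardAdjunction g').unit.app M)) ≫
      (Scheme.Modules.pullback g).map ((Scheme.Modules.pushforwardComp g' f ≪≫
          Scheme.Modules.pushforwardCongr hc.w ≪≫ (Scheme.Modules.pushforwardComp f' g).symm).hom.app
        ((Scheme.Modules.pullback g').obj M)) ≫
      (Scheme.Modules.pullbackPushforwardAdjunction g).counit.app
        ((Scheme.Modules.pushforward f').obj ((Scheme.Modules.pullback g').obj M))) := by
  have h := isIso_uMap f g g' f' hc M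
  have e : uMap f g g' f' hc.w M = (Scheme.Modules.pullback g).map (vMap f g g' f' hc.w M) ≫
      (Scheme.Modules.pullbackPushforwardAdjunction g).counit.app _ := by
    unfold uMap
    rw [Adjunction.homEquiv_counit]
  rw [e] at h
  have e2 : (Scheme.Modules.pullback g).map ((Scheme.Modules.pushforward f).map
        ((Scheme.Modules.pullbackPushforwardAdjunction g').unit.app M)) ≫
      (Scheme.Modules.pullback g).map ((Scheme.Modules.pushforwardComp g' f ≪≫
          Scheme.Modules.pushforwardCongr hc.w ≪≫ (Scheme.Modules.pushforwardComp f' g).symm).hom.app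
        ((Scheme.Modules.pullback g').obj M)) ≫
      (Scheme.Modules.pullbackPushforwardAdjunction g).counit.app
        ((Scheme.Modules.pushforward f').obj ((Scheme.Modules.pullback g').obj M)) =
      (Scheme.Modules.pullback g).map (vMap f g g' f' hc.w M) ≫
      (Scheme.Modules.pullbackPushforwardAdjunction g).counit.app _ := by
    unfold vMap
    simp only [Functor.map_comp, Category.assoc, Iso.trans_hom, Iso.symm_hom, NatTrans.comp_app]
  rw [e2]
  exact h

end Final

end

end Groth.Agent.Lib.Helper26.FlatBC
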