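import Mathlib
import Groth.Prelude.Def_Tame

set_option autoImplicit false
set_option linter.style.haveILetI false
set_option linter.unusedSectionVars false

namespace Groth.Agent.Lib.Helper26.OrdZ

open Function

universe u v w

variable {A : Type u} [CommRing A] [IsDomain A] [IsNoetherianRing A] [Ring.KrullDimLE 1 A]
  {K : Type v} [Field K] [Algebra A K] [IsFractionRing A K]

theorem ordFrac_eq (f : K) : CycAlg.ordFrac A K f =
    WithZero.recZeroCoe (motive := fun _ => ℤ) 0 (fun z => Multiplicative.toAdd z)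
      (Ring.ordFrac A f) := by
  rw [CycAlg.ordFrac, dif_pos ⟨inferInstance, inferInstance, inferInstance, inferInstance⟩]

theorem ordFrac_mul {x y : K} (hx : x ≠ 0) (hy : y ≠ 0) :
    CycAlg.ordFrac A K (x * y) = CycAlg.ordFrac A K x + CycAlg.ordFrac A K y := by
  rw [ordFrac_eq, ordFrac_eq, ordFrac_eq, map_mul]
  have h1 : Ring.ordFrac A x ≠ 0 := (map_ne_zero _).mpr hx
  have h2 : Ring.ordFrac A y ≠ 0 := (map_ne_zero _).mpr hy
  obtain ⟨a, ha⟩ := WithZero.ne_zero_iff_exists.mp h1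
  obtain ⟨b, hb⟩ := WithZero.ne_zero_iff_exists.mp h2
  rw [← ha, ← hb]
  rw [← WithZero.coe_mul]
  simp only [WithZero.recZeroCoe_coe, toAdd_mul]

theorem ordFrac_one : CycAlg.ordFrac A K (1 : K) = 0 := by
  rw [ordFrac_eq, map_one]
  rfl

theorem ordFrac_algebraMap {a : A} (ha : a ≠ 0) :
    CycAlg.ordFrac A K (algebraMap A K a) = ((Ring.ord A a).toNat : ℤ) := by
  have hnz : a ∈ nonZeroDivisors A := mem_nonZeroDivisors_of_ne_zero ha
  have hfin := Ring.ord_ne_top hnz
  have hn : Ring.ord A a = ((Ring.ord A a).toNat : ℕ∞) := (ENat.natCast_toNat hfin).symm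
  rw [ordFrac_eq, Ring.ordFrac_eq_ord A ha, Ring.ordMonoidWithZeroHom_eq_coe A hnz hn]
  simp

end Groth.Agent.Lib.Helper26.OrdZ
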