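import Mathlib
import Groth.Agent.Lib.Helper12.OneDim

/-! Relative lengths of submodules, the index of two commensurable submodules, and the length
identity of the snake lemma. -/

set_option autoImplicit false
set_option linter.style.haveILetI false

namespace Groth.Agent.Lib.Helper26.RelLength

open Function
open Groth.Agent.Lib.Helper12.OneDim (length_six length_ker_add_range)

universe u v w

section rl

variable {A : Type u} [CommRing A] {V : Type v} [AddCommGroup V] [Module A V]

/-- relative length of `M / (N ∩ M)` -/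
noncomputable def rl (N M : Submodule A V) : ℕ∞ := Module.length A (↥M ⧸ N.submoduleOf M)

theorem rl_chain {L N M : Submodule A V} (h1 : L ≤ N) (h2 : N ≤ M) :
    rl L M = rl L N + rl N M := by
  have hLM : L.submoduleOf N ≤ (L.submoduleOf M).comap (Submodule.inclusion h2) := by
    intro x hx
    exact hx
  have hNM : L.submoduleOf M ≤ N.submoduleOf M := by
    intro x hx
    exact h1 hx
  let f : (↥N ⧸ L.submoduleOf N) →ₗ[A] (↥M ⧸ L.submoduleOf M) :=
    Submodule.mapQ _ _ (Submodule.inclusion h2) hLM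
  let g : (↥M ⧸ L.submoduleOf M) →ₗ[A] (↥M ⧸ N.submoduleOf M) :=
    Submodule.factor hNM
  have hfmk : ∀ x : N, f (Submodule.Quotient.mk x) =
      Submodule.Quotient.mk (Submodule.inclusion h2 x) := fun x => rfl
  have hgmk : ∀ x : M, g (Submodule.Quotient.mk x) = Submodule.Quotient.mk x := fun x => rfl
  have hf : Injective f := by
    rw [← LinearMap.ker_eq_bot, LinearMap.ker_eq_bot']
    intro x hx
    obtain ⟨x, rfl⟩ := Submodule.mkQ_surjective _ x
    rw [Submodule.mkQ_apply, hfmk, Submodule.Quotient.mk_eq_zero] at hx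
    rw [Submodule.mkQ_apply, Submodule.Quotient.mk_eq_zero]
    exact hx
  have hg : Surjective g := Submodule.factor_surjective _
  have hfg : Exact f g := by
    intro y
    obtain ⟨y, rfl⟩ := Submodule.mkQ_surjective _ y
    rw [Submodule.mkQ_apply, hgmk, Submodule.Quotient.mk_eq_zero]
    constructor
    · intro hy
      exact ⟨Submodule.Quotient.mk ⟨y.1, hy⟩, rfl⟩
    · rintro ⟨x, hx⟩
      obtain ⟨x, rfl⟩ := Submodule.mkQ_surjective _ x
      rw [Submodule.mkQ_apply, hfmk, Submodule.Quotient.eq] at hx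
      have h3 : (y : V) = x - (Submodule.inclusion h2 x - y : M) := by
        simp
      show (y : V) ∈ N
      rw [h3]
      exact N.sub_mem x.2 (h1 hx)
  exact Module.length_eq_add_of_exact f g hf hg hfg

theorem rl_self (M : Submodule A V) : rl M M = 0 := by
  rw [rl, Module.length_eq_zero_iff, Submodule.submoduleOf_self]
  infer_instance

variable {V' : Type w} [AddCommGroup V'] [Module A V']

theorem rl_map (e : V →ₗ[A] V') (he : Injective e) (N M : Submodule A V) :
    rl (N.map e) (M.map e) = rl N M := by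
  symm
  refine (Submodule.Quotient.equiv (N.submoduleOf M) ((N.map e).submoduleOf (M.map e))
    (Submodule.equivMapOfInjective e he M) ?_).length_eq
  ext ⟨y, hy⟩
  simp only [Submodule.mem_map, Submodule.submoduleOf, Submodule.mem_comap, Submodule.subtype_apply]
  constructor
  · rintro ⟨x, hx, hxy⟩
    refine ⟨x, hx, ?_⟩
    exact congrArg Subtype.val hxy
  · rintro ⟨n, hn, hny⟩
    obtain ⟨m, hm, hmy⟩ := hy
    have : n = m := he (hny.trans hmy.symm)
    subst this
    exact ⟨⟨n, hm⟩, hn, Subtype.ext hny⟩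

/-- quotient of a module by a submodule as a relative length inside an ambient module -/
theorem length_quotient_eq_rl {X : Type w} [AddCommGroup X] [Module A X] (e : X →ₗ[A] V)
    (he : Injective e) (N : Submodule A X) :
    Module.length A (X ⧸ N) = rl (N.map e) (LinearMap.range e) := by
  rw [← Submodule.map_top, rl_map e he, rl]
  refine (Submodule.Quotient.equiv N (N.submoduleOf ⊤) (Submodule.topEquiv (R := A) (M := X)).symm
    ?_).length_eq
  ext ⟨y, hy⟩
  simp only [Submodule.mem_map, Submodule.submoduleOf, Submodule.mem_comap, Submodule.subtype_apply]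
  constructor
  · rintro ⟨x, hx, hxy⟩
    have : x = y := congrArg Subtype.val hxy
    rw [← this]
    exact hx
  · intro h
    exact ⟨y, h, rfl⟩

end rl

section idx

variable {A : Type u} [CommRing A] {V : Type v} [AddCommGroup V] [Module A V]

/-- the index `len(M/M∩N) - len(N/M∩N)` -/
noncomputable def idx (M N : Submodule A V) : ℤ :=
  ((rl (M ⊓ N) M).toNat : ℤ) - ((rl (M ⊓ N) N).toNat : ℤ)

theorem idx_eq {L M N : Submodule A V} (hLM : L ≤ M) (hLN : L ≤ N) (h1 : rl L M < ⊤)
    (h2 : rl L N < ⊤) : idx M N = ((rl L M).toNat : ℤ) - ((rl L N).toNat : ℤ) := by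
  have e1 := rl_chain (le_inf hLM hLN) (inf_le_left : M ⊓ N ≤ M)
  have e2 := rl_chain (le_inf hLM hLN) (inf_le_right : M ⊓ N ≤ N)
  rw [e1] at h1
  rw [e2] at h2
  have f1 : rl L (M ⊓ N) ≠ ⊤ := fun h => by simp [h] at h1
  have f2 : rl (M ⊓ N) M ≠ ⊤ := fun h => by simp [h] at h1
  have f3 : rl (M ⊓ N) N ≠ ⊤ := fun h => by simp [h] at h2
  rw [idx, e1, e2, ENat.toNat_add f1 f2, ENat.toNat_add f1 f3]
  push_cast
  ring

theorem idx_self (M : Submodule A V) : idx M M = 0 := by
  rw [idx, sub_self]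

theorem idx_symm (M N : Submodule A V) : idx M N = - idx N M := by
  rw [idx, idx, inf_comm]
  ring

theorem idx_cocycle {M N P : Submodule A V} (h1 : rl (M ⊓ N ⊓ P) M < ⊤)
    (h2 : rl (M ⊓ N ⊓ P) N < ⊤) (h3 : rl (M ⊓ N ⊓ P) P < ⊤) :
    idx M N + idx N P = idx M P := by
  have l1 : M ⊓ N ⊓ P ≤ M := inf_le_left.trans inf_le_left
  have l2 : M ⊓ N ⊓ P ≤ N := inf_le_left.trans inf_le_right
  have l3 : M ⊓ N ⊓ P ≤ P := inf_le_right
  rw [idx_eq l1 l2 h1 h2, idx_eq l2 l3 h2 h3, idx_eq l1 l3 h1 h3]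
  ring

variable {V' : Type w} [AddCommGroup V'] [Module A V']

theorem idx_map (e : V →ₗ[A] V') (he : Injective e) (M N : Submodule A V) :
    idx (M.map e) (N.map e) = idx M N := by
  rw [idx, idx, ← Submodule.map_inf e he, rl_map e he, rl_map e he]

/-- when `N ≤ M` the index is a relative length -/
theorem idx_of_le {M N : Submodule A V} (h : N ≤ M) (hfin : rl N M < ⊤) :
    idx M N = ((rl N M).toNat : ℤ) := by
  rw [idx_eq h le_rfl hfin (by rw [rl_self]; exact ENat.top_pos), rl_self]
  simp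

end idx

section gen

variable {A : Type u} [CommRing A]

/-- an endomorphism of a finite length module has kernel and cokernel of the same length -/
theorem length_ker_eq_length_coker {X : Type v} [AddCommGroup X] [Module A X]
    (hX : Module.length A X < ⊤) (f : X →ₗ[A] X) :
    Module.length A (LinearMap.ker f) = Module.length A (X ⧸ LinearMap.range f) := by
  have h1 := length_ker_add_range f
  have h2 : Module.length A X = Module.length A (LinearMap.range f) +
      Module.length A (X ⧸ LinearMap.range f) :=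
    Module.length_eq_add_of_exact (LinearMap.range f).subtype (LinearMap.range f).mkQ
      (Submodule.injective_subtype _) (Submodule.mkQ_surjective _)
      (LinearMap.exact_subtype_mkQ _)
  have hfin : Module.length A (LinearMap.range f) ≠ ⊤ :=
    ((Module.length_le_of_injective _ (Submodule.injective_subtype _)).trans_lt hX).ne
  rw [h1, add_comm] at h2
  exact WithTop.add_left_cancel hfin h2

variable {M₁ M₂ M₃ N₁ N₂ N₃ : Type v}
  [AddCommGroup M₁] [Module A M₁] [AddCommGroup M₂] [Module A M₂] [AddCommGroup M₃] [Module A M₃]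
  [AddCommGroup N₁] [Module A N₁] [AddCommGroup N₂] [Module A N₂] [AddCommGroup N₃] [Module A N₃]

/-- the length identity coming from the snake lemma -/
theorem length_snake (i₁ : M₁ →ₗ[A] N₁) (i₂ : M₂ →ₗ[A] N₂) (i₃ : M₃ →ₗ[A] N₃)
    (f₁ : M₁ →ₗ[A] M₂) (f₂ : M₂ →ₗ[A] M₃) (hf : Exact f₁ f₂) (hf₁ : Injective f₁)
    (hf₂ : Surjective f₂)
    (g₁ : N₁ →ₗ[A] N₂) (g₂ : N₂ →ₗ[A] N₃) (hg : Exact g₁ g₂) (hg₁ : Injective g₁)
    (hg₂ : Surjective g₂)
    (h₁ : g₁.comp i₁ = i₂.comp f₁) (h₂ : g₂.comp i₂ = i₃.comp f₂) :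
    Module.length A (LinearMap.ker i₁) + Module.length A (LinearMap.ker i₃) +
        Module.length A (N₂ ⧸ LinearMap.range i₂) =
      Module.length A (LinearMap.ker i₂) + Module.length A (N₁ ⧸ LinearMap.range i₁) +
        Module.length A (N₃ ⧸ LinearMap.range i₃) := by
  have hι₂ : Exact (LinearMap.ker i₂).subtype i₂ := LinearMap.exact_subtype_ker_map _
  have hι₃ : Exact (LinearMap.ker i₃).subtype i₃ := LinearMap.exact_subtype_ker_map _
  have hπ₁ : Exact i₁ (LinearMap.range i₁).mkQ := LinearMap.exact_map_mkQ_range _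
  have hπ₂ : Exact i₂ (LinearMap.range i₂).mkQ := LinearMap.exact_map_mkQ_range _
  have hk₁ : ∀ x ∈ LinearMap.ker i₁, f₁ x ∈ LinearMap.ker i₂ := by
    intro x hx
    rw [LinearMap.mem_ker] at hx ⊢
    have := LinearMap.congr_fun h₁ x
    simp only [LinearMap.comp_apply] at this
    rw [← this, hx, map_zero]
  have hk₂ : ∀ x ∈ LinearMap.ker i₂, f₂ x ∈ LinearMap.ker i₃ := by
    intro x hx
    rw [LinearMap.mem_ker] at hx ⊢
    have := LinearMap.congr_fun h₂ x
    simp only [LinearMap.comp_apply] at this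
    rw [← this, hx, map_zero]
  let F₁ : LinearMap.ker i₁ →ₗ[A] LinearMap.ker i₂ := f₁.restrict hk₁
  let F₂ : LinearMap.ker i₂ →ₗ[A] LinearMap.ker i₃ := f₂.restrict hk₂
  have hr₁ : LinearMap.range i₁ ≤ (LinearMap.range i₂).comap g₁ := by
    rintro _ ⟨x, rfl⟩
    exact ⟨f₁ x, (LinearMap.congr_fun h₁ x).symm⟩
  have hr₂ : LinearMap.range i₂ ≤ (LinearMap.range i₃).comap g₂ := by
    rintro _ ⟨x, rfl⟩
    exact ⟨f₂ x, (LinearMap.congr_fun h₂ x).symm⟩
  let G₁ : (N₁ ⧸ LinearMap.range i₁) →ₗ[A] (N₂ ⧸ LinearMap.range i₂) :=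
    Submodule.mapQ _ _ g₁ hr₁
  let G₂ : (N₂ ⧸ LinearMap.range i₂) →ₗ[A] (N₃ ⧸ LinearMap.range i₃) :=
    Submodule.mapQ _ _ g₂ hr₂
  refine length_six F₁ F₂
    (SnakeLemma.δ' i₁ i₂ i₃ f₁ f₂ hf g₁ g₂ hg h₁ h₂ _ hι₃ _ hπ₁ hf₂ hg₁) G₁ G₂ ?_ ?_ ?_ ?_ ?_ ?_
  · intro x y hxy
    apply Subtype.ext
    apply hf₁
    exact congrArg Subtype.val hxy
  · intro x
    constructor
    · intro hx
      have hx' : f₂ x = 0 := congrArg Subtype.val hx
      obtain ⟨y, hy⟩ := (hf x).mp hx'
      have hy0 : i₁ y = 0 := by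
        apply hg₁
        have := LinearMap.congr_fun h₁ y
        simp only [LinearMap.comp_apply] at this
        rw [this, hy, map_zero]
        exact x.2
      exact ⟨⟨y, hy0⟩, Subtype.ext hy⟩
    · rintro ⟨y, rfl⟩
      apply Subtype.ext
      exact hf.apply_apply_eq_zero _
  · exact SnakeLemma.exact_δ'_right _ _ _ _ _ hf _ _ hg h₁ h₂ _ hι₂ _ hι₃ _ hπ₁
      hf₂ hg₁ F₂ (by ext x; rfl) (Submodule.injective_subtype _)
  · exact SnakeLemma.exact_δ'_left _ _ _ _ _ hf _ _ hg h₁ h₂ _ hι₃ _ hπ₁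
      _ hπ₂ hf₂ hg₁ G₁ (by ext x; rfl) (Submodule.mkQ_surjective _)
  · intro y
    obtain ⟨y, rfl⟩ := Submodule.mkQ_surjective _ y
    constructor
    · intro hy
      change Submodule.Quotient.mk (g₂ y) = 0 at hy
      rw [Submodule.Quotient.mk_eq_zero] at hy
      obtain ⟨z, hz⟩ := hy
      obtain ⟨z', rfl⟩ := hf₂ z
      have : g₂ (y - i₂ z') = 0 := by
        rw [map_sub, ← hz]
        have := LinearMap.congr_fun h₂ z'
        simp only [LinearMap.comp_apply] at this
        rw [this, sub_self]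
      obtain ⟨w, hw⟩ := (hg _).mp this
      refine ⟨Submodule.Quotient.mk w, ?_⟩
      change Submodule.Quotient.mk (g₁ w) = Submodule.Quotient.mk y
      rw [hw, Submodule.Quotient.eq]
      exact ⟨-z', by simp⟩
    · rintro ⟨x, hx⟩
      obtain ⟨x, rfl⟩ := Submodule.mkQ_surjective _ x
      rw [← hx]
      change Submodule.Quotient.mk (g₂ (g₁ x)) = 0
      rw [hg.apply_apply_eq_zero, Submodule.Quotient.mk_zero]
  · intro y
    obtain ⟨y, rfl⟩ := Submodule.mkQ_surjective _ y
    obtain ⟨x, rfl⟩ := hg₂ y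
    exact ⟨Submodule.Quotient.mk x, rfl⟩

end gen

section finlen

variable {A : Type u} [CommRing A] [IsNoetherianRing A]

theorem isFiniteLength_of_smul_eq_zero {a : A}
    (ha : IsFiniteLength A (A ⧸ Ideal.span {a})) (N : Type v) [AddCommGroup N] [Module A N]
    [Module.Finite A N] (h : ∀ x : N, a • x = 0) : IsFiniteLength A N := by
  have hart : IsArtinianRing (A ⧸ Ideal.span {a}) := by
    rw [isFiniteLength_iff_isNoetherian_isArtinian] at ha
    exact isArtinian_of_tower A ha.2
  have hM : Module.IsTorsionBySet A N (Ideal.span {a} : Set A) := by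
    rw [← Ideal.submodule_span_eq, Module.isTorsionBySet_span_singleton_iff]
    exact fun x => h x
  letI := hM.module
  haveI : IsScalarTower A (A ⧸ Ideal.span {a}) N := hM.isScalarTower
  haveI : Module.Finite (A ⧸ Ideal.span {a}) N := Module.Finite.of_restrictScalars_finite A _ _
  rw [isFiniteLength_iff_isNoetherian_isArtinian]
  exact ⟨inferInstance, isArtinian_of_surjective_algebraMap (S := A) (R := A ⧸ Ideal.span {a})
    Ideal.Quotient.mk_surjective⟩

end finlen

end Groth.Agent.Lib.Helper26.RelLength
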