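import Mathlib
import Groth.Agent.Lib.Helper12.MultFormula

set_option autoImplicit false
set_option linter.style.haveILetI false
set_option linter.unusedSectionVars false

namespace Groth.Agent.Lib.Helper26.SuppMult

open Function IsLocalRing
open scoped Pointwise
open Groth.Agent.Lib.Helper12.MultFormula

universe u v

section order

variable {α : Type*} [PartialOrder α]

theorem not_lt_lt_of_krullDim_le_one (h : Order.krullDim α ≤ 1) {a b c : α} (hab : a < b)
    (hbc : b < c) : False := by
  rcases Order.krullDim_le_one_iff.mp h b with hb | hb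
  · exact hb.not_lt hab
  · exact hb.not_lt hbc

theorem not_lt_of_krullDim_le_zero (h : Order.krullDim α ≤ 0) {a b : α} (hab : a < b) : False :=
  (Order.krullDim_nonpos_iff_forall_isMax.mp h a).not_lt hab

end order

section main

variable {R : Type u} [CommRing R] [IsNoetherianRing R] [IsLocalRing R]
  (M : Type v) [AddCommGroup M] [Module R M] [Module.Finite R M]

theorem le_maximal (p : PrimeSpectrum R) : p ≤ closedPoint R :=
  IsLocalRing.le_maximalIdeal p.2.ne_top

theorem lt_closedPoint {p : PrimeSpectrum R} (hp : p.asIdeal ≠ maximalIdeal R) :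
    p < closedPoint R :=
  lt_of_le_of_ne (le_maximal p) fun h => hp (by rw [h]; rfl)

theorem closedPoint_mem_support {p : PrimeSpectrum R} (hp : p ∈ Module.support R M) :
    closedPoint R ∈ Module.support R M :=
  Module.mem_support_mono (le_maximal p) hp

/-- the set of non-closed points of the support -/
def T₀ (R : Type u) [CommRing R] [IsLocalRing R] (M : Type v) [AddCommGroup M] [Module R M] :
    Set (PrimeSpectrum R) := {p | p ∈ Module.support R M ∧ p.asIdeal ≠ maximalIdeal R}

theorem T₀_antichain (h1 : Module.supportDim R M ≤ 1) : ∀ p ∈ T₀ R M, ∀ q ∈ T₀ R M,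
    p.asIdeal ≤ q.asIdeal → p = q := by
  intro p hp q hq hle
  by_contra hne
  have hpq : (⟨p, hp.1⟩ : Module.support R M) < ⟨q, hq.1⟩ := lt_of_le_of_ne hle fun h => hne (congrArg Subtype.val h)
  have hqm : (⟨q, hq.1⟩ : Module.support R M) < ⟨closedPoint R, closedPoint_mem_support M hq.1⟩ :=
    lt_closedPoint hq.2
  exact not_lt_lt_of_krullDim_le_one h1 hpq hqm

theorem T₀_finite (h1 : Module.supportDim R M ≤ 1) : (T₀ R M).Finite := by
  have hfin := (Module.annihilator R M).finite_minimalPrimes_of_isNoetherianRing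
  refine (hfin.preimage (f := PrimeSpectrum.asIdeal) (fun _ _ _ _ h => PrimeSpectrum.ext h)).subset ?_
  intro p hp
  rw [Set.mem_preimage]
  have hpa : Module.annihilator R M ≤ p.asIdeal := Module.mem_support_iff_of_finite.mp hp.1
  refine ⟨⟨p.2, hpa⟩, ?_⟩
  rintro q ⟨hq, hqa⟩ hqp
  by_contra hne
  have hqs : (⟨q, hq⟩ : PrimeSpectrum R) ∈ Module.support R M := Module.mem_support_iff_of_finite.mpr hqa
  have hqp' : (⟨⟨q, hq⟩, hqs⟩ : Module.support R M) < ⟨p, hp.1⟩ := lt_of_le_of_ne hqp fun h => hne (by rw [← congrArg (fun z : Module.support R M => z.1.asIdeal) h])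
  have hpm : (⟨p, hp.1⟩ : Module.support R M) < ⟨closedPoint R, closedPoint_mem_support M hp.1⟩ :=
    lt_closedPoint hp.2
  exact not_lt_lt_of_krullDim_le_one h1 hqp' hpm

end main

section formula

variable {R : Type u} [CommRing R] [IsNoetherianRing R] [IsLocalRing R]
  (M : Type v) [AddCommGroup M] [Module R M] [Module.Finite R M]

theorem cond_of_supportDim (x : R)
    (h0 : Module.supportDim R (M ⧸ x • (⊤ : Submodule R M)) ≤ 0) : Cond x M := by
  intro q hq hxq
  by_contra hne
  have hq' : q ∈ Module.support R (QuotSMulTop x M) := by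
    rw [Module.support_quotSMulTop]
    refine ⟨hq, ?_⟩
    intro y hy
    rw [Set.mem_singleton_iff.mp hy]
    exact hxq
  have hm' : closedPoint R ∈ Module.support R (QuotSMulTop x M) :=
    Module.mem_support_mono (le_maximal q) hq'
  have hlt : (⟨q, hq'⟩ : Module.support R (QuotSMulTop x M)) < ⟨closedPoint R, hm'⟩ :=
    lt_of_le_of_ne (le_maximal q) fun h => hne (congrArg Subtype.val h)
  exact not_lt_of_krullDim_le_zero h0 hlt

theorem wt_eq_ord (x : R) (p : PrimeSpectrum R) :
    wt x p = Ring.ord (R ⧸ p.asIdeal) (Ideal.Quotient.mk p.asIdeal x) := by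
  rw [wt, Ring.ord, ← Module.length_eq_of_surjective (S := R) (R := R ⧸ p.asIdeal)
    Ideal.Quotient.mk_surjective]
  have h : (x • (⊤ : Submodule R (R ⧸ p.asIdeal))) =
      (Ideal.span {Ideal.Quotient.mk p.asIdeal x} : Submodule (R ⧸ p.asIdeal) (R ⧸ p.asIdeal)).restrictScalars R := by
    ext y
    rw [Submodule.mem_smul_pointwise_iff_exists, Submodule.restrictScalars_mem]
    constructor
    · rintro ⟨z, -, rfl⟩
      rw [Algebra.smul_def, Ideal.Quotient.algebraMap_eq]
      exact Ideal.mul_mem_right _ _ (Ideal.mem_span_singleton_self _)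
    · intro hy
      obtain ⟨z, rfl⟩ := Ideal.mem_span_singleton'.mp hy
      refine ⟨z, trivial, ?_⟩
      rw [Algebra.smul_def, Ideal.Quotient.algebraMap_eq, mul_comm]
  exact ((Submodule.quotEquivOfEq _ _ h).trans
    (Submodule.Quotient.restrictScalarsEquiv R _)).length_eq

theorem main_1833 (x : R) (h1 : Module.supportDim R M ≤ 1)
    (h0 : Module.supportDim R (M ⧸ x • (⊤ : Submodule R M)) ≤ 0) :
    Module.length R (M ⧸ x • (⊤ : Submodule R M)) =
      Module.length R (LinearMap.ker (LinearMap.lsmul R M x)) +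
      ∑ᶠ (p : PrimeSpectrum R) (_ : p ∈ Module.support R M ∧ p.asIdeal ≠ maximalIdeal R),
        Ring.ord (R ⧸ p.asIdeal) (Ideal.Quotient.mk p.asIdeal x) *
          Module.length (Localization.AtPrime p.asIdeal)
            (LocalizedModule p.asIdeal.primeCompl M) := by
  have hfin := T₀_finite M h1
  have hform := formula (t := x) (T := hfin.toFinset)
    (by
      rw [Set.Finite.mem_toFinset]
      exact fun h => h.2 rfl)
    (by
      intro p hp q hq
      rw [Set.Finite.mem_toFinset] at hp hq
      exact T₀_antichain M h1 p hp q hq)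
    M (cond_of_supportDim M x h0)
    (by
      intro q hq
      by_cases hqm : q.asIdeal = maximalIdeal R
      · left; exact PrimeSpectrum.ext hqm
      · right
        rw [Set.Finite.mem_toFinset]
        exact ⟨hq, hqm⟩)
  have hk : LinearMap.lsmul R M x = x • (LinearMap.id : M →ₗ[R] M) := by
    ext m; simp
  rw [hk]
  refine hform.trans ?_
  congr 1
  have hsum : ∑ᶠ (p : PrimeSpectrum R) (_ : p ∈ Module.support R M ∧ p.asIdeal ≠ maximalIdeal R),
        Ring.ord (R ⧸ p.asIdeal) (Ideal.Quotient.mk p.asIdeal x) *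
          Module.length (Localization.AtPrime p.asIdeal)
            (LocalizedModule p.asIdeal.primeCompl M) =
      ∑ p ∈ hfin.toFinset, Ring.ord (R ⧸ p.asIdeal) (Ideal.Quotient.mk p.asIdeal x) *
          Module.length (Localization.AtPrime p.asIdeal)
            (LocalizedModule p.asIdeal.primeCompl M) :=
    finsum_mem_eq_finite_toFinset_sum _ hfin
  rw [hsum, wsum]
  refine Finset.sum_congr rfl fun p _ => ?_
  rw [wt_eq_ord, mul_comm, ell]

end formula

end Groth.Agent.Lib.Helper26.SuppMult
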