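import Mathlib
import Groth.Agent.Lib.Helper26.SuppMult
import Groth.Agent.Lib.Helper26.RelLength
import Groth.Agent.Lib.Helper26.OrdZ
import Groth.Agent.Lib.Helper12.MultFormula2

set_option autoImplicit false
set_option linter.style.haveILetI false
set_option linter.unusedSectionVars false

namespace Groth.Agent.Lib.Helper26.FracLength

open Function IsLocalRing
open scoped Pointwise
open Groth.Agent.Lib.Helper26.RelLength Groth.Agent.Lib.Helper26.OrdZ

universe u v

section general

variable {A : Type u} [CommRing A] {M : Type v} [AddCommGroup M] [Module A M]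

theorem rl_top (N : Submodule A M) : rl N ⊤ = Module.length A (M ⧸ N) := by
  have := length_quotient_eq_rl (LinearMap.id : M →ₗ[A] M) injective_id N
  rw [Submodule.map_id, LinearMap.range_id] at this
  exact this.symm

theorem smul_eq_map (x : A) (N : Submodule A M) : x • N = N.map (LinearMap.lsmul A M x) := rfl

/-- `len(M/xN) = len(M/xM) + len(M/N)` for `x` regular on `M`. -/
theorem length_quot_smul (x : A) (hx : IsSMulRegular M x) (N : Submodule A M) :
    Module.length A (M ⧸ x • N) =
      Module.length A (M ⧸ x • (⊤ : Submodule A M)) + Module.length A (M ⧸ N) := by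
  have hinj : Injective (LinearMap.lsmul A M x) := hx
  rw [← rl_top, ← rl_top, ← rl_top,
    rl_chain (L := x • N) (N := x • (⊤ : Submodule A M)) (M := ⊤)
      (Submodule.map_mono le_top) le_top,
    smul_eq_map, smul_eq_map, rl_map _ hinj, add_comm]

end general

section main

open Groth.Agent.Lib.Helper12.MultFormula Groth.Agent.Lib.Helper26.SuppMult

variable {A : Type u} [CommRing A] [IsNoetherianRing A] [IsLocalRing A]
  {M : Type v} [AddCommGroup M] [Module A M] [Module.Finite A M]

theorem notMem_minimalPrimes_of_nzd {a : A} (ha : a ∈ nonZeroDivisors A) :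
    ∀ p ∈ minimalPrimes A, a ∉ p := by
  intro p hp hap
  have h1 : p ∈ associatedPrimes A A := by
    apply Module.associatedPrimes.minimalPrimes_annihilator_subset_associatedPrimes A A
    rw [Module.annihilator_eq_bot.mpr inferInstance]
    exact hp
  have h2 : a ∈ ⋃ p ∈ associatedPrimes A A, (p : Set A) := Set.mem_biUnion h1 hap
  rw [biUnion_associatedPrimes_eq_compl_nonZeroDivisors] at h2
  exact h2 ha

theorem isSMulRegular_of_notMem (hMemb : ∀ p ∈ associatedPrimes A M, p ∈ minimalPrimes A) {a : A}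
    (ha : ∀ p ∈ minimalPrimes A, a ∉ p) : IsSMulRegular M a := by
  by_contra h
  have h2 : a ∈ ({r : A | IsSMulRegular M r}ᶜ : Set A) := h
  rw [← biUnion_associatedPrimes_eq_compl_regular A] at h2
  obtain ⟨p, hp, hap⟩ := Set.mem_iUnion₂.mp h2
  exact ha p (hMemb p hp) hap

theorem ell_lt_top (q : Ideal A) [q.IsPrime] (hq : q ∈ minimalPrimes A) :
    Module.length (Localization.AtPrime q) (LocalizedModule q.primeCompl M) < ⊤ := by
  have h0 : ringKrullDim (Localization.AtPrime q) = 0 := by
    rw [IsLocalization.AtPrime.ringKrullDim_eq_height q (Localization.AtPrime q),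
      Ideal.height_eq_zero_iff.mpr hq]
    rfl
  haveI : Ring.KrullDimLE 0 (Localization.AtPrime q) := Ring.krullDimLE_iff.mpr (by rw [h0]; rfl)
  haveI : IsArtinianRing (Localization.AtPrime q) := isArtinianRing_iff_krullDimLE_zero.mpr inferInstance
  rw [lt_top_iff_ne_top, Module.length_ne_top_iff, isFiniteLength_iff_isNoetherian_isArtinian]
  exact ⟨inferInstance, inferInstance⟩

variable (hA : ringKrullDim A = 1)
include hA

theorem length_quot_eq_finsum (hsupp : Module.support A M = Set.univ) {x : A}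
    (hx : ∀ p ∈ minimalPrimes A, x ∉ p) (hreg : IsSMulRegular M x) :
    Module.length A (M ⧸ x • (⊤ : Submodule A M)) =
      ∑ᶠ (q : PrimeSpectrum A) (_ : q.asIdeal ∈ minimalPrimes A),
        Ring.ord (A ⧸ q.asIdeal) (Ideal.Quotient.mk q.asIdeal x) *
          Module.length (Localization.AtPrime q.asIdeal)
            (LocalizedModule q.asIdeal.primeCompl M) := by
  have h1 : Module.supportDim A M ≤ 1 := by
    rw [← hA]; exact Module.supportDim_le_ringKrullDim A M
  have h0 : Module.supportDim A (M ⧸ x • (⊤ : Submodule A M)) ≤ 0 := by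
    rw [Module.supportDim, Order.krullDim_nonpos_iff_forall_isMax]
    have hall : ∀ q : Module.support A (M ⧸ x • (⊤ : Submodule A M)), q.1 = closedPoint A := by
      rintro ⟨q, hq⟩
      have hq' : q ∈ Module.support A (QuotSMulTop x M) := hq
      rw [Module.support_quotSMulTop] at hq'
      by_contra hne
      have hne' : q.asIdeal ≠ maximalIdeal A := fun h => hne (PrimeSpectrum.ext h)
      exact hx _ (Groth.Agent.Lib.Helper12.MultFormula.mem_minimalPrimes_of_ne hA q.asIdeal hne')
        (hq'.2 (Set.mem_singleton x))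
    intro q r _
    have : q = r := Subtype.ext ((hall q).trans (hall r).symm)
    rw [this]
  have hmain := main_1833 M x h1 h0
  have hker : Module.length A (LinearMap.ker (LinearMap.lsmul A M x)) = 0 := by
    rw [Module.length_eq_zero_iff]
    have : LinearMap.ker (LinearMap.lsmul A M x) = ⊥ := LinearMap.ker_eq_bot.mpr hreg
    rw [this]
    infer_instance
  rw [hker, zero_add] at hmain
  rw [hmain]
  apply finsum_mem_congr
  · ext q
    simp only [hsupp, Set.mem_univ, true_and]
    constructor
    · intro h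
      exact Groth.Agent.Lib.Helper12.MultFormula.mem_minimalPrimes_of_ne hA q.asIdeal h
    · intro h h'
      exact Groth.Agent.Lib.Helper12.MultFormula.maximalIdeal_notMem_minimalPrimes hA (h' ▸ h)
  · intro q _
    rfl

end main

section final

open Groth.Agent.Lib.Helper12.MultFormula Groth.Agent.Lib.Helper26.SuppMult

variable {A : Type u} [CommRing A] [IsNoetherianRing A] [IsLocalRing A]
  {M : Type v} [AddCommGroup M] [Module A M] [Module.Finite A M]

theorem ordFrac_div {R : Type u} [CommRing R] [IsDomain R] [IsNoetherianRing R]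
    [Ring.KrullDimLE 1 R] {K : Type v} [Field K] [Algebra R K] [IsFractionRing R K] {x y : K}
    (hx : x ≠ 0) (hy : y ≠ 0) :
    CycAlg.ordFrac R K (x / y) = CycAlg.ordFrac R K x - CycAlg.ordFrac R K y := by
  have h := ordFrac_mul (A := R) (div_ne_zero hx hy) hy
  rw [div_mul_cancel₀ x hy] at h
  rw [h]; ring

theorem ordFrac_quot (hA : ringKrullDim A = 1) (q : Ideal A) [q.IsPrime] {a b : A} (ha : a ∉ q)
    (hb : b ∉ q) :
    CycAlg.ordFrac (A ⧸ q) q.ResidueField
        (algebraMap A q.ResidueField a / algebraMap A q.ResidueField b) =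
      ((Ring.ord (A ⧸ q) (Ideal.Quotient.mk q a)).toNat : ℤ) -
        ((Ring.ord (A ⧸ q) (Ideal.Quotient.mk q b)).toNat : ℤ) := by
  haveI : Ring.KrullDimLE 1 A := Ring.krullDimLE_iff.mpr (by rw [hA]; rfl)
  haveI : Ring.KrullDimLE 1 (A ⧸ q) :=
    Ring.krullDimLE_iff.mpr ((ringKrullDim_quotient_le q).trans (Ring.krullDimLE_iff.mp inferInstance))
  have ha' : Ideal.Quotient.mk q a ≠ 0 := by rwa [Ne, Ideal.Quotient.eq_zero_iff_mem]
  have hb' : Ideal.Quotient.mk q b ≠ 0 := by rwa [Ne, Ideal.Quotient.eq_zero_iff_mem]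
  have e1 : algebraMap A q.ResidueField a = algebraMap (A ⧸ q) q.ResidueField (Ideal.Quotient.mk q a) := by
    rw [IsScalarTower.algebraMap_apply A (A ⧸ q) q.ResidueField]; rfl
  have e2 : algebraMap A q.ResidueField b = algebraMap (A ⧸ q) q.ResidueField (Ideal.Quotient.mk q b) := by
    rw [IsScalarTower.algebraMap_apply A (A ⧸ q) q.ResidueField]; rfl
  have ha'' : algebraMap (A ⧸ q) q.ResidueField (Ideal.Quotient.mk q a) ≠ 0 := by
    rwa [Ne, FaithfulSMul.algebraMap_eq_zero_iff]
  have hb'' : algebraMap (A ⧸ q) q.ResidueField (Ideal.Quotient.mk q b) ≠ 0 := by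
    rwa [Ne, FaithfulSMul.algebraMap_eq_zero_iff]
  rw [e1, e2, ordFrac_div ha'' hb'', ordFrac_algebraMap ha', ordFrac_algebraMap hb']

theorem ord_quot_ne_top (hA : ringKrullDim A = 1) (q : Ideal A) [q.IsPrime] {a : A} (ha : a ∉ q) :
    Ring.ord (A ⧸ q) (Ideal.Quotient.mk q a) ≠ ⊤ := by
  haveI : Ring.KrullDimLE 1 A := Ring.krullDimLE_iff.mpr (by rw [hA]; rfl)
  haveI : Ring.KrullDimLE 1 (A ⧸ q) :=
    Ring.krullDimLE_iff.mpr ((ringKrullDim_quotient_le q).trans (Ring.krullDimLE_iff.mp inferInstance))
  have ha' : Ideal.Quotient.mk q a ≠ 0 := by rwa [Ne, Ideal.Quotient.eq_zero_iff_mem]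
  exact Ring.ord_ne_top (mem_nonZeroDivisors_of_ne_zero ha')

/-- the `ℕ`-valued version of the length formula -/
theorem length_quot_eq_sum (hA : ringKrullDim A = 1) (hsupp : Module.support A M = Set.univ) {x : A}
    (hx : ∀ p ∈ minimalPrimes A, x ∉ p) (hreg : IsSMulRegular M x) :
    Module.length A (M ⧸ x • (⊤ : Submodule A M)) =
      ((∑ q ∈ minT A, (Ring.ord (A ⧸ q.asIdeal) (Ideal.Quotient.mk q.asIdeal x)).toNat *
        (Module.length (Localization.AtPrime q.asIdeal)
          (LocalizedModule q.asIdeal.primeCompl M)).toNat : ℕ) : ℕ∞) := by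
  rw [length_quot_eq_finsum hA hsupp hx hreg, finsum_minimalPrimes_eq]
  push_cast
  refine Finset.sum_congr rfl fun q hq => ?_
  rw [mem_minT] at hq
  rw [ENat.natCast_toNat (ord_quot_ne_top hA q.asIdeal (hx _ hq)),
    ENat.natCast_toNat (ell_lt_top q.asIdeal hq).ne]

end final

section assemble

open Groth.Agent.Lib.Helper12.MultFormula Groth.Agent.Lib.Helper26.SuppMult

variable {A : Type u} [CommRing A] [IsNoetherianRing A] [IsLocalRing A]
  {M : Type v} [AddCommGroup M] [Module A M] [Module.Finite A M]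

theorem main_6480 (hA : ringKrullDim A = 1) (a b : A) (ha : a ∈ nonZeroDivisors A)
    (hb : b ∈ nonZeroDivisors A)
    (hMemb : ∀ p ∈ associatedPrimes A M, p ∈ minimalPrimes A)
    (hsupp : Module.support A M = Set.univ) (I : Ideal A)
    (hI : I = (Ideal.span {b}).colon (Ideal.span {a})) (P : Submodule A M)
    (hP : P = Submodule.comap (LinearMap.lsmul A M b)
      ((Ideal.span {a} * I) • (⊤ : Submodule A M))) :
    (Ideal.span {a} * I) • (⊤ : Submodule A M) ≤ LinearMap.range (LinearMap.lsmul A M b) ∧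
    ((Module.length A (M ⧸ P)).toNat : ℤ) -
        ((Module.length A (M ⧸ I • (⊤ : Submodule A M))).toNat : ℤ) =
      ∑ᶠ (q : PrimeSpectrum A) (_ : q.asIdeal ∈ minimalPrimes A),
        ((Module.length (Localization.AtPrime q.asIdeal)
          (LocalizedModule q.asIdeal.primeCompl M)).toNat : ℤ) *
          CycAlg.ordFrac (A ⧸ q.asIdeal) q.asIdeal.ResidueField
            (algebraMap A q.asIdeal.ResidueField a / algebraMap A q.asIdeal.ResidueField b) := by
  have hamin := notMem_minimalPrimes_of_nzd ha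
  have hbmin := notMem_minimalPrimes_of_nzd hb
  have hareg : IsSMulRegular M a := isSMulRegular_of_notMem hMemb hamin
  have hbreg : IsSMulRegular M b := isSMulRegular_of_notMem hMemb hbmin
  -- `a I ⊆ (b)`
  have hIa : Ideal.span {a} * I ≤ Ideal.span {b} := by
    rw [Ideal.mul_le]
    intro r hr s hs
    rw [hI, Submodule.mem_colon] at hs
    have := hs r hr
    rwa [smul_eq_mul, mul_comm] at this
  have hbI : b ∈ I := by
    rw [hI, Submodule.mem_colon]
    intro p _
    rw [smul_eq_mul]
    exact Ideal.mul_mem_right _ _ (Ideal.mem_span_singleton_self b)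
  have hle : (Ideal.span {a} * I) • (⊤ : Submodule A M) ≤
      LinearMap.range (LinearMap.lsmul A M b) := by
    rw [Submodule.smul_le]
    intro r hr m _
    obtain ⟨c, rfl⟩ := Ideal.mem_span_singleton'.mp (hIa hr)
    exact ⟨c • m, by simp [mul_smul, smul_comm b c m, mul_comm c b]⟩
  refine ⟨hle, ?_⟩
  have h4 : (Ideal.span {a} * I) • (⊤ : Submodule A M) = a • (I • (⊤ : Submodule A M)) := by
    rw [Submodule.mul_smul, Submodule.ideal_span_singleton_smul]
  have h5 : b • P = a • (I • (⊤ : Submodule A M)) := by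
    rw [smul_eq_map, hP, Submodule.map_comap_eq, inf_eq_right.mpr hle, h4]
  have h6 := length_quot_smul b hbreg P
  have h7 := length_quot_smul a hareg (I • (⊤ : Submodule A M))
  rw [h5, h7] at h6
  have hLa := length_quot_eq_sum hA hsupp hamin hareg
  have hLb := length_quot_eq_sum hA hsupp hbmin hbreg
  have hbIM : b • (⊤ : Submodule A M) ≤ I • (⊤ : Submodule A M) := by
    rw [← Submodule.ideal_span_singleton_smul]
    exact Submodule.smul_mono_left ((Ideal.span_singleton_le_iff_mem I).mpr hbI)
  have hLI : Module.length A (M ⧸ I • (⊤ : Submodule A M)) ≠ ⊤ := by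
    have := Module.length_le_of_surjective (Submodule.factor hbIM) (Submodule.factor_surjective hbIM)
    rw [hLb] at this
    exact ne_top_of_le_ne_top (ENat.natCast_ne_top _) this
  have hLP : Module.length A (M ⧸ P) ≠ ⊤ := by
    intro h
    rw [h, hLa, hLb] at h6
    have : (⊤ : ℕ∞) ≠ ⊤ := by
      conv_lhs => rw [show (⊤ : ℕ∞) = _ + ⊤ from (add_top _).symm, ← h6]
      exact WithTop.add_ne_top.mpr ⟨ENat.natCast_ne_top _, hLI⟩
    exact this rfl
  obtain ⟨nI, hnI⟩ := ENat.ne_top_iff_exists.mp hLI
  obtain ⟨nP, hnP⟩ := ENat.ne_top_iff_exists.mp hLP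
  rw [hLa, hLb, ← hnI, ← hnP] at h6
  rw [← hnI, ← hnP]
  have hfinS : {q : PrimeSpectrum A | q.asIdeal ∈ minimalPrimes A}.Finite :=
    (minimalPrimes.finite_of_isNoetherianRing A).preimage
      (f := PrimeSpectrum.asIdeal) (fun _ _ _ _ h => PrimeSpectrum.ext h)
  have hsum : ∑ᶠ (q : PrimeSpectrum A) (_ : q.asIdeal ∈ minimalPrimes A),
        ((Module.length (Localization.AtPrime q.asIdeal)
          (LocalizedModule q.asIdeal.primeCompl M)).toNat : ℤ) *
          CycAlg.ordFrac (A ⧸ q.asIdeal) q.asIdeal.ResidueField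
            (algebraMap A q.asIdeal.ResidueField a / algebraMap A q.asIdeal.ResidueField b) =
      ∑ q ∈ minT A, ((Module.length (Localization.AtPrime q.asIdeal)
          (LocalizedModule q.asIdeal.primeCompl M)).toNat : ℤ) *
          CycAlg.ordFrac (A ⧸ q.asIdeal) q.asIdeal.ResidueField
            (algebraMap A q.asIdeal.ResidueField a / algebraMap A q.asIdeal.ResidueField b) :=
    finsum_mem_eq_finite_toFinset_sum _ hfinS
  rw [hsum]
  have hterm : ∀ q ∈ minT A, ((Module.length (Localization.AtPrime q.asIdeal)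
          (LocalizedModule q.asIdeal.primeCompl M)).toNat : ℤ) *
          CycAlg.ordFrac (A ⧸ q.asIdeal) q.asIdeal.ResidueField
            (algebraMap A q.asIdeal.ResidueField a / algebraMap A q.asIdeal.ResidueField b) =
      (((Ring.ord (A ⧸ q.asIdeal) (Ideal.Quotient.mk q.asIdeal a)).toNat *
        (Module.length (Localization.AtPrime q.asIdeal)
          (LocalizedModule q.asIdeal.primeCompl M)).toNat : ℕ) : ℤ) -
      (((Ring.ord (A ⧸ q.asIdeal) (Ideal.Quotient.mk q.asIdeal b)).toNat *
        (Module.length (Localization.AtPrime q.asIdeal)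
          (LocalizedModule q.asIdeal.primeCompl M)).toNat : ℕ) : ℤ) := by
    intro q hq
    rw [mem_minT] at hq
    rw [ordFrac_quot hA q.asIdeal (hamin _ hq) (hbmin _ hq)]
    push_cast
    ring
  rw [Finset.sum_congr rfl hterm, Finset.sum_sub_distrib, ← Nat.cast_sum, ← Nat.cast_sum]
  simp only [ENat.toNat_natCast]
  have h6' : (nP : ℕ∞) + ((∑ q ∈ minT A, (Ring.ord (A ⧸ q.asIdeal) (Ideal.Quotient.mk q.asIdeal b)).toNat *
        (Module.length (Localization.AtPrime q.asIdeal)
          (LocalizedModule q.asIdeal.primeCompl M)).toNat : ℕ) : ℕ∞) =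
      ((∑ q ∈ minT A, (Ring.ord (A ⧸ q.asIdeal) (Ideal.Quotient.mk q.asIdeal a)).toNat *
        (Module.length (Localization.AtPrime q.asIdeal)
          (LocalizedModule q.asIdeal.primeCompl M)).toNat : ℕ) : ℕ∞) + nI := by
    rw [add_comm]; exact h6.symm
  have h6'' : nP + (∑ q ∈ minT A, (Ring.ord (A ⧸ q.asIdeal) (Ideal.Quotient.mk q.asIdeal b)).toNat *
        (Module.length (Localization.AtPrime q.asIdeal)
          (LocalizedModule q.asIdeal.primeCompl M)).toNat) =
      (∑ q ∈ minT A, (Ring.ord (A ⧸ q.asIdeal) (Ideal.Quotient.mk q.asIdeal a)).toNat *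
        (Module.length (Localization.AtPrime q.asIdeal)
          (LocalizedModule q.asIdeal.primeCompl M)).toNat) + nI := by
    exact_mod_cast h6'
  omega

end assemble

end Groth.Agent.Lib.Helper26.FracLength
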