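import Mathlib
import Groth.Agent.Lib.Helper26.RelLength
import Groth.Agent.Lib.Helper26.FracLength
import Groth.Agent.Lib.Helper12.OneDim

set_option autoImplicit false
set_option linter.style.haveILetI false
set_option linter.unusedSectionVars false

namespace Groth.Agent.Lib.Helper26.TameA

open Function IsLocalRing
open scoped Pointwise
open Groth.Agent.Lib.Helper26.RelLength Groth.Agent.Lib.Helper26.FracLength

universe u v

section chain

variable {A : Type u} [CommRing A] {V : Type v} [AddCommGroup V] [Module A V]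

theorem one_le_rl {N M : Submodule A V} (h : ¬ M ≤ N) : 1 ≤ rl N M := by
  rw [Order.one_le_iff_ne_zero, rl, Ne, Module.length_eq_zero_iff,
    Submodule.Quotient.subsingleton_iff, Submodule.submoduleOf_eq_top]
  exact h

/-- a strictly increasing chain of length `n` forces relative length at least `n` -/
theorem chain_lemma (P : Submodule A V) (g : ℕ → V) (n : ℕ)
    (h : ∀ j < n, g j ∉ P ⊔ Submodule.span A (g '' {i | i < j})) :
    (n : ℕ∞) ≤ rl P (P ⊔ Submodule.span A (g '' {i | i < n})) := by
  induction n with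
  | zero => simp
  | succ n ih =>
    have h1 := ih (fun j hj => h j (Nat.lt_succ_of_lt hj))
    have hle : P ⊔ Submodule.span A (g '' {i | i < n}) ≤
        P ⊔ Submodule.span A (g '' {i | i < n + 1}) := by
      apply sup_le_sup_left
      apply Submodule.span_mono
      apply Set.image_mono
      intro i hi
      exact Nat.lt_succ_of_lt hi
    rw [rl_chain le_sup_left hle]
    have h2 : 1 ≤ rl (P ⊔ Submodule.span A (g '' {i | i < n}))
        (P ⊔ Submodule.span A (g '' {i | i < n + 1})) := by
      apply one_le_rl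
      intro hc
      apply h n (Nat.lt_succ_self n)
      apply hc
      apply Submodule.mem_sup_right
      apply Submodule.subset_span
      exact ⟨n, Nat.lt_succ_self n, rfl⟩
    push_cast
    exact add_le_add h1 h2

end chain

section main

variable {A : Type u} [CommRing A] [IsNoetherianRing A] [IsLocalRing A]

/-- `len(M/xM) = len(A/xA)` for an ideal `M` containing a power of the nonzerodivisor `x`. -/
theorem rl_smul_self (hA : ringKrullDim A = 1) {x : A} (hx : x ∈ nonZeroDivisors A)
    (M : Submodule A A) (n : ℕ) (hM : x ^ n ∈ M) :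
    rl (x • M) M = Module.length A (A ⧸ x • (⊤ : Submodule A A)) := by
  have hreg : IsSMulRegular A x := by
    intro a b hab
    exact (mul_cancel_left_mem_nonZeroDivisors hx).mp hab
  have h1 := length_quot_smul x hreg M
  have hle : x • M ≤ M := by
    intro z hz
    obtain ⟨b, hb, rfl⟩ := (Submodule.mem_smul_pointwise_iff_exists _ _ _).mp hz
    exact M.smul_mem x hb
  have h2 := rl_chain hle (le_top : M ≤ ⊤)
  rw [rl_top, rl_top] at h2
  rw [h2] at h1
  have hfin : Module.length A (A ⧸ M) ≠ ⊤ := by
    have h3 : Module.length A (A ⧸ M) ≤ Module.length A (A ⧸ (x ^ n) • (⊤ : Submodule A A)) := by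
      have hle2 : (x ^ n) • (⊤ : Submodule A A) ≤ M := by
        intro z hz
        obtain ⟨b, -, rfl⟩ := (Submodule.mem_smul_pointwise_iff_exists _ _ _).mp hz
        rw [smul_eq_mul, mul_comm]
        exact M.smul_mem b hM
      exact Module.length_le_of_surjective (Submodule.factor hle2) (Submodule.factor_surjective hle2)
    have h4 := Groth.Agent.Lib.Helper12.OneDim.length_quot_lt_top (x ^ n) hA (pow_mem hx n) A
    exact ne_top_of_lt (lt_of_le_of_lt h3 h4)
  exact (ENat.add_left_injective_of_ne_top hfin) h1

/-- the generators of `(x, y)^n` -/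
def gen (x y : A) (n : ℕ) (j : ℕ) : A := if j ≤ n then y ^ j * x ^ (n - j) else 0

theorem exists_relation_of_mem (hA : ringKrullDim A = 1) {x y : A} (hx : x ∈ nonZeroDivisors A)
    (hxm : x ∈ maximalIdeal A) :
    ∃ (n : ℕ) (c : ℕ → A), (∃ k ≤ n, IsUnit (c k)) ∧
      ∑ j ∈ Finset.range (n + 1), c j * (y ^ j * x ^ (n - j)) = 0 := by
  classical
  have hfin : Module.length A (A ⧸ x • (⊤ : Submodule A A)) ≠ ⊤ :=
    ne_top_of_lt (Groth.Agent.Lib.Helper12.OneDim.length_quot_lt_top x hA hx A)
  obtain ⟨n, hn⟩ := ENat.ne_top_iff_exists.mp hfin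
  let g : ℕ → A := gen x y n
  let M : Submodule A A := Submodule.span A (g '' {i | i < n + 1})
  have hg0 : g 0 = x ^ n := by simp [g, gen]
  have hxM : x ^ n ∈ M := by
    apply Submodule.subset_span
    exact ⟨0, Nat.succ_pos n, hg0⟩
  have h1 := rl_smul_self hA hx M n hxM
  rw [← hn] at h1
  let P : Submodule A A := (maximalIdeal A) • M
  have hPM : P ≤ M := Submodule.smul_le_right
  have hxP : x • M ≤ P := by
    intro z hz
    obtain ⟨b, hb, rfl⟩ := (Submodule.mem_smul_pointwise_iff_exists _ _ _).mp hz
    exact Submodule.smul_mem_smul hxm hb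
  have h2 := rl_chain hxP hPM
  have h3 : rl P M ≤ (n : ℕ∞) := by
    rw [← h1, h2]
    exact le_add_self
  have hsup : P ⊔ M = M := sup_eq_right.mpr hPM
  -- some generator is redundant
  have h4 : ∃ j < n + 1, g j ∈ P ⊔ Submodule.span A (g '' {i | i < j}) := by
    by_contra hcon
    push Not at hcon
    have h5 := chain_lemma P g (n + 1) hcon
    rw [show P ⊔ Submodule.span A (g '' {i | i < n + 1}) = M from hsup] at h5
    have h6 := le_trans h5 h3
    have : (n + 1 : ℕ) ≤ n := by exact_mod_cast h6
    omega
  obtain ⟨j, hj, hgj⟩ := h4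
  obtain ⟨u, hu, v, hv, huv⟩ := Submodule.mem_sup.mp hgj
  -- u ∈ m • span
  have hset : ∀ k : ℕ, g '' {i | i < k} = Set.range fun i : Fin k => g i := by
    intro k
    ext z
    constructor
    · rintro ⟨i, hi, rfl⟩
      exact ⟨⟨i, hi⟩, rfl⟩
    · rintro ⟨i, rfl⟩
      exact ⟨i, i.2, rfl⟩
  have hu' : u ∈ (maximalIdeal A) • Submodule.span A (Set.range fun i : Fin (n + 1) => g i) := by
    rw [← hset]; exact hu
  obtain ⟨a, ha, hau⟩ := (Submodule.mem_ideal_smul_span_iff_exists_sum _ _ _).mp hu'
  rw [Finsupp.sum_fintype a (fun i c => c • g ↑i) (fun i => zero_smul A _)] at hau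
  have hv' : v ∈ Submodule.span A (Set.range fun i : Fin j => g i) := by
    rw [← hset]; exact hv
  obtain ⟨b, hbv⟩ := (Submodule.mem_span_range_iff_exists_fun A).mp hv'
  let d : ℕ → A := fun i => if h : i < n + 1 then a ⟨i, h⟩ else 0
  let e : ℕ → A := fun i => if h : i < j then b ⟨i, h⟩ else 0
  have hd : ∑ i ∈ Finset.range (n + 1), d i * g i = u := by
    rw [← hau, ← Fin.sum_univ_eq_sum_range (fun i => d i * g i) (n + 1)]
    apply Finset.sum_congr rfl
    intro i _
    simp only [d, dif_pos i.2, smul_eq_mul]
  have he : ∑ i ∈ Finset.range (n + 1), e i * g i = v := by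
    have h7 : ∑ i ∈ Finset.range (n + 1), e i * g i = ∑ i ∈ Finset.range j, e i * g i := by
      symm
      apply Finset.sum_subset
      · intro i hi
        rw [Finset.mem_range] at hi ⊢
        omega
      · intro i _ hi
        rw [Finset.mem_range] at hi
        simp only [e, dif_neg hi, zero_mul]
    rw [h7, ← hbv, ← Fin.sum_univ_eq_sum_range (fun i => e i * g i) j]
    apply Finset.sum_congr rfl
    intro i _
    simp only [e, dif_pos i.2, smul_eq_mul]
  have hone : ∑ i ∈ Finset.range (n + 1), (if i = j then (1 : A) else 0) * g i = g j := by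
    rw [Finset.sum_eq_single j]
    · simp
    · intro i _ hi
      simp [hi]
    · intro hj'
      exact absurd (Finset.mem_range.mpr hj) hj'
  refine ⟨n, fun i => (if i = j then (1 : A) else 0) - d i - e i, ⟨j, Nat.lt_succ_iff.mp hj, ?_⟩, ?_⟩
  · have hej : e j = 0 := by simp [e]
    have hdj : d j ∈ maximalIdeal A := by
      simp only [d, dif_pos hj]
      exact ha _
    simp only [if_true, hej, sub_zero]
    exact IsLocalRing.isUnit_one_sub_self_of_mem_nonunits _ hdj
  · have hgi : ∀ i ∈ Finset.range (n + 1), ((if i = j then (1 : A) else 0) - d i - e i) *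
        (y ^ i * x ^ (n - i)) = (if i = j then (1 : A) else 0) * g i - d i * g i - e i * g i := by
      intro i hi
      have : g i = y ^ i * x ^ (n - i) := by
        simp only [g, gen]
        rw [if_pos (Nat.lt_succ_iff.mp (Finset.mem_range.mp hi))]
      rw [this]
      ring
    rw [Finset.sum_congr rfl hgi, Finset.sum_sub_distrib, Finset.sum_sub_distrib, hone, hd, he,
      ← huv]
    ring

/-- A relation with a unit coefficient between the monomials `y^j x^(n-j)`. -/
theorem exists_relation (hA : ringKrullDim A = 1) {x y : A} (hx : x ∈ nonZeroDivisors A) :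
    ∃ (n : ℕ) (c : ℕ → A), (∃ k ≤ n, IsUnit (c k)) ∧
      ∑ j ∈ Finset.range (n + 1), c j * (y ^ j * x ^ (n - j)) = 0 := by
  by_cases hxm : x ∈ maximalIdeal A
  · exact exists_relation_of_mem hA hx hxm
  · have hxu : IsUnit x := by
      by_contra h
      exact hxm ((IsLocalRing.mem_maximalIdeal x).mpr h)
    refine ⟨1, fun i => if i = 0 then -y else x, ⟨1, le_rfl, by simpa using hxu⟩, ?_⟩
    simp [Finset.sum_range_succ]
    ring

end main

end Groth.Agent.Lib.Helper26.TameA
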