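import Mathlib

set_option autoImplicit false
set_option linter.style.haveILetI false
set_option linter.unusedSectionVars false

namespace Groth.Agent.Lib.Helper26.TameB

open Function Polynomial

universe u v

variable {R : Type u} {S : Type v} [CommRing R] [CommRing S] [Algebra R S]

/-- Horner element `p_k = c_n θ^k + c_{n-1} θ^{k-1} + ... + c_{n-k}` -/
def H (c : ℕ → S) (θ : S) (n k : ℕ) : S := ∑ i ∈ Finset.range (k + 1), c (n - k + i) * θ ^ i

theorem H_zero (c : ℕ → S) (θ : S) (n : ℕ) : H c θ n 0 = c n := by
  simp [H]

theorem H_succ (c : ℕ → S) (θ : S) (n k : ℕ) (hk : k < n) :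
    H c θ n (k + 1) = θ * H c θ n k + c (n - k - 1) := by
  unfold H
  rw [Finset.sum_range_succ' _ (k + 1), Finset.mul_sum]
  have h1 : n - (k + 1) + 0 = n - k - 1 := by omega
  rw [pow_zero, mul_one, h1]
  congr 1
  apply Finset.sum_congr rfl
  intro i _
  have h2 : n - (k + 1) + (i + 1) = n - k + i := by omega
  rw [h2, pow_succ]
  ring

theorem H_top (c : ℕ → S) (θ : S) (n : ℕ) :
    H c θ n n = ∑ i ∈ Finset.range (n + 1), c i * θ ^ i := by
  unfold H
  apply Finset.sum_congr rfl
  intro i _
  rw [Nat.sub_self, zero_add]

/-- the leading coefficient times the root is integral -/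
theorem int1 (n : ℕ) (c : ℕ → S) (hc : ∀ j, IsIntegral R (c j)) (θ : S)
    (h : ∑ j ∈ Finset.range (n + 2), c j * θ ^ j = 0) : IsIntegral R (c (n + 1) * θ) := by
  by_cases h0 : c (n + 1) = 0
  · rw [h0, zero_mul]; exact isIntegral_zero
  let R' := integralClosure R S
  let c' : ℕ → R' := fun j => ⟨c j, hc j⟩
  let P : R'[X] := ∑ j ∈ Finset.range (n + 2), C (c' j) * X ^ j
  have hcoeff : P.coeff (n + 1) = c' (n + 1) := by
    simp only [P, finsetSum_coeff, coeff_C_mul_X_pow]
    rw [Finset.sum_eq_single (n + 1)]
    · simp
    · intro j _ hj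
      rw [if_neg (Ne.symm hj)]
    · intro hn
      exact absurd (Finset.mem_range.mpr (Nat.lt_succ_self _)) hn
  have hdeg : P.natDegree ≤ n + 1 := by
    apply natDegree_sum_le_of_forall_le
    intro j hj
    exact (natDegree_C_mul_X_pow_le _ _).trans (Nat.lt_succ_iff.mp (Finset.mem_range.mp hj))
  have hc'0 : c' (n + 1) ≠ 0 := by
    intro hh
    apply h0
    exact congrArg Subtype.val hh
  have hdeg' : P.natDegree = n + 1 := by
    apply le_antisymm hdeg
    apply le_natDegree_of_ne_zero
    rw [hcoeff]; exact hc'0
  have hlead : P.leadingCoeff = c' (n + 1) := by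
    rw [leadingCoeff, hdeg', hcoeff]
  have haeval : aeval θ P = 0 := by
    simp only [P, map_sum, map_mul, aeval_C, map_pow, aeval_X]
    exact h
  have h1 := isIntegral_leadingCoeff_smul P θ haeval
  rw [hlead] at h1
  have h2 : (c' (n + 1) • θ : S) = c (n + 1) * θ := rfl
  rw [h2] at h1
  exact isIntegral_trans _ h1

theorem H_integral (n : ℕ) : ∀ (c : ℕ → S), (∀ j, IsIntegral R (c j)) → ∀ θ : S,
    ∑ j ∈ Finset.range (n + 1), c j * θ ^ j = 0 → ∀ k ≤ n, IsIntegral R (H c θ n k) := by
  induction n with
  | zero =>
    intro c hc θ _ k hk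
    have : k = 0 := by omega
    subst this
    rw [H_zero]; exact hc 0
  | succ n ih =>
    intro c hc θ h k hk
    cases k with
    | zero => rw [H_zero]; exact hc _
    | succ k =>
      have hk' : k ≤ n := by omega
      let c' : ℕ → S := fun j => if j = n then c (n + 1) * θ + c n else c j
      have hc' : ∀ j, IsIntegral R (c' j) := by
        intro j
        simp only [c']
        split_ifs
        · exact (int1 n c hc θ h).add (hc n)
        · exact hc j
      have hrel : ∑ j ∈ Finset.range (n + 1), c' j * θ ^ j = 0 := by
        rw [← h, Finset.sum_range_succ _ (n + 1), Finset.sum_range_succ _ n,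
          Finset.sum_range_succ _ n]
        have h1 : ∑ j ∈ Finset.range n, c' j * θ ^ j = ∑ j ∈ Finset.range n, c j * θ ^ j := by
          apply Finset.sum_congr rfl
          intro j hj
          have : j ≠ n := by
            rw [Finset.mem_range] at hj; omega
          simp only [c', if_neg this]
        rw [h1]
        simp only [c', if_true]
        ring
      have := ih c' hc' θ hrel k hk'
      have heq : H c' θ n k = H c θ (n + 1) (k + 1) := by
        unfold H
        rw [Finset.sum_range_succ _ k, Finset.sum_range_succ _ (k + 1), Finset.sum_range_succ _ k]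
        have h1 : ∑ i ∈ Finset.range k, c' (n - k + i) * θ ^ i =
            ∑ i ∈ Finset.range k, c (n + 1 - (k + 1) + i) * θ ^ i := by
          apply Finset.sum_congr rfl
          intro i hi
          have h2 : n - k + i ≠ n := by
            rw [Finset.mem_range] at hi; omega
          have h3 : n + 1 - (k + 1) + i = n - k + i := by omega
          simp only [c', if_neg h2, h3]
        have h4 : n - k + k = n := by omega
        have h5 : n + 1 - (k + 1) + k = n := by omega
        have h6 : n + 1 - (k + 1) + (k + 1) = n + 1 := by omega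
        rw [h1, h4, h5, h6]
        simp only [c', if_true]
        ring
      rw [← heq]; exact this

end Groth.Agent.Lib.Helper26.TameB
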