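import Mathlib
import Groth.Agent.Lib.Helper26.TameA
import Groth.Agent.Lib.Helper26.TameB

set_option autoImplicit false
set_option linter.style.haveILetI false
set_option linter.unusedSectionVars false

namespace Groth.Agent.Lib.Helper26.TameC

open Function IsLocalRing
open Groth.Agent.Lib.Helper26.TameA Groth.Agent.Lib.Helper26.TameB

universe u

variable {A : Type u} [CommRing A] [IsNoetherianRing A] [IsLocalRing A]
variable {K : Type u} [CommRing K] [Algebra A K] [IsFractionRing A K]

/-- Resolution of the fraction `θ = y / x`: a finite set of integral elements such that in every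
subalgebra containing them, locally one of `θ`, `θ⁻¹` becomes regular. -/
theorem exists_resolution (hA : ringKrullDim A = 1) {x : A} (y : A) (hx : x ∈ nonZeroDivisors A)
    (θ : K) (hθ : algebraMap A K x * θ = algebraMap A K y) :
    ∃ F : Finset K, (∀ f ∈ F, IsIntegral A f) ∧ ∀ B : Subalgebra A K, (↑F ⊆ (B : Set K)) →
      ∀ q : Ideal B, q ≠ ⊤ → ∃ p w : B, (w : K) = θ * (p : K) ∧ (p ∉ q ∨ w ∉ q) := by
  classical
  obtain ⟨n, c, ⟨u, hun, hu⟩, hrel⟩ := exists_relation hA (y := y) hx
  let cK : ℕ → K := fun j => algebraMap A K (c j)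
  have hcK : ∀ j, IsIntegral A (cK j) := fun j => isIntegral_algebraMap
  have hxK : IsUnit (algebraMap A K x) := IsLocalization.map_units K ⟨x, hx⟩
  have hrelK : ∑ j ∈ Finset.range (n + 1), cK j * θ ^ j = 0 := by
    have h1 := congrArg (algebraMap A K) hrel
    rw [map_sum, map_zero] at h1
    have h2 : ∑ j ∈ Finset.range (n + 1), algebraMap A K (c j * (y ^ j * x ^ (n - j))) =
        algebraMap A K x ^ n * ∑ j ∈ Finset.range (n + 1), cK j * θ ^ j := by
      rw [Finset.mul_sum]
      apply Finset.sum_congr rfl
      intro j hj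
      have hjn : j ≤ n := Nat.lt_succ_iff.mp (Finset.mem_range.mp hj)
      have h3 : algebraMap A K x ^ n = algebraMap A K x ^ j * algebraMap A K x ^ (n - j) := by
        rw [← pow_add]; congr 1; omega
      rw [map_mul, map_mul, map_pow, map_pow, ← hθ, h3]
      simp only [cK]
      ring
    rw [h2] at h1
    exact (hxK.pow n).mul_right_eq_zero.mp h1
  let p : ℕ → K := fun k => H cK θ n k
  have hpint : ∀ k ≤ n, IsIntegral A (p k) := H_integral n cK hcK θ hrelK
  have hpn : p n = 0 := by
    simp only [p]; rw [H_top]; exact hrelK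
  have hstep : ∀ k < n, θ * p k = p (k + 1) - cK (n - k - 1) := by
    intro k hk
    simp only [p]
    rw [H_succ cK θ n k hk]; ring
  refine ⟨(Finset.range (n + 1)).image p, ?_, ?_⟩
  · intro f hf
    obtain ⟨k, hk, rfl⟩ := Finset.mem_image.mp hf
    exact hpint k (Nat.lt_succ_iff.mp (Finset.mem_range.mp hk))
  · intro B hFB q hq
    have hpB : ∀ k ≤ n, p k ∈ B := by
      intro k hk
      apply hFB
      exact Finset.mem_coe.mpr (Finset.mem_image.mpr ⟨k, Finset.mem_range.mpr (Nat.lt_succ_iff.mpr hk), rfl⟩)
    have hwB : ∀ k < n, θ * p k ∈ B := by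
      intro k hk
      rw [hstep k hk]
      exact B.sub_mem (hpB (k + 1) hk) (B.algebraMap_mem _)
    have hcu : algebraMap A B (c u) ∉ q := by
      intro hmem
      apply hq
      exact Ideal.eq_top_of_isUnit_mem _ hmem (hu.map (algebraMap A B))
    -- key: for k < n, we get the pair (p k, θ p k)
    have hpair : ∀ k < n, ∃ p' w : B, (w : K) = θ * (p' : K) ∧ (p' : K) = p k :=
      fun k hk => ⟨⟨p k, hpB k hk.le⟩, ⟨θ * p k, hwB k hk⟩, rfl, rfl⟩
    rcases Nat.lt_or_ge u n with hlt | hge
    · -- c u = p (k+1) - θ p k with k = n - u - 1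
      have hk : n - u - 1 < n := by omega
      have h1 := hstep (n - u - 1) hk
      have h2 : n - (n - u - 1) - 1 = u := by omega
      rw [h2] at h1
      have h3 : n - u - 1 + 1 = n - u := by omega
      rw [h3] at h1
      have hnu : n - u ≤ n := Nat.sub_le n u
      have h4 : algebraMap A B (c u) = (⟨p (n - u), hpB _ hnu⟩ : B) - ⟨θ * p (n - u - 1), hwB _ hk⟩ := by
        apply Subtype.ext
        show cK u = p (n - u) - θ * p (n - u - 1)
        rw [h1]; ring
      by_cases hw : (⟨θ * p (n - u - 1), hwB _ hk⟩ : B) ∈ q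
      · have hp : (⟨p (n - u), hpB _ hnu⟩ : B) ∉ q := by
          intro hp
          apply hcu
          rw [h4]
          exact q.sub_mem hp hw
        -- n - u < n since u ≥ 1? if u = 0 then p n = 0 ∈ q
        have hu0 : n - u < n := by
          rcases Nat.eq_zero_or_pos u with h0 | h0
          · exfalso
            apply hp
            have : (⟨p (n - u), hpB _ hnu⟩ : B) = 0 := by
              apply Subtype.ext
              show p (n - u) = 0
              rw [h0, Nat.sub_zero]; exact hpn
            rw [this]; exact q.zero_mem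
          · omega
        exact ⟨⟨p (n - u), hpB _ hnu⟩, ⟨θ * p (n - u), hwB _ hu0⟩, rfl, Or.inl hp⟩
      · exact ⟨⟨p (n - u - 1), hpB _ hk.le⟩, ⟨θ * p (n - u - 1), hwB _ hk⟩, rfl, Or.inr hw⟩
    · have hun' : u = n := le_antisymm hun hge
      subst hun'
      have hp0 : p 0 = cK u := by simp only [p]; rw [H_zero]
      have hn0 : 0 < u := by
        by_contra h0
        have h0' : u = 0 := by omega
        apply hcu
        have : algebraMap A B (c u) = 0 := by
          apply Subtype.ext
          show cK u = 0
          rw [← hp0]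
          have := hpn
          rwa [h0'] at this
        rw [this]; exact q.zero_mem
      refine ⟨⟨p 0, hpB 0 (Nat.zero_le _)⟩, ⟨θ * p 0, hwB 0 hn0⟩, rfl, Or.inl ?_⟩
      have : (⟨p 0, hpB 0 (Nat.zero_le _)⟩ : B) = algebraMap A B (c u) := by
        apply Subtype.ext
        exact hp0
      rw [this]; exact hcu

end Groth.Agent.Lib.Helper26.TameC
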