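import Mathlib
import Groth.Agent.Lib.Helper26.TameC
import Groth.Prelude.Def_CycAlg

set_option autoImplicit false
set_option linter.style.haveILetI false
set_option linter.unusedSectionVars false

namespace Groth.Agent.Lib.Helper26.TameD

open Function IsLocalRing
open Groth.Agent.Lib.Helper26.TameC

universe u

section semilocal

/-- a module-finite algebra over a local ring is semilocal -/
theorem finite_maximalSpectrum (A B : Type*) [CommRing A] [IsLocalRing A] [CommRing B] [Algebra A B]
    [Module.Finite A B] : Finite (MaximalSpectrum B) := by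
  let I : Ideal B := (maximalIdeal A).map (algebraMap A B)
  letI := Ideal.Quotient.field (maximalIdeal A)
  haveI : Module.Finite (A ⧸ maximalIdeal A) (B ⧸ I) := Module.Finite.of_restrictScalars_finite A _ _
  haveI : IsArtinianRing (B ⧸ I) := IsArtinianRing.of_finite (A ⧸ maximalIdeal A) (B ⧸ I)
  haveI : Algebra.IsIntegral A B := Algebra.IsIntegral.of_finite A B
  have hI : ∀ q : MaximalSpectrum B, I ≤ q.asIdeal := by
    intro q
    haveI := q.isMaximal
    have hmax : (q.asIdeal.comap (algebraMap A B)).IsMaximal :=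
      Ideal.isMaximal_comap_of_isIntegral_of_isMaximal q.asIdeal
    have : q.asIdeal.comap (algebraMap A B) = maximalIdeal A := IsLocalRing.eq_maximalIdeal hmax
    rw [Ideal.map_le_iff_le_comap, this]
  let g : MaximalSpectrum (B ⧸ I) → MaximalSpectrum B := fun Q =>
    ⟨Q.asIdeal.comap (Ideal.Quotient.mk I),
      Ideal.comap_isMaximal_of_surjective _ Ideal.Quotient.mk_surjective (K := Q.asIdeal) (H := Q.isMaximal)⟩
  have hg : Surjective g := by
    intro q
    have hcm : (q.asIdeal.map (Ideal.Quotient.mk I)).comap (Ideal.Quotient.mk I) = q.asIdeal := by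
      rw [Ideal.comap_map_of_surjective _ Ideal.Quotient.mk_surjective]
      rw [← RingHom.ker_eq_comap_bot, Ideal.mk_ker]
      exact sup_eq_left.mpr (hI q)
    have hmax : (q.asIdeal.map (Ideal.Quotient.mk I)).IsMaximal := by
      haveI := q.isMaximal
      rcases Ideal.map_eq_top_or_isMaximal_of_surjective (Ideal.Quotient.mk I)
        Ideal.Quotient.mk_surjective q.isMaximal with h | h
      · exfalso
        rw [h, Ideal.comap_top] at hcm
        exact q.isMaximal.ne_top hcm.symm
      · exact h
    exact ⟨⟨_, hmax⟩, MaximalSpectrum.ext hcm⟩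
  exact Finite.of_surjective g hg

/-- In a semilocal ring, an ideal `(a, b)` which is locally generated by `a` or by `b` is
principal. -/
theorem exists_principal {B : Type*} [CommRing B] [Finite (MaximalSpectrum B)] (a b : B)
    (h : ∀ q : Ideal B, q.IsMaximal → ∃ p w : B, b * p = a * w ∧ (p ∉ q ∨ w ∉ q)) :
    ∃ t, Ideal.span {a, b} = Ideal.span {t} := by
  classical
  haveI : Fintype (MaximalSpectrum B) := Fintype.ofFinite _
  choose p w hpw hnot using fun q : MaximalSpectrum B => h q.asIdeal q.isMaximal
  let tq : MaximalSpectrum B → B := fun q => if p q ∈ q.asIdeal then b else a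
  have hcop : Pairwise fun i j : MaximalSpectrum B => IsCoprime i.asIdeal j.asIdeal := by
    intro i j hij
    haveI := i.isMaximal
    haveI := j.isMaximal
    exact Ideal.isCoprime_of_isMaximal (MaximalSpectrum.ext_iff.ne.mp hij)
  choose ε hε using fun q : MaximalSpectrum B =>
    Ideal.exists_forall_sub_mem_ideal hcop (Pi.single q (1 : B))
  let t : B := ∑ q, ε q * tq q
  have hcolon : ∀ c : B, (∀ q₀ : MaximalSpectrum B, ∃ z, z ∉ q₀.asIdeal ∧ z * c ∈ Ideal.span {t}) →
      c ∈ Ideal.span {t} := by
    intro c hc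
    let J : Ideal B :=
      { carrier := {z | z * c ∈ Ideal.span {t}}
        add_mem' := by
          intro x y hx hy
          show (x + y) * c ∈ Ideal.span {t}
          rw [add_mul]; exact Ideal.add_mem _ hx hy
        zero_mem' := by
          show (0 : B) * c ∈ Ideal.span {t}
          rw [zero_mul]; exact Ideal.zero_mem _
        smul_mem' := by
          intro r x hx
          show (r • x) * c ∈ Ideal.span {t}
          rw [smul_eq_mul, mul_assoc]; exact Ideal.mul_mem_left _ _ hx }
    have hJ : J = ⊤ := by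
      by_contra hne
      obtain ⟨M, hM, hJM⟩ := Ideal.exists_le_maximal J hne
      obtain ⟨z, hz, hzc⟩ := hc ⟨M, hM⟩
      exact hz (hJM hzc)
    have h1 : (1 : B) ∈ J := by rw [hJ]; trivial
    have h2 : (1 : B) * c ∈ Ideal.span {t} := h1
    rwa [one_mul] at h2
  have key : ∀ q₀ : MaximalSpectrum B, ∃ z, z ∉ q₀.asIdeal ∧ z * a ∈ Ideal.span {t} ∧
      z * b ∈ Ideal.span {t} := by
    intro q₀
    haveI := q₀.isMaximal
    let u : B := if p q₀ ∈ q₀.asIdeal then w q₀ else p q₀
    have hu : u ∉ q₀.asIdeal := by
      by_cases h1 : p q₀ ∈ q₀.asIdeal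
      · have : u = w q₀ := if_pos h1
        rw [this]
        rcases hnot q₀ with h2 | h2
        · exact absurd h1 h2
        · exact h2
      · have : u = p q₀ := if_neg h1
        rw [this]; exact h1
    have hua : u * a = tq q₀ * p q₀ := by
      by_cases h1 : p q₀ ∈ q₀.asIdeal
      · have e1 : u = w q₀ := if_pos h1
        have e2 : tq q₀ = b := if_pos h1
        rw [e1, e2, hpw q₀]; ring
      · have e1 : u = p q₀ := if_neg h1
        have e2 : tq q₀ = a := if_neg h1
        rw [e1, e2]; ring
    have hub : u * b = tq q₀ * w q₀ := by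
      by_cases h1 : p q₀ ∈ q₀.asIdeal
      · have e1 : u = w q₀ := if_pos h1
        have e2 : tq q₀ = b := if_pos h1
        rw [e1, e2]; ring
      · have e1 : u = p q₀ := if_neg h1
        have e2 : tq q₀ = a := if_neg h1
        rw [e1, e2, ← hpw q₀]; ring
    let γ : MaximalSpectrum B → B := fun q => if p q ∈ q.asIdeal then w q₀ else p q₀
    have hγ : ∀ q, u * tq q = tq q₀ * γ q := by
      intro q
      by_cases h1 : p q ∈ q.asIdeal
      · have e1 : γ q = w q₀ := if_pos h1
        have e2 : tq q = b := if_pos h1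
        rw [e1, e2, hub]
      · have e1 : γ q = p q₀ := if_neg h1
        have e2 : tq q = a := if_neg h1
        rw [e1, e2, hua]
    let σ : B := ∑ q, ε q * γ q
    have hut : u * t = tq q₀ * σ := by
      simp only [t, σ]
      rw [Finset.mul_sum, Finset.mul_sum]
      apply Finset.sum_congr rfl
      intro q _
      rw [mul_left_comm, hγ q]; ring
    have hγ0 : γ q₀ = u := rfl
    have hσ : σ ∉ q₀.asIdeal := by
      intro hmem
      have h1 : σ - γ q₀ ∈ q₀.asIdeal := by
        have h2 : σ - γ q₀ = ∑ q, (ε q - (Pi.single q (1 : B) : MaximalSpectrum B → B) q₀) * γ q := by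
          simp only [σ, sub_mul, Finset.sum_sub_distrib]
          congr 1
          rw [Finset.sum_eq_single q₀]
          · simp
          · intro q _ hq
            rw [Pi.single_eq_of_ne (Ne.symm hq), zero_mul]
          · intro hq
            exact absurd (Finset.mem_univ _) hq
        rw [h2]
        apply Ideal.sum_mem
        intro q _
        exact Ideal.mul_mem_right _ _ (hε q q₀)
      apply hu
      rw [← hγ0]
      have : γ q₀ = σ - (σ - γ q₀) := by ring
      rw [this]
      exact Ideal.sub_mem _ hmem h1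
    refine ⟨σ * u, ?_, ?_, ?_⟩
    · intro hmem
      rcases (Ideal.IsPrime.mem_or_mem (q₀.isMaximal.isPrime) hmem) with h1 | h1
      · exact hσ h1
      · exact hu h1
    · have : σ * u * a = t * (u * p q₀) := by
        rw [mul_assoc, hua]
        calc σ * (tq q₀ * p q₀) = (tq q₀ * σ) * p q₀ := by ring
          _ = (u * t) * p q₀ := by rw [hut]
          _ = t * (u * p q₀) := by ring
      rw [this]
      exact Ideal.mul_mem_right _ _ (Ideal.mem_span_singleton_self t)
    · have : σ * u * b = t * (u * w q₀) := by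
        rw [mul_assoc, hub]
        calc σ * (tq q₀ * w q₀) = (tq q₀ * σ) * w q₀ := by ring
          _ = (u * t) * w q₀ := by rw [hut]
          _ = t * (u * w q₀) := by ring
      rw [this]
      exact Ideal.mul_mem_right _ _ (Ideal.mem_span_singleton_self t)
  refine ⟨t, le_antisymm ?_ ?_⟩
  · rw [Ideal.span_le]
    intro x hx
    rcases hx with rfl | hx
    · apply hcolon
      intro q₀
      obtain ⟨z, hz, hza, -⟩ := key q₀
      exact ⟨z, hz, hza⟩
    · rw [Set.mem_singleton_iff] at hx
      subst hx
      apply hcolon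
      intro q₀
      obtain ⟨z, hz, -, hzb⟩ := key q₀
      exact ⟨z, hz, hzb⟩
  · rw [Ideal.span_le, Set.singleton_subset_iff]
    apply Ideal.sum_mem
    intro q _
    apply Ideal.mul_mem_left
    by_cases h1 : p q ∈ q.asIdeal
    · have e2 : tq q = b := if_pos h1
      rw [e2]; exact Ideal.subset_span (Set.mem_insert_of_mem _ rfl)
    · have e2 : tq q = a := if_neg h1
      rw [e2]; exact Ideal.subset_span (Set.mem_insert _ _)

end semilocal

section finext

variable {A : Type u} [CommRing A] [IsNoetherianRing A] [IsLocalRing A]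

/-- a power of the maximal ideal is contained in the ideal generated by a nonzerodivisor -/
theorem exists_pow_le_span (hA : ringKrullDim A = 1) {s : A} (hs : s ∈ nonZeroDivisors A) :
    ∃ k : ℕ, maximalIdeal A ^ k ≤ Ideal.span {s} := by
  by_cases hsu : IsUnit s
  · refine ⟨0, ?_⟩
    rw [Ideal.span_singleton_eq_top.mpr hsu]
    exact le_top
  have hdim : ringKrullDim (A ⧸ Ideal.span {s}) + 1 ≤ 1 := by
    have := ringKrullDim_quotient_succ_le_of_nonZeroDivisor hs
    rwa [hA] at this
  have hne : Ideal.span {s} ≠ ⊤ := by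
    rw [Ne, Ideal.span_singleton_eq_top]; exact hsu
  haveI : Nontrivial (A ⧸ Ideal.span {s}) := Ideal.Quotient.nontrivial_iff.mpr hne
  haveI : IsLocalRing (A ⧸ Ideal.span {s}) :=
    IsLocalRing.of_surjective' (Ideal.Quotient.mk _) Ideal.Quotient.mk_surjective
  haveI : Ring.KrullDimLE 0 (A ⧸ Ideal.span {s}) := by
    rw [Ring.KrullDimLE, Order.krullDimLE_iff, ← ENat.WithBot.add_le_add_one_right_iff,
      Nat.cast_zero, zero_add]
    exact hdim
  have hrad : maximalIdeal A ≤ (Ideal.span {s}).radical := by
    intro x hx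
    have hmem : Ideal.Quotient.mk (Ideal.span {s}) x ∈ maximalIdeal (A ⧸ Ideal.span {s}) := by
      rw [IsLocalRing.mem_maximalIdeal, mem_nonunits_iff]
      intro hu
      have hloc : IsLocalHom (Ideal.Quotient.mk (Ideal.span {s})) :=
        IsLocalHom.of_surjective _ Ideal.Quotient.mk_surjective
      exact hx (hloc.map_nonunit x hu)
    obtain ⟨N, hN⟩ := (Ring.KrullDimLE.isNilpotent_iff_mem_maximalIdeal).mpr hmem
    rw [← map_pow, Ideal.Quotient.eq_zero_iff_mem] at hN
    exact ⟨N, hN⟩
  exact Ideal.exists_pow_le_of_le_radical_of_fg hrad (isNoetherian_def.mp inferInstance _)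

variable {K : Type u} [CommRing K] [Algebra A K] [IsFractionRing A K]

/-- a module-finite subalgebra of the total ring of fractions is a finite extension in the sense
of `CycAlg.IsFinExt`. -/
theorem isFinExt_of_finite (hA : ringKrullDim A = 1) (B : Subalgebra A K) [Module.Finite A B] :
    CycAlg.IsFinExt A B (maximalIdeal A) := by
  classical
  refine ⟨?_, inferInstance, ?_⟩
  · intro x y hxy
    apply IsFractionRing.injective A K
    exact congrArg Subtype.val hxy
  · obtain ⟨T, hT⟩ := (Module.Finite.fg_top : (⊤ : Submodule A B).FG)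
    obtain ⟨s, hs⟩ := IsLocalization.exist_integer_multiples_of_finset (nonZeroDivisors A)
      (T.image (fun b : B => (b : K)))
    have hall : ∀ b : B, ∃ a : A, algebraMap A K a = (s : A) • (b : K) := by
      intro b
      have hb : b ∈ Submodule.span A (T : Set B) := by rw [hT]; trivial
      induction hb using Submodule.span_induction with
      | mem x hx =>
        exact hs _ (Finset.mem_image.mpr ⟨x, hx, rfl⟩)
      | zero => exact ⟨0, by simp⟩
      | add x y _ _ hx hy =>
        obtain ⟨a1, h1⟩ := hx
        obtain ⟨a2, h2⟩ := hy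
        exact ⟨a1 + a2, by rw [map_add, h1, h2, Subalgebra.coe_add, smul_add]⟩
      | smul r x _ hx =>
        obtain ⟨a1, h1⟩ := hx
        refine ⟨r * a1, ?_⟩
        rw [map_mul, h1, Subalgebra.coe_smul, smul_comm, Algebra.smul_def r]
    obtain ⟨k, hk⟩ := exists_pow_le_span hA s.2
    refine ⟨k, ?_⟩
    intro r hr b
    obtain ⟨r', hr'⟩ := Ideal.mem_span_singleton'.mp (hk hr)
    obtain ⟨a, ha⟩ := hall b
    refine ⟨r' * a, ?_⟩
    apply Subtype.ext
    show algebraMap A K (r' * a) = r • (b : K)
    rw [map_mul, ha, ← hr', Algebra.smul_def, Algebra.smul_def, map_mul]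
    ring

end finext

section main

variable {A : Type u} [CommRing A] [IsNoetherianRing A] [IsLocalRing A]
variable {K : Type u} [CommRing K] [Algebra A K] [IsFractionRing A K]

theorem mem_nonZeroDivisors_of_isUnit_coe (B : Subalgebra A K) (c : B) (hc : IsUnit (c : K)) :
    c ∈ nonZeroDivisors B := by
  rw [mem_nonZeroDivisors_iff_right]
  intro x hx
  apply Subtype.ext
  have h1 : (x : K) * (c : K) = 0 := congrArg Subtype.val hx
  exact hc.mul_left_eq_zero.mp h1

theorem finite_adjoin (F : Finset K) (hF : ∀ f ∈ F, IsIntegral A f) :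
    Module.Finite A (Algebra.adjoin A (↑F : Set K)) :=
  Module.Finite.iff_fg.mpr (fg_adjoin_of_finite F.finite_toSet hF)

theorem main_1834 (R : Type u) [CommRing R] [IsNoetherianRing R] [IsLocalRing R]
    (hR : ringKrullDim R = 1) (a b : R) (ha : a ∈ nonZeroDivisors R)
    (hb : b ∈ nonZeroDivisors R) :
    ∃ (R' : Type u) (_ : CommRing R') (_ : Algebra R R'),
      CycAlg.IsFinExt R R' (IsLocalRing.maximalIdeal R) ∧ ∃ t a' b' : R',
        t ∈ nonZeroDivisors R' ∧ a' ∈ nonZeroDivisors R' ∧ b' ∈ nonZeroDivisors R' ∧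
        algebraMap R R' a = t * a' ∧ algebraMap R R' b = t * b' ∧ Ideal.span {a', b'} = ⊤ := by
  classical
  let K := FractionRing R
  let θ : K := IsLocalization.mk' K b ⟨a, ha⟩
  have hθ : algebraMap R K a * θ = algebraMap R K b := IsLocalization.mk'_spec' K b ⟨a, ha⟩
  obtain ⟨F, hFint, hres⟩ := exists_resolution hR b ha θ hθ
  let R' : Subalgebra R K := Algebra.adjoin R (↑F : Set K)
  haveI : Module.Finite R R' := finite_adjoin F hFint
  haveI : Finite (MaximalSpectrum R') := finite_maximalSpectrum R R'
  have haK : IsUnit (algebraMap R K a) := IsLocalization.map_units K ⟨a, ha⟩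
  have hbK : IsUnit (algebraMap R K b) := IsLocalization.map_units K ⟨b, hb⟩
  have h : ∀ q : Ideal R', q.IsMaximal → ∃ p w : R', algebraMap R R' b * p = algebraMap R R' a * w ∧
      (p ∉ q ∨ w ∉ q) := by
    intro q hq
    obtain ⟨p, w, hw, hor⟩ := hres R' Algebra.subset_adjoin q hq.ne_top
    refine ⟨p, w, ?_, hor⟩
    apply Subtype.ext
    show algebraMap R K b * (p : K) = algebraMap R K a * (w : K)
    rw [hw, ← hθ]; ring
  obtain ⟨t, ht⟩ := exists_principal (algebraMap R R' a) (algebraMap R R' b) h
  have hat : algebraMap R R' a ∈ Ideal.span {t} := by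
    rw [← ht]; exact Ideal.subset_span (Set.mem_insert _ _)
  have hbt : algebraMap R R' b ∈ Ideal.span {t} := by
    rw [← ht]; exact Ideal.subset_span (Set.mem_insert_of_mem _ rfl)
  obtain ⟨a', ha'⟩ := Ideal.mem_span_singleton'.mp hat
  obtain ⟨b', hb'⟩ := Ideal.mem_span_singleton'.mp hbt
  have htt : t ∈ Ideal.span {algebraMap R R' a, algebraMap R R' b} := by
    rw [ht]; exact Ideal.mem_span_singleton_self t
  obtain ⟨μ, ν, hμν⟩ := Ideal.mem_span_pair.mp htt
  have haK' : IsUnit ((a' : K) * (t : K)) := by
    have : ((a' * t : R') : K) = algebraMap R K a := by rw [ha']; rfl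
    rw [← Subalgebra.coe_mul, this]; exact haK
  have hbK' : IsUnit ((b' : K) * (t : K)) := by
    have : ((b' * t : R') : K) = algebraMap R K b := by rw [hb']; rfl
    rw [← Subalgebra.coe_mul, this]; exact hbK
  have htK : IsUnit (t : K) := isUnit_of_mul_isUnit_right haK'
  have ha'K : IsUnit (a' : K) := isUnit_of_mul_isUnit_left haK'
  have hb'K : IsUnit (b' : K) := isUnit_of_mul_isUnit_left hbK'
  have htnzd := mem_nonZeroDivisors_of_isUnit_coe R' t htK
  refine ⟨R', inferInstance, inferInstance, isFinExt_of_finite hR R', t, a', b', htnzd,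
    mem_nonZeroDivisors_of_isUnit_coe R' a' ha'K, mem_nonZeroDivisors_of_isUnit_coe R' b' hb'K,
    by rw [← ha', mul_comm], by rw [← hb', mul_comm], ?_⟩
  rw [Ideal.eq_top_iff_one]
  have h1 : (μ * a' + ν * b' - 1) * t = 0 := by
    have : (μ * a' + ν * b' - 1) * t = μ * (a' * t) + ν * (b' * t) - t := by ring
    rw [this, ha', hb', hμν, sub_self]
  have h2 := (mem_nonZeroDivisors_iff_right.mp htnzd) _ h1
  have h3 : (1 : R') = μ * a' + ν * b' := by
    rw [sub_eq_zero] at h2; exact h2.symm
  rw [h3]
  exact Ideal.add_mem _ (Ideal.mul_mem_left _ _ (Ideal.subset_span (Set.mem_insert _ _)))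
    (Ideal.mul_mem_left _ _ (Ideal.subset_span (Set.mem_insert_of_mem _ rfl)))

end main

end Groth.Agent.Lib.Helper26.TameD
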