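import Mathlib
import Groth.Agent.Lib.Helper26.TameD

set_option autoImplicit false
set_option linter.style.haveILetI false
set_option linter.unusedSectionVars false

namespace Groth.Agent.Lib.Helper26.TameE

open Function IsLocalRing
open scoped Pointwise
open Groth.Agent.Lib.Helper26.RelLength Groth.Agent.Lib.Helper26.FracLength
open Groth.Agent.Lib.Helper26.TameD

universe u

variable {A : Type u} [CommRing A] [IsNoetherianRing A] [IsLocalRing A]
variable {K : Type u} [CommRing K] [Algebra A K] [IsFractionRing A K]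

/-- a common denominator for a module-finite subalgebra of the total fraction ring -/
theorem exists_denominator (B : Subalgebra A K) [Module.Finite A B] :
    ∃ s : nonZeroDivisors A, ∀ b : B, ∃ a : A, algebraMap A K a = (s : A) • (b : K) := by
  classical
  obtain ⟨T, hT⟩ := (Module.Finite.fg_top : (⊤ : Submodule A B).FG)
  obtain ⟨s, hs⟩ := IsLocalization.exist_integer_multiples_of_finset (nonZeroDivisors A)
    (T.image (fun b : B => (b : K)))
  refine ⟨s, ?_⟩
  intro b
  have hb : b ∈ Submodule.span A (T : Set B) := by rw [hT]; trivial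
  induction hb using Submodule.span_induction with
  | mem x hx =>
    exact hs _ (Finset.mem_image.mpr ⟨x, hx, rfl⟩)
  | zero => exact ⟨0, by simp⟩
  | add x y _ _ hx hy =>
    obtain ⟨a1, h1⟩ := hx
    obtain ⟨a2, h2⟩ := hy
    exact ⟨a1 + a2, by rw [map_add, h1, h2, Subalgebra.coe_add, smul_add]⟩
  | smul r x _ hx =>
    obtain ⟨a1, h1⟩ := hx
    refine ⟨r * a1, ?_⟩
    rw [map_mul, h1, Subalgebra.coe_smul, smul_comm, Algebra.smul_def r]

theorem isSMulRegular_of_nzd (B : Subalgebra A K) {a : A} (ha : a ∈ nonZeroDivisors A) :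
    IsSMulRegular B a := by
  intro x y hxy
  have haK : IsUnit (algebraMap A K a) := IsLocalization.map_units K ⟨a, ha⟩
  apply Subtype.ext
  have h1 : a • (x : K) = a • (y : K) := congrArg Subtype.val hxy
  rw [Algebra.smul_def, Algebra.smul_def] at h1
  exact haK.mul_left_cancel h1

/-- `len_A(B/aB) = len_A(A/aA)` for a module-finite subalgebra `B` of the total fraction ring. -/
theorem length_quot_eq (hA : ringKrullDim A = 1) (B : Subalgebra A K) [Module.Finite A B] {a : A}
    (ha : a ∈ nonZeroDivisors A) :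
    Module.length A (B ⧸ a • (⊤ : Submodule A B)) =
      Module.length A (A ⧸ a • (⊤ : Submodule A A)) := by
  let e : A →ₗ[A] B := Algebra.linearMap A B
  have he : Injective e := by
    intro x y hxy
    apply IsFractionRing.injective A K
    exact congrArg Subtype.val hxy
  let N : Submodule A B := LinearMap.range e
  have hreg := isSMulRegular_of_nzd B ha
  have h1 := length_quot_smul a hreg N
  have hle : a • N ≤ N := by
    intro z hz
    obtain ⟨b, hb, rfl⟩ := (Submodule.mem_smul_pointwise_iff_exists _ _ _).mp hz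
    exact N.smul_mem a hb
  have h2 := rl_chain hle (le_top : N ≤ ⊤)
  rw [rl_top, rl_top] at h2
  rw [h2] at h1
  have hfin : Module.length A (B ⧸ N) ≠ ⊤ := by
    rw [Module.length_ne_top_iff]
    obtain ⟨s, hs⟩ := exists_denominator B
    apply Groth.Agent.Lib.Helper12.OneDim.isFiniteLength_of_smul_eq_zero hA s.2
    intro x
    obtain ⟨b, rfl⟩ := Submodule.mkQ_surjective _ x
    rw [← map_smul, Submodule.mkQ_apply, Submodule.Quotient.mk_eq_zero]
    obtain ⟨a', ha'⟩ := hs b
    refine ⟨a', ?_⟩
    apply Subtype.ext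
    exact ha'
  have h3 := (ENat.add_left_injective_of_ne_top hfin) h1
  rw [← h3]
  have h4 := length_quotient_eq_rl e he (a • (⊤ : Submodule A A))
  rw [h4]
  congr 1
  ext z
  constructor
  · intro hz
    obtain ⟨b, hb, rfl⟩ := (Submodule.mem_smul_pointwise_iff_exists _ _ _).mp hz
    obtain ⟨y, rfl⟩ := hb
    refine ⟨a • y, Submodule.smul_mem_pointwise_smul _ _ _ trivial, ?_⟩
    rw [map_smul]
  · rintro ⟨y, hy, rfl⟩
    obtain ⟨b, -, rfl⟩ := (Submodule.mem_smul_pointwise_iff_exists _ _ _).mp hy
    rw [map_smul]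
    exact Submodule.smul_mem_pointwise_smul _ _ _ ⟨b, rfl⟩

/-- inverting an element modulo `a`, up to a power: the Artinian property of `B/aB`. -/
theorem exists_inverse_mod (hA : ringKrullDim A = 1) (B : Subalgebra A K) [Module.Finite A B]
    {a : A} (ha : a ∈ nonZeroDivisors A) (s : B) :
    ∃ (n : ℕ) (y' c : B), c * algebraMap A B a = s ^ (n + 1) * y' - s ^ n := by
  haveI : Module.Finite A (B ⧸ (Ideal.span {algebraMap A B a})) :=
    Module.Finite.of_surjective (Ideal.Quotient.mkₐ A (Ideal.span {algebraMap A B a})).toLinearMap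
      (Ideal.Quotient.mkₐ_surjective A _)
  have hkill : ∀ x : B ⧸ (Ideal.span {algebraMap A B a}), a • x = 0 := by
    intro x
    obtain ⟨b, rfl⟩ := Ideal.Quotient.mk_surjective x
    rw [← Ideal.Quotient.mkₐ_eq_mk A, ← map_smul, Ideal.Quotient.mkₐ_eq_mk,
      Ideal.Quotient.eq_zero_iff_mem, Algebra.smul_def]
    exact Ideal.mul_mem_right _ _ (Ideal.mem_span_singleton_self _)
  have hfl : IsFiniteLength A (B ⧸ (Ideal.span {algebraMap A B a})) :=
    Groth.Agent.Lib.Helper12.OneDim.isFiniteLength_of_smul_eq_zero hA ha _ hkill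
  haveI : IsArtinian A (B ⧸ (Ideal.span {algebraMap A B a})) :=
    (isFiniteLength_iff_isNoetherian_isArtinian.mp hfl).2
  haveI : IsArtinian B (B ⧸ (Ideal.span {algebraMap A B a})) := isArtinian_of_tower A inferInstance
  obtain ⟨n, y, hy⟩ := IsArtinian.exists_pow_succ_smul_dvd s
    (1 : B ⧸ (Ideal.span {algebraMap A B a}))
  obtain ⟨y', rfl⟩ := Ideal.Quotient.mk_surjective y
  change Ideal.Quotient.mk (Ideal.span {algebraMap A B a}) (s ^ (n + 1) * y') =
    Ideal.Quotient.mk (Ideal.span {algebraMap A B a}) (s ^ n * 1) at hy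
  rw [mul_one, Ideal.Quotient.eq] at hy
  obtain ⟨c, hc⟩ := Ideal.mem_span_singleton'.mp hy
  exact ⟨n, y', c, hc⟩

/-- the residue of the localization modulo `a` is a quotient of `B/aB` -/
theorem surjective_toQuot (hA : ringKrullDim A = 1) (B : Subalgebra A K) [Module.Finite A B]
    (q : Ideal B) [q.IsPrime] {a : A} (ha : a ∈ nonZeroDivisors A) :
    Surjective ((Ideal.Quotient.mkₐ A
      (Ideal.span {algebraMap A (Localization.AtPrime q) a})).toLinearMap ∘ₗ
        (IsScalarTower.toAlgHom A B (Localization.AtPrime q)).toLinearMap) := by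
  set L := Localization.AtPrime q
  set aL := algebraMap A L a
  intro x
  obtain ⟨l, rfl⟩ := Ideal.Quotient.mk_surjective x
  obtain ⟨b0, s, rfl⟩ := IsLocalization.exists_mk'_eq q.primeCompl l
  obtain ⟨n, y', c, hc⟩ := exists_inverse_mod hA B ha (s : B)
  have hσ : IsUnit (algebraMap B L (s : B)) := IsLocalization.map_units L s
  have h2 : algebraMap B L (s : B) * algebraMap B L y' - 1 ∈ Ideal.span {aL} := by
    have h3 := congrArg (algebraMap B L) hc
    simp only [map_mul, map_sub, map_pow] at h3
    have h4 : algebraMap B L (algebraMap A B a) = aL := (IsScalarTower.algebraMap_apply A B L a).symm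
    rw [h4] at h3
    obtain ⟨u, hu⟩ := hσ
    rw [← hu] at h3 ⊢
    have h5 : (u : L) * algebraMap B L y' - 1 = ((u⁻¹ : Lˣ) : L) ^ n * algebraMap B L c * aL := by
      have : ((u⁻¹ : Lˣ) : L) ^ n * algebraMap B L c * aL =
          ((u⁻¹ : Lˣ) : L) ^ n * (algebraMap B L c * aL) := by ring
      rw [this, h3]
      have h6 : ((u⁻¹ : Lˣ) : L) ^ n * (u : L) ^ n = 1 := by
        rw [← mul_pow, Units.inv_mul, one_pow]
      calc (u : L) * algebraMap B L y' - 1
          = (((u⁻¹ : Lˣ) : L) ^ n * (u : L) ^ n) * ((u : L) * algebraMap B L y' - 1) := by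
            rw [h6, one_mul]
        _ = ((u⁻¹ : Lˣ) : L) ^ n * ((u : L) ^ (n + 1) * algebraMap B L y' - (u : L) ^ n) := by
            ring
    rw [h5]
    exact Ideal.mul_mem_left _ _ (Ideal.mem_span_singleton_self _)
  refine ⟨b0 * y', ?_⟩
  show Ideal.Quotient.mk _ (algebraMap B L (b0 * y')) = Ideal.Quotient.mk _ (IsLocalization.mk' L b0 s)
  rw [Ideal.Quotient.eq]
  have h7 : algebraMap B L (b0 * y') - IsLocalization.mk' L b0 s =
      IsLocalization.mk' L b0 s * (algebraMap B L (s : B) * algebraMap B L y' - 1) := by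
    have h8 : IsLocalization.mk' L b0 s * algebraMap B L (s : B) = algebraMap B L b0 :=
      IsLocalization.mk'_spec L b0 s
    rw [map_mul, ← h8]; ring
  rw [h7]
  exact Ideal.mul_mem_left _ _ h2

theorem ord_le_lengthA (B : Subalgebra A K)
    (q : Ideal B) [q.IsPrime] (a : A) :
    Ring.ord (Localization.AtPrime q) (algebraMap A (Localization.AtPrime q) a) ≤
      Module.length A ((Localization.AtPrime q) ⧸
        Ideal.span {algebraMap A (Localization.AtPrime q) a}) := by
  have := Submodule.length_le_length_restrictScalars A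
    (⊤ : Submodule (Localization.AtPrime q) ((Localization.AtPrime q) ⧸
        Ideal.span {algebraMap A (Localization.AtPrime q) a}))
  rw [Module.length_top, Submodule.restrictScalars_top, Module.length_top] at this
  exact this

theorem lengthA_le (hA : ringKrullDim A = 1) (B : Subalgebra A K) [Module.Finite A B]
    (q : Ideal B) [q.IsPrime] {a : A} (ha : a ∈ nonZeroDivisors A) :
    Module.length A ((Localization.AtPrime q) ⧸
        Ideal.span {algebraMap A (Localization.AtPrime q) a}) ≤
      Module.length A (B ⧸ a • (⊤ : Submodule A B)) := by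
  have hsurj := surjective_toQuot hA B q ha
  have hker : a • (⊤ : Submodule A B) ≤ LinearMap.ker ((Ideal.Quotient.mkₐ A
      (Ideal.span {algebraMap A (Localization.AtPrime q) a})).toLinearMap ∘ₗ
        (IsScalarTower.toAlgHom A B (Localization.AtPrime q)).toLinearMap) := by
    intro z hz
    obtain ⟨b, -, rfl⟩ := (Submodule.mem_smul_pointwise_iff_exists _ _ _).mp hz
    rw [LinearMap.mem_ker]
    show Ideal.Quotient.mk (Ideal.span {algebraMap A (Localization.AtPrime q) a})
      (algebraMap B (Localization.AtPrime q) (a • b)) = 0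
    rw [Ideal.Quotient.eq_zero_iff_mem, Algebra.smul_def, map_mul,
      ← IsScalarTower.algebraMap_apply]
    exact Ideal.mul_mem_right _ _ (Ideal.mem_span_singleton_self _)
  apply Module.length_le_of_surjective ((a • (⊤ : Submodule A B)).liftQ _ hker)
  intro x
  obtain ⟨b, hb⟩ := hsurj x
  exact ⟨Submodule.Quotient.mk b, by rw [Submodule.liftQ_apply]; exact hb⟩

theorem ord_le (hA : ringKrullDim A = 1) (B : Subalgebra A K) [Module.Finite A B]
    (q : Ideal B) [q.IsPrime] {a : A} (ha : a ∈ nonZeroDivisors A) :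
    Ring.ord (Localization.AtPrime q) (algebraMap A (Localization.AtPrime q) a) ≤
      Module.length A (A ⧸ a • (⊤ : Submodule A A)) := by
  rw [← length_quot_eq hA B ha]
  exact (ord_le_lengthA B q a).trans (lengthA_le hA B q ha)

end Groth.Agent.Lib.Helper26.TameE
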