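import Mathlib

set_option autoImplicit false
set_option linter.style.haveILetI false
set_option linter.unusedSectionVars false

namespace Groth.Agent.Lib.Helper26.TameF

open Function

universe u

section bezout

theorem bezout (r : ℕ) (e : Fin r → ℕ) :
    ∃ (g : ℕ) (s : Fin r → ℤ), ∑ i, s i * (e i : ℤ) = g ∧ ∀ i, g ∣ e i := by
  let I : Ideal ℤ := Ideal.span (Set.range fun i => (e i : ℤ))
  obtain ⟨g', hg'⟩ := (IsPrincipalIdealRing.principal I).principal
  have hI : I = Ideal.span {((g'.natAbs : ℕ) : ℤ)} := by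
    rw [Int.span_natAbs]; exact hg'
  have h1 : ((g'.natAbs : ℕ) : ℤ) ∈ I := by
    rw [hI]; exact Ideal.mem_span_singleton_self _
  obtain ⟨c, hc⟩ := Ideal.mem_span_range_iff_exists_fun.mp h1
  refine ⟨g'.natAbs, c, hc, ?_⟩
  intro i
  have h2 : (e i : ℤ) ∈ I := Ideal.subset_span ⟨i, rfl⟩
  rw [hI, Ideal.mem_span_singleton] at h2
  exact Int.natCast_dvd_natCast.mp h2

/-- Bezout coefficients with a uniform bound, for bounded tuples. -/
theorem exists_bound (N r : ℕ) : ∃ M0 : ℕ, ∀ e : Fin r → ℕ, (∀ i, e i ≤ N) →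
    ∃ (g : ℕ) (s : Fin r → ℤ), ∑ i, s i * (e i : ℤ) = g ∧ (∀ i, g ∣ e i) ∧
      ∀ i, (s i).natAbs ≤ M0 := by
  classical
  choose g s hs hg using bezout r
  refine ⟨(Fintype.piFinset (fun _ : Fin r => Finset.range (N + 1))).sup
    (fun e => Finset.univ.sup (fun i => (s e i).natAbs)), ?_⟩
  intro e he
  refine ⟨g e, s e, hs e, hg e, ?_⟩
  intro i
  have hmem : e ∈ Fintype.piFinset (fun _ : Fin r => Finset.range (N + 1)) := by
    rw [Fintype.mem_piFinset]
    intro j
    exact Finset.mem_range.mpr (Nat.lt_succ_iff.mpr (he j))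
  refine le_trans ?_ (Finset.le_sup (f := fun e => Finset.univ.sup (fun i => (s e i).natAbs)) hmem)
  exact Finset.le_sup (f := fun i => (s e i).natAbs) (Finset.mem_univ i)

end bezout

section mon

variable {L : Type u} [CommRing L] {r : ℕ}

/-- monomial in the `a i` -/
def mon (a : Fin r → L) (γ : Fin r → ℕ) : L := ∏ i, a i ^ γ i

theorem mon_add (a : Fin r → L) (γ δ : Fin r → ℕ) : mon a (γ + δ) = mon a γ * mon a δ := by
  unfold mon
  rw [← Finset.prod_mul_distrib]
  apply Finset.prod_congr rfl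
  intro i _
  rw [Pi.add_apply, pow_add]

theorem mon_smul (a : Fin r → L) (k : ℕ) (γ : Fin r → ℕ) : mon a (k • γ) = mon a γ ^ k := by
  unfold mon
  rw [← Finset.prod_pow]
  apply Finset.prod_congr rfl
  intro i _
  rw [Pi.smul_apply, smul_eq_mul, mul_comm, pow_mul]

theorem mon_single (a : Fin r → L) (i : Fin r) : mon a (Pi.single i 1) = a i := by
  classical
  unfold mon
  rw [Finset.prod_eq_single i]
  · simp
  · intro j _ hj
    rw [Pi.single_eq_of_ne hj, pow_zero]
  · intro h
    exact absurd (Finset.mem_univ _) h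

theorem mon_mem_nonZeroDivisors (a : Fin r → L) (ha : ∀ i, a i ∈ nonZeroDivisors L)
    (γ : Fin r → ℕ) : mon a γ ∈ nonZeroDivisors L :=
  prod_mem (fun i _ => pow_mem (ha i) _)

theorem ord_mon (a : Fin r → L) (ha : ∀ i, a i ∈ nonZeroDivisors L) (e : Fin r → ℕ)
    (he : ∀ i, Ring.ord L (a i) = e i) (γ : Fin r → ℕ) :
    Ring.ord L (mon a γ) = ((∑ i, γ i * e i : ℕ) : ℕ∞) := by
  classical
  unfold mon
  have : ∀ s : Finset (Fin r), Ring.ord L (∏ i ∈ s, a i ^ γ i) = ((∑ i ∈ s, γ i * e i : ℕ) : ℕ∞) := by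
    intro s
    induction s using Finset.induction_on with
    | empty => simp
    | insert j s hj ih =>
      rw [Finset.prod_insert hj, Finset.sum_insert hj, mul_comm,
        Ring.ord_mul L (pow_mem (ha j) _), ih, Ring.ord_pow (ha j), he j]
      push_cast
      rw [add_comm, nsmul_eq_mul]
  exact this Finset.univ

theorem isUnit_of_ord_eq_zero {z : L} (h : Ring.ord L z = 0) : IsUnit z := by
  rw [Ring.ord, Module.length_eq_zero_iff, Submodule.Quotient.subsingleton_iff] at h
  exact Ideal.span_singleton_eq_top.mp h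

end mon

section main

variable {L : Type u} [CommRing L] {r : ℕ}

/-- The local numerical argument: if all pairs of bounded monomials in the `a i` are comparable
for divisibility, then the `a i` are units times powers of a common element. -/
theorem exists_param (N M0 : ℕ)
    (hM0 : ∀ e : Fin r → ℕ, (∀ i, e i ≤ N) →
      ∃ (g : ℕ) (s : Fin r → ℤ), ∑ i, s i * (e i : ℤ) = g ∧ (∀ i, g ∣ e i) ∧
        ∀ i, (s i).natAbs ≤ M0)
    (a : Fin r → L) (ha : ∀ i, a i ∈ nonZeroDivisors L)
    (hord : ∀ i, Ring.ord L (a i) ≤ (N : ℕ∞))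
    (D : ∀ α β : Fin r → ℕ, (∀ i, α i ≤ N * M0 + M0 + 1) → (∀ i, β i ≤ N * M0 + M0 + 1) →
      mon a α ∣ mon a β ∨ mon a β ∣ mon a α) :
    ∃ π : L, π ∈ nonZeroDivisors L ∧ ∀ i, ∃ (v : Lˣ) (k : ℕ), a i = (v : L) * π ^ k := by
  classical
  have hne : ∀ i, Ring.ord L (a i) ≠ ⊤ := fun i =>
    ne_top_of_le_ne_top (ENat.natCast_ne_top N) (hord i)
  let e : Fin r → ℕ := fun i => (Ring.ord L (a i)).toNat
  have he : ∀ i, Ring.ord L (a i) = e i := fun i => (ENat.natCast_toNat (hne i)).symm
  have heN : ∀ i, e i ≤ N := by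
    intro i
    have := hord i
    rw [he i] at this
    exact_mod_cast this
  obtain ⟨g, s, hs, hg, hsb⟩ := hM0 e heN
  by_cases hg0 : g = 0
  · refine ⟨1, one_mem _, ?_⟩
    intro i
    have hei : e i = 0 := by
      have := hg i
      rw [hg0] at this
      exact Nat.eq_zero_of_zero_dvd this
    have hu : IsUnit (a i) := by
      apply isUnit_of_ord_eq_zero
      rw [he i, hei]; rfl
    exact ⟨hu.unit, 0, by simp⟩
  have hgpos : 0 < g := Nat.pos_of_ne_zero hg0
  let α : Fin r → ℕ := fun i => (s i).toNat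
  let β : Fin r → ℕ := fun i => (-s i).toNat
  have hαβ : ∀ i, (s i) = (α i : ℤ) - (β i : ℤ) := by
    intro i
    simp only [α, β]
    omega
  have hαb : ∀ i, α i ≤ M0 := by
    intro i
    have := hsb i
    simp only [α]
    omega
  have hβb : ∀ i, β i ≤ M0 := by
    intro i
    have := hsb i
    simp only [β]
    omega
  let oQ : ℕ := ∑ i, α i * e i
  let oP : ℕ := ∑ i, β i * e i
  have hoQP : oQ = oP + g := by
    have h1 : (oQ : ℤ) - (oP : ℤ) = g := by
      rw [← hs]
      simp only [oQ, oP]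
      push_cast
      rw [← Finset.sum_sub_distrib]
      apply Finset.sum_congr rfl
      intro i _
      rw [hαβ i]; ring
    omega
  have hordQ : Ring.ord L (mon a α) = (oQ : ℕ∞) := ord_mon a ha e he α
  have hordP : Ring.ord L (mon a β) = (oP : ℕ∞) := ord_mon a ha e he β
  have hMle : M0 ≤ N * M0 + M0 + 1 := by omega
  have hPQ : mon a β ∣ mon a α := by
    rcases D α β (fun i => (hαb i).trans hMle) (fun i => (hβb i).trans hMle) with h | h
    · exfalso
      have := Ring.ord_le_ord_of_dvd h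
      rw [hordQ, hordP] at this
      have h2 : oQ ≤ oP := by exact_mod_cast this
      omega
    · exact h
  obtain ⟨π, hπ⟩ := hPQ
  have hQnzd := mon_mem_nonZeroDivisors a ha α
  have hPnzd := mon_mem_nonZeroDivisors a ha β
  have hπnzd : π ∈ nonZeroDivisors L := by
    rw [hπ] at hQnzd
    exact (mul_mem_nonZeroDivisors.mp hQnzd).2
  have hordπ : Ring.ord L π = (g : ℕ∞) := by
    have h1 : Ring.ord L (mon a α) = Ring.ord L (mon a β) + Ring.ord L π := by
      rw [hπ, Ring.ord_mul L hπnzd]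
    rw [hordQ, hordP, hoQP] at h1
    push_cast at h1
    exact ((ENat.add_right_injective_of_ne_top (ENat.natCast_ne_top oP)) h1).symm
  refine ⟨π, hπnzd, ?_⟩
  intro i
  obtain ⟨k, hk⟩ := hg i
  have hkN : k ≤ N := by
    have h1 := heN i
    rw [hk] at h1
    calc k = 1 * k := (one_mul k).symm
      _ ≤ g * k := Nat.mul_le_mul_right k hgpos
      _ ≤ N := h1
  let γX : Fin r → ℕ := k • β + Pi.single i 1
  let γY : Fin r → ℕ := k • α
  have hX : mon a γX = mon a β ^ k * a i := by
    simp only [γX]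
    rw [mon_add, mon_smul, mon_single]
  have hY : mon a γY = mon a α ^ k := by
    simp only [γY]
    rw [mon_smul]
  have hXb : ∀ j, γX j ≤ N * M0 + M0 + 1 := by
    intro j
    simp only [γX, Pi.add_apply, Pi.smul_apply, smul_eq_mul]
    have h1 : k * β j ≤ N * M0 := Nat.mul_le_mul hkN (hβb j)
    have h2 : (Pi.single i 1 : Fin r → ℕ) j ≤ 1 := by
      by_cases hji : j = i
      · rw [hji, Pi.single_eq_same]
      · rw [Pi.single_eq_of_ne hji]; omega
    omega
  have hYb : ∀ j, γY j ≤ N * M0 + M0 + 1 := by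
    intro j
    simp only [γY, Pi.smul_apply, smul_eq_mul]
    have h1 : k * α j ≤ N * M0 := Nat.mul_le_mul hkN (hαb j)
    omega
  have hordX : Ring.ord L (mon a γX) = ((k * oP + e i : ℕ) : ℕ∞) := by
    rw [hX, Ring.ord_mul L (ha i), Ring.ord_pow hPnzd, hordP, he i]
    push_cast
    rw [nsmul_eq_mul]
  have hordY : Ring.ord L (mon a γY) = ((k * oP + e i : ℕ) : ℕ∞) := by
    rw [hY, Ring.ord_pow hQnzd, hordQ, hoQP, hk]
    push_cast
    rw [nsmul_eq_mul]
    ring
  have hXnzd := mon_mem_nonZeroDivisors a ha γX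
  have hYnzd := mon_mem_nonZeroDivisors a ha γY
  have hPk : mon a β ^ k ∈ nonZeroDivisors L := pow_mem hPnzd k
  have hYeq : mon a γY = mon a β ^ k * π ^ k := by
    rw [hY, hπ, mul_pow]
  rcases D γX γY hXb hYb with h | h
  · obtain ⟨z, hz⟩ := h
    have hznzd : z ∈ nonZeroDivisors L := by
      rw [hz] at hYnzd
      exact (mul_mem_nonZeroDivisors.mp hYnzd).2
    have h1 : Ring.ord L (mon a γY) = Ring.ord L (mon a γX) + Ring.ord L z := by
      rw [hz, Ring.ord_mul L hznzd]
    rw [hordX, hordY] at h1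
    have h2 : Ring.ord L z = 0 := by
      have h3 : ((k * oP + e i : ℕ) : ℕ∞) + 0 = ((k * oP + e i : ℕ) : ℕ∞) + Ring.ord L z := by
        rw [add_zero]; exact h1
      exact ((ENat.add_right_injective_of_ne_top (ENat.natCast_ne_top _)) h3).symm
    have hzu := isUnit_of_ord_eq_zero h2
    obtain ⟨u, rfl⟩ := hzu
    refine ⟨u⁻¹, k, ?_⟩
    -- P^k π^k = P^k a_i u
    have h4 : mon a β ^ k * π ^ k = mon a β ^ k * (a i * u) := by
      rw [← hYeq, hz, hX]; ring
    have h5 := (mul_cancel_left_mem_nonZeroDivisors hPk).mp h4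
    rw [h5, mul_comm (a i), ← mul_assoc, Units.inv_mul, one_mul]
  · obtain ⟨z, hz⟩ := h
    have hznzd : z ∈ nonZeroDivisors L := by
      rw [hz] at hXnzd
      exact (mul_mem_nonZeroDivisors.mp hXnzd).2
    have h1 : Ring.ord L (mon a γX) = Ring.ord L (mon a γY) + Ring.ord L z := by
      rw [hz, Ring.ord_mul L hznzd]
    rw [hordX, hordY] at h1
    have h2 : Ring.ord L z = 0 := by
      have h3 : ((k * oP + e i : ℕ) : ℕ∞) + 0 = ((k * oP + e i : ℕ) : ℕ∞) + Ring.ord L z := by
        rw [add_zero]; exact h1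
      exact ((ENat.add_right_injective_of_ne_top (ENat.natCast_ne_top _)) h3).symm
    have hzu := isUnit_of_ord_eq_zero h2
    obtain ⟨u, rfl⟩ := hzu
    refine ⟨u, k, ?_⟩
    have h4 : mon a β ^ k * a i = mon a β ^ k * (π ^ k * u) := by
      rw [← hX, hz, hYeq]; ring
    have h5 := (mul_cancel_left_mem_nonZeroDivisors hPk).mp h4
    rw [h5, mul_comm]

end main

end Groth.Agent.Lib.Helper26.TameF
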