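import Mathlib
import Groth.Agent.Lib.Helper26.TameE
import Groth.Agent.Lib.Helper26.TameF

set_option autoImplicit false
set_option linter.style.haveILetI false
set_option linter.unusedSectionVars false

namespace Groth.Agent.Lib.Helper26.TameG

open Function IsLocalRing
open scoped Pointwise
open Groth.Agent.Lib.Helper26.TameC Groth.Agent.Lib.Helper26.TameD Groth.Agent.Lib.Helper26.TameE
  Groth.Agent.Lib.Helper26.TameF

universe u

variable {A : Type u} [CommRing A] [IsNoetherianRing A] [IsLocalRing A]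

theorem map_mon {L : Type*} [CommRing L] (f : A →+* L) {r : ℕ} (a : Fin r → A) (γ : Fin r → ℕ) :
    f (mon a γ) = mon (fun i => f (a i)) γ := by
  unfold mon
  rw [map_prod]
  apply Finset.prod_congr rfl
  intro i _
  rw [map_pow]

/-- Simultaneous monomialisation of finitely many nonzerodivisors after a finite extension inside
the total ring of fractions. -/
theorem exists_monomial (hA : ringKrullDim A = 1) (K : Type u) [CommRing K] [Algebra A K]
    [IsFractionRing A K] (r : ℕ) (a : Fin r → A) (ha : ∀ i, a i ∈ nonZeroDivisors A) :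
    ∃ F : Finset K, (∀ f ∈ F, IsIntegral A f) ∧ ∀ B : Subalgebra A K, (↑F ⊆ (B : Set K)) →
      Module.Finite A B → ∀ q : Ideal B, ∀ [q.IsMaximal],
      ∃ π : Localization.AtPrime q, π ∈ nonZeroDivisors (Localization.AtPrime q) ∧
        ∀ i, ∃ (v : (Localization.AtPrime q)ˣ) (e : ℕ),
          algebraMap A (Localization.AtPrime q) (a i) = (v : Localization.AtPrime q) * π ^ e := by
  classical
  -- the uniform bound on orders
  have hfin : ∀ i, Module.length A (A ⧸ a i • (⊤ : Submodule A A)) ≠ ⊤ := fun i =>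
    ne_top_of_lt (Groth.Agent.Lib.Helper12.OneDim.length_quot_lt_top (a i) hA (ha i) A)
  let N : ℕ := Finset.univ.sup (fun i => (Module.length A (A ⧸ a i • (⊤ : Submodule A A))).toNat)
  have hN : ∀ i, Module.length A (A ⧸ a i • (⊤ : Submodule A A)) ≤ (N : ℕ∞) := by
    intro i
    rw [← ENat.natCast_toNat (hfin i)]
    have : (Module.length A (A ⧸ a i • (⊤ : Submodule A A))).toNat ≤ N :=
      Finset.le_sup (f := fun i => (Module.length A (A ⧸ a i • (⊤ : Submodule A A))).toNat)
        (Finset.mem_univ i)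
    exact_mod_cast this
  obtain ⟨M0, hM0⟩ := exists_bound N r
  let M : ℕ := N * M0 + M0 + 1
  -- resolutions of all pairs of bounded monomials
  have hres : ∀ idx : (Fin r → Fin (M + 1)) × (Fin r → Fin (M + 1)),
      ∃ F : Finset K, (∀ f ∈ F, IsIntegral A f) ∧ ∀ B : Subalgebra A K, (↑F ⊆ (B : Set K)) →
        ∀ q : Ideal B, q ≠ ⊤ → ∃ p w : B,
          algebraMap A B (mon a (fun i => (idx.1 i : ℕ))) * w =
            algebraMap A B (mon a (fun i => (idx.2 i : ℕ))) * p ∧ (p ∉ q ∨ w ∉ q) := by
    intro idx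
    have hx := mon_mem_nonZeroDivisors a ha (fun i => (idx.1 i : ℕ))
    let θ : K := IsLocalization.mk' K (mon a (fun i => (idx.2 i : ℕ)))
      ⟨mon a (fun i => (idx.1 i : ℕ)), hx⟩
    have hθ : algebraMap A K (mon a (fun i => (idx.1 i : ℕ))) * θ =
        algebraMap A K (mon a (fun i => (idx.2 i : ℕ))) :=
      IsLocalization.mk'_spec' K _ ⟨mon a (fun i => (idx.1 i : ℕ)), hx⟩
    obtain ⟨F, hF, h⟩ := exists_resolution hA (mon a (fun i => (idx.2 i : ℕ))) hx θ hθ
    refine ⟨F, hF, ?_⟩
    intro B hFB q hq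
    obtain ⟨p, w, hw, hor⟩ := h B hFB q hq
    refine ⟨p, w, ?_, hor⟩
    apply Subtype.ext
    show algebraMap A K _ * (w : K) = algebraMap A K _ * (p : K)
    rw [hw, ← hθ]; ring
  choose F hFint hF using hres
  refine ⟨Finset.univ.biUnion F, ?_, ?_⟩
  · intro f hf
    obtain ⟨idx, -, hidx⟩ := Finset.mem_biUnion.mp hf
    exact hFint idx f hidx
  · intro B hFB hfinB q hq
    haveI := hfinB
    haveI : q.IsPrime := hq.isPrime
    let L := Localization.AtPrime q
    let aL : Fin r → L := fun i => algebraMap A L (a i)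
    have haB : ∀ i, algebraMap A B (a i) ∈ nonZeroDivisors B := by
      intro i
      apply mem_nonZeroDivisors_of_isUnit_coe
      exact IsLocalization.map_units K ⟨a i, ha i⟩
    have haL : ∀ i, aL i ∈ nonZeroDivisors L := by
      intro i
      have h1 := IsLocalization.nonZeroDivisors_le_comap q.primeCompl L (haB i)
      rw [Submonoid.mem_comap, ← IsScalarTower.algebraMap_apply] at h1
      exact h1
    have hordL : ∀ i, Ring.ord L (aL i) ≤ (N : ℕ∞) := fun i =>
      (ord_le hA B q (ha i)).trans (hN i)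
    have hD : ∀ α β : Fin r → ℕ, (∀ i, α i ≤ N * M0 + M0 + 1) → (∀ i, β i ≤ N * M0 + M0 + 1) →
        mon aL α ∣ mon aL β ∨ mon aL β ∣ mon aL α := by
      intro α β hα hβ
      let idx : (Fin r → Fin (M + 1)) × (Fin r → Fin (M + 1)) :=
        (fun i => ⟨α i, Nat.lt_succ_iff.mpr (hα i)⟩, fun i => ⟨β i, Nat.lt_succ_iff.mpr (hβ i)⟩)
      have hsub : (↑(F idx) : Set K) ⊆ (B : Set K) := by
        intro f hf
        apply hFB
        exact Finset.mem_coe.mpr (Finset.mem_biUnion.mpr ⟨idx, Finset.mem_univ _, hf⟩)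
      obtain ⟨p, w, hpw, hor⟩ := hF idx B hsub q hq.ne_top
      have h1 : mon aL α * algebraMap B L w = mon aL β * algebraMap B L p := by
        have h2 := congrArg (algebraMap B L) hpw
        rw [map_mul, map_mul, ← IsScalarTower.algebraMap_apply, ← IsScalarTower.algebraMap_apply,
          map_mon, map_mon] at h2
        exact h2
      rcases hor with hp | hw
      · left
        have hu : IsUnit (algebraMap B L p) := IsLocalization.map_units L (⟨p, hp⟩ : q.primeCompl)
        obtain ⟨u, hu⟩ := hu
        refine ⟨algebraMap B L w * ((u⁻¹ : Lˣ) : L), ?_⟩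
        rw [← mul_assoc, h1, ← hu, mul_assoc, Units.mul_inv, mul_one]
      · right
        have hu : IsUnit (algebraMap B L w) := IsLocalization.map_units L (⟨w, hw⟩ : q.primeCompl)
        obtain ⟨u, hu⟩ := hu
        refine ⟨algebraMap B L p * ((u⁻¹ : Lˣ) : L), ?_⟩
        rw [← mul_assoc, ← h1, ← hu, mul_assoc, Units.mul_inv, mul_one]
    exact exists_param N M0 hM0 aL haL hordL hD

theorem main_1836 (A : Type u) [CommRing A] [IsNoetherianRing A] [IsLocalRing A]
    (hA : ringKrullDim A = 1) (r : ℕ) (a : Fin r → A) (ha : ∀ i, a i ∈ nonZeroDivisors A) :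
    ∃ (B : Type u) (_ : CommRing B) (_ : Algebra A B),
      CycAlg.IsFinExt A B (IsLocalRing.maximalIdeal A) ∧ ∀ q : MaximalSpectrum B,
        ∃ π : Localization.AtPrime q.asIdeal,
          π ∈ nonZeroDivisors (Localization.AtPrime q.asIdeal) ∧
          ∀ i, ∃ (v : (Localization.AtPrime q.asIdeal)ˣ) (e : ℕ),
            algebraMap A (Localization.AtPrime q.asIdeal) (a i) =
              (v : Localization.AtPrime q.asIdeal) * π ^ e := by
  obtain ⟨F, hFint, h⟩ := exists_monomial hA (FractionRing A) r a ha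
  let B : Subalgebra A (FractionRing A) := Algebra.adjoin A (↑F : Set (FractionRing A))
  haveI hfin : Module.Finite A B := finite_adjoin F hFint
  refine ⟨B, inferInstance, inferInstance, isFinExt_of_finite hA B, ?_⟩
  intro q
  haveI := q.isMaximal
  exact h B Algebra.subset_adjoin hfin q.asIdeal

end Groth.Agent.Lib.Helper26.TameG
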