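import Mathlib
import Groth.Agent.Lib.Helper26.TameD

set_option autoImplicit false
set_option linter.style.haveILetI false
set_option linter.unusedSectionVars false

namespace Groth.Agent.Lib.Helper26.TameI

open Function IsLocalRing

universe u

section semilocal

variable {B : Type u} [CommRing B]

/-- inverting an element modulo `b`, up to a power: the Artinian property of `B/bB`. -/
theorem exists_inverse_mod (b : B) [IsArtinian B (B ⧸ Ideal.span {b})] (s : B) :
    ∃ (n : ℕ) (y' c : B), c * b = s ^ (n + 1) * y' - s ^ n := by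
  obtain ⟨n, y, hy⟩ := IsArtinian.exists_pow_succ_smul_dvd s (1 : B ⧸ (Ideal.span {b}))
  obtain ⟨y', rfl⟩ := Ideal.Quotient.mk_surjective y
  change Ideal.Quotient.mk (Ideal.span {b}) (s ^ (n + 1) * y') =
    Ideal.Quotient.mk (Ideal.span {b}) (s ^ n * 1) at hy
  rw [mul_one, Ideal.Quotient.eq] at hy
  obtain ⟨c, hc⟩ := Ideal.mem_span_singleton'.mp hy
  exact ⟨n, y', c, hc⟩

/-- every element of the localization is congruent modulo `b` to an element of `B` -/
theorem exists_lift_mod (b : B) [IsArtinian B (B ⧸ Ideal.span {b})] (q : Ideal B) [q.IsPrime]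
    (l : Localization.AtPrime q) :
    ∃ x : B, algebraMap B (Localization.AtPrime q) x - l ∈
      Ideal.span {algebraMap B (Localization.AtPrime q) b} := by
  let L := Localization.AtPrime q
  obtain ⟨b0, s, hl⟩ := IsLocalization.exists_mk'_eq q.primeCompl l
  rw [← hl]
  obtain ⟨n, y', c, hc⟩ := exists_inverse_mod b (s : B)
  have hσ : IsUnit (algebraMap B L (s : B)) := IsLocalization.map_units L s
  have h2 : algebraMap B L (s : B) * algebraMap B L y' - 1 ∈ Ideal.span {algebraMap B L b} := by
    have h3 := congrArg (algebraMap B L) hc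
    simp only [map_mul, map_sub, map_pow] at h3
    obtain ⟨u, hu⟩ := hσ
    rw [← hu] at h3 ⊢
    have h5 : (u : L) * algebraMap B L y' - 1 =
        ((u⁻¹ : Lˣ) : L) ^ n * algebraMap B L c * algebraMap B L b := by
      have : ((u⁻¹ : Lˣ) : L) ^ n * algebraMap B L c * algebraMap B L b =
          ((u⁻¹ : Lˣ) : L) ^ n * (algebraMap B L c * algebraMap B L b) := by ring
      rw [this, h3]
      have h6 : ((u⁻¹ : Lˣ) : L) ^ n * (u : L) ^ n = 1 := by
        rw [← mul_pow, Units.inv_mul, one_pow]
      calc (u : L) * algebraMap B L y' - 1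
          = (((u⁻¹ : Lˣ) : L) ^ n * (u : L) ^ n) * ((u : L) * algebraMap B L y' - 1) := by
            rw [h6, one_mul]
        _ = ((u⁻¹ : Lˣ) : L) ^ n * ((u : L) ^ (n + 1) * algebraMap B L y' - (u : L) ^ n) := by
            ring
    rw [h5]
    exact Ideal.mul_mem_left _ _ (Ideal.mem_span_singleton_self _)
  refine ⟨b0 * y', ?_⟩
  have h7 : algebraMap B L (b0 * y') - IsLocalization.mk' L b0 s =
      IsLocalization.mk' L b0 s * (algebraMap B L (s : B) * algebraMap B L y' - 1) := by
    have h8 : IsLocalization.mk' L b0 s * algebraMap B L (s : B) = algebraMap B L b0 :=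
      IsLocalization.mk'_spec L b0 s
    rw [map_mul, ← h8]; ring
  rw [h7]
  exact Ideal.mul_mem_left _ _ h2

/-- the contraction of `b L_q` -/
noncomputable def contr (b : B) (q : Ideal B) [q.IsPrime] : Ideal B :=
  (Ideal.span {algebraMap B (Localization.AtPrime q) b}).comap (algebraMap B (Localization.AtPrime q))

theorem span_le_contr (b : B) (q : Ideal B) [q.IsPrime] : Ideal.span {b} ≤ contr b q := by
  rw [Ideal.span_le, Set.singleton_subset_iff]
  exact Ideal.mem_span_singleton_self _

/-- local-global: the intersection of the contractions is `(b)` -/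
theorem mem_span_of_forall_mem_contr (b x : B)
    (h : ∀ (q : Ideal B) [q.IsMaximal], x ∈ contr b q) : x ∈ Ideal.span {b} := by
  let J : Ideal B :=
    { carrier := {z | z * x ∈ Ideal.span {b}}
      add_mem' := by
        intro y z hy hz
        show (y + z) * x ∈ Ideal.span {b}
        rw [add_mul]; exact Ideal.add_mem _ hy hz
      zero_mem' := by
        show (0 : B) * x ∈ Ideal.span {b}
        rw [zero_mul]; exact Ideal.zero_mem _
      smul_mem' := by
        intro r y hy
        show (r • y) * x ∈ Ideal.span {b}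
        rw [smul_eq_mul, mul_assoc]; exact Ideal.mul_mem_left _ _ hy }
  have hJ : J = ⊤ := by
    by_contra hne
    obtain ⟨M, hM, hJM⟩ := Ideal.exists_le_maximal J hne
    haveI := hM
    have h1 := h M
    rw [contr, Ideal.mem_comap, Ideal.mem_span_singleton'] at h1
    obtain ⟨l, hl⟩ := h1
    obtain ⟨c, s, rfl⟩ := IsLocalization.exists_mk'_eq M.primeCompl l
    -- mk' c s * b = x  ⇒  c b / s = x ⇒ ∃ t ∉ M, t (c b - s x) = 0
    have h2 : algebraMap B (Localization.AtPrime M) (c * b) =
        algebraMap B (Localization.AtPrime M) ((s : B) * x) := by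
      rw [map_mul, map_mul, ← hl, ← mul_assoc, mul_comm (algebraMap B _ (s : B)),
        IsLocalization.mk'_spec]
    obtain ⟨t, ht⟩ := (IsLocalization.eq_iff_exists M.primeCompl _).mp h2
    have h3 : (t : B) * (s : B) ∈ J := by
      show (t : B) * (s : B) * x ∈ Ideal.span {b}
      rw [mul_assoc, ← ht, ← mul_assoc]
      exact Ideal.mul_mem_left _ _ (Ideal.mem_span_singleton_self _)
    have h4 : (t : B) * (s : B) ∈ M := hJM h3
    rcases hM.isPrime.mem_or_mem h4 with h5 | h5
    · exact t.2 h5
    · exact s.2 h5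
  have h1 : (1 : B) ∈ J := by rw [hJ]; trivial
  have h2 : (1 : B) * x ∈ Ideal.span {b} := h1
  rwa [one_mul] at h2

end semilocal

section primary

variable {B : Type u} [CommRing B] [IsNoetherianRing B]

/-- a power of `q` lies in the contraction of `b L_q` when `B/bB` is Artinian -/
theorem exists_pow_le_contr (b : B) [IsArtinian B (B ⧸ Ideal.span {b})] (q : Ideal B)
    [q.IsPrime] : ∃ n : ℕ, q ^ n ≤ contr b q := by
  let L := Localization.AtPrime q
  let mkl : B →ₗ[B] (B ⧸ Ideal.span {b}) := (Ideal.Quotient.mkₐ B (Ideal.span {b})).toLinearMap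
  let f : ℕ →o (Submodule B (B ⧸ Ideal.span {b}))ᵒᵈ :=
    { toFun := fun n => OrderDual.toDual (Submodule.map mkl (q ^ n))
      monotone' := by
        intro n m hnm
        show Submodule.map mkl (q ^ m) ≤ Submodule.map mkl (q ^ n)
        exact Submodule.map_mono (Ideal.pow_le_pow_right hnm) }
  obtain ⟨n, hn⟩ := IsArtinian.monotone_stabilizes f
  have h1 : q ^ n ≤ q ^ (n + 1) ⊔ Ideal.span {b} := by
    intro x hx
    have h2 : mkl x ∈ Submodule.map mkl (q ^ n) := Submodule.mem_map_of_mem hx
    have h3 : Submodule.map mkl (q ^ n) = Submodule.map mkl (q ^ (n + 1)) :=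
      congrArg OrderDual.ofDual (hn (n + 1) (Nat.le_succ n))
    rw [h3] at h2
    obtain ⟨y, hy, hyx⟩ := h2
    have h4 : x - y ∈ Ideal.span {b} := by
      rw [← Ideal.Quotient.eq_zero_iff_mem, map_sub, sub_eq_zero]
      exact hyx.symm
    have : x = y + (x - y) := by ring
    rw [this]
    exact Submodule.add_mem_sup hy h4
  refine ⟨n, ?_⟩
  have hNak : (q ^ n).map (algebraMap B L) ≤ Ideal.span {algebraMap B L b} := by
    apply Submodule.le_of_le_smul_of_le_jacobson_bot (I := maximalIdeal L)
    · exact Ideal.FG.map (isNoetherian_def.mp inferInstance _) _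
    · exact (IsLocalRing.jacobson_eq_maximalIdeal ⊥ bot_ne_top).ge
    · rw [Ideal.map_le_iff_le_comap]
      intro x hx
      obtain ⟨y, hy, z, hz, rfl⟩ := Submodule.mem_sup.mp (h1 hx)
      rw [Ideal.mem_comap, map_add, add_comm]
      apply Submodule.add_mem_sup
      · obtain ⟨c, rfl⟩ := Ideal.mem_span_singleton'.mp hz
        rw [map_mul]
        exact Ideal.mul_mem_left _ _ (Ideal.mem_span_singleton_self _)
      · have h5 : (q ^ (n + 1)).map (algebraMap B L) =
            (q.map (algebraMap B L)) * (q ^ n).map (algebraMap B L) := by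
          rw [pow_succ', Ideal.map_mul]
        have h6 : q.map (algebraMap B L) = maximalIdeal L :=
          IsLocalization.AtPrime.map_eq_maximalIdeal q L
        have h7 : algebraMap B L y ∈ (q ^ (n + 1)).map (algebraMap B L) :=
          Ideal.mem_map_of_mem _ hy
        rw [h5, h6] at h7
        exact h7
  intro x hx
  rw [contr, Ideal.mem_comap]
  exact hNak (Ideal.mem_map_of_mem _ hx)

end primary

section decomp

variable (A : Type u) [CommRing A] {B : Type u} [CommRing B] [Algebra A B] [IsNoetherianRing B]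
  [Fintype (MaximalSpectrum B)]

/-- the map to the localization at `q` modulo `b` -/
noncomputable def toLocQuot (b : B) (q : Ideal B) [q.IsPrime] :
    B →ₐ[A] (Localization.AtPrime q ⧸ Ideal.span {algebraMap B (Localization.AtPrime q) b}) :=
  (Ideal.Quotient.mkₐ A _).comp (IsScalarTower.toAlgHom A B (Localization.AtPrime q))

theorem toLocQuot_apply (b : B) (q : Ideal B) [q.IsPrime] (x : B) :
    toLocQuot A b q x = Ideal.Quotient.mk _ (algebraMap B (Localization.AtPrime q) x) := rfl

theorem toLocQuot_eq_zero_iff (b : B) (q : Ideal B) [q.IsPrime] (x : B) :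
    toLocQuot A b q x = 0 ↔ x ∈ contr b q := by
  rw [toLocQuot_apply, Ideal.Quotient.eq_zero_iff_mem, contr, Ideal.mem_comap]

/-- the induced map on `B/bB` -/
noncomputable def toLocQuotBar (b : B) (q : Ideal B) [q.IsPrime] :
    (B ⧸ Ideal.span {b}) →ₐ[A]
      (Localization.AtPrime q ⧸ Ideal.span {algebraMap B (Localization.AtPrime q) b}) :=
  Ideal.Quotient.liftₐ (Ideal.span {b}) (toLocQuot A b q) (by
    intro x hx
    rw [toLocQuot_eq_zero_iff]
    exact span_le_contr b q hx)

theorem toLocQuotBar_mk (b : B) (q : Ideal B) [q.IsPrime] (x : B) :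
    toLocQuotBar A b q (Ideal.Quotient.mk _ x) = toLocQuot A b q x := rfl

/-- **Decomposition of `B/bB` into its local factors** -/
theorem length_quot_eq_sum (b : B) [IsArtinian B (B ⧸ Ideal.span {b})] :
    Module.length A (B ⧸ Ideal.span {b}) = ∑ q : MaximalSpectrum B,
      Module.length A (Localization.AtPrime q.asIdeal ⧸
        Ideal.span {algebraMap B (Localization.AtPrime q.asIdeal) b}) := by
  classical
  let Ψ : (B ⧸ Ideal.span {b}) →ₐ[A] (∀ q : MaximalSpectrum B,
      (Localization.AtPrime q.asIdeal ⧸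
        Ideal.span {algebraMap B (Localization.AtPrime q.asIdeal) b})) :=
    AlgHom.pi (fun q => toLocQuotBar A b q.asIdeal)
  have hinj : Injective Ψ := by
    rw [injective_iff_map_eq_zero]
    intro x hx
    obtain ⟨x, rfl⟩ := Ideal.Quotient.mk_surjective x
    rw [Ideal.Quotient.eq_zero_iff_mem]
    apply mem_span_of_forall_mem_contr
    intro q hq
    have h1 := congrFun hx (⟨q, hq⟩ : MaximalSpectrum B)
    have h2 : toLocQuot A b q x = 0 := h1
    exact (toLocQuot_eq_zero_iff A b q x).mp h2
  have hsurj : Surjective Ψ := by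
    intro y
    have hlift : ∀ q : MaximalSpectrum B, ∃ x : B, toLocQuot A b q.asIdeal x = y q := by
      intro q
      obtain ⟨l, hl⟩ := Ideal.Quotient.mk_surjective (y q)
      obtain ⟨x, hx⟩ := exists_lift_mod b q.asIdeal l
      refine ⟨x, ?_⟩
      rw [toLocQuot_apply, ← hl, Ideal.Quotient.eq]
      exact hx
    choose x hx using hlift
    have hcop : Pairwise fun i j : MaximalSpectrum B =>
        IsCoprime (contr b i.asIdeal) (contr b j.asIdeal) := by
      intro i j hij
      haveI := i.isMaximal
      haveI := j.isMaximal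
      obtain ⟨n, hn⟩ := exists_pow_le_contr b i.asIdeal
      obtain ⟨m, hm⟩ := exists_pow_le_contr b j.asIdeal
      have h1 : IsCoprime (i.asIdeal ^ n) (j.asIdeal ^ m) :=
        (Ideal.isCoprime_of_isMaximal (MaximalSpectrum.ext_iff.ne.mp hij)).pow
      rw [Ideal.isCoprime_iff_sup_eq] at h1 ⊢
      rw [eq_top_iff, ← h1]
      exact sup_le_sup hn hm
    obtain ⟨z, hz⟩ := Ideal.exists_forall_sub_mem_ideal hcop x
    refine ⟨Ideal.Quotient.mk _ z, ?_⟩
    funext q
    show toLocQuot A b q.asIdeal z = y q
    rw [← hx q, ← sub_eq_zero, ← map_sub, toLocQuot_eq_zero_iff]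
    exact hz q
  let e := AlgEquiv.ofBijective Ψ ⟨hinj, hsurj⟩
  rw [e.toLinearEquiv.length_eq, Module.length_pi_of_fintype]

end decomp

end Groth.Agent.Lib.Helper26.TameI
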