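import Mathlib
import Groth.Agent.Lib.Helper26.RelLength
import Groth.Agent.Lib.Helper26.FracLength

set_option autoImplicit false
set_option linter.style.haveILetI false
set_option linter.unusedSectionVars false

namespace Groth.Agent.Lib.Helper26.TameJ

open Function
open Groth.Agent.Lib.Helper26.RelLength Groth.Agent.Lib.Helper26.FracLength

universe u v w

section general

variable {A : Type u} [CommRing A] {M : Type v} {V : Type w} [AddCommGroup M] [Module A M]
  [AddCommGroup V] [Module A V]

/-- invariance of the colength of an injective endomorphism under passing to a sublattice of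
finite colength -/
theorem length_quot_eq_of_injective (j : M →ₗ[A] V) (hj : Injective j) (β : M →ₗ[A] M)
    (β'' : V →ₗ[A] V) (hβ'' : Injective β'') (hcomm : ∀ x, j (β x) = β'' (j x))
    (hfin : Module.length A (V ⧸ LinearMap.range j) ≠ ⊤) :
    Module.length A (M ⧸ LinearMap.range β) = Module.length A (V ⧸ LinearMap.range β'') := by
  let N : Submodule A V := LinearMap.range j
  have hNle : N.map β'' ≤ N := by
    rintro _ ⟨_, ⟨x, rfl⟩, rfl⟩
    exact ⟨β x, hcomm x⟩
  have hle2 : N.map β'' ≤ (⊤ : Submodule A V).map β'' := Submodule.map_mono le_top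
  have h1 := rl_chain hNle (le_top : N ≤ ⊤)
  have h2 := rl_chain hle2 (le_top : (⊤ : Submodule A V).map β'' ≤ ⊤)
  rw [rl_map β'' hβ''] at h2
  rw [h2] at h1
  -- rl N ⊤ + rl (β'' ⊤) ⊤ = rl (β'' N) N + rl N ⊤
  rw [rl_top N] at h1
  have h3 : rl ((⊤ : Submodule A V).map β'') ⊤ = rl (N.map β'') N := by
    rw [add_comm] at h1
    exact (ENat.add_left_injective_of_ne_top hfin) h1
  have h4 := length_quotient_eq_rl j hj (LinearMap.range β)
  have h5 : (LinearMap.range β).map j = N.map β'' := by
    ext z
    constructor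
    · rintro ⟨_, ⟨x, rfl⟩, rfl⟩
      exact ⟨j x, ⟨x, rfl⟩, (hcomm x).symm⟩
    · rintro ⟨_, ⟨x, rfl⟩, rfl⟩
      exact ⟨β x, ⟨x, rfl⟩, hcomm x⟩
  rw [h4, h5, ← h3, rl_top, Submodule.map_top]

end general

section ring

variable (A : Type u) [CommRing A] {B : Type v} [CommRing B] [Algebra A B]

/-- the quotient by a principal ideal as an `A`-module is the cokernel of multiplication -/
noncomputable def quotSpanEquiv (b : B) :
    (B ⧸ LinearMap.range (LinearMap.mulLeft A b)) ≃ₗ[A] (B ⧸ Ideal.span {b}) :=
  (Submodule.quotEquivOfEq _ ((Ideal.span {b}).restrictScalars A) (by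
    ext z
    rw [LinearMap.mem_range, Submodule.restrictScalars_mem, Ideal.mem_span_singleton']
    constructor
    · rintro ⟨y, rfl⟩
      exact ⟨y, mul_comm _ _⟩
    · rintro ⟨y, rfl⟩
      exact ⟨y, mul_comm _ _⟩)).trans
    (Submodule.Quotient.restrictScalarsEquiv A (Ideal.span {b}))

variable {B'' : Type w} [CommRing B''] [Algebra A B'']

theorem length_quot_span_eq (j : B →ₐ[A] B'') (hj : Injective j) (b : B)
    (hb : j b ∈ nonZeroDivisors B'')
    (hfin : Module.length A (B'' ⧸ LinearMap.range j.toLinearMap) ≠ ⊤) :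
    Module.length A (B ⧸ Ideal.span {b}) = Module.length A (B'' ⧸ Ideal.span {j b}) := by
  rw [← (quotSpanEquiv A b).length_eq, ← (quotSpanEquiv A (j b)).length_eq]
  apply length_quot_eq_of_injective j.toLinearMap hj _ _ _ _ hfin
  · intro x y hxy
    exact (mul_cancel_left_mem_nonZeroDivisors hb).mp hxy
  · intro x
    simp

end ring

end Groth.Agent.Lib.Helper26.TameJ
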