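import Mathlib
import Groth.Prelude.Def_Tame

set_option autoImplicit false
set_option linter.style.haveILetI false
set_option linter.unusedSectionVars false

namespace Groth.Agent.Lib.Helper26.TameH

open Function IsLocalRing

universe u v

section restrict

variable (A : Type u) (L : Type u) [CommRing A] [IsLocalRing A] [CommRing L] [IsLocalRing L]
  [Algebra A L]

theorem length_simple (S : Type v) [AddCommGroup S] [Module L S] [Module A S]
    [IsScalarTower A L S] [IsSimpleModule L S] :
    Module.length A S = Module.length A (ResidueField L) := by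
  obtain ⟨I, hI, ⟨e⟩⟩ := isSimpleModule_iff_quot_maximal.mp (inferInstance : IsSimpleModule L S)
  have hIm : I = IsLocalRing.maximalIdeal L := IsLocalRing.eq_maximalIdeal hI
  subst hIm
  let e' : S ≃ₗ[A] ResidueField L := e.restrictScalars A
  exact e'.length_eq

/-- length over the base local ring of a finite length module over a local algebra -/
theorem length_restrict : ∀ (n : ℕ) (M : Type v) [AddCommGroup M] [Module L M] [Module A M]
    [IsScalarTower A L M], Module.length L M = n →
      Module.length A M = n * Module.length A (ResidueField L) := by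
  intro n
  induction n with
  | zero =>
    intro M _ _ _ _ h
    rw [Nat.cast_zero, Module.length_eq_zero_iff] at h
    rw [Nat.cast_zero, zero_mul, Module.length_eq_zero_iff]
    exact h
  | succ n ih =>
    intro M _ _ _ _ h
    have hfl : IsFiniteLength L M := by
      rw [← Module.length_ne_top_iff, h]; exact ENat.natCast_ne_top _
    haveI : IsArtinian L M := (isFiniteLength_iff_isNoetherian_isArtinian.mp hfl).2
    haveI : IsNoetherian L M := (isFiniteLength_iff_isNoetherian_isArtinian.mp hfl).1
    haveI : Nontrivial M := by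
      rw [← Module.length_pos_iff (R := L), h]
      exact_mod_cast Nat.succ_pos n
    obtain ⟨S, hS⟩ := IsAtomic.exists_atom (Submodule L M)
    haveI hSsimple : IsSimpleModule L S := isSimpleModule_iff_isAtom.mpr hS
    have h1 : Module.length L M = Module.length L S + Module.length L (M ⧸ S) :=
      Module.length_eq_add_of_exact S.subtype S.mkQ S.injective_subtype S.mkQ_surjective
        (LinearMap.exact_subtype_mkQ S)
    rw [Module.length_eq_one L S, h] at h1
    have h2 : Module.length L (M ⧸ S) = n := by
      have h3 : (1 : ℕ∞) + (n : ℕ∞) = 1 + Module.length L (M ⧸ S) := by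
        rw [← h1]; push_cast; ring
      exact ((ENat.add_right_injective_of_ne_top (by simp)) h3).symm
    have h4 := ih (M ⧸ S) h2
    have h5 : Module.length A M = Module.length A S + Module.length A (M ⧸ S) :=
      Module.length_eq_add_of_exact (S.subtype.restrictScalars A) (S.mkQ.restrictScalars A)
        S.injective_subtype S.mkQ_surjective (LinearMap.exact_subtype_mkQ S)
    rw [h5, h4, length_simple A L S]
    push_cast
    ring

end restrict

section norm

variable (κ κ₁ κ₂ : Type*) [Field κ] [Field κ₁] [Field κ₂] [Algebra κ κ₁] [Algebra κ₁ κ₂]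
  [Algebra κ κ₂] [IsScalarTower κ κ₁ κ₂]

theorem norm_algebraMap_tower (x : κ₁) :
    Algebra.norm κ (algebraMap κ₁ κ₂ x) = Algebra.norm κ x ^ Module.finrank κ₁ κ₂ := by
  rw [← Algebra.norm_norm (S := κ₁), Algebra.norm_algebraMap, map_pow]

end norm

section nzd

theorem mem_nonZeroDivisors_of_localization {B : Type*} [CommRing B] (b : B)
    (h : ∀ (q : Ideal B) [q.IsMaximal], algebraMap B (Localization.AtPrime q) b ∈
      nonZeroDivisors (Localization.AtPrime q)) : b ∈ nonZeroDivisors B := by
  rw [mem_nonZeroDivisors_iff_right]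
  intro y hy
  apply eq_zero_of_localization
  intro q hq
  have h1 := h q
  rw [mem_nonZeroDivisors_iff_right] at h1
  apply h1
  rw [← map_mul, hy, map_zero]

end nzd

section tame

open CycAlg

variable {A : Type u} [CommRing A] [IsLocalRing A] {a₁ a₂ : A}

/-- the residue symbol `(-1)^{e₁e₂} ū₁^{e₂} ū₂^{-e₁}` at a maximal ideal -/
noncomputable def sym (D : TameData A a₁ a₂) (q : MaximalSpectrum D.B) :
    ResidueField (Localization.AtPrime q.asIdeal) :=
  (-1 : ResidueField (Localization.AtPrime q.asIdeal)) ^ (D.e₁ q * D.e₂ q) *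
    residue (Localization.AtPrime q.asIdeal) (D.u₁ q : Localization.AtPrime q.asIdeal) ^ D.e₂ q *
    (residue (Localization.AtPrime q.asIdeal) (D.u₂ q : Localization.AtPrime q.asIdeal) ^ D.e₁ q)⁻¹

theorem localFactor_eq (D : TameData A a₁ a₂) (q : MaximalSpectrum D.B) :
    D.localFactor q =
      (haveI := D.isLocalHom q
       Algebra.norm (ResidueField A) (sym D q)) ^
        (Ring.ord (Localization.AtPrime q.asIdeal) (D.π q)).toNat := rfl

theorem sym_ne_zero (D : TameData A a₁ a₂) (q : MaximalSpectrum D.B) : sym D q ≠ 0 := by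
  unfold sym
  have h1 : residue (Localization.AtPrime q.asIdeal) (D.u₁ q : Localization.AtPrime q.asIdeal) ≠ 0 := by
    intro h
    rw [residue_eq_zero_iff] at h
    exact h (D.u₁ q).isUnit
  have h2 : residue (Localization.AtPrime q.asIdeal) (D.u₂ q : Localization.AtPrime q.asIdeal) ≠ 0 := by
    intro h
    rw [residue_eq_zero_iff] at h
    exact h (D.u₂ q).isUnit
  have h3 : (-1 : ResidueField (Localization.AtPrime q.asIdeal)) ≠ 0 := by simp
  exact mul_ne_zero (mul_ne_zero (pow_ne_zero _ h3) (pow_ne_zero _ h1))
    (inv_ne_zero (pow_ne_zero _ h2))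

/-- if both elements are units at `q`, the local factor is `1`. -/
theorem localFactor_eq_one_of_isUnit (D : TameData A a₁ a₂) (q : MaximalSpectrum D.B)
    (h₁ : IsUnit (algebraMap A (Localization.AtPrime q.asIdeal) a₁))
    (h₂ : IsUnit (algebraMap A (Localization.AtPrime q.asIdeal) a₂)) :
    D.localFactor q = 1 := by
  rw [localFactor_eq]
  by_cases hπ : IsUnit (D.π q)
  · rw [Ring.ord_of_isUnit hπ]
    simp
  · have he : ∀ (u : (Localization.AtPrime q.asIdeal)ˣ) (e : ℕ),
        IsUnit ((u : Localization.AtPrime q.asIdeal) * D.π q ^ e) → e = 0 := by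
      intro u e hu
      by_contra he
      apply hπ
      have h3 : IsUnit (D.π q ^ e) := by
        have := (u⁻¹).isUnit.mul hu
        rwa [← mul_assoc, Units.inv_mul, one_mul] at this
      exact (isUnit_pow_iff he).mp h3
    have he1 : D.e₁ q = 0 := he (D.u₁ q) _ (by rw [← D.fac₁ q]; exact h₁)
    have he2 : D.e₂ q = 0 := he (D.u₂ q) _ (by rw [← D.fac₂ q]; exact h₂)
    have hs : sym D q = 1 := by
      unfold sym
      rw [he1, he2]
      simp
    rw [hs]
    simp

end tame

end Groth.Agent.Lib.Helper26.TameH
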