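import Mathlib
import Groth.Agent.Lib.Helper26.TameH

set_option autoImplicit false
set_option linter.style.haveILetI false
set_option linter.unusedSectionVars false

namespace Groth.Agent.Lib.Helper26.TameK1

open Function IsLocalRing
open Groth.Agent.Lib.Helper26.TameH

universe u

section resfin

variable {A : Type u} [CommRing A] [IsLocalRing A] {B : Type u} [CommRing B] [Algebra A B]
  [Module.Finite A B] (q : Ideal B) [q.IsMaximal]

/-- `B → κ(q)` is surjective for a maximal ideal `q`. -/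
theorem residue_algebraMap_surjective :
    Surjective (fun x : B => residue (Localization.AtPrime q) (algebraMap B (Localization.AtPrime q) x)) := by
  intro y
  let e := IsLocalization.AtPrime.equivQuotMaximalIdeal q (Localization.AtPrime q)
  let y' : Localization.AtPrime q ⧸ maximalIdeal (Localization.AtPrime q) := y
  obtain ⟨x, hx⟩ := Ideal.Quotient.mk_surjective (e.symm y')
  refine ⟨x, ?_⟩
  have h1 : e (Ideal.Quotient.mk q x) = y' := by rw [hx, RingEquiv.apply_symm_apply]
  exact h1

variable [IsLocalHom (algebraMap A (Localization.AtPrime q))]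

theorem finite_residueField :
    Module.Finite (ResidueField A) (ResidueField (Localization.AtPrime q)) := by
  let ρ : B →ₐ[A] ResidueField (Localization.AtPrime q) :=
    (IsScalarTower.toAlgHom A (Localization.AtPrime q) (ResidueField (Localization.AtPrime q))).comp
      (IsScalarTower.toAlgHom A B (Localization.AtPrime q))
  have hρ : Surjective ρ := residue_algebraMap_surjective q
  haveI : Module.Finite A (ResidueField (Localization.AtPrime q)) :=
    Module.Finite.of_surjective ρ.toLinearMap hρ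
  exact Module.Finite.of_restrictScalars_finite A _ _

end resfin

section lam

variable {A : Type u} [CommRing A] [IsLocalRing A] (L : Type u) [CommRing L] [IsLocalRing L]
  [Algebra A L] [IsLocalHom (algebraMap A L)]

theorem length_residueField [Module.Finite (ResidueField A) (ResidueField L)] :
    Module.length A (ResidueField L) = (Module.finrank (ResidueField A) (ResidueField L) : ℕ∞) := by
  rw [Module.length_eq_of_surjective (S := A) (R := ResidueField A) (M := ResidueField L)
    (IsLocalRing.residue_surjective), Module.length_eq_finrank]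

/-- `A`-length of `L/x` in terms of the order and the residue degree -/
theorem length_quot_eq_mul [Module.Finite (ResidueField A) (ResidueField L)] (x : L)
    (hx : Ring.ord L x ≠ ⊤) :
    Module.length A (L ⧸ Ideal.span {x}) =
      ((Ring.ord L x).toNat * Module.finrank (ResidueField A) (ResidueField L) : ℕ) := by
  have h1 := length_restrict A L (Ring.ord L x).toNat (L ⧸ Ideal.span {x})
    (by rw [ENat.natCast_toNat hx]; rfl)
  rw [h1, length_residueField]
  push_cast
  rfl

end lam

section symb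

variable {L L'' : Type u} [CommRing L] [IsLocalRing L] [CommRing L''] [IsLocalRing L'']
  (φ : L →+* L'') [IsLocalHom φ]

theorem neg_one_pow_sq_mul {F : Type*} [Field F] (c E : ℕ) :
    (-1 : F) ^ (c * c * E) = (-1 : F) ^ (c * E) := by
  rcases Nat.even_or_odd c with hc | hc
  · rw [Even.neg_one_pow (Even.mul_right (Even.mul_right hc c) E),
      Even.neg_one_pow (Even.mul_right hc E)]
  · rw [pow_mul, pow_mul (-1 : F) c E, Odd.neg_one_pow (hc.mul hc), Odd.neg_one_pow hc]

/-- exponent and unit comparison under a refinement `φ π = w θ^c` -/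
theorem exp_unit_compat (π : L) (w : L''ˣ) (θ : L'') (hθ : θ ∈ nonZeroDivisors L'') (c : ℕ)
    (hord0 : Ring.ord L'' θ ≠ 0) (hordt : Ring.ord L'' θ ≠ ⊤) (hπ : φ π = w * θ ^ c)
    (u : Lˣ) (e : ℕ) (v : L''ˣ) (f : ℕ) (h : φ (u * π ^ e) = v * θ ^ f) :
    f = c * e ∧ (v : L'') = φ u * (w : L'') ^ e := by
  have hu : IsUnit (φ u * (w : L'') ^ e) := (u.isUnit.map φ).mul (w.isUnit.pow e)
  have h1 : (v : L'') * θ ^ f = (φ u * (w : L'') ^ e) * θ ^ (c * e) := by
    rw [← h, map_mul, map_pow, hπ, mul_pow, ← pow_mul]; ring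
  have h2 := congrArg (Ring.ord L'') h1
  rw [Ring.ord_mul_of_isUnit_left v.isUnit, Ring.ord_mul_of_isUnit_left hu, Ring.ord_pow hθ,
    Ring.ord_pow hθ] at h2
  obtain ⟨k, hk⟩ := ENat.ne_top_iff_exists.mp hordt
  rw [← hk] at h2 hord0
  have hk0 : k ≠ 0 := by
    intro h0; apply hord0; rw [h0]; rfl
  have h3 : f * k = c * e * k := by
    rw [nsmul_eq_mul, nsmul_eq_mul] at h2
    exact_mod_cast h2
  have hf : f = c * e := Nat.eq_of_mul_eq_mul_right (Nat.pos_of_ne_zero hk0) h3
  refine ⟨hf, ?_⟩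
  rw [hf] at h1
  exact (mul_cancel_right_mem_nonZeroDivisors (pow_mem hθ _)).mp h1

theorem symbol_compat (π : L) (w : L''ˣ) (θ : L'') (hθ : θ ∈ nonZeroDivisors L'') (c : ℕ)
    (hord0 : Ring.ord L'' θ ≠ 0) (hordt : Ring.ord L'' θ ≠ ⊤) (hπ : φ π = w * θ ^ c)
    (u₁ u₂ : Lˣ) (e₁ e₂ : ℕ) (v₁ v₂ : L''ˣ) (f₁ f₂ : ℕ)
    (h₁ : φ (u₁ * π ^ e₁) = v₁ * θ ^ f₁) (h₂ : φ (u₂ * π ^ e₂) = v₂ * θ ^ f₂) :
    (-1 : ResidueField L'') ^ (f₁ * f₂) * residue L'' (v₁ : L'') ^ f₂ *
        (residue L'' (v₂ : L'') ^ f₁)⁻¹ =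
      (ResidueField.map φ ((-1 : ResidueField L) ^ (e₁ * e₂) * residue L (u₁ : L) ^ e₂ *
        (residue L (u₂ : L) ^ e₁)⁻¹)) ^ c := by
  obtain ⟨hf₁, hv₁⟩ := exp_unit_compat φ π w θ hθ c hord0 hordt hπ u₁ e₁ v₁ f₁ h₁
  obtain ⟨hf₂, hv₂⟩ := exp_unit_compat φ π w θ hθ c hord0 hordt hπ u₂ e₂ v₂ f₂ h₂
  rw [hv₁, hv₂, hf₁, hf₂]
  simp only [map_mul, map_pow, map_inv₀, map_neg, map_one, ResidueField.map_residue]
  set x := residue L'' (φ (u₁ : L)) with hx
  set y := residue L'' (φ (u₂ : L)) with hy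
  set z := residue L'' (w : L'') with hz
  have hx0 : x ≠ 0 := by
    intro h0
    rw [hx, residue_eq_zero_iff] at h0
    exact h0 (u₁.isUnit.map φ)
  have hy0 : y ≠ 0 := by
    intro h0
    rw [hy, residue_eq_zero_iff] at h0
    exact h0 (u₂.isUnit.map φ)
  have hz0 : z ≠ 0 := by
    intro h0
    rw [hz, residue_eq_zero_iff] at h0
    exact h0 w.isUnit
  have hsign : (-1 : ResidueField L'') ^ (c * e₁ * (c * e₂)) =
      ((-1 : ResidueField L'') ^ (e₁ * e₂)) ^ c := by
    rw [← pow_mul, show c * e₁ * (c * e₂) = c * c * (e₁ * e₂) by ring, neg_one_pow_sq_mul,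
      mul_comm c]
  rw [hsign]
  simp only [mul_pow, inv_pow, mul_inv, ← pow_mul]
  field_simp
  ring

end symb

end Groth.Agent.Lib.Helper26.TameK1
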