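import Mathlib
import Groth.Agent.Lib.Helper26.TameK1
import Groth.Agent.Lib.Helper26.TameI
import Groth.Agent.Lib.Helper26.TameJ
import Groth.Agent.Lib.Helper26.TameE

set_option autoImplicit false
set_option linter.style.haveILetI false
set_option linter.unusedSectionVars false

namespace Groth.Agent.Lib.Helper26.TameK2

open Function IsLocalRing CycAlg
open Groth.Agent.Lib.Helper26.TameH Groth.Agent.Lib.Helper26.TameK1 Groth.Agent.Lib.Helper26.TameI
  Groth.Agent.Lib.Helper26.TameJ Groth.Agent.Lib.Helper26.TameD

universe u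

section basics

variable {A : Type u} [CommRing A] [IsLocalRing A] {a₁ a₂ : A}

theorem finite (D : TameData A a₁ a₂) : Module.Finite A D.B := D.isFinExt.2.1

variable (D D'' : TameData A a₁ a₂) (j : D.B →ₐ[A] D''.B)

theorem isIntegral_hom : (j : D.B →+* D''.B).IsIntegral := by
  haveI := finite D''
  haveI : Algebra.IsIntegral A D''.B := Algebra.IsIntegral.of_finite A D''.B
  apply RingHom.IsIntegral.tower_top (algebraMap A D.B) (j : D.B →+* D''.B)
  have : (j : D.B →+* D''.B).comp (algebraMap A D.B) = algebraMap A D''.B := j.comp_algebraMap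
  rw [this]
  exact algebraMap_isIntegral_iff.mpr inferInstance

/-- the maximal ideal of `D.B` below a maximal ideal of `D''.B` -/
noncomputable def cm (q'' : MaximalSpectrum D''.B) : MaximalSpectrum D.B :=
  ⟨q''.asIdeal.comap (j : D.B →+* D''.B),
    haveI := q''.isMaximal
    Ideal.isMaximal_comap_of_isIntegral_of_isMaximal' _ (isIntegral_hom D D'' j) q''.asIdeal⟩

/-- the induced local homomorphism between the local rings -/
noncomputable def φ (q'' : MaximalSpectrum D''.B) :
    Localization.AtPrime (cm D D'' j q'').asIdeal →+* Localization.AtPrime q''.asIdeal :=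
  Localization.localRingHom (cm D D'' j q'').asIdeal q''.asIdeal (j : D.B →+* D''.B) rfl

instance (q'' : MaximalSpectrum D''.B) : IsLocalHom (φ D D'' j q'') :=
  Localization.isLocalHom_localRingHom _ _ _ rfl

theorem φ_algebraMap (q'' : MaximalSpectrum D''.B) (x : D.B) :
    φ D D'' j q'' (algebraMap D.B _ x) = algebraMap D''.B _ (j x) :=
  Localization.localRingHom_to_map _ _ _ rfl x

theorem φ_algebraMap_A (q'' : MaximalSpectrum D''.B) (a : A) :
    φ D D'' j q'' (algebraMap A _ a) = algebraMap A _ a := by
  rw [IsScalarTower.algebraMap_apply A D.B, φ_algebraMap, AlgHom.commutes,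
    ← IsScalarTower.algebraMap_apply]

end basics

section tower

variable {A : Type u} [CommRing A] [IsLocalRing A] {a₁ a₂ : A}
variable (D D'' : TameData A a₁ a₂) (j : D.B →ₐ[A] D''.B) (q'' : MaximalSpectrum D''.B)

/-- the residue field extension `κ(q) → κ(q'')` -/
@[instance_reducible]
noncomputable def resAlg :
    Algebra (ResidueField (Localization.AtPrime (cm D D'' j q'').asIdeal))
      (ResidueField (Localization.AtPrime q''.asIdeal)) :=
  (ResidueField.map (φ D D'' j q'')).toAlgebra

theorem tower :
    haveI := D.isLocalHom (cm D D'' j q'')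
    haveI := D''.isLocalHom q''
    letI := resAlg D D'' j q''
    IsScalarTower (ResidueField A) (ResidueField (Localization.AtPrime (cm D D'' j q'').asIdeal))
      (ResidueField (Localization.AtPrime q''.asIdeal)) := by
  haveI := D.isLocalHom (cm D D'' j q'')
  haveI := D''.isLocalHom q''
  letI := resAlg D D'' j q''
  apply IsScalarTower.of_algebraMap_eq
  intro x
  obtain ⟨a, rfl⟩ := IsLocalRing.residue_surjective x
  show ResidueField.map (algebraMap A _) (residue A a) =
    ResidueField.map (φ D D'' j q'') (ResidueField.map (algebraMap A _) (residue A a))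
  rw [ResidueField.map_residue, ResidueField.map_residue, ResidueField.map_residue,
    φ_algebraMap_A]

/-- the residue degree `[κ(q'') : κ(q)]` -/
noncomputable def deg : ℕ :=
  letI := resAlg D D'' j q''
  Module.finrank (ResidueField (Localization.AtPrime (cm D D'' j q'').asIdeal))
    (ResidueField (Localization.AtPrime q''.asIdeal))

theorem norm_map (s : ResidueField (Localization.AtPrime (cm D D'' j q'').asIdeal)) :
    (haveI := D''.isLocalHom q''
     Algebra.norm (ResidueField A) (ResidueField.map (φ D D'' j q'') s)) =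
    (haveI := D.isLocalHom (cm D D'' j q'')
     Algebra.norm (ResidueField A) s) ^ deg D D'' j q'' := by
  haveI := D.isLocalHom (cm D D'' j q'')
  haveI := D''.isLocalHom q''
  letI := resAlg D D'' j q''
  haveI := tower D D'' j q''
  exact norm_algebraMap_tower (ResidueField A)
    (ResidueField (Localization.AtPrime (cm D D'' j q'').asIdeal))
    (ResidueField (Localization.AtPrime q''.asIdeal)) s

theorem finrank_tower :
    (haveI := D''.isLocalHom q''
     Module.finrank (ResidueField A) (ResidueField (Localization.AtPrime q''.asIdeal))) =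
    (haveI := D.isLocalHom (cm D D'' j q'')
     Module.finrank (ResidueField A)
      (ResidueField (Localization.AtPrime (cm D D'' j q'').asIdeal))) * deg D D'' j q'' := by
  haveI := D.isLocalHom (cm D D'' j q'')
  haveI := D''.isLocalHom q''
  letI := resAlg D D'' j q''
  haveI := tower D D'' j q''
  exact (Module.finrank_mul_finrank (ResidueField A)
    (ResidueField (Localization.AtPrime (cm D D'' j q'').asIdeal))
    (ResidueField (Localization.AtPrime q''.asIdeal))).symm

end tower

section claimA

variable {A : Type u} [CommRing A] [IsLocalRing A] {a₁ a₂ : A}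

/-- the normed symbol to a power -/
noncomputable def F (D : TameData A a₁ a₂) (q : MaximalSpectrum D.B) (k : ℕ) : ResidueField A :=
  (haveI := D.isLocalHom q
   Algebra.norm (ResidueField A) (sym D q)) ^ k

theorem localFactor_eq_F (D : TameData A a₁ a₂) (q : MaximalSpectrum D.B) :
    D.localFactor q = F D q (Ring.ord (Localization.AtPrime q.asIdeal) (D.π q)).toNat := rfl

theorem F_add (D : TameData A a₁ a₂) (q : MaximalSpectrum D.B) (k l : ℕ) :
    F D q (k + l) = F D q k * F D q l := pow_add _ _ _

theorem F_zero (D : TameData A a₁ a₂) (q : MaximalSpectrum D.B) : F D q 0 = 1 := pow_zero _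

theorem sym_eq_one_of_isUnit (D : TameData A a₁ a₂) (q : MaximalSpectrum D.B)
    (h₁ : IsUnit (algebraMap A (Localization.AtPrime q.asIdeal) a₁))
    (h₂ : IsUnit (algebraMap A (Localization.AtPrime q.asIdeal) a₂))
    (hπ : ¬ IsUnit (D.π q)) : sym D q = 1 := by
  have he : ∀ (u : (Localization.AtPrime q.asIdeal)ˣ) (e : ℕ),
      IsUnit ((u : Localization.AtPrime q.asIdeal) * D.π q ^ e) → e = 0 := by
    intro u e hu
    by_contra he
    apply hπ
    have h3 : IsUnit (D.π q ^ e) := by
      have := (u⁻¹).isUnit.mul hu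
      rwa [← mul_assoc, Units.inv_mul, one_mul] at this
    exact (isUnit_pow_iff he).mp h3
  have he1 : D.e₁ q = 0 := he (D.u₁ q) _ (by rw [← D.fac₁ q]; exact h₁)
  have he2 : D.e₂ q = 0 := he (D.u₂ q) _ (by rw [← D.fac₂ q]; exact h₂)
  unfold sym
  rw [he1, he2]
  simp

variable (D D'' : TameData A a₁ a₂) (j : D.B →ₐ[A] D''.B) (q'' : MaximalSpectrum D''.B)

/-- the exponent at `q''` -/
noncomputable def g : ℕ :=
  deg D D'' j q'' * (Ring.ord (Localization.AtPrime q''.asIdeal)
    (φ D D'' j q'' (D.π (cm D D'' j q'')))).toNat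

theorem claimA
    (h : (IsUnit (algebraMap A (Localization.AtPrime (cm D D'' j q'').asIdeal) a₁) ∧
        IsUnit (algebraMap A (Localization.AtPrime (cm D D'' j q'').asIdeal) a₂)) ∨
      ∃ (w : (Localization.AtPrime q''.asIdeal)ˣ) (c : ℕ),
        φ D D'' j q'' (D.π (cm D D'' j q'')) = (w : Localization.AtPrime q''.asIdeal) * D''.π q'' ^ c) :
    D''.localFactor q'' = F D (cm D D'' j q'') (g D D'' j q'') := by
  rcases h with ⟨h₁, h₂⟩ | ⟨w, c, hc⟩
  · have h₁' : IsUnit (algebraMap A (Localization.AtPrime q''.asIdeal) a₁) := by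
      rw [← φ_algebraMap_A D D'' j q'']; exact h₁.map _
    have h₂' : IsUnit (algebraMap A (Localization.AtPrime q''.asIdeal) a₂) := by
      rw [← φ_algebraMap_A D D'' j q'']; exact h₂.map _
    rw [localFactor_eq_one_of_isUnit D'' q'' h₁' h₂']
    by_cases hπ : IsUnit (D.π (cm D D'' j q''))
    · have : g D D'' j q'' = 0 := by
        unfold g
        rw [Ring.ord_of_isUnit (hπ.map (φ D D'' j q''))]
        simp
      rw [this, F_zero]
    · unfold F
      rw [sym_eq_one_of_isUnit D _ h₁ h₂ hπ]
      simp
  · have hθ := D''.π_mem q''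
    have hordφ : Ring.ord (Localization.AtPrime q''.asIdeal) (φ D D'' j q'' (D.π (cm D D'' j q''))) =
        c • Ring.ord (Localization.AtPrime q''.asIdeal) (D''.π q'') := by
      rw [hc, Ring.ord_mul_of_isUnit_left w.isUnit, Ring.ord_pow hθ]
    by_cases hdeg : Ring.ord (Localization.AtPrime q''.asIdeal) (D''.π q'') = 0 ∨
        Ring.ord (Localization.AtPrime q''.asIdeal) (D''.π q'') = ⊤
    · have hg : g D D'' j q'' = 0 := by
        unfold g
        rw [hordφ]
        rcases hdeg with h0 | h0
        · rw [h0]; simp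
        · rw [h0]
          rcases Nat.eq_zero_or_pos c with hc0 | hc0
          · rw [hc0]; simp
          · have : c • (⊤ : ℕ∞) = ⊤ := by
              rw [nsmul_eq_mul]
              exact ENat.mul_top (by exact_mod_cast hc0.ne')
            rw [this]; simp
      rw [hg, F_zero, TameH.localFactor_eq]
      rcases hdeg with h0 | h0
      · rw [h0]; simp
      · rw [h0]; simp
    · push Not at hdeg
      obtain ⟨hord0, hordt⟩ := hdeg
      have h₁ : φ D D'' j q'' ((D.u₁ (cm D D'' j q'') : Localization.AtPrime _) *
          D.π (cm D D'' j q'') ^ D.e₁ (cm D D'' j q'')) =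
          (D''.u₁ q'' : Localization.AtPrime _) * D''.π q'' ^ D''.e₁ q'' := by
        rw [← D.fac₁, φ_algebraMap_A, D''.fac₁]
      have h₂ : φ D D'' j q'' ((D.u₂ (cm D D'' j q'') : Localization.AtPrime _) *
          D.π (cm D D'' j q'') ^ D.e₂ (cm D D'' j q'')) =
          (D''.u₂ q'' : Localization.AtPrime _) * D''.π q'' ^ D''.e₂ q'' := by
        rw [← D.fac₂, φ_algebraMap_A, D''.fac₂]
      have hsym : sym D'' q'' = (ResidueField.map (φ D D'' j q'') (sym D (cm D D'' j q''))) ^ c :=
        symbol_compat (φ D D'' j q'') _ w _ hθ c hord0 hordt hc _ _ _ _ _ _ _ _ h₁ h₂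
      rw [TameH.localFactor_eq, hsym, map_pow, norm_map, ← pow_mul, ← pow_mul]
      unfold F g
      congr 1
      rw [hordφ]
      obtain ⟨k, hk⟩ := ENat.ne_top_iff_exists.mp hordt
      rw [← hk]
      have : (c • (k : ℕ∞)).toNat = c * k := by
        rw [nsmul_eq_mul]
        have : ((c : ℕ∞) * (k : ℕ∞)) = ((c * k : ℕ) : ℕ∞) := by push_cast; rfl
        rw [this, ENat.toNat_natCast]
      rw [this, ENat.toNat_natCast]

end claimA

end Groth.Agent.Lib.Helper26.TameK2
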