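import Mathlib
import Groth.Agent.Lib.Helper26.TameK2

set_option autoImplicit false
set_option linter.style.haveILetI false
set_option linter.unusedSectionVars false

namespace Groth.Agent.Lib.Helper26.TameK3

open Function IsLocalRing CycAlg
open Groth.Agent.Lib.Helper26.TameH Groth.Agent.Lib.Helper26.TameK1 Groth.Agent.Lib.Helper26.TameI
  Groth.Agent.Lib.Helper26.TameJ Groth.Agent.Lib.Helper26.TameD Groth.Agent.Lib.Helper26.TameK2

universe u

section prelim

variable {A : Type u} [CommRing A] [IsNoetherianRing A] [IsLocalRing A]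
variable {B : Type u} [CommRing B] [Algebra A B] [Module.Finite A B]

theorem isFiniteLength_quot_of_mem (hA : ringKrullDim A = 1) {a : A} (ha : a ∈ nonZeroDivisors A)
    (b : B) (hab : algebraMap A B a ∈ Ideal.span {b}) :
    IsFiniteLength A (B ⧸ Ideal.span {b}) := by
  haveI : Module.Finite A (B ⧸ (Ideal.span {b})) :=
    Module.Finite.of_surjective (Ideal.Quotient.mkₐ A (Ideal.span {b})).toLinearMap
      (Ideal.Quotient.mkₐ_surjective A _)
  apply Groth.Agent.Lib.Helper12.OneDim.isFiniteLength_of_smul_eq_zero hA ha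
  intro x
  obtain ⟨y, rfl⟩ := Ideal.Quotient.mk_surjective x
  rw [← Ideal.Quotient.mkₐ_eq_mk A, ← map_smul, Ideal.Quotient.mkₐ_eq_mk,
    Ideal.Quotient.eq_zero_iff_mem, Algebra.smul_def]
  exact Ideal.mul_mem_right _ _ hab

theorem isArtinian_quot_of_mem (hA : ringKrullDim A = 1) {a : A} (ha : a ∈ nonZeroDivisors A)
    (b : B) (hab : algebraMap A B a ∈ Ideal.span {b}) :
    IsArtinian B (B ⧸ Ideal.span {b}) := by
  have hfl := isFiniteLength_quot_of_mem hA ha b hab
  haveI : IsArtinian A (B ⧸ (Ideal.span {b})) :=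
    (isFiniteLength_iff_isNoetherian_isArtinian.mp hfl).2
  exact isArtinian_of_tower A inferInstance

end prelim

section crt

variable {B : Type u} [CommRing B] [Fintype (MaximalSpectrum B)]

/-- lift an element of the local ring at `q`, up to a unit, to an element of `B` which is a unit
at all other maximal ideals. -/
theorem exists_lift_unit (q : MaximalSpectrum B) (x : Localization.AtPrime q.asIdeal) (n : ℕ)
    (hn : (q.asIdeal ^ n).map (algebraMap B (Localization.AtPrime q.asIdeal)) ≤ Ideal.span {x}) :
    ∃ (b : B) (v : (Localization.AtPrime q.asIdeal)ˣ),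
      algebraMap B (Localization.AtPrime q.asIdeal) b = x * v ∧
      ∀ q' : MaximalSpectrum B, q' ≠ q → b ∉ q'.asIdeal := by
  classical
  let L := Localization.AtPrime q.asIdeal
  obtain ⟨b₀, s, hx⟩ := IsLocalization.exists_mk'_eq q.asIdeal.primeCompl x
  let J : MaximalSpectrum B → Ideal B := fun q' => if q' = q then q.asIdeal ^ (n + 1) else q'.asIdeal
  have hcop : Pairwise fun i j : MaximalSpectrum B => IsCoprime (J i) (J j) := by
    intro i j hij
    haveI := i.isMaximal
    haveI := j.isMaximal
    have h0 : IsCoprime i.asIdeal j.asIdeal :=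
      Ideal.isCoprime_of_isMaximal (MaximalSpectrum.ext_iff.ne.mp hij)
    by_cases hi : i = q
    · have hj : j ≠ q := fun h => hij (hi.trans h.symm)
      simp only [J, if_pos hi, if_neg hj]
      rw [← hi]
      exact h0.pow_left
    · by_cases hj : j = q
      · simp only [J, if_neg hi, if_pos hj]
        rw [← hj]
        exact h0.pow_right
      · simp only [J, if_neg hi, if_neg hj]
        exact h0
  obtain ⟨c, hc⟩ := Ideal.exists_forall_sub_mem_ideal hcop
    (fun q' => if q' = q then 0 else 1 - b₀)
  have hcq : c ∈ q.asIdeal ^ (n + 1) := by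
    have := hc q
    simpa [J] using this
  have hcq' : ∀ q' : MaximalSpectrum B, q' ≠ q → c - (1 - b₀) ∈ q'.asIdeal := by
    intro q' hq'
    have := hc q'
    simpa [J, hq'] using this
  -- the image of c lies in x * maximal ideal
  have hcx : algebraMap B L c ∈ Ideal.span {x} * maximalIdeal L := by
    have h1 : (q.asIdeal ^ (n + 1)).map (algebraMap B L) ≤ Ideal.span {x} * maximalIdeal L := by
      rw [pow_succ, Ideal.map_mul]
      apply Ideal.mul_mono hn
      rw [IsLocalization.AtPrime.map_eq_maximalIdeal q.asIdeal L]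
    exact h1 (Ideal.mem_map_of_mem _ hcq)
  obtain ⟨z, hz, hzc⟩ := Ideal.mem_span_singleton_mul.mp hcx
  have hsu : IsUnit (algebraMap B L (s : B)) := IsLocalization.map_units L s
  have hv : IsUnit (algebraMap B L (s : B) + z) := by
    by_contra hnu
    have h1 : algebraMap B L (s : B) + z ∈ maximalIdeal L := (mem_maximalIdeal _).mpr hnu
    have h2 : algebraMap B L (s : B) ∈ maximalIdeal L := by
      have := Ideal.sub_mem _ h1 hz
      rwa [add_sub_cancel_right] at this
    exact ((mem_maximalIdeal _).mp h2) hsu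
  refine ⟨b₀ + c, hv.unit, ?_, ?_⟩
  · rw [map_add, ← hzc, IsUnit.unit_spec, mul_add]
    congr 1
    rw [← hx, IsLocalization.mk'_spec]
  · intro q' hq' hmem
    have h1 := hcq' q' hq'
    have h2 : (1 : B) ∈ q'.asIdeal := by
      have : (1 : B) = (b₀ + c) - (c - (1 - b₀)) := by ring
      rw [this]
      exact Ideal.sub_mem _ hmem h1
    exact q'.isMaximal.ne_top ((Ideal.eq_top_iff_one _).mpr h2)

end crt

section terms

variable {A : Type u} [CommRing A] {B : Type u} [CommRing B] [Algebra A B]

theorem ord_le_lengthA (L : Type u) [CommRing L] [Algebra A L] (x : L) :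
    Ring.ord L x ≤ Module.length A (L ⧸ Ideal.span {x}) := by
  have := Submodule.length_le_length_restrictScalars A (⊤ : Submodule L (L ⧸ Ideal.span {x}))
  rw [Module.length_top, Submodule.restrictScalars_top, Module.length_top] at this
  exact this

theorem length_eq_zero_of_notMem (b : B) (q : Ideal B) [q.IsPrime] (hb : b ∉ q) :
    Module.length A (Localization.AtPrime q ⧸
      Ideal.span {algebraMap B (Localization.AtPrime q) b}) = 0 := by
  rw [Module.length_eq_zero_iff, Submodule.Quotient.subsingleton_iff]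
  exact Ideal.span_singleton_eq_top.mpr
    (IsLocalization.map_units (Localization.AtPrime q) (⟨b, hb⟩ : q.primeCompl))

theorem mem_nonZeroDivisors_of_maximalSpectrum (b : B)
    (h : ∀ q : MaximalSpectrum B, algebraMap B (Localization.AtPrime q.asIdeal) b ∈
      nonZeroDivisors (Localization.AtPrime q.asIdeal)) : b ∈ nonZeroDivisors B :=
  mem_nonZeroDivisors_of_localization b (fun q hq => h ⟨q, hq⟩)

theorem mem_span_of_forall_maximalSpectrum (b x : B)
    (h : ∀ q : MaximalSpectrum B, algebraMap B (Localization.AtPrime q.asIdeal) x ∈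
      Ideal.span {algebraMap B (Localization.AtPrime q.asIdeal) b}) : x ∈ Ideal.span {b} :=
  mem_span_of_forall_mem_contr b x (fun q hq => h ⟨q, hq⟩)

end terms

section claimB

variable {A : Type u} [CommRing A] [IsNoetherianRing A] [IsLocalRing A] {a₁ a₂ : A}
variable (D D'' : TameData A a₁ a₂) (j : D.B →ₐ[A] D''.B)

/-- the residue degree over `κ` at a maximal ideal -/
noncomputable def dres (D : TameData A a₁ a₂) (q : MaximalSpectrum D.B) : ℕ :=
  haveI := D.isLocalHom q
  Module.finrank (ResidueField A) (ResidueField (Localization.AtPrime q.asIdeal))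

theorem dres_pos (D : TameData A a₁ a₂) (q : MaximalSpectrum D.B) : 0 < dres D q := by
  haveI := D.isLocalHom q
  haveI := finite D
  haveI := q.isMaximal
  haveI := finite_residueField (A := A) q.asIdeal
  exact Module.finrank_pos

theorem dres_tower (q'' : MaximalSpectrum D''.B) :
    dres D'' q'' = dres D (cm D D'' j q'') * deg D D'' j q'' := finrank_tower D D'' j q''

theorem lengthA_quot (D : TameData A a₁ a₂) (q : MaximalSpectrum D.B)
    (x : Localization.AtPrime q.asIdeal) (hx : Ring.ord (Localization.AtPrime q.asIdeal) x ≠ ⊤) :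
    Module.length A (Localization.AtPrime q.asIdeal ⧸ Ideal.span {x}) =
      ((Ring.ord (Localization.AtPrime q.asIdeal) x).toNat * dres D q : ℕ) := by
  haveI := D.isLocalHom q
  haveI := finite D
  haveI := q.isMaximal
  haveI := finite_residueField (A := A) q.asIdeal
  exact length_quot_eq_mul (Localization.AtPrime q.asIdeal) x hx

/-- transport of the unit-multiple relation to a maximal ideal above -/
theorem algebraMap_hom_eq (q'' : MaximalSpectrum D''.B) (q : MaximalSpectrum D.B)
    (h : cm D D'' j q'' = q) (b : D.B) (v : (Localization.AtPrime q.asIdeal)ˣ)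
    (hbv : algebraMap D.B (Localization.AtPrime q.asIdeal) b = D.π q * v) :
    ∃ v'' : (Localization.AtPrime q''.asIdeal)ˣ,
      algebraMap D''.B (Localization.AtPrime q''.asIdeal) (j b) =
        φ D D'' j q'' (D.π (cm D D'' j q'')) * v'' := by
  subst h
  refine ⟨(v.isUnit.map (φ D D'' j q'')).unit, ?_⟩
  rw [← φ_algebraMap, hbv, map_mul]
  rfl

theorem claimB (hA : ringKrullDim A = 1) [Fintype (MaximalSpectrum D''.B)]
    [DecidableEq (MaximalSpectrum D.B)]
    (q : MaximalSpectrum D.B) (a : A) (ha : a ∈ nonZeroDivisors A) (ham : a ∈ maximalIdeal A)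
    (haB : algebraMap A D.B a ∈ nonZeroDivisors D.B)
    (hdiv : D.π q ∣ algebraMap A (Localization.AtPrime q.asIdeal) a)
    (hnz : ∀ q'', cm D D'' j q'' = q → φ D D'' j q'' (D.π (cm D D'' j q'')) ∈
      nonZeroDivisors (Localization.AtPrime q''.asIdeal)) :
    ∑ q'' ∈ Finset.univ.filter (fun q'' => cm D D'' j q'' = q), g D D'' j q'' =
      (Ring.ord (Localization.AtPrime q.asIdeal) (D.π q)).toNat := by
  haveI := finite D
  haveI := finite D''
  haveI : IsNoetherianRing D.B := IsNoetherianRing.of_finite A D.B
  haveI : IsNoetherianRing D''.B := IsNoetherianRing.of_finite A D''.B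
  haveI : Finite (MaximalSpectrum D.B) := finite_maximalSpectrum A D.B
  haveI : Fintype (MaximalSpectrum D.B) := Fintype.ofFinite _
  -- Step 2
  haveI hArtA : IsArtinian D.B (D.B ⧸ Ideal.span {algebraMap A D.B a}) :=
    isArtinian_quot_of_mem hA ha _ (Ideal.mem_span_singleton_self _)
  haveI := q.isMaximal
  obtain ⟨n, hn⟩ := exists_pow_le_contr (algebraMap A D.B a) q.asIdeal
  have hn' : (q.asIdeal ^ n).map (algebraMap D.B (Localization.AtPrime q.asIdeal)) ≤
      Ideal.span {D.π q} := by
    rw [Ideal.map_le_iff_le_comap]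
    intro x hx
    have h1 := hn hx
    rw [contr, Ideal.mem_comap] at h1
    rw [Ideal.mem_comap]
    refine (Ideal.span_singleton_le_span_singleton.mpr ?_) h1
    rw [← IsScalarTower.algebraMap_apply]; exact hdiv
  obtain ⟨b, v, hbv, hbq⟩ := exists_lift_unit q (D.π q) n hn'
  -- Step 4
  have hbnzd : b ∈ nonZeroDivisors D.B := by
    apply mem_nonZeroDivisors_of_maximalSpectrum
    intro q'
    by_cases h : q' = q
    · subst h
      rw [hbv]; exact mul_mem (D.π_mem _) v.isUnit.mem_nonZeroDivisors
    · exact (IsLocalization.map_units _ (⟨b, hbq _ h⟩ : q'.asIdeal.primeCompl)).mem_nonZeroDivisors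
  have hjbnzd : j b ∈ nonZeroDivisors D''.B := by
    apply mem_nonZeroDivisors_of_maximalSpectrum
    intro q''
    by_cases h : cm D D'' j q'' = q
    · obtain ⟨v'', hv''⟩ := algebraMap_hom_eq D D'' j q'' q h b v hbv
      rw [hv'']
      exact mul_mem (hnz _ h) v''.isUnit.mem_nonZeroDivisors
    · have h1 : b ∉ (cm D D'' j q'').asIdeal := hbq _ h
      have h2 : j b ∉ q''.asIdeal := fun hm => h1 hm
      exact (IsLocalization.map_units _ (⟨j b, h2⟩ : q''.asIdeal.primeCompl)).mem_nonZeroDivisors
  -- Step 5
  have hab : algebraMap A D.B a ∈ Ideal.span {b} := by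
    apply mem_span_of_forall_maximalSpectrum
    intro q'
    by_cases h : q' = q
    · subst h
      rw [hbv, Ideal.span_singleton_mul_right_unit v.isUnit, Ideal.mem_span_singleton,
        ← IsScalarTower.algebraMap_apply]
      exact hdiv
    · rw [Ideal.span_singleton_eq_top.mpr
        (IsLocalization.map_units _ (⟨b, hbq _ h⟩ : q'.asIdeal.primeCompl))]
      trivial
  have hab'' : algebraMap A D''.B a ∈ Ideal.span {j b} := by
    obtain ⟨z, hz⟩ := Ideal.mem_span_singleton'.mp hab
    rw [← j.commutes, ← hz, map_mul]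
    exact Ideal.mul_mem_left _ _ (Ideal.mem_span_singleton_self _)
  haveI := isArtinian_quot_of_mem hA ha b hab
  haveI := isArtinian_quot_of_mem hA ha (j b) hab''
  have e1 := length_quot_eq_sum A b
  have e2 := length_quot_eq_sum A (j b)
  -- evaluate e1
  have hfinB : Module.length A (D.B ⧸ Ideal.span {b}) ≠ ⊤ :=
    Module.length_ne_top_iff.mpr (isFiniteLength_quot_of_mem hA ha b hab)
  have hfinB'' : Module.length A (D''.B ⧸ Ideal.span {j b}) ≠ ⊤ :=
    Module.length_ne_top_iff.mpr (isFiniteLength_quot_of_mem hA ha (j b) hab'')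
  have e1' : Module.length A (D.B ⧸ Ideal.span {b}) =
      Module.length A (Localization.AtPrime q.asIdeal ⧸ Ideal.span {D.π q}) := by
    rw [e1, Finset.sum_eq_single q]
    · rw [hbv, Ideal.span_singleton_mul_right_unit v.isUnit]
    · intro q' _ hq'
      exact length_eq_zero_of_notMem b q'.asIdeal (hbq q' hq')
    · intro h; exact absurd (Finset.mem_univ q) h
  have hordπ : Ring.ord (Localization.AtPrime q.asIdeal) (D.π q) ≠ ⊤ := by
    apply ne_top_of_le_ne_top hfinB
    rw [e1']
    exact ord_le_lengthA _ _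
  have e1'' := lengthA_quot D q (D.π q) hordπ
  -- evaluate e2
  have hterm : ∀ q'' : MaximalSpectrum D''.B, cm D D'' j q'' = q →
      Module.length A (Localization.AtPrime q''.asIdeal ⧸
        Ideal.span {algebraMap D''.B (Localization.AtPrime q''.asIdeal) (j b)}) =
      ((g D D'' j q'' * dres D q : ℕ) : ℕ∞) := by
    intro q'' h
    obtain ⟨v'', hv''⟩ := algebraMap_hom_eq D D'' j q'' q h b v hbv
    rw [hv'', Ideal.span_singleton_mul_right_unit v''.isUnit]
    have hfin'' : Ring.ord (Localization.AtPrime q''.asIdeal)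
        (φ D D'' j q'' (D.π (cm D D'' j q''))) ≠ ⊤ := by
      apply ne_top_of_le_ne_top hfinB''
      refine (ord_le_lengthA (A := A) _ _).trans ?_
      rw [e2]
      have h3 := Finset.single_le_sum (f := fun q'' : MaximalSpectrum D''.B =>
        Module.length A (Localization.AtPrime q''.asIdeal ⧸
          Ideal.span {algebraMap D''.B (Localization.AtPrime q''.asIdeal) (j b)}))
        (fun _ _ => zero_le) (Finset.mem_univ q'')
      refine le_trans (le_of_eq ?_) h3
      show _ = Module.length A (Localization.AtPrime q''.asIdeal ⧸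
          Ideal.span {algebraMap D''.B (Localization.AtPrime q''.asIdeal) (j b)})
      rw [hv'', Ideal.span_singleton_mul_right_unit v''.isUnit]
    have hd : dres D (cm D D'' j q'') = dres D q := by rw [h]
    rw [lengthA_quot D'' q'' _ hfin'', dres_tower D D'' j q'', hd]
    unfold g
    congr 1
    ring
  have e2' : Module.length A (D''.B ⧸ Ideal.span {j b}) =
      (((∑ q'' ∈ Finset.univ.filter (fun q'' => cm D D'' j q'' = q), g D D'' j q'') *
        dres D q : ℕ) : ℕ∞) := by
    rw [e2, Finset.sum_mul, Nat.cast_sum]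
    rw [← Finset.sum_filter_of_ne (p := fun q'' => cm D D'' j q'' = q)]
    · apply Finset.sum_congr rfl
      intro q'' hq''
      exact hterm q'' (Finset.mem_filter.mp hq'').2
    · intro q'' _ hne
      by_contra h
      apply hne
      have h1 : b ∉ (cm D D'' j q'').asIdeal := hbq _ h
      have h2 : j b ∉ q''.asIdeal := fun hm => h1 hm
      exact length_eq_zero_of_notMem (j b) q''.asIdeal h2
  -- Step 11
  have hj : Injective j := by
    rw [injective_iff_map_eq_zero]
    intro x hx
    obtain ⟨_, _, N, hN⟩ := D.isFinExt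
    have h1 : a ^ N ∈ maximalIdeal A ^ N := Ideal.pow_mem_pow ham N
    obtain ⟨y, hy⟩ := hN _ h1 x
    have h2 : algebraMap A D''.B y = 0 := by
      rw [← j.commutes, hy, map_smul, hx, smul_zero]
    have h3 : y = 0 := by
      have hinj := D''.isFinExt.1
      exact hinj (by rw [h2, map_zero])
    rw [h3, map_zero] at hy
    have h4 : algebraMap A D.B (a ^ N) * x = 0 := by
      rw [← Algebra.smul_def]; exact hy.symm
    have h5 : algebraMap A D.B (a ^ N) ∈ nonZeroDivisors D.B := by
      rw [map_pow]; exact pow_mem haB N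
    exact (mem_nonZeroDivisors_iff_left.mp h5) x h4
  have hfin : Module.length A (D''.B ⧸ LinearMap.range j.toLinearMap) ≠ ⊤ := by
    rw [Module.length_ne_top_iff]
    obtain ⟨_, _, N, hN⟩ := D''.isFinExt
    apply Groth.Agent.Lib.Helper12.OneDim.isFiniteLength_of_smul_eq_zero hA (pow_mem ha N)
    intro x
    obtain ⟨x, rfl⟩ := Submodule.mkQ_surjective _ x
    rw [← map_smul, Submodule.mkQ_apply, Submodule.Quotient.mk_eq_zero]
    have h1 : a ^ N ∈ maximalIdeal A ^ N := Ideal.pow_mem_pow ham N
    obtain ⟨y, hy⟩ := hN _ h1 x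
    refine ⟨algebraMap A D.B y, ?_⟩
    rw [AlgHom.toLinearMap_apply, j.commutes, hy]
  have e3 := length_quot_span_eq A j hj b hjbnzd hfin
  rw [e1', e1'', e2'] at e3
  have e4 : (Ring.ord (Localization.AtPrime q.asIdeal) (D.π q)).toNat * dres D q =
      (∑ q'' ∈ Finset.univ.filter (fun q'' => cm D D'' j q'' = q), g D D'' j q'') * dres D q := by
    exact_mod_cast e3
  exact (Nat.eq_of_mul_eq_mul_right (dres_pos D q) e4).symm

end claimB

end Groth.Agent.Lib.Helper26.TameK3
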