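import Mathlib
import Groth.Agent.Lib.Helper26.TameK3

set_option autoImplicit false
set_option linter.style.haveILetI false
set_option linter.unusedSectionVars false

namespace Groth.Agent.Lib.Helper26.TameK4

open Function IsLocalRing CycAlg
open Groth.Agent.Lib.Helper26.TameH Groth.Agent.Lib.Helper26.TameK1 Groth.Agent.Lib.Helper26.TameI
  Groth.Agent.Lib.Helper26.TameJ Groth.Agent.Lib.Helper26.TameD Groth.Agent.Lib.Helper26.TameK2
  Groth.Agent.Lib.Helper26.TameK3

universe u

variable {A : Type u} [CommRing A] [IsNoetherianRing A] [IsLocalRing A] {a₁ a₂ : A}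

theorem algebraMap_mem_nonZeroDivisors₁ (D : TameData A a₁ a₂) :
    algebraMap A D.B a₁ ∈ nonZeroDivisors D.B := by
  apply mem_nonZeroDivisors_of_maximalSpectrum
  intro q
  rw [← IsScalarTower.algebraMap_apply, D.fac₁ q]
  exact mul_mem (D.u₁ q).isUnit.mem_nonZeroDivisors (pow_mem (D.π_mem q) _)

theorem algebraMap_mem_nonZeroDivisors₂ (D : TameData A a₁ a₂) :
    algebraMap A D.B a₂ ∈ nonZeroDivisors D.B := by
  apply mem_nonZeroDivisors_of_maximalSpectrum
  intro q
  rw [← IsScalarTower.algebraMap_apply, D.fac₂ q]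
  exact mul_mem (D.u₂ q).isUnit.mem_nonZeroDivisors (pow_mem (D.π_mem q) _)

theorem mem_maximalIdeal_of_not_isUnit_algebraMap {L : Type u} [CommRing L] [Algebra A L] (a : A)
    (h : ¬ IsUnit (algebraMap A L a)) : a ∈ maximalIdeal A := by
  rw [mem_maximalIdeal, mem_nonunits_iff]
  intro hu
  exact h (hu.map _)

theorem dvd_of_not_isUnit {L : Type u} [CommRing L] (x π : L) (u : Lˣ) (e : ℕ)
    (hx : x = (u : L) * π ^ e) (h : ¬ IsUnit x) : π ∣ x := by
  rcases Nat.eq_zero_or_pos e with he | he
  · exfalso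
    apply h
    rw [hx, he, pow_zero, mul_one]
    exact u.isUnit
  · rw [hx]
    exact Dvd.dvd.mul_left (dvd_pow_self π he.ne') _

/-- **Comparison of tame data under refinement.** -/
theorem value_eq_of_refinement (hA : ringKrullDim A = 1) (h₁ : a₁ ∈ nonZeroDivisors A)
    (h₂ : a₂ ∈ nonZeroDivisors A) (D D'' : TameData A a₁ a₂) (j : D.B →ₐ[A] D''.B)
    (hcompat : ∀ q'' : MaximalSpectrum D''.B,
      ¬ (IsUnit (algebraMap A (Localization.AtPrime (cm D D'' j q'').asIdeal) a₁) ∧
        IsUnit (algebraMap A (Localization.AtPrime (cm D D'' j q'').asIdeal) a₂)) →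
      ∃ (w : (Localization.AtPrime q''.asIdeal)ˣ) (c : ℕ),
        φ D D'' j q'' (D.π (cm D D'' j q'')) =
          (w : Localization.AtPrime q''.asIdeal) * D''.π q'' ^ c) :
    D.value = D''.value := by
  classical
  haveI := finite D
  haveI := finite D''
  haveI : Finite (MaximalSpectrum D.B) := finite_maximalSpectrum A D.B
  haveI : Fintype (MaximalSpectrum D.B) := Fintype.ofFinite _
  haveI : Finite (MaximalSpectrum D''.B) := finite_maximalSpectrum A D''.B
  haveI : Fintype (MaximalSpectrum D''.B) := Fintype.ofFinite _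
  unfold TameData.value
  rw [finprod_eq_prod_of_fintype, finprod_eq_prod_of_fintype]
  have hA'' : ∀ q'' : MaximalSpectrum D''.B,
      D''.localFactor q'' = F D (cm D D'' j q'') (g D D'' j q'') := by
    intro q''
    apply claimA
    by_cases hu : IsUnit (algebraMap A (Localization.AtPrime (cm D D'' j q'').asIdeal) a₁) ∧
        IsUnit (algebraMap A (Localization.AtPrime (cm D D'' j q'').asIdeal) a₂)
    · exact Or.inl hu
    · exact Or.inr (hcompat q'' hu)
  rw [← Finset.prod_fiberwise Finset.univ (cm D D'' j) (fun q'' => D''.localFactor q'')]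
  apply Finset.prod_congr rfl
  intro q _
  have hfib : ∏ q'' ∈ Finset.univ.filter (fun q'' => cm D D'' j q'' = q), D''.localFactor q'' =
      F D q (∑ q'' ∈ Finset.univ.filter (fun q'' => cm D D'' j q'' = q), g D D'' j q'') := by
    unfold F
    rw [← Finset.prod_pow_eq_pow_sum]
    apply Finset.prod_congr rfl
    intro q'' hq''
    have h := (Finset.mem_filter.mp hq'').2
    rw [hA'' q'']
    unfold F
    have hs : ∀ q₁ q₂ : MaximalSpectrum D.B, q₁ = q₂ → ∀ k,
        F D q₁ k = F D q₂ k := by
      intro q₁ q₂ h12 k; rw [h12]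
    exact hs _ _ h _
  rw [hfib]
  by_cases hu : IsUnit (algebraMap A (Localization.AtPrime q.asIdeal) a₁) ∧
      IsUnit (algebraMap A (Localization.AtPrime q.asIdeal) a₂)
  · rw [localFactor_eq_one_of_isUnit D q hu.1 hu.2]
    by_cases hπ : IsUnit (D.π q)
    · have hz : ∑ q'' ∈ Finset.univ.filter (fun q'' => cm D D'' j q'' = q), g D D'' j q'' = 0 := by
        apply Finset.sum_eq_zero
        intro q'' hq''
        have h := (Finset.mem_filter.mp hq'').2
        subst h
        unfold g
        rw [Ring.ord_of_isUnit (hπ.map (φ D D'' j q''))]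
        simp
      rw [hz, F_zero]
    · unfold F
      rw [sym_eq_one_of_isUnit D q hu.1 hu.2 hπ]
      simp
  · -- the nontrivial case
    rw [localFactor_eq_F]
    congr 1
    symm
    have hnz : ∀ q'', cm D D'' j q'' = q → φ D D'' j q'' (D.π (cm D D'' j q'')) ∈
        nonZeroDivisors (Localization.AtPrime q''.asIdeal) := by
      intro q'' h
      have hu' : ¬ (IsUnit (algebraMap A (Localization.AtPrime (cm D D'' j q'').asIdeal) a₁) ∧
          IsUnit (algebraMap A (Localization.AtPrime (cm D D'' j q'').asIdeal) a₂)) := by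
        rw [h]; exact hu
      obtain ⟨w, c, hc⟩ := hcompat q'' hu'
      rw [hc]
      exact mul_mem w.isUnit.mem_nonZeroDivisors (pow_mem (D''.π_mem q'') _)
    rw [not_and_or] at hu
    rcases hu with hu | hu
    · exact claimB D D'' j hA q a₁ h₁ (mem_maximalIdeal_of_not_isUnit_algebraMap a₁ hu)
        (algebraMap_mem_nonZeroDivisors₁ D)
        (dvd_of_not_isUnit _ _ _ _ (D.fac₁ q) hu) hnz
    · exact claimB D D'' j hA q a₂ h₂ (mem_maximalIdeal_of_not_isUnit_algebraMap a₂ hu)
        (algebraMap_mem_nonZeroDivisors₂ D)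
        (dvd_of_not_isUnit _ _ _ _ (D.fac₂ q) hu) hnz

end Groth.Agent.Lib.Helper26.TameK4
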