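import Mathlib
import Groth.Agent.Lib.Helper26.TameK4
import Groth.Agent.Lib.Helper26.TameG

set_option autoImplicit false
set_option linter.style.haveILetI false
set_option linter.unusedSectionVars false

namespace Groth.Agent.Lib.Helper26.TameL

open Function IsLocalRing CycAlg
open Groth.Agent.Lib.Helper26.TameH Groth.Agent.Lib.Helper26.TameK1 Groth.Agent.Lib.Helper26.TameI
  Groth.Agent.Lib.Helper26.TameJ Groth.Agent.Lib.Helper26.TameD Groth.Agent.Lib.Helper26.TameK2
  Groth.Agent.Lib.Helper26.TameK3 Groth.Agent.Lib.Helper26.TameK4 Groth.Agent.Lib.Helper26.TameG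

universe u

section generic

/-- the local ring of a maximal ideal of an integral algebra over a local ring is local over it -/
theorem isLocalHom_of_integral {A B : Type*} [CommRing A] [IsLocalRing A] [CommRing B]
    [Algebra A B] [Algebra.IsIntegral A B] (q : Ideal B) [q.IsMaximal] :
    IsLocalHom (algebraMap A (Localization.AtPrime q)) := by
  constructor
  intro a ha
  by_contra hna
  have ham : a ∈ maximalIdeal A := hna
  have hmax : (q.comap (algebraMap A B)).IsMaximal :=
    Ideal.isMaximal_comap_of_isIntegral_of_isMaximal q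
  have heq : q.comap (algebraMap A B) = maximalIdeal A := IsLocalRing.eq_maximalIdeal hmax
  have hmem : algebraMap A B a ∈ q := by
    rw [← Ideal.mem_comap, heq]; exact ham
  rw [IsScalarTower.algebraMap_apply A B (Localization.AtPrime q)] at ha
  have := (IsLocalization.AtPrime.isUnit_to_map_iff (Localization.AtPrime q) q
    (algebraMap A B a)).mp ha
  exact this hmem

/-- an extension ring which becomes trivial after inverting a nonzerodivisor embeds in the total
ring of fractions -/
theorem exists_embedding {A : Type u} [CommRing A] (B : Type u) [CommRing B] [Algebra A B]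
    (K : Type u) [CommRing K] [Algebra A K] [IsFractionRing A K]
    (hinj : Function.Injective (algebraMap A B)) (s : A) (hs : s ∈ nonZeroDivisors A)
    (hsB : algebraMap A B s ∈ nonZeroDivisors B)
    (hrange : ∀ b : B, s • b ∈ (algebraMap A B).range) :
    ∃ ι : B →ₐ[A] K, Function.Injective ι ∧
      ∀ b : B, ∃ y : A, algebraMap A B y = s • b ∧ ι b * algebraMap A K s = algebraMap A K y := by
  have hx : ∀ b : B, ∃ y : A, algebraMap A B y = s • b := fun b => hrange b
  choose x hx using hx
  have hu : IsUnit (algebraMap A K s) := IsLocalization.map_units K (⟨s, hs⟩ : nonZeroDivisors A)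
  obtain ⟨c, hc⟩ := hu.exists_right_inv
  have hadd : ∀ b b', x (b + b') = x b + x b' := by
    intro b b'
    apply hinj
    rw [map_add, hx, hx, hx, smul_add]
  have hone : x 1 = s := by
    apply hinj
    rw [hx, Algebra.smul_def, mul_one]
  have hzero : x 0 = 0 := by
    apply hinj
    rw [hx, smul_zero, map_zero]
  have hmul : ∀ b b', x (b * b') * s = x b * x b' := by
    intro b b'
    apply hinj
    rw [map_mul, map_mul, hx, hx, hx, Algebra.smul_def, Algebra.smul_def, Algebra.smul_def]
    ring
  have halg : ∀ r : A, x (algebraMap A B r) = s * r := by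
    intro r
    apply hinj
    rw [hx, Algebra.smul_def, map_mul]
  let ι : B →ₐ[A] K :=
    { toFun := fun b => algebraMap A K (x b) * c
      map_one' := by
        show algebraMap A K (x 1) * c = 1
        rw [hone, hc]
      map_mul' := by
        intro b b'
        show algebraMap A K (x (b * b')) * c = algebraMap A K (x b) * c * (algebraMap A K (x b') * c)
        have h := congrArg (algebraMap A K) (hmul b b')
        rw [map_mul, map_mul] at h
        linear_combination (-(c * algebraMap A K (x (b * b')))) * hc + c ^ 2 * h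
      map_zero' := by
        show algebraMap A K (x 0) * c = 0
        rw [hzero, map_zero, zero_mul]
      map_add' := by
        intro b b'
        show algebraMap A K (x (b + b')) * c = algebraMap A K (x b) * c + algebraMap A K (x b') * c
        rw [hadd, map_add, add_mul]
      commutes' := by
        intro r
        show algebraMap A K (x (algebraMap A B r)) * c = algebraMap A K r
        rw [halg, map_mul]
        linear_combination algebraMap A K r * hc }
  have hι : ∀ b, ι b = algebraMap A K (x b) * c := fun b => rfl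
  refine ⟨ι, ?_, ?_⟩
  · rw [injective_iff_map_eq_zero]
    intro b hb
    rw [hι] at hb
    have h1 : algebraMap A K (x b) = 0 := by
      have : algebraMap A K (x b) = algebraMap A K (x b) * c * algebraMap A K s := by
        linear_combination (-(algebraMap A K (x b))) * hc
      rw [this, hb, zero_mul]
    have h2 : x b = 0 := by
      apply IsFractionRing.injective A K
      rw [h1, map_zero]
    have h3 : b * algebraMap A B s = 0 := by
      rw [mul_comm, ← Algebra.smul_def, ← hx, h2, map_zero]
    exact (mem_nonZeroDivisors_iff_right.mp hsB) b h3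
  · intro b
    refine ⟨x b, hx b, ?_⟩
    rw [hι]
    linear_combination algebraMap A K (x b) * hc

/-- an element whose product with a monomial is a monomial is a monomial -/
theorem monomial_of_mul_eq {L : Type*} [CommRing L] (π : L) (hπ : π ∈ nonZeroDivisors L) (z : L)
    (vx vy : Lˣ) (ex ey : ℕ) (h : z * ((vx : L) * π ^ ex) = (vy : L) * π ^ ey) :
    ∃ (w : Lˣ) (c : ℕ), z = (w : L) * π ^ c := by
  rcases le_total ex ey with hle | hle
  · obtain ⟨d, rfl⟩ := Nat.exists_eq_add_of_le hle
    refine ⟨vy * vx⁻¹, d, ?_⟩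
    have h1 : (z * (vx : L)) * π ^ ex = ((vy : L) * π ^ d) * π ^ ex := by
      rw [pow_add] at h
      linear_combination h
    have h2 := (mul_cancel_right_mem_nonZeroDivisors (pow_mem hπ ex)).mp h1
    rw [Units.val_mul]
    have h3 : (vx : L) * ((vx⁻¹ : Lˣ) : L) = 1 := Units.mul_inv vx
    linear_combination ((vx⁻¹ : Lˣ) : L) * h2 - z * h3
  · obtain ⟨d, rfl⟩ := Nat.exists_eq_add_of_le hle
    have h1 : (z * (vx : L) * π ^ d) * π ^ ey = (vy : L) * π ^ ey := by
      rw [pow_add] at h
      linear_combination h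
    have h2 := (mul_cancel_right_mem_nonZeroDivisors (pow_mem hπ ey)).mp h1
    have h3 : (vy : L) * ((vy⁻¹ : Lˣ) : L) = 1 := Units.mul_inv vy
    have hz : IsUnit z := by
      apply IsUnit.of_mul_eq_one ((vx : L) * π ^ d * ((vy⁻¹ : Lˣ) : L))
      linear_combination ((vy⁻¹ : Lˣ) : L) * h2 + h3
    refine ⟨hz.unit, 0, ?_⟩
    rw [pow_zero, mul_one]
    rfl

end generic

variable {A : Type u} [CommRing A] [IsNoetherianRing A] [IsLocalRing A]

/-- `exists_monomial` for a family indexed by a finite type -/
theorem exists_monomial' (hA : ringKrullDim A = 1) (K : Type u) [CommRing K] [Algebra A K]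
    [IsFractionRing A K] (T : Type*) [Finite T] (a : T → A) (ha : ∀ t, a t ∈ nonZeroDivisors A) :
    ∃ F : Finset K, (∀ f ∈ F, IsIntegral A f) ∧ ∀ B : Subalgebra A K, (↑F ⊆ (B : Set K)) →
      Module.Finite A B → ∀ q : Ideal B, ∀ [q.IsMaximal],
      ∃ π : Localization.AtPrime q, π ∈ nonZeroDivisors (Localization.AtPrime q) ∧
        ∀ t, ∃ (v : (Localization.AtPrime q)ˣ) (e : ℕ),
          algebraMap A (Localization.AtPrime q) (a t) = (v : Localization.AtPrime q) * π ^ e := by
  obtain ⟨n, ⟨e⟩⟩ := Finite.exists_equiv_fin T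
  obtain ⟨F, hF, h⟩ := exists_monomial hA K n (fun i => a (e.symm i)) (fun i => ha _)
  refine ⟨F, hF, ?_⟩
  intro B hFB hfin q hq
  obtain ⟨π, hπ, hmon⟩ := h B hFB hfin q
  refine ⟨π, hπ, ?_⟩
  intro t
  have := hmon (e t)
  rwa [Equiv.symm_apply_apply] at this


variable {a₁ a₂ : A}

/-- Existence of tame data on a finite subalgebra of the total ring of fractions containing a given
finite subalgebra, monomialising a given finite family of nonzerodivisors. -/
theorem exists_tameData (hA : ringKrullDim A = 1) (h₁ : a₁ ∈ nonZeroDivisors A)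
    (h₂ : a₂ ∈ nonZeroDivisors A) (K : Type u) [CommRing K] [Algebra A K] [IsFractionRing A K]
    (T : Type*) [Finite T] (fam : T → A) (hfam : ∀ t, fam t ∈ nonZeroDivisors A)
    (S : Subalgebra A K) [Module.Finite A S] :
    ∃ (D'' : TameData A a₁ a₂) (k : D''.B →ₐ[A] K), Function.Injective k ∧ S ≤ k.range ∧
      ∀ (q'' : MaximalSpectrum D''.B) (t : T),
        ∃ (v : (Localization.AtPrime q''.asIdeal)ˣ) (e : ℕ),
          algebraMap A (Localization.AtPrime q''.asIdeal) (fam t) =
            (v : Localization.AtPrime q''.asIdeal) * D''.π q'' ^ e := by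
  classical
  let fam' : Option (Option T) → A := fun o =>
    match o with
    | none => a₁
    | some none => a₂
    | some (some t) => fam t
  have hfam' : ∀ o, fam' o ∈ nonZeroDivisors A := by
    intro o
    match o with
    | none => exact h₁
    | some none => exact h₂
    | some (some t) => exact hfam t
  obtain ⟨F, hFint, h⟩ := exists_monomial' hA K (Option (Option T)) fam' hfam'
  let B'' : Subalgebra A K := Algebra.adjoin A (↑F : Set K) ⊔ S
  haveI : Module.Finite A (Algebra.adjoin A (↑F : Set K)) := finite_adjoin F hFint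
  haveI hfin : Module.Finite A B'' := Subalgebra.finite_sup _ _
  haveI : Algebra.IsIntegral A B'' := Algebra.IsIntegral.of_finite A B''
  have hF : (↑F : Set K) ⊆ (B'' : Set K) := fun f hf =>
    (le_sup_left : Algebra.adjoin A (↑F : Set K) ≤ B'') (Algebra.subset_adjoin hf)
  have key : ∀ q : MaximalSpectrum B'', ∃ π : Localization.AtPrime q.asIdeal,
      π ∈ nonZeroDivisors (Localization.AtPrime q.asIdeal) ∧
        ∀ o, ∃ (v : (Localization.AtPrime q.asIdeal)ˣ) (e : ℕ),
          algebraMap A (Localization.AtPrime q.asIdeal) (fam' o) =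
            (v : Localization.AtPrime q.asIdeal) * π ^ e := by
    intro q
    haveI := q.isMaximal
    exact h B'' hF hfin q.asIdeal
  choose π hπ hmon using key
  choose u₁ e₁ hfac₁ using fun q => hmon q none
  choose u₂ e₂ hfac₂ using fun q => hmon q (some none)
  refine ⟨{ B := B''
            isFinExt := isFinExt_of_finite hA B''
            isLocalHom := fun q => (haveI := q.isMaximal; isLocalHom_of_integral q.asIdeal)
            π := π
            π_mem := hπ
            u₁ := u₁
            u₂ := u₂
            e₁ := e₁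
            e₂ := e₂
            fac₁ := hfac₁
            fac₂ := hfac₂ }, B''.val, Subtype.val_injective, ?_, ?_⟩
  · rw [Subalgebra.range_val]
    exact le_sup_right
  · intro q'' t
    exact hmon q'' (some (some t))

/-- compatibility of the parameters from a relation in the bigger ring -/
theorem compat_of_relation (D D'' : TameData A a₁ a₂) (j : D.B →ₐ[A] D''.B)
    (q'' : MaximalSpectrum D''.B) (b : D.B)
    (v : (Localization.AtPrime (cm D D'' j q'').asIdeal)ˣ)
    (hbv : algebraMap D.B (Localization.AtPrime (cm D D'' j q'').asIdeal) b =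
      D.π (cm D D'' j q'') * v)
    (x y : A) (hxy : j b * algebraMap A D''.B x = algebraMap A D''.B y)
    (hx : ∃ (vx : (Localization.AtPrime q''.asIdeal)ˣ) (ex : ℕ),
      algebraMap A (Localization.AtPrime q''.asIdeal) x =
        (vx : Localization.AtPrime q''.asIdeal) * D''.π q'' ^ ex)
    (hy : ∃ (vy : (Localization.AtPrime q''.asIdeal)ˣ) (ey : ℕ),
      algebraMap A (Localization.AtPrime q''.asIdeal) y =
        (vy : Localization.AtPrime q''.asIdeal) * D''.π q'' ^ ey) :
    ∃ (w : (Localization.AtPrime q''.asIdeal)ˣ) (c : ℕ),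
      φ D D'' j q'' (D.π (cm D D'' j q'')) =
        (w : Localization.AtPrime q''.asIdeal) * D''.π q'' ^ c := by
  obtain ⟨vx, ex, hx⟩ := hx
  obtain ⟨vy, ey, hy⟩ := hy
  have h1 : algebraMap D''.B (Localization.AtPrime q''.asIdeal) (j b) *
      ((vx : Localization.AtPrime q''.asIdeal) * D''.π q'' ^ ex) =
      (vy : Localization.AtPrime q''.asIdeal) * D''.π q'' ^ ey := by
    rw [← hx, ← hy, IsScalarTower.algebraMap_apply A D''.B (Localization.AtPrime q''.asIdeal),
      IsScalarTower.algebraMap_apply A D''.B (Localization.AtPrime q''.asIdeal), ← map_mul, hxy]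
  obtain ⟨w, c, hw⟩ := monomial_of_mul_eq (D''.π q'') (D''.π_mem q'') _ vx vy ex ey h1
  rw [← φ_algebraMap, hbv, map_mul] at hw
  let v'' : (Localization.AtPrime q''.asIdeal)ˣ := (v.isUnit.map (φ D D'' j q'')).unit
  have hv'' : (v'' : Localization.AtPrime q''.asIdeal) =
      φ D D'' j q'' (v : Localization.AtPrime (cm D D'' j q'').asIdeal) := rfl
  refine ⟨w * v''⁻¹, c, ?_⟩
  rw [Units.val_mul]
  have h3 : (v'' : Localization.AtPrime q''.asIdeal) *
      ((v''⁻¹ : (Localization.AtPrime q''.asIdeal)ˣ) : Localization.AtPrime q''.asIdeal) = 1 :=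
    Units.mul_inv v''
  rw [← hv''] at hw
  linear_combination
    ((v''⁻¹ : (Localization.AtPrime q''.asIdeal)ˣ) : Localization.AtPrime q''.asIdeal) * hw -
      φ D D'' j q'' (D.π (cm D D'' j q'')) * h3


/-- a nonzerodivisor of `D.B` which is the parameter at `q` up to a unit -/
theorem exists_nzd_lift (hA : ringKrullDim A = 1) (D : TameData A a₁ a₂)
    (q : MaximalSpectrum D.B) (a : A) (ha : a ∈ nonZeroDivisors A)
    (hdiv : D.π q ∣ algebraMap A (Localization.AtPrime q.asIdeal) a) :
    ∃ (b : D.B) (v : (Localization.AtPrime q.asIdeal)ˣ), b ∈ nonZeroDivisors D.B ∧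
      algebraMap D.B (Localization.AtPrime q.asIdeal) b = D.π q * v := by
  classical
  haveI := finite D
  haveI : IsNoetherianRing D.B := IsNoetherianRing.of_finite A D.B
  haveI : Finite (MaximalSpectrum D.B) := finite_maximalSpectrum A D.B
  haveI : Fintype (MaximalSpectrum D.B) := Fintype.ofFinite _
  haveI hArtA : IsArtinian D.B (D.B ⧸ Ideal.span {algebraMap A D.B a}) :=
    isArtinian_quot_of_mem hA ha _ (Ideal.mem_span_singleton_self _)
  haveI := q.isMaximal
  obtain ⟨n, hn⟩ := exists_pow_le_contr (algebraMap A D.B a) q.asIdeal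
  have hn' : (q.asIdeal ^ n).map (algebraMap D.B (Localization.AtPrime q.asIdeal)) ≤
      Ideal.span {D.π q} := by
    rw [Ideal.map_le_iff_le_comap]
    intro x hx
    have h1 := hn hx
    rw [contr, Ideal.mem_comap] at h1
    rw [Ideal.mem_comap]
    refine (Ideal.span_singleton_le_span_singleton.mpr ?_) h1
    rw [← IsScalarTower.algebraMap_apply]; exact hdiv
  obtain ⟨b, v, hbv, hbq⟩ := exists_lift_unit q (D.π q) n hn'
  refine ⟨b, v, ?_, hbv⟩
  apply mem_nonZeroDivisors_of_maximalSpectrum
  intro q'
  by_cases h : q' = q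
  · subst h
    rw [hbv]; exact mul_mem (D.π_mem _) v.isUnit.mem_nonZeroDivisors
  · exact (IsLocalization.map_units _ (⟨b, hbq _ h⟩ : q'.asIdeal.primeCompl)).mem_nonZeroDivisors

/-- embedding of the ring of a tame datum in the total ring of fractions, with lifts of the
parameters written as fractions of nonzerodivisors -/
theorem exists_data (hA : ringKrullDim A = 1) (D : TameData A a₁ a₂) (K : Type u) [CommRing K]
    [Algebra A K] [IsFractionRing A K] (a : A) (ha : a ∈ nonZeroDivisors A)
    (ham : a ∈ maximalIdeal A) (haB : algebraMap A D.B a ∈ nonZeroDivisors D.B)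
    (hdiv : ∀ q : MaximalSpectrum D.B,
      D.π q ∣ algebraMap A (Localization.AtPrime q.asIdeal) a) :
    ∃ (ι : D.B →ₐ[A] K) (s : A) (b : MaximalSpectrum D.B → D.B)
      (v : ∀ q : MaximalSpectrum D.B, (Localization.AtPrime q.asIdeal)ˣ)
      (y : MaximalSpectrum D.B → A),
      Function.Injective ι ∧ s ∈ nonZeroDivisors A ∧ (∀ q, y q ∈ nonZeroDivisors A) ∧
      (∀ q, algebraMap D.B (Localization.AtPrime q.asIdeal) (b q) = D.π q * v q) ∧
      (∀ q, ι (b q) * algebraMap A K s = algebraMap A K (y q)) := by
  obtain ⟨hinj, hfin, n, hn⟩ := D.isFinExt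
  have hs : a ^ n ∈ nonZeroDivisors A := pow_mem ha n
  have hsB : algebraMap A D.B (a ^ n) ∈ nonZeroDivisors D.B := by
    rw [map_pow]; exact pow_mem haB n
  obtain ⟨ι, hι, hιy⟩ := exists_embedding D.B K hinj (a ^ n) hs hsB
    (fun b => hn (a ^ n) (Ideal.pow_mem_pow ham n) b)
  choose b v hb hbv using fun q => exists_nzd_lift hA D q a ha (hdiv q)
  choose y hy hrel using fun q => hιy (b q)
  refine ⟨ι, a ^ n, b, v, y, hι, hs, ?_, hbv, hrel⟩
  intro q
  rw [mem_nonZeroDivisors_iff_right]
  intro c hc
  apply hinj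
  rw [map_zero]
  have h1 : algebraMap A D.B (y q) ∈ nonZeroDivisors D.B := by
    rw [hy, Algebra.smul_def]
    exact mul_mem hsB (hb q)
  apply (mem_nonZeroDivisors_iff_right.mp h1)
  rw [← map_mul, hc, map_zero]

/-- the refinement hypothesis from the data of `exists_data` -/
theorem compat_of_data (D D'' : TameData A a₁ a₂) (K : Type u) [CommRing K]
    [Algebra A K] (ι : D.B →ₐ[A] K) (k : D''.B →ₐ[A] K) (hk : Function.Injective k)
    (hle : ι.range ≤ k.range) (s : A) (b : MaximalSpectrum D.B → D.B)
    (v : ∀ q : MaximalSpectrum D.B, (Localization.AtPrime q.asIdeal)ˣ)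
    (y : MaximalSpectrum D.B → A)
    (hbv : ∀ q, algebraMap D.B (Localization.AtPrime q.asIdeal) (b q) = D.π q * v q)
    (hrel : ∀ q, ι (b q) * algebraMap A K s = algebraMap A K (y q))
    (hs : ∀ q'' : MaximalSpectrum D''.B, ∃ (vx : (Localization.AtPrime q''.asIdeal)ˣ) (ex : ℕ),
      algebraMap A (Localization.AtPrime q''.asIdeal) s =
        (vx : Localization.AtPrime q''.asIdeal) * D''.π q'' ^ ex)
    (hy : ∀ (q'' : MaximalSpectrum D''.B) (q : MaximalSpectrum D.B),
      ∃ (vy : (Localization.AtPrime q''.asIdeal)ˣ) (ey : ℕ),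
      algebraMap A (Localization.AtPrime q''.asIdeal) (y q) =
        (vy : Localization.AtPrime q''.asIdeal) * D''.π q'' ^ ey) :
    ∃ j : D.B →ₐ[A] D''.B, ∀ q'' : MaximalSpectrum D''.B,
      ∃ (w : (Localization.AtPrime q''.asIdeal)ˣ) (c : ℕ),
        φ D D'' j q'' (D.π (cm D D'' j q'')) =
          (w : Localization.AtPrime q''.asIdeal) * D''.π q'' ^ c := by
  let j : D.B →ₐ[A] D''.B :=
    ((AlgEquiv.ofInjective k hk).symm : k.range →ₐ[A] D''.B).comp
      (ι.codRestrict k.range (fun b => hle ⟨b, rfl⟩))
  have hj : ∀ b, k (j b) = ι b := by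
    intro b
    have h1 : (AlgEquiv.ofInjective k hk) (j b) = ι.codRestrict k.range (fun b => hle ⟨b, rfl⟩) b :=
      (AlgEquiv.ofInjective k hk).apply_symm_apply _
    have h2 := congrArg Subtype.val h1
    rw [AlgEquiv.ofInjective_apply] at h2
    exact h2
  refine ⟨j, ?_⟩
  intro q''
  apply compat_of_relation D D'' j q'' (b (cm D D'' j q'')) (v (cm D D'' j q''))
    (hbv (cm D D'' j q'')) s (y (cm D D'' j q'')) ?_ (hs q'') (hy q'' _)
  apply hk
  rw [map_mul, hj, AlgHom.commutes, AlgHom.commutes]
  exact hrel _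

/-- **Independence of the tame symbol of the choice of tame data.** -/
theorem main_1847 (A : Type u) [CommRing A] [IsNoetherianRing A] [IsLocalRing A]
    (hA : ringKrullDim A = 1) (a₁ a₂ : A) (h₁ : a₁ ∈ nonZeroDivisors A)
    (h₂ : a₂ ∈ nonZeroDivisors A) (D D' : CycAlg.TameData A a₁ a₂) : D.value = D'.value := by
  classical
  by_cases hu : IsUnit a₁ ∧ IsUnit a₂
  · have hone : ∀ D : TameData A a₁ a₂, D.value = 1 := by
      intro D
      unfold TameData.value
      apply finprod_eq_one_of_forall_eq_one
      intro q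
      exact localFactor_eq_one_of_isUnit D q (hu.1.map _) (hu.2.map _)
    rw [hone D, hone D']
  · -- a non-unit among the two
    have hex : ∃ a : A, a ∈ nonZeroDivisors A ∧ a ∈ maximalIdeal A ∧
        (∀ D : TameData A a₁ a₂, algebraMap A D.B a ∈ nonZeroDivisors D.B) ∧
        (∀ (D : TameData A a₁ a₂) (q : MaximalSpectrum D.B),
          D.π q ∣ algebraMap A (Localization.AtPrime q.asIdeal) a) := by
      by_cases hu₁ : IsUnit a₁
      · have hu₂ : ¬ IsUnit a₂ := fun h => hu ⟨hu₁, h⟩
        refine ⟨a₂, h₂, hu₂, fun D => algebraMap_mem_nonZeroDivisors₂ D, ?_⟩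
        intro D q
        haveI := D.isLocalHom q
        exact dvd_of_not_isUnit _ _ (D.u₂ q) (D.e₂ q) (D.fac₂ q)
          (fun h => hu₂ (isUnit_of_map_unit _ _ h))
      · refine ⟨a₁, h₁, hu₁, fun D => algebraMap_mem_nonZeroDivisors₁ D, ?_⟩
        intro D q
        haveI := D.isLocalHom q
        exact dvd_of_not_isUnit _ _ (D.u₁ q) (D.e₁ q) (D.fac₁ q)
          (fun h => hu₁ (isUnit_of_map_unit _ _ h))
    obtain ⟨a, ha, ham, haB, hdiv⟩ := hex
    let K := FractionRing A
    obtain ⟨ι, s, b, v, y, hι, hs, hy, hbv, hrel⟩ :=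
      exists_data hA D K a ha ham (haB D) (hdiv D)
    obtain ⟨ι', s', b', v', y', hι', hs', hy', hbv', hrel'⟩ :=
      exists_data hA D' K a ha ham (haB D') (hdiv D')
    haveI := finite D
    haveI := finite D'
    haveI : Finite (MaximalSpectrum D.B) := finite_maximalSpectrum A D.B
    haveI : Finite (MaximalSpectrum D'.B) := finite_maximalSpectrum A D'.B
    let T := Bool ⊕ (MaximalSpectrum D.B ⊕ MaximalSpectrum D'.B)
    let fam : T → A := Sum.elim (fun c => if c then s else s') (Sum.elim y y')
    have hfam : ∀ t, fam t ∈ nonZeroDivisors A := by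
      intro t
      rcases t with c | q | q'
      · show (if c then s else s') ∈ nonZeroDivisors A
        split_ifs
        · exact hs
        · exact hs'
      · exact hy q
      · exact hy' q'
    haveI : Module.Finite A ι.range :=
      Module.Finite.of_surjective ι.rangeRestrict.toLinearMap ι.rangeRestrict_surjective
    haveI : Module.Finite A ι'.range :=
      Module.Finite.of_surjective ι'.rangeRestrict.toLinearMap ι'.rangeRestrict_surjective
    haveI : Module.Finite A (ι.range ⊔ ι'.range : Subalgebra A K) := Subalgebra.finite_sup _ _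
    obtain ⟨D'', k, hk, hS, hmon⟩ :=
      exists_tameData (a₁ := a₁) (a₂ := a₂) hA h₁ h₂ K T fam hfam (ι.range ⊔ ι'.range)
    obtain ⟨j, hj⟩ := compat_of_data D D'' K ι k hk (le_sup_left.trans hS) s b v y hbv hrel
      (fun q'' => hmon q'' (Sum.inl true)) (fun q'' q => hmon q'' (Sum.inr (Sum.inl q)))
    obtain ⟨j', hj'⟩ := compat_of_data D' D'' K ι' k hk (le_sup_right.trans hS) s' b' v' y' hbv'
      hrel' (fun q'' => hmon q'' (Sum.inl false)) (fun q'' q => hmon q'' (Sum.inr (Sum.inr q)))
    exact (value_eq_of_refinement hA h₁ h₂ D D'' j (fun q'' _ => hj q'')).trans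
      (value_eq_of_refinement hA h₁ h₂ D' D'' j' (fun q'' _ => hj' q'')).symm

end Groth.Agent.Lib.Helper26.TameL
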