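import Mathlib
import Groth.Agent.Lib.Helper26.TameL

set_option autoImplicit false
set_option linter.style.haveILetI false
set_option linter.unusedSectionVars false

namespace Groth.Agent.Lib.Helper26.TameM

open Function IsLocalRing CycAlg
open Groth.Agent.Lib.Helper26.TameH Groth.Agent.Lib.Helper26.TameK1 Groth.Agent.Lib.Helper26.TameI
  Groth.Agent.Lib.Helper26.TameJ Groth.Agent.Lib.Helper26.TameD Groth.Agent.Lib.Helper26.TameK2
  Groth.Agent.Lib.Helper26.TameK3 Groth.Agent.Lib.Helper26.TameK4 Groth.Agent.Lib.Helper26.TameG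
  Groth.Agent.Lib.Helper26.TameL

universe u

variable {A : Type u} [CommRing A] [IsNoetherianRing A] [IsLocalRing A]

/-- the tame symbol is computed by any tame datum -/
theorem tameSymbol_eq (hA : ringKrullDim A = 1) {a₁ a₂ : A} (h₁ : a₁ ∈ nonZeroDivisors A)
    (h₂ : a₂ ∈ nonZeroDivisors A) (D : TameData A a₁ a₂) : tameSymbol A a₁ a₂ = D.value := by
  unfold tameSymbol
  rw [dif_pos ⟨D⟩]
  exact main_1847 A hA a₁ a₂ h₁ h₂ _ _

section frame

variable {c₁ c₂ : A}

/-- a monomial expression of (the image of) `x` at all maximal ideals of the ring of `D₀` -/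
structure Mon (D₀ : TameData A c₁ c₂) (x : A) where
  u : (q : MaximalSpectrum D₀.B) → (Localization.AtPrime q.asIdeal)ˣ
  e : MaximalSpectrum D₀.B → ℕ
  fac : ∀ q, algebraMap A (Localization.AtPrime q.asIdeal) x =
    (u q : Localization.AtPrime q.asIdeal) * D₀.π q ^ e q

/-- tame data for a pair of elements with monomial expressions in a given frame -/
noncomputable def reframe (D₀ : TameData A c₁ c₂) {x₁ x₂ : A} (m₁ : Mon D₀ x₁) (m₂ : Mon D₀ x₂) :
    TameData A x₁ x₂ :=
  { B := D₀.B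
    isFinExt := D₀.isFinExt
    isLocalHom := D₀.isLocalHom
    π := D₀.π
    π_mem := D₀.π_mem
    u₁ := m₁.u
    u₂ := m₂.u
    e₁ := m₁.e
    e₂ := m₂.e
    fac₁ := m₁.fac
    fac₂ := m₂.fac }

/-- the local symbol in the residue field -/
noncomputable def symq (D₀ : TameData A c₁ c₂) {x₁ x₂ : A} (m₁ : Mon D₀ x₁) (m₂ : Mon D₀ x₂)
    (q : MaximalSpectrum D₀.B) : ResidueField (Localization.AtPrime q.asIdeal) :=
  (-1 : ResidueField (Localization.AtPrime q.asIdeal)) ^ (m₁.e q * m₂.e q) *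
    residue (Localization.AtPrime q.asIdeal) (m₁.u q : Localization.AtPrime q.asIdeal) ^ m₂.e q *
    (residue (Localization.AtPrime q.asIdeal) (m₂.u q : Localization.AtPrime q.asIdeal) ^ m₁.e q)⁻¹

/-- the exponent: the order of the parameter -/
noncomputable def ω (D₀ : TameData A c₁ c₂) (q : MaximalSpectrum D₀.B) : ℕ :=
  (Ring.ord (Localization.AtPrime q.asIdeal) (D₀.π q)).toNat

/-- the local factor -/
noncomputable def lf (D₀ : TameData A c₁ c₂) {x₁ x₂ : A} (m₁ : Mon D₀ x₁) (m₂ : Mon D₀ x₂)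
    (q : MaximalSpectrum D₀.B) : ResidueField A :=
  (haveI := D₀.isLocalHom q
   Algebra.norm (ResidueField A) (symq D₀ m₁ m₂ q)) ^ ω D₀ q

theorem value_reframe (D₀ : TameData A c₁ c₂) {x₁ x₂ : A} (m₁ : Mon D₀ x₁) (m₂ : Mon D₀ x₂) :
    (reframe D₀ m₁ m₂).value = ∏ᶠ q : MaximalSpectrum D₀.B, lf D₀ m₁ m₂ q := rfl

theorem tameSymbol_eq_prod (hA : ringKrullDim A = 1) (D₀ : TameData A c₁ c₂) {x₁ x₂ : A}
    (h₁ : x₁ ∈ nonZeroDivisors A) (h₂ : x₂ ∈ nonZeroDivisors A)
    (m₁ : Mon D₀ x₁) (m₂ : Mon D₀ x₂) :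
    tameSymbol A x₁ x₂ = ∏ᶠ q : MaximalSpectrum D₀.B, lf D₀ m₁ m₂ q := by
  rw [tameSymbol_eq hA h₁ h₂ (reframe D₀ m₁ m₂), value_reframe]

theorem finite_maxSpec (D₀ : TameData A c₁ c₂) : Finite (MaximalSpectrum D₀.B) := by
  haveI := finite D₀
  exact finite_maximalSpectrum A D₀.B

/-- product of monomial expressions -/
noncomputable def Mon.mul {D₀ : TameData A c₁ c₂} {x x' : A} (m : Mon D₀ x) (m' : Mon D₀ x') :
    Mon D₀ (x * x') where
  u q := m.u q * m'.u q
  e q := m.e q + m'.e q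
  fac q := by
    rw [map_mul, m.fac q, m'.fac q, Units.val_mul, pow_add]
    ring

/-- the monomial expression of a unit -/
noncomputable def Mon.ofUnit (D₀ : TameData A c₁ c₂) (c : Aˣ) : Mon D₀ (c : A) where
  u q := Units.map (algebraMap A (Localization.AtPrime q.asIdeal)).toMonoidHom c
  e _ := 0
  fac q := by
    rw [pow_zero, mul_one]
    rfl

theorem residue_unit_ne_zero {L : Type*} [CommRing L] [IsLocalRing L] (u : Lˣ) :
    residue L (u : L) ≠ 0 := by
  intro h
  rw [residue_eq_zero_iff] at h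
  exact h u.isUnit

theorem symq_mul_left (D₀ : TameData A c₁ c₂) {x x' y : A} (m : Mon D₀ x) (m' : Mon D₀ x')
    (n : Mon D₀ y) (q : MaximalSpectrum D₀.B) :
    symq D₀ (m.mul m') n q = symq D₀ m n q * symq D₀ m' n q := by
  unfold symq
  show (-1 : ResidueField (Localization.AtPrime q.asIdeal)) ^ ((m.e q + m'.e q) * n.e q) *
    residue (Localization.AtPrime q.asIdeal)
      ((m.u q * m'.u q : (Localization.AtPrime q.asIdeal)ˣ) : Localization.AtPrime q.asIdeal) ^ n.e q *
    (residue (Localization.AtPrime q.asIdeal) (n.u q : Localization.AtPrime q.asIdeal) ^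
      (m.e q + m'.e q))⁻¹ = _
  rw [Units.val_mul, map_mul, add_mul, pow_add, pow_add, mul_pow, mul_inv]
  ring

theorem symq_mul_right (D₀ : TameData A c₁ c₂) {x x' y : A} (m : Mon D₀ x) (m' : Mon D₀ x')
    (n : Mon D₀ y) (q : MaximalSpectrum D₀.B) :
    symq D₀ n (m.mul m') q = symq D₀ n m q * symq D₀ n m' q := by
  unfold symq
  show (-1 : ResidueField (Localization.AtPrime q.asIdeal)) ^ (n.e q * (m.e q + m'.e q)) *
    residue (Localization.AtPrime q.asIdeal) (n.u q : Localization.AtPrime q.asIdeal) ^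
      (m.e q + m'.e q) *
    (residue (Localization.AtPrime q.asIdeal)
      ((m.u q * m'.u q : (Localization.AtPrime q.asIdeal)ˣ) : Localization.AtPrime q.asIdeal) ^
        n.e q)⁻¹ = _
  rw [Units.val_mul, map_mul, mul_add, pow_add, pow_add, mul_pow, mul_inv]
  ring

theorem lf_mul_left (D₀ : TameData A c₁ c₂) {x x' y : A} (m : Mon D₀ x) (m' : Mon D₀ x')
    (n : Mon D₀ y) (q : MaximalSpectrum D₀.B) :
    lf D₀ (m.mul m') n q = lf D₀ m n q * lf D₀ m' n q := by
  unfold lf
  rw [symq_mul_left, map_mul, mul_pow]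

theorem lf_mul_right (D₀ : TameData A c₁ c₂) {x x' y : A} (m : Mon D₀ x) (m' : Mon D₀ x')
    (n : Mon D₀ y) (q : MaximalSpectrum D₀.B) :
    lf D₀ n (m.mul m') q = lf D₀ n m q * lf D₀ n m' q := by
  unfold lf
  rw [symq_mul_right, map_mul, mul_pow]

theorem symq_ne_zero (D₀ : TameData A c₁ c₂) {x₁ x₂ : A} (m₁ : Mon D₀ x₁) (m₂ : Mon D₀ x₂)
    (q : MaximalSpectrum D₀.B) : symq D₀ m₁ m₂ q ≠ 0 := by
  unfold symq
  refine mul_ne_zero (mul_ne_zero (pow_ne_zero _ (neg_ne_zero.mpr one_ne_zero))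
    (pow_ne_zero _ (residue_unit_ne_zero _))) (inv_ne_zero (pow_ne_zero _ (residue_unit_ne_zero _)))

theorem lf_ne_zero (D₀ : TameData A c₁ c₂) {x₁ x₂ : A} (m₁ : Mon D₀ x₁) (m₂ : Mon D₀ x₂)
    (q : MaximalSpectrum D₀.B) : lf D₀ m₁ m₂ q ≠ 0 := by
  unfold lf
  haveI := D₀.isLocalHom q
  haveI := finite D₀
  haveI := q.isMaximal
  haveI := finite_residueField (A := A) q.asIdeal
  exact pow_ne_zero _ (Algebra.norm_ne_zero_iff.mpr (symq_ne_zero D₀ m₁ m₂ q))

/-- existence of a common frame for a finite family of nonzerodivisors -/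
theorem exists_frame (hA : ringKrullDim A = 1) (T : Type*) [Finite T] (fam : T → A)
    (hfam : ∀ t, fam t ∈ nonZeroDivisors A) :
    ∃ D₀ : TameData A (1 : A) 1, Nonempty (∀ t, Mon D₀ (fam t)) := by
  obtain ⟨D₀, k, -, -, hmon⟩ := exists_tameData (a₁ := (1 : A)) (a₂ := (1 : A)) hA
    (one_mem _) (one_mem _) (FractionRing A) T fam hfam ⊥
  choose v e h using hmon
  exact ⟨D₀, ⟨fun t => ⟨fun q => v q t, fun q => e q t, fun q => h q t⟩⟩⟩

end frame


section localSteinberg

variable {L : Type*} [CommRing L] [IsLocalRing L]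

theorem exp_unit_of_eq (π : L) (hπ : π ∈ nonZeroDivisors L) (hπu : ¬ IsUnit π) (u w : L)
    (hu : IsUnit u) (hw : IsUnit w) (e f : ℕ) (h : u * π ^ e = w * π ^ f) : e = f ∧ u = w := by
  have key : ∀ (u w : L), IsUnit u → IsUnit w → ∀ e d : ℕ, u * π ^ e = w * π ^ (e + d) →
      d = 0 := by
    intro u w hu hw e d h
    by_contra hd
    apply hπu
    have h1 : u * π ^ e = (w * π ^ d) * π ^ e := by rw [h, pow_add]; ring
    have h2 := (mul_cancel_right_mem_nonZeroDivisors (pow_mem hπ e)).mp h1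
    have h3 : IsUnit (w * π ^ d) := h2 ▸ hu
    have h4 : IsUnit (π ^ d) := by
      obtain ⟨w', rfl⟩ := hw
      exact (Units.isUnit_units_mul w' _).mp h3
    exact (isUnit_pow_iff hd).mp h4
  rcases le_total e f with hle | hle
  · obtain ⟨d, rfl⟩ := Nat.exists_eq_add_of_le hle
    have hd := key u w hu hw e d h
    subst hd
    refine ⟨rfl, ?_⟩
    exact (mul_cancel_right_mem_nonZeroDivisors (pow_mem hπ e)).mp h
  · obtain ⟨d, rfl⟩ := Nat.exists_eq_add_of_le hle
    have hd := key w u hw hu f d h.symm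
    subst hd
    refine ⟨rfl, ?_⟩
    exact (mul_cancel_right_mem_nonZeroDivisors (pow_mem hπ f)).mp h

theorem residue_pi_eq_zero (π : L) (hπu : ¬ IsUnit π) : residue L π = 0 := by
  rw [residue_eq_zero_iff]
  exact hπu

theorem inv_neg_one_pow {k : Type*} [Field k] (n : ℕ) : ((-1 : k) ^ n)⁻¹ = (-1 : k) ^ n := by
  apply inv_eq_of_mul_eq_one_right
  rw [← mul_pow]
  simp

theorem neg_one_pow_mul_self {k : Type*} [Field k] (n : ℕ) : (-1 : k) ^ (n * n) = (-1 : k) ^ n := by
  have := neg_one_pow_sq_mul (F := k) n 1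
  simpa using this

theorem steinberg_local (π : L) (hπ : π ∈ nonZeroDivisors L) (hπu : ¬ IsUnit π)
    (ua ub uc : Lˣ) (α β γ : ℕ)
    (h : (uc : L) * π ^ γ = (ub : L) * π ^ β - (ua : L) * π ^ α) :
    ((-1 : ResidueField L) ^ (α * γ) * residue L (ua : L) ^ γ * (residue L (uc : L) ^ α)⁻¹) *
      ((-1 : ResidueField L) ^ (β * β) * residue L (ub : L) ^ β * (residue L (ub : L) ^ β)⁻¹) =
    ((-1 : ResidueField L) ^ (β * γ) * residue L (ub : L) ^ γ * (residue L (uc : L) ^ β)⁻¹) *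
      ((-1 : ResidueField L) ^ (α * β) * residue L (ua : L) ^ β * (residue L (ub : L) ^ α)⁻¹) := by
  have ha0 := residue_unit_ne_zero ua
  have hb0 := residue_unit_ne_zero ub
  have hc0 := residue_unit_ne_zero uc
  have hπ0 := residue_pi_eq_zero π hπu
  rcases lt_trichotomy α β with hlt | heq | hgt
  · -- α < β : γ = α and c̄ = -ā
    obtain ⟨d, rfl⟩ := Nat.exists_eq_add_of_lt hlt
    have hw : IsUnit ((ub : L) * π ^ (d + 1) - (ua : L)) := by
      rw [← residue_ne_zero_iff_isUnit, map_sub, map_mul, map_pow, hπ0, zero_pow (Nat.succ_ne_zero d),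
        mul_zero, zero_sub]
      exact neg_ne_zero.mpr ha0
    have h1 : (uc : L) * π ^ γ = ((ub : L) * π ^ (d + 1) - (ua : L)) * π ^ α := by
      rw [h, add_assoc, pow_add π α (d + 1)]; ring
    obtain ⟨hγ, huc⟩ := exp_unit_of_eq π hπ hπu _ _ uc.isUnit hw γ α h1
    subst hγ
    have hres : residue L (uc : L) = - residue L (ua : L) := by
      rw [huc, map_sub, map_mul, map_pow, hπ0, zero_pow (Nat.succ_ne_zero d), mul_zero, zero_sub]
    rw [hres]
    set a := residue L (ua : L) with ha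
    set b := residue L (ub : L) with hb
    have e1 : ∀ n : ℕ, ((-a) ^ n)⁻¹ = (-1 : ResidueField L) ^ n * (a ^ n)⁻¹ := by
      intro n
      rw [neg_pow a n, mul_inv, inv_neg_one_pow]
    rw [e1, e1, neg_one_pow_mul_self, neg_one_pow_mul_self]
    have e2 : ∀ n : ℕ, a ^ n * (a ^ n)⁻¹ = 1 := fun n => mul_inv_cancel₀ (pow_ne_zero n ha0)
    have e3 : ∀ n : ℕ, b ^ n * (b ^ n)⁻¹ = 1 := fun n => mul_inv_cancel₀ (pow_ne_zero n hb0)
    have e4 : ∀ n : ℕ, (-1 : ResidueField L) ^ n * (-1 : ResidueField L) ^ n = 1 := by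
      intro n; rw [← mul_pow]; simp
    have e5 : (-1 : ResidueField L) ^ ((γ + d + 1) * γ) = (-1 : ResidueField L) ^ (γ * (γ + d + 1)) := by
      rw [mul_comm]
    rw [e5]
    calc (-1 : ResidueField L) ^ γ * a ^ γ * ((-1 : ResidueField L) ^ γ * (a ^ γ)⁻¹) *
          ((-1 : ResidueField L) ^ (γ + d + 1) * b ^ (γ + d + 1) * (b ^ (γ + d + 1))⁻¹)
        = ((-1 : ResidueField L) ^ γ * (-1 : ResidueField L) ^ γ) * (a ^ γ * (a ^ γ)⁻¹) *
          (b ^ (γ + d + 1) * (b ^ (γ + d + 1))⁻¹) * (-1 : ResidueField L) ^ (γ + d + 1) := by ring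
      _ = (-1 : ResidueField L) ^ (γ + d + 1) := by rw [e4, e2, e3]; ring
      _ = ((-1 : ResidueField L) ^ (γ * (γ + d + 1)) * (-1 : ResidueField L) ^ (γ * (γ + d + 1))) *
          (b ^ γ * (b ^ γ)⁻¹) * (a ^ (γ + d + 1) * (a ^ (γ + d + 1))⁻¹) *
          (-1 : ResidueField L) ^ (γ + d + 1) := by rw [e4, e2, e3]; ring
      _ = _ := by ring
  · -- α = β
    subst heq
    rcases lt_trichotomy γ α with hlt | heq | hgt
    · exfalso
      obtain ⟨d, rfl⟩ := Nat.exists_eq_add_of_lt hlt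
      apply hπu
      have h1 : (uc : L) * π ^ γ = (((ub : L) - (ua : L)) * π ^ (d + 1)) * π ^ γ := by
        rw [h, add_assoc, pow_add π γ (d + 1)]; ring
      have h2 := (mul_cancel_right_mem_nonZeroDivisors (pow_mem hπ γ)).mp h1
      have h3 : IsUnit (((ub : L) - (ua : L)) * π ^ (d + 1)) := h2 ▸ uc.isUnit
      exact (isUnit_pow_iff (Nat.succ_ne_zero d)).mp (isUnit_of_mul_isUnit_right h3)
    · subst heq
      ring
    · obtain ⟨d, rfl⟩ := Nat.exists_eq_add_of_lt hgt
      have h1 : ((uc : L) * π ^ (d + 1)) * π ^ α = ((ub : L) - (ua : L)) * π ^ α := by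
        have : (uc : L) * π ^ (α + d + 1) = ((uc : L) * π ^ (d + 1)) * π ^ α := by
          rw [add_assoc, pow_add π α (d + 1)]; ring
        rw [← this, h]; ring
      have h2 := (mul_cancel_right_mem_nonZeroDivisors (pow_mem hπ α)).mp h1
      have hres : residue L (ub : L) = residue L (ua : L) := by
        have h3 := congrArg (residue L) h2
        rw [map_mul, map_pow, hπ0, zero_pow (Nat.succ_ne_zero d), mul_zero, map_sub] at h3
        exact (sub_eq_zero.mp h3.symm)
      rw [hres]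
  · -- β < α : γ = β and c̄ = b̄
    obtain ⟨d, rfl⟩ := Nat.exists_eq_add_of_lt hgt
    have hw : IsUnit ((ub : L) - (ua : L) * π ^ (d + 1)) := by
      rw [← residue_ne_zero_iff_isUnit, map_sub, map_mul, map_pow, hπ0, zero_pow (Nat.succ_ne_zero d),
        mul_zero, sub_zero]
      exact hb0
    have h1 : (uc : L) * π ^ γ = ((ub : L) - (ua : L) * π ^ (d + 1)) * π ^ β := by
      rw [h, add_assoc, pow_add π β (d + 1)]; ring
    obtain ⟨hγ, huc⟩ := exp_unit_of_eq π hπ hπu _ _ uc.isUnit hw γ β h1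
    subst hγ
    have hres : residue L (uc : L) = residue L (ub : L) := by
      rw [huc, map_sub, map_mul, map_pow, hπ0, zero_pow (Nat.succ_ne_zero d), mul_zero, sub_zero]
    rw [hres]
    ring

end localSteinberg


section laws

variable {c₁ c₂ : A}

theorem algebraMap_mem_nonZeroDivisors_of_mon (D₀ : TameData A c₁ c₂) {b : A} (m : Mon D₀ b) :
    algebraMap A D₀.B b ∈ nonZeroDivisors D₀.B := by
  apply mem_nonZeroDivisors_of_maximalSpectrum
  intro q
  rw [← IsScalarTower.algebraMap_apply, m.fac q]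
  exact mul_mem (m.u q).isUnit.mem_nonZeroDivisors (pow_mem (D₀.π_mem q) _)

/-- the length of `A/bA` in terms of the exponents of a monomial expression -/
theorem length_eq_sum (hA : ringKrullDim A = 1) (D₀ : TameData A c₁ c₂) {b : A}
    (hb : b ∈ nonZeroDivisors A) (hbu : ¬ IsUnit b) (m : Mon D₀ b)
    [Fintype (MaximalSpectrum D₀.B)] :
    (Module.length A (A ⧸ Ideal.span {b})).toNat =
      ∑ q : MaximalSpectrum D₀.B, m.e q * ω D₀ q * dres D₀ q := by
  classical
  haveI := finite D₀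
  haveI : IsNoetherianRing D₀.B := IsNoetherianRing.of_finite A D₀.B
  have hbB := algebraMap_mem_nonZeroDivisors_of_mon D₀ m
  have ham : b ∈ maximalIdeal A := hbu
  have hinj : Injective (Algebra.ofId A D₀.B) := D₀.isFinExt.1
  have hfin : Module.length A (D₀.B ⧸ LinearMap.range (Algebra.ofId A D₀.B).toLinearMap) ≠ ⊤ := by
    rw [Module.length_ne_top_iff]
    obtain ⟨_, _, N, hN⟩ := D₀.isFinExt
    apply Groth.Agent.Lib.Helper12.OneDim.isFiniteLength_of_smul_eq_zero hA (pow_mem hb N)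
    intro x
    obtain ⟨x, rfl⟩ := Submodule.mkQ_surjective _ x
    rw [← map_smul, Submodule.mkQ_apply, Submodule.Quotient.mk_eq_zero]
    have h1 : b ^ N ∈ maximalIdeal A ^ N := Ideal.pow_mem_pow ham N
    obtain ⟨y, hy⟩ := hN _ h1 x
    exact ⟨y, by rw [AlgHom.toLinearMap_apply, Algebra.ofId_apply, hy]⟩
  have e3 := length_quot_span_eq A (Algebra.ofId A D₀.B) hinj b hbB hfin
  rw [Algebra.ofId_apply] at e3
  haveI : IsArtinian D₀.B (D₀.B ⧸ Ideal.span {algebraMap A D₀.B b}) :=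
    isArtinian_quot_of_mem hA hb _ (Ideal.mem_span_singleton_self _)
  have e1 := length_quot_eq_sum A (algebraMap A D₀.B b)
  have hfinB : Module.length A (D₀.B ⧸ Ideal.span {algebraMap A D₀.B b}) ≠ ⊤ :=
    Module.length_ne_top_iff.mpr
      (isFiniteLength_quot_of_mem hA hb _ (Ideal.mem_span_singleton_self _))
  have hterm : ∀ q : MaximalSpectrum D₀.B,
      Module.length A (Localization.AtPrime q.asIdeal ⧸
        Ideal.span {algebraMap D₀.B (Localization.AtPrime q.asIdeal) (algebraMap A D₀.B b)}) =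
      ((m.e q * ω D₀ q * dres D₀ q : ℕ) : ℕ∞) := by
    intro q
    have hord : Ring.ord (Localization.AtPrime q.asIdeal)
        (algebraMap D₀.B (Localization.AtPrime q.asIdeal) (algebraMap A D₀.B b)) ≠ ⊤ := by
      apply ne_top_of_le_ne_top hfinB
      refine (ord_le_lengthA (A := A) _ _).trans ?_
      rw [e1]
      exact Finset.single_le_sum (f := fun q : MaximalSpectrum D₀.B =>
        Module.length A (Localization.AtPrime q.asIdeal ⧸
          Ideal.span {algebraMap D₀.B (Localization.AtPrime q.asIdeal) (algebraMap A D₀.B b)}))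
        (fun _ _ => zero_le) (Finset.mem_univ q)
    rw [lengthA_quot D₀ q _ hord]
    congr 2
    rw [← IsScalarTower.algebraMap_apply, m.fac q, Ring.ord_mul_of_isUnit_left (m.u q).isUnit,
      Ring.ord_pow (D₀.π_mem q), nsmul_eq_mul, ENat.toNat_mul, ENat.toNat_natCast]
    rfl
  rw [e3, e1, Finset.sum_congr rfl (fun q _ => hterm q), ← Nat.cast_sum, ENat.toNat_natCast]

theorem tameSymbol_eq_one_of_isUnit (hA : ringKrullDim A = 1) {x₁ x₂ : A}
    (hu₁ : IsUnit x₁) (hu₂ : IsUnit x₂) : tameSymbol A x₁ x₂ = 1 := by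
  have h₁ := hu₁.mem_nonZeroDivisors
  have h₂ := hu₂.mem_nonZeroDivisors
  obtain ⟨D, -, -, -, -⟩ := exists_tameData (a₁ := x₁) (a₂ := x₂) hA h₁ h₂ (FractionRing A)
    Empty (fun t => t.elim) (fun t => t.elim) ⊥
  rw [tameSymbol_eq hA h₁ h₂ D]
  unfold TameData.value
  apply finprod_eq_one_of_forall_eq_one
  intro q
  exact localFactor_eq_one_of_isUnit D q (hu₁.map _) (hu₂.map _)

theorem length_eq_zero_of_isUnit {b : A} (hb : IsUnit b) :
    (Module.length A (A ⧸ Ideal.span {b})).toNat = 0 := by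
  have : Module.length A (A ⧸ Ideal.span {b}) = 0 := by
    rw [Module.length_eq_zero_iff, Ideal.span_singleton_eq_top.mpr hb]
    exact Submodule.Quotient.subsingleton_iff.mpr rfl
  rw [this]
  rfl

theorem law_nonvanishing (hA : ringKrullDim A = 1) (a b : A) (ha : a ∈ nonZeroDivisors A)
    (hb : b ∈ nonZeroDivisors A) : tameSymbol A a b ≠ 0 := by
  classical
  obtain ⟨D₀, ⟨m⟩⟩ := exists_frame hA (Fin 2) ![a, b] (by
    intro t; fin_cases t
    · exact ha
    · exact hb)
  have ma : Mon D₀ a := m 0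
  have mb : Mon D₀ b := m 1
  rw [tameSymbol_eq_prod hA D₀ ha hb ma mb]
  haveI := finite_maxSpec D₀
  haveI : Fintype (MaximalSpectrum D₀.B) := Fintype.ofFinite _
  rw [finprod_eq_prod_of_fintype]
  exact Finset.prod_ne_zero_iff.mpr (fun q _ => lf_ne_zero D₀ ma mb q)

theorem law_mul (hA : ringKrullDim A = 1) (a a' b : A) (ha : a ∈ nonZeroDivisors A)
    (ha' : a' ∈ nonZeroDivisors A) (hb : b ∈ nonZeroDivisors A) :
    tameSymbol A (a * a') b = tameSymbol A a b * tameSymbol A a' b ∧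
      tameSymbol A b (a * a') = tameSymbol A b a * tameSymbol A b a' := by
  classical
  obtain ⟨D₀, ⟨m⟩⟩ := exists_frame hA (Fin 3) ![a, a', b] (by
    intro t; fin_cases t
    · exact ha
    · exact ha'
    · exact hb)
  have ma : Mon D₀ a := m 0
  have ma' : Mon D₀ a' := m 1
  have mb : Mon D₀ b := m 2
  haveI := finite_maxSpec D₀
  constructor
  · rw [tameSymbol_eq_prod hA D₀ (mul_mem ha ha') hb (ma.mul ma') mb,
      tameSymbol_eq_prod hA D₀ ha hb ma mb, tameSymbol_eq_prod hA D₀ ha' hb ma' mb,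
      ← finprod_mul_distrib (Set.toFinite _) (Set.toFinite _)]
    exact finprod_congr (fun q => lf_mul_left D₀ ma ma' mb q)
  · rw [tameSymbol_eq_prod hA D₀ hb (mul_mem ha ha') mb (ma.mul ma'),
      tameSymbol_eq_prod hA D₀ hb ha mb ma, tameSymbol_eq_prod hA D₀ hb ha' mb ma',
      ← finprod_mul_distrib (Set.toFinite _) (Set.toFinite _)]
    exact finprod_congr (fun q => lf_mul_right D₀ ma ma' mb q)


theorem lf_self (D₀ : TameData A c₁ c₂) {b : A} (m : Mon D₀ b) (q : MaximalSpectrum D₀.B) :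
    lf D₀ m m q = (-1 : ResidueField A) ^ (m.e q * ω D₀ q * dres D₀ q) := by
  haveI := D₀.isLocalHom q
  unfold lf
  have h1 : symq D₀ m m q =
      algebraMap (ResidueField A) (ResidueField (Localization.AtPrime q.asIdeal))
        ((-1 : ResidueField A) ^ m.e q) := by
    unfold symq
    rw [mul_assoc, mul_inv_cancel₀ (pow_ne_zero _ (residue_unit_ne_zero _)), mul_one,
      neg_one_pow_mul_self, map_pow, map_neg, map_one]
  rw [h1, Algebra.norm_algebraMap, ← pow_mul, ← pow_mul]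
  congr 1
  unfold dres
  ring

theorem lf_unit (D₀ : TameData A c₁ c₂) (c : Aˣ) {b : A} (m : Mon D₀ b)
    (q : MaximalSpectrum D₀.B) :
    lf D₀ (Mon.ofUnit D₀ c) m q = residue A (c : A) ^ (m.e q * ω D₀ q * dres D₀ q) := by
  haveI := D₀.isLocalHom q
  unfold lf
  have h1 : symq D₀ (Mon.ofUnit D₀ c) m q =
      algebraMap (ResidueField A) (ResidueField (Localization.AtPrime q.asIdeal))
        (residue A (c : A) ^ m.e q) := by
    unfold symq
    show (-1 : ResidueField (Localization.AtPrime q.asIdeal)) ^ (0 * m.e q) *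
      residue (Localization.AtPrime q.asIdeal)
        (algebraMap A (Localization.AtPrime q.asIdeal) (c : A)) ^ m.e q *
      (residue (Localization.AtPrime q.asIdeal) (m.u q : Localization.AtPrime q.asIdeal) ^ 0)⁻¹ = _
    rw [zero_mul, pow_zero, pow_zero, inv_one, mul_one, one_mul, map_pow]
    rfl
  rw [h1, Algebra.norm_algebraMap, ← pow_mul, ← pow_mul]
  congr 1
  unfold dres
  ring

theorem law_self (hA : ringKrullDim A = 1) (b : A) (hb : b ∈ nonZeroDivisors A) :
    tameSymbol A b b = (-1) ^ (Module.length A (A ⧸ Ideal.span {b})).toNat := by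
  classical
  by_cases hbu : IsUnit b
  · rw [tameSymbol_eq_one_of_isUnit hA hbu hbu, length_eq_zero_of_isUnit hbu, pow_zero]
  · obtain ⟨D₀, ⟨m⟩⟩ := exists_frame hA (Fin 1) ![b] (by
      intro t; fin_cases t
      exact hb)
    have mb : Mon D₀ b := m 0
    haveI := finite_maxSpec D₀
    haveI : Fintype (MaximalSpectrum D₀.B) := Fintype.ofFinite _
    rw [tameSymbol_eq_prod hA D₀ hb hb mb mb, finprod_eq_prod_of_fintype,
      length_eq_sum hA D₀ hb hbu mb, ← Finset.prod_pow_eq_pow_sum]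
    exact Finset.prod_congr rfl (fun q _ => lf_self D₀ mb q)

theorem law_unit (hA : ringKrullDim A = 1) (c : Aˣ) (b : A) (hb : b ∈ nonZeroDivisors A) :
    tameSymbol A (c : A) b =
      residue A (c : A) ^ (Module.length A (A ⧸ Ideal.span {b})).toNat := by
  classical
  by_cases hbu : IsUnit b
  · rw [tameSymbol_eq_one_of_isUnit hA c.isUnit hbu, length_eq_zero_of_isUnit hbu, pow_zero]
  · obtain ⟨D₀, ⟨m⟩⟩ := exists_frame hA (Fin 1) ![b] (by
      intro t; fin_cases t
      exact hb)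
    have mb : Mon D₀ b := m 0
    haveI := finite_maxSpec D₀
    haveI : Fintype (MaximalSpectrum D₀.B) := Fintype.ofFinite _
    rw [tameSymbol_eq_prod hA D₀ c.isUnit.mem_nonZeroDivisors hb (Mon.ofUnit D₀ c) mb,
      finprod_eq_prod_of_fintype, length_eq_sum hA D₀ hb hbu mb, ← Finset.prod_pow_eq_pow_sum]
    exact Finset.prod_congr rfl (fun q _ => lf_unit D₀ c mb q)

theorem lf_steinberg (D₀ : TameData A c₁ c₂) {a b : A} (ma : Mon D₀ a) (mb : Mon D₀ b)
    (mc : Mon D₀ (b - a)) (q : MaximalSpectrum D₀.B) :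
    lf D₀ ma mc q * lf D₀ mb mb q = lf D₀ mb mc q * lf D₀ ma mb q := by
  haveI := D₀.isLocalHom q
  unfold lf
  rw [← mul_pow, ← mul_pow, ← map_mul, ← map_mul]
  by_cases hπ : IsUnit (D₀.π q)
  · have : ω D₀ q = 0 := by
      unfold ω
      rw [Ring.ord_of_isUnit hπ]
      rfl
    rw [this, pow_zero, pow_zero]
  · congr 2
    unfold symq
    apply steinberg_local (D₀.π q) (D₀.π_mem q) hπ
    rw [← mc.fac q, ← mb.fac q, ← ma.fac q, map_sub]

theorem law_steinberg (hA : ringKrullDim A = 1) (a b : A) (ha : a ∈ nonZeroDivisors A)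
    (hb : b ∈ nonZeroDivisors A) (hc : b - a ∈ nonZeroDivisors A) :
    tameSymbol A a (b - a) * tameSymbol A b b = tameSymbol A b (b - a) * tameSymbol A a b := by
  classical
  obtain ⟨D₀, ⟨m⟩⟩ := exists_frame hA (Fin 3) ![a, b, b - a] (by
    intro t; fin_cases t
    · exact ha
    · exact hb
    · exact hc)
  have ma : Mon D₀ a := m 0
  have mb : Mon D₀ b := m 1
  have mc : Mon D₀ (b - a) := m 2
  haveI := finite_maxSpec D₀
  rw [tameSymbol_eq_prod hA D₀ ha hc ma mc, tameSymbol_eq_prod hA D₀ hb hb mb mb,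
    tameSymbol_eq_prod hA D₀ hb hc mb mc, tameSymbol_eq_prod hA D₀ ha hb ma mb,
    ← finprod_mul_distrib (Set.toFinite _) (Set.toFinite _),
    ← finprod_mul_distrib (Set.toFinite _) (Set.toFinite _)]
  exact finprod_congr (fun q => lf_steinberg D₀ ma mb mc q)

end laws

/-- **Laws of the tame symbol.** -/
theorem main_1848 (A : Type u) [CommRing A] [IsNoetherianRing A] [IsLocalRing A]
    (hA : ringKrullDim A = 1) :
    (∀ a b : A, a ∈ nonZeroDivisors A → b ∈ nonZeroDivisors A → CycAlg.tameSymbol A a b ≠ 0) ∧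
    (∀ a a' b : A, a ∈ nonZeroDivisors A → a' ∈ nonZeroDivisors A → b ∈ nonZeroDivisors A →
      CycAlg.tameSymbol A (a * a') b = CycAlg.tameSymbol A a b * CycAlg.tameSymbol A a' b ∧
      CycAlg.tameSymbol A b (a * a') = CycAlg.tameSymbol A b a * CycAlg.tameSymbol A b a') ∧
    (∀ b : A, b ∈ nonZeroDivisors A →
      CycAlg.tameSymbol A b b = (-1) ^ (Module.length A (A ⧸ Ideal.span {b})).toNat) ∧
    (∀ (c : Aˣ) (b : A), b ∈ nonZeroDivisors A →
      CycAlg.tameSymbol A (c : A) b =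
        IsLocalRing.residue A (c : A) ^ (Module.length A (A ⧸ Ideal.span {b})).toNat) ∧
    (∀ a b : A, a ∈ nonZeroDivisors A → b ∈ nonZeroDivisors A → b - a ∈ nonZeroDivisors A →
      CycAlg.tameSymbol A a (b - a) * CycAlg.tameSymbol A b b =
        CycAlg.tameSymbol A b (b - a) * CycAlg.tameSymbol A a b) :=
  ⟨law_nonvanishing hA, law_mul hA, law_self hA, law_unit hA, law_steinberg hA⟩

end Groth.Agent.Lib.Helper26.TameM
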