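import Mathlib
import Groth.Agent.Lib.Helper26.TameM
import Groth.Agent.Lib.Helper12.IntegralDim

set_option autoImplicit false
set_option linter.style.haveILetI false
set_option linter.unusedSectionVars false

namespace Groth.Agent.Lib.Helper26.TameN

open Function IsLocalRing CycAlg
open Groth.Agent.Lib.Helper26.TameH Groth.Agent.Lib.Helper26.TameK1 Groth.Agent.Lib.Helper26.TameI
  Groth.Agent.Lib.Helper26.TameJ Groth.Agent.Lib.Helper26.TameD Groth.Agent.Lib.Helper26.TameK2
  Groth.Agent.Lib.Helper26.TameK3 Groth.Agent.Lib.Helper26.TameK4 Groth.Agent.Lib.Helper26.TameG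
  Groth.Agent.Lib.Helper26.TameL Groth.Agent.Lib.Helper26.TameM

universe u

section ord

/-- the order of vanishing is invariant under ring isomorphisms -/
theorem ord_ringEquiv {R S : Type*} [CommRing R] [CommRing S] (e : R ≃+* S) (x : R) :
    Ring.ord S (e x) = Ring.ord R x := by
  letI : Algebra R S := e.toRingHom.toAlgebra
  have hsurj : Function.Surjective (algebraMap R S) := e.surjective
  unfold Ring.ord
  rw [← Module.length_eq_of_surjective (S := R) (R := S) (M := S ⧸ Ideal.span {e x}) hsurj]
  symm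
  apply LinearEquiv.length_eq
  let f : R ≃ₐ[R] S := AlgEquiv.ofRingEquiv (f := e) (fun r => rfl)
  refine (Ideal.quotientEquivAlg (Ideal.span {x}) (Ideal.span {e x}) f ?_).toLinearEquiv
  rw [Ideal.map_span, Set.image_singleton]
  rfl

end ord

section generic

variable {B : Type u} [CommRing B] (q : Ideal B) [q.IsMaximal] (R : Type u) [CommRing R]
  [Algebra B R] [Module.Finite B R]

/-- the localization of the `B`-algebra `R` at the maximal ideal `q` of `B` -/
abbrev Rq : Type u := Localization (Algebra.algebraMapSubmonoid R q.primeCompl)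

theorem comap_comap_eq (Q : Ideal (Rq q R)) [Q.IsMaximal] :
    (Q.comap (algebraMap R (Rq q R))).comap (algebraMap B R) = q := by
  haveI : Algebra.IsIntegral (Localization.AtPrime q) (Rq q R) := Algebra.IsIntegral.of_finite _ _
  have hmaxL : (Q.comap (algebraMap (Localization.AtPrime q) (Rq q R))).IsMaximal :=
    Ideal.isMaximal_comap_of_isIntegral_of_isMaximal Q
  have heqL : Q.comap (algebraMap (Localization.AtPrime q) (Rq q R)) =
      maximalIdeal (Localization.AtPrime q) := IsLocalRing.eq_maximalIdeal hmaxL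
  rw [Ideal.comap_comap, ← IsScalarTower.algebraMap_eq,
    IsScalarTower.algebraMap_eq B (Localization.AtPrime q) (Rq q R), ← Ideal.comap_comap, heqL]
  exact IsLocalization.AtPrime.under_maximalIdeal (Localization.AtPrime q) q

theorem comap_isMaximal (Q : Ideal (Rq q R)) [Q.IsMaximal] :
    (Q.comap (algebraMap R (Rq q R))).IsMaximal := by
  haveI : Algebra.IsIntegral B R := Algebra.IsIntegral.of_finite _ _
  haveI : (Q.comap (algebraMap R (Rq q R))).IsPrime := Ideal.comap_isPrime _ _
  apply Ideal.isMaximal_of_isIntegral_of_isMaximal_comap (R := B)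
  rw [comap_comap_eq q R Q]
  infer_instance

/-- the maximal ideal of `R` below a maximal ideal of the localization -/
noncomputable def dn (Q : MaximalSpectrum (Rq q R)) : MaximalSpectrum R :=
  ⟨Q.asIdeal.comap (algebraMap R (Rq q R)), (haveI := Q.isMaximal; comap_isMaximal q R Q.asIdeal)⟩

theorem dn_comap (Q : MaximalSpectrum (Rq q R)) :
    (dn q R Q).asIdeal.comap (algebraMap B R) = q := by
  haveI := Q.isMaximal
  exact comap_comap_eq q R Q.asIdeal

theorem dn_injective : Function.Injective (dn q R) := by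
  intro Q Q' h
  have h1 : Q.asIdeal.comap (algebraMap R (Rq q R)) = Q'.asIdeal.comap (algebraMap R (Rq q R)) :=
    congrArg MaximalSpectrum.asIdeal h
  apply MaximalSpectrum.ext
  have e1 := IsLocalization.map_under (Algebra.algebraMapSubmonoid R q.primeCompl) (Rq q R) Q.asIdeal
  have e2 := IsLocalization.map_under (Algebra.algebraMapSubmonoid R q.primeCompl) (Rq q R) Q'.asIdeal
  rw [Ideal.under_def] at e1 e2
  rw [← e1, ← e2, h1]

theorem exists_dn_eq (q'' : MaximalSpectrum R) (h : q''.asIdeal.comap (algebraMap B R) = q) :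
    ∃ Q : MaximalSpectrum (Rq q R), dn q R Q = q'' := by
  haveI := q''.isMaximal
  have hdisj : Disjoint (Algebra.algebraMapSubmonoid R q.primeCompl : Set R) (q''.asIdeal : Set R) := by
    rw [Set.disjoint_left]
    rintro _ ⟨t, ht, rfl⟩ hmem
    apply ht
    rw [← h]
    exact hmem
  have hcm := IsLocalization.under_map_of_isPrime_disjoint
    (Algebra.algebraMapSubmonoid R q.primeCompl) (Rq q R) q''.isMaximal.isPrime hdisj
  rw [Ideal.under_def] at hcm
  have hne : q''.asIdeal.map (algebraMap R (Rq q R)) ≠ ⊤ := by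
    intro htop
    rw [htop, Ideal.comap_top] at hcm
    exact q''.isMaximal.ne_top hcm.symm
  obtain ⟨Q, hQ, hle⟩ := Ideal.exists_le_maximal _ hne
  refine ⟨⟨Q, hQ⟩, ?_⟩
  apply MaximalSpectrum.ext
  symm
  have h1 : q''.asIdeal ≤ Q.comap (algebraMap R (Rq q R)) := by
    rw [← hcm]
    exact Ideal.comap_mono hle
  haveI := hQ
  exact q''.isMaximal.eq_of_le (comap_isMaximal q R Q).ne_top h1


theorem isFinExt_localization (hinj : Injective (algebraMap B R)) (c : B)
    (hc : ∀ x : R, c • x ∈ (algebraMap B R).range) (N : ℕ)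
    (hN : (q ^ N).map (algebraMap B (Localization.AtPrime q)) ≤
      Ideal.span {algebraMap B (Localization.AtPrime q) c}) :
    IsFinExt (Localization.AtPrime q) (Rq q R) (maximalIdeal (Localization.AtPrime q)) := by
  refine ⟨localizationAlgebra_injective (Localization.AtPrime q) (Rq q R) hinj,
    inferInstance, N, ?_⟩
  intro r hr x
  have hmax : maximalIdeal (Localization.AtPrime q) = q.map (algebraMap B (Localization.AtPrime q)) :=
    (IsLocalization.AtPrime.map_eq_maximalIdeal q (Localization.AtPrime q)).symm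
  rw [hmax, ← Ideal.map_pow] at hr
  obtain ⟨l, rfl⟩ := Ideal.mem_span_singleton'.mp (hN hr)
  obtain ⟨y, s, rfl⟩ := IsLocalization.exists_mk'_eq (Algebra.algebraMapSubmonoid R q.primeCompl) x
  obtain ⟨t, ht, hts⟩ := s.2
  obtain ⟨y', hy'⟩ := hc y
  refine ⟨l * IsLocalization.mk' (Localization.AtPrime q) y' (⟨t, ht⟩ : q.primeCompl), ?_⟩
  rw [map_mul, Algebra.smul_def, map_mul, mul_assoc]
  congr 1
  have hu : IsUnit (algebraMap R (Rq q R) (s : R)) :=
    IsLocalization.map_units (Rq q R) s
  apply hu.mul_left_injective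
  show _ * algebraMap R (Rq q R) (s : R) = _ * algebraMap R (Rq q R) (s : R)
  have hs1 : algebraMap R (Rq q R) (s : R) =
      algebraMap (Localization.AtPrime q) (Rq q R) (algebraMap B (Localization.AtPrime q) t) := by
    rw [← hts, ← IsScalarTower.algebraMap_apply, ← IsScalarTower.algebraMap_apply]
  have hL : algebraMap (Localization.AtPrime q) (Rq q R)
      (IsLocalization.mk' (Localization.AtPrime q) y' (⟨t, ht⟩ : q.primeCompl)) *
      algebraMap R (Rq q R) (s : R) = algebraMap R (Rq q R) (c • y) := by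
    rw [hs1, ← map_mul, IsLocalization.mk'_spec, ← hy', ← IsScalarTower.algebraMap_apply,
      ← IsScalarTower.algebraMap_apply]
  rw [hL, mul_assoc, IsLocalization.mk'_spec, ← IsScalarTower.algebraMap_apply,
    IsScalarTower.algebraMap_apply B R (Rq q R), ← map_mul, Algebra.smul_def]

end generic


section transport

variable {A : Type u} [CommRing A] [IsLocalRing A] {a b : A}
variable {B : Type u} [CommRing B] [Algebra A B]
variable [hloc : ∀ q : MaximalSpectrum B, IsLocalHom (algebraMap A (Localization.AtPrime q.asIdeal))]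
variable (D₀ : TameData A a b) [Algebra B D₀.B] [IsScalarTower A B D₀.B] [Module.Finite B D₀.B]
variable (q : MaximalSpectrum B)

instance towerALRq :
    IsScalarTower A (Localization.AtPrime q.asIdeal) (Rq q.asIdeal D₀.B) := by
  apply IsScalarTower.of_algebraMap_eq
  intro x
  rw [IsScalarTower.algebraMap_apply A B (Localization.AtPrime q.asIdeal),
    ← IsScalarTower.algebraMap_apply B (Localization.AtPrime q.asIdeal) (Rq q.asIdeal D₀.B),
    IsScalarTower.algebraMap_apply B D₀.B (Rq q.asIdeal D₀.B),
    ← IsScalarTower.algebraMap_apply A B D₀.B,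
    ← IsScalarTower.algebraMap_apply A D₀.B (Rq q.asIdeal D₀.B)]

instance towerALQ (Q : Ideal (Rq q.asIdeal D₀.B)) [Q.IsPrime] :
    IsScalarTower A (Localization.AtPrime q.asIdeal) (Localization.AtPrime Q) := by
  apply IsScalarTower.of_algebraMap_eq
  intro x
  rw [IsScalarTower.algebraMap_apply (Localization.AtPrime q.asIdeal) (Rq q.asIdeal D₀.B)
      (Localization.AtPrime Q),
    ← IsScalarTower.algebraMap_apply A (Localization.AtPrime q.asIdeal) (Rq q.asIdeal D₀.B),
    ← IsScalarTower.algebraMap_apply A (Rq q.asIdeal D₀.B) (Localization.AtPrime Q)]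

theorem isLocalHom_LQ (Q : MaximalSpectrum (Rq q.asIdeal D₀.B)) :
    IsLocalHom (algebraMap (Localization.AtPrime q.asIdeal) (Localization.AtPrime Q.asIdeal)) := by
  haveI := Q.isMaximal
  haveI := q.isMaximal
  haveI : Algebra.IsIntegral (Localization.AtPrime q.asIdeal) (Rq q.asIdeal D₀.B) :=
    Algebra.IsIntegral.of_finite _ _
  exact isLocalHom_of_integral Q.asIdeal

theorem isLocalHom_AQ (Q : MaximalSpectrum (Rq q.asIdeal D₀.B)) :
    IsLocalHom (algebraMap A (Localization.AtPrime Q.asIdeal)) := by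
  haveI := isLocalHom_LQ D₀ q Q
  haveI := hloc q
  rw [IsScalarTower.algebraMap_eq A (Localization.AtPrime q.asIdeal) (Localization.AtPrime Q.asIdeal)]
  exact RingHom.isLocalHom_comp _ _

/-- the comparison isomorphism of local rings -/
noncomputable def ψ (Q : MaximalSpectrum (Rq q.asIdeal D₀.B)) :
    Localization.AtPrime (dn q.asIdeal D₀.B Q).asIdeal ≃ₐ[D₀.B] Localization.AtPrime Q.asIdeal :=
  IsLocalization.localizationLocalizationAtPrimeIsoLocalization
    (Algebra.algebraMapSubmonoid D₀.B q.asIdeal.primeCompl) Q.asIdeal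

theorem ringEquiv_mem_nonZeroDivisors {R S : Type*} [CommRing R] [CommRing S] (e : R ≃+* S) (x : R)
    (hx : x ∈ nonZeroDivisors R) : e x ∈ nonZeroDivisors S := by
  rw [mem_nonZeroDivisors_iff_right]
  intro y hy
  have h1 : e (e.symm y * x) = 0 := by rw [map_mul, e.apply_symm_apply, hy]
  have h2 : e.symm y * x = 0 := by
    have := congrArg e.symm h1
    rwa [e.symm_apply_apply, map_zero] at this
  have h3 := (mem_nonZeroDivisors_iff_right.mp hx) _ h2
  have := congrArg e h3
  rwa [e.apply_symm_apply, map_zero] at this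

theorem ψ_algebraMap_A (Q : MaximalSpectrum (Rq q.asIdeal D₀.B)) (x : A) :
    ψ D₀ q Q (algebraMap A (Localization.AtPrime (dn q.asIdeal D₀.B Q).asIdeal) x) =
      algebraMap (Localization.AtPrime q.asIdeal) (Localization.AtPrime Q.asIdeal)
        (algebraMap A (Localization.AtPrime q.asIdeal) x) := by
  rw [IsScalarTower.algebraMap_apply A D₀.B (Localization.AtPrime (dn q.asIdeal D₀.B Q).asIdeal),
    AlgEquiv.commutes, ← IsScalarTower.algebraMap_apply A D₀.B (Localization.AtPrime Q.asIdeal),
    ← IsScalarTower.algebraMap_apply A (Localization.AtPrime q.asIdeal)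
      (Localization.AtPrime Q.asIdeal)]

/-- the induced tame datum over the local ring of `B` at `q` -/
noncomputable abbrev locData
    (hfin : IsFinExt (Localization.AtPrime q.asIdeal) (Rq q.asIdeal D₀.B)
      (maximalIdeal (Localization.AtPrime q.asIdeal))) :
    TameData (Localization.AtPrime q.asIdeal) (algebraMap A (Localization.AtPrime q.asIdeal) a)
      (algebraMap A (Localization.AtPrime q.asIdeal) b) :=
  { B := Rq q.asIdeal D₀.B
    isFinExt := hfin
    isLocalHom := fun Q => isLocalHom_LQ D₀ q Q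
    π := fun Q => ψ D₀ q Q (D₀.π (dn q.asIdeal D₀.B Q))
    π_mem := fun Q => ringEquiv_mem_nonZeroDivisors (ψ D₀ q Q).toRingEquiv _ (D₀.π_mem _)
    u₁ := fun Q => Units.map (ψ D₀ q Q).toRingEquiv.toRingHom.toMonoidHom (D₀.u₁ (dn q.asIdeal D₀.B Q))
    u₂ := fun Q => Units.map (ψ D₀ q Q).toRingEquiv.toRingHom.toMonoidHom (D₀.u₂ (dn q.asIdeal D₀.B Q))
    e₁ := fun Q => D₀.e₁ (dn q.asIdeal D₀.B Q)
    e₂ := fun Q => D₀.e₂ (dn q.asIdeal D₀.B Q)
    fac₁ := fun Q => by
      rw [← ψ_algebraMap_A, D₀.fac₁ (dn q.asIdeal D₀.B Q), map_mul, map_pow]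
      rfl
    fac₂ := fun Q => by
      rw [← ψ_algebraMap_A, D₀.fac₂ (dn q.asIdeal D₀.B Q), map_mul, map_pow]
      rfl }


theorem norm_localFactor
    (hfin : IsFinExt (Localization.AtPrime q.asIdeal) (Rq q.asIdeal D₀.B)
      (maximalIdeal (Localization.AtPrime q.asIdeal)))
    (Q : MaximalSpectrum (Rq q.asIdeal D₀.B)) :
    (haveI := hloc q
     Algebra.norm (ResidueField A) ((locData D₀ q hfin).localFactor Q)) =
      D₀.localFactor (dn q.asIdeal D₀.B Q) := by
  haveI := hloc q
  haveI hLQ := isLocalHom_LQ D₀ q Q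
  haveI hAQ := isLocalHom_AQ D₀ q Q
  haveI := D₀.isLocalHom (dn q.asIdeal D₀.B Q)
  rw [localFactor_eq, localFactor_eq, map_pow]
  have hord : Ring.ord (Localization.AtPrime Q.asIdeal) ((locData D₀ q hfin).π Q) =
      Ring.ord (Localization.AtPrime (dn q.asIdeal D₀.B Q).asIdeal)
        (D₀.π (dn q.asIdeal D₀.B Q)) := ord_ringEquiv (ψ D₀ q Q).toRingEquiv _
  rw [hord]
  congr 1
  let ψA : Localization.AtPrime (dn q.asIdeal D₀.B Q).asIdeal ≃ₐ[A]
      Localization.AtPrime Q.asIdeal := (ψ D₀ q Q).restrictScalars A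
  have hsym : sym (locData D₀ q hfin) Q =
      ResidueField.mapAlgEquiv' ψA (sym D₀ (dn q.asIdeal D₀.B Q)) := by
    unfold sym
    simp only [map_mul, map_pow, map_inv₀, map_neg, map_one]
    rfl
  rw [hsym]
  show Algebra.norm (ResidueField A) (Algebra.norm (ResidueField (Localization.AtPrime q.asIdeal))
    (ResidueField.mapAlgEquiv' ψA (sym D₀ (dn q.asIdeal D₀.B Q)))) = _
  rw [Algebra.norm_norm, Algebra.norm_eq_of_algEquiv]

end transport


section helpers

variable {A : Type u} [CommRing A] [IsNoetherianRing A] [IsLocalRing A]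
variable {B : Type u} [CommRing B] [Algebra A B]

theorem algebraMap_mem_nonZeroDivisors_of_notMem_ass (hB : IsFinExt A B (maximalIdeal A))
    (hass : maximalIdeal A ∉ associatedPrimes A B) (c : A) (hc : c ∈ nonZeroDivisors A) :
    algebraMap A B c ∈ nonZeroDivisors B := by
  obtain ⟨hinj, hfin, n, hn⟩ := hB
  rw [mem_nonZeroDivisors_iff_right]
  intro x hx
  by_contra hx0
  obtain ⟨P, hP, hle⟩ := exists_le_isAssociatedPrime_of_isNoetherianRing A x hx0
  have h1 : maximalIdeal A ^ n ≤ (⊥ : Submodule A B).colon {x} := by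
    intro r hr
    rw [Submodule.mem_colon_singleton]
    obtain ⟨y, hy⟩ := hn r hr x
    have hy0 : y = 0 := by
      apply (mem_nonZeroDivisors_iff_right.mp hc)
      apply hinj
      rw [map_mul, hy, map_zero, Algebra.smul_def, mul_assoc, hx, mul_zero]
    rw [Submodule.mem_bot, ← hy, hy0, map_zero]
  haveI := hP.isPrime
  have h2 : maximalIdeal A ≤ P := Ideal.IsPrime.le_of_pow_le (h1.trans hle)
  have h3 : maximalIdeal A = P := (maximalIdeal.isMaximal A).eq_of_le hP.isPrime.ne_top h2
  exact hass (h3 ▸ hP)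

theorem algebraMap_mem_of_mem_maximalIdeal [Module.Finite A B] (q : Ideal B) [q.IsMaximal] (c : A)
    (hcm : c ∈ maximalIdeal A) : algebraMap A B c ∈ q := by
  haveI : Algebra.IsIntegral A B := Algebra.IsIntegral.of_finite A B
  have hmax : (q.comap (algebraMap A B)).IsMaximal :=
    Ideal.isMaximal_comap_of_isIntegral_of_isMaximal q
  have heq : q.comap (algebraMap A B) = maximalIdeal A := IsLocalRing.eq_maximalIdeal hmax
  rw [← Ideal.mem_comap, heq]
  exact hcm

theorem ringKrullDim_localization_eq_one (hA : ringKrullDim A = 1) [Module.Finite A B]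
    (q : Ideal B) [q.IsMaximal] (c : A) (hcm : c ∈ maximalIdeal A)
    (hcB : algebraMap A B c ∈ nonZeroDivisors B) :
    ringKrullDim (Localization.AtPrime q) = 1 := by
  haveI : Algebra.IsIntegral A B := Algebra.IsIntegral.of_finite A B
  apply le_antisymm
  · rw [IsLocalization.AtPrime.ringKrullDim_eq_height q (Localization.AtPrime q)]
    refine (Ideal.height_le_ringKrullDim_of_ne_top (Ideal.IsPrime.ne_top inferInstance)).trans ?_
    rw [← hA]
    exact Groth.Agent.Lib.Helper12.ringKrullDim_le_of_isIntegral A B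
  · have hs : algebraMap B (Localization.AtPrime q) (algebraMap A B c) ∈
        nonZeroDivisors (Localization.AtPrime q) :=
      IsLocalization.map_nonZeroDivisors_le q.primeCompl (Localization.AtPrime q)
        (Submonoid.mem_map_of_mem _ hcB)
    have h1 := ringKrullDim_quotient_succ_le_of_nonZeroDivisor hs
    have hne : Ideal.span {algebraMap B (Localization.AtPrime q) (algebraMap A B c)} ≠ ⊤ := by
      rw [Ne, Ideal.span_singleton_eq_top,
        IsLocalization.AtPrime.isUnit_to_map_iff (Localization.AtPrime q) q]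
      intro h
      exact h (algebraMap_mem_of_mem_maximalIdeal q c hcm)
    haveI : Nontrivial (Localization.AtPrime q ⧸
        Ideal.span {algebraMap B (Localization.AtPrime q) (algebraMap A B c)}) :=
      Ideal.Quotient.nontrivial_iff.mpr hne
    have h2 : (0 : WithBot ℕ∞) ≤ ringKrullDim (Localization.AtPrime q ⧸
        Ideal.span {algebraMap B (Localization.AtPrime q) (algebraMap A B c)}) :=
      ringKrullDim_nonneg_of_nontrivial
    calc (1 : WithBot ℕ∞) = 0 + 1 := by simp
      _ ≤ ringKrullDim (Localization.AtPrime q ⧸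
        Ideal.span {algebraMap B (Localization.AtPrime q) (algebraMap A B c)}) + 1 :=
          add_le_add_left h2 1
      _ ≤ _ := h1

/-- the tame symbol of two units is trivial (no hypothesis on the local ring) -/
theorem tameSymbol_eq_one_of_isUnit' {L : Type u} [CommRing L] [IsLocalRing L] {x₁ x₂ : L}
    (hu₁ : IsUnit x₁) (hu₂ : IsUnit x₂) : tameSymbol L x₁ x₂ = 1 := by
  unfold tameSymbol
  split_ifs with h
  · unfold TameData.value
    apply finprod_eq_one_of_forall_eq_one
    intro q
    exact localFactor_eq_one_of_isUnit _ q (hu₁.map _) (hu₂.map _)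
  · rfl

end helpers


section main

variable {A : Type u} [CommRing A] [IsNoetherianRing A] [IsLocalRing A]

theorem value_eq_prod_norm (hA : ringKrullDim A = 1) {B : Type u} [CommRing B] [Algebra A B]
    [Module.Finite A B]
    [hloc : ∀ q : MaximalSpectrum B, IsLocalHom (algebraMap A (Localization.AtPrime q.asIdeal))]
    {a b : A} (c : A) (hc : c ∈ nonZeroDivisors A) (hcm : c ∈ maximalIdeal A)
    (hcB : algebraMap A B c ∈ nonZeroDivisors B)
    (haB : algebraMap A B a ∈ nonZeroDivisors B) (hbB : algebraMap A B b ∈ nonZeroDivisors B)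
    (D₀ : TameData A a b) [Algebra B D₀.B] [IsScalarTower A B D₀.B]
    (hinj : Injective (algebraMap B D₀.B)) :
    D₀.value = ∏ᶠ q : MaximalSpectrum B, Algebra.norm (ResidueField A)
      (tameSymbol (Localization.AtPrime q.asIdeal)
        (algebraMap A (Localization.AtPrime q.asIdeal) a)
        (algebraMap A (Localization.AtPrime q.asIdeal) b)) := by
  classical
  haveI := finite D₀
  haveI : Module.Finite B D₀.B := Module.Finite.of_restrictScalars_finite A B D₀.B
  haveI : Algebra.IsIntegral B D₀.B := Algebra.IsIntegral.of_finite B D₀.B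
  haveI : IsNoetherianRing B := IsNoetherianRing.of_finite A B
  haveI : Finite (MaximalSpectrum B) := finite_maximalSpectrum A B
  haveI : Fintype (MaximalSpectrum B) := Fintype.ofFinite _
  haveI : Finite (MaximalSpectrum D₀.B) := finite_maximalSpectrum A D₀.B
  haveI : Fintype (MaximalSpectrum D₀.B) := Fintype.ofFinite _
  have hfinq : ∀ q : MaximalSpectrum B, Finite (MaximalSpectrum (Rq q.asIdeal D₀.B)) := fun q =>
    finite_maximalSpectrum (Localization.AtPrime q.asIdeal) (Rq q.asIdeal D₀.B)
  haveI : ∀ q : MaximalSpectrum B, Fintype (MaximalSpectrum (Rq q.asIdeal D₀.B)) := fun q =>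
    @Fintype.ofFinite _ (hfinq q)
  obtain ⟨_, _, n₀, hn₀⟩ := D₀.isFinExt
  have hfin : ∀ q : MaximalSpectrum B, IsFinExt (Localization.AtPrime q.asIdeal)
      (Rq q.asIdeal D₀.B) (maximalIdeal (Localization.AtPrime q.asIdeal)) := by
    intro q
    have hc' : ∀ x : D₀.B, (algebraMap A B (c ^ n₀)) • x ∈ (algebraMap B D₀.B).range := by
      intro x
      obtain ⟨y, hy⟩ := hn₀ (c ^ n₀) (Ideal.pow_mem_pow hcm n₀) x
      refine ⟨algebraMap A B y, ?_⟩
      rw [← IsScalarTower.algebraMap_apply, hy, algebraMap_smul]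
    haveI : IsArtinian B (B ⧸ Ideal.span {algebraMap A B (c ^ n₀)}) :=
      isArtinian_quot_of_mem hA (pow_mem hc n₀) _ (Ideal.mem_span_singleton_self _)
    obtain ⟨N, hN⟩ := exists_pow_le_contr (algebraMap A B (c ^ n₀)) q.asIdeal
    apply isFinExt_localization q.asIdeal D₀.B hinj (algebraMap A B (c ^ n₀)) hc' N
    rw [Ideal.map_le_iff_le_comap]
    exact hN
  have hsym : ∀ q : MaximalSpectrum B, tameSymbol (Localization.AtPrime q.asIdeal)
      (algebraMap A (Localization.AtPrime q.asIdeal) a)
      (algebraMap A (Localization.AtPrime q.asIdeal) b) = (locData D₀ q (hfin q)).value := by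
    intro q
    apply tameSymbol_eq (ringKrullDim_localization_eq_one hA q.asIdeal c hcm hcB)
    · rw [IsScalarTower.algebraMap_apply A B]
      exact IsLocalization.map_nonZeroDivisors_le q.asIdeal.primeCompl _
        (Submonoid.mem_map_of_mem _ haB)
    · rw [IsScalarTower.algebraMap_apply A B]
      exact IsLocalization.map_nonZeroDivisors_le q.asIdeal.primeCompl _
        (Submonoid.mem_map_of_mem _ hbB)
  have hval : ∀ q : MaximalSpectrum B,
      Algebra.norm (ResidueField A) ((locData D₀ q (hfin q)).value) =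
        ∏ Q : MaximalSpectrum (Rq q.asIdeal D₀.B), D₀.localFactor (dn q.asIdeal D₀.B Q) := by
    intro q
    unfold TameData.value
    rw [finprod_eq_prod_of_fintype, map_prod]
    exact Finset.prod_congr rfl (fun Q _ => norm_localFactor D₀ q (hfin q) Q)
  show ∏ᶠ q'' : MaximalSpectrum D₀.B, D₀.localFactor q'' = _
  rw [finprod_eq_prod_of_fintype, finprod_eq_prod_of_fintype]
  simp_rw [hsym, hval]
  let Φ : (Σ q : MaximalSpectrum B, MaximalSpectrum (Rq q.asIdeal D₀.B)) → MaximalSpectrum D₀.B :=
    fun x => dn x.1.asIdeal D₀.B x.2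
  have hΦ : Bijective Φ := by
    constructor
    · rintro ⟨q, Q⟩ ⟨q', Q'⟩ h
      have hq : q = q' := by
        apply MaximalSpectrum.ext
        rw [← dn_comap q.asIdeal D₀.B Q, ← dn_comap q'.asIdeal D₀.B Q']
        exact congrArg (fun z : MaximalSpectrum D₀.B => z.asIdeal.comap (algebraMap B D₀.B)) h
      subst hq
      have hQ := dn_injective q.asIdeal D₀.B h
      subst hQ
      rfl
    · intro q''
      haveI := q''.isMaximal
      let q : MaximalSpectrum B := ⟨q''.asIdeal.comap (algebraMap B D₀.B),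
        Ideal.isMaximal_comap_of_isIntegral_of_isMaximal q''.asIdeal⟩
      obtain ⟨Q, hQ⟩ := exists_dn_eq q.asIdeal D₀.B q'' rfl
      exact ⟨⟨q, Q⟩, hQ⟩
  rw [← Fintype.prod_sigma' (fun (q : MaximalSpectrum B) (Q : MaximalSpectrum (Rq q.asIdeal D₀.B)) =>
    D₀.localFactor (dn q.asIdeal D₀.B Q))]
  exact (Fintype.prod_bijective Φ hΦ _ _ (fun x => rfl)).symm

/-- **The tame symbol and finite extensions.** -/
theorem main_1849 (A : Type u) [CommRing A] [IsNoetherianRing A] [IsLocalRing A]
    (hA : ringKrullDim A = 1) (B : Type u) [CommRing B] [Algebra A B]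
    (hB : CycAlg.IsFinExt A B (IsLocalRing.maximalIdeal A))
    (hass : IsLocalRing.maximalIdeal A ∉ associatedPrimes A B)
    [hloc : ∀ q : MaximalSpectrum B, IsLocalHom (algebraMap A (Localization.AtPrime q.asIdeal))]
    (a b : A) (ha : a ∈ nonZeroDivisors A) (hb : b ∈ nonZeroDivisors A) :
    CycAlg.tameSymbol A a b = ∏ᶠ q : MaximalSpectrum B,
      Algebra.norm (IsLocalRing.ResidueField A)
        (CycAlg.tameSymbol (Localization.AtPrime q.asIdeal)
          (algebraMap A (Localization.AtPrime q.asIdeal) a)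
          (algebraMap A (Localization.AtPrime q.asIdeal) b)) := by
  classical
  have hB' := hB
  obtain ⟨hinjB, hfinB, nB, hnB⟩ := hB'
  haveI := hfinB
  by_cases hu : IsUnit a ∧ IsUnit b
  · rw [tameSymbol_eq_one_of_isUnit hA hu.1 hu.2]
    symm
    apply finprod_eq_one_of_forall_eq_one
    intro q
    rw [tameSymbol_eq_one_of_isUnit' (hu.1.map _) (hu.2.map _), map_one]
  · obtain ⟨c, hc, hcm⟩ : ∃ c : A, c ∈ nonZeroDivisors A ∧ c ∈ maximalIdeal A := by
      by_cases hua : IsUnit a
      · exact ⟨b, hb, fun h => hu ⟨hua, h⟩⟩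
      · exact ⟨a, ha, hua⟩
    have hcB := algebraMap_mem_nonZeroDivisors_of_notMem_ass hB hass c hc
    have haB := algebraMap_mem_nonZeroDivisors_of_notMem_ass hB hass a ha
    have hbB := algebraMap_mem_nonZeroDivisors_of_notMem_ass hB hass b hb
    let K := FractionRing A
    obtain ⟨ι, hι, -⟩ := exists_embedding B K hinjB (c ^ nB) (pow_mem hc nB)
      (by rw [map_pow]; exact pow_mem hcB nB)
      (fun x => hnB (c ^ nB) (Ideal.pow_mem_pow hcm nB) x)
    haveI : Module.Finite A ι.range :=
      Module.Finite.of_surjective ι.rangeRestrict.toLinearMap ι.rangeRestrict_surjective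
    obtain ⟨D₀, k, hk, hS, -⟩ := exists_tameData (a₁ := a) (a₂ := b) hA ha hb K Empty
      (fun t => t.elim) (fun t => t.elim) ι.range
    let j : B →ₐ[A] D₀.B :=
      ((AlgEquiv.ofInjective k hk).symm : k.range →ₐ[A] D₀.B).comp
        (ι.codRestrict k.range (fun x => hS ⟨x, rfl⟩))
    have hj : ∀ x, k (j x) = ι x := by
      intro x
      have h1 : (AlgEquiv.ofInjective k hk) (j x) =
          ι.codRestrict k.range (fun x => hS ⟨x, rfl⟩) x :=
        (AlgEquiv.ofInjective k hk).apply_symm_apply _
      have h2 := congrArg Subtype.val h1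
      rw [AlgEquiv.ofInjective_apply] at h2
      exact h2
    have hjinj : Injective j := fun x y h => hι (by rw [← hj, ← hj, h])
    letI : Algebra B D₀.B := j.toRingHom.toAlgebra
    haveI : IsScalarTower A B D₀.B := IsScalarTower.of_algebraMap_eq (fun x => (j.commutes x).symm)
    rw [tameSymbol_eq hA ha hb D₀]
    exact value_eq_prod_norm hA c hc hcm hcB haB hbB D₀ hjinj

end main

end Groth.Agent.Lib.Helper26.TameN
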