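import Mathlib
import Groth.Prelude.Def_CycAlg

set_option autoImplicit false
set_option linter.style.haveILetI false
set_option linter.unusedSectionVars false

namespace Groth.Agent.Lib.Helper26.Herb1

open Function LinearMap CycAlg

universe u v

variable {R : Type u} [CommRing R]

section Single

variable {M N : Type v} [AddCommGroup M] [Module R M] [AddCommGroup N] [Module R N]
  (φ : M →ₗ[R] N) (ψ : N →ₗ[R] M)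

lemma per_symm {φ : M →ₗ[R] N} {ψ : N →ₗ[R] M} (h : IsPeriodic φ ψ) : IsPeriodic ψ φ :=
  ⟨h.2, h.1⟩

lemma per_apply₁ {φ : M →ₗ[R] N} {ψ : N →ₗ[R] M} (h : IsPeriodic φ ψ) (n : N) :
    φ (ψ n) = 0 := by rw [← LinearMap.comp_apply, h.1, LinearMap.zero_apply]

lemma per_apply₂ {φ : M →ₗ[R] N} {ψ : N →ₗ[R] M} (h : IsPeriodic φ ψ) (m : M) :
    ψ (φ m) = 0 := by rw [← LinearMap.comp_apply, h.2, LinearMap.zero_apply]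

/-- the map `M / im ψ → ker ψ` induced by `φ` -/
def vert (h : IsPeriodic φ ψ) : (M ⧸ range ψ) →ₗ[R] ker ψ :=
  Submodule.liftQ (range ψ) (φ.codRestrict (ker ψ) (fun m => by rw [mem_ker, per_apply₂ h]))
    (by
      rintro _ ⟨n, rfl⟩
      rw [mem_ker]
      ext
      simp only [codRestrict_apply, ZeroMemClass.coe_zero]
      exact per_apply₁ h n)

@[simp] lemma vert_mk (h : IsPeriodic φ ψ) (m : M) :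
    ((vert φ ψ h (Submodule.Quotient.mk m) : ker ψ) : N) = φ m := rfl

/-- `H⁰ → M / im ψ` -/
def incl : perH φ ψ →ₗ[R] (M ⧸ range ψ) :=
  Submodule.mapQ _ _ (ker φ).subtype (fun _ hx => hx)

@[simp] lemma incl_mk (x : ker φ) :
    incl φ ψ (Submodule.Quotient.mk x) = Submodule.Quotient.mk (x : M) := rfl

/-- `ker ψ → H¹` -/
def proj : ker ψ →ₗ[R] perH ψ φ := Submodule.mkQ _

lemma proj_surjective : Surjective (proj φ ψ) := Submodule.mkQ_surjective _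

lemma incl_injective : Injective (incl φ ψ) := by
  rw [injective_iff_map_eq_zero]
  intro x hx
  obtain ⟨x, rfl⟩ := Submodule.Quotient.mk_surjective _ x
  rw [incl_mk, Submodule.Quotient.mk_eq_zero] at hx
  rw [Submodule.Quotient.mk_eq_zero]
  exact hx

lemma exact_incl_vert (h : IsPeriodic φ ψ) : Exact (incl φ ψ) (vert φ ψ h) := by
  intro y
  obtain ⟨m, rfl⟩ := Submodule.Quotient.mk_surjective _ y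
  constructor
  · intro hy
    have hm : m ∈ ker φ := by
      rw [mem_ker]
      have := congrArg Subtype.val hy
      simpa using this
    exact ⟨Submodule.Quotient.mk ⟨m, hm⟩, rfl⟩
  · rintro ⟨x, hx⟩
    obtain ⟨x, rfl⟩ := Submodule.Quotient.mk_surjective _ x
    rw [incl_mk] at hx
    rw [← hx]
    ext
    rw [vert_mk]
    exact x.2

lemma exact_vert_proj (h : IsPeriodic φ ψ) : Exact (vert φ ψ h) (proj φ ψ) := by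
  intro y
  constructor
  · intro hy
    rw [proj, Submodule.mkQ_apply, Submodule.Quotient.mk_eq_zero] at hy
    obtain ⟨m, hm⟩ := hy
    exact ⟨Submodule.Quotient.mk m, by ext; rw [vert_mk]; exact hm⟩
  · rintro ⟨x, rfl⟩
    obtain ⟨m, rfl⟩ := Submodule.Quotient.mk_surjective _ x
    rw [proj, Submodule.mkQ_apply, Submodule.Quotient.mk_eq_zero]
    exact ⟨m, rfl⟩

end Single

section Morphism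

variable {M N M' N' : Type v} [AddCommGroup M] [Module R M] [AddCommGroup N] [Module R N]
  [AddCommGroup M'] [Module R M'] [AddCommGroup N'] [Module R N']
  (φ : M →ₗ[R] N) (ψ : N →ₗ[R] M) (φ' : M' →ₗ[R] N') (ψ' : N' →ₗ[R] M')
  (f : M →ₗ[R] M') (g : N →ₗ[R] N')

lemma comm_apply {φ : M →ₗ[R] N} {φ' : M' →ₗ[R] N'} {f : M →ₗ[R] M'} {g : N →ₗ[R] N'}
    (cφ : φ' ∘ₗ f = g ∘ₗ φ) (m : M) : φ' (f m) = g (φ m) := by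
  rw [← LinearMap.comp_apply, cφ, LinearMap.comp_apply]

/-- the induced map on cokernels of `ψ` -/
def cokMap (cψ : ψ' ∘ₗ g = f ∘ₗ ψ) : (M ⧸ range ψ) →ₗ[R] (M' ⧸ range ψ') :=
  Submodule.mapQ _ _ f (by
    rintro _ ⟨n, rfl⟩
    exact ⟨g n, comm_apply cψ n⟩)

@[simp] lemma cokMap_mk (cψ : ψ' ∘ₗ g = f ∘ₗ ψ) (m : M) :
    cokMap ψ ψ' f g cψ (Submodule.Quotient.mk m) = Submodule.Quotient.mk (f m) := rfl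

/-- the induced map on kernels of `φ` -/
def kerMap (cφ : φ' ∘ₗ f = g ∘ₗ φ) : ker φ →ₗ[R] ker φ' :=
  f.restrict (fun x hx => by
    rw [mem_ker] at hx ⊢
    rw [comm_apply cφ, hx, map_zero])

@[simp] lemma kerMap_coe (cφ : φ' ∘ₗ f = g ∘ₗ φ) (x : ker φ) :
    ((kerMap φ φ' f g cφ x : ker φ') : M') = f x := rfl

/-- the induced map on cohomology -/
def hMap (cφ : φ' ∘ₗ f = g ∘ₗ φ) (cψ : ψ' ∘ₗ g = f ∘ₗ ψ) : perH φ ψ →ₗ[R] perH φ' ψ' :=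
  Submodule.mapQ _ _ (kerMap φ φ' f g cφ) (by
    rintro x ⟨n, hn⟩
    exact ⟨g n, by rw [comm_apply cψ n, hn]; rfl⟩)

@[simp] lemma hMap_mk (cφ : φ' ∘ₗ f = g ∘ₗ φ) (cψ : ψ' ∘ₗ g = f ∘ₗ ψ) (x : ker φ) :
    hMap φ ψ φ' ψ' f g cφ cψ (Submodule.Quotient.mk x) =
      Submodule.Quotient.mk (kerMap φ φ' f g cφ x) := rfl

lemma vert_comm (h : IsPeriodic φ ψ) (h' : IsPeriodic φ' ψ') (cφ : φ' ∘ₗ f = g ∘ₗ φ)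
    (cψ : ψ' ∘ₗ g = f ∘ₗ ψ) :
    (kerMap ψ ψ' g f cψ).comp (vert φ ψ h) = (vert φ' ψ' h').comp (cokMap ψ ψ' f g cψ) := by
  apply LinearMap.ext
  intro y
  obtain ⟨m, rfl⟩ := Submodule.Quotient.mk_surjective _ y
  ext
  simp only [LinearMap.comp_apply, kerMap_coe, vert_mk, cokMap_mk]
  exact (comm_apply cφ m).symm

lemma incl_comm (cφ : φ' ∘ₗ f = g ∘ₗ φ) (cψ : ψ' ∘ₗ g = f ∘ₗ ψ) :
    (cokMap ψ ψ' f g cψ).comp (incl φ ψ) = (incl φ' ψ').comp (hMap φ ψ φ' ψ' f g cφ cψ) := by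
  apply LinearMap.ext
  intro y
  obtain ⟨x, rfl⟩ := Submodule.Quotient.mk_surjective _ y
  rfl

lemma proj_comm (cφ : φ' ∘ₗ f = g ∘ₗ φ) (cψ : ψ' ∘ₗ g = f ∘ₗ ψ) :
    (hMap ψ φ ψ' φ' g f cψ cφ).comp (proj φ ψ) = (proj φ' ψ').comp (kerMap ψ ψ' g f cψ) := by
  apply LinearMap.ext
  intro y
  rfl

end Morphism

section SES

variable {M₁ N₁ M₂ N₂ M₃ N₃ : Type v} [AddCommGroup M₁] [Module R M₁] [AddCommGroup N₁]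
  [Module R N₁] [AddCommGroup M₂] [Module R M₂] [AddCommGroup N₂] [Module R N₂]
  [AddCommGroup M₃] [Module R M₃] [AddCommGroup N₃] [Module R N₃]
  (φ₁ : M₁ →ₗ[R] N₁) (ψ₁ : N₁ →ₗ[R] M₁) (φ₂ : M₂ →ₗ[R] N₂) (ψ₂ : N₂ →ₗ[R] M₂)
  (φ₃ : M₃ →ₗ[R] N₃) (ψ₃ : N₃ →ₗ[R] M₃)
  (h₁ : IsPeriodic φ₁ ψ₁) (h₂ : IsPeriodic φ₂ ψ₂) (h₃ : IsPeriodic φ₃ ψ₃)
  (f₁ : M₁ →ₗ[R] M₂) (g₁ : N₁ →ₗ[R] N₂) (f₂ : M₂ →ₗ[R] M₃) (g₂ : N₂ →ₗ[R] N₃)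
  (cφ₁ : φ₂ ∘ₗ f₁ = g₁ ∘ₗ φ₁) (cψ₁ : ψ₂ ∘ₗ g₁ = f₁ ∘ₗ ψ₁)
  (cφ₂ : φ₃ ∘ₗ f₂ = g₂ ∘ₗ φ₂) (cψ₂ : ψ₃ ∘ₗ g₂ = f₂ ∘ₗ ψ₂)
  (hf₁ : Injective f₁) (hg₁ : Injective g₁) (hf₂ : Surjective f₂) (hg₂ : Surjective g₂)
  (hM : Exact f₁ f₂) (hN : Exact g₁ g₂)

include hf₂ in
lemma cokMap_surjective : Surjective (cokMap ψ₂ ψ₃ f₂ g₂ cψ₂) := by
  intro y
  obtain ⟨m, rfl⟩ := Submodule.Quotient.mk_surjective _ y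
  obtain ⟨m', rfl⟩ := hf₂ m
  exact ⟨Submodule.Quotient.mk m', rfl⟩

include hg₂ hM in
lemma cokMap_exact : Exact (cokMap ψ₁ ψ₂ f₁ g₁ cψ₁) (cokMap ψ₂ ψ₃ f₂ g₂ cψ₂) := by
  intro y
  obtain ⟨m, rfl⟩ := Submodule.Quotient.mk_surjective _ y
  constructor
  · intro hy
    rw [cokMap_mk, Submodule.Quotient.mk_eq_zero] at hy
    obtain ⟨n₃, hn₃⟩ := hy
    obtain ⟨n₂, rfl⟩ := hg₂ n₃
    have h0 : f₂ (m - ψ₂ n₂) = 0 := by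
      rw [map_sub, ← hn₃, comm_apply cψ₂, sub_self]
    obtain ⟨m₁, hm₁⟩ := (hM _).mp h0
    refine ⟨Submodule.Quotient.mk m₁, ?_⟩
    rw [cokMap_mk, hm₁, Submodule.Quotient.mk_sub, sub_eq_self, Submodule.Quotient.mk_eq_zero]
    exact ⟨n₂, rfl⟩
  · rintro ⟨x, hx⟩
    obtain ⟨m₁, rfl⟩ := Submodule.Quotient.mk_surjective _ x
    rw [← hx, cokMap_mk, cokMap_mk, hM.apply_apply_eq_zero, Submodule.Quotient.mk_zero]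

include hg₁ in
lemma kerMap_injective : Injective (kerMap ψ₁ ψ₂ g₁ f₁ cψ₁) := by
  intro x y hxy
  apply Subtype.ext
  apply hg₁
  exact congrArg Subtype.val hxy

include hf₁ hN in
lemma kerMap_exact : Exact (kerMap ψ₁ ψ₂ g₁ f₁ cψ₁) (kerMap ψ₂ ψ₃ g₂ f₂ cψ₂) := by
  intro y
  constructor
  · intro hy
    have h0 : g₂ (y : N₂) = 0 := congrArg Subtype.val hy
    obtain ⟨n₁, hn₁⟩ := (hN _).mp h0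
    have hker : n₁ ∈ ker ψ₁ := by
      rw [mem_ker]
      apply hf₁
      rw [map_zero, ← comm_apply cψ₁, hn₁]
      exact y.2
    exact ⟨⟨n₁, hker⟩, Subtype.ext hn₁⟩
  · rintro ⟨x, rfl⟩
    apply Subtype.ext
    simp only [kerMap_coe, ZeroMemClass.coe_zero]
    exact hN.apply_apply_eq_zero _

include h₂ hg₁ hg₂ hM in
lemma hMap_exact : Exact (hMap φ₁ ψ₁ φ₂ ψ₂ f₁ g₁ cφ₁ cψ₁) (hMap φ₂ ψ₂ φ₃ ψ₃ f₂ g₂ cφ₂ cψ₂) := by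
  intro y
  obtain ⟨x, rfl⟩ := Submodule.Quotient.mk_surjective _ y
  constructor
  · intro hy
    rw [hMap_mk, Submodule.Quotient.mk_eq_zero] at hy
    obtain ⟨n₃, hn₃⟩ := hy
    have hn₃' : ψ₃ n₃ = f₂ x := hn₃
    obtain ⟨n₂, rfl⟩ := hg₂ n₃
    have h0 : f₂ ((x : M₂) - ψ₂ n₂) = 0 := by
      rw [map_sub, ← hn₃', comm_apply cψ₂, sub_self]
    obtain ⟨m₁, hm₁⟩ := (hM _).mp h0
    have hker : m₁ ∈ ker φ₁ := by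
      rw [mem_ker]
      apply hg₁
      rw [map_zero, ← comm_apply cφ₁, hm₁, map_sub, per_apply₁ h₂, sub_zero]
      exact x.2
    refine ⟨Submodule.Quotient.mk ⟨m₁, hker⟩, ?_⟩
    rw [hMap_mk, Submodule.Quotient.eq]
    refine ⟨-n₂, ?_⟩
    simp only [map_neg, Submodule.subtype_apply, Submodule.coe_sub, kerMap_coe, hm₁]
    abel
  · rintro ⟨z, hz⟩
    obtain ⟨m₁, rfl⟩ := Submodule.Quotient.mk_surjective _ z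
    rw [← hz, hMap_mk, hMap_mk, Submodule.Quotient.mk_eq_zero]
    refine ⟨0, ?_⟩
    simp only [map_zero, Submodule.subtype_apply, kerMap_coe]
    exact (hM.apply_apply_eq_zero _).symm

include h₁ h₂ h₃ hf₁ hg₁ hf₂ hg₂ hM hN in
/-- half of the exact hexagon: `H⁰₂ → H⁰₃ → H¹₁ → H¹₂` -/
theorem half_hexagon : ∃ δ : perH φ₃ ψ₃ →ₗ[R] perH ψ₁ φ₁,
    Exact (hMap φ₂ ψ₂ φ₃ ψ₃ f₂ g₂ cφ₂ cψ₂) δ ∧ Exact δ (hMap ψ₁ φ₁ ψ₂ φ₂ g₁ f₁ cψ₁ cφ₁) := by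
  have hcok := cokMap_exact ψ₁ ψ₂ ψ₃ f₁ g₁ f₂ g₂ cψ₁ cψ₂ hg₂ hM
  have hker := kerMap_exact ψ₁ ψ₂ ψ₃ f₁ g₁ f₂ g₂ cψ₁ cψ₂ hf₁ hN
  have hs := cokMap_surjective ψ₂ ψ₃ f₂ g₂ cψ₂ hf₂
  have hi := kerMap_injective ψ₁ ψ₂ f₁ g₁ cψ₁ hg₁
  have hc₁ := vert_comm φ₁ ψ₁ φ₂ ψ₂ f₁ g₁ h₁ h₂ cφ₁ cψ₁
  have hc₂ := vert_comm φ₂ ψ₂ φ₃ ψ₃ f₂ g₂ h₂ h₃ cφ₂ cψ₂
  refine ⟨SnakeLemma.δ' (vert φ₁ ψ₁ h₁) (vert φ₂ ψ₂ h₂) (vert φ₃ ψ₃ h₃) _ _ hcok _ _ hker hc₁ hc₂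
    (incl φ₃ ψ₃) (exact_incl_vert φ₃ ψ₃ h₃) (proj φ₁ ψ₁) (exact_vert_proj φ₁ ψ₁ h₁) hs hi, ?_, ?_⟩
  · exact SnakeLemma.exact_δ'_right (vert φ₁ ψ₁ h₁) (vert φ₂ ψ₂ h₂) (vert φ₃ ψ₃ h₃) _ _ hcok _ _
      hker hc₁ hc₂ (incl φ₂ ψ₂) (exact_incl_vert φ₂ ψ₂ h₂) (incl φ₃ ψ₃) (exact_incl_vert φ₃ ψ₃ h₃)
      (proj φ₁ ψ₁) (exact_vert_proj φ₁ ψ₁ h₁) hs hi _
      (incl_comm φ₂ ψ₂ φ₃ ψ₃ f₂ g₂ cφ₂ cψ₂) (incl_injective φ₃ ψ₃)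
  · exact SnakeLemma.exact_δ'_left (vert φ₁ ψ₁ h₁) (vert φ₂ ψ₂ h₂) (vert φ₃ ψ₃ h₃) _ _ hcok _ _
      hker hc₁ hc₂ (incl φ₃ ψ₃) (exact_incl_vert φ₃ ψ₃ h₃)
      (proj φ₁ ψ₁) (exact_vert_proj φ₁ ψ₁ h₁) (proj φ₂ ψ₂) (exact_vert_proj φ₂ ψ₂ h₂) hs hi _
      (proj_comm φ₁ ψ₁ φ₂ ψ₂ f₁ g₁ cφ₁ cψ₁) (proj_surjective φ₁ ψ₁)

end SES

section Length

lemma length_of_exact {A B C : Type v} [AddCommGroup A] [Module R A] [AddCommGroup B] [Module R B]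
    [AddCommGroup C] [Module R C] (a : A →ₗ[R] B) (b : B →ₗ[R] C) (h : Exact a b) :
    Module.length R B = Module.length R (range a) + Module.length R (range b) := by
  apply Module.length_eq_add_of_exact (range a).subtype b.rangeRestrict
    (Submodule.injective_subtype _) (surjective_rangeRestrict b)
  intro y
  constructor
  · intro hy
    have h0 : b y = 0 := congrArg Subtype.val hy
    obtain ⟨x, hx⟩ := (h y).mp h0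
    exact ⟨⟨y, ⟨x, hx⟩⟩, rfl⟩
  · rintro ⟨⟨_, ⟨x, rfl⟩⟩, rfl⟩
    apply Subtype.ext
    exact h.apply_apply_eq_zero x

lemma enat_hexagon (r1 r2 r3 r4 r5 r6 l1 l2 l3 l4 l5 l6 : ℕ∞)
    (e1 : l1 = r6 + r1) (e2 : l2 = r1 + r2) (e3 : l3 = r2 + r3) (e4 : l4 = r3 + r4)
    (e5 : l5 = r4 + r5) (e6 : l6 = r5 + r6)
    (htwo : ((l1 < ⊤ ∧ l4 < ⊤) ∧ (l2 < ⊤ ∧ l5 < ⊤)) ∨ ((l1 < ⊤ ∧ l4 < ⊤) ∧ (l3 < ⊤ ∧ l6 < ⊤)) ∨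
      ((l2 < ⊤ ∧ l5 < ⊤) ∧ (l3 < ⊤ ∧ l6 < ⊤))) :
    (l1 < ⊤ ∧ l4 < ⊤) ∧ (l2 < ⊤ ∧ l5 < ⊤) ∧ (l3 < ⊤ ∧ l6 < ⊤) ∧
      ((l2.toNat : ℤ) - (l5.toNat : ℤ) =
        ((l1.toNat : ℤ) - (l4.toNat : ℤ)) + ((l3.toNat : ℤ) - (l6.toNat : ℤ))) := by
  have hall : r1 < ⊤ ∧ r2 < ⊤ ∧ r3 < ⊤ ∧ r4 < ⊤ ∧ r5 < ⊤ ∧ r6 < ⊤ := by
    subst e1 e2 e3 e4 e5 e6
    simp only [ENat.add_lt_top] at htwo
    rcases htwo with h | h | h <;> tauto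
  obtain ⟨h1, h2, h3, h4, h5, h6⟩ := hall
  lift r1 to ℕ using h1.ne
  lift r2 to ℕ using h2.ne
  lift r3 to ℕ using h3.ne
  lift r4 to ℕ using h4.ne
  lift r5 to ℕ using h5.ne
  lift r6 to ℕ using h6.ne
  subst e1 e2 e3 e4 e5 e6
  refine ⟨⟨?_, ?_⟩, ⟨?_, ?_⟩, ⟨?_, ?_⟩, ?_⟩
  any_goals (rw [← Nat.cast_add]; exact ENat.natCast_lt_top _)
  simp only [← Nat.cast_add, ENat.toNat_natCast]
  push_cast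
  ring

end Length

section Main

variable {M₁ N₁ M₂ N₂ M₃ N₃ : Type v} [AddCommGroup M₁] [Module R M₁] [AddCommGroup N₁]
  [Module R N₁] [AddCommGroup M₂] [Module R M₂] [AddCommGroup N₂] [Module R N₂]
  [AddCommGroup M₃] [Module R M₃] [AddCommGroup N₃] [Module R N₃]

theorem main_1869 (φ₁ : M₁ →ₗ[R] N₁) (ψ₁ : N₁ →ₗ[R] M₁) (φ₂ : M₂ →ₗ[R] N₂) (ψ₂ : N₂ →ₗ[R] M₂)
    (φ₃ : M₃ →ₗ[R] N₃) (ψ₃ : N₃ →ₗ[R] M₃)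
    (h₁ : IsPeriodic φ₁ ψ₁) (h₂ : IsPeriodic φ₂ ψ₂) (h₃ : IsPeriodic φ₃ ψ₃)
    (f₁ : M₁ →ₗ[R] M₂) (g₁ : N₁ →ₗ[R] N₂) (f₂ : M₂ →ₗ[R] M₃) (g₂ : N₂ →ₗ[R] N₃)
    (cφ₁ : φ₂ ∘ₗ f₁ = g₁ ∘ₗ φ₁) (cψ₁ : ψ₂ ∘ₗ g₁ = f₁ ∘ₗ ψ₁)
    (cφ₂ : φ₃ ∘ₗ f₂ = g₂ ∘ₗ φ₂) (cψ₂ : ψ₃ ∘ₗ g₂ = f₂ ∘ₗ ψ₂)
    (hf₁ : Injective f₁) (hg₁ : Injective g₁) (hf₂ : Surjective f₂) (hg₂ : Surjective g₂)
    (hM : Exact f₁ f₂) (hN : Exact g₁ g₂)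
    (htwo : (FinCoh R φ₁ ψ₁ ∧ FinCoh R φ₂ ψ₂) ∨ (FinCoh R φ₁ ψ₁ ∧ FinCoh R φ₃ ψ₃) ∨
      (FinCoh R φ₂ ψ₂ ∧ FinCoh R φ₃ ψ₃)) :
    FinCoh R φ₁ ψ₁ ∧ FinCoh R φ₂ ψ₂ ∧ FinCoh R φ₃ ψ₃ ∧
      herbrand R φ₂ ψ₂ = herbrand R φ₁ ψ₁ + herbrand R φ₃ ψ₃ := by
  obtain ⟨δ, hδ₁, hδ₂⟩ := half_hexagon φ₁ ψ₁ φ₂ ψ₂ φ₃ ψ₃ h₁ h₂ h₃ f₁ g₁ f₂ g₂ cφ₁ cψ₁ cφ₂ cψ₂
    hf₁ hg₁ hf₂ hg₂ hM hN
  obtain ⟨δ', hδ'₁, hδ'₂⟩ := half_hexagon ψ₁ φ₁ ψ₂ φ₂ ψ₃ φ₃ (per_symm h₁) (per_symm h₂)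
    (per_symm h₃) g₁ f₁ g₂ f₂ cψ₁ cφ₁ cψ₂ cφ₂ hg₁ hf₁ hg₂ hf₂ hN hM
  have hE0 := hMap_exact φ₁ ψ₁ φ₂ ψ₂ φ₃ ψ₃ h₂ f₁ g₁ f₂ g₂ cφ₁ cψ₁ cφ₂ cψ₂ hg₁ hg₂ hM
  have hE1 := hMap_exact ψ₁ φ₁ ψ₂ φ₂ ψ₃ φ₃ (per_symm h₂) g₁ f₁ g₂ f₂ cψ₁ cφ₁ cψ₂ cφ₂ hf₁ hf₂ hN
  have e1 := length_of_exact _ _ hδ'₂
  have e2 := length_of_exact _ _ hE0
  have e3 := length_of_exact _ _ hδ₁
  have e4 := length_of_exact _ _ hδ₂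
  have e5 := length_of_exact _ _ hE1
  have e6 := length_of_exact _ _ hδ'₁
  exact enat_hexagon _ _ _ _ _ _ _ _ _ _ _ _ e1 e2 e3 e4 e5 e6 htwo

end Main

end Groth.Agent.Lib.Helper26.Herb1
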