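import Mathlib
import Groth.Prelude.Def_CycAlg
import Groth.Agent.Lib.Helper26.Herb1

set_option autoImplicit false
set_option linter.style.haveILetI false
set_option linter.unusedSectionVars false

namespace Groth.Agent.Lib.Helper26.Herb2

open Function LinearMap CycAlg
open Groth.Agent.Lib.Helper26.Herb1

universe u v

variable {R : Type u} [CommRing R]

section Finite

variable {M : Type v} [AddCommGroup M] [Module R M]

lemma length_ker_add_range {N : Type v} [AddCommGroup N] [Module R N] (φ : M →ₗ[R] N) :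
    Module.length R M = Module.length R (ker φ) + Module.length R (range φ) := by
  apply Module.length_eq_add_of_exact (ker φ).subtype φ.rangeRestrict
    (Submodule.injective_subtype _) (surjective_rangeRestrict φ)
  intro y
  constructor
  · intro hy
    have h0 : φ y = 0 := congrArg Subtype.val hy
    exact ⟨⟨y, h0⟩, rfl⟩
  · rintro ⟨⟨x, hx⟩, rfl⟩
    apply Subtype.ext
    exact hx

lemma length_ker_eq {N : Type v} [AddCommGroup N] [Module R N] (φ : M →ₗ[R] N) (ψ : N →ₗ[R] M)
    (h : IsPeriodic φ ψ) :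
    Module.length R (ker φ) = Module.length R (range ψ) + Module.length R (perH φ ψ) := by
  have hle : range ψ ≤ ker φ := by
    rintro _ ⟨n, rfl⟩
    exact per_apply₁ h n
  have := Module.length_eq_add_of_exact ((range ψ).submoduleOf (ker φ)).subtype
    (Submodule.mkQ _) (Submodule.injective_subtype _) (Submodule.mkQ_surjective _)
    (LinearMap.exact_subtype_mkQ _)
  rw [this, (Submodule.submoduleOfEquivOfLe hle).length_eq]

theorem herbrand_eq_zero_of_finite (φ ψ : M →ₗ[R] M) (h : IsPeriodic φ ψ)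
    (hfin : Module.length R M < ⊤) : FinCoh R φ ψ ∧ herbrand R φ ψ = 0 := by
  have e1 := length_ker_add_range φ
  have e2 := length_ker_add_range ψ
  have e3 := length_ker_eq φ ψ h
  have e4 := length_ker_eq ψ φ (per_symm h)
  rw [e3] at e1
  rw [e4] at e2
  rw [FinCoh, herbrand]
  generalize Module.length R (perH φ ψ) = H0 at *
  generalize Module.length R (perH ψ φ) = H1 at *
  generalize Module.length R (range φ) = rφ at *
  generalize Module.length R (range ψ) = rψ at *
  generalize Module.length R M = l at *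
  rw [e1] at hfin
  have hfin2 := hfin
  rw [← e1, e2] at hfin2
  simp only [ENat.add_lt_top] at hfin hfin2
  obtain ⟨⟨h1, h2⟩, h3⟩ := hfin
  obtain ⟨⟨-, h4⟩, -⟩ := hfin2
  lift H0 to ℕ using h2.ne
  lift H1 to ℕ using h4.ne
  lift rφ to ℕ using h3.ne
  lift rψ to ℕ using h1.ne
  rw [e1] at e2
  have : rψ + H0 + rφ = rφ + H1 + rψ := by exact_mod_cast e2
  refine ⟨⟨ENat.natCast_lt_top _, ENat.natCast_lt_top _⟩, ?_⟩
  simp only [ENat.toNat_natCast]
  omega

end Finite

section Main

variable {M M' : Type v} [AddCommGroup M] [Module R M] [AddCommGroup M'] [Module R M']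

/-- restriction of a periodic complex to a stable submodule, and the quotient: additivity. -/
theorem herbrand_sub_quot (φ ψ : M →ₗ[R] M) (h : IsPeriodic φ ψ) (P : Submodule R M)
    (hφ : ∀ x ∈ P, φ x ∈ P) (hψ : ∀ x ∈ P, ψ x ∈ P)
    (htwo : (FinCoh R (φ.restrict hφ) (ψ.restrict hψ) ∧ FinCoh R φ ψ) ∨
      (FinCoh R (φ.restrict hφ) (ψ.restrict hψ) ∧ FinCoh R (P.mapQ P φ hφ) (P.mapQ P ψ hψ)) ∨
      (FinCoh R φ ψ ∧ FinCoh R (P.mapQ P φ hφ) (P.mapQ P ψ hψ))) :
    FinCoh R (φ.restrict hφ) (ψ.restrict hψ) ∧ FinCoh R φ ψ ∧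
      FinCoh R (P.mapQ P φ hφ) (P.mapQ P ψ hψ) ∧
      herbrand R φ ψ = herbrand R (φ.restrict hφ) (ψ.restrict hψ) +
        herbrand R (P.mapQ P φ hφ) (P.mapQ P ψ hψ) := by
  have hP : IsPeriodic (φ.restrict hφ) (ψ.restrict hψ) := by
    constructor
    · apply LinearMap.ext; intro x; apply Subtype.ext; exact per_apply₁ h x
    · apply LinearMap.ext; intro x; apply Subtype.ext; exact per_apply₂ h x
  have hQ : IsPeriodic (P.mapQ P φ hφ) (P.mapQ P ψ hψ) := by
    constructor
    · apply LinearMap.ext; intro x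
      obtain ⟨x, rfl⟩ := Submodule.Quotient.mk_surjective _ x
      simp only [LinearMap.comp_apply, Submodule.mapQ_apply, LinearMap.zero_apply]
      rw [per_apply₁ h x, Submodule.Quotient.mk_zero]
    · apply LinearMap.ext; intro x
      obtain ⟨x, rfl⟩ := Submodule.Quotient.mk_surjective _ x
      simp only [LinearMap.comp_apply, Submodule.mapQ_apply, LinearMap.zero_apply]
      rw [per_apply₂ h x, Submodule.Quotient.mk_zero]
  exact main_1869 (φ.restrict hφ) (ψ.restrict hψ) φ ψ (P.mapQ P φ hφ) (P.mapQ P ψ hψ) hP h hQ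
    P.subtype P.subtype P.mkQ P.mkQ (by apply LinearMap.ext; intro x; rfl)
    (by apply LinearMap.ext; intro x; rfl) (by apply LinearMap.ext; intro x; rfl)
    (by apply LinearMap.ext; intro x; rfl) (Submodule.injective_subtype _)
    (Submodule.injective_subtype _) (Submodule.mkQ_surjective _) (Submodule.mkQ_surjective _)
    (LinearMap.exact_subtype_mkQ P) (LinearMap.exact_subtype_mkQ P) htwo

theorem main_1870 (φ ψ : M →ₗ[R] M) (φ' ψ' : M' →ₗ[R] M') (h : IsPeriodic φ ψ)
    (h' : IsPeriodic φ' ψ') (f : M →ₗ[R] M') (cφ : φ' ∘ₗ f = f ∘ₗ φ) (cψ : ψ' ∘ₗ f = f ∘ₗ ψ)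
    (hfin : FinCoh R φ ψ) (hfin' : FinCoh R φ' ψ')
    (hker : Module.length R (ker f) < ⊤) (hcoker : Module.length R (M' ⧸ range f) < ⊤) :
    herbrand R φ ψ = herbrand R φ' ψ' := by
  have hφK : ∀ x ∈ ker f, φ x ∈ ker f := by
    intro x hx
    rw [mem_ker] at hx ⊢
    rw [← comm_apply cφ, hx, map_zero]
  have hψK : ∀ x ∈ ker f, ψ x ∈ ker f := by
    intro x hx
    rw [mem_ker] at hx ⊢
    rw [← comm_apply cψ, hx, map_zero]
  have hφI : ∀ y ∈ range f, φ' y ∈ range f := by
    rintro _ ⟨x, rfl⟩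
    exact ⟨φ x, (comm_apply cφ x).symm⟩
  have hψI : ∀ y ∈ range f, ψ' y ∈ range f := by
    rintro _ ⟨x, rfl⟩
    exact ⟨ψ x, (comm_apply cψ x).symm⟩
  have hK : IsPeriodic (φ.restrict hφK) (ψ.restrict hψK) := by
    constructor
    · apply LinearMap.ext; intro x; apply Subtype.ext; exact per_apply₁ h x
    · apply LinearMap.ext; intro x; apply Subtype.ext; exact per_apply₂ h x
  have hI : IsPeriodic (φ'.restrict hφI) (ψ'.restrict hψI) := by
    constructor
    · apply LinearMap.ext; intro x; apply Subtype.ext; exact per_apply₁ h' x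
    · apply LinearMap.ext; intro x; apply Subtype.ext; exact per_apply₂ h' x
  obtain ⟨hKfin, hK0⟩ := herbrand_eq_zero_of_finite _ _ hK hker
  have hexact : Exact (ker f).subtype f.rangeRestrict := by
    intro y
    constructor
    · intro hy
      have h0 : f y = 0 := congrArg Subtype.val hy
      exact ⟨⟨y, h0⟩, rfl⟩
    · rintro ⟨⟨x, hx⟩, rfl⟩
      apply Subtype.ext
      exact hx
  have key1 := main_1869 (φ.restrict hφK) (ψ.restrict hψK) φ ψ (φ'.restrict hφI)
    (ψ'.restrict hψI) hK h hI (ker f).subtype (ker f).subtype f.rangeRestrict f.rangeRestrict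
    (by apply LinearMap.ext; intro x; rfl) (by apply LinearMap.ext; intro x; rfl)
    (by apply LinearMap.ext; intro x; apply Subtype.ext; exact comm_apply cφ x)
    (by apply LinearMap.ext; intro x; apply Subtype.ext; exact comm_apply cψ x)
    (Submodule.injective_subtype _) (Submodule.injective_subtype _)
    (surjective_rangeRestrict f) (surjective_rangeRestrict f) hexact hexact
    (Or.inl ⟨hKfin, hfin⟩)
  obtain ⟨-, -, hIfin, hadd1⟩ := key1
  have key2 := herbrand_sub_quot φ' ψ' h' (range f) hφI hψI (Or.inl ⟨hIfin, hfin'⟩)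
  obtain ⟨-, -, -, hadd2⟩ := key2
  have hQ : IsPeriodic ((range f).mapQ (range f) φ' hφI) ((range f).mapQ (range f) ψ' hψI) := by
    constructor
    · apply LinearMap.ext; intro x
      obtain ⟨x, rfl⟩ := Submodule.Quotient.mk_surjective _ x
      simp only [LinearMap.comp_apply, Submodule.mapQ_apply, LinearMap.zero_apply]
      rw [per_apply₁ h' x, Submodule.Quotient.mk_zero]
    · apply LinearMap.ext; intro x
      obtain ⟨x, rfl⟩ := Submodule.Quotient.mk_surjective _ x
      simp only [LinearMap.comp_apply, Submodule.mapQ_apply, LinearMap.zero_apply]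
      rw [per_apply₂ h' x, Submodule.Quotient.mk_zero]
  obtain ⟨-, hC0⟩ := herbrand_eq_zero_of_finite _ _ hQ hcoker
  rw [hadd1, hadd2, hK0, hC0]
  ring

end Main

end Groth.Agent.Lib.Helper26.Herb2
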