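import Mathlib
import Groth.Prelude.Def_CycAlg
import Groth.Agent.Lib.Helper26.Herb2
import Groth.Agent.Lib.Helper12.MultFormula

set_option autoImplicit false
set_option linter.style.haveILetI false
set_option linter.unusedSectionVars false

namespace Groth.Agent.Lib.Helper26.Herb3

open Function LinearMap CycAlg
open scoped Pointwise
open Groth.Agent.Lib.Helper26.Herb1 Groth.Agent.Lib.Helper26.Herb2

universe u v

variable {R : Type u} [CommRing R]

section Seq

variable {M : Type v} [AddCommGroup M] [Module R M] (φ ψ : M →ₗ[R] M) (x : R)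

/-- first exact sequence: `0 → H⁰(φ,ψ) → H⁰(xφ,ψ) → (im φ)[x] → 0` -/
theorem length_H0_smul (h : IsPeriodic φ ψ) :
    Module.length R (perH (x • φ) ψ) = Module.length R (perH φ ψ) +
      Module.length R (LinearMap.ker (x • (LinearMap.id : ↥(range φ) →ₗ[R] ↥(range φ)))) := by
  have hle : ker φ ≤ ker (x • φ) := by
    intro m hm
    rw [mem_ker] at hm
    rw [mem_ker, LinearMap.smul_apply, hm, smul_zero]
  let a : perH φ ψ →ₗ[R] perH (x • φ) ψ :=
    Submodule.mapQ _ _ (Submodule.inclusion hle) (by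
      rintro m ⟨n, hn⟩
      exact ⟨n, hn⟩)
  let b₀ : ker (x • φ) →ₗ[R] LinearMap.ker (x • (LinearMap.id : ↥(range φ) →ₗ[R] ↥(range φ))) :=
    { toFun := fun m => ⟨⟨φ m, ⟨m, rfl⟩⟩, by
        rw [mem_ker, LinearMap.smul_apply, LinearMap.id_apply]
        apply Subtype.ext
        have := m.2
        rw [mem_ker, LinearMap.smul_apply] at this
        exact this⟩
      map_add' := fun m m' => by
        apply Subtype.ext; apply Subtype.ext
        simp
      map_smul' := fun c m => by
        apply Subtype.ext; apply Subtype.ext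
        simp }
  have hb₀ : ∀ m : ker (x • φ), ((b₀ m : ↥(range φ)) : M) = φ m := fun m => rfl
  let b : perH (x • φ) ψ →ₗ[R]
      LinearMap.ker (x • (LinearMap.id : ↥(range φ) →ₗ[R] ↥(range φ))) :=
    Submodule.liftQ _ b₀ (by
      rintro m ⟨n, hn⟩
      rw [mem_ker]
      apply Subtype.ext; apply Subtype.ext
      rw [hb₀]
      have hn' : ψ n = (m : M) := hn
      rw [← hn']
      exact per_apply₁ h n)
  have hb : ∀ m : ker (x • φ), ((b (Submodule.Quotient.mk m) : ↥(range φ)) : M) = φ m :=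
    fun m => rfl
  apply Module.length_eq_add_of_exact a b
  · -- injective
    rw [injective_iff_map_eq_zero]
    intro y hy
    obtain ⟨m, rfl⟩ := Submodule.Quotient.mk_surjective _ y
    have : a (Submodule.Quotient.mk m) = Submodule.Quotient.mk (Submodule.inclusion hle m) := rfl
    rw [this, Submodule.Quotient.mk_eq_zero] at hy
    rw [Submodule.Quotient.mk_eq_zero]
    obtain ⟨n, hn⟩ := hy
    exact ⟨n, hn⟩
  · -- surjective
    rintro ⟨⟨_, ⟨m, rfl⟩⟩, hm⟩
    have hm' : m ∈ ker (x • φ) := by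
      rw [mem_ker, LinearMap.smul_apply, LinearMap.id_apply] at hm
      rw [mem_ker, LinearMap.smul_apply]
      exact congrArg Subtype.val hm
    exact ⟨Submodule.Quotient.mk ⟨m, hm'⟩, by apply Subtype.ext; apply Subtype.ext; rfl⟩
  · -- exact
    intro y
    obtain ⟨m, rfl⟩ := Submodule.Quotient.mk_surjective _ y
    constructor
    · intro hy
      have h0 : φ m = 0 := by
        rw [← hb, hy]; rfl
      exact ⟨Submodule.Quotient.mk ⟨m, h0⟩, rfl⟩
    · rintro ⟨z, hz⟩
      obtain ⟨m', rfl⟩ := Submodule.Quotient.mk_surjective _ z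
      rw [← hz]
      apply Subtype.ext; apply Subtype.ext
      have : a (Submodule.Quotient.mk m') = Submodule.Quotient.mk (Submodule.inclusion hle m') := rfl
      rw [this, hb]
      exact m'.2

/-- second exact sequence: `0 → im φ / x im φ → H¹(xφ,ψ) → H¹(φ,ψ) → 0` -/
theorem length_H1_smul (h : IsPeriodic φ ψ) :
    Module.length R (perH ψ (x • φ)) =
      Module.length R (↥(range φ) ⧸ x • (⊤ : Submodule R ↥(range φ))) +
        Module.length R (perH ψ φ) := by
  have hle : range φ ≤ ker ψ := by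
    rintro _ ⟨m, rfl⟩
    exact per_apply₂ h m
  let c : (↥(range φ) ⧸ x • (⊤ : Submodule R ↥(range φ))) →ₗ[R] perH ψ (x • φ) :=
    Submodule.mapQ _ _ (Submodule.inclusion hle) (by
      intro y hy
      obtain ⟨z, -, rfl⟩ := (Submodule.mem_smul_pointwise_iff_exists _ _ _).mp hy
      obtain ⟨m, hm⟩ := z.2
      refine ⟨m, ?_⟩
      show (x • φ) m = ((x • z : ↥(range φ)) : M)
      rw [LinearMap.smul_apply, hm]
      rfl)
  have hc : ∀ z : ↥(range φ), c (Submodule.Quotient.mk z) =
      Submodule.Quotient.mk (Submodule.inclusion hle z) := fun z => rfl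
  let d : perH ψ (x • φ) →ₗ[R] perH ψ φ :=
    Submodule.mapQ _ _ LinearMap.id (by
      rintro n ⟨m, hm⟩
      exact ⟨x • m, by rw [map_smul]; exact hm⟩)
  have hd : ∀ n : ker ψ, d (Submodule.Quotient.mk n) = Submodule.Quotient.mk n := fun n => rfl
  apply Module.length_eq_add_of_exact c d
  · rw [injective_iff_map_eq_zero]
    intro y hy
    obtain ⟨z, rfl⟩ := Submodule.Quotient.mk_surjective _ y
    rw [hc, Submodule.Quotient.mk_eq_zero] at hy
    obtain ⟨m, hm⟩ := hy
    have hm' : x • φ m = (z : M) := hm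
    rw [Submodule.Quotient.mk_eq_zero]
    have : z = x • (⟨φ m, ⟨m, rfl⟩⟩ : ↥(range φ)) := by
      apply Subtype.ext
      exact hm'.symm
    rw [this]
    exact Submodule.smul_mem_pointwise_smul _ _ _ trivial
  · intro y
    obtain ⟨n, rfl⟩ := Submodule.Quotient.mk_surjective _ y
    exact ⟨Submodule.Quotient.mk n, rfl⟩
  · intro y
    obtain ⟨n, rfl⟩ := Submodule.Quotient.mk_surjective _ y
    constructor
    · intro hy
      rw [hd, Submodule.Quotient.mk_eq_zero] at hy
      obtain ⟨m, hm⟩ := hy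
      have hm' : φ m = (n : M) := hm
      refine ⟨Submodule.Quotient.mk ⟨φ m, ⟨m, rfl⟩⟩, ?_⟩
      rw [hc]
      congr 1
      apply Subtype.ext
      exact hm'
    · rintro ⟨w, hw⟩
      obtain ⟨z, rfl⟩ := Submodule.Quotient.mk_surjective _ w
      rw [← hw, hc, hd, Submodule.Quotient.mk_eq_zero]
      obtain ⟨m, hm⟩ := z.2
      exact ⟨m, hm⟩

end Seq

section Zero

variable {I : Type v} [AddCommGroup I] [Module R I] (x : R)

lemma length_perH_zero_smul :
    Module.length R (perH (0 : I →ₗ[R] I) (x • LinearMap.id)) =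
      Module.length R (I ⧸ x • (⊤ : Submodule R I)) := by
  have hk : ker (0 : I →ₗ[R] I) = ⊤ := LinearMap.ker_zero
  let e : ↥(ker (0 : I →ₗ[R] I)) ≃ₗ[R] I := LinearEquiv.ofTop _ hk
  refine (Submodule.Quotient.equiv _ _ e ?_).length_eq
  ext v
  simp only [Submodule.mem_map, Submodule.mem_smul_pointwise_iff_exists, Submodule.mem_top,
    true_and]
  constructor
  · rintro ⟨w, ⟨n, hn⟩, rfl⟩
    refine ⟨n, ?_⟩
    have hn' : x • n = (w : I) := hn
    exact hn'
  · rintro ⟨n, rfl⟩
    refine ⟨⟨x • n, by rw [hk]; trivial⟩, ⟨n, rfl⟩, rfl⟩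

lemma length_perH_smul_zero :
    Module.length R (perH (x • (LinearMap.id : I →ₗ[R] I)) (0 : I →ₗ[R] I)) =
      Module.length R (ker (x • (LinearMap.id : I →ₗ[R] I))) := by
  refine (Submodule.quotEquivOfEqBot _ ?_).length_eq
  rw [eq_bot_iff]
  rintro w ⟨n, hn⟩
  rw [Submodule.mem_bot]
  apply Subtype.ext
  have hn' : (0 : I) = (w : I) := hn
  rw [← hn']
  rfl

end Zero

section Main

open Groth.Agent.Lib.Helper12.MultFormula

variable [IsNoetherianRing R] [IsLocalRing R] {M : Type v} [AddCommGroup M] [Module R M]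
  [Module.Finite R M]

lemma cond_of_supportDim (x : R)
    (hx : Module.supportDim R (M ⧸ x • (⊤ : Submodule R M)) ≤ 0) :
    ∀ q ∈ Module.support R M, x ∈ q.asIdeal → q = IsLocalRing.closedPoint R := by
  intro q hq hxq
  have hq' : q ∈ Module.support R (QuotSMulTop x M) := by
    rw [Module.support_quotSMulTop]
    exact ⟨hq, by rw [PrimeSpectrum.mem_zeroLocus, Set.singleton_subset_iff]; exact hxq⟩
  have hle : q ≤ IsLocalRing.closedPoint R := IsLocalRing.le_maximalIdeal q.2.ne_top
  have hc' : IsLocalRing.closedPoint R ∈ Module.support R (QuotSMulTop x M) :=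
    Module.mem_support_mono hle hq'
  rw [Module.supportDim, Order.krullDim_nonpos_iff_forall_isMax] at hx
  have := hx ⟨q, hq'⟩ (b := ⟨IsLocalRing.closedPoint R, hc'⟩) hle
  exact le_antisymm hle this

theorem half_1832 (φ ψ : M →ₗ[R] M) (hper : IsPeriodic φ ψ) (hfin : FinCoh R φ ψ) (x : R)
    (hx : Module.supportDim R (M ⧸ x • (⊤ : Submodule R M)) ≤ 0) :
    FinCoh R (x • φ) ψ ∧ herbrand R (x • φ) ψ = herbrand R φ ψ -
      herbrand R (0 : ↥(range φ) →ₗ[R] ↥(range φ)) (x • LinearMap.id) := by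
  have hC : Cond x ↥(range φ) := by
    intro q hq hxq
    exact cond_of_supportDim x hx q
      (Module.support_subset_of_injective (range φ).subtype (Submodule.injective_subtype _) hq) hxq
  have hk := length_ker_lt_top hC
  have hq := length_quot_lt_top hC
  have e0 := length_H0_smul φ ψ x hper
  have e1 := length_H1_smul φ ψ x hper
  have z0 := length_perH_zero_smul (I := ↥(range φ)) x
  have z1 := length_perH_smul_zero (I := ↥(range φ)) x
  obtain ⟨f0, f1⟩ := hfin
  rw [herbrand, herbrand, herbrand, FinCoh, e0, e1, z0, z1]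
  change Module.length R (↥(range φ) ⧸ x • (⊤ : Submodule R ↥(range φ))) < ⊤ at hq
  generalize Module.length R (perH φ ψ) = L0 at *
  generalize Module.length R (perH ψ φ) = L1 at *
  generalize Module.length R (ker (x • (LinearMap.id : ↥(range φ) →ₗ[R] ↥(range φ)))) = K at *
  generalize Module.length R (↥(range φ) ⧸ x • (⊤ : Submodule R ↥(range φ))) = Q at *
  lift L0 to ℕ using f0.ne
  lift L1 to ℕ using f1.ne
  lift K to ℕ using hk.ne
  lift Q to ℕ using hq.ne
  refine ⟨⟨?_, ?_⟩, ?_⟩
  · rw [← Nat.cast_add]; exact ENat.natCast_lt_top _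
  · rw [← Nat.cast_add]; exact ENat.natCast_lt_top _
  · simp only [← Nat.cast_add, ENat.toNat_natCast]
    push_cast
    ring

theorem main_1832 (φ ψ : M →ₗ[R] M) (hper : IsPeriodic φ ψ) (hfin : FinCoh R φ ψ) (x : R)
    (hx : Module.supportDim R (M ⧸ x • (⊤ : Submodule R M)) ≤ 0) :
    (FinCoh R (x • φ) ψ ∧ herbrand R (x • φ) ψ = herbrand R φ ψ -
      herbrand R (0 : ↥(range φ) →ₗ[R] ↥(range φ)) (x • LinearMap.id)) ∧
    (FinCoh R φ (x • ψ) ∧ herbrand R φ (x • ψ) = herbrand R φ ψ +
      herbrand R (0 : ↥(range ψ) →ₗ[R] ↥(range ψ)) (x • LinearMap.id)) := by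
  refine ⟨half_1832 φ ψ hper hfin x hx, ?_⟩
  obtain ⟨h1, h2⟩ := half_1832 ψ φ (per_symm hper) ⟨hfin.2, hfin.1⟩ x hx
  refine ⟨⟨h1.2, h1.1⟩, ?_⟩
  have e1 : herbrand R φ (x • ψ) = - herbrand R (x • ψ) φ := by
    rw [herbrand, herbrand]; ring
  have e2 : herbrand R ψ φ = - herbrand R φ ψ := by
    rw [herbrand, herbrand]; ring
  rw [e1, h2, e2]
  ring

end Main

end Groth.Agent.Lib.Helper26.Herb3
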