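import Mathlib
import Groth.Prelude.Def_CycAlg
import Groth.Agent.Lib.Helper26.RelLength

set_option autoImplicit false
set_option linter.style.haveILetI false
set_option linter.unusedSectionVars false

namespace Groth.Agent.Lib.Helper26.Herb4

open Function LinearMap CycAlg
open Groth.Agent.Lib.Helper26.RelLength

universe u v

section RL

variable {A : Type u} [CommRing A] {V : Type v} [AddCommGroup V] [Module A V]

lemma rl_inf_left (N M : Submodule A V) : rl (N ⊓ M) M = rl N M := by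
  have : (N ⊓ M).submoduleOf M = N.submoduleOf M := by
    ext x
    simp only [Submodule.submoduleOf, Submodule.mem_comap, Submodule.subtype_apply,
      Submodule.mem_inf]
    exact ⟨fun h => h.1, fun h => ⟨h, x.2⟩⟩
  rw [rl, rl, this]

lemma rl_inf_left' (N M : Submodule A V) : rl (M ⊓ N) M = rl N M := by
  rw [inf_comm, rl_inf_left]

lemma rl_anti_left {N N' M : Submodule A V} (h : N' ≤ N) : rl N M ≤ rl N' M := by
  rw [← rl_inf_left N M, ← rl_inf_left N' M,
    rl_chain (inf_le_inf_right M h) inf_le_right]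
  exact le_add_self

/-- relative length under a general linear map -/
theorem rl_map_general (f : V →ₗ[A] V) {N M : Submodule A V} (hNM : N ≤ M) :
    rl N M = rl (N.map f) (M.map f) + rl (N ⊓ ker f) (M ⊓ ker f) := by
  -- exact sequence 0 → (M ⊓ ker f)/(N ⊓ ker f) → M/N → fM/fN → 0
  have hle : M ⊓ ker f ≤ M := inf_le_left
  let ι : (↥(M ⊓ ker f) ⧸ (N ⊓ ker f).submoduleOf (M ⊓ ker f)) →ₗ[A] (↥M ⧸ N.submoduleOf M) :=
    Submodule.mapQ _ _ (Submodule.inclusion hle) (fun x hx => hx.1)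
  have hι : ∀ x : ↥(M ⊓ ker f), ι (Submodule.Quotient.mk x) =
      Submodule.Quotient.mk (Submodule.inclusion hle x) := fun x => rfl
  let f₀ : ↥M →ₗ[A] ↥(M.map f) := f.restrict (fun x hx => Submodule.mem_map_of_mem hx)
  let π : (↥M ⧸ N.submoduleOf M) →ₗ[A] (↥(M.map f) ⧸ (N.map f).submoduleOf (M.map f)) :=
    Submodule.mapQ _ _ f₀ (fun x hx => Submodule.mem_map_of_mem (f := f) hx)
  have hπ : ∀ x : ↥M, π (Submodule.Quotient.mk x) = Submodule.Quotient.mk (f₀ x) := fun x => rfl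
  rw [add_comm]
  apply Module.length_eq_add_of_exact ι π
  · rw [injective_iff_map_eq_zero]
    intro y hy
    obtain ⟨x, rfl⟩ := Submodule.Quotient.mk_surjective _ y
    rw [hι, Submodule.Quotient.mk_eq_zero] at hy
    rw [Submodule.Quotient.mk_eq_zero]
    exact ⟨hy, x.2.2⟩
  · intro y
    obtain ⟨⟨_, ⟨m, hm, rfl⟩⟩, rfl⟩ := Submodule.Quotient.mk_surjective _ y
    exact ⟨Submodule.Quotient.mk ⟨m, hm⟩, rfl⟩
  · intro y
    obtain ⟨x, rfl⟩ := Submodule.Quotient.mk_surjective _ y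
    constructor
    · intro hy
      rw [hπ, Submodule.Quotient.mk_eq_zero] at hy
      obtain ⟨n, hn, hnx⟩ := hy
      have hnx' : f n = f x := hnx
      have hz : (x : V) - n ∈ M ⊓ ker f := by
        refine ⟨M.sub_mem x.2 (hNM hn), ?_⟩
        show (x : V) - n ∈ ker f
        rw [mem_ker, map_sub, hnx', sub_self]
      refine ⟨Submodule.Quotient.mk ⟨(x : V) - n, hz⟩, ?_⟩
      rw [hι, Submodule.Quotient.eq]
      show ((Submodule.inclusion hle ⟨(x : V) - n, hz⟩ - x : ↥M) : V) ∈ N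
      have : ((Submodule.inclusion hle ⟨(x : V) - n, hz⟩ - x : ↥M) : V) = -n := by
        simp
      rw [this]
      exact N.neg_mem hn
    · rintro ⟨z, hz⟩
      obtain ⟨w, rfl⟩ := Submodule.Quotient.mk_surjective _ z
      rw [← hz, hι, hπ, Submodule.Quotient.mk_eq_zero]
      refine ⟨0, N.zero_mem, ?_⟩
      rw [map_zero]
      exact (w.2.2 : f w = 0).symm

end RL

section Pow

variable {R : Type u} [CommRing R] {M : Type v} [AddCommGroup M] [Module R M] (φ : M →ₗ[R] M)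

/-- `K j = ker φ^j` -/
abbrev K (j : ℕ) : Submodule R M := ker (φ ^ j)
/-- `T j = im φ^j` -/
abbrev T (j : ℕ) : Submodule R M := range (φ ^ j)

lemma pow_succ_apply (j : ℕ) (x : M) : (φ ^ (j + 1)) x = φ ((φ ^ j) x) := by
  rw [pow_succ', Module.End.mul_apply]

lemma pow_succ_apply' (j : ℕ) (x : M) : (φ ^ (j + 1)) x = (φ ^ j) (φ x) := by
  rw [pow_succ, Module.End.mul_apply]

lemma pow_add_apply (i j : ℕ) (x : M) : (φ ^ (i + j)) x = (φ ^ i) ((φ ^ j) x) := by
  rw [pow_add, Module.End.mul_apply]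

lemma mem_K (j : ℕ) (x : M) : x ∈ K φ j ↔ (φ ^ j) x = 0 := mem_ker

lemma K_mono {i j : ℕ} (h : i ≤ j) : K φ i ≤ K φ j := by
  intro x hx
  obtain ⟨k, rfl⟩ := Nat.exists_eq_add_of_le h
  rw [mem_K] at hx ⊢
  rw [add_comm, pow_add_apply, hx, map_zero]

lemma T_anti {i j : ℕ} (h : i ≤ j) : T φ j ≤ T φ i := by
  rintro _ ⟨x, rfl⟩
  obtain ⟨k, rfl⟩ := Nat.exists_eq_add_of_le h
  exact ⟨(φ ^ k) x, (pow_add_apply φ i k x).symm⟩

lemma K_zero : K φ 0 = ⊥ := by
  rw [K, pow_zero]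
  exact LinearMap.ker_id

lemma T_zero : T φ 0 = ⊤ := by
  rw [T, pow_zero]
  exact LinearMap.range_id

lemma K_one : K φ 1 = ker φ := by rw [K, pow_one]

lemma map_T (j : ℕ) : (T φ j).map φ = T φ (j + 1) := by
  ext y
  constructor
  · rintro ⟨_, ⟨x, rfl⟩, rfl⟩
    exact ⟨x, pow_succ_apply φ j x⟩
  · rintro ⟨x, rfl⟩
    exact ⟨(φ ^ j) x, ⟨x, rfl⟩, (pow_succ_apply φ j x).symm⟩

lemma T_le_K {n : ℕ} (hφ : φ ^ n = 0) {i j : ℕ} (h : n ≤ i + j) : T φ j ≤ K φ i := by
  rintro _ ⟨x, rfl⟩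
  rw [mem_K, ← pow_add_apply]
  obtain ⟨k, hk⟩ := Nat.exists_eq_add_of_le h
  rw [hk, add_comm, pow_add_apply, hφ, LinearMap.zero_apply, map_zero]

lemma map_K_le (j : ℕ) : (K φ (j + 1)).map φ ≤ K φ j := by
  rintro _ ⟨x, hx, rfl⟩
  rw [SetLike.mem_coe, mem_K] at hx
  rw [mem_K, ← pow_succ_apply', hx]

lemma map_pow_K (j : ℕ) : (K φ (j + 1)).map (φ ^ j) = K φ 1 ⊓ T φ j := by
  ext y
  constructor
  · rintro ⟨x, hx, rfl⟩
    refine ⟨?_, ⟨x, rfl⟩⟩
    rw [SetLike.mem_coe, mem_K] at hx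
    show (φ ^ j) x ∈ K φ 1
    rw [mem_K, pow_one, ← pow_succ_apply, hx]
  · rintro ⟨hy1, ⟨x, rfl⟩⟩
    refine ⟨x, ?_, rfl⟩
    rw [SetLike.mem_coe, mem_K, pow_one, ← pow_succ_apply] at hy1
    exact hy1

lemma map_K_inf (j : ℕ) : (K φ (j + 2)).map φ ⊓ K φ j = (K φ (j + 1)).map φ := by
  ext y
  constructor
  · rintro ⟨⟨x, hx, rfl⟩, hy⟩
    refine ⟨x, ?_, rfl⟩
    rw [SetLike.mem_coe, mem_K] at hy
    show x ∈ K φ (j + 1)
    rw [mem_K, pow_succ_apply']
    exact hy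
  · rintro ⟨x, hx, rfl⟩
    refine ⟨⟨x, K_mono φ (Nat.le_succ _) hx, rfl⟩, ?_⟩
    rw [SetLike.mem_coe, mem_K] at hx
    rw [SetLike.mem_coe, mem_K, ← pow_succ_apply']
    exact hx

end Pow

section Rel

variable {R : Type u} [CommRing R] {M : Type v} [AddCommGroup M] [Module R M] (φ : M →ₗ[R] M)
  (n : ℕ)

/-- `a i = len (K_i / T^{n-i})` -/
noncomputable def a (i : ℕ) : ℕ∞ := rl (T φ (n - i)) (K φ i)
/-- `b i = len (K_i / φ K_{i+1})` -/
noncomputable def b (i : ℕ) : ℕ∞ := rl ((K φ (i + 1)).map φ) (K φ i)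
/-- `c j = len (K_1 / K_1 ∩ T^j)` -/
noncomputable def c (j : ℕ) : ℕ∞ := rl (T φ j) (K φ 1)

theorem R1 (hφ : φ ^ n = 0) (i : ℕ) (hi : i + 1 ≤ n) :
    a φ n (i + 1) + b φ i = c φ (n - 1 - i) + a φ n i := by
  obtain ⟨m, hm⟩ : ∃ m, n = m + 1 + i := ⟨n - 1 - i, by omega⟩
  have e1 : n - (i + 1) = m := by omega
  have e2 : n - 1 - i = m := by omega
  have e3 : n - i = m + 1 := by omega
  rw [a, a, b, c, e1, e2, e3]
  have hNM : T φ m ≤ K φ (i + 1) := T_le_K φ hφ (by omega)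
  have h1 := rl_map_general φ hNM
  rw [map_T] at h1
  have hk : K φ (i + 1) ⊓ ker φ = ker φ := by
    rw [inf_eq_right, ← K_one]
    exact K_mono φ (by omega)
  rw [hk, rl_inf_left, ← K_one] at h1
  have hle1 : T φ (m + 1) ≤ (K φ (i + 1)).map φ := by
    rw [← map_T]
    exact Submodule.map_mono hNM
  have h2 := rl_chain hle1 (map_K_le φ i)
  rw [h1, h2]
  ring

theorem R2 (j : ℕ) : b φ (j + 1) + c φ j = b φ j + c φ (j + 1) := by
  rw [b, b, c, c]
  have hNM : (K φ (j + 1 + 1)).map φ ≤ K φ (j + 1) := map_K_le φ (j + 1)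
  have h1 := rl_map_general (φ ^ j) hNM
  have hcomp : ((K φ (j + 1 + 1)).map φ).map (φ ^ j) = K φ 1 ⊓ T φ (j + 1) := by
    rw [← Submodule.map_comp, ← map_pow_K φ (j + 1)]
    congr 1
  have hk : K φ (j + 1) ⊓ ker (φ ^ j) = K φ j := by
    rw [inf_eq_right]
    exact K_mono φ (by omega)
  have hk2 : (K φ (j + 1 + 1)).map φ ⊓ ker (φ ^ j) = (K φ (j + 1)).map φ := map_K_inf φ j
  rw [hcomp, map_pow_K, hk, hk2] at h1
  have hle1 : K φ 1 ⊓ T φ (j + 1) ≤ K φ 1 ⊓ T φ j := inf_le_inf_left _ (T_anti φ (by omega))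
  have h2 := rl_chain hle1 (inf_le_left : K φ 1 ⊓ T φ j ≤ K φ 1)
  rw [rl_inf_left', rl_inf_left'] at h2
  rw [h1, h2]
  ring

lemma a_zero : a φ n 0 = 0 := by
  rw [a, K_zero, rl, Module.length_eq_zero_iff]
  infer_instance

lemma b_zero : b φ 0 = 0 := by
  rw [b, K_zero, rl, Module.length_eq_zero_iff]
  infer_instance

lemma c_zero : c φ 0 = 0 := by
  rw [c, T_zero, rl, Module.length_eq_zero_iff, Submodule.submoduleOf]
  have : Submodule.comap (K φ 1).subtype ⊤ = ⊤ := Submodule.comap_top _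
  rw [this]
  infer_instance

lemma c_mono {i j : ℕ} (h : i ≤ j) : c φ i ≤ c φ j := rl_anti_left (T_anti φ h)

lemma a_top : a φ n n = 0 := by
  rw [a, Nat.sub_self, T_zero, rl, Module.length_eq_zero_iff, Submodule.submoduleOf]
  have : Submodule.comap (K φ n).subtype ⊤ = ⊤ := Submodule.comap_top _
  rw [this]
  infer_instance

lemma arith (A C : ℕ → ℤ) (n : ℕ)
    (h : ∀ i, i + 1 ≤ n → A (i + 1) + C i = C (n - 1 - i) + A i) :
    ∀ i, i ≤ n → A i - A (n - i) = A 0 - A n := by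
  intro i
  induction i with
  | zero => intro _; rw [Nat.sub_zero]
  | succ i ih =>
    intro hi
    have h1 := h i hi
    have h2 := h (n - i - 1) (by omega)
    have e1 : n - i - 1 + 1 = n - i := by omega
    have e2 : n - 1 - (n - i - 1) = i := by omega
    have e3 : n - i - 1 = n - (i + 1) := by omega
    have e4 : n - 1 - i = n - (i + 1) := by omega
    rw [e1, e2, e3] at h2
    rw [e4] at h1
    have := ih (by omega)
    linarith

section Main

variable (hn : 0 < n) (hφ : φ ^ n = 0) (hfin : Module.length R (CycAlg.perH φ (φ ^ (n - 1))) < ⊤)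

include hfin in
lemma c_fin (j : ℕ) (hj : j ≤ n - 1) : c φ j < ⊤ := by
  refine lt_of_le_of_lt (c_mono φ hj) ?_
  rw [c, K_one]
  exact hfin

include hfin in
lemma b_eq_c (j : ℕ) (hj : j ≤ n - 1) : b φ j = c φ j := by
  induction j with
  | zero => rw [b_zero, c_zero]
  | succ j ih =>
    have h2 := R2 φ j
    rw [ih (by omega), add_comm (c φ j)] at h2
    exact ENat.add_left_injective_of_ne_top (c_fin φ n hfin j (by omega)).ne h2

include hφ hfin in
lemma a_fin (i : ℕ) (hi : i ≤ n) : a φ n i < ⊤ := by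
  induction i with
  | zero => rw [a_zero]; exact ENat.top_pos
  | succ i ih =>
    have h1 := R1 φ n hφ i hi
    have : a φ n (i + 1) ≤ c φ (n - 1 - i) + a φ n i := by
      rw [← h1]; exact le_self_add
    refine lt_of_le_of_lt this (ENat.add_lt_top.mpr ⟨c_fin φ n hfin _ (by omega), ih (by omega)⟩)

include hn hφ hfin in
theorem a_symm (i : ℕ) (hi : i ≤ n) :
    (a φ n i).toNat = (a φ n (n - i)).toNat := by
  have key := arith (fun i => ((a φ n i).toNat : ℤ)) (fun j => ((c φ j).toNat : ℤ)) n ?_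
  · have hn' := key n le_rfl
    have hi' := key i hi
    simp only [Nat.sub_self] at hn'
    have : ((a φ n 0).toNat : ℤ) = ((a φ n n).toNat : ℤ) := by linarith
    have h3 : ((a φ n i).toNat : ℤ) = ((a φ n (n - i)).toNat : ℤ) := by linarith
    exact_mod_cast h3
  · intro i hi
    have h1 := R1 φ n hφ i hi
    rw [b_eq_c φ n hfin i (by omega)] at h1
    have ha1 := (a_fin φ n hφ hfin (i + 1) hi).ne
    have ha0 := (a_fin φ n hφ hfin i (by omega)).ne
    have hc1 := (c_fin φ n hfin i (by omega)).ne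
    have hc2 := (c_fin φ n hfin (n - 1 - i) (by omega)).ne
    have := congrArg ENat.toNat h1
    rw [ENat.toNat_add ha1 hc1, ENat.toNat_add hc2 ha0] at this
    show ((a φ n (i + 1)).toNat : ℤ) + ((c φ i).toNat : ℤ) =
      ((c φ (n - 1 - i)).toNat : ℤ) + ((a φ n i).toNat : ℤ)
    exact_mod_cast this

include hn hφ hfin in
theorem main_1831 (i : ℕ) (hi : i ≤ n) :
    CycAlg.FinCoh R (φ ^ i) (φ ^ (n - i)) ∧ CycAlg.herbrand R (φ ^ i) (φ ^ (n - i)) = 0 := by
  have e1 : Module.length R (CycAlg.perH (φ ^ i) (φ ^ (n - i))) = a φ n i := rfl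
  have e2 : Module.length R (CycAlg.perH (φ ^ (n - i)) (φ ^ i)) = a φ n (n - i) := by
    have : n - (n - i) = i := by omega
    rw [a, this]
    rfl
  refine ⟨⟨?_, ?_⟩, ?_⟩
  · rw [e1]; exact a_fin φ n hφ hfin i hi
  · rw [e2]; exact a_fin φ n hφ hfin (n - i) (by omega)
  · rw [CycAlg.herbrand, e1, e2, a_symm φ n hn hφ hfin i hi, sub_self]

end Main

end Rel

end Groth.Agent.Lib.Helper26.Herb4
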