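import Mathlib
import Groth.Agent.Lib.Helper26.RelLength

set_option autoImplicit false
set_option linter.style.haveILetI false

namespace Groth.Agent.Lib.Helper26.LatticeBasic

open Function Submodule
open Groth.Agent.Lib.Helper26.RelLength

universe u v w

section basics

variable {A : Type u} [CommRing A] [IsDomain A] {K : Type v} [Field K] [Algebra A K]
  [IsFractionRing A K] {V : Type w} [AddCommGroup V] [Module K V] [Module A V]
  [IsScalarTower A K V]

/-- every vector of the `K`-span of `N` has a nonzero `A`-multiple in `N` -/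
theorem exists_smul_mem (N : Submodule A V) (v : V) (hv : v ∈ Submodule.span K (N : Set V)) :
    ∃ c : A, c ≠ 0 ∧ c • v ∈ N := by
  induction hv using Submodule.span_induction with
  | mem x hx => exact ⟨1, one_ne_zero, by simpa using hx⟩
  | zero => exact ⟨1, one_ne_zero, by simp⟩
  | add x y _ _ hx hy =>
    obtain ⟨c, hc, hcx⟩ := hx
    obtain ⟨d, hd, hdy⟩ := hy
    refine ⟨c * d, mul_ne_zero hc hd, ?_⟩
    rw [smul_add]
    refine N.add_mem ?_ ?_
    · rw [mul_comm, mul_smul]
      exact N.smul_mem d hcx
    · rw [mul_smul]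
      exact N.smul_mem c hdy
  | smul k x _ hx =>
    obtain ⟨c, hc, hcx⟩ := hx
    obtain ⟨a, s, hs, rfl⟩ := IsFractionRing.div_surjective (A := A) k
    have hs0 : s ≠ 0 := nonZeroDivisors.ne_zero hs
    refine ⟨s * c, mul_ne_zero hs0 hc, ?_⟩
    have hsK : algebraMap A K s ≠ 0 := by
      rwa [Ne, FaithfulSMul.algebraMap_eq_zero_iff]
    have : (s * c) • ((algebraMap A K a / algebraMap A K s) • x) = a • (c • x) := by
      rw [← algebraMap_smul K (s * c), ← algebraMap_smul K a, ← algebraMap_smul K c, smul_smul,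
        smul_smul, map_mul]
      congr 1
      field_simp
    rw [this]
    exact N.smul_mem a hcx

theorem exists_smul_le (M N : Submodule A V) (hM : M.FG)
    (hN : Submodule.span K (N : Set V) = ⊤) : ∃ c : A, c ≠ 0 ∧ ∀ m ∈ M, c • m ∈ N := by
  obtain ⟨s, rfl⟩ := hM
  classical
  induction s using Finset.induction_on with
  | empty => exact ⟨1, one_ne_zero, by simp⟩
  | insert x s hx ih =>
    obtain ⟨c, hc, h⟩ := ih
    obtain ⟨d, hd, hdx⟩ := exists_smul_mem (K := K) N x (by rw [hN]; trivial)
    refine ⟨c * d, mul_ne_zero hc hd, ?_⟩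
    intro m hm
    rw [Finset.coe_insert, Submodule.mem_span_insert] at hm
    obtain ⟨a, z, hz, rfl⟩ := hm
    rw [smul_add]
    refine N.add_mem ?_ ?_
    · rw [smul_comm, mul_smul]
      exact N.smul_mem _ (N.smul_mem _ hdx)
    · rw [mul_comm, mul_smul]
      exact N.smul_mem _ (h z hz)

theorem exists_smul_le_of_isLattice (M N : Submodule A V) [IsLattice K M] [IsLattice K N] :
    ∃ c : A, c ≠ 0 ∧ ∀ m ∈ M, c • m ∈ N :=
  exists_smul_le (K := K) M N IsLattice.fg IsLattice.span_eq_top

theorem isLattice_inf [IsNoetherianRing A] (M N : Submodule A V) [IsLattice K M]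
    [IsLattice K N] : IsLattice K (M ⊓ N) where
  fg := by
    have : IsNoetherian A ↥(M ⊓ N) := isNoetherian_of_le inf_le_left
    rw [← Module.Finite.iff_fg]
    infer_instance
  span_eq_top := by
    obtain ⟨c, hc, h⟩ := exists_smul_le_of_isLattice (K := K) M N
    rw [eq_top_iff, ← IsLattice.span_eq_top (A := K) (M := M), Submodule.span_le]
    intro m hm
    have hcK : algebraMap A K c ≠ 0 := by
      rwa [Ne, FaithfulSMul.algebraMap_eq_zero_iff]
    have : m = (algebraMap A K c)⁻¹ • (c • m) := by
      rw [← algebraMap_smul K c, smul_smul, inv_mul_cancel₀ hcK, one_smul]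
    rw [this]
    apply Submodule.smul_mem
    apply Submodule.subset_span
    exact ⟨M.smul_mem c hm, h m hm⟩

omit [IsDomain A] [IsFractionRing A K] in
theorem isLattice_map {V' : Type*} [AddCommGroup V'] [Module K V'] [Module A V']
    [IsScalarTower A K V'] (f : V →ₗ[K] V') (hf : Surjective f) (M : Submodule A V)
    [IsLattice K M] : IsLattice K (M.map (f.restrictScalars A)) where
  fg := IsLattice.fg.map _
  span_eq_top := by
    have : ((M.map (f.restrictScalars A) : Submodule A V') : Set V') = f '' (M : Set V) := rfl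
    rw [this, ← Submodule.map_span, IsLattice.span_eq_top, Submodule.map_top,
      LinearMap.range_eq_top.mpr hf]

theorem rl_lt_top [IsNoetherianRing A] [Ring.KrullDimLE 1 A] (N M : Submodule A V)
    [IsLattice K N] [IsLattice K M] : rl N M < ⊤ := by
  obtain ⟨c, hc, h⟩ := exists_smul_le_of_isLattice (K := K) M N
  rw [rl, lt_top_iff_ne_top, Module.length_ne_top_iff]
  apply isFiniteLength_of_smul_eq_zero (a := c)
    (isFiniteLength_quotient_span_singleton A (mem_nonZeroDivisors_of_ne_zero hc))
  intro x
  obtain ⟨m, rfl⟩ := Submodule.mkQ_surjective _ x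
  rw [← map_smul, Submodule.mkQ_apply, Submodule.Quotient.mk_eq_zero]
  exact h m.1 m.2

theorem idx_cocycle_lattice [IsNoetherianRing A] [Ring.KrullDimLE 1 A] (M N P : Submodule A V)
    [IsLattice K M] [IsLattice K N] [IsLattice K P] : idx M N + idx N P = idx M P := by
  haveI := isLattice_inf (K := K) M N
  haveI := isLattice_inf (K := K) (M ⊓ N) P
  exact idx_cocycle (rl_lt_top (K := K) _ _) (rl_lt_top (K := K) _ _) (rl_lt_top (K := K) _ _)

end basics

end Groth.Agent.Lib.Helper26.LatticeBasic
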