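import Mathlib
import Groth.Agent.Lib.Helper26.LatticeBasic
import Groth.Agent.Lib.Helper26.OrdZ

set_option autoImplicit false
set_option linter.style.haveILetI false
set_option linter.unusedSectionVars false

namespace Groth.Agent.Lib.Helper26.LatticeMatrix

open Function Submodule Matrix
open Groth.Agent.Lib.Helper26.RelLength Groth.Agent.Lib.Helper26.LatticeBasic
open Groth.Agent.Lib.Helper26.OrdZ

universe u v w

section mat

variable (A : Type u) [CommRing A] (K : Type v) [Field K] [Algebra A K]
  (ι : Type w) [Fintype ι] [DecidableEq ι]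

/-- the inclusion `Aⁿ → Kⁿ` -/
noncomputable def incl : (ι → A) →ₗ[A] (ι → K) := (Algebra.linearMap A K).compLeft ι

/-- the standard lattice -/
noncomputable def M₀ : Submodule A (ι → K) := LinearMap.range (incl A K ι)

variable {A K ι}

/-- the image of a submodule under a matrix -/
noncomputable def act (G : Matrix ι ι K) (M : Submodule A (ι → K)) : Submodule A (ι → K) :=
  M.map ((Matrix.toLin' G).restrictScalars A)

theorem act_mul (G H : Matrix ι ι K) (M : Submodule A (ι → K)) :
    act (G * H) M = act G (act H M) := by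
  rw [act, act, act, ← Submodule.map_comp, Matrix.toLin'_mul]
  rfl

theorem act_one (M : Submodule A (ι → K)) : act (1 : Matrix ι ι K) M = M := by
  rw [act, Matrix.toLin'_one]
  exact Submodule.map_id M

theorem toLin'_injective {G : Matrix ι ι K} (hG : G.det ≠ 0) :
    Injective ((Matrix.toLin' G).restrictScalars A) := by
  intro x y hxy
  exact Matrix.mulVec_injective_of_det_ne_zero hG hxy

theorem toLin'_surjective {G : Matrix ι ι K} (hG : G.det ≠ 0) :
    Surjective (Matrix.toLin' G) := by
  have : IsUnit G := (Matrix.isUnit_iff_isUnit_det G).mpr (isUnit_iff_ne_zero.mpr hG)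
  exact Matrix.mulVec_surjective_iff_isUnit.mpr this

theorem idx_act {G : Matrix ι ι K} (hG : G.det ≠ 0) (M N : Submodule A (ι → K)) :
    idx (act G M) (act G N) = idx M N :=
  idx_map _ (toLin'_injective hG) M N

variable [IsDomain A] [IsFractionRing A K]

theorem incl_injective : Injective (incl A K ι) := by
  intro x y hxy
  funext i
  exact IsFractionRing.injective A K (congrFun hxy i)

theorem incl_apply (v : ι → A) (i : ι) : incl A K ι v i = algebraMap A K (v i) := rfl

instance isLattice_M₀ [IsNoetherianRing A] : IsLattice K (M₀ A K ι) where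
  fg := by
    rw [M₀, LinearMap.range_eq_map]
    exact (Module.Finite.fg_top).map _
  span_eq_top := by
    rw [eq_top_iff]
    intro v _
    rw [← (Pi.basisFun K ι).sum_repr v]
    refine Submodule.sum_mem _ fun i _ => Submodule.smul_mem _ _ (Submodule.subset_span ?_)
    refine ⟨Pi.single i 1, ?_⟩
    funext j
    rw [incl_apply, Pi.basisFun_apply]
    by_cases h : j = i
    · subst h; simp
    · simp [h]

theorem isLattice_act {G : Matrix ι ι K} (hG : G.det ≠ 0) (M : Submodule A (ι → K))
    [IsLattice K M] : IsLattice K (act G M) :=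
  isLattice_map _ (toLin'_surjective hG) M

variable [IsNoetherianRing A] [Ring.KrullDimLE 1 A]

/-- the index function on `GL_n(K)` -/
noncomputable def e (A : Type u) [CommRing A] {K : Type v} [Field K] [Algebra A K]
    {ι : Type w} [Fintype ι] [DecidableEq ι] (G : Matrix ι ι K) : ℤ :=
  idx (M₀ A K ι) (act G (M₀ A K ι))

theorem e_mul {G H : Matrix ι ι K} (hG : G.det ≠ 0) (hH : H.det ≠ 0) :
    e A (G * H) = e A G + e A H := by
  haveI := isLattice_act (A := A) hH (M₀ A K ι)
  haveI := isLattice_act (A := A) hG (M₀ A K ι)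
  haveI := isLattice_act (A := A) hG (act H (M₀ A K ι))
  rw [e, e, e, act_mul, ← idx_cocycle_lattice (K := K) (M₀ A K ι) (act G (M₀ A K ι)), idx_act hG]

/-- independence of the lattice -/
theorem idx_act_eq_e {G : Matrix ι ι K} (hG : G.det ≠ 0) (M : Submodule A (ι → K))
    [IsLattice K M] : idx M (act G M) = e A G := by
  haveI := isLattice_act (A := A) hG (M₀ A K ι)
  haveI := isLattice_act (A := A) hG M
  rw [← idx_cocycle_lattice (K := K) M (M₀ A K ι) (act G M),
    ← idx_cocycle_lattice (K := K) (M₀ A K ι) (act G (M₀ A K ι)) (act G M), idx_act hG,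
    idx_symm M, e]
  ring

/-! ### integral matrices -/

theorem toLin'_map_incl (P : Matrix ι ι A) (v : ι → A) :
    Matrix.toLin' (P.map (algebraMap A K)) (incl A K ι v) = incl A K ι (Matrix.toLin' P v) := by
  funext i
  rw [incl_apply, Matrix.toLin'_apply, Matrix.toLin'_apply, RingHom.map_mulVec]
  rfl

theorem act_map_M₀ (P : Matrix ι ι A) :
    act (P.map (algebraMap A K)) (M₀ A K ι) = (LinearMap.range (Matrix.toLin' P)).map (incl A K ι) := by
  rw [act, M₀, LinearMap.range_eq_map, LinearMap.range_eq_map, ← Submodule.map_comp,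
    ← Submodule.map_comp]
  congr 1
  exact LinearMap.ext fun v => toLin'_map_incl P v

theorem act_map_M₀_le (P : Matrix ι ι A) :
    act (P.map (algebraMap A K)) (M₀ A K ι) ≤ M₀ A K ι := by
  rw [act_map_M₀, M₀, LinearMap.range_eq_map (incl A K ι)]
  exact Submodule.map_mono (f := incl A K ι) le_top

theorem det_map (P : Matrix ι ι A) :
    (P.map (algebraMap A K)).det = algebraMap A K P.det := by
  rw [RingHom.map_det]; rfl

theorem det_map_ne_zero {P : Matrix ι ι A} (hP : P.det ≠ 0) :
    (P.map (algebraMap A K)).det ≠ 0 := by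
  rw [det_map, Ne, FaithfulSMul.algebraMap_eq_zero_iff]
  exact hP

theorem e_integral {P : Matrix ι ι A} (hP : P.det ≠ 0) :
    Module.length A ((ι → A) ⧸ LinearMap.range (Matrix.toLin' P)) < ⊤ ∧
    e A (P.map (algebraMap A K)) =
      ((Module.length A ((ι → A) ⧸ LinearMap.range (Matrix.toLin' P))).toNat : ℤ) := by
  haveI := isLattice_act (A := A) (det_map_ne_zero (K := K) hP) (M₀ A K ι)
  have h1 := rl_lt_top (K := K) (act (P.map (algebraMap A K)) (M₀ A K ι)) (M₀ A K ι)
  have h2 : rl (act (P.map (algebraMap A K)) (M₀ A K ι)) (M₀ A K ι) =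
      Module.length A ((ι → A) ⧸ LinearMap.range (Matrix.toLin' P)) := by
    rw [act_map_M₀, M₀, ← length_quotient_eq_rl _ incl_injective]
  rw [← h2]
  exact ⟨h1, idx_of_le (act_map_M₀_le P) h1⟩

theorem act_eq_of_mul_eq_one {P Q : Matrix ι ι A} (h : P * Q = 1) :
    act (P.map (algebraMap A K)) (M₀ A K ι) = M₀ A K ι := by
  apply le_antisymm (act_map_M₀_le P)
  have h1 : (P.map (algebraMap A K)) * (Q.map (algebraMap A K)) = 1 := by
    rw [← Matrix.map_mul, h, Matrix.map_one _ (map_zero _) (map_one _)]
  calc M₀ A K ι = act (P.map (algebraMap A K) * Q.map (algebraMap A K)) (M₀ A K ι) := by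
        rw [h1, act_one]
    _ = act (P.map (algebraMap A K)) (act (Q.map (algebraMap A K)) (M₀ A K ι)) := act_mul _ _ _
    _ ≤ act (P.map (algebraMap A K)) (M₀ A K ι) := Submodule.map_mono (act_map_M₀_le Q)

/-- the main property -/
def P (G : Matrix ι ι K) : Prop := e A G = CycAlg.ordFrac A K G.det

theorem P_mul {G H : Matrix ι ι K} (hG : G.det ≠ 0) (hH : H.det ≠ 0) (h1 : P (A := A) G)
    (h2 : P (A := A) H) : P (A := A) (G * H) := by
  rw [P, e_mul hG hH, Matrix.det_mul, ordFrac_mul hG hH, h1, h2]

theorem P_cancel_left {G H : Matrix ι ι K} (hG : G.det ≠ 0) (hH : H.det ≠ 0) (h1 : P (A := A) G)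
    (h2 : P (A := A) (G * H)) : P (A := A) H := by
  rw [P, e_mul hG hH, Matrix.det_mul, ordFrac_mul hG hH, h1] at h2
  exact add_left_cancel h2

theorem ord_prod (s : Finset ι) (a : ι → A) (ha : ∀ i, a i ≠ 0) :
    Ring.ord A (∏ i ∈ s, a i) = ∑ i ∈ s, Ring.ord A (a i) := by
  induction s using Finset.induction_on with
  | empty => simp
  | insert i s hi ih =>
    rw [Finset.prod_insert hi, Finset.sum_insert hi,
      Ring.ord_mul' A (mem_nonZeroDivisors_of_ne_zero (ha i)), ih]

theorem range_diagonal (a : ι → A) :
    LinearMap.range (Matrix.toLin' (Matrix.diagonal a)) =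
      Submodule.pi Set.univ (fun i => (Ideal.span {a i} : Submodule A A)) := by
  ext v
  simp only [LinearMap.mem_range, Submodule.mem_pi, Set.mem_univ, forall_true_left]
  constructor
  · rintro ⟨w, rfl⟩ i
    rw [Matrix.toLin'_apply, Matrix.mulVec_diagonal]
    exact Ideal.mul_mem_right _ _ (Ideal.mem_span_singleton_self _)
  · intro h
    choose w hw using fun i => Ideal.mem_span_singleton'.mp (h i)
    refine ⟨w, ?_⟩
    funext i
    rw [Matrix.toLin'_apply, Matrix.mulVec_diagonal, mul_comm, hw]

theorem length_diagonal (a : ι → A) :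
    Module.length A ((ι → A) ⧸ LinearMap.range (Matrix.toLin' (Matrix.diagonal a))) =
      ∑ i, Ring.ord A (a i) := by
  rw [range_diagonal, (Submodule.quotientPi _).length_eq, Module.length_pi_of_fintype]
  rfl

theorem P_diagonal_integral (a : ι → A) (ha : ∀ i, a i ≠ 0) :
    P (A := A) (Matrix.diagonal fun i => algebraMap A K (a i)) := by
  have hmap : (Matrix.diagonal a).map (algebraMap A K) =
      Matrix.diagonal fun i => algebraMap A K (a i) := by
    rw [Matrix.diagonal_map (map_zero _)]
  have hdet : (Matrix.diagonal a).det ≠ 0 := by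
    rw [Matrix.det_diagonal]
    exact Finset.prod_ne_zero_iff.mpr fun i _ => ha i
  obtain ⟨h1, h2⟩ := e_integral (K := K) hdet
  rw [P, ← hmap, h2, det_map, ordFrac_algebraMap hdet, length_diagonal, Matrix.det_diagonal,
    ord_prod _ _ ha]

theorem P_transvection_integral {i j : ι} (hij : i ≠ j) (x : A) :
    P (A := A) (Matrix.transvection i j (algebraMap A K x)) := by
  have hmap : (Matrix.transvection i j x).map (algebraMap A K) =
      Matrix.transvection i j (algebraMap A K x) := by
    simp [Matrix.transvection, Matrix.map_add, Matrix.map_single]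
  have h1 : Matrix.transvection i j x * Matrix.transvection i j (-x) = 1 := by
    rw [Matrix.transvection_mul_transvection_same _ _ hij, add_neg_cancel,
      Matrix.transvection_zero]
  rw [P, ← hmap, e, act_eq_of_mul_eq_one h1, idx_self, hmap, Matrix.det_transvection_of_ne _ _ hij,
    ordFrac_one]

theorem P_transvection (t : Matrix.TransvectionStruct ι K) : P (A := A) t.toMatrix := by
  obtain ⟨i, j, hij, c⟩ := t
  obtain ⟨x, s, hs, rfl⟩ := IsFractionRing.div_surjective (A := A) c
  have hs0 : s ≠ 0 := nonZeroDivisors.ne_zero hs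
  have hsK : algebraMap A K s ≠ 0 := by
    rwa [Ne, FaithfulSMul.algebraMap_eq_zero_iff]
  rw [Matrix.TransvectionStruct.toMatrix]
  set d : ι → A := Function.update (fun _ => 1) i s with hd
  have hd0 : ∀ k, d k ≠ 0 := by
    intro k
    rw [hd, Function.update_apply]
    split_ifs
    · exact hs0
    · exact one_ne_zero
  set E : Matrix ι ι K := Matrix.diagonal fun k => algebraMap A K (d k) with hE
  have hEdet : E.det ≠ 0 := by
    rw [hE, Matrix.det_diagonal]
    refine Finset.prod_ne_zero_iff.mpr fun k _ => ?_
    rw [Ne, FaithfulSMul.algebraMap_eq_zero_iff]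
    exact hd0 k
  have hPE : P (A := A) E := P_diagonal_integral d hd0
  have hT' : P (A := A) (Matrix.transvection i j (algebraMap A K x)) :=
    P_transvection_integral hij x
  have hcomm : E * Matrix.transvection i j (algebraMap A K x / algebraMap A K s) =
      Matrix.transvection i j (algebraMap A K x) * E := by
    ext k l
    simp only [hE, Matrix.transvection, Matrix.mul_add, Matrix.add_mul, Matrix.mul_one,
      Matrix.one_mul, Matrix.add_apply, Matrix.diagonal_mul, Matrix.mul_diagonal,
      Matrix.single_apply, hd, Function.update_apply]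
    by_cases hk : k = i
    · by_cases hl : l = j
      · subst hk hl
        simp [hij.symm, Matrix.one_apply_ne hij]
        field_simp
      · subst hk
        by_cases hkl : k = l
        · subst hkl
          simp [hl, Ne.symm hl]
        · simp [hl, Ne.symm hl, Matrix.one_apply_ne hkl]
    · by_cases hkl : k = l
      · subst hkl
        simp [hk, Ne.symm hk]
      · simp [hk, Ne.symm hk, Matrix.one_apply_ne hkl]
  have hdetT : (Matrix.transvection i j (algebraMap A K x / algebraMap A K s)).det ≠ 0 := by
    rw [Matrix.det_transvection_of_ne _ _ hij]; exact one_ne_zero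
  have hdetT' : (Matrix.transvection i j (algebraMap A K x)).det ≠ 0 := by
    rw [Matrix.det_transvection_of_ne _ _ hij]; exact one_ne_zero
  apply P_cancel_left hEdet hdetT hPE
  rw [hcomm]
  exact P_mul hdetT' hEdet hT' hPE

theorem P_diagonal (D : ι → K) (hD : (Matrix.diagonal D).det ≠ 0) :
    P (A := A) (Matrix.diagonal D) := by
  rw [Matrix.det_diagonal, Finset.prod_ne_zero_iff] at hD
  obtain ⟨⟨s, hs⟩, hsD⟩ := IsLocalization.exist_integer_multiples_of_finite (nonZeroDivisors A) D
  have hs0 : s ≠ 0 := nonZeroDivisors.ne_zero hs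
  have hsK : algebraMap A K s ≠ 0 := by
    rwa [Ne, FaithfulSMul.algebraMap_eq_zero_iff]
  choose a ha using hsD
  simp only [Algebra.smul_def] at ha
  have ha0 : ∀ i, a i ≠ 0 := by
    intro i h
    have := ha i
    rw [h, map_zero] at this
    exact mul_ne_zero hsK (hD i (Finset.mem_univ i)) this.symm
  have h1 : P (A := A) (Matrix.diagonal fun _ : ι => algebraMap A K s) :=
    P_diagonal_integral (fun _ => s) (fun _ => hs0)
  have h2 : P (A := A) (Matrix.diagonal fun i : ι => algebraMap A K (a i)) :=
    P_diagonal_integral a ha0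
  have hmul : (Matrix.diagonal fun _ : ι => algebraMap A K s) * Matrix.diagonal D =
      Matrix.diagonal fun i : ι => algebraMap A K (a i) := by
    rw [Matrix.diagonal_mul_diagonal]
    congr 1
    funext i
    exact (ha i).symm
  have hd1 : (Matrix.diagonal fun _ : ι => algebraMap A K s).det ≠ 0 := by
    rw [Matrix.det_diagonal]
    exact Finset.prod_ne_zero_iff.mpr fun _ _ => hsK
  have hd2 : (Matrix.diagonal D).det ≠ 0 := by
    rw [Matrix.det_diagonal]
    exact Finset.prod_ne_zero_iff.mpr hD
  apply P_cancel_left hd1 hd2 h1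
  rw [hmul]
  exact h2

/-- **Key theorem**: the index of `G·M₀` in `M₀` is the order of `det G`. -/
theorem e_eq_ordFrac_det (G : Matrix ι ι K) (hG : G.det ≠ 0) :
    e A G = CycAlg.ordFrac A K G.det := by
  refine Matrix.diagonal_transvection_induction_of_det_ne_zero (fun G => P (A := A) G) G hG
    (fun D hD => P_diagonal D hD) (fun t => P_transvection t)
    (fun G H hG hH h1 h2 => P_mul hG hH h1 h2)

/-- for any lattice `M` and any `G ∈ GL_n(K)` -/
theorem idx_act_eq_ordFrac_det {G : Matrix ι ι K} (hG : G.det ≠ 0) (M : Submodule A (ι → K))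
    [IsLattice K M] : idx M (act G M) = CycAlg.ordFrac A K G.det := by
  rw [idx_act_eq_e hG, e_eq_ordFrac_det G hG]

end mat

section integral

variable {A : Type u} [CommRing A] [IsDomain A] [IsNoetherianRing A] [Ring.KrullDimLE 1 A]
  {ι : Type w} [Fintype ι] [DecidableEq ι]

/-- integral version -/
theorem length_coker_eq_ord {P : Matrix ι ι A} (hP : P.det ≠ 0) :
    Module.length A ((ι → A) ⧸ LinearMap.range (Matrix.toLin' P)) = Ring.ord A P.det := by
  obtain ⟨h1, h2⟩ := e_integral (K := FractionRing A) hP
  rw [e_eq_ordFrac_det _ (det_map_ne_zero hP), det_map, ordFrac_algebraMap hP] at h2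
  have h3 := Ring.ord_ne_top (mem_nonZeroDivisors_of_ne_zero hP)
  rw [← ENat.coe_toNat h1.ne, ← ENat.coe_toNat h3]
  congr 1
  exact_mod_cast h2.symm

end integral


end Groth.Agent.Lib.Helper26.LatticeMatrix
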