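import Mathlib
import Groth.Agent.Lib.Helper26.LatticeMatrix

set_option autoImplicit false
set_option linter.style.haveILetI false
set_option linter.unusedSectionVars false

namespace Groth.Agent.Lib.Helper26.LatticeDet

open Function Submodule Matrix
open Groth.Agent.Lib.Helper26.RelLength Groth.Agent.Lib.Helper26.LatticeBasic
open Groth.Agent.Lib.Helper26.OrdZ Groth.Agent.Lib.Helper26.LatticeMatrix

universe u v w

variable {A : Type u} [CommRing A] [IsDomain A] [IsNoetherianRing A] [Ring.KrullDimLE 1 A]
  {K : Type v} [Field K] [Algebra A K] [IsFractionRing A K]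
  {V : Type w} [AddCommGroup V] [Module K V] [Module A V] [IsScalarTower A K V]
  [FiniteDimensional K V]

/-- **Fulton A.3** for lattices: the index of `φ(M)` in `M` is the order of `det φ`. -/
theorem idx_map_eq_ordFrac_det (M : Submodule A V) [IsLattice K M] (φ : V ≃ₗ[K] V) :
    idx M (M.map (φ.toLinearMap.restrictScalars A)) =
      CycAlg.ordFrac A K (LinearMap.det φ.toLinearMap) := by
  let b := Module.finBasis K V
  let ε : V →ₗ[K] (Fin (Module.finrank K V) → K) := b.equivFun.toLinearMap
  have hε : Injective (ε.restrictScalars A) := b.equivFun.injective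
  let G := LinearMap.toMatrix b b φ.toLinearMap
  have hdet : G.det = LinearMap.det φ.toLinearMap := LinearMap.det_toMatrix b _
  have hG : G.det ≠ 0 := by
    rw [hdet]
    exact (LinearEquiv.isUnit_det' φ).ne_zero
  haveI : IsLattice K (M.map (ε.restrictScalars A)) :=
    isLattice_map ε b.equivFun.surjective M
  have hcomm : (ε.restrictScalars A).comp (φ.toLinearMap.restrictScalars A) =
      ((Matrix.toLin' G).restrictScalars A).comp (ε.restrictScalars A) := by
    apply LinearMap.ext
    intro x
    exact (LinearMap.toMatrix_mulVec_repr b b φ.toLinearMap x).symm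
  rw [← idx_map _ hε, ← Submodule.map_comp, hcomm, Submodule.map_comp, ← hdet]
  exact idx_act_eq_ordFrac_det hG _

theorem main_14502 (M : Submodule A V) [IsLattice K M] (φ : V ≃ₗ[K] V) :
    Submodule.IsLattice K (M.map (φ.toLinearMap.restrictScalars A)) ∧
      Module.length A (↥M ⧸ (M ⊓ M.map (φ.toLinearMap.restrictScalars A)).submoduleOf M) < ⊤ ∧
      Module.length A (↥(M.map (φ.toLinearMap.restrictScalars A)) ⧸
          (M ⊓ M.map (φ.toLinearMap.restrictScalars A)).submoduleOf
            (M.map (φ.toLinearMap.restrictScalars A))) < ⊤ ∧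
      ((Module.length A (↥M ⧸ (M ⊓ M.map (φ.toLinearMap.restrictScalars A)).submoduleOf M)).toNat : ℤ) -
          ((Module.length A (↥(M.map (φ.toLinearMap.restrictScalars A)) ⧸
            (M ⊓ M.map (φ.toLinearMap.restrictScalars A)).submoduleOf
              (M.map (φ.toLinearMap.restrictScalars A)))).toNat : ℤ) =
        CycAlg.ordFrac A K (LinearMap.det φ.toLinearMap) := by
  haveI h1 : IsLattice K (M.map (φ.toLinearMap.restrictScalars A)) :=
    isLattice_map φ.toLinearMap φ.surjective M
  haveI := isLattice_inf (K := K) M (M.map (φ.toLinearMap.restrictScalars A))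
  exact ⟨h1, rl_lt_top (K := K) _ _, rl_lt_top (K := K) _ _, idx_map_eq_ordFrac_det M φ⟩

end Groth.Agent.Lib.Helper26.LatticeDet
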