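import Mathlib
import Groth.Agent.Lib.Helper26.LatticeDet

set_option autoImplicit false
set_option linter.style.haveILetI false
set_option linter.unusedSectionVars false

namespace Groth.Agent.Lib.Helper26.NormLength

open Function Submodule Matrix
open Groth.Agent.Lib.Helper26.RelLength Groth.Agent.Lib.Helper26.LatticeBasic
open Groth.Agent.Lib.Helper26.OrdZ Groth.Agent.Lib.Helper26.LatticeDet

universe u v w

variable {A : Type u} [CommRing A] [IsDomain A] [IsNoetherianRing A] [Ring.KrullDimLE 1 A]
  {B : Type u} [CommRing B] [IsDomain B] [Algebra A B] [Module.Finite A B]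
  {K L : Type u} [Field K] [Field L] [Algebra A K] [IsFractionRing A K] [Algebra B L]
  [IsFractionRing B L] [Algebra K L] [Algebra A L] [IsScalarTower A B L] [IsScalarTower A K L]
  [FiniteDimensional K L]

variable (A B L) in
/-- the inclusion of `B` in `L` as an `A`-linear map -/
noncomputable def j : B →ₗ[A] L := (IsScalarTower.toAlgHom A B L).toLinearMap

theorem j_apply (b : B) : j A B L b = algebraMap B L b := rfl

theorem j_injective : Injective (j A B L) := IsFractionRing.injective B L

theorem isLattice_range :
    IsLattice K (LinearMap.range (j A B L)) where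
  fg := by
    rw [LinearMap.range_eq_map]
    exact (Module.Finite.fg_top).map _
  span_eq_top := by
    haveI : Algebra.IsAlgebraic A B := Algebra.IsIntegral.isAlgebraic
    rw [eq_top_iff]
    intro l _
    obtain ⟨b, b', hb', rfl⟩ := IsFractionRing.div_surjective (A := B) l
    have hb'0 : b' ≠ 0 := nonZeroDivisors.ne_zero hb'
    obtain ⟨c, d, hd, h⟩ := Algebra.IsAlgebraic.exists_smul_eq_mul A b hb'0
    have hdK : algebraMap A K d ≠ 0 := by
      rwa [Ne, FaithfulSMul.algebraMap_eq_zero_iff]
    have hb'L : algebraMap B L b' ≠ 0 := by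
      rwa [Ne, FaithfulSMul.algebraMap_eq_zero_iff]
    have hdL : algebraMap A L d ≠ 0 := by
      rw [IsScalarTower.algebraMap_apply A K L]
      rwa [Ne, FaithfulSMul.algebraMap_eq_zero_iff]
    have h2 : algebraMap B L b / algebraMap B L b' = (algebraMap A K d)⁻¹ • algebraMap B L c := by
      have h3 : algebraMap A L d * algebraMap B L b = algebraMap B L b' * algebraMap B L c := by
        rw [← map_mul, ← h, Algebra.smul_def, map_mul, ← IsScalarTower.algebraMap_apply]
      rw [Algebra.smul_def, map_inv₀, ← IsScalarTower.algebraMap_apply]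
      field_simp
      rw [mul_comm, h3]
    rw [h2]
    exact Submodule.smul_mem _ _ (Submodule.subset_span ⟨c, rfl⟩)

theorem main_14503 (r : B) (hr : r ≠ 0) :
    Module.length A (B ⧸ Ideal.span {r}) < ⊤ ∧
      ((Module.length A (B ⧸ Ideal.span {r})).toNat : ℤ) =
        CycAlg.ordFrac A K (Algebra.norm K (algebraMap B L r)) := by
  haveI := isLattice_range (A := A) (B := B) (K := K) (L := L)
  have hrL : algebraMap B L r ≠ 0 := by
    rwa [Ne, FaithfulSMul.algebraMap_eq_zero_iff]
  let φ : L ≃ₗ[K] L := LinearEquiv.ofLinearMap (LinearMap.mulLeft K (algebraMap B L r))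
    (LinearMap.mulLeft K (algebraMap B L r)⁻¹)
    (by ext x; simp [hrL]) (by ext x; simp [hrL])
  have hφ : φ.toLinearMap = Algebra.lmul K L (algebraMap B L r) := by
    ext x; rfl
  have key := idx_map_eq_ordFrac_det (A := A) (LinearMap.range (j A B L)) φ
  rw [hφ, ← Algebra.norm_apply] at key
  let N : Submodule A B := (Ideal.span {r}).restrictScalars A
  have hmap : (LinearMap.range (j A B L)).map
      ((Algebra.lmul K L (algebraMap B L r)).restrictScalars A) = N.map (j A B L) := by
    ext l
    simp only [Submodule.mem_map, LinearMap.mem_range, N, Submodule.restrictScalars_mem]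
    constructor
    · rintro ⟨_, ⟨b, rfl⟩, rfl⟩
      refine ⟨r * b, Ideal.mul_mem_right _ _ (Ideal.mem_span_singleton_self r), ?_⟩
      rw [j_apply, map_mul]
      rfl
    · rintro ⟨x, hx, rfl⟩
      obtain ⟨a, rfl⟩ := Ideal.mem_span_singleton'.mp hx
      refine ⟨_, ⟨a, rfl⟩, ?_⟩
      simp only [j_apply]
      rw [map_mul, mul_comm]
      rfl
  have hle : N.map (j A B L) ≤ LinearMap.range (j A B L) := by
    rw [LinearMap.range_eq_map]
    exact Submodule.map_mono le_top
  haveI : IsLattice K (N.map (j A B L)) := by
    rw [← hmap]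
    exact isLattice_map (Algebra.lmul K L (algebraMap B L r)) (by rw [← hφ]; exact φ.surjective) _
  have hfin := rl_lt_top (K := K) (N.map (j A B L)) (LinearMap.range (j A B L))
  have hlen : rl (N.map (j A B L)) (LinearMap.range (j A B L)) =
      Module.length A (B ⧸ Ideal.span {r}) := by
    rw [← length_quotient_eq_rl _ j_injective]
    exact (Submodule.Quotient.restrictScalarsEquiv A (Ideal.span {r})).length_eq
  rw [hmap, idx_of_le hle hfin, hlen] at key
  rw [hlen] at hfin
  exact ⟨hfin, key⟩

end Groth.Agent.Lib.Helper26.NormLength
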