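import Mathlib
import Groth.Agent.Lib.Helper2.FunFld.LSpace

/-!
# Function fields over an algebraically closed field: places have degree one,
and imposing one more vanishing condition at a place drops dimensions by at most one.
-/

set_option autoImplicit false
open scoped WithZero
open FunFld
open Groth.Agent.Lib.Helper2.FF

namespace Groth.Agent.Lib.Helper26.FunFldAlgClosed

variable {k K : Type*} [Field k] [Field K] [Algebra k K]

/-- Over an algebraically closed constant field every place has degree one. -/
theorem deg_eq_one [IsAlgClosed k] (hK : IsFunctionField k K) (P : FunFld.Place k K) :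
    P.deg = 1 := by
  have h0 := finiteDimensional_residueField P hK
  unfold Place.deg
  have h1 : @Module.Finite k (IsLocalRing.ResidueField P.O) _ _ (Algebra.toModule) := h0
  have : Algebra.IsIntegral k (IsLocalRing.ResidueField P.O) := Algebra.IsIntegral.of_finite k _
  have hbij : Function.Bijective (algebraMap k (IsLocalRing.ResidueField P.O)) :=
    IsAlgClosed.algebraMap_bijective_of_isIntegral
  have e : k ≃ₗ[k] IsLocalRing.ResidueField P.O :=
    LinearEquiv.ofBijective (Algebra.linearMap k (IsLocalRing.ResidueField P.O)) hbij
  have := e.finrank_eq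
  rw [Module.finrank_self] at this
  exact this.symm

theorem L_sub_single_le (E : Divisor k K) (P : FunFld.Place k K) :
    L (E - (Finsupp.single P 1 : Divisor k K)) ≤ L E := by
  apply L_mono
  intro R
  by_cases hR : P = R
  · subst hR; simp
  · simp [Finsupp.single_apply, hR]

theorem mem_L_sub_single_iff (E : Divisor k K) (P : FunFld.Place k K) (x : K) :
    x ∈ L (E - (Finsupp.single P 1 : Divisor k K)) ↔
      x ∈ L E ∧ v P x ≤ WithZero.exp (E P - 1) := by
  constructor
  · intro h
    refine ⟨L_sub_single_le E P h, ?_⟩
    simpa using h P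
  · rintro ⟨h1, h2⟩ R
    by_cases hR : P = R
    · subst hR; simpa using h2
    · have : (E - (Finsupp.single P 1 : Divisor k K)) R = E R := by
        simp [Finsupp.single_apply, hR]
      rw [this]; exact h1 R

/-- Imposing one more condition at a place of degree `d` drops the dimension of a
finite-dimensional linear system by at most `d`. -/
theorem finrank_inf_L_le_of_deg (V : Submodule k K) [Module.Finite k V]
    (E : Divisor k K) (P : FunFld.Place k K)
    [FiniteDimensional k (IsLocalRing.ResidueField P.O)] :
    Module.finrank k ↥(V ⊓ L E) ≤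
      Module.finrank k ↥(V ⊓ L (E - (Finsupp.single P 1 : Divisor k K))) + P.deg := by
  classical
  set W : Submodule k K := V ⊓ L E with hW
  haveI : Module.Finite k W :=
    Module.Finite.of_injective (Submodule.inclusion (inf_le_left : W ≤ V))
      (Submodule.inclusion_injective _)
  set n : ℤ := E P - 1 with hn
  obtain ⟨u, hu⟩ := exists_v_eq P (-(n + 1))
  have hWball : W ≤ ball P (n + 1) := by
    intro x hx
    have := hx.2 P
    rw [mem_ball]
    simpa [hn] using this
  set f : W →ₗ[k] IsLocalRing.ResidueField P.O :=
    (ballRes P n u hu).comp (Submodule.inclusion hWball) with hf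
  have hker : (LinearMap.ker f).map W.subtype =
      V ⊓ L (E - (Finsupp.single P 1 : Divisor k K)) := by
    ext x
    constructor
    · rintro ⟨⟨y, hy⟩, hyk, rfl⟩
      have hyk' : Submodule.inclusion hWball ⟨y, hy⟩ ∈ LinearMap.ker (ballRes P n u hu) := by
        simpa [hf, LinearMap.mem_ker] using hyk
      rw [ker_ballRes] at hyk'
      have h3 : v P y ≤ WithZero.exp n := hyk'
      exact ⟨hy.1, (mem_L_sub_single_iff E P y).2 ⟨hy.2, h3⟩⟩
    · rintro ⟨hxV, hxL⟩
      obtain ⟨h1, h2⟩ := (mem_L_sub_single_iff E P x).1 hxL
      refine ⟨⟨x, ⟨hxV, h1⟩⟩, ?_, rfl⟩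
      have : Submodule.inclusion hWball ⟨x, ⟨hxV, h1⟩⟩ ∈ LinearMap.ker (ballRes P n u hu) := by
        rw [ker_ballRes]
        exact h2
      simpa [hf, LinearMap.mem_ker] using this
  have h1 := LinearMap.finrank_range_add_finrank_ker f
  have h2 : Module.finrank k ↥(LinearMap.range f) ≤ P.deg := Submodule.finrank_le _
  have h3 : Module.finrank k ↥((LinearMap.ker f).map W.subtype) =
      Module.finrank k ↥(LinearMap.ker f) := Submodule.finrank_map_subtype_eq _ _
  rw [hker] at h3
  omega

/-- Over an algebraically closed constant field, imposing one more condition at a place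
drops the dimension of a finite-dimensional linear system by at most one. -/
theorem finrank_inf_L_le [IsAlgClosed k] (hK : IsFunctionField k K)
    (V : Submodule k K) [Module.Finite k V] (E : Divisor k K) (P : FunFld.Place k K) :
    Module.finrank k ↥(V ⊓ L E) ≤
      Module.finrank k ↥(V ⊓ L (E - (Finsupp.single P 1 : Divisor k K))) + 1 := by
  haveI := finiteDimensional_residueField P hK
  have := finrank_inf_L_le_of_deg V E P
  rwa [deg_eq_one hK P] at this

/-- `L` of a pointwise minimum is the intersection. -/
theorem L_inf_L (D₁ D₂ D₃ : Divisor k K) (h : ∀ R, D₃ R = min (D₁ R) (D₂ R)) :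
    L D₁ ⊓ L D₂ = L D₃ := by
  ext x
  constructor
  · rintro ⟨h1, h2⟩ R
    rw [h R]
    rcases min_choice (D₁ R) (D₂ R) with h' | h' <;> rw [h']
    · exact h1 R
    · exact h2 R
  · intro hx
    constructor
    · intro R
      exact (hx R).trans (WithZero.exp_le_exp.2 (by rw [h R]; exact min_le_left _ _))
    · intro R
      exact (hx R).trans (WithZero.exp_le_exp.2 (by rw [h R]; exact min_le_right _ _))

end Groth.Agent.Lib.Helper26.FunFldAlgClosed
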