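import Mathlib
import Groth.Agent.Lib.Helper2.FunFld.MapDiv
import Groth.Agent.Lib.Helper2.FunFld.RR
import Groth.Agent.Lib.Helper2.FunFld.DegOne
import Groth.Agent.Lib.Helper26.FunFldAlgClosed
set_option autoImplicit false
open scoped WithZero IntermediateField
open FunFld
open Groth.Agent.Lib.Helper2.FF
open Groth.Agent.Lib.Helper26.FunFldAlgClosed

namespace Groth.Agent.Lib.Helper26.LocRing

variable {k K : Type*} [Field k] [Field K] [Algebra k K]

theorem mul_mem_L {D₁ D₂ : Divisor k K} {a b : K} (ha : a ∈ L D₁) (hb : b ∈ L D₂) :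
    a * b ∈ L (D₁ + D₂) := by
  intro Q
  have h1 := ha Q
  have h2 := hb Q
  change v Q (a * b) ≤ _
  rw [map_mul, Finsupp.add_apply, WithZero.exp_add]
  exact mul_le_mul' h1 h2

theorem one_mem_L_zero : (1 : K) ∈ L (0 : Divisor k K) := by
  intro Q
  change v Q 1 ≤ _
  simp

theorem pow_mem_L {D : Divisor k K} {a : K} (ha : a ∈ L D) (n : ℕ) : a ^ n ∈ L (n • D) := by
  induction n with
  | zero => rw [pow_zero, zero_nsmul]; exact one_mem_L_zero
  | succ n ih =>
    rw [pow_succ, succ_nsmul]
    exact mul_mem_L ih ha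

/-- in `ℤᵐ⁰`, `x < exp n` iff `x ≤ exp (n - 1)` -/
theorem lt_exp_iff_le (x : ℤᵐ⁰) (n : ℤ) : x < WithZero.exp n ↔ x ≤ WithZero.exp (n - 1) := by
  by_cases hx : x = 0
  · subst hx; simp
  · obtain ⟨m, rfl⟩ : ∃ m : ℤ, x = WithZero.exp m := ⟨WithZero.log x, (WithZero.exp_log hx).symm⟩
    rw [WithZero.exp_lt_exp, WithZero.exp_le_exp]
    omega

/-- the pencil map `(a, b) ↦ s a + t b` on `L(E) × L(E)` -/
noncomputable def pencilMap (s t : K) (E : Divisor k K) : (L E × L E) →ₗ[k] K :=
  ((LinearMap.mulLeft k s).comp (L E).subtype).coprod ((LinearMap.mulLeft k t).comp (L E).subtype)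

theorem pencilMap_apply (s t : K) (E : Divisor k K) (p : L E × L E) :
    pencilMap s t E p = s * p.1 + t * p.2 := by
  simp [pencilMap]

/-- the kernel map `c ↦ (t c, - s c)` -/
noncomputable def kerMap (s t : K) (D' E : Divisor k K) (hs : s ∈ L D') (ht : t ∈ L D') :
    L (E - D') →ₗ[k] (L E × L E) where
  toFun c := (⟨t * c, by
      have := mul_mem_L ht c.2
      rwa [add_sub_cancel] at this⟩, ⟨-(s * c), by
      have := (L E).neg_mem (by
        have := mul_mem_L hs c.2
        rwa [add_sub_cancel] at this : s * (c : K) ∈ L E)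
      exact this⟩)
  map_add' c c' := by
    ext <;> simp [mul_add]
    ring
  map_smul' a c := by
    ext <;> simp

theorem pencil_finrank (hK : IsFunctionField k K) {s t : K} {D' E : Divisor k K} (hs0 : s ≠ 0)
    (hbpf : ∀ Q : FunFld.Place k K, v Q s ≤ WithZero.exp (D' Q) ∧ v Q t ≤ WithZero.exp (D' Q) ∧
      (v Q s = WithZero.exp (D' Q) ∨ v Q t = WithZero.exp (D' Q))) :
    Module.finrank k (LinearMap.range (pencilMap s t E)) + ell (E - D') = 2 * ell E := by
  classical
  have hs : s ∈ L D' := fun Q => (hbpf Q).1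
  have ht : t ∈ L D' := fun Q => (hbpf Q).2.1
  have := finiteDimensional_L hK E
  have := finiteDimensional_L hK (E - D')
  have hinj : Function.Injective (kerMap s t D' E hs ht) := by
    intro c c' h
    have h2 := congrArg (fun p => ((p.2 : L E) : K)) h
    simp only [kerMap, LinearMap.coe_mk, AddHom.coe_mk, neg_inj] at h2
    exact Subtype.ext (mul_left_cancel₀ hs0 h2)
  have hrange : LinearMap.range (kerMap s t D' E hs ht) = LinearMap.ker (pencilMap s t E) := by
    ext p
    rw [LinearMap.mem_ker, pencilMap_apply]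
    constructor
    · rintro ⟨c, rfl⟩
      simp only [kerMap, LinearMap.coe_mk, AddHom.coe_mk]
      ring
    · intro hp
      obtain ⟨⟨a, ha⟩, ⟨b, hb⟩⟩ := p
      simp only at hp
      have hc : -(b / s) ∈ L (E - D') := by
        intro Q
        change v Q (-(b / s)) ≤ _
        rw [Valuation.map_neg, Finsupp.sub_apply]
        obtain ⟨h1, h2, h3 | h3⟩ := hbpf Q
        · rw [map_div₀, h3, WithZero.exp_sub]
          exact (div_le_div_iff_of_pos_right WithZero.exp_pos).2 (hb Q)
        · have ht0 : t ≠ 0 := by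
            rintro rfl
            rw [map_zero] at h3
            exact WithZero.exp_ne_zero h3.symm
          have e : b / s = -(a / t) := by
            field_simp
            linear_combination hp
          rw [e, Valuation.map_neg, map_div₀, h3, WithZero.exp_sub]
          exact (div_le_div_iff_of_pos_right WithZero.exp_pos).2 (ha Q)
      refine ⟨⟨-(b / s), hc⟩, ?_⟩
      simp only [kerMap, LinearMap.coe_mk, AddHom.coe_mk]
      ext
      · simp only
        field_simp
        linear_combination -hp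
      · simp only
        field_simp
  have h1 := LinearMap.finrank_range_add_finrank_ker (pencilMap s t E)
  rw [← hrange, LinearMap.finrank_range_of_inj hinj, Module.finrank_prod] at h1
  rw [ell_def, ell_def]
  omega

theorem pencil_range_le {s t : K} {D' E : Divisor k K} (hs : s ∈ L D') (ht : t ∈ L D') :
    LinearMap.range (pencilMap s t E) ≤ L (E + D') := by
  rintro _ ⟨p, rfl⟩
  rw [pencilMap_apply]
  refine (L _).add_mem ?_ ?_
  · have := mul_mem_L hs p.1.2
    rwa [add_comm] at this
  · have := mul_mem_L ht p.2.2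
    rwa [add_comm] at this

/-- **base-point-free pencil trick**, surjectivity form -/
theorem pencil_surj (hK : IsFunctionField k K) {s t : K} {D' E : Divisor k K} (hs0 : s ≠ 0)
    (hbpf : ∀ Q : FunFld.Place k K, v Q s ≤ WithZero.exp (D' Q) ∧ v Q t ≤ WithZero.exp (D' Q) ∧
      (v Q s = WithZero.exp (D' Q) ∨ v Q t = WithZero.exp (D' Q)))
    (hdeg : 2 * (genus k K : ℤ) - 1 ≤ (E - D').deg) (hD' : 0 ≤ D'.deg)
    {f : K} (hf : f ∈ L (E + D')) : ∃ a ∈ L E, ∃ b ∈ L E, f = s * a + t * b := by
  classical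
  have hs : s ∈ L D' := fun Q => (hbpf Q).1
  have ht : t ∈ L D' := fun Q => (hbpf Q).2.1
  have h1 := pencil_finrank hK (E := E) hs0 hbpf
  rw [deg_sub] at hdeg
  have e1 := ell_eq_of_deg_ge hK (E - D') (by rw [deg_sub]; exact hdeg)
  have e2 := ell_eq_of_deg_ge hK E (by omega)
  have e3 := ell_eq_of_deg_ge hK (E + D') (by rw [deg_add]; omega)
  rw [deg_sub] at e1
  rw [deg_add] at e3
  have := finiteDimensional_L hK (E + D')
  have h2 : LinearMap.range (pencilMap s t E) = L (E + D') := by
    apply Submodule.eq_of_le_of_finrank_eq (pencil_range_le hs ht)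
    rw [← ell_def]
    omega
  rw [← h2] at hf
  obtain ⟨p, rfl⟩ := hf
  exact ⟨p.1, p.1.2, p.2, p.2.2, pencilMap_apply s t E p⟩

theorem v_eq_of_not_mem_sub_single {D : Divisor k K} {Q : FunFld.Place k K} {t : K}
    (ht : t ∈ L D) (hn : t ∉ L (D - (Finsupp.single Q 1 : Divisor k K))) :
    v Q t = WithZero.exp (D Q) := by
  rw [mem_L_sub_single_iff] at hn
  by_contra hne
  apply hn
  refine ⟨ht, ?_⟩
  rw [← lt_exp_iff_le]
  exact lt_of_le_of_ne (ht Q) hne

/-- a base-point-free subspace contains a base-point-free pencil through any nonzero element -/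
theorem exists_pencil (hK : IsFunctionField k K) [Infinite k] (W : Submodule k K)
    (D : Divisor k K) (hW : W ≤ L D)
    (hbpf : ∀ Q : FunFld.Place k K, ∃ w ∈ W, v Q w = WithZero.exp (D Q))
    {s : K} (hs0 : s ≠ 0) :
    ∃ t ∈ W, ∀ Q : FunFld.Place k K, v Q s = WithZero.exp (D Q) ∨ v Q t = WithZero.exp (D Q) := by
  classical
  set Z : Set (FunFld.Place k K) := {Q | v Q s ≠ WithZero.exp (D Q)} with hZ
  have hZfin : Z.Finite := by
    apply Set.Finite.subset (D + FunFld.div k s).support.finite_toSet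
    intro Q hQ
    simp only [Finset.mem_coe, Finsupp.mem_support_iff, Finsupp.add_apply, div_apply hK]
    intro h0
    apply hQ
    rw [v_eq_exp_neg_ord Q hs0]
    congr 1
    omega
  let S : Finset (Subspace k W) := hZfin.toFinset.image
    (fun Q => Submodule.comap W.subtype (L (D - (Finsupp.single Q 1 : Divisor k K))))
  have hS : (⊤ : Subspace k W) ∉ S := by
    intro h
    obtain ⟨Q, -, hQ⟩ := Finset.mem_image.1 h
    obtain ⟨w, hw, hvw⟩ := hbpf Q
    have h1 : (⟨w, hw⟩ : W) ∈ Submodule.comap W.subtype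
        (L (D - (Finsupp.single Q 1 : Divisor k K))) := by rw [hQ]; trivial
    rw [Submodule.mem_comap, mem_L_sub_single_iff] at h1
    have h2 := h1.2
    simp only [Submodule.subtype_apply] at h2
    rw [hvw, WithZero.exp_le_exp] at h2
    omega
  have hne := Subspace.biUnion_ne_univ_of_top_notMem hS
  obtain ⟨t, ht⟩ : ∃ t : W, t ∉ ⋃ p ∈ S, (p : Set W) := by
    by_contra hcon
    push Not at hcon
    exact hne (Set.eq_univ_of_forall hcon)
  refine ⟨t, t.2, fun Q => ?_⟩
  by_cases hQ : v Q s = WithZero.exp (D Q)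
  · exact Or.inl hQ
  · right
    apply v_eq_of_not_mem_sub_single (hW t.2)
    intro hmem
    apply ht
    simp only [Set.mem_iUnion]
    exact ⟨_, Finset.mem_image.2 ⟨Q, hZfin.mem_toFinset.2 hQ, rfl⟩, hmem⟩

section locring

variable {ι : Type*}

theorem exists_index (φ : ι → K) (D : Divisor k K) (P : FunFld.Place k K) (hφ : ∀ i, φ i ∈ L D)
    (h : ∃ w ∈ Submodule.span k (Set.range φ), v P w = WithZero.exp (D P)) :
    ∃ j, v P (φ j) = WithZero.exp (D P) := by
  by_contra hcon
  push Not at hcon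
  have hlt : ∀ i, v P (φ i) < WithZero.exp (D P) := fun i => lt_of_le_of_ne (hφ i P) (hcon i)
  obtain ⟨w, hw, hvw⟩ := h
  have : v P w < WithZero.exp (D P) := by
    refine Submodule.span_induction (p := fun w _ => v P w < WithZero.exp (D P)) ?_ ?_ ?_ ?_ hw
    · rintro _ ⟨i, rfl⟩; exact hlt i
    · rw [map_zero]; exact WithZero.exp_pos
    · intro x y _ _ hx hy
      exact (Valuation.map_add _ _ _).trans_lt (max_lt hx hy)
    · intro c x _ hx
      exact (v_smul_le P c x).trans_lt hx
  rw [hvw] at this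
  exact lt_irrefl _ this

theorem div_mem_adjoin (φ : ι → K) (j : ι) {w : K} (hw : w ∈ Submodule.span k (Set.range φ)) :
    w / φ j ∈ Algebra.adjoin k (Set.range fun i => φ i / φ j) := by
  refine Submodule.span_induction
    (p := fun w _ => w / φ j ∈ Algebra.adjoin k (Set.range fun i => φ i / φ j)) ?_ ?_ ?_ ?_ hw
  · rintro _ ⟨i, rfl⟩; exact Algebra.subset_adjoin ⟨i, rfl⟩
  · rw [zero_div]; exact zero_mem _
  · intro x y _ _ hx hy
    rw [add_div]; exact add_mem hx hy
  · intro c x _ hx
    rw [smul_div_assoc]; exact Subalgebra.smul_mem _ hx c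

theorem v_le_one_of_mem_adjoin (φ : ι → K) (j : ι) (P : FunFld.Place k K)
    (hj : ∀ i, v P (φ i) ≤ v P (φ j)) {a : K}
    (ha : a ∈ Algebra.adjoin k (Set.range fun i => φ i / φ j)) : v P a ≤ 1 := by
  refine Algebra.adjoin_induction (p := fun a _ => v P a ≤ 1) ?_ ?_ ?_ ?_ ha
  · rintro _ ⟨i, rfl⟩
    rw [map_div₀]
    exact div_le_one_of_le₀ (hj i) zero_le
  · intro c; exact v_algebraMap_le P c
  · intro x y _ _ hx hy
    exact (Valuation.map_add _ _ _).trans (max_le hx hy)
  · intro x y _ _ hx hy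
    rw [map_mul]; exact mul_le_one' hx hy

/-- the ideal of elements of positive order at `P` in a subalgebra of the valuation ring -/
def idealLt (A : Subalgebra k K) (P : FunFld.Place k K) (hA : ∀ a ∈ A, v P a ≤ 1) : Ideal A where
  carrier := {a | v P (a : K) < 1}
  add_mem' := by
    intro a b ha hb
    have ha' : v P (a : K) < 1 := ha
    have hb' : v P (b : K) < 1 := hb
    change v P ((a + b : A) : K) < 1
    rw [Subalgebra.coe_add]
    exact (Valuation.map_add _ _ _).trans_lt (max_lt ha' hb')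
  zero_mem' := by
    change v P ((0 : A) : K) < 1
    simp
  smul_mem' := by
    intro c a ha
    change v P ((c * a : A) : K) < 1
    have ha' : v P (a : K) < 1 := ha
    rw [Subalgebra.coe_mul, map_mul]
    calc v P (c : K) * v P (a : K) ≤ 1 * v P (a : K) := mul_le_mul' (hA c c.2) le_rfl
      _ = v P (a : K) := one_mul _
      _ < 1 := ha'

theorem mem_idealLt (A : Subalgebra k K) (P : FunFld.Place k K) (hA : ∀ a ∈ A, v P a ≤ 1) (a : A) :
    a ∈ idealLt A P hA ↔ v P (a : K) < 1 := Iff.rfl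

theorem nakayama_step (A : Subalgebra k K) (P : FunFld.Place k K) (hA : ∀ a ∈ A, v P a ≤ 1)
    (N : Submodule A K) (hfg : N.FG)
    (hN : N ≤ Submodule.span A {(1 : K)} ⊔ idealLt A P hA • N) :
    ∃ r ∈ A, v P (r - 1) < 1 ∧ ∀ n ∈ N, r * n ∈ A := by
  classical
  set T : Submodule A K := Submodule.span A {(1 : K)} with hT
  set I := idealLt A P hA with hI
  have h1 : N.map T.mkQ ≤ I • N.map T.mkQ := by
    calc N.map T.mkQ ≤ (T ⊔ I • N).map T.mkQ := Submodule.map_mono hN
      _ = I • N.map T.mkQ := by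
        rw [Submodule.map_sup, Submodule.mkQ_map_self, bot_sup_eq, Submodule.map_smul'']
  obtain ⟨r, hr1, hr2⟩ := Submodule.exists_sub_one_mem_and_smul_eq_zero_of_fg_of_le_smul I
    (N.map T.mkQ) (hfg.map _) h1
  refine ⟨r, r.2, ?_, fun n hn => ?_⟩
  · have := (mem_idealLt A P hA (r - 1)).1 hr1
    simpa using this
  · have h2 := hr2 (T.mkQ n) (Submodule.mem_map_of_mem hn)
    rw [← map_smul, Submodule.mkQ_apply, Submodule.Quotient.mk_eq_zero, hT,
      Submodule.mem_span_singleton] at h2
    obtain ⟨a, ha⟩ := h2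
    have e : (r : K) * n = a := by
      have h3 : r • n = (r : K) * n := rfl
      have h4 : a • (1 : K) = (a : K) * 1 := rfl
      rw [← h3, ← ha, h4, mul_one]
    rw [e]
    exact a.2

theorem deg_pos_of_sep (hK : IsFunctionField k K) {D : Divisor k K} {P : FunFld.Place k K}
    {s s' : K} (hs : s ∈ L D) (hs' : s' ∈ L D) (hvs : v P s = WithZero.exp (D P))
    (hvs' : v P s' = WithZero.exp (D P - 1)) : 1 ≤ D.deg := by
  classical
  have hs0 : s ≠ 0 := by
    rintro rfl; rw [map_zero] at hvs; exact WithZero.exp_ne_zero hvs.symm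
  have hs'0 : s' ≠ 0 := by
    rintro rfl; rw [map_zero] at hvs'; exact WithZero.exp_ne_zero hvs'.symm
  set x := s' / s with hx
  have hx0 : x ≠ 0 := div_ne_zero hs'0 hs0
  have hordx : P.ord x = 1 := by
    rw [ord_eq_iff P hx0, hx, map_div₀, hvs, hvs', ← WithZero.exp_sub]
    congr 1; ring
  have htr : Transcendental k x :=
    transcendental_of_not_mem_range hK (not_mem_range_of_ord_ne_zero P (by omega))
  have hle : pdiv (k := k) x ≤ D + FunFld.div k s := by
    intro Q
    rw [pdiv_apply hK, Finsupp.add_apply, div_apply hK]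
    have h1 := (v_le_exp_iff Q hs0 _).1 (hs Q)
    have h2 := (v_le_exp_iff Q hs'0 _).1 (hs' Q)
    have h3 : Q.ord x = Q.ord s' - Q.ord s := by
      rw [hx, div_eq_mul_inv, ord_mul Q hs'0 (inv_ne_zero hs0), ord_inv]; ring
    rw [h3]
    apply max_le <;> omega
  have h4 := deg_mono hle
  rw [deg_add, deg_div hK, deg_pdiv hK htr] at h4
  have := finiteDimensional_adjoin_simple hK htr
  have h5 : 0 < Module.finrank k⟮x⟯ K := Module.finrank_pos
  omega

theorem v_eq_one_of_sub_one_lt (P : FunFld.Place k K) {r : K} (h : v P (r - 1) < 1) :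
    v P r = 1 := by
  have h1 : v P (r - 1) < v P (1 : K) := by rwa [map_one]
  have h2 := Valuation.map_add_eq_of_lt_left (v P) h1
  rw [add_sub_cancel, map_one] at h2
  exact h2

/-- **nonsingularity criterion**: a base-point-free linear system that separates `P` from all
places and has an element of exact order one more at `P` is nonsingular at `P` -/
theorem isNonsingularAt_of_sep [IsAlgClosed k] (hK : IsFunctionField k K) (φ : ι → K)
    (D : Divisor k K) (P : FunFld.Place k K) (hφ : ∀ i, φ i ∈ L D)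
    (hbpf : ∀ Q : FunFld.Place k K, ∃ w ∈ Submodule.span k (Set.range φ),
      v Q w = WithZero.exp (D Q))
    (hsep : ∀ Q : FunFld.Place k K, ∃ w ∈ Submodule.span k (Set.range φ),
      v P w < WithZero.exp (D P) ∧
        v Q w = WithZero.exp ((D - (Finsupp.single P 1 : Divisor k K)) Q)) :
    IsNonsingularAt φ P := by
  classical
  set W := Submodule.span k (Set.range φ) with hWdef
  have hWL : W ≤ L D := Submodule.span_le.2 (by rintro _ ⟨i, rfl⟩; exact hφ i)
  have hPdeg : P.deg = 1 := deg_eq_one hK P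
  obtain ⟨j, hj⟩ := exists_index φ D P hφ (hbpf P)
  set s := φ j with hs
  have hs0 : s ≠ 0 := by
    intro h; rw [h, map_zero] at hj; exact WithZero.exp_ne_zero hj.symm
  have hsW : s ∈ W := Submodule.subset_span ⟨j, rfl⟩
  have hjle : ∀ i, v P (φ i) ≤ v P (φ j) := fun i => by rw [hj]; exact hφ i P
  -- pencil (s, t)
  obtain ⟨t, htW, hst⟩ := exists_pencil hK W D hWL hbpf hs0
  have hbpf1 : ∀ Q : FunFld.Place k K, v Q s ≤ WithZero.exp (D Q) ∧ v Q t ≤ WithZero.exp (D Q) ∧
      (v Q s = WithZero.exp (D Q) ∨ v Q t = WithZero.exp (D Q)) :=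
    fun Q => ⟨hWL hsW Q, hWL htW Q, hst Q⟩
  -- pencil (s', t') in W(-P)
  set D' := D - (Finsupp.single P 1 : Divisor k K) with hD'
  set W' := W ⊓ L D' with hW'
  have hbpf' : ∀ Q : FunFld.Place k K, ∃ w ∈ W', v Q w = WithZero.exp (D' Q) := by
    intro Q
    obtain ⟨w, hw, hw1, hw2⟩ := hsep Q
    refine ⟨w, ⟨hw, ?_⟩, hw2⟩
    change w ∈ L D'
    rw [hD', mem_L_sub_single_iff]
    exact ⟨hWL hw, (lt_exp_iff_le _ _).1 hw1⟩
  obtain ⟨s', hs'W, hs'P⟩ := hbpf' P
  have hs'0 : s' ≠ 0 := by
    intro h; rw [h, map_zero] at hs'P; exact WithZero.exp_ne_zero hs'P.symm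
  obtain ⟨t', ht'W, hst'⟩ := exists_pencil hK W' D' inf_le_right hbpf' hs'0
  have hbpf2 : ∀ Q : FunFld.Place k K, v Q s' ≤ WithZero.exp (D' Q) ∧
      v Q t' ≤ WithZero.exp (D' Q) ∧
      (v Q s' = WithZero.exp (D' Q) ∨ v Q t' = WithZero.exp (D' Q)) :=
    fun Q => ⟨hs'W.2 Q, ht'W.2 Q, hst' Q⟩
  have hD'P : D' P = D P - 1 := by rw [hD']; simp
  have hdpos : 1 ≤ D.deg :=
    deg_pos_of_sep hK (hWL hsW) (L_sub_single_le _ _ hs'W.2) hj (by rw [hs'P, hD'P])
  set g := genus k K with hg
  set d := D.deg with hd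
  set e := 2 * g + 1 with he
  have hdegD' : D'.deg = d - 1 := by rw [hD', deg_sub, deg_single, hPdeg, hd]; simp
  -- the algebra and the module
  set A := Algebra.adjoin k (Set.range fun i => φ i / s) with hA
  have hA1 : ∀ a ∈ A, v P a ≤ 1 := fun a ha => v_le_one_of_mem_adjoin φ j P hjle ha
  have hWA : ∀ w ∈ W, w / s ∈ A := fun w hw => div_mem_adjoin φ j hw
  obtain ⟨S, hS⟩ := (Submodule.fg_iff_finiteDimensional _).2 (finiteDimensional_L hK (e • D))
  set N : Submodule A K := Submodule.span A ((fun g => g / s ^ e) '' (S : Set K)) with hN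
  have hNfg : N.FG := Submodule.fg_span ((Finset.finite_toSet S).image _)
  have hLN : ∀ f ∈ L (e • D), f / s ^ e ∈ N := by
    intro f hf
    rw [← hS] at hf
    refine Submodule.span_induction (p := fun f _ => f / s ^ e ∈ N) ?_ ?_ ?_ ?_ hf
    · intro x hx; exact Submodule.subset_span ⟨x, hx, rfl⟩
    · rw [zero_div]; exact N.zero_mem
    · intro x y _ _ hx hy; rw [add_div]; exact N.add_mem hx hy
    · intro c x _ hx
      rw [smul_div_assoc]
      have : c • (x / s ^ e) = (algebraMap k A c) • (x / s ^ e) := by rw [algebraMap_smul]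
      rw [this]; exact N.smul_mem _ hx
  have hNle : N ≤ Submodule.span A {(1 : K)} ⊔ idealLt A P hA1 • N := by
    rw [hN, Submodule.span_le]
    rintro _ ⟨f₀, hgS, rfl⟩
    change f₀ / s ^ e ∈ _
    have hf₀ : f₀ ∈ L (e • D) := by rw [← hS]; exact Submodule.subset_span hgS
    have hv : v P (f₀ / s ^ e) ≤ 1 := by
      rw [map_div₀, map_pow, hj]
      apply div_le_one_of_le₀ _ zero_le
      have := hf₀ P
      rwa [Finsupp.smul_apply, WithZero.exp_nsmul] at this
    obtain ⟨c, hc⟩ := exists_sub_lt_one P hPdeg hv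
    set f := s * f₀ - c • s ^ (e + 1) with hf
    have hfL : f ∈ L ((e + 1) • D) := by
      rw [hf]
      have h2 : s ^ (e + 1) ∈ L ((e + 1) • D) := pow_mem_L (hWL hsW) (e + 1)
      have h3 : s * f₀ ∈ L ((e + 1) • D) := by
        have := mul_mem_L (hWL hsW) hf₀
        rwa [add_comm, ← succ_nsmul] at this
      exact sub_mem h3 (Submodule.smul_mem _ c h2)
    have hfv : v P f < WithZero.exp (((e + 1) • D) P) := by
      have e1 : f = s ^ (e + 1) * (f₀ / s ^ e - algebraMap k K c) := by
        rw [hf, Algebra.smul_def]; field_simp; ring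
      rw [e1, map_mul, map_pow, hj, Finsupp.smul_apply, WithZero.exp_nsmul]
      calc WithZero.exp (D P) ^ (e + 1) * v P (f₀ / s ^ e - algebraMap k K c)
          < WithZero.exp (D P) ^ (e + 1) * 1 :=
            mul_lt_mul_of_pos_left hc (pow_pos WithZero.exp_pos _)
        _ = _ := mul_one _
    have hfL' : f ∈ L (e • D + D') := by
      have : e • D + D' = (e + 1) • D - Finsupp.single P 1 := by
        rw [hD', succ_nsmul D e, add_sub_assoc]
      rw [this, mem_L_sub_single_iff]
      exact ⟨hfL, (lt_exp_iff_le _ _).1 hfv⟩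
    obtain ⟨a, ha, b, hb, hab⟩ := pencil_surj hK hs'0 hbpf2 (E := e • D)
      (by rw [deg_sub, deg_nsmul, hdegD', ← hd, he]; push_cast; nlinarith)
      (by rw [hdegD']; omega) hfL'
    have e2 : f₀ / s ^ e = (algebraMap k A c) • (1 : K) +
        ((⟨s' / s, hWA s' hs'W.1⟩ : A) • (a / s ^ e) +
          (⟨t' / s, hWA t' ht'W.1⟩ : A) • (b / s ^ e)) := by
      change _ = algebraMap k K c * 1 + (s' / s * (a / s ^ e) + t' / s * (b / s ^ e))
      have h1 : s * f₀ = algebraMap k K c * s ^ (e + 1) + (s' * a + t' * b) := by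
        rw [← hab, hf, Algebra.smul_def]; ring
      field_simp
      linear_combination h1
    rw [e2]
    refine Submodule.add_mem_sup (Submodule.smul_mem _ _ (Submodule.mem_span_singleton_self _)) ?_
    refine Submodule.add_mem _ (Submodule.smul_mem_smul ?_ (hLN a ha))
      (Submodule.smul_mem_smul ?_ (hLN b hb))
    · rw [mem_idealLt]
      change v P (s' / s) < 1
      rw [map_div₀, hj, hs'P, hD'P, ← WithZero.exp_sub, ← WithZero.exp_zero, WithZero.exp_lt_exp]
      omega
    · rw [mem_idealLt]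
      change v P (t' / s) < 1
      rw [map_div₀, hj]
      have h1 := ht'W.2 P
      rw [hD'P] at h1
      have h2 : v P t' < WithZero.exp (D P) := (lt_exp_iff_le _ _).2 h1
      exact (div_lt_one₀ WithZero.exp_pos).2 h2
  obtain ⟨r, hrA, hr1, hrN⟩ := nakayama_step A P hA1 N hNfg hNle
  have hstep : ∀ m, e ≤ m → ∀ f ∈ L (m • D), f / s ^ m ∈ N := by
    intro m hm
    induction m, hm using Nat.le_induction with
    | base => exact hLN
    | succ m hm ih =>
      intro f hf
      rw [succ_nsmul] at hf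
      have hmd : (m : ℤ) - 1 ≤ (m - 1) * d := by nlinarith
      obtain ⟨a, ha, b, hb, hab⟩ := pencil_surj hK hs0 hbpf1 (E := m • D)
        (by rw [deg_sub, deg_nsmul, ← hd]
            have : (e : ℤ) ≤ m := by exact_mod_cast hm
            rw [he] at this; push_cast at this; linarith)
        (by omega) hf
      have e3 : f / s ^ (m + 1) = a / s ^ m + (⟨t / s, hWA t htW⟩ : A) • (b / s ^ m) := by
        change _ = a / s ^ m + t / s * (b / s ^ m)
        rw [hab]; field_simp; ring
      rw [e3]; exact N.add_mem (ih a ha) (N.smul_mem _ (ih b hb))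
  -- now any `z ∈ O_P`
  intro z hz
  set E := pdiv (k := k) z with hE
  have hE0 : 0 ≤ E := pdiv_nonneg z
  have hEP : E P = 0 := by
    rw [hE, pdiv_apply hK]
    by_cases hz0 : z = 0
    · rw [hz0, ord_zero]; simp
    · have := (v_le_one_iff P hz0).1 hz
      apply max_eq_right; omega
  have hEdeg : 0 ≤ E.deg := deg_nonneg hE0
  set m := e + (E.deg.toNat + 2 * g + 1) with hm
  set Dm := m • D - E with hDm
  have hDmdeg : Dm.deg = m * d - E.deg := by rw [hDm, deg_sub, deg_nsmul]
  have hmd : (m : ℤ) ≤ m * d := by nlinarith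
  have hmE : E.deg + 2 * g + 1 ≤ (m : ℤ) := by
    rw [hm]; push_cast
    rw [Int.toNat_of_nonneg hEdeg]; omega
  have hlt : ell (Dm - (Finsupp.single P 1 : Divisor k K)) < ell Dm := by
    have e1 := ell_eq_of_deg_ge hK Dm (by rw [hDmdeg]; omega)
    have e2 := ell_eq_of_deg_ge hK (Dm - (Finsupp.single P 1 : Divisor k K))
      (by rw [deg_sub, deg_single, hPdeg, hDmdeg]; push_cast; omega)
    rw [deg_sub, deg_single, hPdeg] at e2
    push_cast at e2
    omega
  obtain ⟨h, hh0, hhL, hhord⟩ := exists_mem_L_ord_eq P hlt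
  have hvh : v P h = WithZero.exp ((m • D) P) := by
    rw [v_eq_exp_neg_ord P hh0, hhord, hDm]
    simp [hEP]
  have hhL' : h ∈ L (m • D) := L_mono (by rw [hDm]; exact sub_le_self _ hE0) hhL
  have hzhL : z * h ∈ L (m • D) := by
    have := mul_mem_L (mem_L_pdiv hK z) hhL
    rwa [hDm, add_sub_cancel] at this
  have hme : e ≤ m := by omega
  have hn1 := hrN _ (hstep m hme h hhL')
  have hn2 := hrN _ (hstep m hme (z * h) hzhL)
  refine ⟨j, hs0, hjle, r * (z * h / s ^ m), hn2, r * (h / s ^ m), hn1, ?_, ?_⟩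
  · have hvr : v P r = 1 := v_eq_one_of_sub_one_lt P hr1
    change v P (r * (h / s ^ m)) = 1
    rw [map_mul, hvr, one_mul, map_div₀, map_pow, hj, hvh, Finsupp.smul_apply,
      WithZero.exp_nsmul]
    exact div_self (pow_ne_zero _ WithZero.exp_ne_zero)
  · ring

/-- the criterion for a complete linear system, in terms of dimensions -/
theorem isNonsingularAt_of_ell [IsAlgClosed k] (hK : IsFunctionField k K) (φ : ι → K)
    (D : Divisor k K) (P : FunFld.Place k K)
    (hspan : Submodule.span k (Set.range φ) = L D)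
    (h1 : ∀ Q : FunFld.Place k K, ell (D - (Finsupp.single Q 1 : Divisor k K)) < ell D)
    (h2 : ∀ Q : FunFld.Place k K,
      ell (D - (Finsupp.single P 1 : Divisor k K) - (Finsupp.single Q 1 : Divisor k K)) <
        ell (D - (Finsupp.single P 1 : Divisor k K))) :
    IsNonsingularAt φ P := by
  classical
  apply isNonsingularAt_of_sep hK φ D P
  · intro i
    rw [← hspan]
    exact Submodule.subset_span ⟨i, rfl⟩
  · intro Q
    obtain ⟨w, hw0, hwL, hword⟩ := exists_mem_L_ord_eq Q (h1 Q)
    refine ⟨w, by rw [hspan]; exact hwL, ?_⟩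
    rw [v_eq_exp_neg_ord Q hw0, hword, neg_neg]
  · intro Q
    obtain ⟨w, hw0, hwL, hword⟩ := exists_mem_L_ord_eq Q (h2 Q)
    have hw' := (mem_L_sub_single_iff D P w).1 hwL
    refine ⟨w, by rw [hspan]; exact hw'.1, (lt_exp_iff_le _ _).2 hw'.2, ?_⟩
    rw [v_eq_exp_neg_ord Q hw0, hword, neg_neg]

end locring

end Groth.Agent.Lib.Helper26.LocRing


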