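import Mathlib
import Groth.Agent.Lib.Helper26.LocRing
set_option autoImplicit false
open scoped WithZero IntermediateField
open FunFld
open Groth.Agent.Lib.Helper2.FF
open Groth.Agent.Lib.Helper26.FunFldAlgClosed
open Groth.Agent.Lib.Helper26.LocRing

namespace Groth.Agent.Lib.Helper26.LocRing2

variable {k K : Type*} [Field k] [Field K] [Algebra k K] {ι : Type*}

/-- change of the reference index in the affine coordinate ring -/
theorem changeIndex (φ : ι → K) (j j' : ι) (hj' : φ j' ≠ 0) {a : K}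
    (ha : a ∈ Algebra.adjoin k (Set.range fun i => φ i / φ j')) :
    ∃ N : ℕ, ∀ M, N ≤ M →
      a * (φ j' / φ j) ^ M ∈ Algebra.adjoin k (Set.range fun i => φ i / φ j) := by
  set A := Algebra.adjoin k (Set.range fun i => φ i / φ j) with hA
  have hgen : ∀ i, φ i / φ j ∈ A := fun i => Algebra.subset_adjoin ⟨i, rfl⟩
  refine Algebra.adjoin_induction
    (p := fun a _ => ∃ N : ℕ, ∀ M, N ≤ M → a * (φ j' / φ j) ^ M ∈ A) ?_ ?_ ?_ ?_ ha
  · rintro _ ⟨i, rfl⟩
    refine ⟨1, fun M hM => ?_⟩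
    obtain ⟨M', rfl⟩ : ∃ M', M = M' + 1 := ⟨M - 1, by omega⟩
    have e : φ i / φ j' * (φ j' / φ j) ^ (M' + 1) = φ i / φ j * (φ j' / φ j) ^ M' := by
      rw [pow_succ]; field_simp
    rw [e]
    exact mul_mem (hgen i) (pow_mem (hgen j') _)
  · intro c
    exact ⟨0, fun M _ => mul_mem (Subalgebra.algebraMap_mem _ c) (pow_mem (hgen j') _)⟩
  · rintro x y _ _ ⟨N₁, h₁⟩ ⟨N₂, h₂⟩
    refine ⟨max N₁ N₂, fun M hM => ?_⟩
    rw [add_mul]
    exact add_mem (h₁ M (le_trans (le_max_left _ _) hM)) (h₂ M (le_trans (le_max_right _ _) hM))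
  · rintro x y _ _ ⟨N₁, h₁⟩ ⟨N₂, h₂⟩
    refine ⟨N₁ + N₂, fun M hM => ?_⟩
    have e : x * y * (φ j' / φ j) ^ M =
        (x * (φ j' / φ j) ^ N₁) * (y * (φ j' / φ j) ^ (M - N₁)) := by
      have : M = N₁ + (M - N₁) := by omega
      conv_lhs => rw [this, pow_add]
      ring
    rw [e]
    exact mul_mem (h₁ N₁ le_rfl) (h₂ (M - N₁) (by omega))

/-- membership in the local ring can be tested with any index of least order -/
theorem inLocRing_iff (φ : ι → K) (P : FunFld.Place k K) (j : ι) (hj0 : φ j ≠ 0)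
    (hj : ∀ i, v P (φ i) ≤ v P (φ j)) (z : K) :
    InLocRing φ P z ↔ ∃ u ∈ Algebra.adjoin k (Set.range fun i => φ i / φ j),
      ∃ w ∈ Algebra.adjoin k (Set.range fun i => φ i / φ j), v P w = 1 ∧ z * w = u := by
  constructor
  · rintro ⟨j', hj'0, hj', u, hu, w, hw, hw1, hzw⟩
    obtain ⟨N₁, h₁⟩ := changeIndex φ j j' hj'0 hu
    obtain ⟨N₂, h₂⟩ := changeIndex φ j j' hj'0 hw
    refine ⟨_, h₁ (max N₁ N₂) (le_max_left _ _), _, h₂ (max N₁ N₂) (le_max_right _ _), ?_, ?_⟩
    · have hx : v P (φ j' / φ j) = 1 := by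
        rw [map_div₀]
        have : v P (φ j') = v P (φ j) := le_antisymm (hj j') (hj' j)
        rw [this]
        exact div_self ((Valuation.ne_zero_iff _).2 hj0)
      rw [map_mul, map_pow, hx, one_pow, mul_one]
      exact hw1
    · rw [← hzw]; ring
  · rintro ⟨u, hu, w, hw, hw1, hzw⟩
    exact ⟨j, hj0, hj, u, hu, w, hw, hw1, hzw⟩

/-- first-order expansion of a polynomial in functions with given residues -/
theorem linearize (P : FunFld.Place k K) (ψ : ι → K) (c : ι → k)
    (hc : ∀ i, v P (ψ i - algebraMap k K (c i)) < 1) {u : K}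
    (hu : u ∈ Algebra.adjoin k (Set.range ψ)) :
    ∃ c₀ : k, ∃ ℓ ∈ Submodule.span k (Set.range fun i => ψ i - algebraMap k K (c i)),
      v P (u - algebraMap k K c₀ - ℓ) ≤ WithZero.exp (-2 : ℤ) := by
  set T := Submodule.span k (Set.range fun i => ψ i - algebraMap k K (c i)) with hT
  have hTlt : ∀ ℓ ∈ T, v P ℓ ≤ WithZero.exp (-1 : ℤ) := by
    intro ℓ hℓ
    refine Submodule.span_induction (p := fun ℓ _ => v P ℓ ≤ WithZero.exp (-1 : ℤ)) ?_ ?_ ?_ ?_ hℓ
    · rintro _ ⟨i, rfl⟩
      have := (lt_exp_iff_le _ 0).1 (by simpa using hc i)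
      simpa using this
    · simp
    · intro x y _ _ hx hy
      exact (Valuation.map_add _ _ _).trans (max_le hx hy)
    · intro a x _ hx
      exact (v_smul_le P a x).trans hx
  have hexp : WithZero.exp (-1 : ℤ) * WithZero.exp (-1 : ℤ) = WithZero.exp (-2 : ℤ) := by
    rw [← WithZero.exp_add]; norm_num
  have hexp1 : WithZero.exp (-1 : ℤ) ≤ (1 : ℤᵐ⁰) := by
    rw [← WithZero.exp_zero, WithZero.exp_le_exp]; norm_num
  have hexp2 : WithZero.exp (-2 : ℤ) ≤ (1 : ℤᵐ⁰) := by
    rw [← WithZero.exp_zero, WithZero.exp_le_exp]; norm_num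
  refine Algebra.adjoin_induction
    (p := fun u _ => ∃ c₀ : k, ∃ ℓ ∈ T, v P (u - algebraMap k K c₀ - ℓ) ≤ WithZero.exp (-2 : ℤ))
    ?_ ?_ ?_ ?_ hu
  · rintro _ ⟨i, rfl⟩
    refine ⟨c i, _, Submodule.subset_span ⟨i, rfl⟩, ?_⟩
    simp
  · intro a
    exact ⟨a, 0, T.zero_mem, by simp⟩
  · rintro x y _ _ ⟨a, ℓ, hℓ, h1⟩ ⟨b, m, hm, h2⟩
    refine ⟨a + b, ℓ + m, T.add_mem hℓ hm, ?_⟩
    have e : x + y - algebraMap k K (a + b) - (ℓ + m) =
        (x - algebraMap k K a - ℓ) + (y - algebraMap k K b - m) := by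
      rw [map_add]; ring
    rw [e]
    exact (Valuation.map_add _ _ _).trans (max_le h1 h2)
  · rintro x y _ _ ⟨a, ℓ, hℓ, h1⟩ ⟨b, m, hm, h2⟩
    refine ⟨a * b, a • m + b • ℓ, T.add_mem (T.smul_mem _ hm) (T.smul_mem _ hℓ), ?_⟩
    set ε := x - algebraMap k K a - ℓ with hε
    set δ := y - algebraMap k K b - m with hδ
    have hy1 : v P y ≤ 1 := by
      have e : y = algebraMap k K b + m + δ := by rw [hδ]; ring
      rw [e]
      refine (Valuation.map_add _ _ _).trans (max_le ((Valuation.map_add _ _ _).trans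
        (max_le (v_algebraMap_le P b) ((hTlt m hm).trans hexp1))) (h2.trans hexp2))
    have haℓ : v P (algebraMap k K a + ℓ) ≤ 1 :=
      (Valuation.map_add _ _ _).trans (max_le (v_algebraMap_le P a) ((hTlt ℓ hℓ).trans hexp1))
    have e : x * y - algebraMap k K (a * b) - (a • m + b • ℓ) =
        ℓ * m + ε * y + (algebraMap k K a + ℓ) * δ := by
      rw [hε, hδ, map_mul, Algebra.smul_def, Algebra.smul_def]; ring
    rw [e]
    refine (Valuation.map_add _ _ _).trans (max_le ((Valuation.map_add _ _ _).trans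
      (max_le ?_ ?_)) ?_)
    · rw [map_mul, ← hexp]
      exact mul_le_mul' (hTlt ℓ hℓ) (hTlt m hm)
    · rw [map_mul]
      calc v P ε * v P y ≤ WithZero.exp (-2 : ℤ) * 1 := mul_le_mul' h1 hy1
        _ = _ := mul_one _
    · rw [map_mul]
      calc v P (algebraMap k K a + ℓ) * v P δ ≤ 1 * WithZero.exp (-2 : ℤ) := mul_le_mul' haℓ h2
        _ = _ := one_mul _

/-- polynomials in functions with common residues at two places have common residues -/
theorem common_residue (P Q : FunFld.Place k K) (ψ : ι → K) (c : ι → k)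
    (hcP : ∀ i, v P (ψ i - algebraMap k K (c i)) < 1)
    (hcQ : ∀ i, v Q (ψ i - algebraMap k K (c i)) < 1) {a : K}
    (ha : a ∈ Algebra.adjoin k (Set.range ψ)) :
    ∃ c₀ : k, v P (a - algebraMap k K c₀) < 1 ∧ v Q (a - algebraMap k K c₀) < 1 := by
  refine Algebra.adjoin_induction
    (p := fun a _ => ∃ c₀ : k, v P (a - algebraMap k K c₀) < 1 ∧ v Q (a - algebraMap k K c₀) < 1)
    ?_ ?_ ?_ ?_ ha
  · rintro _ ⟨i, rfl⟩
    exact ⟨c i, hcP i, hcQ i⟩
  · intro a
    exact ⟨a, by simp, by simp⟩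
  · rintro x y _ _ ⟨a, h1, h2⟩ ⟨b, h3, h4⟩
    refine ⟨a + b, ?_, ?_⟩
    · have e : x + y - algebraMap k K (a + b) = (x - algebraMap k K a) + (y - algebraMap k K b) := by
        rw [map_add]; ring
      rw [e]
      exact (Valuation.map_add _ _ _).trans_lt (max_lt h1 h3)
    · have e : x + y - algebraMap k K (a + b) = (x - algebraMap k K a) + (y - algebraMap k K b) := by
        rw [map_add]; ring
      rw [e]
      exact (Valuation.map_add _ _ _).trans_lt (max_lt h2 h4)
  · rintro x y _ _ ⟨a, h1, h2⟩ ⟨b, h3, h4⟩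
    have key : ∀ R : FunFld.Place k K, v R (x - algebraMap k K a) < 1 →
        v R (y - algebraMap k K b) < 1 → v R (x * y - algebraMap k K (a * b)) < 1 := by
      intro R hx hy
      have hy1 : v R y ≤ 1 := by
        have e : y = (y - algebraMap k K b) + algebraMap k K b := by ring
        rw [e]
        exact (Valuation.map_add _ _ _).trans (max_le hy.le (v_algebraMap_le R b))
      have e : x * y - algebraMap k K (a * b) =
          (x - algebraMap k K a) * y + algebraMap k K a * (y - algebraMap k K b) := by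
        rw [map_mul]; ring
      rw [e]
      refine (Valuation.map_add _ _ _).trans_lt (max_lt ?_ ?_)
      · rw [map_mul]
        calc v R (x - algebraMap k K a) * v R y ≤ v R (x - algebraMap k K a) * 1 :=
              mul_le_mul' le_rfl hy1
          _ = _ := mul_one _
          _ < 1 := hx
      · rw [map_mul]
        calc v R (algebraMap k K a) * v R (y - algebraMap k K b)
            ≤ 1 * v R (y - algebraMap k K b) := mul_le_mul' (v_algebraMap_le R a) le_rfl
          _ = _ := one_mul _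
          _ < 1 := hy
    exact ⟨a * b, key P h1 h3, key Q h2 h4⟩

theorem v_lt_one_iff_of_residue (R : FunFld.Place k K) {a : K} {c : k}
    (h : v R (a - algebraMap k K c) < 1) : v R a < 1 ↔ c = 0 := by
  constructor
  · intro ha
    by_contra hc
    have h1 : v R (algebraMap k K c) = 1 := v_algebraMap R hc
    have e : algebraMap k K c = a - (a - algebraMap k K c) := by ring
    rw [e] at h1
    have := (Valuation.map_sub _ _ _).trans_lt (max_lt ha h)
    rw [h1] at this
    exact lt_irrefl _ this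
  · rintro rfl
    simpa using h

theorem v_le_one_of_residue (R : FunFld.Place k K) {a : K} {c : k}
    (h : v R (a - algebraMap k K c) < 1) : v R a ≤ 1 := by
  have e : a = (a - algebraMap k K c) + algebraMap k K c := by ring
  rw [e]
  exact (Valuation.map_add _ _ _).trans (max_le h.le (v_algebraMap_le R c))

theorem v_eq_one_of_residue (R : FunFld.Place k K) {a : K} {c : k}
    (h : v R (a - algebraMap k K c) < 1) (hc : c ≠ 0) : v R a = 1 := by
  apply le_antisymm (v_le_one_of_residue R h)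
  by_contra hlt
  push Not at hlt
  exact hc ((v_lt_one_iff_of_residue R h).1 hlt)

/-- a local parameter in the local ring gives an element of the span of exact next order -/
theorem exists_span_of_uniformizer (P : FunFld.Place k K) (hP : P.deg = 1) (φ : ι → K) (j : ι)
    (hj0 : φ j ≠ 0) (hj : ∀ i, v P (φ i) ≤ v P (φ j)) {t : K} (ht : InLocRing φ P t)
    (hvt : v P t = WithZero.exp (-1 : ℤ)) :
    ∃ w ∈ Submodule.span k (Set.range φ), v P w = WithZero.exp (-1 : ℤ) * v P (φ j) := by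
  classical
  obtain ⟨u, hu, w₀, hw₀, hw1, hzw⟩ := (inLocRing_iff φ P j hj0 hj t).1 ht
  have hvu : v P u = WithZero.exp (-1 : ℤ) := by
    rw [← hzw, map_mul, hw1, mul_one, hvt]
  have hψ : ∀ i, v P (φ i / φ j) ≤ 1 := fun i => by
    rw [map_div₀]; exact div_le_one_of_le₀ (hj i) zero_le
  choose c hc using fun i => exists_sub_lt_one P hP (hψ i)
  obtain ⟨c₀, ℓ, hℓ, hε⟩ := linearize P (fun i => φ i / φ j) c hc hu
  have hℓlt : v P ℓ < 1 := by
    refine Submodule.span_induction (p := fun ℓ _ => v P ℓ < 1) ?_ ?_ ?_ ?_ hℓ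
    · rintro _ ⟨i, rfl⟩; exact hc i
    · simp
    · intro x y _ _ hx hy
      exact (Valuation.map_add _ _ _).trans_lt (max_lt hx hy)
    · intro a x _ hx
      exact (v_smul_le P a x).trans_lt hx
  have h21 : WithZero.exp (-2 : ℤ) < WithZero.exp (-1 : ℤ) := by
    rw [WithZero.exp_lt_exp]; norm_num
  have h10 : WithZero.exp (-1 : ℤ) < (1 : ℤᵐ⁰) := by
    rw [← WithZero.exp_zero, WithZero.exp_lt_exp]; norm_num
  have hc₀ : c₀ = 0 := by
    have h1 : v P (u - ℓ - algebraMap k K c₀) < 1 := by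
      have e : u - ℓ - algebraMap k K c₀ = u - algebraMap k K c₀ - ℓ := by ring
      rw [e]; exact hε.trans_lt (h21.trans h10)
    have h2 : v P (u - ℓ) < 1 :=
      (Valuation.map_sub _ _ _).trans_lt (max_lt (by rw [hvu]; exact h10) hℓlt)
    exact (v_lt_one_iff_of_residue P h1).1 h2
  rw [hc₀, map_zero, sub_zero] at hε
  have hvℓ : v P ℓ = WithZero.exp (-1 : ℤ) := by
    have e : ℓ = u - (u - ℓ) := by ring
    rw [e, Valuation.map_sub_eq_of_lt_left _ (by rw [hvu]; exact hε.trans_lt h21), hvu]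
  refine ⟨ℓ * φ j, ?_, by rw [map_mul, hvℓ]⟩
  refine Submodule.span_induction
    (p := fun ℓ _ => ℓ * φ j ∈ Submodule.span k (Set.range φ)) ?_ ?_ ?_ ?_ hℓ
  · rintro _ ⟨i, rfl⟩
    have e : (φ i / φ j - algebraMap k K (c i)) * φ j = φ i - c i • φ j := by
      rw [Algebra.smul_def]; field_simp
    rw [e]
    exact Submodule.sub_mem _ (Submodule.subset_span ⟨i, rfl⟩)
      (Submodule.smul_mem _ _ (Submodule.subset_span ⟨j, rfl⟩))
  · rw [zero_mul]; exact Submodule.zero_mem _
  · intro x y _ _ hx hy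
    rw [add_mul]; exact Submodule.add_mem _ hx hy
  · intro a x _ hx
    rw [smul_mul_assoc]; exact Submodule.smul_mem _ _ hx

/-- if `W(-P) ⊆ W(-Q)` then the local ring at `P` lies in `O_Q`, compatibly with the maximal
ideals -/
theorem inLocRing_le_of_not_sep (P Q : FunFld.Place k K) (hP : P.deg = 1) (φ : ι → K)
    (D : Divisor k K) (hφ : ∀ i, φ i ∈ L D) (j : ι) (hjP : v P (φ j) = WithZero.exp (D P))
    (hQ : ∃ i, v Q (φ i) = WithZero.exp (D Q))
    (hns : ∀ w ∈ Submodule.span k (Set.range φ), v P w < WithZero.exp (D P) →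
      v Q w < WithZero.exp (D Q)) :
    v Q (φ j) = WithZero.exp (D Q) ∧
      ∀ z, InLocRing φ P z → v Q z ≤ 1 ∧ (v Q z < 1 ↔ v P z < 1) := by
  classical
  have hj0 : φ j ≠ 0 := by
    intro h; rw [h, map_zero] at hjP; exact WithZero.exp_ne_zero hjP.symm
  have hj : ∀ i, v P (φ i) ≤ v P (φ j) := fun i => by rw [hjP]; exact hφ i P
  have hjQ : v Q (φ j) = WithZero.exp (D Q) := by
    obtain ⟨i₀, hi₀⟩ := hQ
    obtain ⟨a, ha⟩ := exists_sub_smul_lt P hP hj0 (hj i₀)
    rw [hjP] at ha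
    have h1 := hns (φ i₀ - a • φ j) (Submodule.sub_mem _ (Submodule.subset_span ⟨i₀, rfl⟩)
      (Submodule.smul_mem _ _ (Submodule.subset_span ⟨j, rfl⟩))) ha
    by_contra hne
    have hlt : v Q (φ j) < WithZero.exp (D Q) := lt_of_le_of_ne (hφ j Q) hne
    have h2 : v Q (a • φ j) < v Q (φ i₀) := by
      rw [hi₀]; exact (v_smul_le Q a _).trans_lt hlt
    rw [Valuation.map_sub_eq_of_lt_left _ h2, hi₀] at h1
    exact lt_irrefl _ h1
  refine ⟨hjQ, ?_⟩
  have hψ : ∀ i, v P (φ i / φ j) ≤ 1 := fun i => by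
    rw [map_div₀]; exact div_le_one_of_le₀ (hj i) zero_le
  choose c hc using fun i => exists_sub_lt_one P hP (hψ i)
  have hcQ : ∀ i, v Q (φ i / φ j - algebraMap k K (c i)) < 1 := by
    intro i
    have e : φ i / φ j - algebraMap k K (c i) = (φ i - c i • φ j) / φ j := by
      rw [Algebra.smul_def]; field_simp
    have h1 : v P (φ i - c i • φ j) < WithZero.exp (D P) := by
      have := hc i
      rw [e, map_div₀, hjP] at this
      exact (div_lt_one₀ WithZero.exp_pos).1 this
    have h2 := hns _ (Submodule.sub_mem _ (Submodule.subset_span ⟨i, rfl⟩)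
      (Submodule.smul_mem _ _ (Submodule.subset_span ⟨j, rfl⟩))) h1
    rw [e, map_div₀, hjQ]
    exact (div_lt_one₀ WithZero.exp_pos).2 h2
  intro z hz
  obtain ⟨u, hu, w₀, hw₀, hw1, hzw⟩ := (inLocRing_iff φ P j hj0 hj z).1 hz
  obtain ⟨cu, hcu1, hcu2⟩ := common_residue P Q _ c hc hcQ hu
  obtain ⟨cw, hcw1, hcw2⟩ := common_residue P Q _ c hc hcQ hw₀
  have hcw : cw ≠ 0 := by
    intro h
    have := (v_lt_one_iff_of_residue P hcw1).2 h
    rw [hw1] at this
    exact lt_irrefl _ this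
  have hwQ : v Q w₀ = 1 := v_eq_one_of_residue Q hcw2 hcw
  have hzQ : v Q z = v Q u := by rw [← hzw, map_mul, hwQ, mul_one]
  have hzP : v P z = v P u := by rw [← hzw, map_mul, hw1, mul_one]
  rw [hzQ, hzP]
  exact ⟨v_le_one_of_residue Q hcu2,
    (v_lt_one_iff_of_residue Q hcu2).trans (v_lt_one_iff_of_residue P hcu1).symm⟩

/-- distinct places have distinct valuation rings (no inclusion) -/
theorem exists_O_diff [IsAlgClosed k] (hK : IsFunctionField k K) {P Q : FunFld.Place k K}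
    (hPQ : P ≠ Q) : ∃ z : K, v P z ≤ 1 ∧ 1 < v Q z := by
  classical
  set g := genus k K with hg
  set E : Divisor k K := Finsupp.single Q ((g : ℤ) + 1) with hE
  have hE0 : (0 : Divisor k K) ≤ E := by
    intro R
    by_cases h : Q = R
    · subst h; simp [hE]; omega
    · simp [hE, Finsupp.single_eq_of_ne (Ne.symm h)]
  have h1 := delta_le_genus hK E
  rw [hE, deg_single, deg_eq_one hK Q] at h1
  have h2 : 2 ≤ ell E := by
    rw [← hE] at h1
    push_cast at h1
    omega
  have hnle : ¬ L E ≤ L (0 : Divisor k K) := by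
    intro hle
    have := finiteDimensional_L hK (0 : Divisor k K)
    have h4 := Submodule.finrank_mono hle
    rw [← ell_def, ← ell_def, ell_zero hK] at h4
    omega
  obtain ⟨x, hxE, hx0⟩ := SetLike.not_le_iff_exists.1 hnle
  have hxr : x ∉ Set.range (algebraMap k K) := by
    rintro ⟨c, rfl⟩
    apply hx0
    rw [L_zero hK]
    exact Submodule.mem_one.2 ⟨c, rfl⟩
  have htr := transcendental_of_not_mem_range hK hxr
  obtain ⟨R, hR⟩ := exists_place_one_lt hK htr
  have hRQ : R = Q := by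
    by_contra hne
    have := hxE R
    rw [hE, Finsupp.single_eq_of_ne hne, WithZero.exp_zero] at this
    exact absurd hR (not_lt.2 this)
  subst hRQ
  refine ⟨x, ?_, hR⟩
  have := hxE P
  rwa [hE, Finsupp.single_eq_of_ne hPQ, WithZero.exp_zero] at this

section mapdiv

variable [Fintype ι] [Nonempty ι]

theorem mem_L_mapDiv (hK : IsFunctionField k K) (φ : ι → K) (hφ0 : ∀ i, φ i ≠ 0) (i : ι) :
    φ i ∈ L (mapDiv k φ) := by
  intro Q
  change v Q (φ i) ≤ _
  rw [v_le_exp_iff Q (hφ0 i), mapDiv_apply hK.1]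
  have := Finset.inf'_le (fun i => Q.ord (φ i)) (Finset.mem_univ i)
  omega

theorem exists_v_eq_mapDiv (hK : IsFunctionField k K) (φ : ι → K) (hφ0 : ∀ i, φ i ≠ 0)
    (Q : FunFld.Place k K) : ∃ i, v Q (φ i) = WithZero.exp (mapDiv k φ Q) := by
  obtain ⟨i, -, hi⟩ := Finset.exists_mem_eq_inf' Finset.univ_nonempty (fun i => Q.ord (φ i))
  refine ⟨i, ?_⟩
  rw [v_eq_exp_neg_ord Q (hφ0 i), mapDiv_apply hK.1, hi]

/-- **nonsingularity criterion**, valuative form -/
theorem isNonsingularAt_iff_sep [IsAlgClosed k] (hK : IsFunctionField k K) (φ : ι → K)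
    (hφ0 : ∀ i, φ i ≠ 0) (P : FunFld.Place k K) :
    IsNonsingularAt φ P ↔ ∀ Q : FunFld.Place k K, ∃ w ∈ Submodule.span k (Set.range φ),
      v P w < WithZero.exp (mapDiv k φ P) ∧
        v Q w = WithZero.exp ((mapDiv k φ - (Finsupp.single P 1 : Divisor k K)) Q) := by
  classical
  have hφL' : ∀ i, φ i ∈ L (mapDiv k φ) := mem_L_mapDiv hK φ hφ0
  have hex : ∀ Q : FunFld.Place k K, ∃ i, v Q (φ i) = WithZero.exp (mapDiv k φ Q) :=
    exists_v_eq_mapDiv hK φ hφ0
  obtain ⟨D, hD⟩ : ∃ D, D = mapDiv k φ := ⟨_, rfl⟩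
  rw [← hD] at hφL' hex ⊢
  have hφL : ∀ i, φ i ∈ L D := hφL'
  have hPdeg : P.deg = 1 := deg_eq_one hK P
  constructor
  · intro hns Q
    obtain ⟨j, hj⟩ := hex P
    have hj0 := hφ0 j
    have hjle : ∀ i, v P (φ i) ≤ v P (φ j) := fun i => by rw [hj]; exact hφL i P
    by_cases hQP : Q = P
    · subst hQP
      obtain ⟨t, ht⟩ := exists_uniformizer Q
      have htin : InLocRing φ Q t := hns t (by
        change v Q t ≤ 1
        rw [ht, ← WithZero.exp_zero, WithZero.exp_le_exp]; norm_num)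
      obtain ⟨w, hw, hvw⟩ := exists_span_of_uniformizer Q hPdeg φ j hj0 hjle htin ht
      rw [hj, ← WithZero.exp_add] at hvw
      refine ⟨w, hw, ?_, ?_⟩
      · rw [hvw, WithZero.exp_lt_exp]; omega
      · rw [hvw]; congr 1; simp; ring
    · by_contra hcon
      push Not at hcon
      have hDQ : (D - (Finsupp.single P 1 : Divisor k K)) Q = D Q := by
        simp [Finsupp.single_eq_of_ne hQP]
      have hns' : ∀ w ∈ Submodule.span k (Set.range φ), v P w < WithZero.exp (D P) →
          v Q w < WithZero.exp (D Q) := by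
        intro w hw hwP
        have h1 := hcon w hw hwP
        rw [hDQ] at h1
        have hwL : w ∈ L D := (Submodule.span_le.2 (by rintro _ ⟨i, rfl⟩; exact hφL i)) hw
        exact lt_of_le_of_ne (hwL Q) h1
      obtain ⟨-, h2⟩ := inLocRing_le_of_not_sep P Q hPdeg φ D hφL j hj
        (hex Q) hns'
      obtain ⟨z, hzP, hzQ⟩ := exists_O_diff hK (Ne.symm hQP)
      exact absurd hzQ (not_lt.2 (h2 z (hns z hzP)).1)
  · intro h
    apply isNonsingularAt_of_sep hK φ D P hφL
    · intro Q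
      obtain ⟨i, hi⟩ := hex Q
      exact ⟨φ i, Submodule.subset_span ⟨i, rfl⟩, hi⟩
    · exact h

end mapdiv

end Groth.Agent.Lib.Helper26.LocRing2


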