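import Mathlib
import Groth.Agent.Lib.Helper26.LocRing2
set_option autoImplicit false
open scoped WithZero IntermediateField
open FunFld
open Groth.Agent.Lib.Helper2.FF
open Groth.Agent.Lib.Helper26.FunFldAlgClosed
open Groth.Agent.Lib.Helper26.LocRing
open Groth.Agent.Lib.Helper26.LocRing2

namespace Groth.Agent.Lib.Helper26.LocRing3

variable {k K : Type*} [Field k] [Field K] [Algebra k K] {ι : Type*}

/-- generation of `L(mD)` by a base-point-free pencil over `L(eD)`, `e = 2g + 1`, in affine form -/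
theorem pencil_generation (hK : IsFunctionField k K) [Infinite k] (φ : ι → K) (D : Divisor k K)
    (hφ : ∀ i, φ i ∈ L D)
    (hbpf : ∀ Q : FunFld.Place k K, ∃ w ∈ Submodule.span k (Set.range φ),
      v Q w = WithZero.exp (D Q))
    (j : ι) (hj0 : φ j ≠ 0) (hd : 1 ≤ D.deg) :
    ∀ m, 2 * genus k K + 1 ≤ m → ∀ f ∈ L (m • D),
      f / φ j ^ m ∈ Submodule.span (Algebra.adjoin k (Set.range fun i => φ i / φ j))
        ((fun g => g / φ j ^ (2 * genus k K + 1)) '' (L ((2 * genus k K + 1) • D) : Set K)) := by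
  classical
  set W := Submodule.span k (Set.range φ) with hWdef
  have hWL : W ≤ L D := Submodule.span_le.2 (by rintro _ ⟨i, rfl⟩; exact hφ i)
  set s := φ j with hs
  have hsW : s ∈ W := Submodule.subset_span ⟨j, rfl⟩
  obtain ⟨t, htW, hst⟩ := exists_pencil hK W D hWL hbpf hj0
  have hbpf1 : ∀ Q : FunFld.Place k K, v Q s ≤ WithZero.exp (D Q) ∧ v Q t ≤ WithZero.exp (D Q) ∧
      (v Q s = WithZero.exp (D Q) ∨ v Q t = WithZero.exp (D Q)) :=
    fun Q => ⟨hWL hsW Q, hWL htW Q, hst Q⟩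
  set g := genus k K with hg
  set e := 2 * g + 1 with he
  set A := Algebra.adjoin k (Set.range fun i => φ i / s) with hA
  have hWA : ∀ w ∈ W, w / s ∈ A := fun w hw => div_mem_adjoin φ j hw
  set N : Submodule A K := Submodule.span A ((fun g => g / s ^ e) '' (L (e • D) : Set K)) with hN
  intro m hm
  induction m, hm using Nat.le_induction with
  | base =>
    intro f hf
    exact Submodule.subset_span ⟨f, hf, rfl⟩
  | succ m hm ih =>
    intro f hf
    rw [succ_nsmul] at hf
    have hmd : (m : ℤ) - 1 ≤ (m - 1) * D.deg := by nlinarith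
    obtain ⟨a, ha, b, hb, hab⟩ := pencil_surj hK hj0 hbpf1 (E := m • D)
      (by rw [deg_sub, deg_nsmul]
          have : (e : ℤ) ≤ m := by exact_mod_cast hm
          rw [he] at this; push_cast at this; linarith)
      (by omega) hf
    have e3 : f / s ^ (m + 1) = a / s ^ m + (⟨t / s, hWA t htW⟩ : A) • (b / s ^ m) := by
      change _ = a / s ^ m + t / s * (b / s ^ m)
      rw [hab]; field_simp; ring
    rw [e3]; exact N.add_mem (ih a ha) (N.smul_mem _ (ih b hb))

/-- every element of `O_P` is a quotient of two elements of `L(mD)` for large `m` -/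
theorem exists_frac [IsAlgClosed k] (hK : IsFunctionField k K) (D : Divisor k K)
    (P : FunFld.Place k K) (hd : 1 ≤ D.deg) (e : ℕ) {z : K} (hz : v P z ≤ 1) :
    ∃ m, e ≤ m ∧ ∃ h ∈ L (m • D), v P h = WithZero.exp ((m • D) P) ∧ z * h ∈ L (m • D) := by
  classical
  have hPdeg : P.deg = 1 := deg_eq_one hK P
  set g := genus k K with hg
  set d := D.deg with hd'
  set E := pdiv (k := k) z with hE
  have hE0 : 0 ≤ E := pdiv_nonneg z
  have hEP : E P = 0 := by
    rw [hE, pdiv_apply hK]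
    by_cases hz0 : z = 0
    · rw [hz0, ord_zero]; simp
    · have := (v_le_one_iff P hz0).1 hz
      apply max_eq_right; omega
  have hEdeg : 0 ≤ E.deg := deg_nonneg hE0
  set m := e + (E.deg.toNat + 2 * g + 1) with hm
  set Dm := m • D - E with hDm
  have hDmdeg : Dm.deg = m * d - E.deg := by rw [hDm, deg_sub, deg_nsmul]
  have hmd : (m : ℤ) ≤ m * d := by nlinarith
  have hmE : E.deg + 2 * g + 1 ≤ (m : ℤ) := by
    rw [hm]; push_cast
    rw [Int.toNat_of_nonneg hEdeg]; omega
  have hlt : ell (Dm - (Finsupp.single P 1 : Divisor k K)) < ell Dm := by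
    have e1 := ell_eq_of_deg_ge hK Dm (by rw [hDmdeg]; omega)
    have e2 := ell_eq_of_deg_ge hK (Dm - (Finsupp.single P 1 : Divisor k K))
      (by rw [deg_sub, deg_single, hPdeg, hDmdeg]; push_cast; omega)
    rw [deg_sub, deg_single, hPdeg] at e2
    push_cast at e2
    omega
  obtain ⟨h, hh0, hhL, hhord⟩ := exists_mem_L_ord_eq P hlt
  have hvh : v P h = WithZero.exp ((m • D) P) := by
    rw [v_eq_exp_neg_ord P hh0, hhord, hDm]
    simp [hEP]
  have hhL' : h ∈ L (m • D) := L_mono (by rw [hDm]; exact sub_le_self _ hE0) hhL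
  have hzhL : z * h ∈ L (m • D) := by
    have := LocRing.mul_mem_L (mem_L_pdiv hK z) hhL
    rwa [hDm, add_sub_cancel] at this
  exact ⟨m, by omega, h, hhL', hvh, hzhL⟩

/-- the local ring (for a fixed reference index) is closed under linear combinations over the
affine coordinate ring -/
theorem span_le_locRing (φ : ι → K) (P : FunFld.Place k K) (j : ι) {S : Set K}
    (hS : ∀ x ∈ S, ∃ u ∈ Algebra.adjoin k (Set.range fun i => φ i / φ j),
      ∃ w ∈ Algebra.adjoin k (Set.range fun i => φ i / φ j), v P w = 1 ∧ x * w = u)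
    {x : K} (hx : x ∈ Submodule.span (Algebra.adjoin k (Set.range fun i => φ i / φ j)) S) :
    ∃ u ∈ Algebra.adjoin k (Set.range fun i => φ i / φ j),
      ∃ w ∈ Algebra.adjoin k (Set.range fun i => φ i / φ j), v P w = 1 ∧ x * w = u := by
  set A := Algebra.adjoin k (Set.range fun i => φ i / φ j) with hA
  refine Submodule.span_induction
    (p := fun x _ => ∃ u ∈ A, ∃ w ∈ A, v P w = 1 ∧ x * w = u) hS ?_ ?_ ?_ hx
  · exact ⟨0, zero_mem _, 1, one_mem _, map_one _, by ring⟩
  · rintro x y _ _ ⟨u₁, hu₁, w₁, hw₁, hv₁, h₁⟩ ⟨u₂, hu₂, w₂, hw₂, hv₂, h₂⟩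
    refine ⟨u₁ * w₂ + u₂ * w₁, add_mem (mul_mem hu₁ hw₂) (mul_mem hu₂ hw₁), w₁ * w₂,
      mul_mem hw₁ hw₂, by rw [map_mul, hv₁, hv₂, mul_one], ?_⟩
    rw [← h₁, ← h₂]; ring
  · rintro a x _ ⟨u, hu, w, hw, hv, h⟩
    refine ⟨a * u, mul_mem a.2 hu, w, hw, hv, ?_⟩
    rw [← h]
    change (a : K) * x * w = a * (x * w)
    ring

/-- if the finitely many generators `g / s^e`, `g ∈ L(eD)`, lie in the local ring at `P` and `s`
has least order at `P`, then `P` is nonsingular -/
theorem isNonsingularAt_of_gens [IsAlgClosed k] (hK : IsFunctionField k K) (φ : ι → K)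
    (D : Divisor k K) (hφ : ∀ i, φ i ∈ L D)
    (hbpf : ∀ Q : FunFld.Place k K, ∃ w ∈ Submodule.span k (Set.range φ),
      v Q w = WithZero.exp (D Q))
    (j : ι) (hd : 1 ≤ D.deg) (P : FunFld.Place k K) (hjP : v P (φ j) = WithZero.exp (D P))
    (hgens : ∀ g ∈ L ((2 * genus k K + 1) • D),
      ∃ u ∈ Algebra.adjoin k (Set.range fun i => φ i / φ j),
        ∃ w ∈ Algebra.adjoin k (Set.range fun i => φ i / φ j),
          v P w = 1 ∧ g / φ j ^ (2 * genus k K + 1) * w = u) :
    IsNonsingularAt φ P := by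
  classical
  have hj0 : φ j ≠ 0 := by
    intro h; rw [h, map_zero] at hjP; exact WithZero.exp_ne_zero hjP.symm
  have hjle : ∀ i, v P (φ i) ≤ v P (φ j) := fun i => by rw [hjP]; exact hφ i P
  intro z hz
  obtain ⟨m, hm, h, hhL, hvh, hzh⟩ := exists_frac hK D P hd (2 * genus k K + 1) hz
  have hgen := pencil_generation hK φ D hφ hbpf j hj0 hd m hm
  have hS : ∀ x ∈ (fun g => g / φ j ^ (2 * genus k K + 1)) ''
      (L ((2 * genus k K + 1) • D) : Set K),
      ∃ u ∈ Algebra.adjoin k (Set.range fun i => φ i / φ j),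
        ∃ w ∈ Algebra.adjoin k (Set.range fun i => φ i / φ j), v P w = 1 ∧ x * w = u := by
    rintro _ ⟨g, hg, rfl⟩
    exact hgens g hg
  obtain ⟨u₁, hu₁, w₁, hw₁, hv₁, h₁⟩ := span_le_locRing φ P j hS (hgen _ hzh)
  obtain ⟨u₂, hu₂, w₂, hw₂, hv₂, h₂⟩ := span_le_locRing φ P j hS (hgen _ hhL)
  have hvhs : v P (h / φ j ^ m) = 1 := by
    rw [map_div₀, map_pow, hjP, hvh, Finsupp.smul_apply, WithZero.exp_nsmul]
    exact div_self (pow_ne_zero _ WithZero.exp_ne_zero)
  have hh0 : h ≠ 0 := by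
    intro h0; rw [h0, zero_div, map_zero] at hvhs; exact zero_ne_one hvhs
  have hw₁0 : w₁ ≠ 0 := by
    intro h0; rw [h0, map_zero] at hv₁; exact zero_ne_one hv₁
  have hw₂0 : w₂ ≠ 0 := by
    intro h0; rw [h0, map_zero] at hv₂; exact zero_ne_one hv₂
  refine ⟨j, hj0, hjle, u₁ * w₂, mul_mem hu₁ hw₂, w₁ * u₂, mul_mem hw₁ hu₂, ?_, ?_⟩
  · change v P (w₁ * u₂) = 1
    rw [map_mul, hv₁, one_mul, ← h₂, map_mul, hvhs, hv₂, mul_one]
  · rw [← h₁, ← h₂]
    have hs0 : φ j ^ m ≠ 0 := pow_ne_zero _ hj0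
    field_simp

theorem one_le_deg_of_nonconstant (hK : IsFunctionField k K) {D : Divisor k K} {s s' : K}
    (hs : s ∈ L D) (hs' : s' ∈ L D) (hs0 : s ≠ 0)
    (hnc : s' / s ∉ Set.range (algebraMap k K)) : 1 ≤ D.deg := by
  classical
  have hs'0 : s' ≠ 0 := by
    rintro rfl
    apply hnc
    exact ⟨0, by simp⟩
  set x := s' / s with hx
  have htr : Transcendental k x := transcendental_of_not_mem_range hK hnc
  have hle : pdiv (k := k) x ≤ D + FunFld.div k s := by
    intro Q
    rw [pdiv_apply hK, Finsupp.add_apply, div_apply hK]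
    have h1 := (v_le_exp_iff Q hs0 _).1 (hs Q)
    have h2 := (v_le_exp_iff Q hs'0 _).1 (hs' Q)
    have h3 : Q.ord x = Q.ord s' - Q.ord s := by
      rw [hx, div_eq_mul_inv, ord_mul Q hs'0 (inv_ne_zero hs0), ord_inv]; ring
    rw [h3]
    apply max_le <;> omega
  have h4 := deg_mono hle
  rw [deg_add, deg_div hK, deg_pdiv hK htr] at h4
  have := finiteDimensional_adjoin_simple hK htr
  have h5 : 0 < Module.finrank k⟮x⟯ K := Module.finrank_pos
  omega

/-- a linearly independent tuple with at least two entries has a map divisor of positive degree -/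
theorem one_le_deg_mapDiv (hK : IsFunctionField k K) {n : ℕ} (hn : 1 ≤ n) (φ : Fin (n + 1) → K)
    (hφ : LinearIndependent k φ) : 1 ≤ (mapDiv k φ).deg := by
  have hφ0 : ∀ i, φ i ≠ 0 := fun i => hφ.ne_zero i
  have hφL : ∀ i, φ i ∈ L (mapDiv k φ) := mem_L_mapDiv hK φ hφ0
  have h01 : (1 : Fin (n + 1)) ≠ 0 := by
    intro h
    have := congrArg Fin.val h
    rw [Fin.val_one', Fin.val_zero] at this
    have h2 : 1 % (n + 1) = 1 := Nat.mod_eq_of_lt (by omega)
    omega
  apply one_le_deg_of_nonconstant hK (hφL 0) (hφL 1) (hφ0 0)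
  rintro ⟨c, hc⟩
  have h1 : φ 1 = c • φ 0 := by
    rw [Algebra.smul_def, hc]; field_simp [hφ0 0]
  have hpair : LinearIndependent k ![φ 0, φ 1] := by
    have := hφ.comp ![(0 : Fin (n + 1)), 1] (by
      intro a b hab
      fin_cases a <;> fin_cases b <;> simp_all)
    convert this using 1
    ext i; fin_cases i <;> rfl
  rw [LinearIndependent.pair_iff] at hpair
  have := (hpair (-c) 1 (by rw [h1]; simp)).2
  exact one_ne_zero this

end Groth.Agent.Lib.Helper26.LocRing3

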