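import Mathlib
import Groth.Agent.Lib.Helper2.FunFld.MapDiv
import Groth.Agent.Lib.Helper2.FunFld.RR
set_option autoImplicit false
open scoped WithZero IntermediateField
open FunFld
open Groth.Agent.Lib.Helper2.FF

namespace Groth.Agent.Lib.Helper26.PlaneModel

variable {k K : Type*} [Field k] [Field K] [Algebra k K]

/-- the valuation form of the divisor of the map `(1 : x : y)` -/
theorem v_le_exp_mapDiv (hK : IsFunctionField k K) (x y : K) (P : FunFld.Place k K) :
    v P x ≤ WithZero.exp (mapDiv k ![(1 : K), x, y] P) ∧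
    v P y ≤ WithZero.exp (mapDiv k ![(1 : K), x, y] P) ∧
    0 ≤ mapDiv k ![(1 : K), x, y] P := by
  rw [mapDiv_apply hK.1]
  have h0 := Finset.inf'_le (fun i => P.ord (![(1 : K), x, y] i)) (Finset.mem_univ (0 : Fin 3))
  have h1 := Finset.inf'_le (fun i => P.ord (![(1 : K), x, y] i)) (Finset.mem_univ (1 : Fin 3))
  have h2 := Finset.inf'_le (fun i => P.ord (![(1 : K), x, y] i)) (Finset.mem_univ (2 : Fin 3))
  simp only [Matrix.cons_val_zero, Matrix.cons_val_one, Matrix.cons_val_two, Matrix.head_cons,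
    Matrix.tail_cons, ord_one] at h0 h1 h2
  set m := Finset.univ.inf' Finset.univ_nonempty (fun i => P.ord (![(1 : K), x, y] i)) with hm
  refine ⟨?_, ?_, by omega⟩
  · by_cases hx : x = 0
    · subst hx; simp
    · rw [v_le_exp_iff P hx]; omega
  · by_cases hy : y = 0
    · subst hy; simp
    · rw [v_le_exp_iff P hy]; omega

/-- if the divisor is positive at `P`, one of `x`, `y` attains it -/
theorem v_eq_exp_mapDiv (hK : IsFunctionField k K) (x y : K) (P : FunFld.Place k K)
    (hpos : 0 < mapDiv k ![(1 : K), x, y] P) :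
    v P x = WithZero.exp (mapDiv k ![(1 : K), x, y] P) ∨
    v P y = WithZero.exp (mapDiv k ![(1 : K), x, y] P) := by
  rw [mapDiv_apply hK.1] at hpos ⊢
  obtain ⟨i, -, hi⟩ := Finset.exists_mem_eq_inf' Finset.univ_nonempty
    (fun i => P.ord (![(1 : K), x, y] i))
  rw [hi] at hpos ⊢
  fin_cases i
  · simp [ord_one] at hpos
  · left
    simp only [Fin.mk_one, Matrix.cons_val_one, Matrix.head_cons] at hpos ⊢
    have hx : x ≠ 0 := by
      rintro rfl
      simp [ord_zero] at hpos
    exact v_eq_exp_neg_ord P hx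
  · right
    simp only [Fin.reduceFinMk, Matrix.cons_val_two, Matrix.tail_cons, Matrix.head_cons] at hpos ⊢
    have hy : y ≠ 0 := by
      rintro rfl
      simp [ord_zero] at hpos
    exact v_eq_exp_neg_ord P hy


/-- a generic combination `x + b y` has pole divisor exactly `[1 : x : y]` -/
theorem exists_generic (hK : IsFunctionField k K) [Infinite k] (x y : K) :
    ∃ b : k, ∀ P : FunFld.Place k K, 0 < mapDiv k ![(1 : K), x, y] P →
      v P (x + b • y) = WithZero.exp (mapDiv k ![(1 : K), x, y] P) := by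
  classical
  set D := mapDiv k ![(1 : K), x, y] with hD
  have hle : ∀ (b : k) (P : FunFld.Place k K), v P (x + b • y) ≤ WithZero.exp (D P) := by
    intro b P
    obtain ⟨h1, h2, -⟩ := v_le_exp_mapDiv hK x y P
    exact (Valuation.map_add _ _ _).trans (max_le h1 ((v_smul_le P b y).trans h2))
  have hbad : ∀ P : FunFld.Place k K, 0 < D P →
      {b : k | v P (x + b • y) < WithZero.exp (D P)}.Subsingleton := by
    intro P hpos b₁ hb₁ b₂ hb₂
    by_contra hne
    simp only [Set.mem_setOf_eq] at hb₁ hb₂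
    have hsub : b₁ - b₂ ≠ 0 := sub_ne_zero.2 hne
    have hy : v P y < WithZero.exp (D P) := by
      have e : (b₁ - b₂) • y = (x + b₁ • y) - (x + b₂ • y) := by rw [sub_smul]; ring
      rw [← v_smul P (b₁ - b₂) y hsub, e]
      exact (Valuation.map_sub _ _ _).trans_lt (max_lt hb₁ hb₂)
    have hx : v P x < WithZero.exp (D P) := by
      have e : x = (x + b₁ • y) - b₁ • y := by ring
      rw [e]
      exact (Valuation.map_sub _ _ _).trans_lt (max_lt hb₁ ((v_smul_le P b₁ y).trans_lt hy))
    rcases v_eq_exp_mapDiv hK x y P hpos with h | h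
    · rw [h] at hx; exact lt_irrefl _ hx
    · rw [h] at hy; exact lt_irrefl _ hy
  have hfin : (⋃ P ∈ D.support, {b : k | v P (x + b • y) < WithZero.exp (D P)}).Finite := by
    apply Set.Finite.biUnion D.support.finite_toSet
    intro P hP
    have hpos : 0 < D P := by
      have h1 := (v_le_exp_mapDiv hK x y P).2.2
      have h2 : D P ≠ 0 := Finsupp.mem_support_iff.1 hP
      exact lt_of_le_of_ne h1 (Ne.symm h2)
    exact (hbad P hpos).finite
  obtain ⟨b, hb⟩ := hfin.infinite_compl.nonempty
  refine ⟨b, fun P hpos => ?_⟩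
  by_contra hne
  apply hb
  simp only [Set.mem_iUnion, Set.mem_setOf_eq]
  exact ⟨P, Finsupp.mem_support_iff.2 hpos.ne', lt_of_le_of_ne (hle b P) hne⟩

/-- the pole divisor of a generic combination is the map divisor -/
theorem pdiv_generic (hK : IsFunctionField k K) (x y : K) (b : k)
    (hb : ∀ P : FunFld.Place k K, 0 < mapDiv k ![(1 : K), x, y] P →
      v P (x + b • y) = WithZero.exp (mapDiv k ![(1 : K), x, y] P)) :
    pdiv (k := k) (x + b • y) = mapDiv k ![(1 : K), x, y] := by
  classical
  ext P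
  rw [pdiv_apply hK]
  obtain ⟨h1, h2, h0⟩ := v_le_exp_mapDiv hK x y P
  have hle : v P (x + b • y) ≤ WithZero.exp (mapDiv k ![(1 : K), x, y] P) :=
    (Valuation.map_add _ _ _).trans (max_le h1 ((v_smul_le P b y).trans h2))
  rcases h0.eq_or_lt with h | h
  · rw [← h] at hle ⊢
    by_cases hx0 : x + b • y = 0
    · rw [hx0, ord_zero]; simp
    · rw [v_le_exp_iff P hx0] at hle
      omega
  · have h3 := hb P h
    have hx0 : x + b • y ≠ 0 := by
      intro h0'
      rw [h0', map_zero] at h3
      exact WithZero.exp_ne_zero h3.symm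
    rw [v_eq_exp_neg_ord P hx0, WithZero.exp_inj] at h3
    omega

theorem sum_identity (m : ℕ) : ∀ N : ℕ, N ≤ m + 1 →
    2 * ∑ j ∈ Finset.range N, (m + 1 - j) + N * N = 2 * N * (m + 1) + N := by
  intro N
  induction N with
  | zero => intro _; simp
  | succ N ih =>
    intro h
    have ih' := ih (by omega)
    rw [Finset.sum_range_succ]
    obtain ⟨t, ht⟩ : ∃ t, m + 1 - N = t ∧ t + N = m + 1 := ⟨m + 1 - N, rfl, by omega⟩
    rw [ht.1]
    rw [← ht.2] at ih' ⊢
    zify at ih' ⊢
    linear_combination ih'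

/-- the genus bound for a plane model -/
theorem two_mul_genus_le (hK : IsFunctionField k K) [Infinite k] (x y : K)
    (hxy : IntermediateField.adjoin k ({x, y} : Set K) = ⊤) :
    2 * (genus k K : ℤ) ≤
      ((mapDiv k ![(1 : K), x, y]).deg - 1) * ((mapDiv k ![(1 : K), x, y]).deg - 2) := by
  classical
  obtain ⟨b, hb⟩ := exists_generic hK x y
  have hpd := pdiv_generic hK x y b hb
  have hvle := v_le_exp_mapDiv hK x y
  set D := mapDiv k ![(1 : K), x, y] with hD
  set x' := x + b • y with hx'
  -- transcendence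
  have htr : Transcendental k x' := by
    by_contra halg
    rw [Transcendental, not_not] at halg
    obtain ⟨c, hc⟩ := hK.2 x' halg
    have hD0 : D = 0 := by
      rw [← hpd, ← hc]
      ext P
      rw [pdiv_apply hK, ord_algebraMap]; simp
    have hxL : x ∈ L (0 : Divisor k K) := by
      rw [mem_L]; intro P; rw [← hD0]; exact (hvle P).1
    have hyL : y ∈ L (0 : Divisor k K) := by
      rw [mem_L]; intro P; rw [← hD0]; exact (hvle P).2.1
    rw [L_zero hK, Submodule.one_eq_range] at hxL hyL
    obtain ⟨cx, hcx⟩ := hxL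
    obtain ⟨cy, hcy⟩ := hyL
    have hbot : IntermediateField.adjoin k ({x, y} : Set K) = ⊥ := by
      rw [IntermediateField.adjoin_eq_bot_iff]
      rintro z (rfl | rfl)
      · exact IntermediateField.mem_bot.2 ⟨cx, hcx⟩
      · exact IntermediateField.mem_bot.2 ⟨cy, hcy⟩
    obtain ⟨⟨x₀, hx₀, -⟩, -⟩ := hK
    have : x₀ ∈ (⊤ : IntermediateField k K) := trivial
    rw [← hxy, hbot, IntermediateField.mem_bot] at this
    obtain ⟨c₀, rfl⟩ := this
    exact hx₀ (isAlgebraic_algebraMap c₀)
  have hfd : FiniteDimensional k⟮x'⟯ K := finiteDimensional_adjoin_simple hK htr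
  set N := Module.finrank k⟮x'⟯ K with hN
  have hNpos : 0 < N := Module.finrank_pos
  have hdeg : D.deg = (N : ℤ) := by rw [← hpd]; exact deg_pdiv hK htr
  -- `k(x')(y) = K`
  have htop : (k⟮x'⟯)⟮y⟯ = ⊤ := by
    rw [← IntermediateField.restrictScalars_eq_top_iff (K := k),
      IntermediateField.adjoin_adjoin_left, eq_top_iff, ← hxy, IntermediateField.adjoin_le_iff]
    have hy' : y ∈ IntermediateField.adjoin k ({x'} ∪ {y} : Set K) :=
      IntermediateField.subset_adjoin _ _ (Or.inr rfl)
    have hx'' : x' ∈ IntermediateField.adjoin k ({x'} ∪ {y} : Set K) :=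
      IntermediateField.subset_adjoin _ _ (Or.inl rfl)
    rintro z (rfl | rfl)
    · have e : z = x' - b • y := by rw [hx']; ring
      rw [e]
      exact sub_mem hx'' (IntermediateField.smul_mem _ hy')
    · exact hy'
  have hint : IsIntegral k⟮x'⟯ y := IsIntegral.of_finite _ _
  have hnat : (minpoly k⟮x'⟯ y).natDegree = N := by
    rw [← IntermediateField.adjoin.finrank hint, htop, IntermediateField.finrank_top']
  have hli1 := linearIndependent_pow (K := k⟮x'⟯) y
  rw [hnat] at hli1
  set g := genus k K with hg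
  set m := 2 * g + N with hm
  have hli2 := linearIndependent_pow_gen htr m
  have hli3 := linearIndependent_smul hli2 hli1
  -- the index set
  let ι := Σ j : Fin N, Fin (m + 1 - j)
  let φ : ι → Fin (m + 1) × Fin N := fun s => (⟨s.2, by have := s.2.2; omega⟩, s.1)
  have hφ : Function.Injective φ := by
    rintro ⟨j₁, i₁⟩ ⟨j₂, i₂⟩ h
    simp only [φ, Prod.mk.injEq, Fin.mk.injEq] at h
    obtain ⟨h1, rfl⟩ := h
    have : i₁ = i₂ := Fin.ext h1
    rw [this]
  have hli4 := hli3.comp φ hφ
  have hmem : ∀ s : ι, (x' ^ (s.2 : ℕ) * y ^ (s.1 : ℕ)) ∈ L (m • D) := by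
    intro s
    rw [mem_L]
    intro P
    obtain ⟨h1, h2, h0⟩ := hvle P
    have hx'le : v P x' ≤ WithZero.exp (D P) :=
      (Valuation.map_add _ _ _).trans (max_le h1 ((v_smul_le P b y).trans h2))
    have hone : (1 : WithZero (Multiplicative ℤ)) ≤ WithZero.exp (D P) := by
      rw [← WithZero.exp_zero, WithZero.exp_le_exp]; exact h0
    have hs : (s.2 : ℕ) + (s.1 : ℕ) ≤ m := by have := s.2.2; omega
    calc v P (x' ^ (s.2 : ℕ) * y ^ (s.1 : ℕ))
        = v P x' ^ (s.2 : ℕ) * v P y ^ (s.1 : ℕ) := by rw [map_mul, map_pow, map_pow]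
      _ ≤ WithZero.exp (D P) ^ (s.2 : ℕ) * WithZero.exp (D P) ^ (s.1 : ℕ) :=
          mul_le_mul' (pow_le_pow_left' hx'le _) (pow_le_pow_left' h2 _)
      _ = WithZero.exp (D P) ^ ((s.2 : ℕ) + (s.1 : ℕ)) := (pow_add _ _ _).symm
      _ ≤ WithZero.exp (D P) ^ m := pow_le_pow_right' hone hs
      _ = WithZero.exp ((m • D) P) := by
          rw [Finsupp.smul_apply, WithZero.exp_nsmul]
  let f : ι → L (m • D) := fun s => ⟨x' ^ (s.2 : ℕ) * y ^ (s.1 : ℕ), hmem s⟩
  have hli5 : LinearIndependent k f := by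
    apply LinearIndependent.of_comp (L (m • D)).subtype
    convert hli4 using 1
    ext s
    simp [f, φ, Algebra.smul_def]
  have hfin := finiteDimensional_L hK (m • D)
  have hcard := hli5.fintype_card_le_finrank
  have hcard2 : Fintype.card ι = ∑ j ∈ Finset.range N, (m + 1 - j) := by
    rw [Fintype.card_sigma]
    simp only [Fintype.card_fin]
    rw [Fin.sum_univ_eq_sum_range (fun j => m + 1 - j) N]
  have hid := sum_identity m N (by omega)
  have hell := ell_eq_of_deg_ge hK (m • D) (by
    rw [deg_nsmul, hdeg]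
    have : (1 : ℤ) ≤ N := by exact_mod_cast hNpos
    rw [hm]; push_cast; nlinarith)
  rw [deg_nsmul, hdeg] at hell
  rw [ell_def] at hell
  rw [hdeg]
  rw [hcard2] at hcard
  zify at hcard hid
  nlinarith

end Groth.Agent.Lib.Helper26.PlaneModel


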