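import Mathlib
import Groth.Agent.Lib.Helper26.PlaneModel
import Groth.Agent.Lib.Helper26.LocRing3
import Groth.Agent.Lib.Helper2.FunFld.IntCl2
import Groth.Agent.Lib.Helper2.FunFld.Ext
set_option autoImplicit false
open scoped WithZero IntermediateField
open FunFld
open Groth.Agent.Lib.Helper2.FF
open Groth.Agent.Lib.Helper26.FunFldAlgClosed
open Groth.Agent.Lib.Helper26.LocRing
open Groth.Agent.Lib.Helper26.LocRing2
open Groth.Agent.Lib.Helper26.LocRing3

namespace Groth.Agent.Lib.Helper26.PlaneModel2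

variable {k K : Type*} [Field k] [Field K] [Algebra k K]

/-- `k(x')` is a function field over `k` -/
theorem isFunctionField_adjoin (hK : IsFunctionField k K) {x' : K} (htr : Transcendental k x') :
    IsFunctionField k k⟮x'⟯ := by
  refine ⟨⟨IntermediateField.AdjoinSimple.gen k x', ?_, ?_⟩, ?_⟩
  · intro h
    apply htr
    have := h.algebraMap (A := K)
    rwa [IntermediateField.AdjoinSimple.algebraMap_gen] at this
  · have htop : IntermediateField.adjoin k
        ({IntermediateField.AdjoinSimple.gen k x'} : Set k⟮x'⟯) = ⊤ := by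
      apply IntermediateField.map_injective (IntermediateField.val k⟮x'⟯)
      rw [IntermediateField.adjoin_map, Set.image_singleton]
      simp only [IntermediateField.coe_val, IntermediateField.AdjoinSimple.coe_gen]
      rw [← AlgHom.fieldRange_eq_map, IntermediateField.fieldRange_val]
    rw [htop]
    exact Module.finite_of_finrank_pos (by rw [IntermediateField.finrank_top]; exact one_pos)
  · intro y hy
    obtain ⟨c, hc⟩ := hK.2 (y : K) (hy.algebraMap (A := K))
    exact ⟨c, Subtype.ext hc⟩

section ext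

variable {K' : Type*} [Field K'] [Algebra K K'] [Algebra k K'] [IsScalarTower k K K']

/-- an element regular at all places over `P` has a minimal polynomial with coefficients in `O_P` -/
theorem coeff_minpoly_le_one [FiniteDimensional K K'] (hK : IsFunctionField k K)
    (P : FunFld.Place k K) {z : K'} (hz : ∀ Q : FunFld.Place k K', IsOver Q P → v Q z ≤ 1)
    (n : ℕ) : v P ((minpoly K z).coeff n) ≤ 1 := by
  letI : Algebra P.O K' := ((algebraMap K K').comp P.O.subtype).toAlgebra
  haveI : IsScalarTower P.O K K' := IsScalarTower.of_algebraMap_eq (fun _ => rfl)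
  have hzB : z ∈ BP (K' := K') P := fun i => hz i.1 i.2
  rw [← integralClosure_eq_BP P hK] at hzB
  have hint : IsIntegral P.O z := hzB
  have h1 := minpoly.isIntegrallyClosed_eq_field_fractions' K hint
  rw [h1, Polynomial.coeff_map]
  exact (mem_O_iff P _).1 (Subtype.mem _)

end ext

/-- in `k(x')`, `L(l · (x')_∞)` consists of the polynomials of degree at most `l` -/
theorem mem_span_pow_gen (hK : IsFunctionField k K) {x' : K} (htr : Transcendental k x') (l : ℕ)
    {β : k⟮x'⟯}
    (hβ : β ∈ L (l • pdiv (k := k) (IntermediateField.AdjoinSimple.gen k x'))) :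
    β ∈ Submodule.span k (Set.range fun i : Fin (l + 1) =>
      (IntermediateField.AdjoinSimple.gen k x') ^ (i : ℕ)) := by
  classical
  have hF := isFunctionField_adjoin hK htr
  set g := IntermediateField.AdjoinSimple.gen k x' with hg
  have hgtr : Transcendental k g := by
    intro h
    apply htr
    have := h.algebraMap (A := K)
    rwa [IntermediateField.AdjoinSimple.algebraMap_gen] at this
  have htop : k⟮g⟯ = ⊤ := by
    apply IntermediateField.map_injective (IntermediateField.val k⟮x'⟯)
    rw [IntermediateField.adjoin_map, Set.image_singleton]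
    simp only [IntermediateField.coe_val, hg, IntermediateField.AdjoinSimple.coe_gen]
    rw [← AlgHom.fieldRange_eq_map, IntermediateField.fieldRange_val]
  have hdeg : (pdiv (k := k) g).deg = 1 := by
    rw [deg_pdiv hF hgtr, htop, IntermediateField.finrank_top]; rfl
  have hli := linearIndependent_pow_gen htr l
  set S := Submodule.span k (Set.range fun i : Fin (l + 1) => g ^ (i : ℕ)) with hS
  have hSle : S ≤ L (l • pdiv (k := k) g) := by
    rw [hS, Submodule.span_le]
    rintro _ ⟨i, rfl⟩
    have h1 := LocRing.pow_mem_L (mem_L_pdiv hF g) (i : ℕ)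
    refine L_mono ?_ h1
    intro Q
    rw [Finsupp.smul_apply, Finsupp.smul_apply]
    have h2 : 0 ≤ pdiv (k := k) g Q := pdiv_nonneg g Q
    have h3 : (i : ℕ) ≤ l := by have := i.2; omega
    simp only [nsmul_eq_mul]
    have h4 : ((i : ℕ) : ℤ) ≤ l := by exact_mod_cast h3
    nlinarith
  have hfin := finiteDimensional_L hF (l • pdiv (k := k) g)
  have hrank : Module.finrank k S = l + 1 := by
    rw [hS, finrank_span_eq_card hli]; simp
  have hell : ell (l • pdiv (k := k) g) ≤ l + 1 := by
    have h0 : (0 : Divisor k k⟮x'⟯) ≤ l • pdiv (k := k) g :=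
      nsmul_nonneg (pdiv_nonneg g) l
    have := ell_le_deg_add_one hF h0
    rw [deg_nsmul, hdeg] at this
    have h5 : ((ell (l • pdiv (k := k) g) : ℕ) : ℤ) ≤ l + 1 := by linarith
    exact_mod_cast h5
  have heq : S = L (l • pdiv (k := k) g) := by
    apply Submodule.eq_of_le_of_finrank_le hSle
    rw [hrank, ← ell_def]; exact hell
  rw [heq]; exact hβ

/-- the coefficients of the minimal polynomial of `y ∈ L((x')_∞)` over `k(x')` are polynomials in
`x'` of the expected degrees -/
theorem coeff_minpoly_mem_L (hK : IsFunctionField k K) {x' y : K} (htr : Transcendental k x')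
    [FiniteDimensional k⟮x'⟯ K]
    (hy : ∀ P : FunFld.Place k K, v P y ≤ WithZero.exp (pdiv (k := k) x' P)) (j : ℕ) :
    (minpoly k⟮x'⟯ y).coeff j ∈
      L (((minpoly k⟮x'⟯ y).natDegree - j) • pdiv (k := k) (IntermediateField.AdjoinSimple.gen k x')) := by
  classical
  have hF := isFunctionField_adjoin hK htr
  set g := IntermediateField.AdjoinSimple.gen k x' with hg
  have hgx : algebraMap k⟮x'⟯ K g = x' := IntermediateField.AdjoinSimple.algebraMap_gen k x'
  have hx0 : x' ≠ 0 := by
    rintro rfl; exact htr isAlgebraic_zero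
  have hg0 : g ≠ 0 := by
    intro h; rw [h, map_zero] at hgx; exact hx0 hgx.symm
  set p := minpoly k⟮x'⟯ y with hp
  have hyint : IsIntegral k⟮x'⟯ y := IsIntegral.of_finite _ _
  have hpm : p.Monic := minpoly.monic hyint
  intro 𝔭
  change v 𝔭 (p.coeff j) ≤ _
  rw [Finsupp.smul_apply, WithZero.exp_nsmul, pdiv_apply hF]
  rcases le_or_gt (v 𝔭 g) 1 with hle | hgt
  · -- finite place
    have h0 : 0 ≤ 𝔭.ord g := (v_le_one_iff 𝔭 hg0).1 hle
    rw [max_eq_right (by omega), WithZero.exp_zero, one_pow]
    apply coeff_minpoly_le_one hF 𝔭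
    rintro P ⟨e, he⟩
    have h1 : v P x' ≤ 1 := by
      rw [← hgx]
      change P.1 _ ≤ 1
      rw [he g]
      exact pow_le_one' hle e
    have h2 := hy P
    rw [pdiv_apply hK, max_eq_right (by have := (v_le_one_iff P hx0).1 h1; omega),
      WithZero.exp_zero] at h2
    exact h2
  · -- infinite place
    have h0 : 𝔭.ord g < 0 := (one_lt_v_iff 𝔭 hg0).1 hgt
    rw [max_eq_left (by omega), ← v_eq_exp_neg_ord 𝔭 hg0]
    set Y := (algebraMap k⟮x'⟯ K g)⁻¹ * y with hY
    have hYint : IsIntegral k⟮x'⟯ Y := IsIntegral.of_finite _ _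
    set q := minpoly k⟮x'⟯ Y with hq
    have hqm : q.Monic := minpoly.monic hYint
    have hqcoeff : ∀ n, v 𝔭 (q.coeff n) ≤ 1 := by
      intro n
      apply coeff_minpoly_le_one hF 𝔭
      rintro P ⟨e, he⟩
      have he1 : 1 ≤ e := isOverWith_one_le he
      have h1 : 1 < v P x' := by
        rw [← hgx]
        change 1 < P.1 _
        rw [he g]
        exact one_lt_pow' hgt (by omega)
      have h2 := hy P
      have h3 : P.ord x' < 0 := (one_lt_v_iff P hx0).1 h1
      rw [pdiv_apply hK, max_eq_left (by omega), ← v_eq_exp_neg_ord P hx0] at h2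
      rw [hY, hgx, map_mul, map_inv₀]
      have hvx0 : v P x' ≠ 0 := (Valuation.ne_zero_iff _).2 hx0
      rw [inv_mul_le_iff₀ (lt_of_le_of_ne zero_le hvx0.symm), mul_one]
      exact h2
    -- `p = scaleRoots q g`
    have h1 : Polynomial.aeval (algebraMap k⟮x'⟯ K g * Y) (Polynomial.scaleRoots q g) = 0 :=
      Polynomial.scaleRoots_aeval_eq_zero (minpoly.aeval _ _)
    have hgY : algebraMap k⟮x'⟯ K g * Y = y := by
      rw [hY, hgx]; field_simp
    rw [hgY] at h1
    have hdvd : p ∣ Polynomial.scaleRoots q g := minpoly.dvd _ _ h1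
    have h2 : Polynomial.aeval (algebraMap k⟮x'⟯ K g⁻¹ * y) (Polynomial.scaleRoots p g⁻¹) = 0 :=
      Polynomial.scaleRoots_aeval_eq_zero (minpoly.aeval _ _)
    have hgy : algebraMap k⟮x'⟯ K g⁻¹ * y = Y := by
      rw [hY, map_inv₀]
    rw [hgy] at h2
    have hdvd2 : q ∣ Polynomial.scaleRoots p g⁻¹ := minpoly.dvd _ _ h2
    have hdeg : q.natDegree ≤ p.natDegree := by
      have := Polynomial.natDegree_le_of_dvd hdvd2
        ((Polynomial.monic_scaleRoots_iff g⁻¹).2 hpm).ne_zero
      rwa [Polynomial.natDegree_scaleRoots] at this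
    have heq : Polynomial.scaleRoots q g = p :=
      Polynomial.eq_of_monic_of_dvd_of_natDegree_le hpm
        ((Polynomial.monic_scaleRoots_iff g).2 hqm) hdvd
        (by rw [Polynomial.natDegree_scaleRoots]; exact hdeg)
    have hdeq : q.natDegree = p.natDegree := by
      rw [← heq, Polynomial.natDegree_scaleRoots]
    rw [← heq, Polynomial.coeff_scaleRoots, map_mul, map_pow, hdeq, heq]
    calc v 𝔭 (q.coeff j) * v 𝔭 g ^ (p.natDegree - j)
        ≤ 1 * v 𝔭 g ^ (p.natDegree - j) := mul_le_mul' (hqcoeff j) le_rfl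
      _ = _ := one_mul _

/-- the monomials `x'^a y^b` with `b < N`, `a + b ≤ m` -/
def monoSet (x' y : K) (N m : ℕ) : Set K :=
  {f | ∃ a b : ℕ, b < N ∧ a + b ≤ m ∧ f = x' ^ a * y ^ b}

theorem monoSet_mono (x' y : K) (N : ℕ) {m m' : ℕ} (h : m ≤ m') :
    monoSet x' y N m ⊆ monoSet x' y N m' := by
  rintro f ⟨a, b, hb, hab, rfl⟩
  exact ⟨a, b, hb, by omega, rfl⟩

/-- `y^N` is a combination of the monomials `x'^a y^b`, `b < N`, `a + b ≤ N` -/
theorem pow_natDegree_mem (hK : IsFunctionField k K) {x' y : K} (htr : Transcendental k x')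
    [FiniteDimensional k⟮x'⟯ K]
    (hy : ∀ P : FunFld.Place k K, v P y ≤ WithZero.exp (pdiv (k := k) x' P)) :
    y ^ (minpoly k⟮x'⟯ y).natDegree ∈
      Submodule.span k (monoSet x' y (minpoly k⟮x'⟯ y).natDegree (minpoly k⟮x'⟯ y).natDegree) := by
  classical
  set g := IntermediateField.AdjoinSimple.gen k x' with hg
  have hgx : algebraMap k⟮x'⟯ K g = x' := IntermediateField.AdjoinSimple.algebraMap_gen k x'
  set p := minpoly k⟮x'⟯ y with hp
  set N := p.natDegree with hN
  have hyint : IsIntegral k⟮x'⟯ y := IsIntegral.of_finite _ _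
  have hpm : p.Monic := minpoly.monic hyint
  have h0 : Polynomial.aeval y p = 0 := minpoly.aeval _ _
  rw [hpm.as_sum, map_add, map_sum] at h0
  simp only [map_mul, map_pow, Polynomial.aeval_X, Polynomial.aeval_C] at h0
  have h1 : y ^ N = -∑ j ∈ Finset.range N, algebraMap k⟮x'⟯ K (p.coeff j) * y ^ j := by
    rw [eq_neg_iff_add_eq_zero]; exact h0
  rw [h1]
  refine Submodule.neg_mem _ (Submodule.sum_mem _ fun j hj => ?_)
  have hjN : j < N := Finset.mem_range.1 hj
  have h2 := mem_span_pow_gen hK htr (N - j) (coeff_minpoly_mem_L hK htr hy j)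
  refine Submodule.span_induction
    (p := fun β _ => algebraMap k⟮x'⟯ K β * y ^ j ∈ Submodule.span k (monoSet x' y N N))
    ?_ ?_ ?_ ?_ h2
  · rintro _ ⟨i, rfl⟩
    apply Submodule.subset_span
    refine ⟨i, j, hjN, by have := i.2; omega, ?_⟩
    rw [map_pow, hgx]
  · rw [map_zero, zero_mul]; exact Submodule.zero_mem _
  · intro a b _ _ ha hb
    rw [map_add, add_mul]; exact Submodule.add_mem _ ha hb
  · intro c a _ ha
    rw [Algebra.smul_def, map_mul, mul_assoc, ← IsScalarTower.algebraMap_apply, ← Algebra.smul_def]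
    exact Submodule.smul_mem _ _ ha

/-- all monomials `x'^a y^b` lie in the span of those with `b < N` of the same total degree -/
theorem monomial_mem (hK : IsFunctionField k K) {x' y : K} (htr : Transcendental k x')
    [FiniteDimensional k⟮x'⟯ K]
    (hy : ∀ P : FunFld.Place k K, v P y ≤ WithZero.exp (pdiv (k := k) x' P)) :
    ∀ (b a m : ℕ), a + b ≤ m →
      x' ^ a * y ^ b ∈ Submodule.span k (monoSet x' y (minpoly k⟮x'⟯ y).natDegree m) := by
  classical
  set N := (minpoly k⟮x'⟯ y).natDegree with hN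
  have hNy := pow_natDegree_mem hK htr hy
  rw [← hN] at hNy
  intro b
  induction b using Nat.strong_induction_on with
  | _ b ih =>
    intro a m hab
    by_cases hb : b < N
    · exact Submodule.subset_span ⟨a, b, hb, hab, rfl⟩
    · push Not at hb
      have e : x' ^ a * y ^ b = (x' ^ a * y ^ (b - N)) * y ^ N := by
        rw [mul_assoc, ← pow_add]; congr 2; omega
      rw [e]
      refine Submodule.span_induction
        (p := fun f _ => (x' ^ a * y ^ (b - N)) * f ∈ Submodule.span k (monoSet x' y N m))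
        ?_ ?_ ?_ ?_ hNy
      · rintro _ ⟨a', b', hb', hab', rfl⟩
        have e2 : x' ^ a * y ^ (b - N) * (x' ^ a' * y ^ b') =
            x' ^ (a + a') * y ^ (b - N + b') := by
          rw [pow_add, pow_add]; ring
        rw [e2]
        exact ih (b - N + b') (by omega) (a + a') m (by omega)
      · rw [mul_zero]; exact Submodule.zero_mem _
      · intro f₁ f₂ _ _ h₁ h₂
        rw [mul_add]; exact Submodule.add_mem _ h₁ h₂
      · intro c f _ hf
        rw [mul_smul_comm]; exact Submodule.smul_mem _ _ hf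

/-- powers of `W = ⟨1, x', y⟩` lie in the span of the reduced monomials -/
theorem pow_le_span_monoSet (hK : IsFunctionField k K) {x' y : K} (htr : Transcendental k x')
    [FiniteDimensional k⟮x'⟯ K]
    (hy : ∀ P : FunFld.Place k K, v P y ≤ WithZero.exp (pdiv (k := k) x' P))
    (W : Submodule k K) (hW : ∀ w ∈ W, ∃ c₀ c₁ c₂ : k, w = c₀ • (1 : K) + c₁ • x' + c₂ • y)
    (m : ℕ) : W ^ m ≤ Submodule.span k (monoSet x' y (minpoly k⟮x'⟯ y).natDegree m) := by
  classical
  set N := (minpoly k⟮x'⟯ y).natDegree with hN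
  have hmono := monomial_mem hK htr hy
  rw [← hN] at hmono
  induction m with
  | zero =>
    rw [pow_zero, Submodule.one_le]
    have := hmono 0 0 0 (by omega)
    simpa using this
  | succ m ih =>
    rw [pow_succ, Submodule.mul_le]
    intro f hf w hw
    obtain ⟨c₀, c₁, c₂, rfl⟩ := hW w hw
    have hf' := ih hf
    refine Submodule.span_induction
      (p := fun f _ => f * (c₀ • (1 : K) + c₁ • x' + c₂ • y) ∈
        Submodule.span k (monoSet x' y N (m + 1))) ?_ ?_ ?_ ?_ hf'
    · rintro _ ⟨a, b, hb, hab, rfl⟩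
      have e : x' ^ a * y ^ b * (c₀ • (1 : K) + c₁ • x' + c₂ • y) =
          c₀ • (x' ^ a * y ^ b) + c₁ • (x' ^ (a + 1) * y ^ b) + c₂ • (x' ^ a * y ^ (b + 1)) := by
        simp only [Algebra.smul_def]; ring
      rw [e]
      exact Submodule.add_mem _ (Submodule.add_mem _
        (Submodule.smul_mem _ _ (hmono b a (m + 1) (by omega)))
        (Submodule.smul_mem _ _ (hmono b (a + 1) (m + 1) (by omega))))
        (Submodule.smul_mem _ _ (hmono (b + 1) a (m + 1) (by omega)))
    · rw [zero_mul]; exact Submodule.zero_mem _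
    · intro f₁ f₂ _ _ h₁ h₂; rw [add_mul]; exact Submodule.add_mem _ h₁ h₂
    · intro r f _ hf''; rw [smul_mul_assoc]; exact Submodule.smul_mem _ _ hf''

/-- the reduced monomials are linearly independent over `k` -/
theorem linearIndependent_monomials {x' y : K} (htr : Transcendental k x')
    [FiniteDimensional k⟮x'⟯ K] (m : ℕ) :
    LinearIndependent k (fun s : (Σ j : Fin (minpoly k⟮x'⟯ y).natDegree, Fin (m + 1 - j)) =>
      x' ^ (s.2 : ℕ) * y ^ (s.1 : ℕ)) := by
  classical
  set N := (minpoly k⟮x'⟯ y).natDegree with hN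
  have hli1 := linearIndependent_pow (K := k⟮x'⟯) y
  have hli2 := linearIndependent_pow_gen htr m
  have hli3 := linearIndependent_smul hli2 hli1
  let φ : (Σ j : Fin N, Fin (m + 1 - j)) → Fin (m + 1) × Fin N :=
    fun s => (⟨s.2, by have := s.2.2; omega⟩, s.1)
  have hφ : Function.Injective φ := by
    rintro ⟨j₁, i₁⟩ ⟨j₂, i₂⟩ h
    simp only [φ, Prod.mk.injEq, Fin.mk.injEq] at h
    obtain ⟨h1, rfl⟩ := h
    have : i₁ = i₂ := Fin.ext h1
    rw [this]
  have hli4 := hli3.comp φ hφ
  convert hli4 using 1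
  ext s
  simp [φ, Algebra.smul_def]

theorem monoSet_subset_range (x' y : K) (N m : ℕ) :
    monoSet x' y N m ⊆ Set.range (fun s : (Σ j : Fin N, Fin (m + 1 - j)) =>
      x' ^ (s.2 : ℕ) * y ^ (s.1 : ℕ)) := by
  rintro _ ⟨a, b, hb, hab, rfl⟩
  exact ⟨⟨⟨b, hb⟩, ⟨a, by simp only; omega⟩⟩, rfl⟩

theorem card_sigma_eq (N m : ℕ) :
    Fintype.card (Σ j : Fin N, Fin (m + 1 - j)) = ∑ j ∈ Finset.range N, (m + 1 - j) := by
  rw [Fintype.card_sigma]
  simp only [Fintype.card_fin]
  rw [Fin.sum_univ_eq_sum_range (fun j => m + 1 - j) N]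

end Groth.Agent.Lib.Helper26.PlaneModel2





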