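import Mathlib
import Groth.Agent.Lib.Helper26.FunFldAlgClosed
import Groth.Agent.Lib.Helper2.FunFld.DegDiv

/-!
# Linear series on function fields over an algebraically closed field:
vanishing sequences at two distinct places.
-/

set_option autoImplicit false
open scoped WithZero
open FunFld
open Groth.Agent.Lib.Helper2.FF

namespace Groth.Agent.Lib.Helper26.FunFldSeries

open Groth.Agent.Lib.Helper26.FunFldAlgClosed

variable {k K : Type*} [Field k] [Field K] [Algebra k K]

theorem finite_inf (V W : Submodule k K) [Module.Finite k V] : Module.Finite k ↥(V ⊓ W) :=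
  Module.Finite.of_injective (Submodule.inclusion (inf_le_left : V ⊓ W ≤ V))
    (Submodule.inclusion_injective _)

/-- `V ⊓ L E = ⊥` when `deg E < 0`. -/
theorem inf_L_eq_bot_of_deg_neg (hK : IsFunctionField k K) (V : Submodule k K)
    {E : Divisor k K} (h : E.deg < 0) : V ⊓ L E = ⊥ := by
  rw [L_eq_bot_of_deg_neg hK h, inf_bot_eq]

/-- Two vanishing conditions at distinct places of total order exceeding the degree cannot be met
simultaneously, so the dimensions add up to at most `dim V`. -/
theorem finrank_add_finrank_le [IsAlgClosed k] (hK : IsFunctionField k K)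
    (D : Divisor k K) (V : Submodule k K) [Module.Finite k V]
    (P Q : FunFld.Place k K) (hPQ : P ≠ Q) (m n : ℤ) (hmn : D.deg < m + n) :
    Module.finrank k ↥(V ⊓ L (D - Finsupp.single P m)) +
      Module.finrank k ↥(V ⊓ L (D - Finsupp.single Q n)) ≤ Module.finrank k ↥V := by
  classical
  set A := V ⊓ L (D - Finsupp.single P m) with hA
  set B := V ⊓ L (D - Finsupp.single Q n) with hB
  haveI : Module.Finite k A := finite_inf V _
  haveI : Module.Finite k B := finite_inf V _
  have hAB : A ⊓ B = ⊥ := by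
    rw [eq_bot_iff]
    intro x hx
    have hxL : x ∈ L (D - Finsupp.single P m - Finsupp.single Q n) := by
      intro R
      by_cases h1 : P = R
      · have h2 : ¬ Q = R := fun h => hPQ (h1.trans h.symm)
        refine (hx.1.2 R).trans (WithZero.exp_le_exp.2 ?_)
        simp [Finsupp.single_apply, h1, h2]
      · refine (hx.2.2 R).trans (WithZero.exp_le_exp.2 ?_)
        simp [Finsupp.single_apply, h1]
    have hdeg : (D - Finsupp.single P m - Finsupp.single Q n).deg < 0 := by
      rw [deg_sub, deg_sub, deg_single, deg_single, deg_eq_one hK P, deg_eq_one hK Q]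
      push_cast
      linarith
    rw [L_eq_bot_of_deg_neg hK hdeg] at hxL
    exact hxL
  have hs := Submodule.finrank_sup_add_finrank_inf_eq A B
  rw [hAB, finrank_bot, add_zero] at hs
  have hle : A ⊔ B ≤ V := sup_le inf_le_left inf_le_left
  have := Submodule.finrank_mono hle
  omega


/-- Members vanishing to order `m` at `P` and `n` at `Q ≠ P` lie in `L(D - mP - nQ)`. -/
theorem inf_le_L_sub_sub (D : Divisor k K) (P Q : FunFld.Place k K) (hPQ : P ≠ Q) (m n : ℤ) :
    L (D - Finsupp.single P m) ⊓ L (D - Finsupp.single Q n) ≤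
      L (D - Finsupp.single P m - Finsupp.single Q n) := by
  classical
  intro x hx R
  by_cases h1 : P = R
  · have h2 : ¬ Q = R := fun h => hPQ (h1.trans h.symm)
    refine (hx.1 R).trans (WithZero.exp_le_exp.2 ?_)
    simp [Finsupp.single_apply, h1, h2]
  · refine (hx.2 R).trans (WithZero.exp_le_exp.2 ?_)
    simp [Finsupp.single_apply, h1]

/-- A linear system cut down to a divisor of degree `≤ 0` has dimension at most one. -/
theorem finrank_inf_L_le_one [IsAlgClosed k] (hK : IsFunctionField k K)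
    (V : Submodule k K) [Module.Finite k V] {E : Divisor k K} (hE : E.deg ≤ 0)
    (P : FunFld.Place k K) : Module.finrank k ↥(V ⊓ L E) ≤ 1 := by
  have h := finrank_inf_L_le hK V E P
  have hdeg : (E - (Finsupp.single P 1 : Divisor k K)).deg < 0 := by
    rw [deg_sub, deg_single, deg_eq_one hK P]
    push_cast
    linarith
  rw [inf_L_eq_bot_of_deg_neg hK V hdeg, finrank_bot] at h
  exact h

/-- Vanishing conditions at two distinct places of total order at least the degree: the dimensions
add up to at most `dim V + 1`, and in case of equality there is a nonzero common member. -/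
theorem finrank_add_finrank_le_succ [IsAlgClosed k] (hK : IsFunctionField k K)
    (D : Divisor k K) (V : Submodule k K) [Module.Finite k V]
    (P Q : FunFld.Place k K) (hPQ : P ≠ Q) (m n : ℤ) (hmn : D.deg ≤ m + n) :
    Module.finrank k ↥(V ⊓ L (D - Finsupp.single P m)) +
      Module.finrank k ↥(V ⊓ L (D - Finsupp.single Q n)) ≤ Module.finrank k ↥V + 1 ∧
    (Module.finrank k ↥V + 1 ≤ Module.finrank k ↥(V ⊓ L (D - Finsupp.single P m)) +
      Module.finrank k ↥(V ⊓ L (D - Finsupp.single Q n)) →
      ∃ s : K, s ≠ 0 ∧ s ∈ V ∧ s ∈ L (D - Finsupp.single P m - Finsupp.single Q n)) := by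
  classical
  set A := V ⊓ L (D - Finsupp.single P m) with hA
  set B := V ⊓ L (D - Finsupp.single Q n) with hB
  haveI : Module.Finite k A := finite_inf V _
  haveI : Module.Finite k B := finite_inf V _
  have hdeg : (D - Finsupp.single P m - Finsupp.single Q n).deg ≤ 0 := by
    rw [deg_sub, deg_sub, deg_single, deg_single, deg_eq_one hK P, deg_eq_one hK Q]
    push_cast
    linarith
  have hABle : A ⊓ B ≤ V ⊓ L (D - Finsupp.single P m - Finsupp.single Q n) := by
    intro x hx
    exact ⟨hx.1.1, inf_le_L_sub_sub D P Q hPQ m n ⟨hx.1.2, hx.2.2⟩⟩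
  haveI : Module.Finite k ↥(V ⊓ L (D - Finsupp.single P m - Finsupp.single Q n)) := finite_inf V _
  have h1 := Submodule.finrank_mono hABle
  have h2 := finrank_inf_L_le_one hK V hdeg P
  have hs := Submodule.finrank_sup_add_finrank_inf_eq A B
  have hle : A ⊔ B ≤ V := sup_le inf_le_left inf_le_left
  have h3 := Submodule.finrank_mono hle
  refine ⟨by omega, fun h4 => ?_⟩
  have h5 : 0 < Module.finrank k ↥(A ⊓ B) := by omega
  haveI : Module.Finite k ↥(A ⊓ B) := finite_inf A _
  have hne : A ⊓ B ≠ ⊥ := by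
    intro h
    rw [h, finrank_bot] at h5
    exact lt_irrefl _ h5
  obtain ⟨s, hs, hs0⟩ := Submodule.exists_mem_ne_zero_of_ne_bot hne
  exact ⟨s, hs0, hs.1.1, (hABle hs).2⟩

/-- Divisors `D₁ ≤ D₂` of the same degree are equal (copy of a lemma of Helper2's `WeilDiv`). -/
theorem eq_of_le_of_deg_eq' (hK : IsFunctionField k K) {D₁ D₂ : Divisor k K} (h : D₁ ≤ D₂)
    (hd : D₁.deg = D₂.deg) : D₁ = D₂ := by
  have hE : 0 ≤ D₂ - D₁ := sub_nonneg.2 h
  have h0 : (D₂ - D₁).deg = 0 := by rw [deg_sub]; omega
  rw [deg_def, Finsupp.sum] at h0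
  have h1 := (Finset.sum_eq_zero_iff_of_nonneg (fun P _ =>
    mul_nonneg (hE P) (Int.natCast_nonneg _))).1 h0
  have h2 : D₂ - D₁ = 0 := by
    ext P
    by_cases hP : P ∈ (D₂ - D₁).support
    · have := h1 P hP
      have hdeg := deg_pos P hK
      rcases mul_eq_zero.1 this with h3 | h3
      · exact h3
      · have : (P.deg : ℤ) ≠ 0 := by exact_mod_cast hdeg.ne'
        exact absurd h3 this
    · simpa using hP
  exact (sub_eq_zero.1 h2).symm

/-- A nonzero member of `L(E)` with `deg E = 0` has divisor `-E`. -/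
theorem div_eq_neg_of_mem_L (hK : IsFunctionField k K) {E : Divisor k K} (hE : E.deg = 0)
    {s : K} (hs0 : s ≠ 0) (hs : s ∈ L E) : FunFld.div k s = -E := by
  have h1 := (mem_L_iff_div hK hs0).1 hs
  have h2 : (0 : Divisor k K).deg = (FunFld.div k s + E).deg := by
    rw [deg_add, deg_div hK, hE, deg_zero]; rfl
  have h3 := eq_of_le_of_deg_eq' hK h1 h2
  exact eq_neg_of_add_eq_zero_left h3.symm

/-- Pure counting: if `N` numbers, each at most `M + 1`, add up to at least `M N + 2`, then two of
them equal `M + 1`. -/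
theorem exists_two_large (N M : ℕ) (c : ℕ → ℕ) (hc : ∀ n < N, c n ≤ M + 1)
    (hsum : M * N + 2 ≤ ∑ n ∈ Finset.range N, c n) :
    ∃ n₁ n₂, n₁ < n₂ ∧ n₂ < N ∧ M + 1 ≤ c n₁ ∧ M + 1 ≤ c n₂ := by
  classical
  set S := (Finset.range N).filter (fun n => M + 1 ≤ c n) with hS
  have h1 : ∑ n ∈ Finset.range N, c n ≤ ∑ n ∈ Finset.range N, (M + if M + 1 ≤ c n then 1 else 0) := by
    apply Finset.sum_le_sum
    intro n hn
    have := hc n (Finset.mem_range.1 hn)
    split_ifs with h <;> omega
  rw [Finset.sum_add_distrib, Finset.sum_const, Finset.card_range, smul_eq_mul,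
    Finset.sum_boole, ← hS] at h1
  have h2 : 1 < S.card := by
    have : N * M = M * N := mul_comm _ _
    simp only [Nat.cast_id] at h1
    omega
  obtain ⟨a, ha, b, hb, hab⟩ := Finset.one_lt_card.1 h2
  rw [hS, Finset.mem_filter, Finset.mem_range] at ha hb
  rcases lt_or_gt_of_ne hab with h | h
  · exact ⟨a, b, h, hb.1, ha.2, hb.2⟩
  · exact ⟨b, a, h, ha.1, hb.2, ha.2⟩

end Groth.Agent.Lib.Helper26.FunFldSeries

namespace Groth.Agent.Lib.Helper26.FunFldSeries

open Groth.Agent.Lib.Helper26.FunFldAlgClosed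

/-- The sum `∑_{j=1}^{d} dim V(-jP)` (the weight of `V` at `P` plus `r(r+1)/2`). -/
noncomputable def wsum {k K : Type*} [Field k] [Field K] [Algebra k K]
    (d : ℕ) (D : Divisor k K) (V : Submodule k K) (P : FunFld.Place k K) : ℕ :=
  ∑ j ∈ Finset.range d, Module.finrank k ↥(V ⊓ L (D - Finsupp.single P ((j : ℤ) + 1)))

theorem wsum_def {k K : Type*} [Field k] [Field K] [Algebra k K]
    (d : ℕ) (D : Divisor k K) (V : Submodule k K) (P : FunFld.Place k K) :
    wsum d D V P =
      ∑ j ∈ Finset.range d, Module.finrank k ↥(V ⊓ L (D - Finsupp.single P ((j : ℤ) + 1))) := rfl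

/-- Two-point bound: `w(V,P) + w(V,Q) ≤ (r+1)(d-r)` in the form of sums. -/
theorem wsum_add_wsum_le {k K : Type*} [Field k] [Field K] [Algebra k K] [IsAlgClosed k]
    (hK : IsFunctionField k K) (d r : ℕ) (D : Divisor k K) (hD : D.deg = d)
    (V : Submodule k K) (hVr : Module.finrank k ↥V = r + 1)
    (P Q : FunFld.Place k K) (hPQ : P ≠ Q) :
    wsum d D V P + wsum d D V Q ≤ (r + 1) * d := by
  classical
  have hVfin : Module.Finite k V := Module.finite_of_finrank_pos (by omega)
  have key : ∀ m n : ℤ, (d : ℤ) < m + n →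
      Module.finrank k ↥(V ⊓ FunFld.L (D - Finsupp.single P m)) +
        Module.finrank k ↥(V ⊓ FunFld.L (D - Finsupp.single Q n)) ≤ r + 1 := by
    intro m n hmn
    have := finrank_add_finrank_le hK D V P Q hPQ m n (by rw [hD]; exact hmn)
    omega
  rw [wsum_def, wsum_def,
    ← Finset.sum_range_reflect (fun n => Module.finrank k ↥(V ⊓ FunFld.L (D - Finsupp.single Q ((n : ℤ) + 1)))) d,
    ← Finset.sum_add_distrib]
  calc _ ≤ ∑ _n ∈ Finset.range d, (r + 1) := by
        apply Finset.sum_le_sum
        intro n hn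
        rw [Finset.mem_range] at hn
        apply key
        have : ((d - 1 - n : ℕ) : ℤ) = (d : ℤ) - 1 - n := by omega
        rw [this]
        linarith
    _ = (r + 1) * d := by rw [Finset.sum_const, Finset.card_range, smul_eq_mul, mul_comm]

/-- Compatible aspects at a node: the two sums add up to `(r+1) d`. -/
theorem wsum_add_wsum_eq_of_compatible {k KY KZ : Type*} [Field k] [Field KY] [Algebra k KY]
    [Field KZ] [Algebra k KZ] (d r : ℕ) (DY : Divisor k KY) (DZ : Divisor k KZ)
    (VY : Submodule k KY) (VZ : Submodule k KZ) (P : FunFld.Place k KY) (Q : FunFld.Place k KZ)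
    (hcomp : ∀ n : ℕ, n ≤ d + 1 →
      Module.finrank k ↥(VY ⊓ L (DY - Finsupp.single P ((n : ℤ)))) +
        Module.finrank k ↥(VZ ⊓ L (DZ - Finsupp.single Q ((d : ℤ) + 1 - n))) = r + 1) :
    wsum d DY VY P + wsum d DZ VZ Q = (r + 1) * d := by
  classical
  rw [wsum_def, wsum_def,
    ← Finset.sum_range_reflect (fun n => Module.finrank k ↥(VZ ⊓ L (DZ - Finsupp.single Q ((n : ℤ) + 1)))) d,
    ← Finset.sum_add_distrib]
  calc _ = ∑ _n ∈ Finset.range d, (r + 1) := by
        apply Finset.sum_congr rfl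
        intro n hn
        rw [Finset.mem_range] at hn
        have h := hcomp (n + 1) (by omega)
        have e1 : ((d - 1 - n : ℕ) : ℤ) + 1 = (d : ℤ) + 1 - ((n + 1 : ℕ) : ℤ) := by
          have : ((d - 1 - n : ℕ) : ℤ) = (d : ℤ) - 1 - n := by omega
          rw [this]; push_cast; ring
        have e2 : ((n : ℤ) + 1) = ((n + 1 : ℕ) : ℤ) := by push_cast; ring
        rw [e1, e2]
        exact h
    _ = (r + 1) * d := by rw [Finset.sum_const, Finset.card_range, smul_eq_mul, mul_comm]

/-- Weights down a chain of components: the weight at the upper node of every component below the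
first is at least `c` once the weight at the lower node of the first is at most `(r+1)(d-r) - c`. -/
theorem chain_bound
    (k : Type*) [Field k] [IsAlgClosed k] [CharZero k]
    (n : ℕ) (hn : 0 < n) (U : Fin (n + 1) → Type*) [∀ l, Field (U l)] [∀ l, Algebra k (U l)]
    (hU : ∀ l, FunFld.IsFunctionField k (U l))
    (d r : ℕ) (D : ∀ l, FunFld.Divisor k (U l)) (hD : ∀ l, (D l).deg = d)
    (V : ∀ l, Submodule k (U l))
    (hVr : ∀ l, Module.finrank k ↥(V l) = r + 1)
    (A B : ∀ l, FunFld.Place k (U l))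
    (hAB : ∀ l : Fin (n + 1), 0 < (l : ℕ) → (l : ℕ) < n → A l ≠ B l)
    (hcomp : ∀ (l : Fin n) (m : ℕ), m ≤ d + 1 →
      Module.finrank k ↥((V l.castSucc) ⊓ FunFld.L ((D l.castSucc) - Finsupp.single (B l.castSucc) ((m : ℤ)))) +
        Module.finrank k ↥((V l.succ) ⊓ FunFld.L ((D l.succ) - Finsupp.single (A l.succ) ((d : ℤ) + 1 - m))) = r + 1)
    (c : ℕ) (hc : wsum d (D 0) (V 0) (B 0) + c + r * (r + 1) ≤ (r + 1) * d + r * (r + 1) / 2)
    (l : Fin (n + 1)) (hl : 0 < (l : ℕ)) :
    c + r * (r + 1) / 2 ≤ wsum d (D l) (V l) (A l) := by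
  classical
  have heven : r * (r + 1) = 2 * (r * (r + 1) / 2) := by
    have := Nat.even_mul_succ_self r
    obtain ⟨t, ht⟩ := this
    rw [ht]; omega
  have hnode : ∀ l : Fin n, wsum d (D l.castSucc) (V l.castSucc) (B l.castSucc) +
      wsum d (D l.succ) (V l.succ) (A l.succ) = (r + 1) * d := fun l =>
    wsum_add_wsum_eq_of_compatible d r _ _ _ _ _ _ (hcomp l)
  have main : ∀ i : ℕ, ∀ l : Fin (n + 1), (l : ℕ) = i + 1 →
      c + r * (r + 1) / 2 ≤ wsum d (D l) (V l) (A l) := by
    intro i
    induction i with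
    | zero =>
      intro l hl
      have h0 := hnode ⟨0, hn⟩
      have e1 : (⟨0, hn⟩ : Fin n).castSucc = 0 := Fin.ext (by simp)
      have e2 : (⟨0, hn⟩ : Fin n).succ = l := Fin.ext (by simp [hl])
      rw [e1, e2] at h0
      omega
    | succ i ih =>
      intro l hl
      have hlt : i + 1 < n := by have := l.isLt; omega
      have h0 := hnode ⟨i + 1, hlt⟩
      have e2 : (⟨i + 1, hlt⟩ : Fin n).succ = l := Fin.ext (by simp [hl])
      rw [e2] at h0
      have h1 := ih (⟨i + 1, hlt⟩ : Fin n).castSucc (by simp)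
      have h2 := wsum_add_wsum_le (hU (⟨i + 1, hlt⟩ : Fin n).castSucc) d r (D _) (hD _) (V _) (hVr _)
        (A _) (B _) (hAB _ (by simp) (by simp; exact hlt))
      omega
  obtain ⟨i, hi⟩ : ∃ i, (l : ℕ) = i + 1 := ⟨(l : ℕ) - 1, by omega⟩
  exact main i l hi

end Groth.Agent.Lib.Helper26.FunFldSeries
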