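import Mathlib
import Groth.Agent.Lib.Helper26.FunFldSeries

/-!
# Local computations at a place of degree one (algebraically closed constants)
-/

set_option autoImplicit false
open scoped WithZero IntermediateField
open FunFld
open Groth.Agent.Lib.Helper2.FF

namespace Groth.Agent.Lib.Helper26.FunFldLocal

open Groth.Agent.Lib.Helper26.FunFldAlgClosed Groth.Agent.Lib.Helper26.FunFldSeries

variable {k K : Type*} [Field k] [Field K] [Algebra k K]

theorem algebraMap_residueField_bijective [IsAlgClosed k] (hK : IsFunctionField k K)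
    (P : FunFld.Place k K) :
    Function.Bijective (algebraMap k (IsLocalRing.ResidueField P.O)) := by
  have h0 := finiteDimensional_residueField P hK
  have h1 : @Module.Finite k (IsLocalRing.ResidueField P.O) _ _ (Algebra.toModule) := h0
  have : Algebra.IsIntegral k (IsLocalRing.ResidueField P.O) := Algebra.IsIntegral.of_finite k _
  exact IsAlgClosed.algebraMap_bijective_of_isIntegral

/-- Every element of the valuation ring of a place is congruent to a constant. -/
theorem exists_const_sub_lt [IsAlgClosed k] (hK : IsFunctionField k K) (Q : FunFld.Place k K)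
    {x : K} (hx : v Q x ≤ 1) : ∃ c : k, v Q (x - algebraMap k K c) < 1 := by
  obtain ⟨c, hc⟩ := (algebraMap_residueField_bijective hK Q).2 (resAlg Q ⟨x, (mem_O_iff Q x).2 hx⟩)
  refine ⟨c, ?_⟩
  have h1 : resAlg Q (⟨x, (mem_O_iff Q x).2 hx⟩ - algebraMap k Q.O c) = 0 := by
    rw [map_sub, AlgHom.commutes, hc, sub_self]
  rw [resAlg_eq_zero_iff] at h1
  exact h1

/-- An element with trivial divisor is a constant. -/
theorem exists_eq_algebraMap_of_div_eq_zero (hK : IsFunctionField k K) {x : K} (hx0 : x ≠ 0)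
    (h : FunFld.div k x = 0) : ∃ c : k, x = algebraMap k K c := by
  have h1 : x ∈ L (0 : Divisor k K) := by
    rw [mem_L_iff_div hK hx0, h, add_zero]
  rw [L_zero hK, Submodule.one_eq_range, LinearMap.mem_range] at h1
  obtain ⟨c, hc⟩ := h1
  exact ⟨c, by rw [← hc]; rfl⟩

/-- An effective divisor of degree one has all coefficients at most one. -/
theorem coeff_le_one_of_deg_eq_one [IsAlgClosed k] (hK : IsFunctionField k K)
    {F : Divisor k K} (hF0 : 0 ≤ F) (hF : F.deg = 1) (Q : FunFld.Place k K) : F Q ≤ 1 := by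
  classical
  have h1 : (Finsupp.single Q (F Q) : Divisor k K) ≤ F := by
    intro R
    by_cases hR : Q = R
    · subst hR; simp
    · simp only [Finsupp.single_apply, hR, if_false]
      exact hF0 R
  have h2 := deg_mono h1
  rw [deg_single, deg_eq_one hK Q, hF] at h2
  simpa using h2

/-- `w - c` has a simple zero at `Q` when `w` has at most a simple pole at one place `P₂ ≠ Q`
and `w ≡ c` at `Q`. -/
theorem v_sub_const_eq [IsAlgClosed k] (hK : IsFunctionField k K) {P₂ Q : FunFld.Place k K}
    (hQ : Q ≠ P₂) {w : K} (hw : w ∈ L (Finsupp.single P₂ 1 : Divisor k K)) {c : k}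
    (hne : w - algebraMap k K c ≠ 0) (hlt : v Q (w - algebraMap k K c) < 1) :
    v Q (w - algebraMap k K c) = WithZero.exp (-1 : ℤ) := by
  classical
  have hc : algebraMap k K c ∈ L (Finsupp.single P₂ 1 : Divisor k K) := by
    have h0 : (0 : Divisor k K) ≤ Finsupp.single P₂ 1 := by
      intro R
      simp only [Finsupp.coe_zero, Pi.zero_apply, Finsupp.single_apply]
      split_ifs <;> norm_num
    apply L_mono h0
    rw [L_zero hK, Submodule.one_eq_range, LinearMap.mem_range]
    exact ⟨c, rfl⟩
  have hmem : w - algebraMap k K c ∈ L (Finsupp.single P₂ 1 : Divisor k K) :=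
    Submodule.sub_mem _ hw hc
  set y := w - algebraMap k K c with hy
  set F : Divisor k K := FunFld.div k y + Finsupp.single P₂ 1 with hF
  have hF0 : 0 ≤ F := (mem_L_iff_div hK hne).1 hmem
  have hFdeg : F.deg = 1 := by
    rw [hF, deg_add, deg_div hK, deg_single, deg_eq_one hK P₂]; norm_num
  have h1 := coeff_le_one_of_deg_eq_one hK hF0 hFdeg Q
  have h2 : F Q = Q.ord y := by
    rw [hF]
    simp only [Finsupp.coe_add, Pi.add_apply, div_apply hK, Finsupp.single_apply]
    rw [if_neg (Ne.symm hQ), add_zero]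
  rw [h2] at h1
  have h3 : 0 < Q.ord y := (v_lt_one_iff Q hne).1 hlt
  have h4 : Q.ord y = 1 := by omega
  rw [v_eq_exp_neg_ord Q hne, h4]

/-- The cofactor `∑ w^i c^(n-1-i)` of `w - c` in `w^n - c^n` is a unit at `Q` in characteristic
zero, when `w ≡ c ≠ 0` at `Q`. -/
theorem v_geom_sum_eq_one [CharZero k] (Q : FunFld.Place k K) {w : K} {c : k} (hc : c ≠ 0)
    (hlt : v Q (w - algebraMap k K c) < 1) {n : ℕ} (hn : 1 ≤ n) :
    v Q (∑ i ∈ Finset.range n, w ^ i * (algebraMap k K c) ^ (n - 1 - i)) = 1 := by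
  classical
  have hcv : v Q (algebraMap k K c) = 1 := v_algebraMap Q hc
  have hwv : v Q w = 1 := by
    have : w = (w - algebraMap k K c) + algebraMap k K c := by ring
    rw [this, Valuation.map_add_eq_of_lt_right _ (by rw [hcv]; exact hlt), hcv]
  have hwO : w ∈ Q.O := (mem_O_iff Q w).2 hwv.le
  set wO : Q.O := ⟨w, hwO⟩ with hwOdef
  set cO : Q.O := algebraMap k Q.O c with hcO
  have hres : resAlg Q wO = resAlg Q cO := by
    have h1 : resAlg Q (wO - cO) = 0 := by
      rw [resAlg_eq_zero_iff]
      exact hlt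
    rw [map_sub, sub_eq_zero] at h1
    exact h1
  set S : Q.O := ∑ i ∈ Finset.range n, wO ^ i * cO ^ (n - 1 - i) with hS
  have hSval : (S : K) = ∑ i ∈ Finset.range n, w ^ i * (algebraMap k K c) ^ (n - 1 - i) := by
    rw [hS]
    push_cast
    rfl
  have hSres : resAlg Q S = algebraMap k _ ((n : k) * c ^ (n - 1)) := by
    rw [hS, map_sum]
    have : ∀ i ∈ Finset.range n, resAlg Q (wO ^ i * cO ^ (n - 1 - i)) =
        algebraMap k _ (c ^ (n - 1)) := by
      intro i hi
      rw [Finset.mem_range] at hi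
      rw [map_mul, map_pow, map_pow, hres, ← pow_add, hcO, AlgHom.commutes, ← map_pow]
      congr 2
      omega
    rw [Finset.sum_congr rfl this, Finset.sum_const, Finset.card_range, map_mul, map_natCast,
      nsmul_eq_mul]
  have hne : resAlg Q S ≠ 0 := by
    rw [hSres]
    intro h
    have h2 := (algebraMap k (IsLocalRing.ResidueField Q.O)).injective
    have : (n : k) * c ^ (n - 1) = 0 := h2 (by rw [h, map_zero])
    rcases mul_eq_zero.1 this with h3 | h3
    · have : n = 0 := by exact_mod_cast h3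
      omega
    · exact hc (pow_eq_zero_iff (n := n - 1) (by
        intro h0
        exact absurd h3 (by rw [h0, pow_zero]; exact one_ne_zero)) |>.1 h3)
  rw [Ne, resAlg_eq_zero_iff, not_lt, hSval] at hne
  have hle : v Q (S : K) ≤ 1 := (mem_O_iff Q _).1 S.2
  rw [hSval] at hle
  exact le_antisymm hle hne

/-- In characteristic zero, `α + β wⁿ` has no double zero at a place `Q` where `w` is a unit,
if `w` has at most one simple pole (so that `w` is a coordinate on a rational curve). -/
theorem not_v_le_exp_neg_two [IsAlgClosed k] [CharZero k] (hK : IsFunctionField k K)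
    {P₂ Q : FunFld.Place k K} (hQ : Q ≠ P₂) {w : K}
    (hw : w ∈ L (Finsupp.single P₂ 1 : Divisor k K))
    (hwc : w ∉ Set.range (algebraMap k K)) (hwQ : v Q w = 1)
    (α β : k) (hβ : β ≠ 0) {n : ℕ} (hn : 1 ≤ n) :
    ¬ v Q (algebraMap k K α + algebraMap k K β * w ^ n) ≤ WithZero.exp (-2 : ℤ) := by
  intro hle
  obtain ⟨c, hc⟩ := exists_const_sub_lt hK Q hwQ.le
  have hc0 : c ≠ 0 := by
    rintro rfl
    rw [map_zero, sub_zero, hwQ] at hc
    exact lt_irrefl _ hc
  have hne : w - algebraMap k K c ≠ 0 := by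
    intro h
    exact hwc ⟨c, (sub_eq_zero.1 h).symm⟩
  have h1 := v_sub_const_eq hK hQ hw hne hc
  have h2 := v_geom_sum_eq_one Q hc0 hc hn
  have h3 : (∑ i ∈ Finset.range n, w ^ i * (algebraMap k K c) ^ (n - 1 - i)) *
      (w - algebraMap k K c) = w ^ n - (algebraMap k K c) ^ n := Commute.geom_sum₂_mul (Commute.all _ _) n
  -- ψ = (α + β cⁿ) + β (wⁿ - cⁿ)
  have h4 : algebraMap k K α + algebraMap k K β * w ^ n =
      algebraMap k K (α + β * c ^ n) + algebraMap k K β * (w ^ n - (algebraMap k K c) ^ n) := by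
    rw [map_add, map_mul, map_pow]; ring
  have h5 : v Q (algebraMap k K β * (w ^ n - (algebraMap k K c) ^ n)) = WithZero.exp (-1 : ℤ) := by
    rw [map_mul, v_algebraMap Q hβ, one_mul, ← h3, map_mul, h2, one_mul, h1]
  have hlt : WithZero.exp (-2 : ℤ) < (WithZero.exp (-1 : ℤ) : ℤᵐ⁰) := by
    rw [WithZero.exp_lt_exp]; norm_num
  have hlt1 : (WithZero.exp (-1 : ℤ) : ℤᵐ⁰) < 1 := by
    rw [← WithZero.exp_zero, WithZero.exp_lt_exp]; norm_num
  by_cases h6 : α + β * c ^ n = 0
  · rw [h4, h6, map_zero, zero_add, h5] at hle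
    exact absurd hle (not_le.2 hlt)
  · have h7 : v Q (algebraMap k K (α + β * c ^ n)) = 1 := v_algebraMap Q h6
    rw [h4, Valuation.map_add_eq_of_lt_left _ (by rw [h5, h7]; exact hlt1), h7] at hle
    have : (WithZero.exp (-2 : ℤ) : ℤᵐ⁰) < 1 := hlt.trans hlt1
    exact absurd hle (not_le.2 this)

end Groth.Agent.Lib.Helper26.FunFldLocal
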