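import Mathlib
import Groth.Prelude.Def_LocRes
import Groth.Agent.Lib.Helper9.FunFldSep
import Groth.Agent.Lib.Helper9.FunFldInsep

set_option autoImplicit false
set_option linter.style.haveILetI false
open Polynomial IntermediateField

namespace Groth.Agent.Lib.Helper26.HasseExists

universe u v

/-- General lifting: a formally smooth `R`-algebra `A` and a ring hom `ψ : R → A⟦X⟧` lifting the
structure map modulo `X` extend to `A → A⟦X⟧` lifting the identity. -/
theorem exists_lift_powerSeries {R : Type u} {A : Type v} [CommRing R] [CommRing A] [Algebra R A]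
    [Algebra.FormallySmooth R A] (ψ : R →+* PowerSeries A)
    (hψ : ∀ r, PowerSeries.constantCoeff (ψ r) = algebraMap R A r) :
    ∃ g : A →+* PowerSeries A, (∀ r, g (algebraMap R A r) = ψ r) ∧
      ∀ a, PowerSeries.constantCoeff (g a) = a := by
  classical
  letI : Algebra R (PowerSeries A) := ψ.toAlgebra
  let I : Ideal (PowerSeries A) := Ideal.span {PowerSeries.X}
  let f : A →ₐ[R] PowerSeries A ⧸ I :=
    { toRingHom := (Ideal.Quotient.mk I).comp (PowerSeries.C (R := A))
      commutes' := by
        intro r
        change Ideal.Quotient.mk I (PowerSeries.C (algebraMap R A r)) = Ideal.Quotient.mk I (ψ r)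
        rw [Ideal.Quotient.eq, Ideal.mem_span_singleton, PowerSeries.X_dvd_iff]
        simp [hψ] }
  obtain ⟨g, hg⟩ := Algebra.FormallySmooth.exists_mkₐ_comp_eq_of_isAdicComplete (I := I) f
  refine ⟨g.toRingHom, fun r => g.commutes r, fun a => ?_⟩
  have h1 : Ideal.Quotient.mk I (g a) = Ideal.Quotient.mk I (PowerSeries.C a) := by
    have := congrArg (fun h => h a) hg
    exact this
  rw [Ideal.Quotient.eq, Ideal.mem_span_singleton, PowerSeries.X_dvd_iff] at h1
  simpa [sub_eq_zero] using h1

/-- Existence of the total Hasse derivative with respect to a separating variable. -/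
theorem exists_isHasseFamily {k : Type u} {K : Type v} [Field k] [Field K] [Algebra k K]
    {s : K} (hs : Transcendental k s)
    (hsep : Algebra.IsSeparable (IntermediateField.adjoin k ({s} : Set K)) K) :
    ∃ H : K →ₐ[k] PowerSeries K, LocRes.IsHasseFamily s H := by
  classical
  let e : RatFunc k ≃ₐ[k] k⟮s⟯ := RatFunc.algEquivOfTranscendental s hs
  let φ : RatFunc k →ₐ[k] K := (IntermediateField.val _).comp e.toAlgHom
  letI : Algebra (RatFunc k) K := φ.toRingHom.toAlgebra
  have : IsScalarTower k (RatFunc k) K :=
    IsScalarTower.of_algebraMap_eq (fun c => (φ.commutes c).symm)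
  have : Algebra.IsSeparable (RatFunc k) K :=
    Algebra.IsSeparable.of_equiv_equiv e.symm.toRingEquiv (RingEquiv.refl K) (by
      ext y
      change φ (e.symm y) = (y : K)
      simp [φ])
  have : Algebra.FormallyEtale (RatFunc k) K := Algebra.FormallyEtale.of_isSeparable _ _
  have : Algebra.FormallyEtale k[X] (RatFunc k) :=
    Algebra.FormallyEtale.of_isLocalization (nonZeroDivisors k[X])
  letI : Algebra k[X] K := ((algebraMap (RatFunc k) K).comp (algebraMap k[X] (RatFunc k))).toAlgebra
  have : IsScalarTower k[X] (RatFunc k) K := IsScalarTower.of_algebraMap_eq (fun _ => rfl)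
  have : Algebra.FormallyEtale k[X] K := Algebra.FormallyEtale.comp k[X] (RatFunc k) K
  have halg : ∀ p : k[X], algebraMap k[X] K p = Polynomial.aeval s p := by
    intro p
    change φ (algebraMap k[X] (RatFunc k) p) = _
    simp [φ, e]
  let ψ : k[X] →ₐ[k] PowerSeries K := Polynomial.aeval (PowerSeries.C s + PowerSeries.X)
  have hψ : ∀ p : k[X], PowerSeries.constantCoeff (ψ.toRingHom p) = algebraMap k[X] K p := by
    intro p
    rw [halg]
    change PowerSeries.constantCoeff (Polynomial.aeval (PowerSeries.C s + PowerSeries.X) p) = _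
    have h1 : (PowerSeries.constantCoeff (R := K)) (Polynomial.aeval (PowerSeries.C s + PowerSeries.X) p)
        = Polynomial.aeval (PowerSeries.constantCoeff (R := K) (PowerSeries.C s + PowerSeries.X)) p := by
      induction p using Polynomial.induction_on' with
      | add p q hp hq => simp [hp, hq]
      | monomial n a =>
        simp [Polynomial.aeval_monomial, Algebra.algebraMap_eq_smul_one]
    rw [h1]; simp
  obtain ⟨g, hg1, hg2⟩ := exists_lift_powerSeries (R := k[X]) (A := K) ψ.toRingHom hψ
  refine ⟨{ toRingHom := g, commutes' := ?_ }, ?_, fun y => hg2 y⟩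
  · intro c
    have h1 : algebraMap k K c = algebraMap k[X] K (Polynomial.C c) := by
      rw [halg]; simp
    change g (algebraMap k K c) = _
    rw [h1, hg1]
    change Polynomial.aeval (PowerSeries.C s + PowerSeries.X) (Polynomial.C c) = _
    simp
  · have h1 : s = algebraMap k[X] K Polynomial.X := by rw [halg]; simp
    change g s = _
    rw [h1, hg1, ← h1]
    change Polynomial.aeval (PowerSeries.C s + PowerSeries.X) Polynomial.X = _
    simp

/-- Over an algebraically closed constant field, a function field has a separating variable with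
a total Hasse derivative. -/
theorem exists_isHasseFamily_of_isFunctionField {k : Type u} {K : Type v} [Field k] [IsAlgClosed k]
    [Field K] [Algebra k K] (hK : FunFld.IsFunctionField k K) :
    ∃ (s : K) (H : K →ₐ[k] PowerSeries K), LocRes.IsHasseFamily s H := by
  obtain ⟨⟨x₁, hx₁, hfin₁⟩, -⟩ := id hK
  have hg : FunFld.IsGeometric k K := Groth.Agent.Lib.Helper9.FunFld.isGeometric_of_isAlgClosed
  obtain ⟨s, hs, hsep⟩ :=
    Groth.Agent.Lib.Helper9.FunFld.exists_separating_variable hx₁ hfin₁ hg
  obtain ⟨H, hH⟩ := exists_isHasseFamily hs hsep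
  exact ⟨s, H, hH⟩

end Groth.Agent.Lib.Helper26.HasseExists
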