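import Mathlib
import Groth.Prelude.Def_W4bk4goldsch45p2
import Groth.Agent.Lib.Helper3.Jumps
set_option autoImplicit false
open scoped IntermediateField PowerSeries
open Polynomial FunFld
open Groth.Agent.Lib.Helper3.Jumps

/-! # Change of the separating variable for total Hasse derivatives -/

namespace Groth.Agent.Lib.Helper26.HasseChange

variable {k K : Type*} [Field k] [Field K] [Algebra k K]

/-- the equalizer of two homomorphisms into power series is an intermediate field -/
def eqField (H H' : K →ₐ[k] K⟦X⟧) : IntermediateField k K where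
  carrier := {z | H z = H' z}
  mul_mem' {a b} ha hb := by
    simp only [Set.mem_ofPred_eq] at ha hb ⊢
    rw [map_mul, map_mul, ha, hb]
  one_mem' := by simp
  add_mem' {a b} ha hb := by
    simp only [Set.mem_ofPred_eq] at ha hb ⊢
    rw [map_add, map_add, ha, hb]
  zero_mem' := by simp
  algebraMap_mem' c := by simp
  inv_mem' a ha := by
    simp only [Set.mem_ofPred_eq] at ha ⊢
    by_cases h0 : a = 0
    · rw [h0, inv_zero, map_zero, map_zero]
    · have h1 : H a⁻¹ * H a = 1 := by rw [← map_mul, inv_mul_cancel₀ h0, map_one]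
      have h2 : H a * H' a⁻¹ = 1 := by rw [ha, ← map_mul, mul_inv_cancel₀ h0, map_one]
      exact left_inv_eq_right_inv h1 h2

theorem mem_eqField (H H' : K →ₐ[k] K⟦X⟧) (z : K) : z ∈ eqField H H' ↔ H z = H' z := Iff.rfl

/-- uniqueness of total Hasse derivatives over a separating element -/
theorem hasse_ext (s : K) [Algebra.IsSeparable k⟮s⟯ K] (H H' : K →ₐ[k] K⟦X⟧)
    (hc : ∀ y, PowerSeries.constantCoeff (H y) = y)
    (hc' : ∀ y, PowerSeries.constantCoeff (H' y) = y) (hs : H s = H' s) : H = H' := by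
  have hle : k⟮s⟯ ≤ eqField H H' := by
    rw [IntermediateField.adjoin_simple_le_iff]
    exact hs
  ext1 z
  have hsep : (minpoly k⟮s⟯ z).Separable := Algebra.IsSeparable.isSeparable k⟮s⟯ z
  obtain ⟨f, hf⟩ : ∃ f, f = minpoly k⟮s⟯ z := ⟨_, rfl⟩
  rw [← hf] at hsep
  obtain ⟨h, hh⟩ : ∃ h : k⟮s⟯ →+* K⟦X⟧, h = (H : K →+* K⟦X⟧).comp (algebraMap k⟮s⟯ K) := ⟨_, rfl⟩
  have hh' : h = (H' : K →+* K⟦X⟧).comp (algebraMap k⟮s⟯ K) := by
    rw [hh]
    ext1 x
    exact hle x.2
  have hfz : eval₂ (algebraMap k⟮s⟯ K) z f = 0 := by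
    rw [hf]; exact minpoly.aeval k⟮s⟯ z
  have ha : eval₂ h (H z) f = 0 := by
    rw [hh]
    have := Polynomial.hom_eval₂ f (algebraMap k⟮s⟯ K) (H : K →+* K⟦X⟧) z
    simp only [RingHom.coe_coe] at this
    rw [← this, hfz, map_zero]
  have hb : eval₂ h (H' z) f = 0 := by
    rw [hh']
    have := Polynomial.hom_eval₂ f (algebraMap k⟮s⟯ K) (H' : K →+* K⟦X⟧) z
    simp only [RingHom.coe_coe] at this
    rw [← this, hfz, map_zero]
  obtain ⟨G, hG⟩ : ∃ G : K⟦X⟧[X], G = f.map h := ⟨_, rfl⟩
  rw [← Polynomial.eval_map, ← hG] at ha hb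
  obtain ⟨c, hcG⟩ := Polynomial.binomExpansion G (H z) (H' z - H z)
  rw [add_sub_cancel, ha, hb, zero_add] at hcG
  have hfac : (H' z - H z) * (G.derivative.eval (H z) + c * (H' z - H z)) = 0 := by
    rw [hcG]; ring
  have hunit : G.derivative.eval (H z) + c * (H' z - H z) ≠ 0 := by
    intro h0
    have h1 := congrArg PowerSeries.constantCoeff h0
    rw [map_add, map_mul, map_sub, hc, hc', sub_self, mul_zero, add_zero, map_zero, hG,
      Polynomial.derivative_map, Polynomial.eval_map,
      Polynomial.hom_eval₂ _ h (PowerSeries.constantCoeff (R := K)) (H z), hc] at h1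
    have h2 : (PowerSeries.constantCoeff (R := K)).comp h = algebraMap k⟮s⟯ K := by
      rw [hh]
      ext1 x
      simp only [RingHom.coe_comp, Function.comp_apply, RingHom.coe_coe]
      exact hc _
    rw [h2] at h1
    exact hsep.eval₂_derivative_ne_zero _ hfz h1
  rcases mul_eq_zero.1 hfac with h | h
  · exact (sub_eq_zero.1 h).symm
  · exact absurd h hunit

/-- substitution of a series without constant term keeps the constant coefficient -/
theorem constantCoeff_subst_of_zero {u : K⟦X⟧} (hu0 : PowerSeries.constantCoeff u = 0)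
    (f : K⟦X⟧) : PowerSeries.constantCoeff (PowerSeries.subst u f) = PowerSeries.constantCoeff f := by
  have hu : PowerSeries.HasSubst u := PowerSeries.HasSubst.of_constantCoeff_zero' hu0
  have e : f = PowerSeries.C (PowerSeries.constantCoeff f) +
      (f - PowerSeries.C (PowerSeries.constantCoeff f)) := by ring
  conv_lhs => rw [e]
  rw [PowerSeries.subst_add hu, map_add, PowerSeries.subst_C]
  have h2 : PowerSeries.constantCoeff (PowerSeries.subst u
      (f - PowerSeries.C (PowerSeries.constantCoeff f))) = 0 := by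
    apply PowerSeries.constantCoeff_subst_eq_zero hu0
    rw [map_sub, PowerSeries.constantCoeff_C, sub_self]
  rw [h2, add_zero]
  exact PowerSeries.constantCoeff_C _

/-- **change of the separating variable** for total Hasse derivatives -/
theorem hasse_change (s t : K) [Algebra.IsSeparable k⟮s⟯ K] (Hs Ht : K →ₐ[k] K⟦X⟧)
    (hHs : LocRes.IsHasseFamily s Hs) (hHt : LocRes.IsHasseFamily t Ht) (z : K) :
    Ht z = PowerSeries.subst (Ht s - PowerSeries.C s) (Hs z) := by
  obtain ⟨u, hu⟩ : ∃ u : K⟦X⟧, u = Ht s - PowerSeries.C s := ⟨_, rfl⟩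
  rw [← hu]
  have hu0 : PowerSeries.constantCoeff u = 0 := by
    rw [hu, map_sub, hHt.2, PowerSeries.constantCoeff_C, sub_self]
  have hsub : PowerSeries.HasSubst u := PowerSeries.HasSubst.of_constantCoeff_zero' hu0
  obtain ⟨H', hH'⟩ : ∃ H' : K →ₐ[k] K⟦X⟧,
      H' = ((PowerSeries.substAlgHom (R := K) hsub).restrictScalars k).comp Hs := ⟨_, rfl⟩
  have happ : ∀ y, H' y = PowerSeries.subst u (Hs y) := by
    intro y
    rw [hH', AlgHom.comp_apply, AlgHom.restrictScalars_apply, PowerSeries.coe_substAlgHom]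
  have hc' : ∀ y, PowerSeries.constantCoeff (H' y) = y := by
    intro y
    rw [happ, constantCoeff_subst_of_zero hu0, hHs.2]
  have hs : Ht s = H' s := by
    rw [happ, hHs.1, PowerSeries.subst_add hsub, PowerSeries.subst_C, PowerSeries.subst_X hsub, hu]
    change Ht s = PowerSeries.C s + (Ht s - PowerSeries.C s)
    ring
  rw [hasse_ext s Ht H' hHt.2 hc' hs, happ]

theorem coeff_pow_of_lt {u : K⟦X⟧} (hu0 : PowerSeries.constantCoeff u = 0) {m j : ℕ}
    (h : m < j) : PowerSeries.coeff m (u ^ j) = 0 := by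
  obtain ⟨u', rfl⟩ := PowerSeries.X_dvd_iff.2 hu0
  rw [mul_pow, PowerSeries.coeff_X_pow_mul', if_neg (by omega)]

theorem coeff_pow_self {u : K⟦X⟧} (hu0 : PowerSeries.constantCoeff u = 0) (m : ℕ) :
    PowerSeries.coeff m (u ^ m) = (PowerSeries.coeff 1 u) ^ m := by
  obtain ⟨u', rfl⟩ := PowerSeries.X_dvd_iff.2 hu0
  rw [mul_pow, PowerSeries.coeff_X_pow_mul', if_pos le_rfl, Nat.sub_self,
    PowerSeries.coeff_zero_eq_constantCoeff_apply, map_pow]
  congr 1
  have := PowerSeries.coeff_succ_X_mul (R := K) 0 u'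
  rw [zero_add] at this
  rw [this, PowerSeries.coeff_zero_eq_constantCoeff_apply]

/-- Hasse derivatives in the variable `t` in terms of those in the variable `s` -/
theorem hasseD_change (s t : K) [Algebra.IsSeparable k⟮s⟯ K] (Hs Ht : K →ₐ[k] K⟦X⟧)
    (hHs : LocRes.IsHasseFamily s Hs) (hHt : LocRes.IsHasseFamily t Ht) (z : K) (m : ℕ) :
    LocRes.hasseD Ht m z = ∑ j ∈ Finset.range (m + 1),
      LocRes.hasseD Hs j z * PowerSeries.coeff m ((Ht s - PowerSeries.C s) ^ j) := by
  have hu0 : PowerSeries.constantCoeff (Ht s - PowerSeries.C s) = 0 := by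
    rw [map_sub, hHt.2, PowerSeries.constantCoeff_C, sub_self]
  have hsub : PowerSeries.HasSubst (Ht s - PowerSeries.C s) :=
    PowerSeries.HasSubst.of_constantCoeff_zero' hu0
  rw [LocRes.hasseD_apply, hasse_change s t Hs Ht hHs hHt z, PowerSeries.coeff_subst' hsub]
  rw [finsum_eq_sum_of_support_subset (s := Finset.range (m + 1))]
  · refine Finset.sum_congr rfl (fun j _ => ?_)
    rw [smul_eq_mul, LocRes.hasseD_apply]
  · intro d hd
    rw [Function.mem_support] at hd
    rw [Finset.coe_range, Set.mem_Iio]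
    by_contra hlt
    apply hd
    rw [coeff_pow_of_lt hu0 (by omega), smul_zero]

theorem coeff_one_sub_C (Ht : K →ₐ[k] K⟦X⟧) (s : K) :
    PowerSeries.coeff 1 (Ht s - PowerSeries.C s) = LocRes.hasseD Ht 1 s := by
  rw [map_sub, PowerSeries.coeff_C, if_neg one_ne_zero, sub_zero, LocRes.hasseD_apply]

/-- `ds/dt · dt/ds = 1` -/
theorem hasseD_one_mul (s t : K) [Algebra.IsSeparable k⟮s⟯ K] (Hs Ht : K →ₐ[k] K⟦X⟧)
    (hHs : LocRes.IsHasseFamily s Hs) (hHt : LocRes.IsHasseFamily t Ht) :
    LocRes.hasseD Hs 1 t * LocRes.hasseD Ht 1 s = 1 := by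
  have h1 : LocRes.hasseD Ht 1 t = 1 := by
    rw [LocRes.hasseD_apply, hHt.1, map_add, PowerSeries.coeff_C, if_neg one_ne_zero, zero_add,
      PowerSeries.coeff_one_X]
  have h2 := hasseD_change s t Hs Ht hHs hHt t 1
  rw [h1, Finset.sum_range_succ, Finset.sum_range_one, pow_zero, pow_one, PowerSeries.coeff_one,
    if_neg one_ne_zero, mul_zero, zero_add, coeff_one_sub_C] at h2
  exact h2.symm

/-- the columns in the variable `t` are a triangular combination of those in the variable `s` -/
theorem hcol_change_var_sub_mem {ι : Type*} (τ : K →ₐ[k] K) (s t : K)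
    [Algebra.IsSeparable k⟮s⟯ K] (Hs Ht : K →ₐ[k] K⟦X⟧)
    (hHs : LocRes.IsHasseFamily s Hs) (hHt : LocRes.IsHasseFamily t Ht) (φ : ι → K) (j : ℕ) :
    hcol τ Ht φ j - (Nat.casesOn j 1 (fun m => LocRes.hasseD Ht 1 s ^ m) : K) • hcol τ Hs φ j ∈
      Submodule.span K (hcol τ Hs φ '' Set.Iio j) := by
  cases j with
  | zero =>
    have h0 : hcol τ Ht φ 0 = hcol τ Hs φ 0 := rfl
    change hcol τ Ht φ 0 - (1 : K) • hcol τ Hs φ 0 ∈ _
    rw [h0, one_smul, sub_self]
    exact Submodule.zero_mem _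
  | succ m =>
    have hu0 : PowerSeries.constantCoeff (Ht s - PowerSeries.C s) = 0 := by
      rw [map_sub, hHt.2, PowerSeries.constantCoeff_C, sub_self]
    have e : hcol τ Ht φ (m + 1) - (LocRes.hasseD Ht 1 s ^ m) • hcol τ Hs φ (m + 1) =
        ∑ j ∈ Finset.range m, PowerSeries.coeff m ((Ht s - PowerSeries.C s) ^ j) •
          hcol τ Hs φ (j + 1) := by
      funext i
      simp only [hcol, Pi.sub_apply, Pi.smul_apply, Finset.sum_apply, smul_eq_mul]
      rw [hasseD_change s t Hs Ht hHs hHt (φ i) m, Finset.sum_range_succ, coeff_pow_self hu0,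
        coeff_one_sub_C]
      rw [mul_comm (LocRes.hasseD Hs m (φ i)), add_sub_cancel_right]
      refine Finset.sum_congr rfl (fun j _ => mul_comm _ _)
    change hcol τ Ht φ (m + 1) - (LocRes.hasseD Ht 1 s ^ m) • hcol τ Hs φ (m + 1) ∈ _
    rw [e]
    apply Submodule.sum_mem
    intro j hj
    apply Submodule.smul_mem
    apply Submodule.subset_span
    refine ⟨j + 1, ?_, rfl⟩
    rw [Finset.mem_range] at hj
    rw [Set.mem_Iio]
    omega

/-- **change of the separating variable**: orders and Wronskians -/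
theorem isOrders_change_variable
    (k K : Type*) [Field k] [Field K] [Algebra k K]
    {n : ℕ} (φ : Fin (n + 1) → K)
    (τ : K →ₐ[k] K) (s : K) [Algebra.IsSeparable k⟮s⟯ K]
    (Hs : K →ₐ[k] PowerSeries K) (hHs : LocRes.IsHasseFamily s Hs)
    (t : K) (Ht : K →ₐ[k] PowerSeries K) (hHt : LocRes.IsHasseFamily t Ht) :
    (∀ J : Fin n → ℕ, FunFld.IsOrders K (FunFld.hcol τ Ht φ) J ↔ FunFld.IsOrders K (FunFld.hcol τ Hs φ) J) ∧
    ∀ J : Fin n → ℕ, FunFld.IsOrders K (FunFld.hcol τ Hs φ) J →
      (FunFld.wrMat τ Ht φ J).det =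
        LocRes.hasseD Ht 1 s ^ (∑ l, J l) * (FunFld.wrMat τ Hs φ J).det := by
  have hd0 : LocRes.hasseD Ht 1 s ≠ 0 := by
    intro h0
    have := hasseD_one_mul s t Hs Ht hHs hHt
    rw [h0, mul_zero] at this
    exact zero_ne_one this
  constructor
  · intro J
    apply isOrders_congr
    intro j
    apply isJump_iff_of_triangular (R := K) (FunFld.hcol τ Hs φ) (FunFld.hcol τ Ht φ)
      (fun j => (Nat.casesOn j 1 (fun m => LocRes.hasseD Ht 1 s ^ m) : K))
    · intro j
      cases j with
      | zero => exact one_ne_zero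
      | succ j => exact pow_ne_zero _ hd0
    · intro j
      exact hcol_change_var_sub_mem τ s t Hs Ht hHs hHt φ j
  · intro J hJ
    have key := det_eq_of_triangular_cols (R := K) (FunFld.wrMat τ Hs φ J)
      (FunFld.wrMat τ Ht φ J)
      (fun i => Fin.cases (motive := fun _ => K) 1 (fun l => LocRes.hasseD Ht 1 s ^ J l) i) ?_
    · rw [key, Fin.prod_univ_succ]
      simp only [Fin.cases_zero, Fin.cases_succ, one_mul]
      rw [Finset.prod_pow_eq_pow_sum]
    · intro i
      have hcolA : (FunFld.wrMat τ Hs φ J).col = fun i : Fin (n + 1) =>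
          FunFld.hcol τ Hs φ (Fin.cases (motive := fun _ => ℕ) 0 (fun l => J l + 1) i) := by
        funext i
        exact wrMat_col τ Hs φ J i
      cases i using Fin.cases with
      | zero =>
        rw [wrMat_col, wrMat_col]
        simp only [Fin.cases_zero, one_smul]
        have : hcol τ Ht φ 0 = hcol τ Hs φ 0 := rfl
        rw [this, sub_self]
        exact Submodule.zero_mem _
      | succ l =>
        rw [hcolA]
        simp only [wrMat_col, Fin.cases_succ]
        exact span_Iio_le_of_isOrders (R := K) (FunFld.hcol τ Hs φ) J hJ l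
          (hcol_change_var_sub_mem τ s t Hs Ht hHs hHt φ (J l + 1))

end Groth.Agent.Lib.Helper26.HasseChange
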