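import Mathlib
import Groth.Agent.Lib.Helper26.LocRing3
set_option autoImplicit false
open scoped WithZero IntermediateField
open FunFld
open Groth.Agent.Lib.Helper2.FF
open Groth.Agent.Lib.Helper26.FunFldAlgClosed
open Groth.Agent.Lib.Helper26.LocRing
open Groth.Agent.Lib.Helper26.LocRing2
open Groth.Agent.Lib.Helper26.LocRing3

namespace Groth.Agent.Lib.Helper26.ProjNormal

variable {k K : Type*} [Field k] [Field K] [Algebra k K] {ι : Type*}

theorem pow_le_L {W : Submodule k K} {D : Divisor k K} (hW : W ≤ L D) (m : ℕ) :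
    W ^ m ≤ L (m • D) := by
  induction m with
  | zero =>
    rw [pow_zero, zero_nsmul, Submodule.one_le]
    exact LocRing.one_mem_L_zero
  | succ m ih =>
    rw [pow_succ, succ_nsmul, Submodule.mul_le]
    intro a ha b hb
    exact LocRing.mul_mem_L (ih ha) (hW hb)

/-- dehomogenization: elements of `W^m` divided by `φ_j^m` lie in the affine coordinate ring -/
theorem div_pow_mem_adjoin (φ : ι → K) (j : ι) (m : ℕ) {f : K}
    (hf : f ∈ (Submodule.span k (Set.range φ)) ^ m) :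
    f / φ j ^ m ∈ Algebra.adjoin k (Set.range fun i => φ i / φ j) := by
  induction m generalizing f with
  | zero =>
    rw [pow_zero, Submodule.mem_one] at hf
    obtain ⟨c, rfl⟩ := hf
    rw [pow_zero, div_one]
    exact Subalgebra.algebraMap_mem _ c
  | succ m ih =>
    rw [pow_succ] at hf
    refine Submodule.mul_induction_on hf ?_ ?_
    · intro a ha b hb
      have e : a * b / φ j ^ (m + 1) = (a / φ j ^ m) * (b / φ j) := by
        rw [pow_succ]; field_simp
      rw [e]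
      exact mul_mem (ih ha) (div_mem_adjoin φ j hb)
    · intro a b ha hb
      rw [add_div]; exact add_mem ha hb

/-- homogenization: an element of the affine coordinate ring times a high power of `φ_j` lies in
`W^n` -/
theorem mul_pow_mem_pow (φ : ι → K) (j : ι) (hj0 : φ j ≠ 0) {a : K}
    (ha : a ∈ Algebra.adjoin k (Set.range fun i => φ i / φ j)) :
    ∃ n₀ : ℕ, ∀ n, n₀ ≤ n → a * φ j ^ n ∈ (Submodule.span k (Set.range φ)) ^ n := by
  set W := Submodule.span k (Set.range φ) with hW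
  have hφW : ∀ i, φ i ∈ W := fun i => Submodule.subset_span ⟨i, rfl⟩
  refine Algebra.adjoin_induction
    (p := fun a _ => ∃ n₀ : ℕ, ∀ n, n₀ ≤ n → a * φ j ^ n ∈ W ^ n) ?_ ?_ ?_ ?_ ha
  · rintro _ ⟨i, rfl⟩
    refine ⟨1, fun n hn => ?_⟩
    obtain ⟨n', rfl⟩ : ∃ n', n = n' + 1 := ⟨n - 1, by omega⟩
    have e : φ i / φ j * φ j ^ (n' + 1) = φ j ^ n' * φ i := by
      rw [pow_succ]; field_simp
    rw [e, pow_succ]
    exact Submodule.mul_mem_mul (Submodule.pow_mem_pow _ (hφW j) _) (hφW i)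
  · intro c
    refine ⟨0, fun n _ => ?_⟩
    rw [← Algebra.smul_def]
    exact Submodule.smul_mem _ _ (Submodule.pow_mem_pow _ (hφW j) _)
  · rintro x y _ _ ⟨n₁, h₁⟩ ⟨n₂, h₂⟩
    refine ⟨max n₁ n₂, fun n hn => ?_⟩
    rw [add_mul]
    exact Submodule.add_mem _ (h₁ n (le_trans (le_max_left _ _) hn))
      (h₂ n (le_trans (le_max_right _ _) hn))
  · rintro x y _ _ ⟨n₁, h₁⟩ ⟨n₂, h₂⟩
    refine ⟨n₁ + n₂, fun n hn => ?_⟩
    have e : x * y * φ j ^ n = (x * φ j ^ n₁) * (y * φ j ^ (n - n₁)) := by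
      have : n = n₁ + (n - n₁) := by omega
      conv_lhs => rw [this, pow_add]
      ring
    rw [e]
    have h3 := Submodule.mul_mem_mul (h₁ n₁ le_rfl) (h₂ (n - n₁) (by omega))
    rw [← pow_add] at h3
    have : n₁ + (n - n₁) = n := by omega
    rwa [this] at h3

/-- the elements of `W^a` multiplying `L(mD)` into `W^(m+a)` for all `m ≥ e` -/
def cond (W : Submodule k K) (D : Divisor k K) (e a : ℕ) : Submodule k K where
  carrier := {c | c ∈ W ^ a ∧ ∀ m, e ≤ m → ∀ f ∈ L (m • D), c * f ∈ W ^ (m + a)}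
  add_mem' := by
    rintro c₁ c₂ ⟨h1, h2⟩ ⟨h3, h4⟩
    refine ⟨Submodule.add_mem _ h1 h3, fun m hm f hf => ?_⟩
    rw [add_mul]
    exact Submodule.add_mem _ (h2 m hm f hf) (h4 m hm f hf)
  zero_mem' := ⟨Submodule.zero_mem _, fun m _ f _ => by rw [zero_mul]; exact Submodule.zero_mem _⟩
  smul_mem' := by
    rintro r c ⟨h1, h2⟩
    refine ⟨Submodule.smul_mem _ _ h1, fun m hm f hf => ?_⟩
    rw [smul_mul_assoc]
    exact Submodule.smul_mem _ _ (h2 m hm f hf)

theorem mem_cond {W : Submodule k K} {D : Divisor k K} {e a : ℕ} {c : K} :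
    c ∈ cond W D e a ↔ c ∈ W ^ a ∧ ∀ m, e ≤ m → ∀ f ∈ L (m • D), c * f ∈ W ^ (m + a) := Iff.rfl

theorem cond_mul_mem {W : Submodule k K} {D : Divisor k K} {e a : ℕ} {c w : K}
    (hc : c ∈ cond W D e a) (hw : w ∈ W) : c * w ∈ cond W D e (a + 1) := by
  obtain ⟨h1, h2⟩ := hc
  refine ⟨by rw [pow_succ]; exact Submodule.mul_mem_mul h1 hw, fun m hm f hf => ?_⟩
  have e1 : c * w * f = (c * f) * w := by ring
  rw [e1, ← add_assoc, pow_succ]
  exact Submodule.mul_mem_mul (h2 m hm f hf) hw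

theorem cond_mul_pow_mem {W : Submodule k K} {D : Divisor k K} {e a : ℕ} {c w : K}
    (hc : c ∈ cond W D e a) (hw : w ∈ W) (r : ℕ) : c * w ^ r ∈ cond W D e (a + r) := by
  induction r with
  | zero => simpa using hc
  | succ r ih =>
    have := cond_mul_mem ih hw
    rw [mul_assoc, ← pow_succ] at this
    exact this

/-- it suffices to test the conductor condition on `L(eD)` -/
theorem mem_cond_of_base (hK : IsFunctionField k K) {W : Submodule k K} {D : Divisor k K}
    (hWL : W ≤ L D) {s t : K} (hs : s ∈ W) (ht : t ∈ W) (hs0 : s ≠ 0)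
    (hst : ∀ Q : FunFld.Place k K, v Q s = WithZero.exp (D Q) ∨ v Q t = WithZero.exp (D Q))
    (hd : 1 ≤ D.deg) {a : ℕ} {c : K} (hc : c ∈ W ^ a)
    (hbase : ∀ f ∈ L ((2 * genus k K + 1) • D), c * f ∈ W ^ (2 * genus k K + 1 + a)) :
    c ∈ cond W D (2 * genus k K + 1) a := by
  refine ⟨hc, fun m hm => ?_⟩
  have hbpf1 : ∀ Q : FunFld.Place k K, v Q s ≤ WithZero.exp (D Q) ∧ v Q t ≤ WithZero.exp (D Q) ∧
      (v Q s = WithZero.exp (D Q) ∨ v Q t = WithZero.exp (D Q)) :=
    fun Q => ⟨hWL hs Q, hWL ht Q, hst Q⟩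
  induction m, hm using Nat.le_induction with
  | base => exact hbase
  | succ m hm ih =>
    intro f hf
    rw [succ_nsmul] at hf
    have hmd : (m : ℤ) - 1 ≤ (m - 1) * D.deg := by nlinarith
    obtain ⟨f₁, hf₁, f₂, hf₂, hab⟩ := pencil_surj hK hs0 hbpf1 (E := m • D)
      (by rw [deg_sub, deg_nsmul]
          have : ((2 * genus k K + 1 : ℕ) : ℤ) ≤ m := by exact_mod_cast hm
          push_cast at this; linarith)
      (by omega) hf
    have e1 : c * f = (c * f₁) * s + (c * f₂) * t := by rw [hab]; ring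
    have e2 : m + 1 + a = (m + a) + 1 := by omega
    rw [e1, e2, pow_succ]
    exact Submodule.add_mem _ (Submodule.mul_mem_mul (ih f₁ hf₁) hs)
      (Submodule.mul_mem_mul (ih f₂ hf₂) ht)

/-- at a nonsingular place there is a conductor element not vanishing there -/
theorem exists_cond_of_nonsingular [IsAlgClosed k] (hK : IsFunctionField k K) (φ : ι → K)
    (D : Divisor k K) (hφ : ∀ i, φ i ∈ L D)
    (hbpf : ∀ Q : FunFld.Place k K, ∃ w ∈ Submodule.span k (Set.range φ),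
      v Q w = WithZero.exp (D Q))
    (hd : 1 ≤ D.deg) (P : FunFld.Place k K) (hns : IsNonsingularAt φ P) :
    ∃ (a : ℕ) (c : K), c ∈ cond (Submodule.span k (Set.range φ)) D (2 * genus k K + 1) a ∧
      v P c = WithZero.exp ((a • D) P) := by
  classical
  set W := Submodule.span k (Set.range φ) with hWdef
  have hWL : W ≤ L D := Submodule.span_le.2 (by rintro _ ⟨i, rfl⟩; exact hφ i)
  obtain ⟨j, hj⟩ := exists_index φ D P hφ (hbpf P)
  set s := φ j with hs
  have hs0 : s ≠ 0 := by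
    intro h; rw [h, map_zero] at hj; exact WithZero.exp_ne_zero hj.symm
  have hsW : s ∈ W := Submodule.subset_span ⟨j, rfl⟩
  have hjle : ∀ i, v P (φ i) ≤ v P (φ j) := fun i => by rw [hj]; exact hφ i P
  obtain ⟨t, htW, hst⟩ := exists_pencil hK W D hWL hbpf hs0
  set e := 2 * genus k K + 1 with he
  -- one generator at a time
  have hstep : ∀ g₀ ∈ L (e • D), ∃ (n : ℕ) (w₀ : K), w₀ ∈ W ^ n ∧
      v P w₀ = WithZero.exp ((n • D) P) ∧ w₀ * g₀ ∈ W ^ (n + e) := by
    intro g₀ hg₀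
    have hv : v P (g₀ / s ^ e) ≤ 1 := by
      rw [map_div₀, map_pow, hj]
      apply div_le_one_of_le₀ _ zero_le
      have := hg₀ P
      rwa [Finsupp.smul_apply, WithZero.exp_nsmul] at this
    obtain ⟨u, hu, w, hw, hw1, huw⟩ := (inLocRing_iff φ P j hs0 hjle _).1 (hns _ hv)
    obtain ⟨n₁, h₁⟩ := mul_pow_mem_pow φ j hs0 hu
    obtain ⟨n₂, h₂⟩ := mul_pow_mem_pow φ j hs0 hw
    refine ⟨max n₁ n₂, w * s ^ (max n₁ n₂), h₂ _ (le_max_right _ _), ?_, ?_⟩
    · rw [map_mul, hw1, one_mul, map_pow, hj, Finsupp.smul_apply, WithZero.exp_nsmul]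
    · have e1 : w * s ^ (max n₁ n₂) * g₀ = (u * s ^ (max n₁ n₂)) * s ^ e := by
        rw [← huw]; field_simp
      rw [e1, pow_add]
      exact Submodule.mul_mem_mul (h₁ _ (le_max_left _ _)) (Submodule.pow_mem_pow _ hsW _)
  obtain ⟨S, hS⟩ := (Submodule.fg_iff_finiteDimensional _).2 (finiteDimensional_L hK (e • D))
  have hSL : ∀ g ∈ S, g ∈ L (e • D) := fun g hg => by
    rw [← hS]; exact Submodule.subset_span hg
  have hfin : ∀ T : Finset K, (∀ g ∈ T, g ∈ L (e • D)) → ∃ (a : ℕ) (c : K), c ∈ W ^ a ∧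
      v P c = WithZero.exp ((a • D) P) ∧ ∀ g ∈ T, c * g ∈ W ^ (e + a) := by
    intro T
    induction T using Finset.induction_on with
    | empty =>
      intro _
      refine ⟨0, 1, by rw [pow_zero]; exact Submodule.one_le.1 le_rfl, by simp, by simp⟩
    | insert g₀ T hg₀ ih =>
      intro hT
      obtain ⟨a, c, hc, hvc, hcT⟩ := ih fun g hg => hT g (Finset.mem_insert_of_mem hg)
      obtain ⟨n, w₀, hw₀, hvw₀, hw₀g⟩ := hstep g₀ (hT g₀ (Finset.mem_insert_self _ _))
      refine ⟨a + n, c * w₀, by rw [pow_add]; exact Submodule.mul_mem_mul hc hw₀, ?_, ?_⟩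
      · rw [map_mul, hvc, hvw₀, ← WithZero.exp_add, add_nsmul, Finsupp.add_apply]
      · intro g hg
        rcases Finset.mem_insert.1 hg with rfl | hgT
        · have e1 : c * w₀ * g = c * (w₀ * g) := by ring
          have e2 : e + (a + n) = a + (n + e) := by omega
          rw [e1, e2, pow_add]
          exact Submodule.mul_mem_mul hc hw₀g
        · have e1 : c * w₀ * g = (c * g) * w₀ := by ring
          have e2 : e + (a + n) = (e + a) + n := by omega
          rw [e1, e2, pow_add]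
          exact Submodule.mul_mem_mul (hcT g hgT) hw₀
  obtain ⟨a, c, hc, hvc, hcS⟩ := hfin S hSL
  refine ⟨a, c, ?_, hvc⟩
  apply mem_cond_of_base hK hWL hsW htW hs0 hst hd hc
  intro f hf
  rw [← hS] at hf
  refine Submodule.span_induction (p := fun f _ => c * f ∈ W ^ (e + a)) ?_ ?_ ?_ ?_ hf
  · exact hcS
  · rw [mul_zero]; exact Submodule.zero_mem _
  · intro f₁ f₂ _ _ h₁ h₂; rw [mul_add]; exact Submodule.add_mem _ h₁ h₂
  · intro r f _ hf'; rw [mul_smul_comm]; exact Submodule.smul_mem _ _ hf'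

/-- **projective normality in large degrees** of an everywhere nonsingular projective map -/
theorem L_le_pow_of_nonsingular [IsAlgClosed k] (hK : IsFunctionField k K) (φ : ι → K)
    (D : Divisor k K) (hφ : ∀ i, φ i ∈ L D)
    (hbpf : ∀ Q : FunFld.Place k K, ∃ w ∈ Submodule.span k (Set.range φ),
      v Q w = WithZero.exp (D Q))
    (hd : 1 ≤ D.deg) (hns : ∀ P : FunFld.Place k K, IsNonsingularAt φ P) :
    ∃ m₀ : ℕ, ∀ m, m₀ ≤ m → L (m • D) ≤ (Submodule.span k (Set.range φ)) ^ m := by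
  classical
  set W := Submodule.span k (Set.range φ) with hWdef
  have hWL : W ≤ L D := Submodule.span_le.2 (by rintro _ ⟨i, rfl⟩; exact hφ i)
  set g := genus k K with hg
  set e := 2 * g + 1 with he
  obtain ⟨P₀⟩ : Nonempty (FunFld.Place k K) := by
    obtain ⟨⟨x₀, hx₀, -⟩, -⟩ := id hK
    obtain ⟨P, -⟩ := exists_place_lt_one hK hx₀
    exact ⟨P⟩
  choose a c hc hvc using fun Q : FunFld.Place k K =>
    exists_cond_of_nonsingular hK φ D hφ hbpf hd Q (hns Q)
  choose sQ hsQW hsQ using hbpf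
  have hc0 : ∀ Q, c Q ≠ 0 := by
    intro Q h
    have := hvc Q
    rw [h, map_zero] at this
    exact WithZero.exp_ne_zero this.symm
  have hsQ0 : ∀ Q, sQ Q ≠ 0 := by
    intro Q h
    have := hsQ Q
    rw [h, map_zero] at this
    exact WithZero.exp_ne_zero this.symm
  set Z₀ : Set (FunFld.Place k K) := {Q | v Q (c P₀) ≠ WithZero.exp ((a P₀ • D) Q)} with hZ₀
  have hZfin : Z₀.Finite := by
    apply Set.Finite.subset (a P₀ • D + FunFld.div k (c P₀)).support.finite_toSet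
    intro Q hQ
    simp only [Finset.mem_coe, Finsupp.mem_support_iff, Finsupp.add_apply, div_apply hK]
    intro h0
    apply hQ
    rw [v_eq_exp_neg_ord Q (hc0 P₀)]
    congr 1
    omega
  set a' := a P₀ + ∑ Q ∈ hZfin.toFinset, a Q with ha'
  have haQ : ∀ Q ∈ Z₀, a Q ≤ a' := by
    intro Q hQ
    have := Finset.single_le_sum (f := a) (fun _ _ => Nat.zero_le _) (hZfin.mem_toFinset.2 hQ)
    omega
  set W' := cond W D e a' with hW'
  have hW'L : W' ≤ L (a' • D) := fun x hx => pow_le_L hWL a' hx.1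
  -- bumping
  have hbump : ∀ Q (b : ℕ) (x : K), x ∈ cond W D e b → v Q x = WithZero.exp ((b • D) Q) → b ≤ a' →
      ∃ w ∈ W', v Q w = WithZero.exp ((a' • D) Q) := by
    intro Q b x hx hvx hb
    refine ⟨x * sQ Q ^ (a' - b), ?_, ?_⟩
    · have := cond_mul_pow_mem hx (hsQW Q) (a' - b)
      have e1 : b + (a' - b) = a' := by omega
      rwa [e1] at this
    · rw [map_mul, map_pow, hvx, hsQ Q, Finsupp.smul_apply, Finsupp.smul_apply,
        WithZero.exp_nsmul, WithZero.exp_nsmul, ← pow_add]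
      congr 1; omega
  have hbpf' : ∀ Q : FunFld.Place k K, ∃ w ∈ W', v Q w = WithZero.exp ((a' • D) Q) := by
    intro Q
    by_cases hQ : Q ∈ Z₀
    · exact hbump Q (a Q) (c Q) (hc Q) (hvc Q) (haQ Q hQ)
    · have : v Q (c P₀) = WithZero.exp ((a P₀ • D) Q) := by
        by_contra hne; exact hQ hne
      exact hbump Q (a P₀) (c P₀) (hc P₀) this (by omega)
  obtain ⟨c₁, hc₁W, hc₁v⟩ := hbpf' P₀
  have hc₁0 : c₁ ≠ 0 := by
    intro h; rw [h, map_zero] at hc₁v; exact WithZero.exp_ne_zero hc₁v.symm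
  obtain ⟨c₂, hc₂W, hc12⟩ := exists_pencil hK W' (a' • D) hW'L hbpf' hc₁0
  have hbpf1 : ∀ Q : FunFld.Place k K, v Q c₁ ≤ WithZero.exp ((a' • D) Q) ∧
      v Q c₂ ≤ WithZero.exp ((a' • D) Q) ∧
      (v Q c₁ = WithZero.exp ((a' • D) Q) ∨ v Q c₂ = WithZero.exp ((a' • D) Q)) :=
    fun Q => ⟨hW'L hc₁W Q, hW'L hc₂W Q, hc12 Q⟩
  refine ⟨e + a' + a' + 2 * g + 1, fun m hm => ?_⟩
  intro f hf
  obtain ⟨m', rfl⟩ : ∃ m', m = m' + a' := ⟨m - a', by omega⟩
  rw [add_nsmul] at hf
  have hm'a : ((a' : ℤ) + 2 * g + 1) ≤ m' := by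
    have : a' + 2 * g + 1 ≤ m' := by omega
    exact_mod_cast this
  have ha'0 : (0 : ℤ) ≤ a' := Int.natCast_nonneg _
  obtain ⟨f₁, hf₁, f₂, hf₂, hab⟩ := pencil_surj hK hc₁0 hbpf1 (E := m' • D)
    (by rw [deg_sub, deg_nsmul, deg_nsmul]
        have : ((m' : ℤ) - a') ≤ ((m' : ℤ) - a') * D.deg := by nlinarith
        nlinarith)
    (by rw [deg_nsmul]; nlinarith) hf
  rw [hab]
  exact Submodule.add_mem _ (hc₁W.2 m' (by omega) f₁ hf₁) (hc₂W.2 m' (by omega) f₂ hf₂)

end Groth.Agent.Lib.Helper26.ProjNormal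


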