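import Mathlib
import Groth.Agent.Lib.Helper26.PlaneModel2
import Groth.Agent.Lib.Helper26.ProjNormal
set_option autoImplicit false
open scoped WithZero IntermediateField
open FunFld
open Groth.Agent.Lib.Helper2.FF
open Groth.Agent.Lib.Helper26.FunFldAlgClosed
open Groth.Agent.Lib.Helper26.LocRing
open Groth.Agent.Lib.Helper26.LocRing2
open Groth.Agent.Lib.Helper26.LocRing3
open Groth.Agent.Lib.Helper26.PlaneModel
open Groth.Agent.Lib.Helper26.PlaneModel2
open Groth.Agent.Lib.Helper26.ProjNormal

namespace Groth.Agent.Lib.Helper26.PlaneModel3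

variable {k K : Type*} [Field k] [Field K] [Algebra k K]

/-- the data of a generic projection of a plane model -/
theorem plane_setup (hK : IsFunctionField k K) [Infinite k] (x y : K)
    (hxy : IntermediateField.adjoin k ({x, y} : Set K) = ⊤) :
    ∃ (b : k), pdiv (k := k) (x + b • y) = mapDiv k ![(1 : K), x, y] ∧
      Transcendental k (x + b • y) ∧ (k⟮x + b • y⟯)⟮y⟯ = ⊤ := by
  classical
  obtain ⟨b, hb⟩ := exists_generic hK x y
  have hpd := pdiv_generic hK x y b hb
  have hvle := v_le_exp_mapDiv hK x y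
  refine ⟨b, hpd, ?_, ?_⟩
  · by_contra halg
    rw [Transcendental, not_not] at halg
    obtain ⟨c, hc⟩ := hK.2 _ halg
    have hD0 : mapDiv k ![(1 : K), x, y] = 0 := by
      rw [← hpd, ← hc]
      ext P
      rw [pdiv_apply hK, ord_algebraMap]; simp
    have hxL : x ∈ L (0 : Divisor k K) := by
      rw [mem_L]; intro P; rw [← hD0]; exact (hvle P).1
    have hyL : y ∈ L (0 : Divisor k K) := by
      rw [mem_L]; intro P; rw [← hD0]; exact (hvle P).2.1
    rw [L_zero hK, Submodule.one_eq_range] at hxL hyL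
    obtain ⟨cx, hcx⟩ := hxL
    obtain ⟨cy, hcy⟩ := hyL
    have hbot : IntermediateField.adjoin k ({x, y} : Set K) = ⊥ := by
      rw [IntermediateField.adjoin_eq_bot_iff]
      rintro z (rfl | rfl)
      · exact IntermediateField.mem_bot.2 ⟨cx, hcx⟩
      · exact IntermediateField.mem_bot.2 ⟨cy, hcy⟩
    obtain ⟨⟨x₀, hx₀, -⟩, -⟩ := hK
    have : x₀ ∈ (⊤ : IntermediateField k K) := trivial
    rw [← hxy, hbot, IntermediateField.mem_bot] at this
    obtain ⟨c₀, rfl⟩ := this
    exact hx₀ (isAlgebraic_algebraMap c₀)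
  · rw [← IntermediateField.restrictScalars_eq_top_iff (K := k),
      IntermediateField.adjoin_adjoin_left, eq_top_iff, ← hxy, IntermediateField.adjoin_le_iff]
    have hy' : y ∈ IntermediateField.adjoin k ({x + b • y} ∪ {y} : Set K) :=
      IntermediateField.subset_adjoin _ _ (Or.inr rfl)
    have hx'' : x + b • y ∈ IntermediateField.adjoin k ({x + b • y} ∪ {y} : Set K) :=
      IntermediateField.subset_adjoin _ _ (Or.inl rfl)
    rintro z (rfl | rfl)
    · have h3 := sub_mem hx'' (IntermediateField.smul_mem _ hy' (x := b))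
      have e : (z + b • y) - b • y = z := by ring
      rw [e] at h3
      exact h3
    · exact hy'

/-- **genus of a plane model**: equality in the genus bound iff the model is nonsingular -/
theorem two_mul_genus_eq_iff [IsAlgClosed k] (hK : IsFunctionField k K) (x y : K)
    (hxy : IntermediateField.adjoin k ({x, y} : Set K) = ⊤) :
    2 * (genus k K : ℤ) =
        ((mapDiv k ![(1 : K), x, y]).deg - 1) * ((mapDiv k ![(1 : K), x, y]).deg - 2) ↔
      ∀ P : FunFld.Place k K, IsNonsingularAt ![(1 : K), x, y] P := by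
  classical
  obtain ⟨b, hpd, htr, htop⟩ := plane_setup hK x y hxy
  have hle := two_mul_genus_le hK x y hxy
  have hvle := v_le_exp_mapDiv hK x y
  have hveq := v_eq_exp_mapDiv hK x y
  obtain ⟨D, hD⟩ : ∃ D, D = mapDiv k ![(1 : K), x, y] := ⟨_, rfl⟩
  rw [← hD] at hpd hle hvle hveq ⊢
  obtain ⟨x', hx'⟩ : ∃ x', x' = x + b • y := ⟨_, rfl⟩
  rw [← hx'] at hpd htr htop
  set φ : Fin 3 → K := ![(1 : K), x, y] with hφdef
  have hfd : FiniteDimensional k⟮x'⟯ K := finiteDimensional_adjoin_simple hK htr
  have hint : IsIntegral k⟮x'⟯ y := IsIntegral.of_finite _ _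
  set N := (minpoly k⟮x'⟯ y).natDegree with hN
  have hnat : N = Module.finrank k⟮x'⟯ K := by
    rw [hN, ← IntermediateField.adjoin.finrank hint, htop, IntermediateField.finrank_top']
  have hNpos : 0 < N := by rw [hnat]; exact Module.finrank_pos
  have hdeg : D.deg = (N : ℤ) := by rw [← hpd, deg_pdiv hK htr, hnat]
  have hy : ∀ P : FunFld.Place k K, v P y ≤ WithZero.exp (pdiv (k := k) x' P) := by
    intro P; rw [hpd]; exact (hvle P).2.1
  set W := Submodule.span k (Set.range φ) with hWdef
  have hφL : ∀ i, φ i ∈ L D := by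
    intro i P
    obtain ⟨h1, h2, h0⟩ := hvle P
    change v P (φ i) ≤ _
    fin_cases i
    · simp only [hφdef, Fin.zero_eta, Matrix.cons_val_zero, map_one]
      rw [← WithZero.exp_zero, WithZero.exp_le_exp]; exact h0
    · exact h1
    · exact h2
  have hWL : W ≤ L D := Submodule.span_le.2 (by rintro _ ⟨i, rfl⟩; exact hφL i)
  have h1W : (1 : K) ∈ W := Submodule.subset_span ⟨0, rfl⟩
  have hxW : x ∈ W := Submodule.subset_span ⟨1, rfl⟩
  have hyW : y ∈ W := Submodule.subset_span ⟨2, rfl⟩
  have hx'W : x' ∈ W := by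
    rw [hx']; exact Submodule.add_mem _ hxW (Submodule.smul_mem _ _ hyW)
  have hbpf : ∀ Q : FunFld.Place k K, ∃ w ∈ W, v Q w = WithZero.exp (D Q) := by
    intro Q
    rcases (hvle Q).2.2.eq_or_lt with h0 | hpos
    · exact ⟨1, h1W, by rw [map_one, ← h0, WithZero.exp_zero]⟩
    · rcases hveq Q hpos with h | h
      · exact ⟨x, hxW, h⟩
      · exact ⟨y, hyW, h⟩
  have hd : 1 ≤ D.deg := by rw [hdeg]; exact_mod_cast hNpos
  have hWrep : ∀ w ∈ W, ∃ c₀ c₁ c₂ : k, w = c₀ • (1 : K) + c₁ • x' + c₂ • y := by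
    intro w hw
    obtain ⟨c, rfl⟩ := (Submodule.mem_span_range_iff_exists_fun k).1 hw
    refine ⟨c 0, c 1, c 2 - c 1 * b, ?_⟩
    rw [Fin.sum_univ_three, hx']
    simp only [hφdef, Matrix.cons_val_zero, Matrix.cons_val_one, Matrix.cons_val_two,
      Matrix.head_cons, Matrix.tail_cons, sub_smul, mul_smul, smul_add]
    abel
  -- the reduced monomials
  let μ : (m : ℕ) → (Σ j : Fin N, Fin (m + 1 - j)) → K :=
    fun m s => x' ^ (s.2 : ℕ) * y ^ (s.1 : ℕ)
  have hμli : ∀ m, LinearIndependent k (μ m) := fun m => linearIndependent_monomials htr m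
  have hμrank : ∀ m, Module.finrank k (Submodule.span k (Set.range (μ m))) =
      ∑ j ∈ Finset.range N, (m + 1 - j) := by
    intro m
    rw [finrank_span_eq_card (hμli m), card_sigma_eq]
  have hμW : ∀ m, Submodule.span k (Set.range (μ m)) ≤ W ^ m := by
    intro m
    rw [Submodule.span_le]
    rintro _ ⟨s, rfl⟩
    have hs : (s.2 : ℕ) + (s.1 : ℕ) ≤ m := by have := s.2.2; omega
    obtain ⟨a, ha⟩ : ∃ a : ℕ, a = (s.2 : ℕ) := ⟨_, rfl⟩
    obtain ⟨b', hb'⟩ : ∃ b' : ℕ, b' = (s.1 : ℕ) := ⟨_, rfl⟩
    obtain ⟨r, hr⟩ : ∃ r : ℕ, a + b' + r = m := ⟨m - (a + b'), by omega⟩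
    have e2 : μ m s = x' ^ a * y ^ b' * 1 ^ r := by
      simp [μ, ha, hb']
    have h3 : x' ^ a * y ^ b' * 1 ^ r ∈ W ^ (a + b' + r) := by
      rw [pow_add, pow_add]
      exact Submodule.mul_mem_mul (Submodule.mul_mem_mul (Submodule.pow_mem_pow _ hx'W _)
        (Submodule.pow_mem_pow _ hyW _)) (Submodule.pow_mem_pow _ h1W _)
    rw [hr] at h3
    rw [e2]; exact h3
  have hWμ : ∀ m, W ^ m ≤ Submodule.span k (Set.range (μ m)) := by
    intro m
    exact (pow_le_span_monoSet hK htr hy W hWrep m).trans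
      (Submodule.span_mono (monoSet_subset_range x' y N m))
  -- Riemann-Roch for large `m`
  set g := genus k K with hg
  have hRR : ∀ m : ℕ, 2 * g ≤ m → (ell (m • D) : ℤ) = m * N + 1 - g := by
    intro m hm
    have h1 : (m : ℤ) ≤ m * N := by
      have : (1 : ℤ) ≤ N := by exact_mod_cast hNpos
      nlinarith [Int.natCast_nonneg m]
    have h2 : (2 * (g : ℤ)) ≤ m := by exact_mod_cast hm
    have := ell_eq_of_deg_ge hK (m • D) (by rw [deg_nsmul, hdeg]; linarith)
    rw [deg_nsmul, hdeg] at this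
    exact this
  constructor
  · -- equality implies nonsingular
    intro heq P
    rw [hdeg] at heq
    -- for large `m`, `L(mD)` is spanned by the monomials
    have hLW : ∀ m : ℕ, 2 * g + N ≤ m → L (m • D) ≤ W ^ m := by
      intro m hm
      have hle1 : Submodule.span k (Set.range (μ m)) ≤ L (m • D) :=
        (hμW m).trans (pow_le_L hWL m)
      have hfin := finiteDimensional_L hK (m • D)
      have hid := sum_identity m N (by omega)
      have hrr := hRR m (by omega)
      have heq2 : Submodule.span k (Set.range (μ m)) = L (m • D) := by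
        apply Submodule.eq_of_le_of_finrank_eq hle1
        rw [hμrank, ← ell_def]
        zify
        zify at hid
        nlinarith
      rw [← heq2]; exact hμW m
    obtain ⟨j, hj⟩ := exists_index φ D P hφL (hbpf P)
    have hj0 : φ j ≠ 0 := by
      intro h; rw [h, map_zero] at hj; exact WithZero.exp_ne_zero hj.symm
    have hjle : ∀ i, v P (φ i) ≤ v P (φ j) := fun i => by rw [hj]; exact hφL i P
    intro z hz
    obtain ⟨m, hm, h, hhL, hvh, hzh⟩ := exists_frac hK D P hd (2 * g + N) hz
    refine ⟨j, hj0, hjle, z * h / φ j ^ m, div_pow_mem_adjoin φ j m (hLW m hm hzh),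
      h / φ j ^ m, div_pow_mem_adjoin φ j m (hLW m hm hhL), ?_, ?_⟩
    · change v P (h / φ j ^ m) = 1
      rw [map_div₀, map_pow, hj, hvh, Finsupp.smul_apply, WithZero.exp_nsmul]
      exact div_self (pow_ne_zero _ WithZero.exp_ne_zero)
    · ring
  · -- nonsingular implies equality
    intro hns
    apply le_antisymm hle
    rw [hdeg]
    obtain ⟨m₀, hm₀⟩ := L_le_pow_of_nonsingular hK φ D hφL hbpf hd hns
    set m := m₀ + 2 * g + N with hm
    have h1 : L (m • D) ≤ Submodule.span k (Set.range (μ m)) :=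
      (hm₀ m (by omega)).trans (hWμ m)
    have hfin : FiniteDimensional k (Submodule.span k (Set.range (μ m))) :=
      FiniteDimensional.span_of_finite k (Set.finite_range _)
    have h2 := Submodule.finrank_mono h1
    rw [hμrank, ← ell_def] at h2
    have hid := sum_identity m N (by omega)
    have hrr := hRR m (by omega)
    zify at h2 hid
    nlinarith

theorem one_le_deg_plane (hK : IsFunctionField k K) [Infinite k] (x y : K)
    (hxy : IntermediateField.adjoin k ({x, y} : Set K) = ⊤) :
    1 ≤ (mapDiv k ![(1 : K), x, y]).deg := by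
  obtain ⟨b, hpd, htr, -⟩ := plane_setup hK x y hxy
  rw [← hpd, deg_pdiv hK htr]
  have := finiteDimensional_adjoin_simple hK htr
  have h : 0 < Module.finrank k⟮x + b • y⟯ K := Module.finrank_pos
  exact_mod_cast h

end Groth.Agent.Lib.Helper26.PlaneModel3

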