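import Mathlib
import Groth.Agent.Lib.Helper26.PlaneModel3
set_option autoImplicit false
open scoped WithZero IntermediateField
open FunFld
open Groth.Agent.Lib.Helper2.FF
open Groth.Agent.Lib.Helper26.FunFldAlgClosed
open Groth.Agent.Lib.Helper26.PlaneModel
open Groth.Agent.Lib.Helper26.PlaneModel2
open Groth.Agent.Lib.Helper26.PlaneModel3

namespace Groth.Agent.Lib.Helper26.PlaneModel4


variable {k : Type*} [Field k]

/-- the reduced monomials `m * Y^j`, `m ∈ M₀`, `j < N` -/
def redSet {A : Type*} [CommRing A] (M₀ : Submonoid A) (Y : A) (N : ℕ) : Set A :=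
  {p | ∃ m ∈ M₀, ∃ j < N, p = m * Y ^ j}

/-- division by a "monic polynomial in `Y`" -/
theorem monic_division {A : Type*} [CommRing A] [Algebra k A] (M₀ : Submonoid A) (Y : A) (N : ℕ)
    (H : A) (hH : H ∈ Submodule.span k (redSet M₀ Y N))
    (htop : Algebra.adjoin k ((M₀ : Set A) ∪ {Y}) = ⊤) :
    Submodule.span k (redSet M₀ Y N) ⊔ (Ideal.span {Y ^ N - H}).restrictScalars k = ⊤ := by
  classical
  set T := Submodule.span k (redSet M₀ Y N) ⊔ (Ideal.span {Y ^ N - H}).restrictScalars k with hT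
  have hGT : ∀ q : A, q * (Y ^ N - H) ∈ T := fun q =>
    Submodule.mem_sup_right (by
      change q * (Y ^ N - H) ∈ Ideal.span {Y ^ N - H}
      exact Ideal.mul_mem_left _ _ (Ideal.subset_span rfl))
  have key : ∀ n : ℕ, ∀ m ∈ M₀, m * Y ^ n ∈ T := by
    intro n
    induction n using Nat.strong_induction_on with
    | _ n ih =>
      intro m hm
      by_cases hn : n < N
      · exact Submodule.mem_sup_left (Submodule.subset_span ⟨m, hm, n, hn, rfl⟩)
      · push Not at hn
        have e : m * Y ^ n = (m * Y ^ (n - N)) * (Y ^ N - H) + (m * Y ^ (n - N)) * H := by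
          have : Y ^ n = Y ^ (n - N) * Y ^ N := by rw [← pow_add]; congr 1; omega
          rw [this]; ring
        rw [e]
        refine Submodule.add_mem _ (hGT _) ?_
        -- `m Y^(n-N) * H ∈ T` by span induction on `H`
        refine Submodule.span_induction (p := fun h _ => m * Y ^ (n - N) * h ∈ T) ?_ ?_ ?_ ?_ hH
        · rintro _ ⟨m', hm', j, hj, rfl⟩
          have e2 : m * Y ^ (n - N) * (m' * Y ^ j) = (m * m') * Y ^ (n - N + j) := by
            rw [pow_add]; ring
          rw [e2]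
          exact ih (n - N + j) (by omega) _ (M₀.mul_mem hm hm')
        · simp
        · intro a b _ _ ha hb
          rw [mul_add]; exact Submodule.add_mem _ ha hb
        · intro c a _ ha
          rw [mul_smul_comm]; exact Submodule.smul_mem _ _ ha
  rw [eq_top_iff]
  intro p _
  have hp : p ∈ Algebra.adjoin k ((M₀ : Set A) ∪ {Y}) := by rw [htop]; trivial
  rw [← Subalgebra.mem_toSubmodule, Algebra.adjoin_eq_span] at hp
  refine Submodule.span_le.2 ?_ hp
  intro q hq
  have : ∃ m ∈ M₀, ∃ n : ℕ, q = m * Y ^ n := by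
    refine Submonoid.closure_induction (motive := fun q _ => ∃ m ∈ M₀, ∃ n : ℕ, q = m * Y ^ n)
      ?_ ?_ ?_ hq
    · rintro z (hz | hz)
      · exact ⟨z, hz, 0, by simp⟩
      · rw [Set.mem_singleton_iff] at hz
        exact ⟨1, M₀.one_mem, 1, by simp [hz]⟩
    · exact ⟨1, M₀.one_mem, 0, by simp⟩
    · rintro _ _ _ _ ⟨m, hm, n, rfl⟩ ⟨m', hm', n', rfl⟩
      exact ⟨m * m', M₀.mul_mem hm hm', n + n', by rw [pow_add]; ring⟩
  obtain ⟨m, hm, n, rfl⟩ := this
  exact key n m hm

/-- if `ev` is injective on the reduced part and kills `G`, then `ker ev = (G)` -/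
theorem ker_eq_span_of_sup_eq_top {A B : Type*} [CommRing A] [Algebra k A] [CommRing B]
    [Algebra k B] (ev : A →ₐ[k] B) (Mred : Submodule k A) (G : A)
    (hinj : ∀ p ∈ Mred, ev p = 0 → p = 0) (hG : ev G = 0)
    (hsup : Mred ⊔ (Ideal.span {G}).restrictScalars k = ⊤) :
    RingHom.ker ev = Ideal.span {G} := by
  apply le_antisymm
  · intro p hp
    rw [RingHom.mem_ker] at hp
    have hp' : p ∈ Mred ⊔ (Ideal.span {G}).restrictScalars k := by rw [hsup]; trivial
    obtain ⟨r, hr, q, hq, rfl⟩ := Submodule.mem_sup.1 hp'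
    have hq' : q ∈ Ideal.span {G} := hq
    obtain ⟨c, rfl⟩ := Ideal.mem_span_singleton'.1 hq'
    have h0 : ev r = 0 := by
      have : ev (r + c * G) = 0 := hp
      simpa [hG] using this
    rw [hinj r hr h0, zero_add]
    exact hq'
  · rw [Ideal.span_le]
    intro p hp
    rw [Set.mem_singleton_iff] at hp
    rw [hp]; exact hG



/-- monomials `X'^a Y^b` with `b < N`, `a + b ≤ m` in a commutative ring -/
def monoSetA {A : Type*} [CommRing A] (X' Y : A) (N m : ℕ) : Set A :=
  {p | ∃ a b : ℕ, b < N ∧ a + b ≤ m ∧ p = X' ^ a * Y ^ b}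

theorem monoSetA_mono {A : Type*} [CommRing A] (X' Y : A) (N : ℕ) {m m' : ℕ} (h : m ≤ m') :
    monoSetA X' Y N m ⊆ monoSetA X' Y N m' := by
  rintro f ⟨a, b, hb, hab, rfl⟩
  exact ⟨a, b, hb, by omega, rfl⟩

theorem monoSetA_subset_redSet {A : Type*} [CommRing A] (X' Y : A) (N m : ℕ) :
    monoSetA X' Y N m ⊆ redSet (Submonoid.powers X') Y N := by
  rintro f ⟨a, b, hb, hab, rfl⟩
  exact ⟨X' ^ a, ⟨a, rfl⟩, b, hb, rfl⟩

theorem exists_mem_span_monoSetA {A : Type*} [CommRing A] [Algebra k A] (X' Y : A) (N : ℕ)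
    {p : A} (hp : p ∈ Submodule.span k (redSet (Submonoid.powers X') Y N)) :
    ∃ m, p ∈ Submodule.span k (monoSetA X' Y N m) := by
  refine Submodule.span_induction (p := fun p _ => ∃ m, p ∈ Submodule.span k (monoSetA X' Y N m))
    ?_ ?_ ?_ ?_ hp
  · rintro _ ⟨_, ⟨a, rfl⟩, j, hj, rfl⟩
    exact ⟨a + j, Submodule.subset_span ⟨a, j, hj, le_rfl, rfl⟩⟩
  · exact ⟨0, Submodule.zero_mem _⟩
  · rintro p q _ _ ⟨m, hm⟩ ⟨m', hm'⟩
    exact ⟨max m m', Submodule.add_mem _
      (Submodule.span_mono (monoSetA_mono X' Y N (le_max_left _ _)) hm)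
      (Submodule.span_mono (monoSetA_mono X' Y N (le_max_right _ _)) hm')⟩
  · rintro c p _ ⟨m, hm⟩
    exact ⟨m, Submodule.smul_mem _ _ hm⟩

theorem monoSetA_subset_range {A : Type*} [CommRing A] (X' Y : A) (N m : ℕ) :
    monoSetA X' Y N m ⊆ Set.range (fun s : (Σ j : Fin N, Fin (m + 1 - j)) =>
      X' ^ (s.2 : ℕ) * Y ^ (s.1 : ℕ)) := by
  rintro _ ⟨a, b, hb, hab, rfl⟩
  exact ⟨⟨⟨b, hb⟩, ⟨a, by simp only; omega⟩⟩, rfl⟩

/-- an algebra map which sends the monomials to a linearly independent family is injective on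
their span -/
theorem eq_zero_of_linearIndependent_comp {A B ι : Type*} [CommRing A] [Algebra k A] [CommRing B]
    [Algebra k B] [Fintype ι] (ev : A →ₐ[k] B) (ν : ι → A)
    (hli : LinearIndependent k (fun s => ev (ν s))) {p : A}
    (hp : p ∈ Submodule.span k (Set.range ν)) (h0 : ev p = 0) : p = 0 := by
  obtain ⟨c, rfl⟩ := (Submodule.mem_span_range_iff_exists_fun k).1 hp
  rw [map_sum] at h0
  simp only [map_smul] at h0
  have := Fintype.linearIndependent_iff.1 hli c h0
  simp [this]

variable {K : Type*} [Field K] [Algebra k K]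

theorem ev_injOn_red {x' y : K} (htr : Transcendental k x') [FiniteDimensional k⟮x'⟯ K]
    {A : Type*} [CommRing A] [Algebra k A] (ev : A →ₐ[k] K) (X' Y : A) (hX' : ev X' = x')
    (hY : ev Y = y) {p : A}
    (hp : p ∈ Submodule.span k (redSet (Submonoid.powers X') Y (minpoly k⟮x'⟯ y).natDegree))
    (h0 : ev p = 0) : p = 0 := by
  obtain ⟨m, hm⟩ := exists_mem_span_monoSetA X' Y _ hp
  have hm' := Submodule.span_mono (monoSetA_subset_range X' Y _ m) hm
  refine eq_zero_of_linearIndependent_comp ev _ ?_ hm' h0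
  have := linearIndependent_monomials (y := y) htr m
  convert this using 2 with s
  rw [map_mul, map_pow, map_pow, hX', hY]


theorem monoSetA_mono_left {A : Type*} [CommRing A] (X' Y : A) {N N' : ℕ} (h : N ≤ N') (m : ℕ) :
    monoSetA X' Y N m ⊆ monoSetA X' Y N' m := by
  rintro f ⟨a, b, hb, hab, rfl⟩
  exact ⟨a, b, by omega, hab, rfl⟩

/-- multiplication by `X'` shifts the degree filtration -/
theorem mul_mem_span_monoSetA {A : Type*} [CommRing A] [Algebra k A] (X' Y : A) (m : ℕ) {q : A}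
    (hq : q ∈ Submodule.span k (monoSetA X' Y (m + 1) m)) :
    X' * q ∈ Submodule.span k (monoSetA X' Y (m + 2) (m + 1)) := by
  refine Submodule.span_induction
    (p := fun q _ => X' * q ∈ Submodule.span k (monoSetA X' Y (m + 2) (m + 1))) ?_ ?_ ?_ ?_ hq
  · rintro _ ⟨a, b, hb, hab, rfl⟩
    refine Submodule.subset_span ⟨a + 1, b, by omega, by omega, ?_⟩
    rw [pow_succ]; ring
  · simp
  · intro p q _ _ hp hq
    rw [mul_add]; exact Submodule.add_mem _ hp hq
  · intro c p _ hp
    rw [mul_smul_comm]; exact Submodule.smul_mem _ _ hp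

theorem X0_pow_mul_mem (b : k) (i j : ℕ) :
    (MvPolynomial.X 0 : MvPolynomial (Fin 2) k) ^ i * MvPolynomial.X 1 ^ j ∈
      Submodule.span k (monoSetA (MvPolynomial.X 0 + MvPolynomial.C b * MvPolynomial.X 1)
        (MvPolynomial.X 1 : MvPolynomial (Fin 2) k) (i + j + 1) (i + j)) := by
  induction i generalizing j with
  | zero =>
    refine Submodule.subset_span ⟨0, j, by omega, by omega, ?_⟩
    simp
  | succ i ih =>
    have e : (MvPolynomial.X 0 : MvPolynomial (Fin 2) k) ^ (i + 1) * MvPolynomial.X 1 ^ j =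
        (MvPolynomial.X 0 + MvPolynomial.C b * MvPolynomial.X 1) *
          (MvPolynomial.X 0 ^ i * MvPolynomial.X 1 ^ j) -
        b • (MvPolynomial.X 0 ^ i * MvPolynomial.X 1 ^ (j + 1)) := by
      rw [MvPolynomial.smul_eq_C_mul]; ring
    rw [e]
    refine Submodule.sub_mem _ ?_ (Submodule.smul_mem _ _ ?_)
    · have := mul_mem_span_monoSetA (k := k)
        (MvPolynomial.X 0 + MvPolynomial.C b * MvPolynomial.X 1) (MvPolynomial.X 1) (i + j) (ih j)
      have e2 : i + 1 + j = i + j + 1 := by omega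
      rw [e2]; exact this
    · have := ih (j + 1)
      have e2 : i + 1 + j = i + (j + 1) := by omega
      rw [e2]; exact this

theorem restrictTotalDegree_le (b : k) (m : ℕ) :
    MvPolynomial.restrictTotalDegree (Fin 2) k m ≤
      Submodule.span k (monoSetA (MvPolynomial.X 0 + MvPolynomial.C b * MvPolynomial.X 1)
        (MvPolynomial.X 1 : MvPolynomial (Fin 2) k) (m + 1) m) := by
  intro p hp
  rw [MvPolynomial.mem_restrictTotalDegree] at hp
  rw [MvPolynomial.as_sum p]
  refine Submodule.sum_mem _ (fun s hs => ?_)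
  have hs' : s 0 + s 1 ≤ m := by
    have := MvPolynomial.le_totalDegree hs
    rw [Finsupp.sum_fintype _ _ (fun _ => rfl), Fin.sum_univ_two] at this
    omega
  have e : MvPolynomial.monomial s (MvPolynomial.coeff s p) =
      (MvPolynomial.coeff s p) • ((MvPolynomial.X 0 : MvPolynomial (Fin 2) k) ^ s 0 *
        MvPolynomial.X 1 ^ s 1) := by
    rw [MvPolynomial.monomial_eq, Finsupp.prod_fintype _ _ (fun _ => pow_zero _),
      Fin.prod_univ_two, MvPolynomial.smul_eq_C_mul]
  rw [e]
  refine Submodule.smul_mem _ _ ?_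
  have := X0_pow_mul_mem b (s 0) (s 1)
  refine Submodule.span_mono ?_ this
  exact (monoSetA_mono_left _ _ (by omega) _).trans (monoSetA_mono _ _ _ hs')

theorem span_monoSetA_le_restrictTotalDegree (b : k) (N m : ℕ) :
    Submodule.span k (monoSetA (MvPolynomial.X 0 + MvPolynomial.C b * MvPolynomial.X 1)
        (MvPolynomial.X 1 : MvPolynomial (Fin 2) k) N m) ≤
      MvPolynomial.restrictTotalDegree (Fin 2) k m := by
  rw [Submodule.span_le]
  rintro _ ⟨a, j, hj, haj, rfl⟩
  rw [SetLike.mem_coe, MvPolynomial.mem_restrictTotalDegree]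
  have h1 : (MvPolynomial.X 0 + MvPolynomial.C b * MvPolynomial.X 1 :
      MvPolynomial (Fin 2) k).totalDegree ≤ 1 := by
    refine (MvPolynomial.totalDegree_add _ _).trans (max_le ?_ ?_)
    · rw [MvPolynomial.totalDegree_X]
    · refine (MvPolynomial.totalDegree_mul _ _).trans ?_
      rw [MvPolynomial.totalDegree_C, MvPolynomial.totalDegree_X]
  calc _ ≤ _ := MvPolynomial.totalDegree_mul _ _
    _ ≤ a * 1 + j * 1 := by
        refine add_le_add ((MvPolynomial.totalDegree_pow _ _).trans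
          (Nat.mul_le_mul_left _ h1)) ((MvPolynomial.totalDegree_pow _ _).trans ?_)
        rw [MvPolynomial.totalDegree_X]
    _ ≤ m := by omega


/-- the auxiliary substitution `X' ↦ 0`, `Y ↦ X` -/
theorem pow_ne_of_mem_span_redSet (b : k) (N : ℕ) {H : MvPolynomial (Fin 2) k}
    (hH : H ∈ Submodule.span k (redSet (Submonoid.powers
      (MvPolynomial.X 0 + MvPolynomial.C b * MvPolynomial.X 1))
        (MvPolynomial.X 1 : MvPolynomial (Fin 2) k) N)) :
    (MvPolynomial.X 1 : MvPolynomial (Fin 2) k) ^ N - H ≠ 0 := by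
  classical
  intro h0
  set ψ : MvPolynomial (Fin 2) k →ₐ[k] Polynomial k :=
    MvPolynomial.aeval ![- Polynomial.C b * Polynomial.X, Polynomial.X] with hψ
  have hψX : ψ (MvPolynomial.X 0 + MvPolynomial.C b * MvPolynomial.X 1) = 0 := by
    simp [hψ]
  have hψY : ψ (MvPolynomial.X 1) = Polynomial.X := by simp [hψ]
  have hψH : ψ H ∈ Polynomial.degreeLT k N := by
    refine Submodule.span_induction (p := fun H _ => ψ H ∈ Polynomial.degreeLT k N) ?_ ?_ ?_ ?_ hH
    · rintro _ ⟨_, ⟨a, rfl⟩, j, hj, rfl⟩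
      rw [map_mul, map_pow, map_pow, hψX, hψY]
      rcases Nat.eq_zero_or_pos a with rfl | ha
      · rw [pow_zero, one_mul, Polynomial.mem_degreeLT]
        exact (Polynomial.degree_X_pow_le j).trans_lt (by exact_mod_cast hj)
      · rw [zero_pow ha.ne', zero_mul]; exact Submodule.zero_mem _
    · rw [map_zero]; exact Submodule.zero_mem _
    · intro p q _ _ hp hq
      rw [map_add]; exact Submodule.add_mem _ hp hq
    · intro c p _ hp
      rw [map_smul]; exact Submodule.smul_mem _ _ hp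
  have h1 : ψ (MvPolynomial.X 1 ^ N - H) = 0 := by rw [h0, map_zero]
  rw [map_sub, map_pow, hψY, sub_eq_zero] at h1
  rw [← h1, Polynomial.mem_degreeLT, Polynomial.degree_X_pow] at hψH
  exact lt_irrefl _ hψH

/-- **the ideal of a plane model is principal**, generated by a polynomial of total degree the
degree of the model -/
theorem exists_ker_eq_span [Infinite k] (hK : IsFunctionField k K) (x y : K)
    (hxy : IntermediateField.adjoin k ({x, y} : Set K) = ⊤) :
    ∃ G : MvPolynomial (Fin 2) k, G ≠ 0 ∧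
      RingHom.ker (MvPolynomial.aeval ![x, y] : MvPolynomial (Fin 2) k →ₐ[k] K) =
        Ideal.span {G} ∧
      (G.totalDegree : ℤ) = (mapDiv k ![(1 : K), x, y]).deg := by
  classical
  obtain ⟨b, hpd, htr, htop⟩ := plane_setup hK x y hxy
  obtain ⟨x', hx'⟩ : ∃ x', x' = x + b • y := ⟨_, rfl⟩
  rw [← hx'] at hpd htr htop
  have hvle := v_le_exp_mapDiv hK x y
  have hfd : FiniteDimensional k⟮x'⟯ K := finiteDimensional_adjoin_simple hK htr
  have hint : IsIntegral k⟮x'⟯ y := IsIntegral.of_finite _ _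
  set N := (minpoly k⟮x'⟯ y).natDegree with hN
  have hnat : N = Module.finrank k⟮x'⟯ K := by
    rw [hN, ← IntermediateField.adjoin.finrank hint, htop, IntermediateField.finrank_top']
  have hNpos : 0 < N := by rw [hnat]; exact Module.finrank_pos
  have hdeg : (mapDiv k ![(1 : K), x, y]).deg = (N : ℤ) := by
    rw [← hpd, deg_pdiv hK htr, hnat]
  have hy : ∀ P : FunFld.Place k K, v P y ≤ WithZero.exp (pdiv (k := k) x' P) := by
    intro P; rw [hpd]; exact (hvle P).2.1
  -- polynomial side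
  obtain ⟨X', hX'⟩ : ∃ X' : MvPolynomial (Fin 2) k,
    X' = MvPolynomial.X 0 + MvPolynomial.C b * MvPolynomial.X 1 := ⟨_, rfl⟩
  obtain ⟨Y, hY⟩ : ∃ Y : MvPolynomial (Fin 2) k, Y = MvPolynomial.X 1 := ⟨_, rfl⟩
  obtain ⟨ev, hev⟩ : ∃ ev : MvPolynomial (Fin 2) k →ₐ[k] K, ev = MvPolynomial.aeval ![x, y] :=
    ⟨_, rfl⟩
  have hevX : ev X' = x' := by
    rw [hev, hX', hx']; simp [Algebra.smul_def]
  have hevY : ev Y = y := by rw [hev, hY]; simp
  -- the relation
  have hyN := pow_natDegree_mem hK htr hy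
  rw [← hN] at hyN
  have himg : monoSet x' y N N ⊆ ev '' monoSetA X' Y N N := by
    rintro _ ⟨a, j, hj, haj, rfl⟩
    exact ⟨X' ^ a * Y ^ j, ⟨a, j, hj, haj, rfl⟩, by rw [map_mul, map_pow, map_pow, hevX, hevY]⟩
  have hyN' : y ^ N ∈ Submodule.map ev.toLinearMap (Submodule.span k (monoSetA X' Y N N)) := by
    rw [Submodule.map_span]
    exact Submodule.span_mono himg hyN
  obtain ⟨H, hH, hevH⟩ := hyN'
  have hevH' : ev H = y ^ N := hevH
  have hHred : H ∈ Submodule.span k (redSet (Submonoid.powers X') Y N) :=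
    Submodule.span_mono (monoSetA_subset_redSet X' Y N N) hH
  obtain ⟨G, hG⟩ : ∃ G, G = Y ^ N - H := ⟨_, rfl⟩
  have hevG : ev G = 0 := by rw [hG, map_sub, map_pow, hevY, hevH', sub_self]
  have hG0 : G ≠ 0 := by
    rw [hG, hY]; rw [hX'] at hHred; rw [hY] at hHred
    exact pow_ne_of_mem_span_redSet b N hHred
  have hadj : Algebra.adjoin k ((Submonoid.powers X' : Set (MvPolynomial (Fin 2) k)) ∪ {Y}) = ⊤ := by
    rw [eq_top_iff, ← MvPolynomial.adjoin_range_X]
    refine Algebra.adjoin_le ?_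
    have hYm : Y ∈ Algebra.adjoin k
        ((Submonoid.powers X' : Set (MvPolynomial (Fin 2) k)) ∪ {Y}) :=
      Algebra.subset_adjoin (Or.inr rfl)
    have hXm : X' ∈ Algebra.adjoin k
        ((Submonoid.powers X' : Set (MvPolynomial (Fin 2) k)) ∪ {Y}) :=
      Algebra.subset_adjoin (Or.inl ⟨1, pow_one _⟩)
    rintro _ ⟨i, rfl⟩
    fin_cases i
    · have e : (MvPolynomial.X 0 : MvPolynomial (Fin 2) k) = X' - algebraMap k _ b * Y := by
        rw [hX', hY, MvPolynomial.algebraMap_eq]; ring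
      change (MvPolynomial.X 0 : MvPolynomial (Fin 2) k) ∈ _
      rw [e]
      exact Subalgebra.sub_mem _ hXm (Subalgebra.mul_mem _ (Subalgebra.algebraMap_mem _ _) hYm)
    · change (MvPolynomial.X 1 : MvPolynomial (Fin 2) k) ∈ _
      rw [← hY]; exact hYm
  have hsup := monic_division (k := k) (Submonoid.powers X') Y N H hHred hadj
  rw [← hG] at hsup
  have hinj : ∀ p ∈ Submodule.span k (redSet (Submonoid.powers X') Y N), ev p = 0 → p = 0 :=
    fun p hp h0 => ev_injOn_red htr ev X' Y hevX hevY hp h0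
  have hker := ker_eq_span_of_sup_eq_top ev _ G hinj hevG hsup
  refine ⟨G, hG0, by rw [← hev]; exact hker, ?_⟩
  rw [hdeg]
  norm_cast
  apply le_antisymm
  · -- upper bound
    have h1 : H.totalDegree ≤ N := by
      rw [← MvPolynomial.mem_restrictTotalDegree]
      rw [hX', hY] at hH
      exact span_monoSetA_le_restrictTotalDegree b N N hH
    rw [hG]
    refine (MvPolynomial.totalDegree_sub _ _).trans (max_le ?_ h1)
    refine (MvPolynomial.totalDegree_pow _ _).trans ?_
    rw [hY, MvPolynomial.totalDegree_X, mul_one]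
  · -- lower bound
    by_contra hlt
    push Not at hlt
    have h1 : G ∈ MvPolynomial.restrictTotalDegree (Fin 2) k (N - 1) := by
      rw [MvPolynomial.mem_restrictTotalDegree]; omega
    have h2 := restrictTotalDegree_le b (N - 1) h1
    rw [← hX', ← hY] at h2
    have h3 : G ∈ Submodule.span k (redSet (Submonoid.powers X') Y N) := by
      refine Submodule.span_mono ?_ h2
      exact (monoSetA_mono_left _ _ (by omega) _).trans (monoSetA_subset_redSet X' Y N (N - 1))
    exact hG0 (hinj G h3 hevG)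

end Groth.Agent.Lib.Helper26.PlaneModel4
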