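import Mathlib
import Groth.Prelude.Def_W4bk4goldsch45p2
import Groth.Agent.Lib.Helper26.PlaneModel4
import Groth.Agent.Lib.Helper2.FunFld.WeakApprox
import Groth.Agent.Lib.Helper9.FunFldInsep
set_option autoImplicit false
open scoped WithZero IntermediateField PowerSeries
open FunFld
open Groth.Agent.Lib.Helper2.FF
open Groth.Agent.Lib.Helper26.FunFldAlgClosed
open Groth.Agent.Lib.Helper26.LocRing
open Groth.Agent.Lib.Helper26.LocRing2
open Groth.Agent.Lib.Helper26.PlaneModel
open Groth.Agent.Lib.Helper26.PlaneModel4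

/-!
# Hasse derivatives at a place

For a place `P` of a function field over an algebraically closed field, a local parameter `t`
at `P` and the total Hasse derivative `H` with respect to `t`: `H` maps the valuation ring of
`P` into power series with coefficients in the valuation ring.
-/

namespace Groth.Agent.Lib.Helper26.HasseLocal


section Generic

variable {k K : Type*} [Field k] [Field K] [Algebra k K]
  {Γ₀ : Type*} [LinearOrderedCommGroupWithZero Γ₀] (v : Valuation K Γ₀)

/-- power series over `K` with `v`-integral coefficients, as a `k`-subalgebra -/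
def SP (hk : ∀ c : k, v (algebraMap k K c) ≤ 1) : Subalgebra k K⟦X⟧ where
  carrier := {g | ∀ n, v (PowerSeries.coeff n g) ≤ 1}
  mul_mem' := by
    intro a b ha hb n
    rw [PowerSeries.coeff_mul]
    refine Valuation.map_sum_le v (fun p _ => ?_)
    rw [map_mul]
    exact mul_le_one' (ha p.1) (hb p.2)
  add_mem' := by
    intro a b ha hb n
    rw [map_add]
    exact (Valuation.map_add_le v (ha n) (hb n))
  algebraMap_mem' := by
    intro c n
    rw [PowerSeries.algebraMap_apply, PowerSeries.coeff_C]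
    split_ifs
    · exact hk c
    · rw [map_zero]; exact zero_le_one

variable {v}

theorem mem_SP {hk : ∀ c : k, v (algebraMap k K c) ≤ 1} {g : K⟦X⟧} :
    g ∈ SP v hk ↔ ∀ n, v (PowerSeries.coeff n g) ≤ 1 := Iff.rfl

theorem C_mem_SP {hk : ∀ c : k, v (algebraMap k K c) ≤ 1} {a : K} (ha : v a ≤ 1) :
    PowerSeries.C a ∈ SP v hk := by
  intro n
  rw [PowerSeries.coeff_C]
  split_ifs
  · exact ha
  · rw [map_zero]; exact zero_le_one

theorem X_mem_SP {hk : ∀ c : k, v (algebraMap k K c) ≤ 1} :
    (PowerSeries.X : K⟦X⟧) ∈ SP v hk := by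
  intro n
  rw [PowerSeries.coeff_X]
  split_ifs
  · rw [map_one]
  · rw [map_zero]; exact zero_le_one

/-- inverses of series with unit constant term stay integral -/
theorem inv_mem_SP {hk : ∀ c : k, v (algebraMap k K c) ≤ 1} {g g' : K⟦X⟧}
    (hg : g ∈ SP v hk) (h0 : v (PowerSeries.coeff 0 g) = 1) (hgg' : g * g' = 1) :
    g' ∈ SP v hk := by
  intro n
  induction n using Nat.strong_induction_on with
  | _ n ih =>
    have hc := congrArg (PowerSeries.coeff n) hgg'
    rw [PowerSeries.coeff_mul, PowerSeries.coeff_one] at hc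
    have ha0 : PowerSeries.coeff 0 g ≠ 0 := by
      intro h; rw [h, map_zero] at h0; exact zero_ne_one h0
    rw [Finset.Nat.sum_antidiagonal_eq_sum_range_succ
      (fun i j => PowerSeries.coeff i g * PowerSeries.coeff j g') n,
      Finset.sum_range_succ'] at hc
    simp only [Nat.sub_zero] at hc
    have e : PowerSeries.coeff n g' = (PowerSeries.coeff 0 g)⁻¹ *
        ((if n = 0 then 1 else 0) - ∑ i ∈ Finset.range n,
          PowerSeries.coeff (i + 1) g * PowerSeries.coeff (n - (i + 1)) g') := by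
      rw [← hc]; field_simp; ring
    rw [e, map_mul, map_inv₀, h0, inv_one, one_mul]
    refine v.map_sub_le ?_ ?_
    · split_ifs
      · rw [map_one]
      · rw [map_zero]; exact zero_le_one
    · refine Valuation.map_sum_le v (fun i hi => ?_)
      rw [map_mul]
      rw [Finset.mem_range] at hi
      exact mul_le_one' (hg _) (ih _ (by omega))

/-- the Newton/Hensel recursion: a root of a polynomial with integral coefficients, integral
constant term and unit derivative has integral coefficients -/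
theorem mem_SP_of_root {hk : ∀ c : k, v (algebraMap k K c) ≤ 1} (G : Polynomial K⟦X⟧)
    (hG : ∀ y ∈ SP v hk, G.eval y ∈ SP v hk) {y : K⟦X⟧} (hy : G.eval y = 0)
    (hy0 : v (PowerSeries.coeff 0 y) ≤ 1)
    (hder : v (PowerSeries.constantCoeff (G.derivative.eval y)) = 1) : y ∈ SP v hk := by
  classical
  intro n
  induction n using Nat.strong_induction_on with
  | _ n ih =>
    rcases Nat.eq_zero_or_pos n with rfl | hn
    · exact hy0
    -- truncation
    set Y₀ : K⟦X⟧ := PowerSeries.mk fun i => if i < n then PowerSeries.coeff i y else 0 with hY₀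
    set W : K⟦X⟧ := PowerSeries.mk fun i => PowerSeries.coeff (n + i) y with hW
    have hsplit : y = Y₀ + PowerSeries.X ^ n * W := by
      ext m
      rw [map_add, PowerSeries.coeff_X_pow_mul', hY₀, hW, PowerSeries.coeff_mk,
        PowerSeries.coeff_mk]
      by_cases hm : m < n
      · rw [if_pos hm, if_neg (show ¬ n ≤ m by omega), add_zero]
      · rw [if_neg hm, if_pos (show n ≤ m by omega), zero_add,
          show n + (m - n) = m by omega]
    have hY₀mem : Y₀ ∈ SP v hk := by
      intro i
      rw [hY₀, PowerSeries.coeff_mk]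
      split_ifs with hi
      · exact ih i hi
      · rw [map_zero]; exact zero_le_one
    obtain ⟨c, hc⟩ := Polynomial.binomExpansion G Y₀ (PowerSeries.X ^ n * W)
    rw [← hsplit, hy] at hc
    have h1 := congrArg (PowerSeries.coeff n) hc
    have e1 : G.derivative.eval Y₀ * (PowerSeries.X ^ n * W) =
        PowerSeries.X ^ n * (G.derivative.eval Y₀ * W) := by ring
    have e2 : c * (PowerSeries.X ^ n * W) ^ 2 = PowerSeries.X ^ (n + n) * (c * W ^ 2) := by
      rw [pow_add]; ring
    rw [map_zero, map_add, map_add, e1, e2, PowerSeries.coeff_X_pow_mul',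
      PowerSeries.coeff_X_pow_mul', if_pos le_rfl, if_neg (show ¬ n + n ≤ n by omega),
      Nat.sub_self, add_zero,
      PowerSeries.coeff_zero_eq_constantCoeff_apply, map_mul] at h1
    have hcc : PowerSeries.constantCoeff (G.derivative.eval Y₀) =
        PowerSeries.constantCoeff (G.derivative.eval y) := by
      have h0 : PowerSeries.constantCoeff Y₀ = PowerSeries.constantCoeff y := by
        rw [← PowerSeries.coeff_zero_eq_constantCoeff_apply,
          ← PowerSeries.coeff_zero_eq_constantCoeff_apply, hY₀, PowerSeries.coeff_mk, if_pos hn]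
      rw [← Polynomial.eval₂_hom, ← Polynomial.eval₂_hom, h0]
    have hW0 : PowerSeries.constantCoeff W = PowerSeries.coeff n y := by
      rw [← PowerSeries.coeff_zero_eq_constantCoeff_apply, hW, PowerSeries.coeff_mk, add_zero]
    rw [hcc, hW0] at h1
    have hu0 : PowerSeries.constantCoeff (G.derivative.eval y) ≠ 0 := by
      intro h; rw [h, map_zero] at hder; exact zero_ne_one hder
    have e3 : PowerSeries.coeff n y = - (PowerSeries.constantCoeff (G.derivative.eval y))⁻¹ *
        PowerSeries.coeff n (G.eval Y₀) := by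
      have : PowerSeries.coeff n (G.eval Y₀) =
          - (PowerSeries.constantCoeff (G.derivative.eval y) * PowerSeries.coeff n y) := by
        linear_combination h1.symm
      rw [this]; field_simp
    rw [e3, map_mul, Valuation.map_neg, map_inv₀, hder, inv_one, one_mul]
    exact hG Y₀ hY₀mem n

end Generic



section Bridge

variable {k B : Type*} [Field k] [CommRing B] [Algebra k B]

/-- a two-variable polynomial as a one-variable polynomial in the second variable -/
noncomputable def toPoly (a : B) (F : MvPolynomial (Fin 2) k) : Polynomial B :=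
  MvPolynomial.aeval ![Polynomial.C a, Polynomial.X] F

theorem eval_toPoly (a y : B) (F : MvPolynomial (Fin 2) k) :
    (toPoly a F).eval y = MvPolynomial.aeval ![a, y] F := by
  unfold toPoly
  induction F using MvPolynomial.induction_on with
  | C c => simp [Polynomial.algebraMap_apply]
  | add p q hp hq => simp only [map_add, Polynomial.eval_add, hp, hq]
  | mul_X p i hp =>
    rw [map_mul, map_mul, Polynomial.eval_mul, hp, MvPolynomial.aeval_X, MvPolynomial.aeval_X]
    fin_cases i <;> simp

theorem derivative_toPoly (a : B) (F : MvPolynomial (Fin 2) k) :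
    (toPoly a F).derivative = toPoly a (MvPolynomial.pderiv 1 F) := by
  unfold toPoly
  induction F using MvPolynomial.induction_on with
  | C c => simp [Polynomial.algebraMap_apply]
  | add p q hp hq => simp only [map_add, hp, hq]
  | mul_X p i hp =>
    rw [map_mul, Polynomial.derivative_mul, hp, Derivation.leibniz, map_add, smul_eq_mul,
      smul_eq_mul, map_mul, map_mul, MvPolynomial.aeval_X]
    fin_cases i
    · simp [MvPolynomial.pderiv_X]; ring
    · simp [MvPolynomial.pderiv_X]; ring

end Bridge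



section FF

variable {k K : Type*} [Field k] [Field K] [Algebra k K]

/-- a generator of `K` over `k(t)` which vanishes at `P` and at no other zero of `t` -/
theorem exists_good_gen [IsAlgClosed k] (hK : IsFunctionField k K) (P : FunFld.Place k K) (t : K)
    (ht : v P t = WithZero.exp (-1 : ℤ)) (hsep : Algebra.IsSeparable k⟮t⟯ K) :
    ∃ f₀ : K, f₀ ≠ 0 ∧ IntermediateField.adjoin k ({t, f₀} : Set K) = ⊤ ∧ v P f₀ < 1 ∧
      ∀ Q : FunFld.Place k K, Q ≠ P → v Q t < 1 → v Q f₀ = 1 := by
  classical
  have ht0 : t ≠ 0 := by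
    intro h; rw [h, map_zero] at ht; exact WithZero.exp_ne_zero ht.symm
  have hordt : P.ord t = 1 := by
    rw [ord_eq_iff P ht0]; exact ht
  have htr : Transcendental k t := transcendental_of_ord_ne_zero P hK (by rw [hordt]; norm_num)
  have hfd : FiniteDimensional k⟮t⟯ K := finiteDimensional_adjoin_simple hK htr
  obtain ⟨y₀, hy₀⟩ := Field.exists_primitive_element k⟮t⟯ K
  -- nonzero primitive element
  obtain ⟨y, hy0, hy⟩ : ∃ y : K, y ≠ 0 ∧ (k⟮t⟯)⟮y⟯ = ⊤ := by
    by_cases h : y₀ = 0
    · refine ⟨1, one_ne_zero, ?_⟩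
      rw [h] at hy₀
      rw [eq_top_iff, ← hy₀]
      rw [IntermediateField.adjoin_simple_le_iff]
      exact zero_mem _
    · exact ⟨y₀, h, hy₀⟩
  -- the zeros of `t`
  have hSfin := finite_support_ord hK t
  set S : Finset (FunFld.Place k K) := hSfin.toFinset with hS
  have hmemS : ∀ Q : FunFld.Place k K, v Q t < 1 → Q ∈ S := by
    intro Q hQ
    rw [hS, Set.Finite.mem_toFinset, Function.mem_support]
    intro h0
    rw [v_eq_exp_neg_ord Q ht0, h0, neg_zero, WithZero.exp_zero] at hQ
    exact lt_irrefl _ hQ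
  -- kill the poles of `y` at the zeros of `t`
  have hM : ∃ M : ℕ, ∀ Q ∈ S, v Q t < 1 → v Q (t ^ M * y) < 1 := by
    have hex : ∀ Q : FunFld.Place k K, ∃ m : ℕ, ∀ M, m ≤ M → v Q t < 1 → v Q (t ^ M * y) < 1 := by
      intro Q
      refine ⟨(-(Q.ord y) + 1).toNat, fun M hM hQ => ?_⟩
      have h1 : 1 ≤ Q.ord t := by
        have := hQ
        rw [v_eq_exp_neg_ord Q ht0, ← WithZero.exp_zero, WithZero.exp_lt_exp] at this
        omega
      rw [map_mul, map_pow, v_eq_exp_neg_ord Q ht0, v_eq_exp_neg_ord Q hy0, ← WithZero.exp_nsmul,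
        ← WithZero.exp_add, ← WithZero.exp_zero, WithZero.exp_lt_exp]
      have h2 : (-(Q.ord y) + 1) ≤ M := by
        have := Int.self_le_toNat (-(Q.ord y) + 1)
        omega
      have h3 : (M : ℤ) * 1 ≤ M * Q.ord t :=
        mul_le_mul_of_nonneg_left h1 (Int.natCast_nonneg M)
      simp only [nsmul_eq_mul]
      linarith
    choose m hm using hex
    exact ⟨S.sup m, fun Q hQS hQ => hm Q _ (Finset.le_sup hQS) hQ⟩
  obtain ⟨M, hM⟩ := hM
  set y' := t ^ M * y with hy'
  have hy'0 : y' ≠ 0 := mul_ne_zero (pow_ne_zero _ ht0) hy0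
  have hy'top : (k⟮t⟯)⟮y'⟯ = ⊤ := by
    rw [eq_top_iff, ← hy, IntermediateField.adjoin_simple_le_iff]
    have h1 : y' ∈ (k⟮t⟯)⟮y'⟯ := IntermediateField.mem_adjoin_simple_self _ _
    have h2 : t ∈ (k⟮t⟯)⟮y'⟯ :=
      IntermediateField.algebraMap_mem _
        (⟨t, IntermediateField.mem_adjoin_simple_self k t⟩ : k⟮t⟯)
    have e : y = y' / t ^ M := by rw [hy']; field_simp
    rw [e]
    exact div_mem h1 (pow_mem h2 M)
  -- weak approximation
  obtain ⟨h, hh⟩ := weak_approx (fun Q : S => (Q : FunFld.Place k K)) Subtype.val_injective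
    (fun Q => if (Q : FunFld.Place k K) = P then 0 else 1) (fun _ => 0)
  have hPS : P ∈ S := hmemS P (by rw [ht, ← WithZero.exp_zero, WithZero.exp_lt_exp]; norm_num)
  have hhP : v P h < 1 := by
    have := hh ⟨P, hPS⟩
    simpa using this
  have hhQ : ∀ Q ∈ S, Q ≠ P → v Q h = 1 := by
    intro Q hQS hQP
    have := hh ⟨Q, hQS⟩
    simp only [if_neg hQP, WithZero.exp_zero] at this
    exact v_eq_one_of_sub_one_lt Q this
  have hvc : ∀ (Q : FunFld.Place k K) (c : k), v Q t < 1 → Q ∈ S → v Q (c • y') < 1 := by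
    intro Q c hQ hQS
    rw [Algebra.smul_def, map_mul]
    exact lt_of_le_of_lt (mul_le_of_le_one_left' (Q.2.1 c)) (hM Q hQS hQ)
  -- pigeonhole on intermediate fields
  have hfinI : Finite (IntermediateField k⟮t⟯ K) :=
    Field.finite_intermediateField_of_exists_primitive_element k⟮t⟯ K
      (Field.exists_primitive_element k⟮t⟯ K)
  have : Infinite k := IsAlgClosed.instInfinite
  obtain ⟨c, c', hcc', hE⟩ := Finite.exists_ne_map_eq_of_infinite
    (fun c : k => (k⟮t⟯)⟮h + c • y'⟯)
  have hEtop : (k⟮t⟯)⟮h + c • y'⟯ = ⊤ := by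
    rw [eq_top_iff, ← hy'top, IntermediateField.adjoin_simple_le_iff]
    have h1 : h + c • y' ∈ (k⟮t⟯)⟮h + c • y'⟯ := IntermediateField.mem_adjoin_simple_self _ _
    have h2 : h + c' • y' ∈ (k⟮t⟯)⟮h + c • y'⟯ := by
      rw [hE]; exact IntermediateField.mem_adjoin_simple_self _ _
    have h3 := sub_mem h1 h2
    have e : (h + c • y') - (h + c' • y') = (c - c') • y' := by rw [sub_smul]; ring
    rw [e] at h3
    have hne : c - c' ≠ 0 := sub_ne_zero.2 hcc'
    have key : (c - c')⁻¹ • ((c - c') • y') ∈ (k⟮t⟯)⟮h + c • y'⟯ := by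
      rw [Algebra.smul_def (c - c')⁻¹]
      refine mul_mem ?_ h3
      have : algebraMap k K (c - c')⁻¹ = algebraMap k⟮t⟯ K (algebraMap k k⟮t⟯ (c - c')⁻¹) :=
        IsScalarTower.algebraMap_apply k k⟮t⟯ K _
      rw [this]
      exact IntermediateField.algebraMap_mem _ _
    rwa [smul_smul, inv_mul_cancel₀ hne, one_smul] at key
  have hE'top : (k⟮t⟯)⟮h + c' • y'⟯ = ⊤ := by rw [← hE]; exact hEtop
  -- properties of `f_c`
  have hprop : ∀ c₁ : k, (k⟮t⟯)⟮h + c₁ • y'⟯ = ⊤ → h + c₁ • y' ≠ 0 →
      ∃ f₀ : K, f₀ ≠ 0 ∧ IntermediateField.adjoin k ({t, f₀} : Set K) = ⊤ ∧ v P f₀ < 1 ∧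
        ∀ Q : FunFld.Place k K, Q ≠ P → v Q t < 1 → v Q f₀ = 1 := by
    intro c₁ htop hne
    refine ⟨h + c₁ • y', hne, ?_, ?_, ?_⟩
    · rw [← IntermediateField.restrictScalars_eq_top_iff (K := k),
        IntermediateField.adjoin_adjoin_left] at htop
      rw [← htop]
      congr 1
    · exact Valuation.map_add_lt _ hhP
        (hvc P c₁ (by rw [ht, ← WithZero.exp_zero, WithZero.exp_lt_exp]; norm_num) hPS)
    · intro Q hQP hQt
      have hQS := hmemS Q hQt
      have h1 : v Q (c₁ • y') < v Q h := by rw [hhQ Q hQS hQP]; exact hvc Q c₁ hQt hQS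
      rw [Valuation.map_add_eq_of_lt_left _ h1, hhQ Q hQS hQP]
  by_cases hz : h + c • y' = 0
  · refine hprop c' hE'top ?_
    intro hz'
    have e : (c - c') • y' = 0 := by
      have : (h + c • y') - (h + c' • y') = 0 := by rw [hz, hz', sub_zero]
      rw [← this, sub_smul]; ring
    rcases smul_eq_zero.1 e with h1 | h1
    · exact hcc' (sub_eq_zero.1 h1)
    · exact hy'0 h1
  · exact hprop c hEtop hz




/-- the plane model `(1 : t : f₀)` is nonsingular at `P` -/
theorem nonsingular_of_good_gen [IsAlgClosed k] (hK : IsFunctionField k K)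
    (P : FunFld.Place k K) (t : K) (ht : v P t = WithZero.exp (-1 : ℤ)) (f₀ : K) (hf0 : f₀ ≠ 0)
    (hfP : v P f₀ < 1) (hfQ : ∀ Q : FunFld.Place k K, Q ≠ P → v Q t < 1 → v Q f₀ = 1) :
    IsNonsingularAt ![(1 : K), t, f₀] P := by
  classical
  have ht0 : t ≠ 0 := by
    intro h; rw [h, map_zero] at ht; exact WithZero.exp_ne_zero ht.symm
  have htP : v P t < 1 := by rw [ht, ← WithZero.exp_zero, WithZero.exp_lt_exp]; norm_num
  obtain ⟨φ, hφ⟩ : ∃ φ : Fin 3 → K, φ = ![(1 : K), t, f₀] := ⟨_, rfl⟩
  rw [← hφ]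
  have hφ0 : ∀ i, φ i ≠ 0 := by
    intro i; rw [hφ]; fin_cases i
    · exact one_ne_zero
    · exact ht0
    · exact hf0
  have hle : ∀ i (Q : FunFld.Place k K), v Q (φ i) ≤ WithZero.exp (mapDiv k φ Q) :=
    fun i Q => mem_L_mapDiv hK φ hφ0 i Q
  have hex := exists_v_eq_mapDiv hK φ hφ0
  have hφ1 : φ 1 = t := by rw [hφ]; rfl
  have hφ2 : φ 2 = f₀ := by rw [hφ]; rfl
  have hφ00 : φ 0 = 1 := by rw [hφ]; rfl
  have htW : t ∈ Submodule.span k (Set.range φ) := Submodule.subset_span ⟨1, hφ1⟩
  have hfW : f₀ ∈ Submodule.span k (Set.range φ) := Submodule.subset_span ⟨2, hφ2⟩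
  have hDP : mapDiv k φ P = 0 := by
    have h1 : (1 : ℤᵐ⁰) ≤ WithZero.exp (mapDiv k φ P) := by
      have := hle 0 P; rwa [hφ00, map_one] at this
    obtain ⟨i, hi⟩ := hex P
    have h2 : WithZero.exp (mapDiv k φ P) ≤ 1 := by
      rw [← hi, hφ]
      fin_cases i
      · simp
      · exact htP.le
      · exact hfP.le
    have h3 : WithZero.exp (mapDiv k φ P) = WithZero.exp (0 : ℤ) := by
      rw [WithZero.exp_zero]; exact le_antisymm h2 h1
    exact WithZero.exp_injective h3
  rw [isNonsingularAt_iff_sep hK φ hφ0 P]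
  intro Q
  by_cases hQP : Q = P
  · subst hQP
    refine ⟨t, htW, ?_, ?_⟩
    · rw [hDP, WithZero.exp_zero]; exact htP
    · rw [Finsupp.coe_sub, Pi.sub_apply, hDP, Finsupp.single_eq_same, ht]; rfl
  · have hsingle : (mapDiv k φ - (Finsupp.single P 1 : Divisor k K)) Q = mapDiv k φ Q := by
      rw [Finsupp.coe_sub, Pi.sub_apply, Finsupp.single_eq_of_ne hQP, sub_zero]
    rw [hsingle, hDP, WithZero.exp_zero]
    obtain ⟨i, hi⟩ := hex Q
    have hi1 : i = 0 ∨ i = 1 ∨ i = 2 := by fin_cases i <;> simp
    rcases hi1 with rfl | rfl | rfl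
    · rw [hφ00, map_one] at hi
      have ht1 : v Q t ≤ 1 := by have := hle 1 Q; rwa [hφ1, ← hi] at this
      rcases ht1.lt_or_eq with hlt | heq
      · exact ⟨f₀, hfW, hfP, by rw [← hi]; exact hfQ Q hQP hlt⟩
      · exact ⟨t, htW, htP, by rw [← hi]; exact heq⟩
    · rw [hφ1] at hi; exact ⟨t, htW, htP, hi⟩
    · rw [hφ2] at hi; exact ⟨f₀, hfW, hfP, hi⟩

/-- evaluation modulo the maximal ideal -/
theorem v_aeval_sub_lt (P : FunFld.Place k K) (t f₀ : K) (htP : v P t < 1) (hfP : v P f₀ < 1)
    (p : MvPolynomial (Fin 2) k) :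
    v P (MvPolynomial.aeval ![t, f₀] p - algebraMap k K (MvPolynomial.constantCoeff p)) < 1 := by
  induction p using MvPolynomial.induction_on with
  | C c => simp
  | add p q hp hq =>
    have e : MvPolynomial.aeval ![t, f₀] (p + q) -
        algebraMap k K (MvPolynomial.constantCoeff (p + q)) =
        (MvPolynomial.aeval ![t, f₀] p - algebraMap k K (MvPolynomial.constantCoeff p)) +
        (MvPolynomial.aeval ![t, f₀] q - algebraMap k K (MvPolynomial.constantCoeff q)) := by
      rw [map_add, map_add, map_add]; ring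
    rw [e]; exact Valuation.map_add_lt _ hp hq
  | mul_X p i hp =>
    have h1 : v P (MvPolynomial.aeval ![t, f₀] p) ≤ 1 := by
      have e : MvPolynomial.aeval ![t, f₀] p =
          (MvPolynomial.aeval ![t, f₀] p - algebraMap k K (MvPolynomial.constantCoeff p)) +
          algebraMap k K (MvPolynomial.constantCoeff p) := by ring
      rw [e]
      exact Valuation.map_add_le _ hp.le (P.2.1 _)
    rw [map_mul, map_mul, MvPolynomial.constantCoeff_X, mul_zero, map_zero, sub_zero, map_mul,
      MvPolynomial.aeval_X]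
    have h2 : v P (![t, f₀] i) < 1 := by fin_cases i <;> simpa
    exact mul_lt_one_of_nonneg_of_lt_one_right h1 zero_le h2




/-- **Jacobian criterion, easy half**: at a nonsingular point at which `t` is a local parameter,
the `X`-derivative of the equation is a unit -/
theorem v_pderiv_eq_one (P : FunFld.Place k K) (t : K)
    (ht : v P t = WithZero.exp (-1 : ℤ)) (f₀ : K) (hfP : v P f₀ < 1)
    (hns : IsNonsingularAt ![(1 : K), t, f₀] P) (F : MvPolynomial (Fin 2) k)
    (hker : RingHom.ker (MvPolynomial.aeval ![t, f₀] : MvPolynomial (Fin 2) k →ₐ[k] K) =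
      Ideal.span {F}) :
    v P (MvPolynomial.aeval ![t, f₀] (MvPolynomial.pderiv 1 F)) = 1 := by
  classical
  have ht0 : t ≠ 0 := by
    intro h; rw [h, map_zero] at ht; exact WithZero.exp_ne_zero ht.symm
  have htP : v P t < 1 := by rw [ht, ← WithZero.exp_zero, WithZero.exp_lt_exp]; norm_num
  obtain ⟨ev, hev⟩ : ∃ ev : MvPolynomial (Fin 2) k →ₐ[k] K, ev = MvPolynomial.aeval ![t, f₀] :=
    ⟨_, rfl⟩
  rw [← hev] at hker ⊢
  have hres : ∀ p, v P (ev p - algebraMap k K (MvPolynomial.constantCoeff p)) < 1 := by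
    intro p; rw [hev]; exact v_aeval_sub_lt P t f₀ htP hfP p
  have hunit : ∀ p, MvPolynomial.constantCoeff p ≠ 0 → v P (ev p) = 1 := by
    intro p hp
    have e : ev p = (ev p - algebraMap k K (MvPolynomial.constantCoeff p)) +
        algebraMap k K (MvPolynomial.constantCoeff p) := by ring
    have h1 : v P (ev p - algebraMap k K (MvPolynomial.constantCoeff p)) <
        v P (algebraMap k K (MvPolynomial.constantCoeff p)) := by
      rw [v_algebraMap P hp]; exact hres p
    rw [e, Valuation.map_add_eq_of_lt_right _ h1, v_algebraMap P hp]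
  have hcc0 : ∀ p, v P (ev p) < 1 → MvPolynomial.constantCoeff p = 0 := by
    intro p hp
    by_contra hne
    rw [hunit p hne] at hp
    exact lt_irrefl _ hp
  -- `u = f₀ / t` is integral at `P`
  have hu : v P (f₀ / t) ≤ 1 := by
    rw [map_div₀, ht]
    have := (lt_exp_iff_le (v P f₀) 0).1 (by rwa [WithZero.exp_zero])
    rw [zero_sub] at this
    exact div_le_one_of_le₀ this zero_le
  obtain ⟨a, ha, b, hb, hb1, hab⟩ :=
    (inLocRing_iff ![(1 : K), t, f₀] P 0 (by simp) (by
      intro i; fin_cases i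
      · simp
      · simpa using htP.le
      · simpa using hfP.le) (f₀ / t)).1 (hns (f₀ / t) hu)
  have hrange : Algebra.adjoin k (Set.range fun i : Fin 3 => ![(1 : K), t, f₀] i /
      ![(1 : K), t, f₀] 0) ≤ ev.range := by
    refine Algebra.adjoin_le ?_
    rintro _ ⟨i, rfl⟩
    fin_cases i
    · exact ⟨1, by simp⟩
    · exact ⟨MvPolynomial.X 0, by rw [hev]; simp⟩
    · exact ⟨MvPolynomial.X 1, by rw [hev]; simp⟩
  obtain ⟨A, rfl⟩ := hrange ha
  obtain ⟨B, rfl⟩ := hrange hb
  have hrel : MvPolynomial.X 1 * B - MvPolynomial.X 0 * A ∈ RingHom.ker ev := by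
    rw [RingHom.mem_ker, map_sub, map_mul, map_mul]
    have h0 : ev (MvPolynomial.X 0) = t := by rw [hev]; simp
    have h1 : ev (MvPolynomial.X 1) = f₀ := by rw [hev]; simp
    rw [h0, h1]
    have : ev A = f₀ / t * ev B := hab.symm
    rw [this]; field_simp; ring
  rw [hker, Ideal.mem_span_singleton'] at hrel
  obtain ⟨C', hC'⟩ := hrel
  have hβ : MvPolynomial.constantCoeff B ≠ 0 := by
    intro h0
    have := hres B
    rw [h0, map_zero, sub_zero] at this
    change v P (ev B) = 1 at hb1
    rw [hb1] at this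
    exact lt_irrefl _ this
  have hF0 : MvPolynomial.constantCoeff F = 0 := by
    apply hcc0
    have : ev F = 0 := by
      have : F ∈ RingHom.ker ev := by rw [hker]; exact Ideal.subset_span rfl
      exact this
    rw [this, map_zero]; exact zero_lt_one
  have hd := congrArg (fun p => MvPolynomial.constantCoeff (MvPolynomial.pderiv 1 p)) hC'
  simp only [Derivation.leibniz, map_sub, map_add, smul_eq_mul, map_mul,
    MvPolynomial.pderiv_X, MvPolynomial.constantCoeff_X, hF0] at hd
  simp at hd
  apply hunit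
  intro h0
  rw [h0] at hd
  simp at hd
  exact hβ hd.symm




/-- the first Hasse derivative as a derivation -/
noncomputable def hasseDer (H : K →ₐ[k] K⟦X⟧) (hH : ∀ y : K, PowerSeries.constantCoeff (H y) = y) :
    Derivation k K K where
  toLinearMap := ((PowerSeries.coeff (R := K) 1).restrictScalars k).comp H.toLinearMap
  map_one_eq_zero' := by
    change PowerSeries.coeff 1 (H 1) = 0
    rw [map_one, PowerSeries.coeff_one]; simp
  leibniz' a b := by
    change PowerSeries.coeff 1 (H (a * b)) = a • PowerSeries.coeff 1 (H b) +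
      b • PowerSeries.coeff 1 (H a)
    rw [map_mul, PowerSeries.coeff_mul, Finset.Nat.sum_antidiagonal_eq_sum_range_succ_mk,
      Finset.sum_range_succ, Finset.sum_range_one]
    simp only [Nat.sub_zero, Nat.sub_self, PowerSeries.coeff_zero_eq_constantCoeff_apply, hH,
      smul_eq_mul]
    ring

theorem hasseDer_apply (H : K →ₐ[k] K⟦X⟧) (hH : ∀ y : K, PowerSeries.constantCoeff (H y) = y)
    (a : K) : hasseDer H hH a = PowerSeries.coeff 1 (H a) := rfl

/-- a Hasse family exists only for separating variables -/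
theorem isSeparable_of_isHasseFamily [IsAlgClosed k] (hK : IsFunctionField k K) (t : K)
    (H : K →ₐ[k] K⟦X⟧) (hH : LocRes.IsHasseFamily t H) :
    Algebra.IsSeparable k⟮t⟯ K := by
  obtain ⟨⟨x₁, hx₁, hfin₁⟩, -⟩ := id hK
  have hg : FunFld.IsGeometric k K := Groth.Agent.Lib.Helper9.FunFld.isGeometric_of_isAlgClosed
  obtain ⟨t', ht', hsep'⟩ :=
    Groth.Agent.Lib.Helper9.FunFld.exists_separating_variable hx₁ hfin₁ hg
  have hfr := Groth.Agent.Lib.Helper9.FunFld.finrank_kaehler_eq_one_of_separating ht' hsep'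
  have hess : Algebra.EssFiniteType k K :=
    Groth.Agent.Lib.Helper9.FunFld.essFiniteType_of_finite_adjoin hfin₁
  have hDt : KaehlerDifferential.D k K t ≠ 0 := by
    intro h0
    have h1 := Derivation.liftKaehlerDifferential_comp_D (hasseDer H hH.2) t
    rw [h0, map_zero, hasseDer_apply, hH.1] at h1
    simp at h1
  exact Groth.Agent.Lib.Helper9.FunFld.isSeparable_adjoin_simple_of_D_ne_zero hfr hDt


/-- evaluation of polynomials in a subalgebra -/
theorem aeval_mem_subalgebra {B : Type*} [CommRing B] [Algebra k B] (S : Subalgebra k B)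
    (g : Fin 2 → B) (hg : ∀ i, g i ∈ S) (p : MvPolynomial (Fin 2) k) :
    MvPolynomial.aeval g p ∈ S := by
  induction p using MvPolynomial.induction_on with
  | C c => rw [MvPolynomial.aeval_C]; exact S.algebraMap_mem c
  | add p q hp hq => rw [map_add]; exact S.add_mem hp hq
  | mul_X p i hp => rw [map_mul, MvPolynomial.aeval_X]; exact S.mul_mem hp (hg i)

/-- the constant coefficient commutes with polynomial evaluation -/
theorem constantCoeff_aeval (a y : K⟦X⟧) (p : MvPolynomial (Fin 2) k) :
    PowerSeries.constantCoeff (MvPolynomial.aeval ![a, y] p) =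
      MvPolynomial.aeval ![PowerSeries.constantCoeff a, PowerSeries.constantCoeff y] p := by
  induction p using MvPolynomial.induction_on with
  | C c =>
    rw [MvPolynomial.aeval_C, MvPolynomial.aeval_C, PowerSeries.algebraMap_apply,
      PowerSeries.constantCoeff_C]
  | add p q hp hq => rw [map_add, map_add, map_add, hp, hq]
  | mul_X p i hp =>
    rw [map_mul, map_mul, map_mul, hp, MvPolynomial.aeval_X, MvPolynomial.aeval_X]
    fin_cases i <;> simp

/-- **Hasse derivatives with respect to a local parameter preserve the valuation ring** -/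
theorem hasse_mem_SP [IsAlgClosed k] (hK : IsFunctionField k K) (P : FunFld.Place k K) (t : K)
    (ht : v P t = WithZero.exp (-1 : ℤ)) (H : K →ₐ[k] K⟦X⟧) (hH : LocRes.IsHasseFamily t H)
    {z : K} (hz : v P z ≤ 1) : H z ∈ SP (v P) P.2.1 := by
  classical
  have : Infinite k := IsAlgClosed.instInfinite
  have hsep := isSeparable_of_isHasseFamily hK t H hH
  have htP : v P t < 1 := by rw [ht, ← WithZero.exp_zero, WithZero.exp_lt_exp]; norm_num
  obtain ⟨f₀, hf0, hxy, hfP, hfQ⟩ := exists_good_gen hK P t ht hsep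
  have hns := nonsingular_of_good_gen hK P t ht f₀ hf0 hfP hfQ
  obtain ⟨F, hF0, hker, -⟩ := exists_ker_eq_span hK t f₀ hxy
  have hunit := v_pderiv_eq_one P t ht f₀ hfP hns F hker
  obtain ⟨S, hS⟩ : ∃ S : Subalgebra k K⟦X⟧, S = SP (v P) P.2.1 := ⟨_, rfl⟩
  rw [← hS]
  obtain ⟨a, ha⟩ : ∃ a : K⟦X⟧, a = PowerSeries.C t + PowerSeries.X := ⟨_, rfl⟩
  have haS : a ∈ S := by
    rw [ha, hS]; exact Subalgebra.add_mem _ (C_mem_SP htP.le) X_mem_SP
  have hHt : H t = a := by rw [ha]; exact hH.1
  have hHcomp : ∀ p : MvPolynomial (Fin 2) k,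
      H (MvPolynomial.aeval ![t, f₀] p) = MvPolynomial.aeval ![a, H f₀] p := by
    intro p
    have h1 := MvPolynomial.comp_aeval (R := k) ![t, f₀] H
    have h2 : (fun i => H (![t, f₀] i)) = ![a, H f₀] := by
      funext i; fin_cases i
      · exact hHt
      · rfl
    rw [h2] at h1
    rw [← h1]; rfl
  -- `f₀` is in `R`
  have hf₀S : H f₀ ∈ S := by
    rw [hS]
    refine mem_SP_of_root (toPoly a F) ?_ ?_ ?_ ?_
    · intro y hy
      rw [eval_toPoly, ← hS]
      refine aeval_mem_subalgebra S _ ?_ F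
      intro i; fin_cases i
      · exact haS
      · rw [hS]; exact hy
    · rw [eval_toPoly, ← hHcomp]
      have : MvPolynomial.aeval ![t, f₀] F = 0 := by
        have : F ∈ RingHom.ker (MvPolynomial.aeval ![t, f₀] : MvPolynomial (Fin 2) k →ₐ[k] K) := by
          rw [hker]; exact Ideal.subset_span rfl
        exact this
      rw [this, map_zero]
    · rw [PowerSeries.coeff_zero_eq_constantCoeff_apply, hH.2]; exact hfP.le
    · rw [derivative_toPoly, eval_toPoly, constantCoeff_aeval, hH.2, ha, map_add,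
        PowerSeries.constantCoeff_C, PowerSeries.constantCoeff_X, add_zero]
      exact hunit
  -- the affine coordinate ring is in `R`
  have hadj : ∀ u ∈ Algebra.adjoin k (Set.range fun i : Fin 3 => ![(1 : K), t, f₀] i /
      ![(1 : K), t, f₀] 0), H u ∈ S := by
    intro u hu
    have hle : Algebra.adjoin k (Set.range fun i : Fin 3 => ![(1 : K), t, f₀] i /
        ![(1 : K), t, f₀] 0) ≤ S.comap H := by
      refine Algebra.adjoin_le ?_
      rintro _ ⟨i, rfl⟩
      change H _ ∈ S
      fin_cases i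
      · simp only [Fin.zero_eta, Matrix.cons_val_zero, div_one, map_one]; exact S.one_mem
      · simp only [Fin.mk_one, Matrix.cons_val_one, Matrix.cons_val_zero, div_one]
        rw [hHt]; exact haS
      · simp only [Fin.reduceFinMk, Matrix.cons_val_two, Matrix.tail_cons, Matrix.head_cons,
          Matrix.cons_val_zero, div_one]
        exact hf₀S
    exact hle hu
  obtain ⟨u, hu, w, hw, hw1, hzw⟩ :=
    (inLocRing_iff ![(1 : K), t, f₀] P 0 (by simp) (by
      intro i; fin_cases i
      · simp
      · simpa using htP.le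
      · simpa using hfP.le) z).1 (hns z hz)
  have hw1' : v P w = 1 := hw1
  have hw0 : w ≠ 0 := by
    intro h; rw [h, map_zero] at hw1'; exact zero_ne_one hw1'
  have hinv : H w⁻¹ ∈ S := by
    rw [hS]
    refine inv_mem_SP (g := H w) (by rw [← hS]; exact hadj w hw) ?_ ?_
    · rw [PowerSeries.coeff_zero_eq_constantCoeff_apply, hH.2]; exact hw1'
    · rw [← map_mul, mul_inv_cancel₀ hw0, map_one]
  have e : z = u * w⁻¹ := by rw [← hzw]; field_simp
  rw [e, map_mul]
  exact S.mul_mem (hadj u hu) hinv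

/-- coefficientwise form -/
theorem v_hasseD_le_one [IsAlgClosed k] (hK : IsFunctionField k K) (P : FunFld.Place k K) (t : K)
    (ht : v P t = WithZero.exp (-1 : ℤ)) (H : K →ₐ[k] K⟦X⟧) (hH : LocRes.IsHasseFamily t H)
    {z : K} (hz : v P z ≤ 1) (j : ℕ) : v P (LocRes.hasseD H j z) ≤ 1 :=
  hasse_mem_SP hK P t ht H hH hz j

end FF

end Groth.Agent.Lib.Helper26.HasseLocal
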