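import Mathlib
import Groth.Agent.Lib.Helper26.HasseLocal
set_option autoImplicit false
open scoped WithZero IntermediateField PowerSeries
open FunFld
open Groth.Agent.Lib.Helper2.FF
open Groth.Agent.Lib.Helper26.FunFldAlgClosed
open Groth.Agent.Lib.Helper26.LocRing
open Groth.Agent.Lib.Helper26.HasseLocal

/-!
# The expansion of functions at a place through Hasse derivatives
-/

namespace Groth.Agent.Lib.Helper26.HasseLocal2

variable {k K : Type*} [Field k] [Field K] [Algebra k K]

theorem map_subtype_injective (P : FunFld.Place k K) :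
    Function.Injective (PowerSeries.map P.O.subtype) := by
  intro a b hab
  ext j
  have := congrArg (PowerSeries.coeff j) hab
  rw [PowerSeries.coeff_map, PowerSeries.coeff_map] at this
  exact this

variable [IsAlgClosed k] (hK : IsFunctionField k K) (P : FunFld.Place k K) (t : K)
  (ht : v P t = WithZero.exp (-1 : ℤ)) (H : K →ₐ[k] K⟦X⟧) (hH : LocRes.IsHasseFamily t H)

/-- the Hasse derivatives of an integral function, as a power series over the valuation ring -/
noncomputable def liftO (z : P.O) : (P.O)⟦X⟧ :=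
  PowerSeries.mk fun j => ⟨LocRes.hasseD H j z.1,
    (mem_O_iff P _).2 (v_hasseD_le_one hK P t ht H hH ((mem_O_iff P _).1 z.2) j)⟩

theorem map_liftO (z : P.O) : PowerSeries.map P.O.subtype (liftO hK P t ht H hH z) = H z.1 := by
  ext j
  rw [PowerSeries.coeff_map, liftO, PowerSeries.coeff_mk]
  rfl

/-- `liftO` as a ring homomorphism -/
noncomputable def liftOHom : P.O →+* (P.O)⟦X⟧ where
  toFun := liftO hK P t ht H hH
  map_one' := by
    apply map_subtype_injective P
    rw [map_liftO, (PowerSeries.map P.O.subtype).map_one]; exact H.map_one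
  map_mul' a b := by
    apply map_subtype_injective P
    rw [map_mul, map_liftO, map_liftO, map_liftO]; exact map_mul H _ _
  map_zero' := by
    apply map_subtype_injective P
    rw [map_liftO, (PowerSeries.map P.O.subtype).map_zero]; exact H.map_zero
  map_add' a b := by
    apply map_subtype_injective P
    rw [map_add, map_liftO, map_liftO, map_liftO]; exact map_add H _ _

/-- **the expansion at `P`**: the residues of the Hasse derivatives -/
noncomputable def expand : P.O →+* (IsLocalRing.ResidueField P.O)⟦X⟧ :=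
  (PowerSeries.map (IsLocalRing.residue P.O)).comp (liftOHom hK P t ht H hH)

theorem coeff_expand (z : P.O) (j : ℕ) :
    PowerSeries.coeff j (expand hK P t ht H hH z) = evalP P (LocRes.hasseD H j z.1) := by
  have hz : P.1 (LocRes.hasseD H j z.1) ≤ 1 :=
    v_hasseD_le_one hK P t ht H hH ((mem_O_iff P _).1 z.2) j
  rw [evalP, dif_pos hz]
  change PowerSeries.coeff j (PowerSeries.map (IsLocalRing.residue P.O)
    (liftO hK P t ht H hH z)) = _
  rw [PowerSeries.coeff_map, liftO, PowerSeries.coeff_mk]

theorem constantCoeff_expand (z : P.O) :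
    PowerSeries.constantCoeff (expand hK P t ht H hH z) = IsLocalRing.residue P.O z := by
  change PowerSeries.constantCoeff (PowerSeries.map (IsLocalRing.residue P.O)
    (liftO hK P t ht H hH z)) = _
  rw [← PowerSeries.coeff_zero_eq_constantCoeff_apply, PowerSeries.coeff_map, liftO,
    PowerSeries.coeff_mk]
  congr 1
  apply Subtype.ext
  change PowerSeries.coeff 0 (H z.1) = z.1
  rw [PowerSeries.coeff_zero_eq_constantCoeff_apply, hH.2]

theorem expand_algebraMap (c : k) :
    expand hK P t ht H hH (algebraMap k P.O c) =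
      PowerSeries.C (algebraMap k (IsLocalRing.ResidueField P.O) c) := by
  ext j
  rw [coeff_expand]
  have h1 : ((algebraMap k P.O c : P.O) : K) = algebraMap k K c := rfl
  rw [h1, LocRes.hasseD_apply, H.commutes, PowerSeries.algebraMap_apply, PowerSeries.coeff_C,
    PowerSeries.coeff_C]
  split_ifs with hj
  · rw [evalP, dif_pos (P.2.1 c)]; rfl
  · rw [evalP, dif_pos (by rw [map_zero]; exact zero_le_one)]
    exact map_zero _

theorem expand_t (htO : t ∈ P.O) : expand hK P t ht H hH ⟨t, htO⟩ = PowerSeries.X := by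
  have htP : v P t < 1 := by rw [ht, ← WithZero.exp_zero, WithZero.exp_lt_exp]; norm_num
  ext j
  rw [coeff_expand, LocRes.hasseD_apply, hH.1, map_add, PowerSeries.coeff_C, PowerSeries.coeff_X,
    PowerSeries.coeff_X]
  by_cases h0 : j = 0
  · subst h0
    rw [if_pos rfl, if_neg (by norm_num), if_neg (by norm_num), add_zero, evalP, dif_pos htP.le,
      IsLocalRing.residue_eq_zero_iff]
    exact (Valuation.mem_maximalIdeal_iff _ _).2 htP
  · rw [if_neg h0, zero_add]
    by_cases h1 : j = 1
    · rw [if_pos h1, if_pos h1, evalP, dif_pos (by rw [map_one])]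
      exact map_one _
    · rw [if_neg h1, if_neg h1, evalP, dif_pos (by rw [map_zero]; exact zero_le_one)]
      exact map_zero _

/-- the expansion of `t^m u` -/
theorem expand_eq_X_pow_mul (z : P.O) (hz : z ≠ 0) :
    ∃ (u : P.O), v P u.1 = 1 ∧ expand hK P t ht H hH z =
      PowerSeries.X ^ (P.ord z.1).toNat * expand hK P t ht H hH u ∧
      z.1 = t ^ (P.ord z.1).toNat * u.1 := by
  have hz0 : z.1 ≠ 0 := fun h => hz (Subtype.ext h)
  have ht0 : t ≠ 0 := by
    intro h; rw [h, map_zero] at ht; exact WithZero.exp_ne_zero ht.symm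
  have htP : v P t < 1 := by rw [ht, ← WithZero.exp_zero, WithZero.exp_lt_exp]; norm_num
  have htO : t ∈ P.O := (mem_O_iff P t).2 htP.le
  have hord : 0 ≤ P.ord z.1 := by
    have := (v_le_exp_iff P hz0 0).1 (by rw [WithZero.exp_zero]; exact (mem_O_iff P _).1 z.2)
    omega
  obtain ⟨m, hm⟩ : ∃ m : ℕ, P.ord z.1 = m := ⟨(P.ord z.1).toNat, (Int.toNat_of_nonneg hord).symm⟩
  have hm' : (P.ord z.1).toNat = m := by rw [hm]; simp
  rw [hm']
  have hu1 : v P (z.1 / t ^ m) = 1 := by
    rw [map_div₀, map_pow, ht, v_eq_exp_neg_ord P hz0, hm, ← WithZero.exp_nsmul]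
    simp only [smul_neg, nsmul_eq_mul, mul_one]
    exact div_self WithZero.exp_ne_zero
  have huO : z.1 / t ^ m ∈ P.O := (mem_O_iff P _).2 hu1.le
  refine ⟨⟨z.1 / t ^ m, huO⟩, hu1, ?_, ?_⟩
  · have e : z = (⟨t, htO⟩ : P.O) ^ m * ⟨z.1 / t ^ m, huO⟩ := by
      apply Subtype.ext
      change z.1 = t ^ m * (z.1 / t ^ m)
      field_simp
    conv_lhs => rw [e]
    rw [map_mul, map_pow, expand_t]
  · change z.1 = t ^ m * (z.1 / t ^ m)
    field_simp

/-- the coefficients of the expansion below the order vanish, the one at the order does not -/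
theorem coeff_expand_eq_zero (z : P.O) (hz : z ≠ 0) {j : ℕ} (hj : (j : ℤ) < P.ord z.1) :
    PowerSeries.coeff j (expand hK P t ht H hH z) = 0 := by
  obtain ⟨u, -, he, -⟩ := expand_eq_X_pow_mul hK P t ht H hH z hz
  rw [he, PowerSeries.coeff_X_pow_mul', if_neg]
  have : 0 ≤ P.ord z.1 := by omega
  have := Int.toNat_of_nonneg this
  omega

theorem coeff_expand_ne_zero (z : P.O) (hz : z ≠ 0) {j : ℕ} (hj : (j : ℤ) = P.ord z.1) :
    PowerSeries.coeff j (expand hK P t ht H hH z) ≠ 0 := by
  obtain ⟨u, hu, he, -⟩ := expand_eq_X_pow_mul hK P t ht H hH z hz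
  have hjm : (P.ord z.1).toNat = j := by rw [← hj]; simp
  rw [he, hjm, PowerSeries.coeff_X_pow_mul', if_pos le_rfl, Nat.sub_self,
    PowerSeries.coeff_zero_eq_constantCoeff_apply, constantCoeff_expand]
  rw [Ne, IsLocalRing.residue_eq_zero_iff, Valuation.mem_maximalIdeal_iff]
  change ¬ v P u.1 < 1
  rw [hu]; exact lt_irrefl _

theorem expand_injective : Function.Injective (expand hK P t ht H hH) := by
  rw [injective_iff_map_eq_zero]
  intro z hz
  by_contra hne
  have hz0 : z.1 ≠ 0 := fun h => hne (Subtype.ext h)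
  have hord : 0 ≤ P.ord z.1 := by
    have := (v_le_exp_iff P hz0 0).1 (by rw [WithZero.exp_zero]; exact (mem_O_iff P _).1 z.2)
    omega
  have := coeff_expand_ne_zero hK P t ht H hH z hne (j := (P.ord z.1).toNat)
    (Int.toNat_of_nonneg hord)
  rw [hz, map_zero] at this
  exact this rfl

end Groth.Agent.Lib.Helper26.HasseLocal2
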