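import Mathlib
import Groth.Agent.Lib.Helper26.HasseLocal2
set_option autoImplicit false
set_option linter.unusedSectionVars false
open scoped WithZero IntermediateField PowerSeries
open FunFld
open Groth.Agent.Lib.Helper2.FF
open Groth.Agent.Lib.Helper26.FunFldAlgClosed
open Groth.Agent.Lib.Helper26.LocRing
open Groth.Agent.Lib.Helper26.HasseLocal
open Groth.Agent.Lib.Helper26.HasseLocal2

/-!
# Orders of a projective map at a place: jumps of the Hasse matrix vs. vanishing orders
-/

namespace Groth.Agent.Lib.Helper26.HasseLocal3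

variable {k K : Type*} [Field k] [Field K] [Algebra k K]

theorem evalP_eq_one_of_sub_lt (P : FunFld.Place k K) {z : K} (hz : v P (z - 1) < 1) :
    evalP P z = 1 := by
  have h1 : v P z = 1 := v_eq_one_of_sub_one_lt P hz
  rw [evalP, dif_pos h1.le]
  rw [← sub_eq_zero, ← map_one (IsLocalRing.residue P.O), ← map_sub,
    IsLocalRing.residue_eq_zero_iff]
  exact (Valuation.mem_maximalIdeal_iff _ _).2 hz

variable [IsAlgClosed k] (hK : IsFunctionField k K) (P : FunFld.Place k K) (t : K)
  (ht : v P t = WithZero.exp (-1 : ℤ)) (H : K →ₐ[k] K⟦X⟧) (hH : LocRes.IsHasseFamily t H)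

include hK in
theorem algebraMap_residue_bijective :
    Function.Bijective (algebraMap k (IsLocalRing.ResidueField P.O)) := by
  have hfin := finiteDimensional_residueField P hK
  have hfin1 : @Module.Finite k (IsLocalRing.ResidueField P.O) _ _ Algebra.toModule := hfin
  have hint' : Algebra.IsIntegral k (IsLocalRing.ResidueField P.O) :=
    Algebra.IsIntegral.of_finite k _
  exact IsAlgClosed.algebraMap_bijective_of_isIntegral

include hK ht hH

/-- the value at `P` of the Hasse derivatives of a linear combination -/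
theorem evalP_hasseD_sum {ι : Type*} [Fintype ι] (φ : ι → K) (hint : ∀ i, v P (φ i) ≤ 1)
    (a : ι → k) (m : ℕ) :
    evalP P (LocRes.hasseD H m (∑ i, a i • φ i)) =
      ∑ i, algebraMap k (IsLocalRing.ResidueField P.O) (a i) *
        evalP P (LocRes.hasseD H m (φ i)) := by
  classical
  obtain ⟨z, hz⟩ : ∃ z : ι → P.O, ∀ i, (z i).1 = φ i :=
    ⟨fun i => ⟨φ i, (mem_O_iff P _).2 (hint i)⟩, fun i => rfl⟩
  have e : ∑ i, a i • φ i = ((∑ i, a i • z i : P.O) : K) := by
    rw [AddSubmonoidClass.coe_finsetSum]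
    refine Finset.sum_congr rfl (fun i _ => ?_)
    rw [← hz i, Algebra.smul_def, Algebra.smul_def]; rfl
  rw [e, ← coeff_expand hK P t ht H hH, map_sum, map_sum]
  refine Finset.sum_congr rfl (fun i _ => ?_)
  rw [Algebra.smul_def, map_mul, expand_algebraMap, PowerSeries.coeff_C_mul, coeff_expand, hz]

/-- vanishing of the values of the Hasse derivatives below the order -/
theorem evalP_hasseD_eq_zero {f : K} (hf : v P f ≤ 1) (hf0 : f ≠ 0) {m : ℕ}
    (hm : (m : ℤ) < P.ord f) : evalP P (LocRes.hasseD H m f) = 0 := by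
  have := coeff_expand_eq_zero hK P t ht H hH ⟨f, (mem_O_iff P _).2 hf⟩
    (fun h => hf0 (congrArg Subtype.val h)) hm
  rwa [coeff_expand] at this

theorem evalP_hasseD_ne_zero {f : K} (hf : v P f ≤ 1) (hf0 : f ≠ 0) {m : ℕ}
    (hm : (m : ℤ) = P.ord f) : evalP P (LocRes.hasseD H m f) ≠ 0 := by
  have := coeff_expand_ne_zero hK P t ht H hH ⟨f, (mem_O_iff P _).2 hf⟩
    (fun h => hf0 (congrArg Subtype.val h)) hm
  rwa [coeff_expand] at this

/-- the order of an integral function is the first index with nonvanishing value of the Hasse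
derivative -/
theorem ord_eq_of_evalP {f : K} (hf : v P f ≤ 1) {j : ℕ}
    (h0 : ∀ m < j, evalP P (LocRes.hasseD H m f) = 0)
    (hj : evalP P (LocRes.hasseD H j f) ≠ 0) : f ≠ 0 ∧ P.ord f = j := by
  have hf0 : f ≠ 0 := by
    rintro rfl
    apply hj
    rw [LocRes.hasseD_apply, map_zero, map_zero, evalP, dif_pos (by rw [map_zero]; exact zero_le_one)]
    exact map_zero _
  refine ⟨hf0, ?_⟩
  have hord : 0 ≤ P.ord f := by
    have := (v_le_exp_iff P hf0 0).1 (by rw [WithZero.exp_zero]; exact hf)
    omega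
  obtain ⟨m, hm⟩ : ∃ m : ℕ, P.ord f = m := ⟨(P.ord f).toNat, (Int.toNat_of_nonneg hord).symm⟩
  rw [hm]
  rcases lt_trichotomy m j with h | h | h
  · exact absurd (h0 m h) (evalP_hasseD_ne_zero hK P t ht H hH hf hf0 hm.symm)
  · rw [h]
  · exact absurd (evalP_hasseD_eq_zero hK P t ht H hH hf hf0 (by rw [hm]; exact_mod_cast h)) hj

/-- the columns of the Hasse matrix at `P` -/
theorem hcolAt_zero {ι : Type*} (φ : ι → K) : hcolAt P H φ 0 = hcolAt P H φ 1 := by
  funext i
  change evalP P (φ i) = evalP P (LocRes.hasseD H 0 (φ i))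
  rw [LocRes.hasseD_apply, PowerSeries.coeff_zero_eq_constantCoeff_apply, hH.2]

theorem not_isJump_one {ι : Type*} (φ : ι → K) :
    ¬ IsJump (IsLocalRing.ResidueField P.O) (hcolAt P H φ) 1 := by
  intro h
  apply h
  rw [← hcolAt_zero hK P t ht H hH]
  exact Submodule.subset_span ⟨0, by simp, rfl⟩

theorem span_image_Iio_succ {ι : Type*} (φ : ι → K) {j : ℕ} (hj : 1 ≤ j) :
    Submodule.span (IsLocalRing.ResidueField P.O) (hcolAt P H φ '' Set.Iio (j + 1)) =
      Submodule.span (IsLocalRing.ResidueField P.O)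
        ((fun m => hcolAt P H φ (m + 1)) '' Set.Iio j) := by
  apply le_antisymm
  · rw [Submodule.span_le]
    rintro _ ⟨m, hm, rfl⟩
    rw [Set.mem_Iio] at hm
    rcases Nat.eq_zero_or_pos m with rfl | hpos
    · rw [hcolAt_zero hK P t ht H hH]
      exact Submodule.subset_span ⟨0, by rw [Set.mem_Iio]; omega, rfl⟩
    · obtain ⟨m', rfl⟩ : ∃ m', m = m' + 1 := ⟨m - 1, by omega⟩
      exact Submodule.subset_span ⟨m', by rw [Set.mem_Iio]; omega, rfl⟩
  · rw [Submodule.span_le]
    rintro _ ⟨m, hm, rfl⟩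
    rw [Set.mem_Iio] at hm
    exact Submodule.subset_span ⟨m + 1, by rw [Set.mem_Iio]; omega, rfl⟩

/-- **jumps are vanishing orders** -/
theorem isJump_hcolAt_succ_iff {ι : Type*} [Fintype ι] (φ : ι → K) (hint : ∀ i, v P (φ i) ≤ 1)
    (j : ℕ) :
    IsJump (IsLocalRing.ResidueField P.O) (hcolAt P H φ) (j + 1) ↔
      1 ≤ j ∧ ∃ f ∈ Submodule.span k (Set.range φ), f ≠ 0 ∧ P.ord f = j := by
  classical
  have hbij := algebraMap_residue_bijective hK P
  have hVint : ∀ f ∈ Submodule.span k (Set.range φ), v P f ≤ 1 := by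
    intro f hf
    refine Submodule.span_induction (p := fun f _ => v P f ≤ 1) ?_ ?_ ?_ ?_ hf
    · rintro _ ⟨i, rfl⟩; exact hint i
    · rw [map_zero]; exact zero_le_one
    · intro x y _ _ hx hy; exact Valuation.map_add_le _ hx hy
    · intro c x _ hx; exact (v_smul_le P c x).trans hx
  constructor
  · intro hjump
    have hj : 1 ≤ j := by
      by_contra hlt
      have : j = 0 := by omega
      subst this
      exact not_isJump_one hK P t ht H hH φ hjump
    refine ⟨hj, ?_⟩
    unfold IsJump at hjump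
    rw [span_image_Iio_succ hK P t ht H hH φ hj] at hjump
    obtain ⟨lam, hlam, hker⟩ := Submodule.exists_le_ker_of_notMem hjump
    choose a ha using fun i => hbij.2 (lam (Pi.single i 1))
    have hlamM : ∀ m, lam (hcolAt P H φ (m + 1)) =
        evalP P (LocRes.hasseD H m (∑ i, a i • φ i)) := by
      intro m
      rw [evalP_hasseD_sum hK P t ht H hH φ hint, LinearMap.pi_apply_eq_sum_univ]
      refine Finset.sum_congr rfl (fun i _ => ?_)
      rw [ha, smul_eq_mul, mul_comm]
      congr 2
      funext i'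
      simp [Pi.single_apply, eq_comm]
    have hfV : ∑ i, a i • φ i ∈ Submodule.span k (Set.range φ) :=
      Submodule.sum_mem _ (fun i _ => Submodule.smul_mem _ _ (Submodule.subset_span ⟨i, rfl⟩))
    obtain ⟨hf0, hord⟩ := ord_eq_of_evalP hK P t ht H hH (hVint _ hfV) (j := j)
      (fun m hm => by
        rw [← hlamM]
        exact hker (Submodule.subset_span ⟨m, hm, rfl⟩))
      (by rw [← hlamM]; exact hlam)
    exact ⟨_, hfV, hf0, hord⟩
  · rintro ⟨hj, f, hfV, hf0, hord⟩
    obtain ⟨a, rfl⟩ := (Submodule.mem_span_range_iff_exists_fun k).1 hfV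
    unfold IsJump
    rw [span_image_Iio_succ hK P t ht H hH φ hj]
    set lam : (ι → IsLocalRing.ResidueField P.O) →ₗ[IsLocalRing.ResidueField P.O]
        IsLocalRing.ResidueField P.O :=
      ∑ i, algebraMap k (IsLocalRing.ResidueField P.O) (a i) • LinearMap.proj i with hlam
    have hlamM : ∀ m, lam (hcolAt P H φ (m + 1)) =
        evalP P (LocRes.hasseD H m (∑ i, a i • φ i)) := by
      intro m
      rw [evalP_hasseD_sum hK P t ht H hH φ hint, hlam, LinearMap.sum_apply]
      refine Finset.sum_congr rfl (fun i _ => ?_)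
      rw [LinearMap.smul_apply, LinearMap.proj_apply, smul_eq_mul]
      rfl
    intro hmem
    have hle : Submodule.span (IsLocalRing.ResidueField P.O)
        ((fun m => hcolAt P H φ (m + 1)) '' Set.Iio j) ≤ LinearMap.ker lam := by
      rw [Submodule.span_le]
      rintro _ ⟨m, hm, rfl⟩
      rw [SetLike.mem_coe, LinearMap.mem_ker, hlamM]
      exact evalP_hasseD_eq_zero hK P t ht H hH (hVint _ hfV) hf0
        (by rw [hord]; exact_mod_cast hm)
    have := hle hmem
    rw [LinearMap.mem_ker, hlamM] at this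
    exact evalP_hasseD_ne_zero hK P t ht H hH (hVint _ hfV) hf0 hord.symm this

end Groth.Agent.Lib.Helper26.HasseLocal3
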