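import Mathlib
import Groth.Agent.Lib.Helper26.HasseLocal3
import Groth.Agent.Lib.Helper2.FunFld.OrdIndep
import Groth.Agent.Lib.Helper2.FunFld.Conorm
set_option autoImplicit false
set_option linter.unusedSectionVars false
open scoped WithZero IntermediateField PowerSeries
open FunFld
open Groth.Agent.Lib.Helper2.FF
open Groth.Agent.Lib.Helper26.FunFldAlgClosed
open Groth.Agent.Lib.Helper26.LocRing
open Groth.Agent.Lib.Helper26.HasseLocal
open Groth.Agent.Lib.Helper26.HasseLocal2
open Groth.Agent.Lib.Helper26.HasseLocal3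

/-!
# Local computations with Hasse derivatives: monomials, fixed points, adapted bases
-/

namespace Groth.Agent.Lib.Helper26.HasseLocal4

variable {k K : Type*} [Field k] [Field K] [Algebra k K]

section EvalP

variable (P : FunFld.Place k K)

theorem evalP_of_le {x : K} (hx : v P x ≤ 1) :
    evalP P x = IsLocalRing.residue P.O ⟨x, (mem_O_iff P x).2 hx⟩ := by
  rw [evalP, dif_pos hx]

theorem evalP_add {x y : K} (hx : v P x ≤ 1) (hy : v P y ≤ 1) :
    evalP P (x + y) = evalP P x + evalP P y := by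
  rw [evalP_of_le P hx, evalP_of_le P hy, evalP_of_le P (Valuation.map_add_le _ hx hy), ← map_add]
  rfl

theorem evalP_mul {x y : K} (hx : v P x ≤ 1) (hy : v P y ≤ 1) :
    evalP P (x * y) = evalP P x * evalP P y := by
  have hxy : v P (x * y) ≤ 1 := by rw [map_mul]; exact mul_le_one' hx hy
  rw [evalP_of_le P hx, evalP_of_le P hy, evalP_of_le P hxy, ← map_mul]
  rfl

theorem evalP_eq_zero_of_lt {x : K} (hx : v P x < 1) : evalP P x = 0 := by
  rw [evalP_of_le P hx.le, IsLocalRing.residue_eq_zero_iff]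
  exact (Valuation.mem_maximalIdeal_iff _ _).2 hx

theorem evalP_ne_zero_of_eq_one {x : K} (hx : v P x = 1) : evalP P x ≠ 0 := by
  rw [evalP_of_le P hx.le, Ne, IsLocalRing.residue_eq_zero_iff, Valuation.mem_maximalIdeal_iff]
  change ¬ v P x < 1
  rw [hx]; exact lt_irrefl _

theorem evalP_eq_zero_iff {x : K} (hx : v P x ≤ 1) : evalP P x = 0 ↔ v P x < 1 := by
  constructor
  · intro h
    by_contra hlt
    exact evalP_ne_zero_of_eq_one P (le_antisymm hx (not_lt.1 hlt)) h
  · exact evalP_eq_zero_of_lt P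

theorem evalP_one : evalP P 1 = 1 := by
  rw [evalP_of_le P (by rw [map_one])]
  exact map_one _

theorem evalP_zero : evalP P 0 = 0 := evalP_eq_zero_of_lt P (by rw [map_zero]; exact zero_lt_one)

theorem v_natCast_le (m : ℕ) : v P (m : K) ≤ 1 := by
  have : (m : K) = algebraMap k K (m : k) := by rw [map_natCast]
  rw [this]; exact P.2.1 _

theorem evalP_natCast (m : ℕ) : evalP P (m : K) = (m : IsLocalRing.ResidueField P.O) := by
  rw [evalP_of_le P (v_natCast_le P m)]
  have : (⟨(m : K), (mem_O_iff P _).2 (v_natCast_le P m)⟩ : P.O) = (m : P.O) := by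
    apply Subtype.ext; simp
  rw [this, map_natCast]

end EvalP

section Monomial

variable [IsAlgClosed k] (hK : IsFunctionField k K) (P : FunFld.Place k K) (t : K)
  (ht : v P t = WithZero.exp (-1 : ℤ)) (H : K →ₐ[k] K⟦X⟧) (hH : LocRes.IsHasseFamily t H)

include hK ht hH

/-- the product rule for multiplication by the local parameter -/
theorem hasseD_t_mul (z : K) (i : ℕ) :
    LocRes.hasseD H (i + 1) (t * z) = t * LocRes.hasseD H (i + 1) z + LocRes.hasseD H i z := by
  simp only [LocRes.hasseD_apply]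
  rw [map_mul, hH.1, add_mul, map_add, PowerSeries.coeff_C_mul, PowerSeries.coeff_succ_X_mul]

theorem hasseD_zero (z : K) : LocRes.hasseD H 0 z = z := by
  rw [LocRes.hasseD_apply, PowerSeries.coeff_zero_eq_constantCoeff_apply, hH.2]

/-- **Hasse derivatives of `t^j u`**: `t^i D^i(t^j u) / t^j` is integral with value
`(j choose i) u(P)` -/
theorem hasse_monomial (j : ℕ) : ∀ (i : ℕ) (u : K), v P u ≤ 1 →
    v P (t ^ i * LocRes.hasseD H i (t ^ j * u) / t ^ j) ≤ 1 ∧
      evalP P (t ^ i * LocRes.hasseD H i (t ^ j * u) / t ^ j) =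
        ((j.choose i : ℕ) : IsLocalRing.ResidueField P.O) * evalP P u := by
  have ht0 : t ≠ 0 := by
    intro h; rw [h, map_zero] at ht; exact WithZero.exp_ne_zero ht.symm
  have htP : v P t < 1 := by rw [ht, ← WithZero.exp_zero, WithZero.exp_lt_exp]; norm_num
  induction j with
  | zero =>
    intro i u hu
    rw [pow_zero, one_mul, div_one]
    rcases Nat.eq_zero_or_pos i with rfl | hi
    · rw [pow_zero, one_mul, hasseD_zero hK P t ht H hH, Nat.choose_self, Nat.cast_one, one_mul]
      exact ⟨hu, rfl⟩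
    · have h1 : v P (LocRes.hasseD H i u) ≤ 1 := v_hasseD_le_one hK P t ht H hH hu i
      have h2 : v P (t ^ i * LocRes.hasseD H i u) < 1 := by
        rw [map_mul, map_pow]
        exact mul_lt_one_of_nonneg_of_lt_one_left zero_le (pow_lt_one₀ zero_le htP hi.ne') h1
      rw [Nat.choose_eq_zero_of_lt hi, Nat.cast_zero, zero_mul]
      exact ⟨h2.le, evalP_eq_zero_of_lt P h2⟩
  | succ j ih =>
    intro i u hu
    rcases Nat.eq_zero_or_pos i with rfl | hi
    · rw [pow_zero, one_mul, hasseD_zero hK P t ht H hH, Nat.choose_zero_right, Nat.cast_one,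
        one_mul]
      have e : t ^ (j + 1) * u / t ^ (j + 1) = u := by field_simp
      rw [e]
      exact ⟨hu, rfl⟩
    · obtain ⟨i', rfl⟩ : ∃ i', i = i' + 1 := ⟨i - 1, by omega⟩
      have e1 : t ^ (j + 1) * u = t * (t ^ j * u) := by ring
      have e2 : t ^ (i' + 1) * LocRes.hasseD H (i' + 1) (t ^ (j + 1) * u) / t ^ (j + 1) =
          t ^ (i' + 1) * LocRes.hasseD H (i' + 1) (t ^ j * u) / t ^ j +
          t ^ i' * LocRes.hasseD H i' (t ^ j * u) / t ^ j := by
        rw [e1, hasseD_t_mul hK P t ht H hH]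
        field_simp
        ring
      obtain ⟨h1, h1'⟩ := ih (i' + 1) u hu
      obtain ⟨h2, h2'⟩ := ih i' u hu
      rw [e2]
      refine ⟨Valuation.map_add_le _ h1 h2, ?_⟩
      rw [evalP_add P h1 h2, h1', h2', Nat.choose_succ_succ, Nat.cast_add]
      ring

end Monomial

section Fixed

/-- an endomorphism fixing the place `P` raises the valuation at `P` to a power -/
theorem exists_pow_of_isFixedPt (hK : IsFunctionField k K) (τ : K →ₐ[k] K) (P : FunFld.Place k K)
    (hP : IsFixedPt τ P) : ∃ e : ℕ, 1 ≤ e ∧ ∀ z : K, v P (τ z) = v P z ^ e := by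
  obtain ⟨t, ht⟩ := exists_uniformizer P
  have ht0 : t ≠ 0 := by
    intro h; rw [h, map_zero] at ht; exact WithZero.exp_ne_zero ht.symm
  have htP : v P t < 1 := by rw [ht, ← WithZero.exp_zero, WithZero.exp_lt_exp]; norm_num
  obtain ⟨P', e, he⟩ := exists_place_pow_eq hK.1 ((v P).comap (τ : K →+* K))
    (fun c => by
      rw [Valuation.comap_apply]
      change v P (τ (algebraMap k K c)) ≤ 1
      rw [τ.commutes]; exact P.2.1 c)
    ⟨t, ht0, by rw [Valuation.comap_apply]; exact hP t htP⟩
  have he' : ∀ z : K, v P (τ z) = v P' z ^ e := fun z => he z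
  have he1 : 1 ≤ e := by
    by_contra hlt
    have h0 : e = 0 := by omega
    have := he' t
    rw [h0, pow_zero] at this
    have h2 := hP t htP
    rw [this] at h2
    exact lt_irrefl _ h2
  have hPP' : P = P' := by
    apply place_eq_of_lt_one_imp
    intro z hz
    have h1 := hP z hz
    rw [he' z] at h1
    by_contra hge
    push Not at hge
    exact absurd h1 (not_lt.2 (one_le_pow₀ hge))
  subst hPP'
  exact ⟨e, he1, he'⟩

theorem two_le_of_isStrongFixedPt {τ : K →ₐ[k] K} {P : FunFld.Place k K}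
    (hP : IsStrongFixedPt τ P) {e : ℕ} (he : ∀ z : K, v P (τ z) = v P z ^ e) : 2 ≤ e := by
  obtain ⟨t, ht⟩ := exists_uniformizer P
  have htP : v P t < 1 := by rw [ht, ← WithZero.exp_zero, WithZero.exp_lt_exp]; norm_num
  have h1 := hP t htP
  change v P (τ t) ≤ _ at h1
  rw [he t, ht, ← WithZero.exp_nsmul, WithZero.exp_le_exp] at h1
  simp only [smul_neg, nsmul_eq_mul, mul_one] at h1
  omega

end Fixed

section Adapted

variable [IsAlgClosed k] (hK : IsFunctionField k K) (P : FunFld.Place k K) (t : K)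
  (ht : v P t = WithZero.exp (-1 : ℤ)) (H : K →ₐ[k] K⟦X⟧) (hH : LocRes.IsHasseFamily t H)

include hK ht hH

/-- orders at `P` are positive -/
theorem one_le_of_isOrders {n : ℕ} (φ : Fin (n + 1) → K) (hint : ∀ i, v P (φ i) ≤ 1)
    (J : Fin n → ℕ) (hJ : IsOrders (IsLocalRing.ResidueField P.O) (hcolAt P H φ) J) (l : Fin n) :
    1 ≤ J l :=
  ((isJump_hcolAt_succ_iff hK P t ht H hH φ hint (J l)).1 ((hJ.2 (J l)).1 ⟨l, rfl⟩)).1

/-- **adapted basis** at `P` -/
theorem exists_adapted_basis {n : ℕ} (φ : Fin (n + 1) → K) (hφ : LinearIndependent k φ)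
    (heff : (1 : K) ∈ Submodule.span k (Set.range φ)) (hint : ∀ i, v P (φ i) ≤ 1)
    (J : Fin n → ℕ) (hJ : IsOrders (IsLocalRing.ResidueField P.O) (hcolAt P H φ) J) :
    ∃ g : Fin n → K, (∀ l, v P (g l) = WithZero.exp (-(J l : ℤ))) ∧
      (∀ l, v P (g l / t ^ J l - 1) < 1) ∧
      LinearIndependent k (Fin.cases 1 g : Fin (n + 1) → K) ∧
      Submodule.span k (Set.range (Fin.cases 1 g : Fin (n + 1) → K)) =
        Submodule.span k (Set.range φ) := by
  classical
  have hPdeg : P.deg = 1 := deg_eq_one hK P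
  have hjump := isJump_hcolAt_succ_iff hK P t ht H hH φ hint
  have hJpos := one_le_of_isOrders hK P t ht H hH φ hint J hJ
  obtain ⟨hmono, hJ'⟩ := hJ
  have hex : ∀ l : Fin n, ∃ g : K, g ∈ Submodule.span k (Set.range φ) ∧
      v P g = WithZero.exp (-(J l : ℤ)) ∧ v P (g / t ^ J l - 1) < 1 := by
    intro l
    obtain ⟨-, f, hfV, hf0, hord⟩ := (hjump (J l)).1 ((hJ' (J l)).1 ⟨l, rfl⟩)
    have hvf' : v P f = WithZero.exp (-(J l : ℤ)) := by rw [v_eq_exp_neg_ord P hf0, hord]
    have hu : v P (f / t ^ J l) = 1 := by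
      rw [map_div₀, map_pow, ht, hvf', ← WithZero.exp_nsmul]
      simp only [smul_neg, nsmul_eq_mul, mul_one]
      exact div_self WithZero.exp_ne_zero
    obtain ⟨a, ha⟩ := exists_sub_lt_one P hPdeg hu.le
    have ha0 : a ≠ 0 := by
      rintro rfl
      rw [map_zero, sub_zero, hu] at ha
      exact lt_irrefl _ ha
    refine ⟨a⁻¹ • f, Submodule.smul_mem _ _ hfV, ?_, ?_⟩
    · rw [v_smul P _ _ (inv_ne_zero ha0), hvf']
    · have e : a⁻¹ • f / t ^ J l - 1 = a⁻¹ • (f / t ^ J l - algebraMap k K a) := by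
        rw [smul_sub, smul_div_assoc, Algebra.smul_def a⁻¹ (algebraMap k K a), ← map_mul,
          inv_mul_cancel₀ ha0, map_one]
      rw [e]
      exact lt_of_le_of_lt (v_smul_le P _ _) ha
  choose g hgV hvg hevg using hex
  have hmem : ∀ i, (Fin.cases 1 g : Fin (n + 1) → K) i ∈ Submodule.span k (Set.range φ) := by
    intro i
    refine Fin.cases ?_ (fun l => ?_) i
    · exact heff
    · exact hgV l
  have hle : Submodule.span k (Set.range (Fin.cases 1 g : Fin (n + 1) → K)) ≤
      Submodule.span k (Set.range φ) := by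
    rw [Submodule.span_le]; rintro _ ⟨i, rfl⟩; exact hmem i
  have hne : ∀ i, (Fin.cases 1 g : Fin (n + 1) → K) i ≠ 0 := by
    intro i
    refine Fin.cases ?_ (fun l => ?_) i
    · exact one_ne_zero
    · intro h
      have := hvg l
      simp only [Fin.cases_succ] at h
      rw [h, map_zero] at this
      exact WithZero.exp_ne_zero this.symm
  have hordg : ∀ l, P.ord (g l) = J l := by
    intro l
    have h0 : g l ≠ 0 := by
      intro h; have := hvg l; rw [h, map_zero] at this; exact WithZero.exp_ne_zero this.symm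
    rw [ord_eq_iff P h0]; exact hvg l
  have hinj : Function.Injective
      (fun i => P.ord ((Fin.cases 1 g : Fin (n + 1) → K) i)) := by
    intro i i' hii'
    simp only at hii'
    induction i using Fin.cases with
    | zero =>
      induction i' using Fin.cases with
      | zero => rfl
      | succ l' =>
        simp only [Fin.cases_zero, Fin.cases_succ, ord_one, hordg] at hii'
        have := hJpos l'; omega
    | succ l =>
      induction i' using Fin.cases with
      | zero =>
        simp only [Fin.cases_zero, Fin.cases_succ, ord_one, hordg] at hii'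
        have := hJpos l; omega
      | succ l' =>
        simp only [Fin.cases_succ, hordg] at hii'
        have : J l = J l' := by exact_mod_cast hii'
        rw [hmono.injective this]
  have hli := linearIndependent_of_ord_injective P _ hne hinj
  have hfinV : FiniteDimensional k (Submodule.span k (Set.range φ)) :=
    FiniteDimensional.span_of_finite k (Set.finite_range φ)
  refine ⟨g, hvg, hevg, hli, ?_⟩
  apply Submodule.eq_of_le_of_finrank_eq hle
  rw [finrank_span_eq_card hli, finrank_span_eq_card hφ]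

/-- **adapted basis** at `P`, in abstract form -/
theorem exists_adapted_basis' {n : ℕ} (φ : Fin (n + 1) → K) (hφ : LinearIndependent k φ)
    (heff : (1 : K) ∈ Submodule.span k (Set.range φ)) (hint : ∀ i, v P (φ i) ≤ 1)
    (J : Fin n → ℕ) (hJ : IsOrders (IsLocalRing.ResidueField P.O) (hcolAt P H φ) J) :
    ∃ φ' : Fin (n + 1) → K, φ' 0 = 1 ∧
      (∀ l : Fin n, v P (φ' l.succ) = WithZero.exp (-(J l : ℤ))) ∧
      (∀ l : Fin n, v P (φ' l.succ / t ^ J l - 1) < 1) ∧
      LinearIndependent k φ' ∧
      Submodule.span k (Set.range φ') = Submodule.span k (Set.range φ) := by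
  obtain ⟨g, hvg, hevg, hli, hspan⟩ := exists_adapted_basis hK P t ht H hH φ hφ heff hint J hJ
  exact ⟨_, rfl, hvg, hevg, hli, hspan⟩

end Adapted

section Change

/-- the generalized Wronskian matrix under a linear change of the tuple -/
theorem wrMat_change {n : ℕ} (τ : K →ₐ[k] K) (H : K →ₐ[k] K⟦X⟧) (φ φ' : Fin (n + 1) → K)
    (A : Matrix (Fin (n + 1)) (Fin (n + 1)) k) (hA : ∀ i, φ' i = ∑ j, A i j • φ j)
    (I : Fin n → ℕ) :
    wrMat τ H φ' I = A.map (algebraMap k K) * wrMat τ H φ I := by
  ext i c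
  rw [Matrix.mul_apply]
  simp only [wrMat, Matrix.of_apply, Matrix.map_apply]
  refine Fin.cases ?_ (fun l => ?_) c
  · simp only [Fin.cases_zero]
    rw [hA i, map_sum]
    refine Finset.sum_congr rfl (fun j _ => ?_)
    rw [map_smul, Algebra.smul_def]
  · simp only [Fin.cases_succ, LocRes.hasseD_apply]
    rw [hA i, map_sum, map_sum]
    refine Finset.sum_congr rfl (fun j _ => ?_)
    rw [map_smul, Algebra.smul_def, ← PowerSeries.coeff_C_mul]
    congr 1
    rw [PowerSeries.algebraMap_apply]

/-- two bases of the same space differ by an invertible matrix -/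
theorem exists_matrix_of_span_eq {n : ℕ} (φ φ' : Fin (n + 1) → K)
    (hφ' : LinearIndependent k φ')
    (hspan : Submodule.span k (Set.range φ') = Submodule.span k (Set.range φ)) :
    ∃ A : Matrix (Fin (n + 1)) (Fin (n + 1)) k, A.det ≠ 0 ∧ ∀ i, φ' i = ∑ j, A i j • φ j := by
  classical
  have hmem : ∀ i, φ' i ∈ Submodule.span k (Set.range φ) := by
    intro i; rw [← hspan]; exact Submodule.subset_span ⟨i, rfl⟩
  choose A hA using fun i => (Submodule.mem_span_range_iff_exists_fun k).1 (hmem i)
  refine ⟨Matrix.of A, ?_, fun i => (hA i).symm⟩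
  intro hdet
  obtain ⟨c, hc0, hc⟩ := Matrix.exists_vecMul_eq_zero_iff.2 hdet
  have h1 : ∑ i, c i • φ' i = 0 := by
    calc ∑ i, c i • φ' i = ∑ i, c i • ∑ j, A i j • φ j := by
          refine Finset.sum_congr rfl (fun i _ => by rw [hA i])
      _ = ∑ j, (∑ i, c i * A i j) • φ j := by
          simp_rw [Finset.smul_sum, smul_smul, Finset.sum_smul]
          rw [Finset.sum_comm]
      _ = 0 := by
          refine Finset.sum_eq_zero (fun j _ => ?_)
          have := congrFun hc j
          simp only [Matrix.vecMul, dotProduct, Matrix.of_apply, Pi.zero_apply] at this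
          rw [this, zero_smul]
  have := Fintype.linearIndependent_iff.1 hφ' c h1
  exact hc0 (funext this)

end Change

end Groth.Agent.Lib.Helper26.HasseLocal4
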