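import Mathlib
import Groth.Agent.Lib.Helper26.HasseLocal4
set_option autoImplicit false
open scoped WithZero IntermediateField PowerSeries
open FunFld
open Groth.Agent.Lib.Helper2.FF
open Groth.Agent.Lib.Helper26.FunFldAlgClosed
open Groth.Agent.Lib.Helper26.LocRing
open Groth.Agent.Lib.Helper26.HasseLocal
open Groth.Agent.Lib.Helper26.HasseLocal2
open Groth.Agent.Lib.Helper26.HasseLocal3
open Groth.Agent.Lib.Helper26.HasseLocal4

namespace Groth.Agent.Lib.Helper26.HasseLocal5

variable {k K : Type*} [Field k] [Field K] [Algebra k K]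

theorem prod_exp {ι : Type*} (s : Finset ι) (f : ι → ℤ) :
    ∏ i ∈ s, (WithZero.exp (f i) : ℤᵐ⁰) = WithZero.exp (∑ i ∈ s, f i) := by
  classical
  induction s using Finset.induction_on with
  | empty => simp
  | insert a s ha ih => rw [Finset.prod_insert ha, Finset.sum_insert ha, WithZero.exp_add, ih]

/-- **the scaled Wronskian matrix at `P`** of an adapted basis: there is an integral matrix `W`
with `det (wrMat) = t^(ΣJ - ΣI) det W` whose residues are `1`, `[I_s = 0]`, `ρ_r`, and the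
binomial coefficients. -/
theorem exists_scaled_wronskian [IsAlgClosed k] (hK : IsFunctionField k K) (τ : K →ₐ[k] K)
    (P : FunFld.Place k K) (hP : IsFixedPt τ P) {n : ℕ} (t : K)
    (ht : v P t = WithZero.exp (-1 : ℤ)) (H : K →ₐ[k] K⟦X⟧) (hH : LocRes.IsHasseFamily t H)
    (J : Fin n → ℕ) (hJpos : ∀ l, 1 ≤ J l) (φ' : Fin (n + 1) → K) (hφ'0 : φ' 0 = 1)
    (hvg' : ∀ l : Fin n, v P (φ' l.succ) = WithZero.exp (-(J l : ℤ)))
    (hevg' : ∀ l : Fin n, v P (φ' l.succ / t ^ J l - 1) < 1)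
    (I : Fin n → ℕ) :
    ∃ W : Matrix (Fin (n + 1)) (Fin (n + 1)) P.O,
      v P (wrMat τ H φ' I).det =
        WithZero.exp (-(∑ l, ((J l : ℤ) - I l))) * v P ((W.det : P.O) : K) ∧
      IsLocalRing.residue P.O (W 0 0) = 1 ∧
      (∀ s : Fin n, IsLocalRing.residue P.O (W 0 s.succ) = if I s = 0 then 1 else 0) ∧
      (IsStrongFixedPt τ P → ∀ r : Fin n, IsLocalRing.residue P.O (W r.succ 0) = 0) ∧
      (∀ r s : Fin n, IsLocalRing.residue P.O (W r.succ s.succ) =
        (((J r).choose (I s) : ℕ) : IsLocalRing.ResidueField P.O)) := by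
  classical
  have ht0 : t ≠ 0 := by
    intro h; rw [h, map_zero] at ht; exact WithZero.exp_ne_zero ht.symm
  have htP : v P t < 1 := by rw [ht, ← WithZero.exp_zero, WithZero.exp_lt_exp]; norm_num
  obtain ⟨e, he1, he⟩ := exists_pow_of_isFixedPt hK τ P hP
  obtain ⟨g, hg⟩ : ∃ g : Fin n → K, g = fun l => φ' l.succ := ⟨_, rfl⟩
  have hφ's : ∀ r : Fin n, φ' r.succ = g r := by intro r; rw [hg]
  have hvg : ∀ l, v P (g l) = WithZero.exp (-(J l : ℤ)) := by intro l; rw [← hφ's]; exact hvg' l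
  have hevg : ∀ l, v P (g l / t ^ J l - 1) < 1 := by intro l; rw [← hφ's]; exact hevg' l
  obtain ⟨jr, hjr⟩ : ∃ jr : Fin (n + 1) → ℕ, jr = Fin.cases 0 J := ⟨_, rfl⟩
  obtain ⟨ic, hic⟩ : ∃ ic : Fin (n + 1) → ℕ, ic = Fin.cases 0 I := ⟨_, rfl⟩
  have hjr0 : jr 0 = 0 := by rw [hjr]; rfl
  have hjrs : ∀ r : Fin n, jr r.succ = J r := by intro r; rw [hjr]; rfl
  have hic0 : ic 0 = 0 := by rw [hic]; rfl
  have hics : ∀ s : Fin n, ic s.succ = I s := by intro s; rw [hic]; rfl
  obtain ⟨M, hM⟩ : ∃ M, M = wrMat τ H φ' I := ⟨_, rfl⟩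
  rw [← hM]
  have hM0 : ∀ r, M r 0 = τ (φ' r) := by intro r; rw [hM]; rfl
  have hMs : ∀ r (s : Fin n), M r s.succ = LocRes.hasseD H (I s) (φ' r) := by
    intro r s; rw [hM]; rfl
  -- the scaled entries
  obtain ⟨w, hw⟩ : ∃ w : Fin (n + 1) → Fin (n + 1) → K,
    w = fun r c => (t ^ jr r)⁻¹ * (t ^ ic c * M r c) := ⟨_, rfl⟩
  have hu1 : ∀ l, v P (g l / t ^ J l) = 1 := fun l => v_eq_one_of_sub_one_lt P (hevg l)
  have hgl : ∀ l, g l = t ^ J l * (g l / t ^ J l) := by intro l; field_simp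
  -- the entries
  have hw00 : w 0 0 = 1 := by
    rw [hw]; simp only [hjr0, hic0, pow_zero, inv_one, one_mul, hM0, hφ'0, map_one]
  have hD1 : ∀ i : ℕ, LocRes.hasseD H i (1 : K) = if i = 0 then 1 else 0 := by
    intro i
    rw [LocRes.hasseD_apply, map_one, PowerSeries.coeff_one]
  have hw0s : ∀ s : Fin n, w 0 s.succ = if I s = 0 then 1 else 0 := by
    intro s
    rw [hw]; simp only [hjr0, hics, pow_zero, inv_one, one_mul, hMs, hφ'0, hD1]
    split_ifs with h
    · rw [h, pow_zero, one_mul]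
    · rw [mul_zero]
  have hwr0 : ∀ r : Fin n, w r.succ 0 = τ (g r) / t ^ J r := by
    intro r
    rw [hw]; simp only [hjrs, hic0, pow_zero, one_mul, hM0, hφ's]
    rw [div_eq_inv_mul]
  have hwrs : ∀ r s : Fin n, w r.succ s.succ =
      t ^ I s * LocRes.hasseD H (I s) (t ^ J r * (g r / t ^ J r)) / t ^ J r := by
    intro r s
    rw [hw]; simp only [hjrs, hics, hMs, hφ's]
    rw [← hgl r, div_eq_inv_mul]
  have hvτ : ∀ r : Fin n, v P (τ (g r) / t ^ J r) ≤ 1 := by
    intro r
    rw [map_div₀, he, hvg, map_pow, ht, ← WithZero.exp_nsmul, ← WithZero.exp_nsmul,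
      ← WithZero.exp_sub, ← WithZero.exp_zero, WithZero.exp_le_exp]
    simp only [smul_neg, nsmul_eq_mul, mul_one]
    have : (J r : ℤ) * 1 ≤ e * J r := by
      have h1 : (1 : ℤ) ≤ e := by exact_mod_cast he1
      nlinarith [Int.natCast_nonneg (J r)]
    linarith
  have hmono := fun (r s : Fin n) =>
    hasse_monomial hK P t ht H hH (J r) (I s) (g r / t ^ J r) (hu1 r).le
  have hwint : ∀ r c, v P (w r c) ≤ 1 := by
    intro r c
    induction r using Fin.cases with
    | zero =>
      induction c using Fin.cases with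
      | zero => rw [hw00, map_one]
      | succ s =>
        rw [hw0s]; split_ifs
        · rw [map_one]
        · rw [map_zero]; exact zero_le_one
    | succ r =>
      induction c using Fin.cases with
      | zero => rw [hwr0]; exact hvτ r
      | succ s => rw [hwrs]; exact (hmono r s).1
  obtain ⟨W, hW⟩ : ∃ W : Matrix (Fin (n + 1)) (Fin (n + 1)) P.O,
    W = Matrix.of fun r c => ⟨w r c, (mem_O_iff P _).2 (hwint r c)⟩ := ⟨_, rfl⟩
  have hWcoe : ∀ r c, ((W r c : P.O) : K) = w r c := by intro r c; rw [hW]; rfl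
  have hres : ∀ r c, IsLocalRing.residue P.O (W r c) = evalP P (w r c) := by
    intro r c
    rw [evalP_of_le P (hwint r c)]
    congr 1
    apply Subtype.ext
    rw [hWcoe]
  refine ⟨W, ?_, ?_, ?_, ?_, ?_⟩
  · -- the determinant
    have hdetW : ((W.det : P.O) : K) = (Matrix.of w).det := by
      have h1 : (W.det : P.O) = W.det := rfl
      have := RingHom.map_det P.O.subtype W
      rw [ValuationSubring.subtype_apply] at this
      rw [this]
      congr 1
      ext r c
      simp only [RingHom.mapMatrix_apply, Matrix.map_apply, ValuationSubring.subtype_apply,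
        Matrix.of_apply]
      exact hWcoe r c
    have hdet2 : (Matrix.of w).det = (∏ r, (t ^ jr r)⁻¹) * ((∏ c, t ^ ic c) * M.det) := by
      have e1 : (Matrix.of w) = Matrix.of fun r c => (t ^ jr r)⁻¹ *
          (Matrix.of fun r c => t ^ ic c * M r c) r c := by
        ext r c; rw [hw]; rfl
      rw [e1, Matrix.det_mul_column, Matrix.det_mul_row]
    rw [hdetW, hdet2, map_mul, map_mul, map_prod, map_prod]
    have h1 : ∀ r, v P ((t ^ jr r)⁻¹) = WithZero.exp ((jr r : ℤ)) := by
      intro r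
      rw [map_inv₀, map_pow, ht, ← WithZero.exp_nsmul, ← WithZero.exp_neg]
      simp
    have h2 : ∀ c, v P (t ^ ic c) = WithZero.exp (-(ic c : ℤ)) := by
      intro c
      rw [map_pow, ht, ← WithZero.exp_nsmul]
      simp
    simp only [h1, h2]
    rw [Fin.prod_univ_succ, Fin.prod_univ_succ (fun c => WithZero.exp (-(ic c : ℤ)))]
    simp only [hjr0, hjrs, hic0, hics, Nat.cast_zero, neg_zero, WithZero.exp_zero, one_mul]
    rw [prod_exp, prod_exp, ← mul_assoc, ← mul_assoc, ← WithZero.exp_add, ← WithZero.exp_add]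
    have e3 : -(∑ l, ((J l : ℤ) - I l)) + ∑ i, (J i : ℤ) + ∑ i, -(I i : ℤ) = 0 := by
      rw [Finset.sum_sub_distrib, Finset.sum_neg_distrib]; ring
    rw [e3, WithZero.exp_zero, one_mul]
  · rw [hres, hw00, evalP_one]
  · intro s
    rw [hres, hw0s]
    split_ifs
    · exact evalP_one P
    · exact evalP_zero P
  · intro hstrong r
    have he2 := two_le_of_isStrongFixedPt hstrong he
    rw [hres, hwr0]
    apply evalP_eq_zero_of_lt
    rw [map_div₀, he, hvg, map_pow, ht, ← WithZero.exp_nsmul, ← WithZero.exp_nsmul,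
      ← WithZero.exp_sub, ← WithZero.exp_zero, WithZero.exp_lt_exp]
    simp only [smul_neg, nsmul_eq_mul, mul_one]
    have : (2 : ℤ) * J r ≤ e * J r := by
      have h1 : (2 : ℤ) ≤ e := by exact_mod_cast he2
      nlinarith [Int.natCast_nonneg (J r)]
    have h2 : (1 : ℤ) ≤ J r := by exact_mod_cast hJpos r
    linarith
  · intro r s
    rw [hres, hwrs, (hmono r s).2, evalP_eq_one_of_sub_lt P (hevg r), mul_one]

end Groth.Agent.Lib.Helper26.HasseLocal5
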