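import Mathlib
import Groth.Agent.Lib.Helper26.HasseLocal5
import Groth.Agent.Lib.Helper3.Jumps
set_option autoImplicit false
open scoped WithZero IntermediateField PowerSeries
open FunFld
open Groth.Agent.Lib.Helper2.FF
open Groth.Agent.Lib.Helper26.FunFldAlgClosed
open Groth.Agent.Lib.Helper26.LocRing
open Groth.Agent.Lib.Helper26.HasseLocal
open Groth.Agent.Lib.Helper26.HasseLocal2
open Groth.Agent.Lib.Helper26.HasseLocal3
open Groth.Agent.Lib.Helper26.HasseLocal4
open Groth.Agent.Lib.Helper26.HasseLocal5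
open Groth.Agent.Lib.Helper3.Jumps

namespace Groth.Agent.Lib.Helper26.HasseLocal6

variable {k K : Type*} [Field k] [Field K] [Algebra k K]

open Polynomial in
theorem binom_rows_indep {F : Type*} [Field F] {m : ℕ} (d : Fin m → ℕ)
    (hd : Function.Injective d) (j0 B : ℕ) (hdB : ∀ r, d r ≤ B) (a : Fin m → F)
    (h : ∀ i ≤ B, ∑ r, a r * (((j0 + d r).choose i : ℕ) : F) = 0) : ∀ r, a r = 0 := by
  classical
  obtain ⟨R, hR⟩ : ∃ R : F[X], R = ∑ r, C (a r) * (X + 1) ^ d r := ⟨_, rfl⟩
  have hQ : X ^ (B + 1) ∣ (X + 1) ^ j0 * R := by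
    rw [Polynomial.X_pow_dvd_iff]
    intro i hi
    rw [hR, Finset.mul_sum, Polynomial.finsetSum_coeff]
    rw [← h i (by omega)]
    refine Finset.sum_congr rfl (fun r _ => ?_)
    rw [mul_left_comm, ← pow_add, Polynomial.coeff_C_mul, Polynomial.coeff_X_add_one_pow]
  have hcop : IsCoprime ((X : F[X]) ^ (B + 1)) ((X + 1) ^ j0) := by
    apply IsCoprime.pow
    exact ⟨-1, 1, by ring⟩
  have hdvd : X ^ (B + 1) ∣ R := hcop.dvd_of_dvd_mul_left hQ
  have hdeg : R.natDegree ≤ B := by
    rw [hR]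
    apply Polynomial.natDegree_sum_le_of_forall_le
    intro r _
    refine (Polynomial.natDegree_C_mul_le _ _).trans ?_
    refine (Polynomial.natDegree_pow_le).trans ?_
    have : ((X : F[X]) + 1).natDegree ≤ 1 := by
      rw [← C_1]; exact (natDegree_X_add_C (1 : F)).le
    calc d r * (X + 1 : F[X]).natDegree ≤ d r * 1 := Nat.mul_le_mul_left _ this
      _ = d r := mul_one _
      _ ≤ B := hdB r
  have hR0 : R = 0 := by
    apply Polynomial.eq_zero_of_dvd_of_natDegree_lt hdvd
    rw [natDegree_X_pow]; omega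
  have hT : Polynomial.taylor 1 (∑ r, C (a r) * X ^ d r) = 0 := by
    rw [map_sum, ← hR0, hR]
    refine Finset.sum_congr rfl (fun r _ => ?_)
    rw [Polynomial.taylor_mul, Polynomial.taylor_C, Polynomial.taylor_pow, Polynomial.taylor_X, C_1]
  have hS : (∑ r, C (a r) * X ^ d r : F[X]) = 0 := by
    apply Polynomial.taylor_injective (1 : F)
    rw [hT, map_zero]
  intro r0
  have := congrArg (fun p : F[X] => p.coeff (d r0)) hS
  simp only [Polynomial.finsetSum_coeff, Polynomial.coeff_C_mul, Polynomial.coeff_X_pow,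
    Polynomial.coeff_zero] at this
  rw [Finset.sum_eq_single r0] at this
  · simpa using this
  · intro r _ hr
    rw [if_neg, mul_zero]
    intro he
    exact hr (hd he.symm)
  · intro h; exact absurd (Finset.mem_univ _) h

/-- rows of an integral matrix are independent if the rows of its reduction are -/
theorem rows_indep_of_residue (P : FunFld.Place k K) {a b : ℕ} (S : Fin a → Fin b → P.O)
    (hres : LinearIndependent (IsLocalRing.ResidueField P.O)
      (fun r : Fin a => fun m : Fin b => IsLocalRing.residue P.O (S r m))) :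
    LinearIndependent K (fun r : Fin a => fun m : Fin b => ((S r m : P.O) : K)) := by
  classical
  rw [Fintype.linearIndependent_iff]
  intro lam hlam
  by_contra hne
  push Not at hne
  obtain ⟨r1, hr1⟩ := hne
  obtain ⟨r0, -, hr0⟩ := Finset.exists_max_image Finset.univ (fun r => v P (lam r))
    ⟨r1, Finset.mem_univ _⟩
  have hl0 : lam r0 ≠ 0 := by
    intro h0
    have := hr0 r1 (Finset.mem_univ _)
    rw [h0, map_zero] at this
    exact hr1 ((map_eq_zero (v P)).1 (le_antisymm this zero_le))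
  have hmu : ∀ r, v P (lam r / lam r0) ≤ 1 := by
    intro r
    rw [map_div₀]
    exact div_le_one_of_le₀ (hr0 r (Finset.mem_univ _)) zero_le
  obtain ⟨mu, hmu'⟩ : ∃ mu : Fin a → P.O, ∀ r, ((mu r : P.O) : K) = lam r / lam r0 :=
    ⟨fun r => ⟨lam r / lam r0, (mem_O_iff P _).2 (hmu r)⟩, fun r => rfl⟩
  have hsum : ∀ m, ∑ r, mu r * S r m = 0 := by
    intro m
    apply Subtype.ext
    have h1 := congrFun hlam m
    simp only [Finset.sum_apply, Pi.smul_apply, smul_eq_mul, Pi.zero_apply] at h1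
    have : ((∑ r, mu r * S r m : P.O) : K) = ∑ r, ((mu r : P.O) : K) * ((S r m : P.O) : K) := by
      rw [← ValuationSubring.subtype_apply, map_sum]
      rfl
    rw [this]
    simp only [hmu']
    rw [ZeroMemClass.coe_zero]
    calc ∑ r, lam r / lam r0 * ((S r m : P.O) : K)
        = (lam r0)⁻¹ * ∑ r, lam r * ((S r m : P.O) : K) := by
          rw [Finset.mul_sum]
          refine Finset.sum_congr rfl (fun r _ => by ring)
      _ = 0 := by rw [h1, mul_zero]
  have h2 := Fintype.linearIndependent_iff.1 hres (fun r => IsLocalRing.residue P.O (mu r)) (by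
    funext m
    simp only [Finset.sum_apply, Pi.smul_apply, smul_eq_mul, Pi.zero_apply]
    rw [← map_zero (IsLocalRing.residue P.O), ← hsum m, map_sum]
    refine Finset.sum_congr rfl (fun r _ => by rw [map_mul])) r0
  have h3 : mu r0 = 1 := by
    apply Subtype.ext
    rw [hmu', div_self hl0]; rfl
  rw [h3, map_one] at h2
  exact one_ne_zero h2

/-- row independence is insensitive to scaling rows and columns -/
theorem rows_indep_of_scaled {a b : ℕ} (M S : Fin a → Fin b → K) (x : Fin a → K) (y : Fin b → K)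
    (hx : ∀ r, x r ≠ 0) (hS : ∀ r m, S r m = x r * (y m * M r m))
    (hind : LinearIndependent K S) : LinearIndependent K M := by
  classical
  rw [Fintype.linearIndependent_iff] at hind ⊢
  intro lam hlam r
  have h1 := hind (fun r => lam r / x r) (by
    funext m
    have h1 := congrFun hlam m
    simp only [Finset.sum_apply, Pi.smul_apply, smul_eq_mul, Pi.zero_apply] at h1 ⊢
    calc ∑ r, lam r / x r * S r m = y m * ∑ r, lam r * M r m := by
          rw [Finset.mul_sum]
          refine Finset.sum_congr rfl (fun r _ => ?_)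
          rw [hS]
          have := hx r
          field_simp
      _ = 0 := by rw [h1, mul_zero]) r
  have := hx r
  rw [div_eq_zero_iff] at h1
  tauto

theorem order_le_of_le_finrank {R M : Type*} [Field R] [AddCommGroup M] [Module R M] (c : ℕ → M)
    {n : ℕ} (J : Fin n → ℕ) (hJ : IsOrders R c J) (l : Fin n) (B : ℕ)
    (h : l.val + 2 ≤ Module.finrank R (Submodule.span R (c '' Set.Iio (B + 2)))) : J l ≤ B := by
  classical
  by_contra hlt
  push Not at hlt
  rw [finrank_span_Iio] at h
  have hsub : jumpsBelow (R := R) c (B + 2) ⊆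
      insert 0 ((Finset.Iio l).image (fun l'' => J l'' + 1)) := by
    intro j hj
    rw [mem_jumpsBelow] at hj
    obtain ⟨hj1, hj2⟩ := hj
    rcases Nat.eq_zero_or_pos j with rfl | hpos
    · exact Finset.mem_insert_self _ _
    · obtain ⟨j', rfl⟩ : ∃ j', j = j' + 1 := ⟨j - 1, by omega⟩
      apply Finset.mem_insert_of_mem
      obtain ⟨l'', rfl⟩ := (hJ.2 j').2 hj2
      refine Finset.mem_image.2 ⟨l'', ?_, rfl⟩
      rw [Finset.mem_Iio]
      apply hJ.1.lt_iff_lt.1
      omega
  have h1 := Finset.card_le_card hsub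
  have h2 := Finset.card_insert_le 0 ((Finset.Iio l).image (fun l'' => J l'' + 1))
  have h3 := Finset.card_image_le (s := Finset.Iio l) (f := fun l'' => J l'' + 1)
  rw [Fin.card_Iio] at h3
  omega

/-- the scaled rectangular matrix `[τ | D^0 | … | D^B]` of `(1, g)` at a strong fixed point -/
theorem scaled_rows_indep [IsAlgClosed k] (hK : IsFunctionField k K) (τ : K →ₐ[k] K)
    (P : FunFld.Place k K) (hP : IsStrongFixedPt τ P) (t : K)
    (ht : v P t = WithZero.exp (-1 : ℤ)) (H : K →ₐ[k] K⟦X⟧) (hH : LocRes.IsHasseFamily t H)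
    {m : ℕ} (Jr : Fin m → ℕ) (hJr : StrictMono Jr) (j0 B : ℕ) (hj0 : 1 ≤ j0)
    (hJr0 : ∀ r, j0 ≤ Jr r) (hJrB : ∀ r, Jr r ≤ j0 + B)
    (ψ : Fin (m + 1) → K) (hψ0 : ψ 0 = 1)
    (hvg : ∀ r : Fin m, v P (ψ r.succ) = WithZero.exp (-(Jr r : ℤ)))
    (hevg : ∀ r : Fin m, v P (ψ r.succ / t ^ Jr r - 1) < 1) :
    LinearIndependent K (fun (r : Fin (m + 1)) (c : Fin (B + 1 + 1)) => hcol τ H ψ c r) := by
  classical
  have ht0 : t ≠ 0 := by
    intro h; rw [h, map_zero] at ht; exact WithZero.exp_ne_zero ht.symm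
  have htP : v P t < 1 := by rw [ht, ← WithZero.exp_zero, WithZero.exp_lt_exp]; norm_num
  have hPf : IsFixedPt τ P := by
    intro z hz
    refine lt_of_le_of_lt (hP z hz) ?_
    rw [← WithZero.exp_zero, WithZero.exp_lt_exp]; norm_num
  obtain ⟨e, he1, he⟩ := exists_pow_of_isFixedPt hK τ P hPf
  have he2 := two_le_of_isStrongFixedPt hP he
  obtain ⟨g, hg⟩ : ∃ g : Fin m → K, g = fun l => ψ l.succ := ⟨_, rfl⟩
  have hψs : ∀ r : Fin m, ψ r.succ = g r := by intro r; rw [hg]
  have hvg : ∀ l, v P (g l) = WithZero.exp (-(Jr l : ℤ)) := by intro l; rw [← hψs]; exact hvg l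
  have hevg : ∀ l, v P (g l / t ^ Jr l - 1) < 1 := by intro l; rw [← hψs]; exact hevg l
  obtain ⟨jr, hjr⟩ : ∃ jr : Fin (m + 1) → ℕ, jr = Fin.cases 0 Jr := ⟨_, rfl⟩
  obtain ⟨ic, hic⟩ : ∃ ic : Fin (B + 1 + 1) → ℕ, ic = Fin.cases 0 (fun i => i.val) := ⟨_, rfl⟩
  have hjr0 : jr 0 = 0 := by rw [hjr]; rfl
  have hjrs : ∀ r : Fin m, jr r.succ = Jr r := by intro r; rw [hjr]; rfl
  have hic0 : ic 0 = 0 := by rw [hic]; rfl
  have hics : ∀ s : Fin (B + 1), ic s.succ = s.val := by intro s; rw [hic]; rfl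
  obtain ⟨M, hM⟩ : ∃ M : Fin (m + 1) → Fin (B + 1 + 1) → K,
    M = fun r (c : Fin (B + 1 + 1)) => hcol τ H ψ c.val r := ⟨_, rfl⟩
  rw [← hM]
  have hM0 : ∀ r, M r 0 = τ (ψ r) := by intro r; rw [hM]; rfl
  have hMs : ∀ r (s : Fin (B + 1)), M r s.succ = LocRes.hasseD H s.val (ψ r) := by
    intro r s; rw [hM]; rfl
  obtain ⟨w, hw⟩ : ∃ w : Fin (m + 1) → Fin (B + 1 + 1) → K,
    w = fun r c => (t ^ jr r)⁻¹ * (t ^ ic c * M r c) := ⟨_, rfl⟩
  apply rows_indep_of_scaled M w (fun r => (t ^ jr r)⁻¹) (fun c => t ^ ic c)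
    (fun r => inv_ne_zero (pow_ne_zero _ ht0)) (fun r c => by rw [hw])
  have hu1 : ∀ l, v P (g l / t ^ Jr l) = 1 := fun l => v_eq_one_of_sub_one_lt P (hevg l)
  have hgl : ∀ l, g l = t ^ Jr l * (g l / t ^ Jr l) := by intro l; field_simp
  have hw00 : w 0 0 = 1 := by
    rw [hw]; simp only [hjr0, hic0, pow_zero, inv_one, one_mul, hM0, hψ0, map_one]
  have hD1 : ∀ i : ℕ, LocRes.hasseD H i (1 : K) = if i = 0 then 1 else 0 := by
    intro i
    rw [LocRes.hasseD_apply, map_one, PowerSeries.coeff_one]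
  have hw0s : ∀ s : Fin (B + 1), w 0 s.succ = if s.val = 0 then 1 else 0 := by
    intro s
    rw [hw]; simp only [hjr0, hics, pow_zero, inv_one, one_mul, hMs, hψ0, hD1]
    split_ifs with h
    · rw [h, pow_zero, one_mul]
    · rw [mul_zero]
  have hwr0 : ∀ r : Fin m, w r.succ 0 = τ (g r) / t ^ Jr r := by
    intro r
    rw [hw]; simp only [hjrs, hic0, pow_zero, one_mul, hM0, hψs]
    rw [div_eq_inv_mul]
  have hwrs : ∀ (r : Fin m) (s : Fin (B + 1)), w r.succ s.succ =
      t ^ s.val * LocRes.hasseD H s.val (t ^ Jr r * (g r / t ^ Jr r)) / t ^ Jr r := by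
    intro r s
    rw [hw]; simp only [hjrs, hics, hMs, hψs]
    rw [← hgl r, div_eq_inv_mul]
  have hJpos : ∀ r, 1 ≤ Jr r := fun r => hj0.trans (hJr0 r)
  have hvτ : ∀ r : Fin m, v P (τ (g r) / t ^ Jr r) < 1 := by
    intro r
    rw [map_div₀, he, hvg, map_pow, ht, ← WithZero.exp_nsmul, ← WithZero.exp_nsmul,
      ← WithZero.exp_sub, ← WithZero.exp_zero, WithZero.exp_lt_exp]
    simp only [smul_neg, nsmul_eq_mul, mul_one]
    have : (2 : ℤ) * Jr r ≤ e * Jr r := by
      have h1 : (2 : ℤ) ≤ e := by exact_mod_cast he2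
      nlinarith [Int.natCast_nonneg (Jr r)]
    have h2 : (1 : ℤ) ≤ Jr r := by exact_mod_cast hJpos r
    linarith
  have hmono := fun (r : Fin m) (s : Fin (B + 1)) =>
    hasse_monomial hK P t ht H hH (Jr r) s.val (g r / t ^ Jr r) (hu1 r).le
  have hwint : ∀ r c, v P (w r c) ≤ 1 := by
    intro r c
    induction r using Fin.cases with
    | zero =>
      induction c using Fin.cases with
      | zero => rw [hw00, map_one]
      | succ s =>
        rw [hw0s]; split_ifs
        · rw [map_one]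
        · rw [map_zero]; exact zero_le_one
    | succ r =>
      induction c using Fin.cases with
      | zero => rw [hwr0]; exact (hvτ r).le
      | succ s => rw [hwrs]; exact (hmono r s).1
  obtain ⟨W, hW⟩ : ∃ W : Fin (m + 1) → Fin (B + 1 + 1) → P.O,
    W = fun r c => ⟨w r c, (mem_O_iff P _).2 (hwint r c)⟩ := ⟨_, rfl⟩
  have hWcoe : ∀ r c, ((W r c : P.O) : K) = w r c := by intro r c; rw [hW]
  have hres : ∀ r c, IsLocalRing.residue P.O (W r c) = evalP P (w r c) := by
    intro r c
    rw [evalP_of_le P (hwint r c)]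
    congr 1
    apply Subtype.ext
    rw [hWcoe]
  have hwW : w = fun r c => ((W r c : P.O) : K) := by
    funext r c; rw [hWcoe]
  rw [hwW]
  apply rows_indep_of_residue P W
  rw [Fintype.linearIndependent_iff]
  intro a ha
  have hcol : ∀ c, ∑ r, a r * IsLocalRing.residue P.O (W r c) = 0 := by
    intro c
    have := congrFun ha c
    simpa only [Finset.sum_apply, Pi.smul_apply, smul_eq_mul, Pi.zero_apply] using this
  have hr00 : IsLocalRing.residue P.O (W 0 0) = 1 := by rw [hres, hw00, evalP_one]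
  have hrr0 : ∀ r : Fin m, IsLocalRing.residue P.O (W r.succ 0) = 0 := by
    intro r; rw [hres, hwr0]; exact evalP_eq_zero_of_lt P (hvτ r)
  have hr0s : ∀ s : Fin (B + 1), IsLocalRing.residue P.O (W 0 s.succ) =
      if s.val = 0 then 1 else 0 := by
    intro s
    rw [hres, hw0s]
    split_ifs
    · exact evalP_one P
    · exact evalP_zero P
  have hrrs : ∀ (r : Fin m) (s : Fin (B + 1)), IsLocalRing.residue P.O (W r.succ s.succ) =
      (((Jr r).choose s.val : ℕ) : IsLocalRing.ResidueField P.O) := by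
    intro r s
    rw [hres, hwrs, (hmono r s).2, evalP_eq_one_of_sub_lt P (hevg r), mul_one]
  have ha0 : a 0 = 0 := by
    have := hcol 0
    rw [Fin.sum_univ_succ, hr00, mul_one] at this
    simp only [hrr0, mul_zero, Finset.sum_const_zero, add_zero] at this
    exact this
  have hrest : ∀ r : Fin m, a r.succ = 0 := by
    apply binom_rows_indep (fun r => Jr r - j0) ?_ j0 B ?_ (fun r => a r.succ)
    · intro i hi
      have := hcol (Fin.succ ⟨i, by omega⟩)
      rw [Fin.sum_univ_succ, ha0, zero_mul, zero_add] at this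
      rw [← this]
      refine Finset.sum_congr rfl (fun r _ => ?_)
      rw [hrrs]
      have : j0 + (Jr r - j0) = Jr r := by have := hJr0 r; omega
      rw [this]
    · intro r1 r2 h12
      apply hJr.injective
      have h1 := hJr0 r1
      have h2 := hJr0 r2
      simp only at h12
      omega
    · intro r
      have := hJrB r
      omega
  intro r
  induction r using Fin.cases with
  | zero => exact ha0
  | succ r => exact hrest r

/-- the columns `hcol` under a linear change of the tuple -/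
theorem hcol_change {n : ℕ} (τ : K →ₐ[k] K) (H : K →ₐ[k] K⟦X⟧) (φ φ' : Fin (n + 1) → K)
    (A : Matrix (Fin (n + 1)) (Fin (n + 1)) k) (hA : ∀ i, φ' i = ∑ j, A i j • φ j)
    (m : ℕ) (i : Fin (n + 1)) :
    hcol τ H φ' m i = ∑ j, algebraMap k K (A i j) * hcol τ H φ m j := by
  cases m with
  | zero =>
    simp only [hcol]
    rw [hA i, map_sum]
    refine Finset.sum_congr rfl (fun j _ => ?_)
    rw [map_smul, Algebra.smul_def]
  | succ m =>
    simp only [hcol, LocRes.hasseD_apply]
    rw [hA i, map_sum, map_sum]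
    refine Finset.sum_congr rfl (fun j _ => ?_)
    rw [map_smul, Algebra.smul_def, ← PowerSeries.coeff_C_mul]
    congr 1
    rw [PowerSeries.algebraMap_apply]

end Groth.Agent.Lib.Helper26.HasseLocal6
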