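import Mathlib
import Groth.Agent.Lib.Helper26.HasseLocal6
import Groth.Agent.Lib.Helper2.FunFld.MapDiv
set_option autoImplicit false
open scoped WithZero IntermediateField PowerSeries LaurentSeries
open FunFld
open Groth.Agent.Lib.Helper2.FF
open Groth.Agent.Lib.Helper26.FunFldAlgClosed
open Groth.Agent.Lib.Helper26.LocRing
open Groth.Agent.Lib.Helper26.HasseLocal
open Groth.Agent.Lib.Helper26.HasseLocal2
open Groth.Agent.Lib.Helper26.HasseLocal3
open Groth.Agent.Lib.Helper26.HasseLocal4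
open Groth.Agent.Lib.Helper26.HasseLocal5
open Groth.Agent.Lib.Helper26.HasseLocal6
open Groth.Agent.Lib.Helper3.Jumps

namespace Groth.Agent.Lib.Helper26.HasseLocal7

variable {k K : Type*} [Field k] [Field K] [Algebra k K]

/-- the derivative of a Laurent series of order `1` has order `0` -/
theorem valued_D_eq_one {F : Type*} [Field F] (f : F⸨X⸩)
    (hf : Valued.v f = WithZero.exp (-1 : ℤ)) : Valued.v (LocRes.D F f) = 1 := by
  have h1 : ∀ n : ℤ, n < 1 → f.coeff n = 0 :=
    (LaurentSeries.valuation_le_iff_coeff_lt_eq_zero F).1 hf.le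
  have h2 : f.coeff 1 ≠ 0 := by
    intro h0
    have : Valued.v f ≤ WithZero.exp (-2 : ℤ) := by
      rw [LaurentSeries.valuation_le_iff_coeff_lt_eq_zero F]
      intro n hn
      rcases lt_or_eq_of_le (show n ≤ 1 by omega) with h | h
      · exact h1 n h
      · rw [h]; exact h0
    rw [hf, WithZero.exp_le_exp] at this
    omega
  have h3 : Valued.v (LocRes.D F f) ≤ WithZero.exp (-0 : ℤ) := by
    rw [LaurentSeries.valuation_le_iff_coeff_lt_eq_zero F]
    intro n hn
    rw [LocRes.D_coeff, h1 (n + 1) (by omega), smul_zero]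
  have h4 : ¬ Valued.v (LocRes.D F f) ≤ WithZero.exp (-1 : ℤ) := by
    rw [LaurentSeries.valuation_le_iff_coeff_lt_eq_zero F]
    intro h
    have := h 0 (by norm_num)
    rw [LocRes.D_coeff] at this
    simp only [zero_add, one_smul] at this
    exact h2 this
  rw [neg_zero, WithZero.exp_zero] at h3
  apply le_antisymm h3
  by_contra hlt
  push Not at hlt
  apply h4
  have hne : Valued.v (LocRes.D F f) ≠ 0 := by
    intro h0; apply h4; rw [h0]; exact zero_le
  obtain ⟨m, hm⟩ : ∃ m : ℤ, Valued.v (LocRes.D F f) = WithZero.exp m :=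
    ⟨WithZero.log _, (WithZero.exp_log hne).symm⟩
  rw [hm] at hlt ⊢
  rw [← WithZero.exp_zero, WithZero.exp_lt_exp] at hlt
  rw [WithZero.exp_le_exp]
  omega

theorem ordDiff_one_uniformizer {F : Type*} [Field F] [Algebra k F]
    (w : Valuation K ℤᵐ⁰) (Φ : K →ₐ[k] F⸨X⸩) (hΦ : LocRes.IsExpansionAt w Φ) (t : K)
    (ht : w t = WithZero.exp (-1 : ℤ)) : LocRes.ordDiff Φ 1 t = 0 := by
  unfold LocRes.ordDiff LocRes.vDiff
  rw [map_one, one_mul, valued_D_eq_one (Φ t) (by rw [hΦ.1 t, ht]), WithZero.log_one, neg_zero]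

theorem divDiff_apply_uniformizer (Φ : Place k K → (K →ₐ[k] LaurentSeries k))
    (hΦ : ∀ P : FunFld.Place k K, LocRes.IsExpansionAt P.1 (Φ P)) (P : FunFld.Place k K) (t : K)
    (ht : P.1 t = WithZero.exp (-1 : ℤ)) : divDiff Φ 1 t P = 0 := by
  classical
  unfold divDiff
  split_ifs with h
  · rw [Finsupp.ofSupportFinite_coe]
    exact ordDiff_one_uniformizer P.1 (Φ P) (hΦ P) t ht
  · rfl

/-- an effective tuple normalized at `P` has an entry that is a unit at `P` -/
theorem exists_v_eq_one_of_eff (P : FunFld.Place k K) {ι : Type*} [Fintype ι] (φ : ι → K)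
    (heff : (1 : K) ∈ Submodule.span k (Set.range φ)) (hnorm : ∀ i, v P (φ i) ≤ 1) :
    ∃ i, v P (φ i) = 1 := by
  by_contra hne
  push Not at hne
  have hlt : ∀ i, v P (φ i) < 1 := fun i => lt_of_le_of_ne (hnorm i) (hne i)
  obtain ⟨c, hc⟩ := (Submodule.mem_span_range_iff_exists_fun k).1 heff
  have h1 : v P (∑ i, c i • φ i) < 1 := by
    apply Valuation.map_sum_lt _ one_ne_zero
    intro i _
    exact lt_of_le_of_lt (v_smul_le P (c i) (φ i)) (hlt i)
  rw [hc, map_one] at h1
  exact lt_irrefl _ h1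

theorem mapDiv_apply_eq_zero (hK : IsFunctionField k K) (P : FunFld.Place k K) {ι : Type*}
    [Fintype ι] [Nonempty ι] (ψ : ι → K) (hint : ∀ i, v P (ψ i) ≤ 1) (h1 : ∃ i, v P (ψ i) = 1) :
    mapDiv k ψ P = 0 := by
  rw [mapDiv_apply ⟨hK.1.choose, hK.1.choose_spec⟩, neg_eq_zero]
  apply le_antisymm
  · obtain ⟨i, hi⟩ := h1
    refine (Finset.inf'_le _ (Finset.mem_univ i)).trans ?_
    change -WithZero.log (P.1 (ψ i)) ≤ 0
    have : P.1 (ψ i) = 1 := hi
    rw [this, WithZero.log_one, neg_zero]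
  · rw [Finset.le_inf'_iff]
    intro i _
    change 0 ≤ -WithZero.log (P.1 (ψ i))
    rw [neg_nonneg]
    by_cases h0 : P.1 (ψ i) = 0
    · rw [h0, WithZero.log_zero]
    · rw [WithZero.log_le_iff_le_exp h0, WithZero.exp_zero]
      exact hint i

theorem wDiv_apply_fixedPt [IsAlgClosed k] (hK : IsFunctionField k K) (τ : K →ₐ[k] K)
    (P : FunFld.Place k K) (hP : IsFixedPt τ P) {n : ℕ} (φ : Fin (n + 1) → K)
    (heff : (1 : K) ∈ Submodule.span k (Set.range φ)) (hnorm : ∀ i, v P (φ i) ≤ 1)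
    (t : K) (ht : v P t = WithZero.exp (-1 : ℤ)) (H : K →ₐ[k] K⟦X⟧)
    (Φ : Place k K → (K →ₐ[k] LaurentSeries k))
    (hΦ : ∀ P : FunFld.Place k K, LocRes.IsExpansionAt P.1 (Φ P)) (J : Fin n → ℕ) :
    wDiv τ H Φ t φ J P = P.ord (wrMat τ H φ J).det := by
  obtain ⟨e, he1, he⟩ := exists_pow_of_isFixedPt hK τ P hP
  obtain ⟨i0, hi0⟩ := exists_v_eq_one_of_eff P φ heff hnorm
  unfold wDiv
  rw [Finsupp.add_apply, Finsupp.add_apply, Finsupp.add_apply, Finsupp.smul_apply,
    Finsupp.smul_apply, divDiff_apply_uniformizer Φ hΦ P t ht, div_apply hK,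
    mapDiv_apply_eq_zero hK P φ hnorm ⟨i0, hi0⟩,
    mapDiv_apply_eq_zero hK P (τ ∘ φ) (fun i => by
      rw [Function.comp_apply, he]; exact pow_le_one₀ zero_le (hnorm i))
      ⟨i0, by rw [Function.comp_apply, he, hi0, one_pow]⟩]
  simp

/-- the jump columns of an order sequence are linearly independent -/
theorem linearIndependent_jump_cols {R M : Type*} [Field R] [AddCommGroup M] [Module R M]
    (c : ℕ → M) {n : ℕ} (J : Fin n → ℕ) (hJ : IsOrders R c J) (h0 : c 0 ≠ 0) :
    LinearIndependent R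
      (fun i : Fin (n + 1) => c (Fin.cases (motive := fun _ => ℕ) 0 (fun l => J l + 1) i)) := by
  classical
  obtain ⟨idx, hidx⟩ : ∃ idx : Fin (n + 1) → ℕ,
    idx = fun i => Fin.cases (motive := fun _ => ℕ) 0 (fun l => J l + 1) i := ⟨_, rfl⟩
  have hidx0 : idx 0 = 0 := by rw [hidx]; rfl
  have hidxs : ∀ l : Fin n, idx l.succ = J l + 1 := by intro l; rw [hidx]; rfl
  change LinearIndependent R (fun i => c ((fun i => Fin.cases (motive := fun _ => ℕ) 0
    (fun l => J l + 1) i) i))
  rw [← hidx]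
  obtain ⟨N, hN⟩ : ∃ N, ∀ i, idx i < N :=
    ⟨Finset.univ.sup idx + 1, fun i => Nat.lt_succ_of_le (Finset.le_sup (Finset.mem_univ i))⟩
  have hjump : ∀ i, IsJump R c (idx i) := by
    intro i
    induction i using Fin.cases with
    | zero =>
      rw [hidx0]
      unfold IsJump
      have : Set.Iio (0 : ℕ) = ∅ := by ext; simp
      rw [this, Set.image_empty, Submodule.span_empty, Submodule.mem_bot]
      exact h0
    | succ l =>
      rw [hidxs]
      exact (hJ.2 (J l)).1 ⟨l, rfl⟩
  have hinj : Function.Injective idx := by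
    intro i1 i2 h12
    induction i1 using Fin.cases with
    | zero =>
      induction i2 using Fin.cases with
      | zero => rfl
      | succ l2 => rw [hidx0, hidxs] at h12; omega
    | succ l1 =>
      induction i2 using Fin.cases with
      | zero => rw [hidx0, hidxs] at h12; omega
      | succ l2 =>
        rw [hidxs, hidxs] at h12
        rw [hJ.1.injective (by omega : J l1 = J l2)]
  have h := linearIndepOn_jumpsBelow (R := R) c N
  have h2 : LinearIndependent R (fun x : (jumpsBelow (R := R) c N : Set ℕ) => c x) := h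
  have h3 := h2.comp (fun i : Fin (n + 1) =>
    (⟨idx i, Finset.mem_coe.2 ((mem_jumpsBelow c).2 ⟨hN i, hjump i⟩)⟩ :
      (jumpsBelow (R := R) c N : Set ℕ))) (by
    intro i1 i2 h12
    apply hinj
    exact congrArg Subtype.val h12)
  exact h3

/-- the Wronskian at the order sequence is nonzero -/
theorem det_wrMat_ne_zero_of_isOrders {n : ℕ} (τ : K →ₐ[k] K) (H : K →ₐ[k] K⟦X⟧)
    (φ : Fin (n + 1) → K) (hφ : ∃ i, φ i ≠ 0) (J : Fin n → ℕ)
    (hJ : IsOrders K (hcol τ H φ) J) : (wrMat τ H φ J).det ≠ 0 := by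
  have h0 : hcol τ H φ 0 ≠ 0 := by
    obtain ⟨i, hi⟩ := hφ
    intro h
    have h1 : τ (φ i) = 0 := congrFun h i
    exact hi ((map_eq_zero τ).1 h1)
  have hind := linearIndependent_jump_cols (hcol τ H φ) J hJ h0
  have hcols : LinearIndependent K (wrMat τ H φ J).col := by
    have h2 : (wrMat τ H φ J).col = fun i : Fin (n + 1) =>
        hcol τ H φ (Fin.cases (motive := fun _ => ℕ) 0 (fun l => J l + 1) i) := by
      funext i
      exact wrMat_col τ H φ J i
    rw [h2]
    exact hind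
  have hunit := Matrix.linearIndependent_cols_iff_isUnit.1 hcols
  exact ((Matrix.isUnit_iff_isUnit_det _).1 hunit).ne_zero

end Groth.Agent.Lib.Helper26.HasseLocal7
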