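import Mathlib
import Groth.Agent.Lib.Helper26.HasseLocal7
import Groth.Agent.Lib.Helper26.HasseChange
import Groth.Agent.Lib.Helper26.PlaneModel2
import Groth.Agent.Lib.Helper2.FunFld.Ramif
import Groth.Agent.Lib.Helper2.FunFld.Gaps
import Groth.Agent.Lib.Helper2.FunFld.MapDiv
set_option autoImplicit false
open scoped WithZero IntermediateField PowerSeries LaurentSeries
open FunFld
open Groth.Agent.Lib.Helper2.FF
open Groth.Agent.Lib.Helper26.HasseLocal
open Groth.Agent.Lib.Helper26.HasseLocal7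
open Groth.Agent.Lib.Helper26.HasseChange

/-! # Divisors of differentials `ds` read through Laurent expansions: finiteness, chain rule -/

namespace Groth.Agent.Lib.Helper26.DiffDiv

variable {k K : Type*} [Field k] [Field K] [Algebra k K]

/-- at an unramified place where `s` is regular, `s - s(P)` is a local parameter -/
theorem exists_uniformizer_sub [IsAlgClosed k] (hK : IsFunctionField k K) {s : K}
    (hs : Transcendental k s) (Q : FunFld.Place k K) (hQs : v Q s ≤ 1)
    (hsurj : Function.Surjective (Q.1.comap (algebraMap k⟮s⟯ K))) :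
    ∃ a : k, v Q (s - algebraMap k K a) = WithZero.exp (-1 : ℤ) := by
  classical
  have hF : IsFunctionField k k⟮s⟯ := Groth.Agent.Lib.Helper26.PlaneModel2.isFunctionField_adjoin hK hs
  obtain ⟨a, ha⟩ := exists_sub_lt_one Q (deg_eq_one_of_isAlgClosed hK Q) hQs
  refine ⟨a, ?_⟩
  obtain ⟨P, hP⟩ : ∃ P : FunFld.Place k k⟮s⟯, P.1 = Q.1.comap (algebraMap k⟮s⟯ K) :=
    ⟨⟨Q.1.comap (algebraMap k⟮s⟯ K), ⟨fun c => by
      rw [Valuation.comap_apply, ← IsScalarTower.algebraMap_apply]; exact Q.2.1 c, hsurj⟩⟩, rfl⟩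
  have hPv : ∀ z : k⟮s⟯, v P z = v Q (algebraMap k⟮s⟯ K z) := by
    intro z
    change P.1 z = _
    rw [hP]; rfl
  have hmem : s - algebraMap k K a ∈ k⟮s⟯ :=
    sub_mem (IntermediateField.mem_adjoin_simple_self k s) (IntermediateField.algebraMap_mem _ a)
  obtain ⟨x, hx⟩ : ∃ x : k⟮s⟯, x = ⟨s - algebraMap k K a, hmem⟩ := ⟨_, rfl⟩
  have hxK : algebraMap k⟮s⟯ K x = s - algebraMap k K a := by rw [hx]; rfl
  have hxtr' : Transcendental k (s - algebraMap k K a) := by
    intro h
    apply hs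
    have := h.add (isAlgebraic_algebraMap (R := k) (A := K) a)
    rwa [sub_add_cancel] at this
  have hxtr : Transcendental k x := by
    intro h
    apply hxtr'
    have := h.algebraMap (A := K)
    rwa [hxK] at this
  have htop : k⟮x⟯ = ⊤ := by
    apply IntermediateField.map_injective (IntermediateField.val k⟮s⟯)
    rw [IntermediateField.adjoin_map, Set.image_singleton]
    simp only [IntermediateField.coe_val]
    rw [← AlgHom.fieldRange_eq_map, IntermediateField.fieldRange_val]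
    have : ((x : k⟮s⟯) : K) = s - algebraMap k K a := hxK
    rw [this]
    apply le_antisymm
    · rw [IntermediateField.adjoin_simple_le_iff]; exact hmem
    · rw [IntermediateField.adjoin_simple_le_iff]
      have h1 : s - algebraMap k K a ∈ k⟮s - algebraMap k K a⟯ :=
        IntermediateField.mem_adjoin_simple_self k _
      have h2 := add_mem h1 (IntermediateField.algebraMap_mem k⟮s - algebraMap k K a⟯ a)
      rwa [sub_add_cancel] at h2
  have hx0 : x ≠ 0 := by
    rintro h0
    apply hxtr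
    rw [h0]; exact isAlgebraic_zero
  have hdeg : (zdiv (k := k) x).deg = 1 := by
    rw [deg_zdiv hF hxtr, htop, IntermediateField.finrank_top]; rfl
  have hvx : v P x < 1 := by rw [hPv, hxK]; exact ha
  have hord1 : 1 ≤ P.ord x := by
    have h1 : v P x ≤ WithZero.exp (-1 : ℤ) := by
      rw [v_eq_exp_neg_ord P hx0] at hvx ⊢
      rw [← WithZero.exp_zero, WithZero.exp_lt_exp] at hvx
      rw [WithZero.exp_le_exp]; omega
    have := (v_le_exp_iff P hx0 (-1)).1 h1
    linarith
  have hle : (Finsupp.single P (zdiv (k := k) x P) : Divisor k k⟮s⟯) ≤ zdiv x := by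
    intro P'
    rw [Finsupp.single_apply]
    split_ifs with h
    · rw [h]
    · exact zdiv_nonneg x P'
  have h2 := deg_mono hle
  rw [deg_single, hdeg, deg_eq_one_of_isAlgClosed hF P, zdiv_apply hF] at h2
  have hord : P.ord x = 1 := by
    have : max (P.ord x) 0 = P.ord x := max_eq_left (by omega)
    rw [this] at h2
    push_cast at h2
    omega
  have := v_eq_exp_neg_ord P hx0
  rw [hord, hPv, hxK] at this
  exact this

theorem ordDiff_sub_const {F : Type*} [Field F] [Algebra k F] (Φ : K →ₐ[k] F⸨X⸩) (u s : K)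
    (a : k) : LocRes.ordDiff Φ u (s - algebraMap k K a) = LocRes.ordDiff Φ u s := by
  unfold LocRes.ordDiff LocRes.vDiff
  rw [map_sub, map_sub, LocRes.map_algebraMap, LocRes.D_apply F (HahnSeries.C _),
    LocRes.derivative_C, sub_zero]

/-- a differential `ds` of a separating element has finitely many zeros and poles -/
theorem finite_support_ordDiff [IsAlgClosed k] (hK : IsFunctionField k K) {s : K}
    (hs : Transcendental k s) [Algebra.IsSeparable k⟮s⟯ K]
    (Φ : FunFld.Place k K → (K →ₐ[k] LaurentSeries k))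
    (hΦ : ∀ P : FunFld.Place k K, LocRes.IsExpansionAt P.1 (Φ P)) :
    (Function.support fun P : FunFld.Place k K => LocRes.ordDiff (Φ P) 1 s).Finite := by
  have hF : IsFunctionField k k⟮s⟯ :=
    Groth.Agent.Lib.Helper26.PlaneModel2.isFunctionField_adjoin hK hs
  haveI := finiteDimensional_adjoin_simple hK hs
  have h1 := finite_ramified (k := k) (K := k⟮s⟯) (K' := K) hF
  have h2 := finite_support_ord hK s
  refine (h1.union h2).subset ?_
  intro Q hQ
  rw [Function.mem_support] at hQ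
  by_contra hcon
  rw [Set.mem_union, not_or] at hcon
  obtain ⟨hc1, hc2⟩ := hcon
  simp only [Set.mem_ofPred_eq, not_not] at hc1
  rw [Function.mem_support, not_not] at hc2
  have hs0 : s ≠ 0 := by
    rintro rfl; exact hs isAlgebraic_zero
  have hQs : v Q s ≤ 1 := by
    rw [v_eq_exp_neg_ord Q hs0, hc2, neg_zero, WithZero.exp_zero]
  obtain ⟨a, ha⟩ := exists_uniformizer_sub hK hs Q hQs hc1
  apply hQ
  rw [← ordDiff_sub_const (Φ Q) 1 s a]
  exact ordDiff_one_uniformizer Q.1 (Φ Q) (hΦ Q) _ ha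

/-- `dz = (dz/dt) dt` in the module of differentials -/
theorem kaehler_D_eq_smul [IsAlgClosed k] (hK : IsFunctionField k K) (t : K)
    (Ht : K →ₐ[k] K⟦X⟧) (hHt : LocRes.IsHasseFamily t Ht) (z : K) :
    KaehlerDifferential.D k K z = LocRes.hasseD Ht 1 z • KaehlerDifferential.D k K t := by
  obtain ⟨⟨x₁, hx₁, hfin₁⟩, -⟩ := id hK
  have hg : FunFld.IsGeometric k K := Groth.Agent.Lib.Helper9.FunFld.isGeometric_of_isAlgClosed
  obtain ⟨t', ht', hsep'⟩ :=
    Groth.Agent.Lib.Helper9.FunFld.exists_separating_variable hx₁ hfin₁ hg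
  have hfr := Groth.Agent.Lib.Helper9.FunFld.finrank_kaehler_eq_one_of_separating ht' hsep'
  have h1t : hasseDer Ht hHt.2 t = 1 := by
    rw [hasseDer_apply, hHt.1]; simp
  have hDt : KaehlerDifferential.D k K t ≠ 0 := by
    intro h0
    have h1 := Derivation.liftKaehlerDifferential_comp_D (hasseDer Ht hHt.2) t
    rw [h0, map_zero, h1t] at h1
    exact zero_ne_one h1
  obtain ⟨c, hc⟩ := (finrank_eq_one_iff_of_nonzero' _ hDt).1 hfr (KaehlerDifferential.D k K z)
  have h2 := congrArg (hasseDer Ht hHt.2).liftKaehlerDifferential hc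
  rw [map_smul, Derivation.liftKaehlerDifferential_comp_D,
    Derivation.liftKaehlerDifferential_comp_D, h1t, smul_eq_mul, mul_one, hasseDer_apply] at h2
  rw [← hc, h2, LocRes.hasseD_apply]

/-- **the chain rule** for Laurent expansions -/
theorem D_expansion_eq [IsAlgClosed k] (hK : IsFunctionField k K) (t : K)
    (Ht : K →ₐ[k] K⟦X⟧) (hHt : LocRes.IsHasseFamily t Ht) {F : Type*} [Field F] [Algebra k F]
    (Φ : K →ₐ[k] F⸨X⸩) (z : K) :
    LocRes.D F (Φ z) = Φ (LocRes.hasseD Ht 1 z) * LocRes.D F (Φ t) := by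
  let _i := Φ.toRingHom.toAlgebra
  have _t : IsScalarTower k K F⸨X⸩ := LocRes.isScalarTower_exp Φ
  have h1 := congrArg (LocRes.dExp Φ).liftKaehlerDifferential (kaehler_D_eq_smul hK t Ht hHt z)
  rw [map_smul, Derivation.liftKaehlerDifferential_comp_D,
    Derivation.liftKaehlerDifferential_comp_D] at h1
  exact h1

/-- a separating variable (one with a Hasse family) is transcendental -/
theorem transcendental_of_isHasseFamily (hK : IsFunctionField k K) (t : K)
    (Ht : K →ₐ[k] K⟦X⟧) (hHt : LocRes.IsHasseFamily t Ht) : Transcendental k t := by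
  intro halg
  obtain ⟨c, hc⟩ := hK.2 t halg
  have h1 := hHt.1
  rw [← hc, Ht.commutes] at h1
  have h2 := congrArg (PowerSeries.coeff 1) h1
  rw [PowerSeries.algebraMap_apply, map_add, PowerSeries.coeff_C,
    if_neg one_ne_zero, PowerSeries.coeff_one_X, zero_add] at h2
  exact zero_ne_one h2

/-- the differential of a separating variable does not vanish through an expansion -/
theorem D_expansion_ne_zero [IsAlgClosed k] (hK : IsFunctionField k K) (t : K)
    (Ht : K →ₐ[k] K⟦X⟧) (hHt : LocRes.IsHasseFamily t Ht) {F : Type*} [Field F] [Algebra k F]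
    (w : Valuation K ℤᵐ⁰) (Φ : K →ₐ[k] F⸨X⸩) (hΦ : LocRes.IsExpansionAt w Φ) :
    LocRes.D F (Φ t) ≠ 0 := by
  intro h0
  obtain ⟨π, hπ⟩ := hΦ.2.2
  have h1 := D_expansion_eq hK t Ht hHt Φ π
  rw [h0, mul_zero] at h1
  have h2 := valued_D_eq_one (Φ π) (by rw [hΦ.1 π, hπ])
  rw [h1, map_zero] at h2
  exact zero_ne_one h2

/-- **chain rule for orders of differentials** -/
theorem ordDiff_change [IsAlgClosed k] (hK : IsFunctionField k K) (P : FunFld.Place k K)
    {F : Type*} [Field F] [Algebra k F]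
    (Φ : K →ₐ[k] F⸨X⸩) (hΦ : LocRes.IsExpansionAt P.1 Φ)
    (s : K) (Hs : K →ₐ[k] K⟦X⟧) (hHs : LocRes.IsHasseFamily s Hs)
    (t : K) (Ht : K →ₐ[k] K⟦X⟧) (hHt : LocRes.IsHasseFamily t Ht) :
    LocRes.ordDiff Φ 1 s = P.ord (LocRes.hasseD Ht 1 s) + LocRes.ordDiff Φ 1 t := by
  haveI : Algebra.IsSeparable k⟮s⟯ K := isSeparable_of_isHasseFamily hK s Hs hHs
  have hd0 : LocRes.hasseD Ht 1 s ≠ 0 := by
    intro h0
    have := hasseD_one_mul s t Hs Ht hHs hHt
    rw [h0, mul_zero] at this
    exact zero_ne_one this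
  have hDt := D_expansion_ne_zero hK t Ht hHt P.1 Φ hΦ
  unfold LocRes.ordDiff LocRes.vDiff
  rw [map_one, one_mul, one_mul, D_expansion_eq hK t Ht hHt Φ s, map_mul, hΦ.1,
    WithZero.log_mul ((Valuation.ne_zero_iff _).2 hd0) ((Valuation.ne_zero_iff _).2 hDt)]
  rw [ord_def]
  change _ = -WithZero.log (P.1 _) + _
  ring

theorem divDiff_apply [IsAlgClosed k] (hK : IsFunctionField k K) (s : K)
    (Hs : K →ₐ[k] K⟦X⟧) (hHs : LocRes.IsHasseFamily s Hs)
    (Φ : FunFld.Place k K → (K →ₐ[k] LaurentSeries k))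
    (hΦ : ∀ P : FunFld.Place k K, LocRes.IsExpansionAt P.1 (Φ P)) (P : FunFld.Place k K) :
    divDiff Φ 1 s P = LocRes.ordDiff (Φ P) 1 s := by
  classical
  haveI : Algebra.IsSeparable k⟮s⟯ K := isSeparable_of_isHasseFamily hK s Hs hHs
  have hfin := finite_support_ordDiff hK (transcendental_of_isHasseFamily hK s Hs hHs) Φ hΦ
  unfold divDiff
  rw [dif_pos hfin]
  rfl

/-- **change of the separating variable** for the divisor of a differential -/
theorem divDiff_change [IsAlgClosed k] (hK : IsFunctionField k K)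
    (Φ : FunFld.Place k K → (K →ₐ[k] LaurentSeries k))
    (hΦ : ∀ P : FunFld.Place k K, LocRes.IsExpansionAt P.1 (Φ P))
    (s : K) (Hs : K →ₐ[k] K⟦X⟧) (hHs : LocRes.IsHasseFamily s Hs)
    (t : K) (Ht : K →ₐ[k] K⟦X⟧) (hHt : LocRes.IsHasseFamily t Ht) :
    divDiff Φ 1 s = FunFld.div k (LocRes.hasseD Ht 1 s) + divDiff Φ 1 t := by
  ext P
  rw [Finsupp.add_apply, divDiff_apply hK s Hs hHs Φ hΦ, divDiff_apply hK t Ht hHt Φ hΦ,
    div_apply hK, ordDiff_change hK P (Φ P) (hΦ P) s Hs hHs t Ht hHt]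

theorem mapDiv_smul (hK : IsFunctionField k K) {ι : Type*} [Fintype ι] [Nonempty ι] {y : K}
    (hy : y ≠ 0) (ψ : ι → K) (hψ : ∀ i, ψ i ≠ 0) :
    mapDiv k (y • ψ) = mapDiv k ψ - FunFld.div k y := by
  ext P
  rw [Finsupp.sub_apply, mapDiv_apply ⟨hK.1.choose, hK.1.choose_spec⟩,
    mapDiv_apply ⟨hK.1.choose, hK.1.choose_spec⟩, div_apply hK]
  have h1 : ∀ i, P.ord ((y • ψ) i) = P.ord y + P.ord (ψ i) := by
    intro i
    rw [Pi.smul_apply, smul_eq_mul, ord_mul P hy (hψ i)]
  simp only [h1]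
  have h2 : Finset.univ.inf' Finset.univ_nonempty (fun i => P.ord y + P.ord (ψ i)) =
      P.ord y + Finset.univ.inf' Finset.univ_nonempty (fun i => P.ord (ψ i)) := by
    apply le_antisymm
    · obtain ⟨i0, -, hi0⟩ := Finset.exists_mem_eq_inf' Finset.univ_nonempty (fun i => P.ord (ψ i))
      rw [hi0]
      exact Finset.inf'_le _ (Finset.mem_univ i0)
    · rw [Finset.le_inf'_iff]
      intro i _
      have := Finset.inf'_le (fun i => P.ord (ψ i)) (Finset.mem_univ i)
      linarith
  rw [h2]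
  ring

theorem inf'_ord_le_of_mem_span (P : FunFld.Place k K) {ι ι' : Type*} [Fintype ι] [Nonempty ι]
    [Fintype ι'] [Nonempty ι'] (φ : ι → K) (hφ : ∀ i, φ i ≠ 0) (ψ : ι' → K) (hψ : ∀ i, ψ i ≠ 0)
    (hmem : ∀ i, ψ i ∈ Submodule.span k (Set.range φ)) :
    Finset.univ.inf' Finset.univ_nonempty (fun i => P.ord (φ i)) ≤
      Finset.univ.inf' Finset.univ_nonempty (fun i => P.ord (ψ i)) := by
  rw [Finset.le_inf'_iff]
  intro i _
  obtain ⟨m, hm⟩ : ∃ m, m = Finset.univ.inf' Finset.univ_nonempty (fun i => P.ord (φ i)) :=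
    ⟨_, rfl⟩
  rw [← hm]
  have h1 : ∀ j, v P (φ j) ≤ WithZero.exp (-m) := by
    intro j
    rw [v_le_exp_iff P (hφ j)]
    have := Finset.inf'_le (fun i => P.ord (φ i)) (Finset.mem_univ j)
    rw [← hm] at this
    linarith
  obtain ⟨c, hc⟩ := (Submodule.mem_span_range_iff_exists_fun k).1 (hmem i)
  have h2 : v P (ψ i) ≤ WithZero.exp (-m) := by
    rw [← hc]
    apply Valuation.map_sum_le
    intro j _
    exact (v_smul_le P (c j) (φ j)).trans (h1 j)
  have := (v_le_exp_iff P (hψ i) (-m)).1 h2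
  linarith

theorem mapDiv_eq_of_span_eq (hK : IsFunctionField k K) {ι ι' : Type*} [Fintype ι] [Nonempty ι]
    [Fintype ι'] [Nonempty ι'] (φ : ι → K) (hφ : ∀ i, φ i ≠ 0) (ψ : ι' → K) (hψ : ∀ i, ψ i ≠ 0)
    (hspan : Submodule.span k (Set.range ψ) = Submodule.span k (Set.range φ)) :
    mapDiv k ψ = mapDiv k φ := by
  ext P
  rw [mapDiv_apply ⟨hK.1.choose, hK.1.choose_spec⟩,
    mapDiv_apply ⟨hK.1.choose, hK.1.choose_spec⟩, neg_inj]
  apply le_antisymm
  · apply inf'_ord_le_of_mem_span P ψ hψ φ hφ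
    intro i
    rw [hspan]
    exact Submodule.subset_span ⟨i, rfl⟩
  · apply inf'_ord_le_of_mem_span P φ hφ ψ hψ
    intro i
    rw [← hspan]
    exact Submodule.subset_span ⟨i, rfl⟩

/-- the span of an invertible linear change of a tuple -/
theorem span_linear_change {M : Type*} [AddCommGroup M] [Module k M] {m : ℕ}
    (A : Matrix (Fin m) (Fin m) k) (hA : A.det ≠ 0) (φ ψ : Fin m → M)
    (hψ : ∀ i, ψ i = ∑ j, A i j • φ j) :
    Submodule.span k (Set.range ψ) = Submodule.span k (Set.range φ) := by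
  classical
  apply le_antisymm
  · rw [Submodule.span_le]
    rintro _ ⟨i, rfl⟩
    rw [hψ i]
    exact Submodule.sum_mem _ fun j _ =>
      Submodule.smul_mem _ _ (Submodule.subset_span ⟨j, rfl⟩)
  · rw [Submodule.span_le]
    rintro _ ⟨j, rfl⟩
    have hinv : A⁻¹ * A = 1 := Matrix.nonsing_inv_mul A (isUnit_iff_ne_zero.2 hA)
    have : φ j = ∑ i, A⁻¹ j i • ψ i := by
      calc φ j = ∑ l, (1 : Matrix (Fin m) (Fin m) k) j l • φ l := by
            simp [Matrix.one_apply, ite_smul]
        _ = ∑ l, (∑ i, A⁻¹ j i * A i l) • φ l := by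
            refine Finset.sum_congr rfl (fun l _ => ?_)
            rw [← hinv, Matrix.mul_apply]
        _ = ∑ i, A⁻¹ j i • ψ i := by
            simp_rw [Finset.sum_smul, hψ, Finset.smul_sum, smul_smul]
            rw [Finset.sum_comm]
    rw [SetLike.mem_coe, this]
    exact Submodule.sum_mem _ fun i _ =>
      Submodule.smul_mem _ _ (Submodule.subset_span ⟨i, rfl⟩)

theorem div_algebraMap'
    (hK : IsFunctionField k K) {c : k} (hc : c ≠ 0) : FunFld.div k (algebraMap k K c) = 0 := by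
  ext P
  rw [div_apply hK, ord_def, v_algebraMap P hc, WithZero.log_one, neg_zero]
  rfl


end Groth.Agent.Lib.Helper26.DiffDiv
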