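import Mathlib
import Groth.Agent.Lib.Helper26.FunFldLocal
import Groth.Agent.Lib.Helper2.FunFld.Rational

/-!
# A coordinate on a function field of genus zero
-/

set_option autoImplicit false
open scoped WithZero IntermediateField
open FunFld Polynomial
open Groth.Agent.Lib.Helper2.FF

namespace Groth.Agent.Lib.Helper26.FunFldCoord

open Groth.Agent.Lib.Helper26.FunFldAlgClosed Groth.Agent.Lib.Helper26.FunFldSeries
open Groth.Agent.Lib.Helper26.FunFldLocal

variable {k K : Type*} [Field k] [Field K] [Algebra k K]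

theorem single_nonneg (P : FunFld.Place k K) {n : ℤ} (hn : 0 ≤ n) :
    (0 : Divisor k K) ≤ Finsupp.single P n := by
  classical
  intro R
  simp only [Finsupp.coe_zero, Pi.zero_apply, Finsupp.single_apply]
  split_ifs <;> omega

theorem algebraMap_mem_L (hK : IsFunctionField k K) {D : Divisor k K} (hD : 0 ≤ D) (c : k) :
    algebraMap k K c ∈ L D := by
  apply L_mono hD
  rw [L_zero hK, Submodule.one_eq_range, LinearMap.mem_range]
  exact ⟨c, rfl⟩

/-- `x` is a coordinate with its pole at `Pinf`. -/
structure IsCoord (Pinf : FunFld.Place k K) (x : K) : Prop where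
  mem : x ∈ L (Finsupp.single Pinf 1 : Divisor k K)
  nonconst : x ∉ Set.range (algebraMap k K)

/-- On a function field of genus zero every place carries a coordinate. -/
theorem exists_isCoord [IsAlgClosed k] (hK : IsFunctionField k K) (hg0 : genus k K = 0)
    (Pinf : FunFld.Place k K) : ∃ x : K, IsCoord Pinf x := by
  by_contra hno
  have hall : ∀ x ∈ L (Finsupp.single Pinf 1 : Divisor k K), x ∈ L (0 : Divisor k K) := by
    intro x hx
    by_contra hx0
    apply hno
    refine ⟨x, hx, ?_⟩
    rintro ⟨c, rfl⟩
    exact hx0 (algebraMap_mem_L hK le_rfl c)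
  have hle : L (Finsupp.single Pinf 1 : Divisor k K) ≤ L (0 : Divisor k K) := hall
  haveI := finiteDimensional_L hK (0 : Divisor k K)
  have h1 := Submodule.finrank_mono hle
  have h2 : (ell (Finsupp.single Pinf 1 : Divisor k K) : ℤ) = 2 := by
    rw [ell_eq_of_deg_ge hK _ (by rw [hg0, deg_single, deg_eq_one hK Pinf]; norm_num), hg0,
      deg_single, deg_eq_one hK Pinf]
    norm_num
  have h3 : ell (0 : Divisor k K) = 1 := ell_zero hK
  rw [← ell_def, ← ell_def, h3] at h1
  omega

section coord

variable [IsAlgClosed k] (hK : IsFunctionField k K) {Pinf : FunFld.Place k K} {x : K}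
  (hx : IsCoord Pinf x)

include hK hx in
theorem IsCoord.v_le_one {R : FunFld.Place k K} (hR : R ≠ Pinf) : v R x ≤ 1 := by
  classical
  have := hx.mem R
  simpa [Finsupp.single_apply, Ne.symm hR] using this

include hK hx in
theorem IsCoord.v_pole : v Pinf x = WithZero.exp (1 : ℤ) := by
  classical
  have hx0 : x ≠ 0 := by
    rintro rfl
    exact hx.nonconst ⟨0, by simp⟩
  have h1 : v Pinf x ≤ WithZero.exp (1 : ℤ) := by
    have := hx.mem Pinf
    simpa using this
  have h2 : ¬ v Pinf x ≤ 1 := by
    intro h
    apply hx.nonconst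
    have hx0' : x ∈ L (0 : Divisor k K) := by
      intro R
      by_cases hR : R = Pinf
      · subst hR; simpa using h
      · simpa using hx.v_le_one hK hR
    rw [L_zero hK, Submodule.one_eq_range, LinearMap.mem_range] at hx0'
    obtain ⟨c, hc⟩ := hx0'
    exact ⟨c, hc⟩
  rw [v_eq_exp_neg_ord Pinf hx0] at h1 h2 ⊢
  rw [WithZero.exp_le_exp] at h1
  rw [← WithZero.exp_zero, WithZero.exp_le_exp] at h2
  congr 1
  omega

include hK hx in
theorem IsCoord.transcendental : Transcendental k x :=
  transcendental_of_not_mem_range hK hx.nonconst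

include hK hx in
/-- valuation of a polynomial in `x` at the pole: upper bound -/
theorem IsCoord.v_aeval_le (p : k[X]) :
    v Pinf (aeval x p) ≤ WithZero.exp (natDegree p : ℤ) := by
  rw [aeval_eq_sum_range]
  refine Valuation.map_sum_le _ fun i hi => ?_
  rw [Finset.mem_range] at hi
  refine (v_smul_le Pinf _ _).trans ?_
  rw [map_pow, hx.v_pole hK, ← WithZero.exp_nsmul, WithZero.exp_le_exp]
  have : (i : ℤ) ≤ natDegree p := by exact_mod_cast Nat.lt_succ_iff.1 hi
  simpa using this

include hK hx in
/-- valuation of a polynomial in `x` at the pole -/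
theorem IsCoord.v_aeval {p : k[X]} (hp : p ≠ 0) :
    v Pinf (aeval x p) = WithZero.exp (natDegree p : ℤ) := by
  have hlc : p.leadingCoeff ≠ 0 := leadingCoeff_ne_zero.2 hp
  have htop : v Pinf (aeval x (C p.leadingCoeff * X ^ p.natDegree)) =
      WithZero.exp (natDegree p : ℤ) := by
    rw [map_mul, aeval_C, map_pow, aeval_X, map_mul, v_algebraMap Pinf hlc, one_mul, map_pow,
      hx.v_pole hK, ← WithZero.exp_nsmul]
    simp
  rcases Nat.eq_zero_or_pos (natDegree p) with h0 | hpos
  · have hpC : p = C (p.coeff 0) := eq_C_of_natDegree_eq_zero h0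
    have hc0 : p.coeff 0 ≠ 0 := by
      intro h
      rw [h, map_zero] at hpC
      exact hp hpC
    rw [hpC, aeval_C, v_algebraMap Pinf hc0, natDegree_C]
    simp
  · have hsplit : aeval x p = aeval x (C p.leadingCoeff * X ^ p.natDegree) + aeval x p.eraseLead := by
      rw [← map_add, add_comm, eraseLead_add_C_mul_X_pow]
    have hlow : v Pinf (aeval x p.eraseLead) < WithZero.exp (natDegree p : ℤ) := by
      refine (hx.v_aeval_le hK p.eraseLead).trans_lt ?_
      rw [WithZero.exp_lt_exp]
      have := eraseLead_natDegree_le p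
      have : (p.eraseLead.natDegree : ℤ) ≤ (p.natDegree : ℤ) - 1 := by
        have h2 : p.eraseLead.natDegree ≤ p.natDegree - 1 := this
        omega
      omega
    rw [hsplit, Valuation.map_add_eq_of_lt_left _ (by rw [htop]; exact hlow), htop]

/-- the value of the coordinate at a finite place -/
noncomputable def cval (x : K) (R : FunFld.Place k K) : k :=
  open Classical in
  if h : ∃ c : k, v R (x - algebraMap k K c) < 1 then h.choose else 0

include hK hx in
theorem IsCoord.cval_spec {R : FunFld.Place k K} (hR : R ≠ Pinf) :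
    v R (x - algebraMap k K (cval x R)) < 1 := by
  have h := exists_const_sub_lt hK R (hx.v_le_one hK hR)
  unfold cval
  rw [dif_pos h]
  exact h.choose_spec

include hK hx in
theorem IsCoord.sub_ne_zero (c : k) : x - algebraMap k K c ≠ 0 := by
  intro h
  exact hx.nonconst ⟨c, (sub_eq_zero.1 h).symm⟩

include hK hx in
theorem IsCoord.v_sub_cval {R : FunFld.Place k K} (hR : R ≠ Pinf) :
    v R (x - algebraMap k K (cval x R)) = WithZero.exp (-1 : ℤ) :=
  v_sub_const_eq hK hR hx.mem (hx.sub_ne_zero hK _) (hx.cval_spec hK hR)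

include hK hx in
theorem IsCoord.v_aeval_finite_le_one {R : FunFld.Place k K} (hR : R ≠ Pinf) (p : k[X]) :
    v R (aeval x p) ≤ 1 :=
  w_aeval_le_one (v R) (fun c => v_algebraMap_le R c) (hx.v_le_one hK hR) p

include hK hx in
/-- vanishing of a polynomial in `x` at a finite place is divisibility by a power of `X - a` -/
theorem IsCoord.v_aeval_le_iff {R : FunFld.Place k K} (hR : R ≠ Pinf) (p : k[X]) (n : ℕ) :
    v R (aeval x p) ≤ WithZero.exp (-(n : ℤ)) ↔ (X - C (cval x R)) ^ n ∣ p := by
  set a := cval x R with ha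
  by_cases hp : p = 0
  · subst hp; simp
  obtain ⟨q, hpq, hq⟩ := exists_eq_pow_rootMultiplicity_mul_and_not_dvd p hp a
  set μ := rootMultiplicity a p with hμ
  have hxa : aeval x (X - C a) = x - algebraMap k K a := by simp
  have hva := hx.v_sub_cval hK hR
  rw [← ha] at hva
  -- q(x) is a unit at R
  have hqa : eval a q ≠ 0 := by
    intro h
    exact hq (dvd_iff_isRoot.2 h)
  obtain ⟨q₁, hq₁⟩ := X_sub_C_dvd_sub_C_eval (a := a) (p := q)
  have hq' : q = (X - C a) * q₁ + C (eval a q) := by rw [← hq₁]; ring
  have hvq : v R (aeval x q) = 1 := by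
    rw [hq', map_add, map_mul, hxa, aeval_C]
    have h1 : v R ((x - algebraMap k K a) * aeval x q₁) < 1 := by
      rw [map_mul, hva]
      calc WithZero.exp (-1 : ℤ) * v R (aeval x q₁) ≤ WithZero.exp (-1 : ℤ) * 1 :=
            mul_le_mul' le_rfl (hx.v_aeval_finite_le_one hK hR q₁)
        _ < 1 := by
            rw [mul_one, ← WithZero.exp_zero, WithZero.exp_lt_exp]; norm_num
    have h2 : v R (algebraMap k K (eval a q)) = 1 := v_algebraMap R hqa
    rw [Valuation.map_add_eq_of_lt_right _ (by rw [h2]; exact h1), h2]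
  have hvp : v R (aeval x p) = WithZero.exp (-(μ : ℤ)) := by
    rw [hpq, map_mul, map_pow, hxa, map_mul, map_pow, hva, hvq, mul_one, ← WithZero.exp_nsmul]
    simp
  rw [hvp, WithZero.exp_le_exp, ← le_rootMultiplicity_iff hp]
  omega

include hK hx in
/-- distinct finite places have distinct coordinates -/
theorem IsCoord.cval_injective {R R' : FunFld.Place k K} (hR : R ≠ Pinf) (hR' : R' ≠ Pinf)
    (h : cval x R = cval x R') : R = R' := by
  classical
  by_contra hne
  set a := cval x R with ha
  set y := x - algebraMap k K a with hy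
  have hy0 : y ≠ 0 := hx.sub_ne_zero hK a
  have hmem : y ∈ L (Finsupp.single Pinf 1 : Divisor k K) :=
    Submodule.sub_mem _ hx.mem (algebraMap_mem_L hK (single_nonneg Pinf (by norm_num)) a)
  set F : Divisor k K := FunFld.div k y + Finsupp.single Pinf 1 with hF
  have hF0 : 0 ≤ F := (mem_L_iff_div hK hy0).1 hmem
  have hFdeg : F.deg = 1 := by
    rw [hF, deg_add, deg_div hK, deg_single, deg_eq_one hK Pinf]; norm_num
  have h1 : 1 ≤ F R := by
    rw [hF]
    simp only [Finsupp.coe_add, Pi.add_apply, div_apply hK, Finsupp.single_apply]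
    rw [if_neg (Ne.symm hR), add_zero]
    have := (v_lt_one_iff R hy0).1 (hx.cval_spec hK hR)
    omega
  have h2 : 1 ≤ F R' := by
    rw [hF]
    simp only [Finsupp.coe_add, Pi.add_apply, div_apply hK, Finsupp.single_apply]
    rw [if_neg (Ne.symm hR'), add_zero]
    have h3 := hx.cval_spec hK hR'
    rw [← h] at h3
    have := (v_lt_one_iff R' hy0).1 h3
    omega
  have h3 : (Finsupp.single R 1 + Finsupp.single R' 1 : Divisor k K) ≤ F := by
    intro S
    simp only [Finsupp.coe_add, Pi.add_apply, Finsupp.single_apply]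
    by_cases hS : R = S
    · subst hS
      rw [if_pos rfl, if_neg (Ne.symm hne), add_zero]; exact h1
    · by_cases hS' : R' = S
      · subst hS'
        rw [if_neg hS, if_pos rfl, zero_add]; exact h2
      · rw [if_neg hS, if_neg hS', add_zero]; exact hF0 S
  have h4 := deg_mono h3
  rw [deg_add, deg_single, deg_single, deg_eq_one hK R, deg_eq_one hK R', hFdeg] at h4
  norm_num at h4

end coord

end Groth.Agent.Lib.Helper26.FunFldCoord
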