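import Mathlib
import Groth.Agent.Lib.Helper26.FunFldSeries
import Groth.Agent.Lib.Helper26.FunFldLocal
import Groth.Agent.Lib.Helper26.FunFldCoord
import Groth.Agent.Lib.Helper2.FunFld.Rational
import Groth.Agent.Lib.Helper2.FunFld.RR
set_option autoImplicit false

namespace Groth.Agent.Lib.Helper26.FunFldLinEq
open FunFld Groth.Agent.Lib.Helper2.FF Groth.Agent.Lib.Helper26.FunFldAlgClosed
  Groth.Agent.Lib.Helper26.FunFldSeries Groth.Agent.Lib.Helper26.FunFldLocal

variable {k K : Type*} [Field k] [Field K] [Algebra k K]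

/-- A divisor of degree one with `ℓ ≥ 1` is linearly equivalent to a place. -/
theorem exists_div_eq_single (hK : IsFunctionField k K) {D : Divisor k K} (hd : D.deg = 1)
    (hl : 0 < ell D) :
    ∃ (R : FunFld.Place k K) (x : K), x ≠ 0 ∧ R.deg = 1 ∧ D + FunFld.div k x = Finsupp.single R 1 := by
  obtain ⟨x, hx0, hx⟩ := exists_ne_zero_mem_L hK hl
  rw [mem_L_iff_div hK hx0] at hx
  obtain ⟨R, hR, h⟩ := exists_eq_single_of_deg_eq_one hK hx (by rw [deg_add, deg_div hK, hd]; rfl)
  exact ⟨R, x, hx0, hR, by rw [add_comm]; exact h⟩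

/-- A divisor of degree zero with `ℓ ≥ 1` is principal. -/
theorem exists_div_eq_zero (hK : IsFunctionField k K) {D : Divisor k K} (hd : D.deg = 0)
    (hl : 0 < ell D) : ∃ x : K, x ≠ 0 ∧ D + FunFld.div k x = 0 := by
  obtain ⟨x, hx0, hx⟩ := exists_ne_zero_mem_L hK hl
  refine ⟨x, hx0, ?_⟩
  rw [div_eq_neg_of_mem_L hK hd hx0 hx]
  abel

/-- Two distinct effective divisors in one class: `ℓ ≥ 2`. -/
theorem two_le_ell (hK : IsFunctionField k K) {D E : Divisor k K} (hD : 0 ≤ D) (hE : 0 ≤ E)
    {x : K} (hx : x ≠ 0) (h : D + FunFld.div k x = E) (hne : E ≠ D) : 2 ≤ ell D := by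
  by_contra hcon
  have h1 := one_le_ell_of_nonneg hK hD
  have h2 : ell D = 1 := by omega
  haveI := finiteDimensional_L hK D
  have h3 : L (0 : Divisor k K) = L D := by
    apply Submodule.eq_of_le_of_finrank_eq (L_mono hD)
    rw [finrank_L_zero hK]
    exact h2.symm
  have h4 : x ∈ L D := by
    rw [mem_L_iff_div hK hx, add_comm, h]
    exact hE
  rw [← h3] at h4
  have h5 := div_eq_neg_of_mem_L hK (deg_zero) hx h4
  rw [h5] at h
  apply hne
  rw [← h]
  simp

/-- On a curve of genus two, a divisor of degree two with `ℓ ≥ 2` is canonical. -/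
theorem genus_two_unique (hK : IsFunctionField k K) (hg : genus k K = 2) {C : Divisor k K}
    (hC : IsCanonical k K C) {D : Divisor k K} (hd : D.deg = 2) (hl : 2 ≤ ell D) :
    ∃ x : K, x ≠ 0 ∧ C - D + FunFld.div k x = 0 := by
  have h1 := riemann_roch hK C hC D
  rw [hd, hg] at h1
  apply exists_div_eq_zero hK
  · rw [deg_sub, deg_canonical hK hC, hd, hg]; rfl
  · have : (2 : ℤ) ≤ ell D := by exact_mod_cast hl
    have : (0 : ℤ) < ell (C - D) := by push_cast at h1; linarith
    exact_mod_cast this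


/-- A divisor of degree zero has `ℓ ≤ 1`. -/
theorem ell_le_one_of_deg_zero (hK : IsFunctionField k K) {D : Divisor k K} (hd : D.deg = 0) :
    ell D ≤ 1 := by
  by_contra hcon
  obtain ⟨x, hx0, hx⟩ := exists_div_eq_zero hK hd (by omega)
  have := ell_add_div hK D hx0
  rw [hx, ell_zero hK] at this
  omega

theorem div_one (hK : IsFunctionField k K) : FunFld.div k (1 : K) = 0 := by
  have := div_mul hK (one_ne_zero (α := K)) (one_ne_zero (α := K))
  rw [mul_one] at this
  exact left_eq_add.mp this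

theorem div_pow (hK : IsFunctionField k K) {x : K} (hx : x ≠ 0) (n : ℕ) :
    FunFld.div k (x ^ n) = n • FunFld.div k x := by
  induction n with
  | zero => simp [div_one hK]
  | succ n ih => rw [pow_succ, div_mul hK (pow_ne_zero n hx) hx, ih, succ_nsmul]

end Groth.Agent.Lib.Helper26.FunFldLinEq
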