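import Mathlib
import Groth.Agent.Lib.Helper26.DiffDiv
import Groth.Agent.S12597
import Groth.Agent.S12598
import Groth.Agent.S12599
import Groth.Agent.S12614
set_option autoImplicit false
open scoped WithZero IntermediateField PowerSeries LaurentSeries
open FunFld
open Groth.Agent.Lib.Helper2.FF
open Groth.Agent.Lib.Helper26.HasseLocal
open Groth.Agent.Lib.Helper26.HasseLocal4
open Groth.Agent.Lib.Helper26.HasseLocal7
open Groth.Agent.Lib.Helper26.HasseChange
open Groth.Agent.Lib.Helper26.DiffDiv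
open Groth.Agent.Lib.Helper3.Jumps

/-! # Weierstrass divisors: passage to local coordinates at a place -/

namespace Groth.Agent.Lib.Helper26.WGlobal

variable {k K : Type*} [Field k] [Field K] [Algebra k K]

/-- existence of the order sequence at a place -/
theorem exists_isOrders_hcolAt [IsAlgClosed k] (hK : IsFunctionField k K) (P : FunFld.Place k K)
    (t : K) (ht : v P t = WithZero.exp (-1 : ℤ)) (H : K →ₐ[k] K⟦X⟧)
    (hH : LocRes.IsHasseFamily t H) {n : ℕ} (φ : Fin (n + 1) → K) (hφ : LinearIndependent k φ)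
    (hint : ∀ i, v P (φ i) ≤ 1) (h1 : ∃ i, v P (φ i) = 1) :
    ∃ J' : Fin n → ℕ, IsOrders (IsLocalRing.ResidueField P.O) (hcolAt P H φ) J' := by
  classical
  have hrows := Groth.Agent.S12599.result k K hK φ hφ P hint t ht H hH
  have hspan : Submodule.span (IsLocalRing.ResidueField P.O)
      (Set.range (fun j => hcolAt P H φ (j + 1))) = ⊤ := by
    by_contra hne
    obtain ⟨f, hf0, hle⟩ := Submodule.exists_le_ker_of_lt_top _ (lt_top_iff_ne_top.2 hne)
    rw [Fintype.linearIndependent_iff] at hrows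
    obtain ⟨a, ha⟩ : ∃ a : Fin (n + 1) → IsLocalRing.ResidueField P.O,
      a = fun i => f (fun j => if i = j then 1 else 0) := ⟨_, rfl⟩
    have hsum : ∑ i, a i • (fun j : ℕ => evalP P (LocRes.hasseD H j (φ i))) = 0 := by
      funext j
      have hj : hcolAt P H φ (j + 1) ∈ LinearMap.ker f :=
        hle (Submodule.subset_span ⟨j, rfl⟩)
      rw [LinearMap.mem_ker, LinearMap.pi_apply_eq_sum_univ] at hj
      rw [Finset.sum_apply, Pi.zero_apply, ← hj]
      apply Finset.sum_congr rfl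
      intro i _
      rw [Pi.smul_apply, smul_eq_mul, smul_eq_mul, mul_comm, ha]
      rfl
    have ha0 := hrows a hsum
    apply hf0
    apply LinearMap.ext
    intro x
    rw [LinearMap.pi_apply_eq_sum_univ, LinearMap.zero_apply]
    apply Finset.sum_eq_zero
    intro i _
    have := ha0 i
    rw [ha] at this
    simp only at this
    rw [this, smul_zero]
  have hspan' : Submodule.span (IsLocalRing.ResidueField P.O) (Set.range (hcolAt P H φ)) = ⊤ := by
    rw [eq_top_iff, ← hspan]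
    apply Submodule.span_mono
    rintro _ ⟨j, rfl⟩
    exact ⟨j + 1, rfl⟩
  have hc0 : IsJump (IsLocalRing.ResidueField P.O) (hcolAt P H φ) 0 := by
    unfold IsJump
    have : Set.Iio (0 : ℕ) = ∅ := by ext; simp
    rw [this, Set.image_empty, Submodule.span_empty, Submodule.mem_bot]
    intro h
    obtain ⟨i, hi⟩ := h1
    have h2 : evalP P (φ i) = 0 := congrFun h i
    exact evalP_ne_zero_of_eq_one P hi h2
  obtain ⟨J', hJ', -⟩ := exists_isOrders_of_span_eq_top
    (R := IsLocalRing.ResidueField P.O) (n := n) (hcolAt P H φ) (by simp) hc0 hspan'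
  exact ⟨J', hJ'⟩

/-- a Hasse family for `t` from one for `s` when `dt/ds ≠ 0` -/
theorem exists_isHasseFamily_of_ne_zero (s t : K) (Hs : K →ₐ[k] K⟦X⟧)
    (hHs : LocRes.IsHasseFamily s Hs) (hd : LocRes.hasseD Hs 1 t ≠ 0) :
    ∃ Ht : K →ₐ[k] K⟦X⟧, LocRes.IsHasseFamily t Ht := by
  obtain ⟨u, hu⟩ : ∃ u : K⟦X⟧, u = Hs t - PowerSeries.C t := ⟨_, rfl⟩
  have hu0 : PowerSeries.constantCoeff u = 0 := by
    rw [hu, map_sub, hHs.2, PowerSeries.constantCoeff_C, sub_self]
  have hu1 : IsUnit (PowerSeries.coeff 1 u) := by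
    rw [hu, coeff_one_sub_C]
    exact isUnit_iff_ne_zero.2 hd
  obtain ⟨w, hw⟩ : ∃ w : K⟦X⟧, w = PowerSeries.substInvOfIsUnit u hu1 := ⟨_, rfl⟩
  have hw0 : PowerSeries.constantCoeff w = 0 := by
    rw [hw]; exact PowerSeries.constantCoeff_substInvOfIsUnit u hu1
  have hsub : PowerSeries.HasSubst w := PowerSeries.HasSubst.of_constantCoeff_zero' hw0
  have huw : PowerSeries.subst w u = PowerSeries.X := by
    rw [hw]; exact PowerSeries.subst_substInvOfIsUnit_right u hu0 hu1
  refine ⟨((PowerSeries.substAlgHom (R := K) hsub).restrictScalars k).comp Hs, ?_, ?_⟩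
  · rw [AlgHom.comp_apply, AlgHom.restrictScalars_apply, PowerSeries.coe_substAlgHom]
    have e : Hs t = PowerSeries.C t + u := by rw [hu]; ring
    rw [e, PowerSeries.subst_add hsub, PowerSeries.subst_C, huw]
    rfl
  · intro y
    rw [AlgHom.comp_apply, AlgHom.restrictScalars_apply, PowerSeries.coe_substAlgHom,
      constantCoeff_subst_of_zero hw0, hHs.2]

/-- a local parameter has nonzero derivative with respect to any separating variable -/
theorem hasseD_one_ne_zero_of_uniformizer [IsAlgClosed k] (hK : IsFunctionField k K)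
    {F : Type*} [Field F] [Algebra k F] (w : Valuation K ℤᵐ⁰)
    (Φ : K →ₐ[k] F⸨X⸩) (hΦ : LocRes.IsExpansionAt w Φ)
    (s : K) (Hs : K →ₐ[k] K⟦X⟧) (hHs : LocRes.IsHasseFamily s Hs) (t : K)
    (ht : w t = WithZero.exp (-1 : ℤ)) : LocRes.hasseD Hs 1 t ≠ 0 := by
  intro h0
  have h1 := D_expansion_eq hK s Hs hHs Φ t
  rw [h0, map_zero, zero_mul] at h1
  have h2 := valued_D_eq_one (Φ t) (by rw [hΦ.1 t, ht])
  rw [h1, map_zero] at h2
  exact zero_ne_one h2

/-- **localization of the Weierstrass divisor at a place**: pass to a local parameter and a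
normalized effective multiple of the map -/
theorem exists_local_form [IsAlgClosed k] (hK : IsFunctionField k K) {n : ℕ}
    (φ : Fin (n + 1) → K) (hφ : LinearIndependent k φ) (τ : K →ₐ[k] K) (s : K)
    (Hs : K →ₐ[k] K⟦X⟧) (hHs : LocRes.IsHasseFamily s Hs) (J : Fin n → ℕ)
    (hJ : IsOrders K (hcol τ Hs φ) J)
    (Φ : FunFld.Place k K → (K →ₐ[k] LaurentSeries k))
    (hΦ : ∀ P : FunFld.Place k K, LocRes.IsExpansionAt P.1 (Φ P)) (P : FunFld.Place k K) :
    ∃ (t : K) (Ht : K →ₐ[k] K⟦X⟧) (y : K) (φ' : Fin (n + 1) → K),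
      P.1 t = WithZero.exp (-1 : ℤ) ∧ LocRes.IsHasseFamily t Ht ∧ y ≠ 0 ∧ φ' = y • φ ∧
      LinearIndependent k φ' ∧ (1 : K) ∈ Submodule.span k (Set.range φ') ∧
      (∀ i, P.1 (φ' i) ≤ 1) ∧ IsOrders K (hcol τ Ht φ') J ∧
      wDiv τ Hs Φ s φ J = wDiv τ Ht Φ t φ' J := by
  classical
  obtain ⟨t, ht⟩ := exists_uniformizer P
  have ht' : P.1 t = WithZero.exp (-1 : ℤ) := ht
  obtain ⟨Ht, hHt⟩ := exists_isHasseFamily_of_ne_zero s t Hs hHs
    (hasseD_one_ne_zero_of_uniformizer hK P.1 (Φ P) (hΦ P) s Hs hHs t ht')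
  obtain ⟨i0, -, hi0⟩ := Finset.exists_max_image Finset.univ (fun i => v P (φ i))
    Finset.univ_nonempty
  have hφ0 : ∀ i, φ i ≠ 0 := fun i => hφ.ne_zero i
  obtain ⟨y, hy⟩ : ∃ y : K, y = (φ i0)⁻¹ := ⟨_, rfl⟩
  have hy0 : y ≠ 0 := by rw [hy]; exact inv_ne_zero (hφ0 i0)
  have hli : LinearIndependent k (y • φ) := by
    have : (y • φ) = (LinearMap.mulLeft k y) ∘ φ := rfl
    rw [this]
    apply hφ.map'
    rw [LinearMap.ker_eq_bot]
    intro a b hab
    exact mul_left_cancel₀ hy0 hab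
  refine ⟨t, Ht, y, y • φ, ht', hHt, hy0, rfl, hli, ?_, ?_, ?_, ?_⟩
  · apply Submodule.subset_span
    refine ⟨i0, ?_⟩
    rw [Pi.smul_apply, smul_eq_mul, hy, inv_mul_cancel₀ (hφ0 i0)]
  · intro i
    change v P ((y • φ) i) ≤ 1
    rw [Pi.smul_apply, smul_eq_mul, hy, map_mul, map_inv₀]
    rw [inv_mul_le_iff₀ (lt_of_le_of_ne zero_le ((Valuation.ne_zero_iff _).2 (hφ0 i0)).symm),
      mul_one]
    exact hi0 i (Finset.mem_univ i)
  · have h1 := (Groth.Agent.S12597.result k K hK φ hφ τ s Hs hHs y hy0).1 J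
    have h2 := (Groth.Agent.S12598.result k K hK (y • φ) hli τ s Hs hHs t Ht hHt).1 J
    exact h2.2 (h1.2 hJ)
  · symm
    apply Groth.Agent.S12614.result k K hK φ hφ τ s Hs hHs t Ht hHt J hJ 1 (by simp) y hy0
      (y • φ) _ Φ hΦ
    intro i
    rw [Pi.smul_apply, smul_eq_mul]
    congr 1
    simp [Matrix.one_apply, ite_smul]

end Groth.Agent.Lib.Helper26.WGlobal
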