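import Mathlib
import Groth.Agent.Lib.Helper26.WGlobal
import Groth.Agent.S12600
import Groth.Agent.S12601
import Groth.Agent.S12602
import Groth.Agent.S12605
import Groth.Agent.S12615
set_option autoImplicit false
open scoped WithZero IntermediateField PowerSeries LaurentSeries
open FunFld
open Groth.Agent.Lib.Helper2.FF
open Groth.Agent.Lib.Helper26.HasseLocal
open Groth.Agent.Lib.Helper26.HasseLocal4
open Groth.Agent.Lib.Helper26.HasseLocal7
open Groth.Agent.Lib.Helper26.HasseChange
open Groth.Agent.Lib.Helper26.DiffDiv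
open Groth.Agent.Lib.Helper26.WGlobal
open Groth.Agent.Lib.Helper3.Jumps

namespace Groth.Agent.Lib.Helper26.WGlobal2

variable {k K : Type*} [Field k] [Field K] [Algebra k K]

/-- at a fixed point, the `τ`-orders are bounded by the orders at the point -/
theorem isOrders_le_hcolAt [IsAlgClosed k] (hK : IsFunctionField k K) (τ : K →ₐ[k] K)
    (P : FunFld.Place k K) (hP : IsFixedPt τ P) {n : ℕ} (φ : Fin (n + 1) → K)
    (hφ : LinearIndependent k φ) (heff : (1 : K) ∈ Submodule.span k (Set.range φ))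
    (hnorm : ∀ i, P.1 (φ i) ≤ 1) (t : K) (ht : P.1 t = WithZero.exp (-1 : ℤ))
    (Ht : K →ₐ[k] K⟦X⟧) (hHt : LocRes.IsHasseFamily t Ht)
    (J : Fin n → ℕ) (hJ : IsOrders K (hcol τ Ht φ) J)
    (J' : Fin n → ℕ) (hJ' : IsOrders (IsLocalRing.ResidueField P.O) (hcolAt P Ht φ) J') :
    ∀ l, J l ≤ J' l := by
  classical
  have hJpos := one_le_of_isOrders hK P t ht Ht hHt φ hnorm J' hJ'
  have hbin : (binomMat k J' J').det = 1 := by
    rw [Matrix.det_of_isLowerTriangular]
    · apply Finset.prod_eq_one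
      intro i _
      simp only [binomMat, Matrix.of_apply, Nat.choose_self, Nat.cast_one]
    · intro i j hij
      have hij' : i < j := hij
      simp only [binomMat, Matrix.of_apply]
      rw [Nat.choose_eq_zero_of_lt (hJ'.1 hij'), Nat.cast_zero]
  obtain ⟨-, h5b'⟩ :=
    Groth.Agent.S12605.result k K hK τ P hP φ hφ heff hnorm t ht Ht hHt J' hJ' J' hJ'.1
  have hv' : P.1 (wrMat τ Ht φ J').det = 1 := by
    have := (h5b' (Or.inl (fun l => hJpos l))).2 (by rw [hbin]; exact one_ne_zero)
    rw [this]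
    simp
  have hdet' : (wrMat τ Ht φ J').det ≠ 0 := by
    intro h0; rw [h0, map_zero] at hv'; exact zero_ne_one hv'
  exact Groth.Agent.S12601.result k K hK φ hφ τ t Ht hHt J hJ J' hJ'.1 hdet'


end Groth.Agent.Lib.Helper26.WGlobal2
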