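import Mathlib
import Groth.Agent.Lib.Helper26.WGlobal2
import Groth.Agent.S11052
set_option autoImplicit false
open scoped WithZero IntermediateField PowerSeries LaurentSeries
open FunFld
open Groth.Agent.Lib.Helper2.FF
open Groth.Agent.Lib.Helper26.HasseLocal
open Groth.Agent.Lib.Helper26.HasseLocal4
open Groth.Agent.Lib.Helper26.HasseLocal7
open Groth.Agent.Lib.Helper26.HasseChange
open Groth.Agent.Lib.Helper26.DiffDiv
open Groth.Agent.Lib.Helper26.WGlobal
open Groth.Agent.Lib.Helper26.WGlobal2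
open Groth.Agent.Lib.Helper3.Jumps

namespace Groth.Agent.Lib.Helper26.WGlobal3

variable {k K : Type*} [Field k] [Field K] [Algebra k K]

/-- the determinant of a matrix with entries integral at `P` is integral at `P` -/
theorem v_det_le_one (P : FunFld.Place k K) {m : ℕ} (M : Matrix (Fin m) (Fin m) K)
    (hM : ∀ i j, v P (M i j) ≤ 1) : v P M.det ≤ 1 := by
  obtain ⟨W, hW⟩ : ∃ W : Matrix (Fin m) (Fin m) P.O,
    W = Matrix.of fun r c => ⟨M r c, (mem_O_iff P _).2 (hM r c)⟩ := ⟨_, rfl⟩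
  have hdetW : ((W.det : P.O) : K) = M.det := by
    have := RingHom.map_det P.O.subtype W
    rw [ValuationSubring.subtype_apply] at this
    rw [this]
    congr 1
    ext r c
    simp only [RingHom.mapMatrix_apply, Matrix.map_apply, ValuationSubring.subtype_apply]
    rw [hW]; rfl
  rw [← hdetW]
  exact (mem_O_iff P _).1 W.det.2

/-- the local shape of the Weierstrass divisor at an arbitrary place: it is nonnegative -/
theorem wDiv_apply_nonneg_of_local [IsAlgClosed k] (hK : IsFunctionField k K) (τ : K →ₐ[k] K)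
    (P : FunFld.Place k K) {n : ℕ} (φ : Fin (n + 1) → K) (hφ : LinearIndependent k φ)
    (heff : (1 : K) ∈ Submodule.span k (Set.range φ)) (hnorm : ∀ i, v P (φ i) ≤ 1)
    (t : K) (ht : v P t = WithZero.exp (-1 : ℤ)) (H : K →ₐ[k] K⟦X⟧)
    (hH : LocRes.IsHasseFamily t H)
    (Φ : Place k K → (K →ₐ[k] LaurentSeries k))
    (hΦ : ∀ P : FunFld.Place k K, LocRes.IsExpansionAt P.1 (Φ P)) (J : Fin n → ℕ)
    (hJ : IsOrders K (hcol τ H φ) J) :
    0 ≤ wDiv τ H Φ t φ J P := by
  classical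
  obtain ⟨i0, hi0⟩ := exists_v_eq_one_of_eff P φ heff hnorm
  have hφ0 : ∀ i, φ i ≠ 0 := fun i => hφ.ne_zero i
  have hdet0 := det_wrMat_ne_zero_of_isOrders τ H φ ⟨0, hφ0 0⟩ J hJ
  unfold wDiv
  rw [Finsupp.add_apply, Finsupp.add_apply, Finsupp.add_apply, Finsupp.smul_apply,
    Finsupp.smul_apply, divDiff_apply_uniformizer Φ hΦ P t ht, div_apply hK,
    mapDiv_apply_eq_zero hK P φ hnorm ⟨i0, hi0⟩,
    mapDiv_apply ⟨hK.1.choose, hK.1.choose_spec⟩]
  simp only [smul_zero, add_zero]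
  obtain ⟨i1, -, hi1⟩ := Finset.exists_mem_eq_inf' Finset.univ_nonempty
    (fun i => P.ord ((τ ∘ φ) i))
  rw [hi1]
  obtain ⟨u, hu⟩ : ∃ u : K, u = τ (φ i1) := ⟨_, rfl⟩
  have hu0 : u ≠ 0 := by rw [hu]; exact (map_ne_zero τ).2 (hφ0 i1)
  have hmin : ∀ i, P.ord u ≤ P.ord (τ (φ i)) := by
    intro i
    have := Finset.inf'_le (fun i => P.ord ((τ ∘ φ) i)) (Finset.mem_univ i)
    rw [hi1] at this
    rw [hu]; exact this
  -- scale the first column
  obtain ⟨M', hM'⟩ : ∃ M' : Matrix (Fin (n + 1)) (Fin (n + 1)) K,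
    M' = Matrix.of fun i c => Fin.cases (motive := fun _ => K) (u⁻¹ * τ (φ i))
      (fun l => LocRes.hasseD H (J l) (φ i)) c := ⟨_, rfl⟩
  have hdetM' : M'.det = u⁻¹ * (wrMat τ H φ J).det := by
    have e : M' = Matrix.of fun i c => (Fin.cases (motive := fun _ => K) u⁻¹ (fun _ => 1) c) *
        (wrMat τ H φ J) i c := by
      rw [hM']
      ext i c
      simp only [Matrix.of_apply, wrMat]
      induction c using Fin.cases with
      | zero => simp only [Fin.cases_zero]
      | succ l => simp only [Fin.cases_succ, one_mul]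
    rw [e, Matrix.det_mul_row, Fin.prod_univ_succ]
    simp
  have hint : ∀ i c, v P (M' i c) ≤ 1 := by
    intro i c
    rw [hM']
    simp only [Matrix.of_apply]
    induction c using Fin.cases with
    | zero =>
      simp only [Fin.cases_zero]
      have hτ0 : τ (φ i) ≠ 0 := (map_ne_zero τ).2 (hφ0 i)
      rw [v_le_one_iff P (mul_ne_zero (inv_ne_zero hu0) hτ0),
        ord_mul P (inv_ne_zero hu0) hτ0, ord_inv]
      have := hmin i
      linarith
    | succ l =>
      simp only [Fin.cases_succ]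
      exact v_hasseD_le_one hK P t ht H hH (hnorm i) (J l)
  have h1 := v_det_le_one P M' hint
  rw [hdetM', v_le_one_iff P (mul_ne_zero (inv_ne_zero hu0) hdet0),
    ord_mul P (inv_ne_zero hu0) hdet0, ord_inv] at h1
  rw [Function.comp_apply, ← hu]
  linarith

/-- **the Weierstrass divisor is nonnegative** -/
theorem wDiv_nonneg [IsAlgClosed k] (hK : IsFunctionField k K) {n : ℕ}
    (φ : Fin (n + 1) → K) (hφ : LinearIndependent k φ) (τ : K →ₐ[k] K) (s : K)
    (Hs : K →ₐ[k] K⟦X⟧) (hHs : LocRes.IsHasseFamily s Hs) (J : Fin n → ℕ)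
    (hJ : IsOrders K (hcol τ Hs φ) J)
    (Φ : FunFld.Place k K → (K →ₐ[k] LaurentSeries k))
    (hΦ : ∀ P : FunFld.Place k K, LocRes.IsExpansionAt P.1 (Φ P)) :
    0 ≤ wDiv τ Hs Φ s φ J := by
  intro P
  obtain ⟨t, Ht, y, φ', ht, hHt, hy, hφ'y, hφ'li, heff, hnorm, hJ'', hW⟩ :=
    exists_local_form hK φ hφ τ s Hs hHs J hJ Φ hΦ P
  rw [hW]
  exact wDiv_apply_nonneg_of_local hK τ P φ' hφ'li heff hnorm t ht Ht hHt Φ hΦ J hJ''

/-- the degree of the Weierstrass divisor in terms of the degree of `[ds]` -/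
theorem deg_wDiv [IsAlgClosed k] (hK : IsFunctionField k K) {n : ℕ}
    (φ : Fin (n + 1) → K) (hφ : LinearIndependent k φ) (τ : K →ₐ[k] K) (s : K)
    (Hs : K →ₐ[k] K⟦X⟧) (J : Fin n → ℕ)
    (Φ : FunFld.Place k K → (K →ₐ[k] LaurentSeries k)) :
    (wDiv τ Hs Φ s φ J).deg =
      ((Module.finrank τ.fieldRange K : ℤ) + n) * (mapDiv k φ).deg +
        (divDiff Φ 1 s).deg * ∑ l, (J l : ℤ) := by
  unfold wDiv
  rw [deg_add, deg_add, deg_add, deg_zsmul, deg_zsmul, deg_div hK,
    Groth.Agent.S11052.result k K hK τ φ hφ]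
  ring

end Groth.Agent.Lib.Helper26.WGlobal3
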