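import Mathlib
import Groth.Agent.Lib.Helper26.WGlobal3
set_option autoImplicit false
open scoped WithZero IntermediateField PowerSeries LaurentSeries
open FunFld Polynomial
open Groth.Agent.Lib.Helper2.FF
open Groth.Agent.Lib.Helper26.HasseLocal
open Groth.Agent.Lib.Helper26.HasseLocal3
open Groth.Agent.Lib.Helper26.HasseLocal4
open Groth.Agent.Lib.Helper26.HasseLocal7
open Groth.Agent.Lib.Helper26.HasseChange
open Groth.Agent.Lib.Helper26.DiffDiv
open Groth.Agent.Lib.Helper26.WGlobal
open Groth.Agent.Lib.Helper26.WGlobal2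
open Groth.Agent.Lib.Helper26.WGlobal3
open Groth.Agent.Lib.Helper3.Jumps

/-! # Local forms without expansions, bounds for orders at a place, binomial determinants -/

namespace Groth.Agent.Lib.Helper26.WGlobal4

section
variable {F : Type*} [Field F]

theorem natCast_injOn_of_small {N : ℕ} (hN : ∀ m : ℕ, 0 < m → m ≤ N → (m : F) ≠ 0)
    {a b : ℕ} (ha : a ≤ N) (hb : b ≤ N) (hab : (a : F) = (b : F)) : a = b := by
  wlog h : a ≤ b generalizing a b
  · exact (this hb ha hab.symm (by omega)).symm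
  by_contra hne
  have h1 : ((b - a : ℕ) : F) = 0 := by
    rw [Nat.cast_sub h, hab, sub_self]
  exact hN (b - a) (by omega) (by omega) h1

theorem factorial_cast_ne_zero {N : ℕ} (hN : ∀ m : ℕ, 0 < m → m ≤ N → (m : F) ≠ 0)
    {i : ℕ} (hi : i ≤ N) : ((i.factorial : ℕ) : F) ≠ 0 := by
  induction i with
  | zero => simp
  | succ i ih =>
    rw [Nat.factorial_succ, Nat.cast_mul]
    exact mul_ne_zero (hN (i + 1) (by omega) hi) (ih (by omega))

/-- the binomial matrix with consecutive lower indices `0, …, m-1` -/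
theorem det_binom_consecutive_ne_zero {N m : ℕ}
    (hN : ∀ a : ℕ, 0 < a → a ≤ N → (a : F) ≠ 0) (j : Fin m → ℕ)
    (hj : Function.Injective j) (hjN : ∀ r, j r ≤ N) :
    (Matrix.of fun (r s : Fin m) => (((j r).choose (s : ℕ) : ℕ) : F)).det ≠ 0 := by
  classical
  have hV : (Matrix.vandermonde fun r => (j r : F)).det ≠ 0 := by
    rw [Matrix.det_vandermonde_ne_zero_iff]
    intro a b hab
    exact hj (natCast_injOn_of_small hN (hjN a) (hjN b) hab)
  rw [Matrix.det_eval_matrixOfPolynomials_eq_det_vandermonde (fun r => (j r : F))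
    (fun i : Fin m => descPochhammer F (i : ℕ)) (fun i => descPochhammer_natDegree (R := F) (i : ℕ))
    (fun i => monic_descPochhammer (R := F) (i : ℕ))] at hV
  have e : (Matrix.of fun (r s : Fin m) => (descPochhammer F (s : ℕ)).eval ((j r : ℕ) : F)) =
      (Matrix.of fun (r s : Fin m) => (((j r).choose (s : ℕ) : ℕ) : F)) *
        Matrix.diagonal (fun s : Fin m => (((s : ℕ).factorial : ℕ) : F)) := by
    ext r s
    rw [Matrix.mul_diagonal]
    simp only [Matrix.of_apply]
    rw [descPochhammer_eval_eq_descFactorial, Nat.descFactorial_eq_factorial_mul_choose,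
      Nat.cast_mul, mul_comm]
  rw [e, Matrix.det_mul] at hV
  exact left_ne_zero_of_mul hV

/-- the binomial matrix with consecutive lower indices `1, …, m` -/
theorem det_binom_consecutive_succ_ne_zero {N m : ℕ}
    (hN : ∀ a : ℕ, 0 < a → a ≤ N → (a : F) ≠ 0) (j : Fin m → ℕ)
    (hj : Function.Injective j) (hjN : ∀ r, j r ≤ N) (hjpos : ∀ r, 0 < j r) :
    (Matrix.of fun (r s : Fin m) => (((j r).choose ((s : ℕ) + 1) : ℕ) : F)).det ≠ 0 := by
  classical
  have hV : (Matrix.vandermonde fun r => ((j r - 1 : ℕ) : F)).det ≠ 0 := by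
    rw [Matrix.det_vandermonde_ne_zero_iff]
    intro a b hab
    have h1 := natCast_injOn_of_small hN (a := j a - 1) (b := j b - 1)
      (by have := hjN a; omega) (by have := hjN b; omega) hab
    apply hj
    have := hjpos a
    have := hjpos b
    omega
  rw [Matrix.det_eval_matrixOfPolynomials_eq_det_vandermonde (fun r => ((j r - 1 : ℕ) : F))
    (fun i : Fin m => descPochhammer F (i : ℕ)) (fun i => descPochhammer_natDegree (R := F) (i : ℕ))
    (fun i => monic_descPochhammer (R := F) (i : ℕ))] at hV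
  have e : Matrix.diagonal (fun r : Fin m => ((j r : ℕ) : F)) *
      (Matrix.of fun (r s : Fin m) => (descPochhammer F (s : ℕ)).eval ((j r - 1 : ℕ) : F)) =
      (Matrix.of fun (r s : Fin m) => (((j r).choose ((s : ℕ) + 1) : ℕ) : F)) *
        Matrix.diagonal (fun s : Fin m => ((((s : ℕ) + 1).factorial : ℕ) : F)) := by
    ext r s
    rw [Matrix.mul_diagonal, Matrix.diagonal_mul]
    simp only [Matrix.of_apply]
    rw [descPochhammer_eval_eq_descFactorial, ← Nat.cast_mul, ← Nat.cast_mul]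
    congr 1
    obtain ⟨j', hj'⟩ : ∃ j', j r = j' + 1 := ⟨j r - 1, by have := hjpos r; omega⟩
    rw [hj', Nat.add_sub_cancel, ← Nat.succ_descFactorial_succ,
      Nat.descFactorial_eq_factorial_mul_choose, mul_comm]
  have h2 := congrArg Matrix.det e
  rw [Matrix.det_mul, Matrix.det_mul, Matrix.det_diagonal, Matrix.det_diagonal] at h2
  have h3 : (∏ r : Fin m, ((j r : ℕ) : F)) ≠ 0 := by
    rw [Finset.prod_ne_zero_iff]
    intro r _
    exact hN (j r) (hjpos r) (hjN r)
  have h4 := mul_ne_zero h3 hV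
  rw [h2] at h4
  exact left_ne_zero_of_mul h4
end

variable {k K : Type*} [Field k] [Field K] [Algebra k K]

/-- the field of `p`-th powers, over a perfect (algebraically closed) constant field -/
def powField [IsAlgClosed k] (p : ℕ) [hp : Fact p.Prime] [CharP K p] : IntermediateField k K where
  carrier := Set.range fun z : K => z ^ p
  mul_mem' := by
    rintro _ _ ⟨a, rfl⟩ ⟨b, rfl⟩
    exact ⟨a * b, mul_pow a b p⟩
  one_mem' := ⟨1, one_pow p⟩
  add_mem' := by
    rintro _ _ ⟨a, rfl⟩ ⟨b, rfl⟩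
    exact ⟨a + b, add_pow_char a b p⟩
  zero_mem' := ⟨0, zero_pow hp.out.ne_zero⟩
  algebraMap_mem' c := by
    obtain ⟨c', hc'⟩ := IsAlgClosed.exists_pow_nat_eq c hp.out.pos
    exact ⟨algebraMap k K c', by simp only; rw [← map_pow, hc']⟩
  inv_mem' := by
    rintro _ ⟨a, rfl⟩
    exact ⟨a⁻¹, inv_pow a p⟩

/-- **a local parameter has nonzero differential** -/
theorem kaehler_D_ne_zero_of_uniformizer [IsAlgClosed k] (hK : IsFunctionField k K)
    (P : FunFld.Place k K) {t : K} (ht : v P t = WithZero.exp (-1 : ℤ)) :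
    KaehlerDifferential.D k K t ≠ 0 := by
  intro hDt
  obtain ⟨⟨x₁, hx₁, hfin₁⟩, -⟩ := id hK
  have hg : FunFld.IsGeometric k K := Groth.Agent.Lib.Helper9.FunFld.isGeometric_of_isAlgClosed
  obtain ⟨s₀, hs₀, hsep₀⟩ :=
    Groth.Agent.Lib.Helper9.FunFld.exists_separating_variable hx₁ hfin₁ hg
  have httr : Transcendental k t := by
    intro halg
    obtain ⟨c, hc⟩ := hK.2 t halg
    rw [← hc] at ht
    by_cases hc0 : c = 0
    · rw [hc0, map_zero, map_zero] at ht
      exact WithZero.exp_ne_zero ht.symm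
    · rw [v_algebraMap P hc0, ← WithZero.exp_zero, WithZero.exp_inj] at ht
      omega
  obtain h0 | ⟨p, hp, hpk⟩ := CharP.exists' k
  · have : CharZero k⟮t⟯ := charZero_of_injective_algebraMap (algebraMap k k⟮t⟯).injective
    have halg := isAlgebraic_adjoin_simple hK httr
    have hsep : Algebra.IsSeparable k⟮t⟯ K := Algebra.IsAlgebraic.isSeparable_of_perfectField
    exact Groth.Agent.Lib.Helper9.FunFld.D_ne_zero_of_separating httr hsep hDt
  · haveI : Fact p.Prime := hp
    haveI : CharP K p := by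
      have := (algebraMap k K).charP_iff (algebraMap k K).injective p
      exact this.1 hpk
    have hmem := Groth.Agent.Lib.Helper9.FunFld.mem_adjoin_pow_of_D_eq_zero p hs₀ hsep₀ hDt
    have hle : IntermediateField.adjoin k (Set.range fun z : K => z ^ p) ≤ powField p := by
      rw [IntermediateField.adjoin_le_iff]
      exact fun x hx => hx
    obtain ⟨z, hz⟩ := hle hmem
    simp only at hz
    rw [← hz, map_pow] at ht
    have hz0 : z ≠ 0 := by
      rintro rfl
      rw [map_zero, zero_pow hp.out.ne_zero] at ht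
      exact WithZero.exp_ne_zero ht.symm
    rw [v_eq_exp_neg_ord P hz0, ← WithZero.exp_nsmul, WithZero.exp_inj] at ht
    have h2 := hp.out.two_le
    have h3 : (p : ℤ) ∣ 1 := by
      refine ⟨P.ord z, ?_⟩
      simp only [smul_neg, nsmul_eq_mul] at ht
      linarith
    have := Int.le_of_dvd one_pos h3
    omega

/-- a local parameter has nonzero derivative with respect to any separating variable -/
theorem hasseD_one_ne_zero_of_uniformizer' [IsAlgClosed k] (hK : IsFunctionField k K)
    (P : FunFld.Place k K) (s : K) (Hs : K →ₐ[k] K⟦X⟧) (hHs : LocRes.IsHasseFamily s Hs) {t : K}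
    (ht : v P t = WithZero.exp (-1 : ℤ)) : LocRes.hasseD Hs 1 t ≠ 0 := by
  intro h0
  apply kaehler_D_ne_zero_of_uniformizer hK P ht
  rw [kaehler_D_eq_smul hK s Hs hHs t, h0, zero_smul]

/-- **localization at a place** (without expansions): pass to a local parameter and a normalized
effective multiple of the map -/
theorem exists_local_form' [IsAlgClosed k] (hK : IsFunctionField k K) {n : ℕ}
    (φ : Fin (n + 1) → K) (hφ : LinearIndependent k φ) (τ : K →ₐ[k] K) (s : K)
    (Hs : K →ₐ[k] K⟦X⟧) (hHs : LocRes.IsHasseFamily s Hs) (J : Fin n → ℕ)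
    (hJ : IsOrders K (hcol τ Hs φ) J) (P : FunFld.Place k K) :
    ∃ (t : K) (Ht : K →ₐ[k] K⟦X⟧) (i0 : Fin (n + 1)) (φ' : Fin (n + 1) → K),
      P.1 t = WithZero.exp (-1 : ℤ) ∧ LocRes.IsHasseFamily t Ht ∧
      (∀ i, v P (φ i) ≤ v P (φ i0)) ∧ φ' = (φ i0)⁻¹ • φ ∧
      LinearIndependent k φ' ∧ (1 : K) ∈ Submodule.span k (Set.range φ') ∧
      (∀ i, P.1 (φ' i) ≤ 1) ∧ IsOrders K (hcol τ Ht φ') J := by
  classical
  obtain ⟨t, ht⟩ := exists_uniformizer P
  have ht' : P.1 t = WithZero.exp (-1 : ℤ) := ht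
  obtain ⟨Ht, hHt⟩ := exists_isHasseFamily_of_ne_zero s t Hs hHs
    (hasseD_one_ne_zero_of_uniformizer' hK P s Hs hHs ht)
  obtain ⟨i0, -, hi0⟩ := Finset.exists_max_image Finset.univ (fun i => v P (φ i))
    Finset.univ_nonempty
  have hφ0 : ∀ i, φ i ≠ 0 := fun i => hφ.ne_zero i
  obtain ⟨y, hy⟩ : ∃ y : K, y = (φ i0)⁻¹ := ⟨_, rfl⟩
  have hy0 : y ≠ 0 := by rw [hy]; exact inv_ne_zero (hφ0 i0)
  have hli : LinearIndependent k (y • φ) := by
    have : (y • φ) = (LinearMap.mulLeft k y) ∘ φ := rfl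
    rw [this]
    apply hφ.map'
    rw [LinearMap.ker_eq_bot]
    intro a b hab
    exact mul_left_cancel₀ hy0 hab
  refine ⟨t, Ht, i0, y • φ, ht', hHt, fun i => hi0 i (Finset.mem_univ i), by rw [hy], hli,
    ?_, ?_, ?_⟩
  · apply Submodule.subset_span
    refine ⟨i0, ?_⟩
    rw [Pi.smul_apply, smul_eq_mul, hy, inv_mul_cancel₀ (hφ0 i0)]
  · intro i
    change v P ((y • φ) i) ≤ 1
    rw [Pi.smul_apply, smul_eq_mul, hy, map_mul, map_inv₀]
    rw [inv_mul_le_iff₀ (lt_of_le_of_ne zero_le ((Valuation.ne_zero_iff _).2 (hφ0 i0)).symm),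
      mul_one]
    exact hi0 i (Finset.mem_univ i)
  · have h1 := (Groth.Agent.S12597.result k K hK φ hφ τ s Hs hHs y hy0).1 J
    have h2 := (Groth.Agent.S12598.result k K hK (y • φ) hli τ s Hs hHs t Ht hHt).1 J
    exact h2.2 (h1.2 hJ)

/-- the order at `P` of a section of the normalized map is at most the degree of the map -/
theorem ord_le_deg_mapDiv [IsAlgClosed k] (hK : IsFunctionField k K) {n : ℕ}
    (φ : Fin (n + 1) → K) (hφ : LinearIndependent k φ) (P : FunFld.Place k K) (i0 : Fin (n + 1))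
    (hi0 : ∀ i, v P (φ i) ≤ v P (φ i0)) {f : K}
    (hf : f ∈ Submodule.span k (Set.range ((φ i0)⁻¹ • φ))) (hf0 : f ≠ 0) :
    P.ord f ≤ (mapDiv k φ).deg := by
  classical
  have hφ0 : ∀ i, φ i ≠ 0 := fun i => hφ.ne_zero i
  obtain ⟨g, hg⟩ : ∃ g : K, g = φ i0 * f := ⟨_, rfl⟩
  have hg0 : g ≠ 0 := by rw [hg]; exact mul_ne_zero (hφ0 i0) hf0
  have hgspan : g ∈ Submodule.span k (Set.range φ) := by
    obtain ⟨c, hc⟩ := (Submodule.mem_span_range_iff_exists_fun k).1 hf
    rw [hg, ← hc, Finset.mul_sum]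
    refine Submodule.sum_mem _ fun i _ => ?_
    rw [Pi.smul_apply, smul_eq_mul, mul_smul_comm, mul_inv_cancel_left₀ (hφ0 i0)]
    exact Submodule.smul_mem _ _ (Submodule.subset_span ⟨i, rfl⟩)
  obtain ⟨E, hE⟩ : ∃ E : Divisor k K, E = FunFld.div k g + mapDiv k φ := ⟨_, rfl⟩
  have hEnn : 0 ≤ E := by
    intro Q
    rw [hE, Finsupp.add_apply, div_apply hK, mapDiv_apply ⟨hK.1.choose, hK.1.choose_spec⟩]
    have := inf'_ord_le_of_mem_span Q φ hφ0 (fun _ : Fin 1 => g) (fun _ => hg0)
      (fun _ => hgspan)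
    have h2 : Finset.univ.inf' Finset.univ_nonempty (fun _ : Fin 1 => Q.ord g) = Q.ord g := by
      simp
    rw [h2] at this
    simp only [Finsupp.coe_zero, Pi.zero_apply]
    linarith
  have hEdeg : E.deg = (mapDiv k φ).deg := by
    rw [hE, deg_add, deg_div hK, zero_add]
  have hEP : E P = P.ord f := by
    rw [hE, Finsupp.add_apply, div_apply hK, mapDiv_apply ⟨hK.1.choose, hK.1.choose_spec⟩]
    have h1 : Finset.univ.inf' Finset.univ_nonempty (fun i => P.ord (φ i)) = P.ord (φ i0) := by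
      apply le_antisymm
      · exact Finset.inf'_le _ (Finset.mem_univ i0)
      · rw [Finset.le_inf'_iff]
        intro i _
        have := hi0 i
        rw [v_eq_exp_neg_ord P (hφ0 i), v_eq_exp_neg_ord P (hφ0 i0), WithZero.exp_le_exp] at this
        linarith
    rw [h1, hg, ord_mul P (hφ0 i0) hf0]
    ring
  have hle : (Finsupp.single P (E P) : Divisor k K) ≤ E := by
    intro Q
    rw [Finsupp.single_apply]
    split_ifs with h
    · rw [h]
    · exact hEnn Q
  have h2 := deg_mono hle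
  rw [deg_single, deg_eq_one_of_isAlgClosed hK P, hEdeg, hEP] at h2
  simpa using h2

end Groth.Agent.Lib.Helper26.WGlobal4
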