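import Mathlib
import Groth.Agent.Lib.Helper26.WGlobal4
set_option autoImplicit false
open scoped WithZero IntermediateField PowerSeries LaurentSeries
open FunFld
open Groth.Agent.Lib.Helper2.FF
open Groth.Agent.Lib.Helper26.HasseLocal
open Groth.Agent.Lib.Helper26.HasseLocal3
open Groth.Agent.Lib.Helper26.HasseLocal4
open Groth.Agent.Lib.Helper26.HasseLocal7
open Groth.Agent.Lib.Helper26.HasseChange
open Groth.Agent.Lib.Helper26.DiffDiv
open Groth.Agent.Lib.Helper26.WGlobal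
open Groth.Agent.Lib.Helper26.WGlobal2
open Groth.Agent.Lib.Helper26.WGlobal3
open Groth.Agent.Lib.Helper26.WGlobal4
open Groth.Agent.Lib.Helper3.Jumps

namespace Groth.Agent.Lib.Helper26.WGlobal5

variable {k K : Type*} [Field k] [Field K] [Algebra k K]

theorem strictMono_add_le {n : ℕ} (J : Fin n → ℕ) (hJ : StrictMono J) (l : Fin n) (c : ℕ)
    (h0 : ∀ l : Fin n, c ≤ J l) : (l : ℕ) + c ≤ J l := by
  obtain ⟨l, hl⟩ := l
  induction l with
  | zero => simpa using h0 ⟨0, hl⟩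
  | succ l ih =>
    have h1 := ih (by omega)
    have h2 : J ⟨l, by omega⟩ < J ⟨l + 1, hl⟩ := hJ (by simp [Fin.lt_def])
    simp only at h1 ⊢
    omega

/-- the core of the classicality criterion: if a nonvanishing binomial determinant is available
at a (strong) fixed point, the `τ`-orders are bounded by `I` -/
theorem isOrders_le_of_binom [IsAlgClosed k] (hK : IsFunctionField k K) {n : ℕ}
    (φ : Fin (n + 1) → K) (hφ : LinearIndependent k φ) (τ : K →ₐ[k] K) (s : K)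
    (Hs : K →ₐ[k] K⟦X⟧) (hHs : LocRes.IsHasseFamily s Hs) (J : Fin n → ℕ)
    (hJ : IsOrders K (hcol τ Hs φ) J) (P : FunFld.Place k K) (hP : IsFixedPt τ P)
    (I : Fin n → ℕ) (hI : StrictMono I)
    (hcase : (∀ l, 0 < I l) ∨ IsStrongFixedPt τ P) (N : ℕ) (hN : (mapDiv k φ).deg ≤ N)
    (hbin : ∀ J' : Fin n → ℕ, StrictMono J' → (∀ l, 0 < J' l) → (∀ l, J' l ≤ N) →
      (binomMat k J' I).det ≠ 0) :
    ∀ l, J l ≤ I l := by
  classical
  obtain ⟨t, Ht, i0, φ', ht, hHt, hi0, hφ'y, hφ'li, heff, hnorm, hJ''⟩ :=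
    exists_local_form' hK φ hφ τ s Hs hHs J hJ P
  obtain ⟨i1, hi1⟩ := exists_v_eq_one_of_eff P φ' heff hnorm
  obtain ⟨J', hJ'⟩ := exists_isOrders_hcolAt hK P t ht Ht hHt φ' hφ'li hnorm ⟨i1, hi1⟩
  have hJpos := one_le_of_isOrders hK P t ht Ht hHt φ' hnorm J' hJ'
  have hJ'N : ∀ l, J' l ≤ N := by
    intro l
    have hjump : IsJump (IsLocalRing.ResidueField P.O) (hcolAt P Ht φ') (J' l + 1) :=
      (hJ'.2 (J' l)).1 ⟨l, rfl⟩
    rw [isJump_hcolAt_succ_iff hK P t ht Ht hHt φ' hnorm (J' l)] at hjump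
    obtain ⟨-, f, hf, hf0, hfo⟩ := hjump
    rw [hφ'y] at hf
    have := ord_le_deg_mapDiv hK φ hφ P i0 hi0 hf hf0
    rw [hfo] at this
    have h2 : ((J' l : ℕ) : ℤ) ≤ N := this.trans hN
    exact_mod_cast h2
  obtain ⟨-, h5b⟩ :=
    Groth.Agent.S12605.result k K hK τ P hP φ' hφ'li heff hnorm t ht Ht hHt J' hJ' I hI
  have hv := (h5b hcase).2 (hbin J' hJ'.1 (fun l => hJpos l) hJ'N)
  have hdet : (wrMat τ Ht φ' I).det ≠ 0 := by
    intro h0
    rw [h0, map_zero] at hv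
    exact WithZero.exp_ne_zero hv.symm
  exact Groth.Agent.S12601.result k K hK φ' hφ'li τ t Ht hHt J hJ'' I hI hdet


end Groth.Agent.Lib.Helper26.WGlobal5
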