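import Mathlib
import Groth.Agent.Lib.Helper26.WGlobal5
import Groth.Agent.Lib.Helper2.FunFld.RR
import Groth.Agent.S12581
set_option autoImplicit false
open scoped WithZero IntermediateField PowerSeries LaurentSeries
open FunFld
open Groth.Agent.Lib.Helper2.FF
open Groth.Agent.Lib.Helper26.HasseLocal
open Groth.Agent.Lib.Helper26.HasseLocal7
open Groth.Agent.Lib.Helper26.HasseChange
open Groth.Agent.Lib.Helper26.DiffDiv
open Groth.Agent.Lib.Helper26.WGlobal
open Groth.Agent.Lib.Helper26.WGlobal2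
open Groth.Agent.Lib.Helper26.WGlobal3
open Groth.Agent.Lib.Helper26.WGlobal4

/-! # The divisor of `ds` is canonical (via helper2's residue theorem S12581) -/

namespace Groth.Agent.Lib.Helper26.WGlobal6

universe u v
variable {k : Type u} {K : Type v} [Field k] [Field K] [Algebra k K]

/-- the differential of a separating variable is nonzero -/
theorem kaehler_D_ne_zero_of_isHasseFamily (t : K)
    (Ht : K →ₐ[k] K⟦X⟧) (hHt : LocRes.IsHasseFamily t Ht) :
    KaehlerDifferential.D k K t ≠ 0 := by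
  have h1t : hasseDer Ht hHt.2 t = 1 := by
    rw [hasseDer_apply, hHt.1]; simp
  intro h0
  have h1 := Derivation.liftKaehlerDifferential_comp_D (hasseDer Ht hHt.2) t
  rw [h0, map_zero, h1t] at h1
  exact zero_ne_one h1

/-- **the divisor of `ds` is canonical** -/
theorem isCanonical_divDiff [IsAlgClosed k] (hK : IsFunctionField k K) (s : K)
    (Hs : K →ₐ[k] K⟦X⟧) (hHs : LocRes.IsHasseFamily s Hs)
    (Φ : FunFld.Place k K → (K →ₐ[k] LaurentSeries k))
    (hΦ : ∀ P : FunFld.Place k K, LocRes.IsExpansionAt P.1 (Φ P)) :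
    IsCanonical k K (divDiff Φ 1 s) := by
  have hg : FunFld.IsGeometric k K := Groth.Agent.Lib.Helper9.FunFld.isGeometric_of_isAlgClosed
  obtain ⟨ω, -, -, hω0, -, hdiv⟩ := Groth.Agent.S12581.result k K hK hg (fun _ => k) Φ hΦ 1 s
    one_ne_zero (kaehler_D_ne_zero_of_isHasseFamily s Hs hHs)
  exact ⟨ω, hω0, hdiv _ (fun P => divDiff_apply hK s Hs hHs Φ hΦ P)⟩

theorem deg_divDiff [IsAlgClosed k] (hK : IsFunctionField k K) (s : K)
    (Hs : K →ₐ[k] K⟦X⟧) (hHs : LocRes.IsHasseFamily s Hs)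
    (Φ : FunFld.Place k K → (K →ₐ[k] LaurentSeries k))
    (hΦ : ∀ P : FunFld.Place k K, LocRes.IsExpansionAt P.1 (Φ P)) :
    (divDiff Φ 1 s).deg = 2 * (genus k K : ℤ) - 2 :=
  deg_canonical hK (isCanonical_divDiff hK s Hs hHs Φ hΦ)

end Groth.Agent.Lib.Helper26.WGlobal6
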