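import Mathlib
import Groth.Agent.Lib.Helper26.WGlobal6
import Groth.Agent.S12606
set_option autoImplicit false
open scoped WithZero IntermediateField PowerSeries LaurentSeries
open FunFld
open Groth.Agent.Lib.Helper2.FF
open Groth.Agent.Lib.Helper26.HasseLocal
open Groth.Agent.Lib.Helper26.HasseLocal2
open Groth.Agent.Lib.Helper26.HasseLocal3
open Groth.Agent.Lib.Helper26.HasseLocal4
open Groth.Agent.Lib.Helper26.HasseLocal7
open Groth.Agent.Lib.Helper26.HasseChange
open Groth.Agent.Lib.Helper26.DiffDiv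
open Groth.Agent.Lib.Helper26.WGlobal
open Groth.Agent.Lib.Helper26.WGlobal2
open Groth.Agent.Lib.Helper26.WGlobal3
open Groth.Agent.Lib.Helper26.WGlobal4
open Groth.Agent.Lib.Helper26.WGlobal6

/-! # Existence of Laurent expansions; strong fixed points and the Weierstrass divisor -/

namespace Groth.Agent.Lib.Helper26.WGlobal7

variable {k K : Type*} [Field k] [Field K] [Algebra k K]

/-- the valuation of a Laurent series from its lowest coefficient -/
theorem valued_eq_exp_of_coeff {F : Type*} [Field F] (f : F⸨X⸩) (m : ℤ)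
    (h1 : ∀ n : ℤ, n < m → f.coeff n = 0) (h2 : f.coeff m ≠ 0) :
    Valued.v f = WithZero.exp (-m) := by
  have h3 : Valued.v f ≤ WithZero.exp (-m) :=
    (LaurentSeries.valuation_le_iff_coeff_lt_eq_zero F).2 h1
  have h4 : ¬ Valued.v f ≤ WithZero.exp (-(m + 1)) := by
    rw [LaurentSeries.valuation_le_iff_coeff_lt_eq_zero F]
    intro h
    exact h2 (h m (by omega))
  apply le_antisymm h3
  by_contra hlt
  push Not at hlt
  apply h4
  have hne : Valued.v f ≠ 0 := by
    intro h0; apply h4; rw [h0]; exact zero_le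
  obtain ⟨a, ha⟩ : ∃ a : ℤ, Valued.v f = WithZero.exp a :=
    ⟨WithZero.log _, (WithZero.exp_log hne).symm⟩
  rw [ha] at hlt ⊢
  rw [WithZero.exp_lt_exp] at hlt
  rw [WithZero.exp_le_exp]
  omega

/-- **existence of a Laurent expansion at a place** (algebraically closed constants) -/
theorem exists_expansion [IsAlgClosed k] (hK : IsFunctionField k K) (P : FunFld.Place k K)
    (t : K) (ht : v P t = WithZero.exp (-1 : ℤ)) (H : K →ₐ[k] K⟦X⟧)
    (hH : LocRes.IsHasseFamily t H) :
    ∃ Φ : K →ₐ[k] LaurentSeries k, LocRes.IsExpansionAt P.1 Φ := by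
  classical
  obtain ⟨eκ, heκ⟩ : ∃ eκ : k ≃+* IsLocalRing.ResidueField P.O,
      ∀ c, eκ c = algebraMap k (IsLocalRing.ResidueField P.O) c :=
    ⟨RingEquiv.ofBijective (algebraMap k (IsLocalRing.ResidueField P.O))
      (algebraMap_residue_bijective hK P), fun c => rfl⟩
  obtain ⟨ι, hι⟩ : ∃ ι : P.O →+* k⸨X⸩, ι = (HahnSeries.ofPowerSeries ℤ k).comp
      ((PowerSeries.map eκ.symm.toRingHom).comp (expand hK P t ht H hH)) := ⟨_, rfl⟩
  have hιcoeff : ∀ (z : P.O) (n : ℕ), (ι z).coeff (n : ℤ) =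
      eκ.symm (PowerSeries.coeff n (expand hK P t ht H hH z)) := by
    intro z n
    rw [hι]
    simp only [RingHom.coe_comp, Function.comp_apply]
    rw [HahnSeries.ofPowerSeries_apply_coeff, PowerSeries.coeff_map]
    rfl
  have hιneg : ∀ (z : P.O) (n : ℤ), n < 0 → (ι z).coeff n = 0 := by
    intro z n hn
    rw [hι]
    simp only [RingHom.coe_comp, Function.comp_apply]
    have := PowerSeries.coeff_coe (R := k)
      (PowerSeries.map eκ.symm.toRingHom (expand hK P t ht H hH z)) n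
    rw [if_pos hn] at this
    exact this
  have hιinj : Function.Injective ι := by
    rw [hι]
    simp only [RingHom.coe_comp]
    exact HahnSeries.ofPowerSeries_injective.comp
      ((PowerSeries.map_injective _ eκ.symm.injective).comp (expand_injective hK P t ht H hH))
  have hιalg : ∀ c : k, ι (algebraMap k P.O c) = algebraMap k k⸨X⸩ c := by
    intro c
    rw [hι]
    simp only [RingHom.coe_comp, Function.comp_apply]
    rw [expand_algebraMap, PowerSeries.map_C, HahnSeries.ofPowerSeries_C, LocRes.algebraMap_eq_C]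
    congr 1
    rw [← heκ]
    exact eκ.symm_apply_apply c
  have hιv : ∀ z : P.O, z ≠ 0 → Valued.v (ι z) = P.1 z.1 := by
    intro z hz
    have hz0 : z.1 ≠ 0 := fun h => hz (Subtype.ext h)
    have hord : 0 ≤ P.ord z.1 := by
      have := (v_le_exp_iff P hz0 0).1 (by rw [WithZero.exp_zero]; exact (mem_O_iff P _).1 z.2)
      omega
    obtain ⟨m, hm⟩ : ∃ m : ℕ, P.ord z.1 = m :=
      ⟨(P.ord z.1).toNat, (Int.toNat_of_nonneg hord).symm⟩
    have hv : P.1 z.1 = WithZero.exp (-(m : ℤ)) := by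
      have := v_eq_exp_neg_ord P hz0
      rw [hm] at this
      exact this
    rw [hv]
    apply valued_eq_exp_of_coeff
    · intro n hn
      rcases lt_or_ge n 0 with h | h
      · exact hιneg z n h
      · obtain ⟨n', rfl⟩ := Int.eq_ofNat_of_zero_le h
        rw [hιcoeff, coeff_expand_eq_zero hK P t ht H hH z hz (by rw [hm]; exact hn), map_zero]
    · rw [hιcoeff]
      intro h0
      exact coeff_expand_ne_zero hK P t ht H hH z hz hm.symm
        ((map_eq_zero_iff _ eκ.symm.injective).1 h0)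
  obtain ⟨Φ₀, hΦ₀⟩ : ∃ Φ₀ : K →+* k⸨X⸩, ∀ z : P.O, Φ₀ z.1 = ι z :=
    ⟨IsFractionRing.lift (A := P.O) (K := K) hιinj, fun z => IsFractionRing.lift_algebraMap hιinj z⟩
  obtain ⟨Φ, hΦ⟩ : ∃ Φ : K →ₐ[k] k⸨X⸩, ∀ z, Φ z = Φ₀ z :=
    ⟨{ Φ₀ with
        commutes' := fun c => by
          have := hΦ₀ (algebraMap k P.O c)
          rw [hιalg] at this
          exact this }, fun z => rfl⟩
  refine ⟨Φ, ?_, ?_, ⟨t, ht⟩⟩
  · have hint : ∀ f : K, P.1 f ≤ 1 → Valued.v (Φ f) = P.1 f := by
      intro f hf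
      by_cases hf0 : f = 0
      · rw [hf0, map_zero, map_zero, map_zero]
      · have hfO : f ∈ P.O := (mem_O_iff P f).2 hf
        have := hιv ⟨f, hfO⟩ (fun h => hf0 (congrArg Subtype.val h))
        rw [hΦ, hΦ₀ ⟨f, hfO⟩]
        exact this
    intro f
    by_cases hf : P.1 f ≤ 1
    · exact hint f hf
    · push Not at hf
      have hf0 : f ≠ 0 := by
        rintro rfl
        rw [map_zero] at hf
        exact not_lt.2 zero_le hf
      have h1 : P.1 f⁻¹ ≤ 1 := by
        rw [map_inv₀]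
        exact inv_le_one_of_one_le₀ hf.le
      have h2 := hint f⁻¹ h1
      rw [map_inv₀, map_inv₀, map_inv₀] at h2
      exact inv_injective h2
  · intro a
    refine ⟨algebraMap k K a, P.2.1 a, ?_⟩
    rw [Φ.commutes, LocRes.algebraMap_eq_C, HahnSeries.C_apply, HahnSeries.coeff_single_same]

/-- a family of Laurent expansions at all places -/
theorem exists_expansions [IsAlgClosed k] (hK : IsFunctionField k K) (s : K)
    (Hs : K →ₐ[k] K⟦X⟧) (hHs : LocRes.IsHasseFamily s Hs) :
    ∃ Φ : FunFld.Place k K → (K →ₐ[k] LaurentSeries k),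
      ∀ P : FunFld.Place k K, LocRes.IsExpansionAt P.1 (Φ P) := by
  have : ∀ P : FunFld.Place k K, ∃ Φ : K →ₐ[k] LaurentSeries k, LocRes.IsExpansionAt P.1 Φ := by
    intro P
    obtain ⟨t, ht⟩ := exists_uniformizer P
    obtain ⟨Ht, hHt⟩ := exists_isHasseFamily_of_ne_zero s t Hs hHs
      (hasseD_one_ne_zero_of_uniformizer' hK P s Hs hHs ht)
    exact exists_expansion hK P t ht Ht hHt
  choose Φ hΦ using this
  exact ⟨Φ, hΦ⟩

/-- at a strong fixed point the Weierstrass divisor has coefficient at least `n` -/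
theorem le_wDiv_of_isStrongFixedPt [IsAlgClosed k] (hK : IsFunctionField k K) (τ : K →ₐ[k] K)
    {n : ℕ} (φ : Fin (n + 1) → K) (hφ : LinearIndependent k φ)
    (hτφ : ¬ ∃ y : K, ∀ i, τ (φ i) = y * φ i) (s : K) (H : K →ₐ[k] K⟦X⟧)
    (hH : LocRes.IsHasseFamily s H) (J : Fin n → ℕ) (hJ : IsOrders K (hcol τ H φ) J)
    (Φ : FunFld.Place k K → (K →ₐ[k] LaurentSeries k))
    (hΦ : ∀ P : FunFld.Place k K, LocRes.IsExpansionAt P.1 (Φ P))
    (P : FunFld.Place k K) (hP : IsStrongFixedPt τ P) :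
    (n : ℤ) ≤ wDiv τ H Φ s φ J P := by
  classical
  have hn : 0 < n := by
    by_contra h
    have h0 : n = 0 := by omega
    subst h0
    apply hτφ
    have hφ0 : φ 0 ≠ 0 := hφ.ne_zero 0
    refine ⟨τ (φ 0) / φ 0, fun i => ?_⟩
    have : i = 0 := by
      apply Fin.ext
      have := i.isLt
      simp only [Fin.val_zero]
      omega
    rw [this, div_mul_cancel₀ _ hφ0]
  have hPf : IsFixedPt τ P := by
    intro z hz
    refine lt_of_le_of_lt (hP z hz) ?_
    rw [← WithZero.exp_zero, WithZero.exp_lt_exp]; norm_num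
  obtain ⟨t, Ht, y, φ', ht, hHt, hy, hφ'y, hφ'li, heff, hnorm, hJ'', hW⟩ :=
    exists_local_form hK φ hφ τ s H hH J hJ Φ hΦ P
  obtain ⟨i1, hi1⟩ := exists_v_eq_one_of_eff P φ' heff hnorm
  obtain ⟨J', hJ'⟩ := exists_isOrders_hcolAt hK P t ht Ht hHt φ' hφ'li hnorm ⟨i1, hi1⟩
  have h15 := (Groth.Agent.S12615.result k K hK τ P hPf φ' hφ'li heff hnorm t ht Ht hHt J hJ''
    J' hJ' Φ hΦ).1
  have hτφ' : ¬ ∃ y' : K, ∀ i, τ (φ' i) = y' * φ' i := by
    rintro ⟨y', hy'⟩
    apply hτφ
    refine ⟨y' * y / τ y, fun i => ?_⟩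
    have h1 := hy' i
    rw [hφ'y, Pi.smul_apply, smul_eq_mul, map_mul] at h1
    have hτy : τ y ≠ 0 := (map_ne_zero τ).2 hy
    field_simp
    linear_combination h1
  have h06 := Groth.Agent.S12606.result k K hK τ P hP hn φ' hφ'li heff hnorm hτφ' t ht Ht hHt
    J hJ'' J' hJ'
  have hJpos := one_le_of_isOrders hK P t ht Ht hHt φ' hnorm J' hJ'
  rw [hW]
  refine le_trans ?_ h15
  have h1 : ∀ l ∈ Finset.univ, (1 : ℤ) ≤ (J' l : ℤ) - J l := by
    intro l _
    have := h06 l
    have h2 := hJpos ⟨0, hn⟩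
    have h3 : (J l : ℤ) + J' ⟨0, hn⟩ ≤ J' l := by exact_mod_cast this
    have h4 : (1 : ℤ) ≤ J' ⟨0, hn⟩ := by exact_mod_cast h2
    linarith
  have := Finset.sum_le_sum h1
  simpa using this

/-- a nonnegative divisor with coefficient at least `c` on a set has degree at least `c` times
the size of the set (all places of degree one) -/
theorem mul_ncard_le_deg [IsAlgClosed k] (hK : IsFunctionField k K) (W : Divisor k K)
    (hW : 0 ≤ W) (c : ℤ) (hc : 1 ≤ c) (S : Set (FunFld.Place k K)) (hS : ∀ P ∈ S, c ≤ W P) :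
    S.Finite ∧ c * (S.ncard : ℤ) ≤ W.deg := by
  classical
  have hsub : S ⊆ (W.support : Set (FunFld.Place k K)) := by
    intro P hP
    rw [Finset.mem_coe, Finsupp.mem_support_iff]
    have := hS P hP
    omega
  have hfin : S.Finite := W.support.finite_toSet.subset hsub
  refine ⟨hfin, ?_⟩
  rw [Set.ncard_eq_toFinset_card S hfin]
  have hdeg : W.deg = ∑ P ∈ W.support, W P := by
    rw [deg_def, Finsupp.sum]
    refine Finset.sum_congr rfl (fun P _ => ?_)
    rw [deg_eq_one_of_isAlgClosed hK P]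
    simp
  rw [hdeg]
  have hsub' : hfin.toFinset ⊆ W.support := by
    intro P hP
    rw [Set.Finite.mem_toFinset] at hP
    exact Finset.mem_coe.1 (hsub hP)
  calc c * (hfin.toFinset.card : ℤ) = ∑ _P ∈ hfin.toFinset, c := by
        rw [Finset.sum_const, nsmul_eq_mul, mul_comm]
    _ ≤ ∑ P ∈ hfin.toFinset, W P := by
        apply Finset.sum_le_sum
        intro P hP
        rw [Set.Finite.mem_toFinset] at hP
        exact hS P hP
    _ ≤ ∑ P ∈ W.support, W P :=
        Finset.sum_le_sum_of_subset_of_nonneg hsub' (fun P _ _ => hW P)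


end Groth.Agent.Lib.Helper26.WGlobal7
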