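import Mathlib
import Groth.Agent.Lib.Helper26.WGlobal6
import Groth.Agent.Lib.Helper26.HasseExists
import Groth.Agent.S12612

set_option autoImplicit false
set_option linter.unusedSectionVars false
set_option linter.style.haveILetI false
open scoped WithZero IntermediateField PowerSeries LaurentSeries
open FunFld
open Groth.Agent.Lib.Helper2.FF
open Groth.Agent.Lib.Helper26.DiffDiv
open Groth.Agent.Lib.Helper26.HasseExists
open Groth.Agent.Lib.Helper26.WGlobal6

namespace Groth.Agent.Lib.Helper26.Adj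

universe u v
variable {k : Type u} {K : Type v} [Field k] [Field K] [Algebra k K]

/-- the order of `u ds` in terms of a fixed separating variable `t` -/
theorem ordDiff_general [IsAlgClosed k] (hK : IsFunctionField k K) (P : FunFld.Place k K)
    (Φ : K →ₐ[k] LaurentSeries k) (hΦ : LocRes.IsExpansionAt P.1 Φ)
    (t : K) (Ht : K →ₐ[k] K⟦X⟧) (hHt : LocRes.IsHasseFamily t Ht) (a s : K) (ha : a ≠ 0)
    (hs : LocRes.hasseD Ht 1 s ≠ 0) :
    LocRes.ordDiff Φ a s = P.ord a + P.ord (LocRes.hasseD Ht 1 s) + LocRes.ordDiff Φ 1 t := by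
  have hDt := D_expansion_ne_zero hK t Ht hHt P.1 Φ hΦ
  unfold LocRes.ordDiff LocRes.vDiff
  rw [map_one, one_mul, D_expansion_eq hK t Ht hHt Φ s, map_mul, map_mul, hΦ.1, hΦ.1,
    WithZero.log_mul ((Valuation.ne_zero_iff _).2 ha)
      (mul_ne_zero ((Valuation.ne_zero_iff _).2 hs) ((Valuation.ne_zero_iff _).2 hDt)),
    WithZero.log_mul ((Valuation.ne_zero_iff _).2 hs) ((Valuation.ne_zero_iff _).2 hDt)]
  rw [ord_def, ord_def]
  change _ = -WithZero.log (P.1 _) + -WithZero.log (P.1 _) + _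
  ring

/-- the divisor of `a ds` -/
theorem divDiff_general [IsAlgClosed k] (hK : IsFunctionField k K)
    (Φ : FunFld.Place k K → (K →ₐ[k] LaurentSeries k))
    (hΦ : ∀ P : FunFld.Place k K, LocRes.IsExpansionAt P.1 (Φ P))
    (t : K) (Ht : K →ₐ[k] K⟦X⟧) (hHt : LocRes.IsHasseFamily t Ht) (a s : K) (ha : a ≠ 0)
    (hs : LocRes.hasseD Ht 1 s ≠ 0) :
    divDiff Φ a s = FunFld.div k a + FunFld.div k (LocRes.hasseD Ht 1 s) + divDiff Φ 1 t := by
  classical
  have hpt : ∀ P : FunFld.Place k K, LocRes.ordDiff (Φ P) a s =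
      (FunFld.div k a + FunFld.div k (LocRes.hasseD Ht 1 s) + divDiff Φ 1 t) P := by
    intro P
    rw [Finsupp.add_apply, Finsupp.add_apply, div_apply hK, div_apply hK,
      divDiff_apply hK t Ht hHt Φ hΦ]
    exact ordDiff_general hK P (Φ P) (hΦ P) t Ht hHt a s ha hs
  have hfin : (Function.support fun P : FunFld.Place k K => LocRes.ordDiff (Φ P) a s).Finite := by
    apply (Finset.finite_toSet
      (FunFld.div k a + FunFld.div k (LocRes.hasseD Ht 1 s) + divDiff Φ 1 t).support).subset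
    intro P hP
    rw [Function.mem_support, hpt] at hP
    exact Finsupp.mem_support_iff.2 hP
  ext P
  rw [← hpt]
  unfold divDiff
  rw [dif_pos hfin]
  rfl

/-- for a tuple containing `1`, the coefficient of `[φ]` at `P` is the largest valuation -/
theorem exp_mapDiv (hK : IsFunctionField k K) {n : ℕ} (φ : Fin (n + 1) → K) (i₁ : Fin (n + 1))
    (h1 : φ i₁ = 1) (P : FunFld.Place k K) :
    WithZero.exp (mapDiv k φ P) =
      Finset.univ.sup' Finset.univ_nonempty (fun i => v P (φ i)) := by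
  rw [mapDiv_apply ⟨hK.1.choose, hK.1.choose_spec⟩]
  apply le_antisymm
  · obtain ⟨i0, -, hi0⟩ := Finset.exists_mem_eq_inf' Finset.univ_nonempty (fun i => P.ord (φ i))
    rw [hi0]
    by_cases h0 : φ i0 = 0
    · rw [h0, ord_zero, neg_zero, WithZero.exp_zero]
      have := Finset.le_sup' (fun i => v P (φ i)) (Finset.mem_univ i₁)
      rw [h1, map_one] at this
      exact this
    · rw [← v_eq_exp_neg_ord P h0]
      exact Finset.le_sup' (fun i => v P (φ i)) (Finset.mem_univ i0)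
  · rw [Finset.sup'_le_iff]
    intro i _
    have hle1 : Finset.univ.inf' Finset.univ_nonempty (fun i => P.ord (φ i)) ≤ 0 := by
      have := Finset.inf'_le (fun i => P.ord (φ i)) (Finset.mem_univ i₁)
      rw [h1, ord_one] at this
      exact this
    by_cases h0 : φ i = 0
    · rw [h0, map_zero]; exact zero_le
    · rw [v_eq_exp_neg_ord P h0, WithZero.exp_le_exp]
      have := Finset.inf'_le (fun i => P.ord (φ i)) (Finset.mem_univ i)
      omega

/-- the largest valuation of a tuple does not grow under a linear change with constant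
coefficients -/
theorem sup_v_le_of_linear {n : ℕ} (P : FunFld.Place k K) (A : Matrix (Fin n) (Fin n) k)
    (φ ψ : Fin n → K) (hψ : ∀ i, ψ i = ∑ j, algebraMap k K (A i j) * φ j) (b : ℤᵐ⁰)
    (hb : ∀ j, v P (φ j) ≤ b) (i : Fin n) : v P (ψ i) ≤ b := by
  rw [hψ i]
  apply Valuation.map_sum_le
  intro j _
  rw [map_mul]
  calc v P (algebraMap k K (A i j)) * v P (φ j) ≤ 1 * b :=
        mul_le_mul' (v_algebraMap_le P _) (hb j)
    _ = b := one_mul _

/-- inverting a linear change -/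
theorem linear_change_inv {M : Type*} [AddCommGroup M] [Module k M] {m : ℕ}
    (A : Matrix (Fin m) (Fin m) k) (hA : A.det ≠ 0) (φ ψ : Fin m → M)
    (hψ : ∀ i, ψ i = ∑ j, A i j • φ j) (j : Fin m) : φ j = ∑ i, A⁻¹ j i • ψ i := by
  classical
  have hinv : A⁻¹ * A = 1 := Matrix.nonsing_inv_mul A (isUnit_iff_ne_zero.2 hA)
  calc φ j = ∑ l, (1 : Matrix (Fin m) (Fin m) k) j l • φ l := by
        simp [Matrix.one_apply, ite_smul]
    _ = ∑ l, (∑ i, A⁻¹ j i * A i l) • φ l := by
        refine Finset.sum_congr rfl (fun l _ => ?_)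
        rw [← hinv, Matrix.mul_apply]
    _ = ∑ i, A⁻¹ j i • ψ i := by
        simp_rw [Finset.sum_smul, hψ, Finset.smul_sum, smul_smul]
        rw [Finset.sum_comm]

/-- the divisor of a plane map under a projective change of coordinates -/
theorem mapDiv_coord_change (hK : IsFunctionField k K) (x y : K)
    (A : Matrix (Fin 3) (Fin 3) k) (hA : A.det ≠ 0)
    (u : Fin 3 → K) (hu : ∀ i, ∑ j, algebraMap k K (A i j) * u j = ![(1 : K), x, y] i)
    (hu0 : u 0 ≠ 0) (P : FunFld.Place k K) :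
    mapDiv k ![(1 : K), u 1 / u 0, u 2 / u 0] P = mapDiv k ![(1 : K), x, y] P + P.ord (u 0) := by
  classical
  have hφ' : ∀ j, ![(1 : K), u 1 / u 0, u 2 / u 0] j = u j / u 0 := by
    intro j
    fin_cases j
    · simp [div_self hu0]
    · rfl
    · rfl
  have h1 := exp_mapDiv hK ![(1 : K), x, y] 0 rfl P
  have h2 := exp_mapDiv hK ![(1 : K), u 1 / u 0, u 2 / u 0] 0 rfl P
  obtain ⟨Vu, hVu⟩ : ∃ Vu, Vu = Finset.univ.sup' Finset.univ_nonempty (fun j => v P (u j)) :=
    ⟨_, rfl⟩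
  have hule : ∀ j, v P (u j) ≤ Vu := fun j => hVu ▸
    Finset.le_sup' (fun j => v P (u j)) (Finset.mem_univ j)
  have hVφ : Finset.univ.sup' Finset.univ_nonempty (fun i => v P (![(1 : K), x, y] i)) = Vu := by
    apply le_antisymm
    · rw [Finset.sup'_le_iff]
      intro i _
      exact sup_v_le_of_linear P A u ![(1 : K), x, y] (fun i => (hu i).symm) Vu hule i
    · rw [hVu, Finset.sup'_le_iff]
      intro j _
      have hsm : ∀ i, ![(1 : K), x, y] i = ∑ j, A i j • u j := by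
        intro i
        rw [← hu i]
        exact Finset.sum_congr rfl fun j _ => (Algebra.smul_def _ _).symm
      have hinv := linear_change_inv A hA u ![(1 : K), x, y] hsm
      refine sup_v_le_of_linear P A⁻¹ ![(1 : K), x, y] u (fun j => ?_) _
        (fun i => Finset.le_sup' (fun i => v P (![(1 : K), x, y] i)) (Finset.mem_univ i)) j
      rw [hinv j]
      exact Finset.sum_congr rfl fun i _ => Algebra.smul_def _ _
  have hu0v : v P (u 0) ≠ 0 := (Valuation.ne_zero_iff _).2 hu0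
  have hVφ' : Finset.univ.sup' Finset.univ_nonempty
      (fun i => v P (![(1 : K), u 1 / u 0, u 2 / u 0] i)) = Vu * (v P (u 0))⁻¹ := by
    apply le_antisymm
    · rw [Finset.sup'_le_iff]
      intro j _
      rw [hφ' j, map_div₀, div_eq_mul_inv]
      exact mul_le_mul_left (hule j) _
    · rw [hVu]
      obtain ⟨j0, -, hj0⟩ := Finset.exists_mem_eq_sup' Finset.univ_nonempty (fun j => v P (u j))
      rw [hj0]
      have := Finset.le_sup' (fun i => v P (![(1 : K), u 1 / u 0, u 2 / u 0] i))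
        (Finset.mem_univ j0)
      refine le_trans (le_of_eq ?_) this
      rw [hφ' j0, map_div₀, div_eq_mul_inv]
  rw [hVφ] at h1
  rw [hVφ', ← h1, v_eq_exp_neg_ord P hu0, ← WithZero.exp_neg, neg_neg, ← WithZero.exp_add] at h2
  exact WithZero.exp_injective h2

/-- **S12616**: the adjoint divisor is invariant under projective changes of coordinates -/
theorem adjointDiv_coord_change [IsAlgClosed k] (hK : FunFld.IsFunctionField k K)
    (f : MvPolynomial (Fin 3) k) (e : ℕ) (hf : f.IsHomogeneous e)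
    (x y : K) (hfxy : MvPolynomial.aeval ![(1 : K), x, y] f = 0)
    (hdx : KaehlerDifferential.D k K x ≠ 0)
    (he : (FunFld.mapDiv k ![(1 : K), x, y]).deg = e)
    (A : Matrix (Fin 3) (Fin 3) k) (hA : A.det ≠ 0)
    (u : Fin 3 → K) (hu : ∀ i, ∑ j, algebraMap k K (A i j) * u j = ![(1 : K), x, y] i)
    (hu0 : u 0 ≠ 0)
    (hfy : (MvPolynomial.aeval ![(1 : K), x, y] (MvPolynomial.pderiv 2 f)) ≠ 0)
    (hfy' : (MvPolynomial.aeval ![(1 : K), u 1 / u 0, u 2 / u 0] (MvPolynomial.pderiv 2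
      (MvPolynomial.aeval (fun i : Fin 3 => ∑ j, MvPolynomial.C (A i j) * MvPolynomial.X j) f))) ≠ 0)
    (Φ : FunFld.Place k K → (K →ₐ[k] LaurentSeries k))
    (hΦ : ∀ P : FunFld.Place k K, LocRes.IsExpansionAt P.1 (Φ P)) :
    ((FunFld.mapDiv k ![(1 : K), x, y]).deg - 3) • FunFld.mapDiv k ![(1 : K), x, y] -
        FunFld.divDiff Φ (MvPolynomial.aeval ![(1 : K), x, y] (MvPolynomial.pderiv 2 f))⁻¹ x =
      ((FunFld.mapDiv k ![(1 : K), u 1 / u 0, u 2 / u 0]).deg - 3) •
          FunFld.mapDiv k ![(1 : K), u 1 / u 0, u 2 / u 0] -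
        FunFld.divDiff Φ (MvPolynomial.aeval ![(1 : K), u 1 / u 0, u 2 / u 0] (MvPolynomial.pderiv 2
          (MvPolynomial.aeval (fun i : Fin 3 => ∑ j, MvPolynomial.C (A i j) * MvPolynomial.X j) f)))⁻¹
            (u 1 / u 0) := by
  classical
  obtain ⟨t, Ht, hHt⟩ := exists_isHasseFamily_of_isFunctionField hK
  have hDt := kaehler_D_ne_zero_of_isHasseFamily t Ht hHt
  have hkey := Groth.Agent.S12612.result k K f e hf x y hfxy A hA u hu hu0 hfy hfy'
  obtain ⟨a, ha⟩ : ∃ a : K, a = (MvPolynomial.aeval ![(1 : K), x, y] (MvPolynomial.pderiv 2 f))⁻¹ :=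
    ⟨_, rfl⟩
  obtain ⟨b', hb'⟩ : ∃ b' : K, b' = (MvPolynomial.aeval ![(1 : K), u 1 / u 0, u 2 / u 0]
      (MvPolynomial.pderiv 2 (MvPolynomial.aeval
        (fun i : Fin 3 => ∑ j, MvPolynomial.C (A i j) * MvPolynomial.X j) f)))⁻¹ := ⟨_, rfl⟩
  rw [← ha, ← hb'] at hkey ⊢
  have ha0 : a ≠ 0 := ha ▸ inv_ne_zero hfy
  have hb'0 : b' ≠ 0 := hb' ▸ inv_ne_zero hfy'
  have hc0 : algebraMap k K A.det ≠ 0 := (map_ne_zero _).2 hA
  have hz0 : (u 0)⁻¹ ^ ((e : ℤ) - 3) ≠ 0 := zpow_ne_zero _ (inv_ne_zero hu0)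
  -- pass to the coefficient of `dt`
  rw [kaehler_D_eq_smul hK t Ht hHt x, kaehler_D_eq_smul hK t Ht hHt (u 1 / u 0), smul_smul,
    smul_smul] at hkey
  have hcoef : a * LocRes.hasseD Ht 1 x =
      algebraMap k K A.det * (u 0)⁻¹ ^ ((e : ℤ) - 3) * b' * LocRes.hasseD Ht 1 (u 1 / u 0) := by
    have h1 := sub_eq_zero.2 hkey
    rw [← sub_smul, smul_eq_zero] at h1
    rcases h1 with h1 | h1
    · exact sub_eq_zero.1 h1
    · exact absurd h1 hDt
  have hdx0 : LocRes.hasseD Ht 1 x ≠ 0 := by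
    intro h0
    apply hdx
    rw [kaehler_D_eq_smul hK t Ht hHt x, h0, zero_smul]
  have hdx'0 : LocRes.hasseD Ht 1 (u 1 / u 0) ≠ 0 := by
    intro h0
    rw [h0, mul_zero] at hcoef
    exact mul_ne_zero ha0 hdx0 hcoef
  -- the two divisors of differentials
  have hD1 := divDiff_general hK Φ hΦ t Ht hHt a x ha0 hdx0
  have hD2 := divDiff_general hK Φ hΦ t Ht hHt b' (u 1 / u 0) hb'0 hdx'0
  -- degrees
  have hmd : FunFld.mapDiv k ![(1 : K), u 1 / u 0, u 2 / u 0] =
      FunFld.mapDiv k ![(1 : K), x, y] + FunFld.div k (u 0) := by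
    ext P
    rw [Finsupp.add_apply, div_apply hK]
    exact mapDiv_coord_change hK x y A hA u hu hu0 P
  have hdeg : (FunFld.mapDiv k ![(1 : K), u 1 / u 0, u 2 / u 0]).deg =
      (FunFld.mapDiv k ![(1 : K), x, y]).deg := by
    rw [hmd, deg_add, deg_div hK, add_zero]
  rw [hdeg, hD1, hD2, hmd]
  ext P
  have hord := congrArg P.ord hcoef
  rw [ord_mul P ha0 hdx0, ord_mul P (mul_ne_zero (mul_ne_zero hc0 hz0) hb'0) hdx'0,
    ord_mul P (mul_ne_zero hc0 hz0) hb'0, ord_mul P hc0 hz0, ord_algebraMap, ord_zpow, ord_inv]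
    at hord
  simp only [Finsupp.coe_sub, Finsupp.coe_add, Finsupp.coe_smul, Pi.sub_apply, Pi.add_apply,
    Pi.smul_apply, smul_eq_mul, div_apply hK]
  rw [he]
  linear_combination (-1 : ℤ) * hord

end Groth.Agent.Lib.Helper26.Adj
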