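import Mathlib
import Groth.Agent.Lib.Helper2.FunFld.ExtSum
import Groth.Agent.Lib.Helper2.FunFld.DegOne

/-!
# Places of the rational function field `k(X)` at an irreducible polynomial
-/

set_option autoImplicit false
open scoped WithZero IntermediateField
open FunFld Polynomial
open Groth.Agent.Lib.Helper2.FF

namespace Groth.Agent.Lib.Helper26.FunFldRatPlace

variable {k : Type*} [Field k]

theorem isFunctionField_ratFunc : IsFunctionField k (RatFunc k) := by
  refine ⟨⟨RatFunc.X, RatFunc.transcendental_X, ?_⟩, ?_⟩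
  · rw [RatFunc.adjoin_X]
    exact Module.finite_of_finrank_pos (by rw [IntermediateField.finrank_top]; norm_num)
  · intro y hy
    by_contra h
    refine RatFunc.transcendental_of_ne_C (K := k) (f := y) ?_ hy
    rintro ⟨c, rfl⟩
    exact h ⟨c, rfl⟩

section

variable (P₀ : FunFld.Place k (RatFunc k))

/-- the valuation restricted to polynomials -/
noncomputable def w : Valuation k[X] ℤᵐ⁰ := P₀.1.comap (algebraMap k[X] (RatFunc k))

theorem w_apply (q : k[X]) : w P₀ q = v P₀ (algebraMap k[X] (RatFunc k) q) := rfl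

theorem w_C_le (c : k) : w P₀ (C c) ≤ 1 := by
  rw [w_apply]
  have : algebraMap k[X] (RatFunc k) (C c) = algebraMap k (RatFunc k) c := by
    rw [← Polynomial.algebraMap_eq, ← IsScalarTower.algebraMap_apply]
  rw [this]
  exact v_algebraMap_le P₀ c

theorem w_C {c : k} (hc : c ≠ 0) : w P₀ (C c) = 1 := by
  rw [w_apply]
  have : algebraMap k[X] (RatFunc k) (C c) = algebraMap k (RatFunc k) c := by
    rw [← Polynomial.algebraMap_eq, ← IsScalarTower.algebraMap_apply]
  rw [this]
  exact v_algebraMap P₀ hc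

theorem w_eq_zero_iff (q : k[X]) : w P₀ q = 0 ↔ q = 0 := by
  rw [w_apply, map_eq_zero]
  exact (map_eq_zero_iff _ (IsFractionRing.injective k[X] (RatFunc k)))

/-- if `w X > 1` then `w q = (w X)^deg q`. -/
theorem w_eq_pow_of_one_lt (hX : 1 < w P₀ X) :
    ∀ (n : ℕ) (q : k[X]), q ≠ 0 → q.natDegree = n → w P₀ q = w P₀ X ^ n := by
  intro n
  induction n using Nat.strong_induction_on with
  | _ n ih =>
    intro q hq hn
    have hlc : q.leadingCoeff ≠ 0 := leadingCoeff_ne_zero.2 hq
    have htop : w P₀ (C q.leadingCoeff * X ^ q.natDegree) = w P₀ X ^ n := by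
      rw [map_mul, map_pow, w_C P₀ hlc, one_mul, hn]
    by_cases he : q.eraseLead = 0
    · rw [← eraseLead_add_C_mul_X_pow q, he, zero_add, htop]
    · have hlt : q.eraseLead.natDegree < n := by
        rcases eraseLead_natDegree_lt_or_eraseLead_eq_zero q with h | h
        · rw [← hn]; exact h
        · exact absurd h he
      have h1 := ih _ hlt q.eraseLead he rfl
      have h2 : w P₀ q.eraseLead < w P₀ (C q.leadingCoeff * X ^ q.natDegree) := by
        rw [h1, htop]
        exact pow_lt_pow_right₀ hX hlt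
      rw [← eraseLead_add_C_mul_X_pow q, Valuation.map_add_eq_of_lt_right _ h2, htop]

theorem w_le_one_of_X_le (hX : w P₀ X ≤ 1) (q : k[X]) : w P₀ q ≤ 1 := by
  induction q using Polynomial.induction_on with
  | C a => exact w_C_le P₀ a
  | add p q hp hq => exact (Valuation.map_add _ _ _).trans (max_le hp hq)
  | monomial n a _ =>
    rw [map_mul, map_pow]
    exact mul_le_one' (w_C_le P₀ a) (pow_le_one' hX _)

variable {p : k[X]} (hp : Irreducible p) (hlt : w P₀ p < 1)
include hp hlt

theorem w_X_le_one : w P₀ X ≤ 1 := by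
  by_contra hX
  push Not at hX
  have h1 := w_eq_pow_of_one_lt P₀ hX p.natDegree p hp.ne_zero rfl
  have h2 : 1 ≤ w P₀ X ^ p.natDegree := one_le_pow₀ hX.le
  rw [← h1] at h2
  exact absurd hlt (not_lt.2 h2)

theorem w_le_one (q : k[X]) : w P₀ q ≤ 1 := w_le_one_of_X_le P₀ (w_X_le_one P₀ hp hlt) q

theorem w_lt_one_iff (q : k[X]) : w P₀ q < 1 ↔ p ∣ q := by
  constructor
  · intro hq
    by_contra hnd
    have hcop : IsCoprime p q := (Irreducible.coprime_iff_not_dvd hp).2 hnd
    obtain ⟨a, b, hab⟩ := hcop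
    have h1 : w P₀ (a * p + b * q) < 1 := by
      refine (Valuation.map_add _ _ _).trans_lt (max_lt ?_ ?_)
      · rw [map_mul]
        exact mul_lt_one_of_nonneg_of_lt_one_right (w_le_one P₀ hp hlt a) zero_le' hlt
      · rw [map_mul]
        exact mul_lt_one_of_nonneg_of_lt_one_right (w_le_one P₀ hp hlt b) zero_le' hq
    rw [hab, map_one] at h1
    exact lt_irrefl _ h1
  · rintro ⟨c, rfl⟩
    rw [map_mul]
    exact mul_lt_one_of_nonneg_of_lt_one_left zero_le' hlt (w_le_one P₀ hp hlt c)

theorem w_eq_one_of_not_dvd {q : k[X]} (hq : ¬ p ∣ q) : w P₀ q = 1 :=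
  le_antisymm (w_le_one P₀ hp hlt q) (not_lt.1 (fun h => hq ((w_lt_one_iff P₀ hp hlt q).1 h)))

/-- every nonzero polynomial has valuation a power of `w p`. -/
theorem exists_w_eq_pow {q : k[X]} (hq : q ≠ 0) : ∃ m : ℕ, w P₀ q = w P₀ p ^ m := by
  obtain ⟨m, a, ha, rfl⟩ := WfDvdMonoid.max_power_factor hq hp
  exact ⟨m, by rw [map_mul, map_pow, w_eq_one_of_not_dvd P₀ hp hlt ha, mul_one]⟩

theorem w_p_eq : w P₀ p = WithZero.exp (-1 : ℤ) := by
  obtain ⟨t, ht⟩ := exists_uniformizer P₀
  have ht0 : t ≠ 0 := by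
    rintro rfl
    rw [map_zero] at ht
    exact WithZero.exp_ne_zero.symm ht
  have hnum0 : t.num ≠ 0 := RatFunc.num_ne_zero ht0
  have hden0 : t.denom ≠ 0 := RatFunc.denom_ne_zero t
  obtain ⟨m, hm⟩ := exists_w_eq_pow P₀ hp hlt hnum0
  obtain ⟨n, hn⟩ := exists_w_eq_pow P₀ hp hlt hden0
  have hp0 : algebraMap k[X] (RatFunc k) p ≠ 0 := by
    rw [Ne, map_eq_zero_iff _ (IsFractionRing.injective k[X] (RatFunc k))]
    exact hp.ne_zero
  have hc : 0 < P₀.ord (algebraMap k[X] (RatFunc k) p) := (v_lt_one_iff P₀ hp0).1 hlt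
  have hdiv : t = algebraMap k[X] (RatFunc k) t.num / algebraMap k[X] (RatFunc k) t.denom :=
    (RatFunc.num_div_denom t).symm
  have h1 : v P₀ t = w P₀ p ^ m / w P₀ p ^ n := by
    conv_lhs => rw [hdiv]
    rw [map_div₀, ← w_apply, ← w_apply, hm, hn]
  rw [ht, w_apply, v_eq_exp_neg_ord P₀ hp0] at h1
  rw [w_apply, v_eq_exp_neg_ord P₀ hp0]
  set c := P₀.ord (algebraMap k[X] (RatFunc k) p) with hcdef
  rw [← WithZero.exp_nsmul, ← WithZero.exp_nsmul, ← WithZero.exp_sub, WithZero.exp_inj] at h1
  have h2 : c * ((m : ℤ) - n) = 1 := by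
    simp only [smul_eq_mul, nsmul_eq_mul] at h1
    linarith
  have h3 : c = 1 := by
    have hdvd : c ∣ 1 := Dvd.intro _ h2
    have := Int.eq_one_of_dvd_one hc.le hdvd
    exact this
  rw [h3]

end


section More

variable {k : Type*} [Field k] (P₀ : FunFld.Place k (RatFunc k))

theorem w_X_le_one_of_lt {q : k[X]} (hq0 : q ≠ 0) (hq : w P₀ q < 1) : w P₀ X ≤ 1 := by
  by_contra hX
  push Not at hX
  have h1 := w_eq_pow_of_one_lt P₀ hX q.natDegree q hq0 rfl
  have h2 : 1 ≤ w P₀ X ^ q.natDegree := one_le_pow₀ hX.le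
  rw [← h1] at h2
  exact absurd hq (not_lt.2 h2)

theorem exists_irreducible_dvd_of_w_lt_one (hX : w P₀ X ≤ 1) (q : k[X]) (hq0 : q ≠ 0)
    (hq : w P₀ q < 1) : ∃ p : k[X], Irreducible p ∧ p ∣ q ∧ w P₀ p < 1 := by
  induction q using UniqueFactorizationMonoid.induction_on_prime with
  | h₁ => exact absurd rfl hq0
  | h₂ u hu =>
    exfalso
    obtain ⟨c, hc, rfl⟩ := Polynomial.isUnit_iff.1 hu
    rw [w_C P₀ hc.ne_zero] at hq
    exact lt_irrefl _ hq
  | h₃ a p ha0 hp ih =>
    by_cases hpl : w P₀ p < 1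
    · exact ⟨p, hp.irreducible, dvd_mul_right p a, hpl⟩
    · have hp1 : w P₀ p = 1 := le_antisymm (w_le_one_of_X_le P₀ hX p) (not_lt.1 hpl)
      rw [map_mul, hp1, one_mul] at hq
      obtain ⟨p', hp', hd, hl⟩ := ih ha0 hq
      exact ⟨p', hp', hd.mul_left p, hl⟩

theorem w_eq_of_squarefree {p : k[X]} (hp : Irreducible p) (hlt : w P₀ p < 1) {f : k[X]}
    (hf : Squarefree f) (hpf : p ∣ f) : w P₀ f = WithZero.exp (-1 : ℤ) := by
  obtain ⟨h, rfl⟩ := hpf
  have hnd : ¬ p ∣ h := by
    intro hd
    have : p * p ∣ p * h := mul_dvd_mul_left p hd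
    exact hp.not_isUnit (hf p this)
  rw [map_mul, w_p_eq P₀ hp hlt, w_eq_one_of_not_dvd P₀ hp hlt hnd, mul_one]

end More

section Over

variable {k K K' : Type*} [Field k] [Field K] [Field K'] [Algebra k K] [Algebra K K']
  [Algebra k K'] [IsScalarTower k K K']

/-- the inclusion of valuation rings for a place over another -/
noncomputable def oMap {Q : FunFld.Place k K'} {P : FunFld.Place k K} {e : ℕ}
    (he : IsOverWith Q P e) : P.O →+* Q.O where
  toFun x := ⟨algebraMap K K' x.1, by
    rw [mem_O_iff, he x.1]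
    exact pow_le_one' ((mem_O_iff P _).1 x.2) e⟩
  map_one' := Subtype.ext (by simp)
  map_mul' a b := Subtype.ext (by simp)
  map_zero' := Subtype.ext (by simp)
  map_add' a b := Subtype.ext (by simp)

theorem isLocalHom_oMap {Q : FunFld.Place k K'} {P : FunFld.Place k K} {e : ℕ}
    (he : IsOverWith Q P e) : IsLocalHom (oMap he) := by
  constructor
  intro a ha
  have h1 := (Valuation.valuationSubring.integers Q.1).isUnit_iff_valuation_eq_one.1 ha
  change Q.1 (algebraMap K K' a.1) = 1 at h1
  rw [he a.1] at h1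
  have he1 := isOverWith_one_le he
  have h2 : P.1 a.1 = 1 := by
    rcases (pow_eq_one_iff (M := ℤᵐ⁰) (a := P.1 a.1) (n := e)).1 h1 with h | h
    · exact h
    · omega
  exact (Valuation.valuationSubring.integers P.1).isUnit_iff_valuation_eq_one.2 h2

theorem deg_le_of_isOverWith {Q : FunFld.Place k K'} {P : FunFld.Place k K} {e : ℕ}
    (he : IsOverWith Q P e) (hpos : 0 < Q.deg) : P.deg ≤ Q.deg := by
  haveI := isLocalHom_oMap he
  unfold Place.deg at hpos ⊢
  haveI : Module.Finite k (IsLocalRing.ResidueField Q.O) := Module.finite_of_finrank_pos hpos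
  let f : IsLocalRing.ResidueField P.O →ₗ[k] IsLocalRing.ResidueField Q.O :=
    { toFun := IsLocalRing.ResidueField.map (oMap he)
      map_add' := map_add _
      map_smul' := by
        intro c x
        obtain ⟨a, rfl⟩ := IsLocalRing.residue_surjective x
        simp only [RingHom.id_apply]
        change IsLocalRing.ResidueField.map (oMap he) (IsLocalRing.residue _ (c • a)) =
          c • IsLocalRing.ResidueField.map (oMap he) (IsLocalRing.residue _ a)
        rw [IsLocalRing.ResidueField.map_residue, IsLocalRing.ResidueField.map_residue]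
        change _ = IsLocalRing.residue _ (c • (oMap he a))
        congr 1
        apply Subtype.ext
        change algebraMap K K' (algebraMap k K c * a.1) = algebraMap k K' c * algebraMap K K' a.1
        rw [map_mul, ← IsScalarTower.algebraMap_apply] }
  exact LinearMap.finrank_le_finrank_of_injective (f := f)
    (IsLocalRing.ResidueField.map (oMap he)).injective


theorem deg_pos_of_finite [FiniteDimensional K K'] (hK : IsFunctionField k K)
    (Q : FunFld.Place k K') : 0 < Q.deg := by
  have hFF : IsFFw k K' := isFFw_of_finite hK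
  rw [deg_eq_mul_deg_extPlace]
  have h1 := deg_pos (extPlace Q) (isFunctionField_KC hFF)
  haveI := finiteDimensional_KC hFF
  have h2 : 0 < Module.finrank k (KC k K') := Module.finrank_pos
  exact Nat.mul_pos h2 h1

end Over



section Infinite

variable {k : Type*} [Field k] (Pinf : FunFld.Place k (RatFunc k))
  (hinf : Pinf.ord (RatFunc.X : RatFunc k) < 0)
include hinf

theorem one_lt_w_X : 1 < w Pinf X := by
  have hX0 : (RatFunc.X : RatFunc k) ≠ 0 := RatFunc.X_ne_zero
  rw [w_apply, RatFunc.algebraMap_X]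
  exact (one_lt_v_iff Pinf hX0).2 hinf

theorem ord_poly_inf {q : k[X]} (hq : q ≠ 0) :
    Pinf.ord (algebraMap k[X] (RatFunc k) q) = q.natDegree * Pinf.ord (RatFunc.X : RatFunc k) := by
  have h1 := w_eq_pow_of_one_lt Pinf (one_lt_w_X Pinf hinf) q.natDegree q hq rfl
  rw [ord_def, ← w_apply, h1, WithZero.log_pow, w_apply, RatFunc.algebraMap_X, ord_def]
  simp

theorem ord_X_inf : Pinf.ord (RatFunc.X : RatFunc k) = -1 := by
  obtain ⟨t, ht⟩ := exists_uniformizer Pinf
  have ht0 : t ≠ 0 := by
    rintro rfl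
    rw [map_zero] at ht
    exact WithZero.exp_ne_zero.symm ht
  have hnum0 : t.num ≠ 0 := RatFunc.num_ne_zero ht0
  have hden0 : t.denom ≠ 0 := RatFunc.denom_ne_zero t
  have hnum0' : algebraMap k[X] (RatFunc k) t.num ≠ 0 := by
    rw [Ne, map_eq_zero_iff _ (IsFractionRing.injective k[X] (RatFunc k))]; exact hnum0
  have hden0' : algebraMap k[X] (RatFunc k) t.denom ≠ 0 := by
    rw [Ne, map_eq_zero_iff _ (IsFractionRing.injective k[X] (RatFunc k))]; exact hden0
  have hdiv : t = algebraMap k[X] (RatFunc k) t.num * (algebraMap k[X] (RatFunc k) t.denom)⁻¹ := by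
    rw [← div_eq_mul_inv]; exact (RatFunc.num_div_denom t).symm
  have h1 : Pinf.ord t = 1 := (ord_eq_iff Pinf ht0 1).2 ht
  rw [hdiv, ord_mul Pinf hnum0' (inv_ne_zero hden0'), ord_inv, ord_poly_inf Pinf hinf hnum0,
    ord_poly_inf Pinf hinf hden0] at h1
  set c := Pinf.ord (RatFunc.X : RatFunc k) with hc
  have h2 : (-c) * ((t.denom.natDegree : ℤ) - t.num.natDegree) = 1 := by linarith
  have hdvd : (-c) ∣ 1 := Dvd.intro _ h2
  have := Int.eq_one_of_dvd_one (by omega) hdvd
  omega

theorem ord_poly_inf' {q : k[X]} (hq : q ≠ 0) :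
    Pinf.ord (algebraMap k[X] (RatFunc k) q) = -(q.natDegree : ℤ) := by
  rw [ord_poly_inf Pinf hinf hq, ord_X_inf Pinf hinf]; ring

theorem deg_inf : Pinf.deg = 1 := by
  classical
  have hK0 : IsFunctionField k (RatFunc k) := isFunctionField_ratFunc
  have h1 := deg_pdiv hK0 (RatFunc.transcendental_X (K := k))
  have h2 : Module.finrank k⟮(RatFunc.X : RatFunc k)⟯ (RatFunc k) = 1 := by
    rw [RatFunc.adjoin_X]; exact IntermediateField.finrank_top
  rw [h2] at h1
  have hle : (Finsupp.single Pinf 1 : Divisor k (RatFunc k)) ≤ pdiv (k := k) (RatFunc.X : RatFunc k) := by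
    intro Q
    rw [pdiv_apply hK0, Finsupp.single_apply]
    split_ifs with h
    · subst h
      rw [ord_X_inf Pinf hinf]; simp
    · exact le_max_right _ _
  have h3 := deg_mono hle
  rw [deg_single, h1] at h3
  have h4 := deg_pos Pinf hK0
  have : (Pinf.deg : ℤ) ≤ 1 := by simpa using h3
  omega

end Infinite



section Quadratic

variable {k K₀ K : Type*} [Field k] [Field K₀] [Field K] [Algebra k K₀] [Algebra K₀ K]
  [Algebra k K] [IsScalarTower k K₀ K]

theorem ord_add_eq_of_lt (P : FunFld.Place k K) {a b : K} (ha : a ≠ 0) (hb : b ≠ 0)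
    (h : P.ord a < P.ord b) : P.ord (a + b) = P.ord a := by
  have h1 : v P b < v P a := by
    rw [v_eq_exp_neg_ord P ha, v_eq_exp_neg_ord P hb, WithZero.exp_lt_exp]
    omega
  have h2 : v P (a + b) = v P a := Valuation.map_add_eq_of_lt_left _ h1
  rw [ord_def, h2, ← ord_def]

/-- In a quadratic extension generated by a square root of a unit at a rational place (residue
characteristic not two), there is no ramification. -/
theorem e_eq_one_of_unit_sq (h2 : (2 : k) ≠ 0) [FiniteDimensional K₀ K]
    (hdeg : Module.finrank K₀ K = 2) (hK₀ : IsFunctionField k K₀) (P₀ : FunFld.Place k K₀)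
    (hP₀ : P₀.deg = 1) (z : K) (u : K₀) (hz : z ^ 2 = algebraMap K₀ K u) (hu0 : u ≠ 0)
    (hu : P₀.ord u = 0) (hzn : z ∉ Set.range (algebraMap K₀ K))
    (P : FunFld.Place k K) (e : ℕ) (he : IsOverWith P P₀ e) : e = 1 := by
  classical
  by_contra hne
  have he1 := isOverWith_one_le he
  have he2 : 2 ≤ e := by omega
  obtain ⟨hfin, hsum⟩ := sum_ramIdx_mul_deg (K' := K) hK₀ P₀
  have hsum' := hsum hfin.toFinset (fun Q => hfin.mem_toFinset)
  rw [hdeg, hP₀] at hsum'
  have hPmem : P ∈ hfin.toFinset := hfin.mem_toFinset.2 ⟨e, he⟩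
  have hle := Finset.single_le_sum (f := fun Q => ramIdx Q P₀ * Q.deg)
    (fun Q _ => Nat.zero_le _) hPmem
  rw [hsum', ramIdx_eq he] at hle
  have hdegpos := deg_pos_of_finite hK₀ P
  have hdegP : P.deg = 1 := by nlinarith
  have he2' : e = 2 := by nlinarith
  subst he2'
  have hz0 : z ≠ 0 := by
    rintro rfl
    apply hzn
    exact ⟨0, by simp⟩
  have hα : ∀ α : K₀, P.ord (algebraMap K₀ K α) = 2 * P₀.ord α := by
    intro α
    rw [isOverWith_ord he]
    norm_num
  have hordz : P.ord z = 0 := by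
    have h1 := hα u
    rw [← hz, ord_pow, hu] at h1
    push_cast at h1
    omega
  have hvz : v P z = 1 := (v_eq_one_iff P hz0).2 hordz
  obtain ⟨c, hc⟩ := exists_sub_lt_one P hdegP (le_of_eq hvz)
  have hc0 : c ≠ 0 := by
    rintro rfl
    rw [map_zero, sub_zero, hvz] at hc
    exact lt_irrefl _ hc
  -- all orders are even
  have hli : LinearIndependent K₀ ![1, z] := by
    rw [LinearIndependent.pair_iff]
    intro s t hst
    have ht : t = 0 := by
      by_contra ht
      apply hzn
      refine ⟨-(t⁻¹ * s), ?_⟩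
      have h1 : t • z = -(s • (1 : K)) := eq_neg_of_add_eq_zero_right hst
      have h3 : z = t⁻¹ • (t • z) := by rw [smul_smul, inv_mul_cancel₀ ht, one_smul]
      rw [h3, h1, Algebra.smul_def, Algebra.smul_def, mul_one, map_neg, map_mul, mul_neg]
    subst ht
    rw [zero_smul, add_zero] at hst
    have hs : s = 0 := by
      rw [Algebra.smul_def, mul_one] at hst
      exact (map_eq_zero _).1 hst
    exact ⟨hs, rfl⟩
  let b := basisOfLinearIndependentOfCardEqFinrank hli (by simp [hdeg])
  have hdecomp : ∀ w : K, ∃ α β : K₀, w = algebraMap K₀ K α + algebraMap K₀ K β * z := by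
    intro w
    refine ⟨b.repr w 0, b.repr w 1, ?_⟩
    have h1 := b.sum_repr w
    rw [Fin.sum_univ_two] at h1
    simp only [b, coe_basisOfLinearIndependentOfCardEqFinrank, Matrix.cons_val_zero,
      Matrix.cons_val_one] at h1
    rw [Algebra.smul_def, Algebra.smul_def, mul_one] at h1
    exact h1.symm
  -- the key computation for `γ + z`
  have hkey : ∀ γ : K₀, v P₀ γ = 1 → Even (P.ord (algebraMap K₀ K γ + z)) := by
    intro γ hγ
    obtain ⟨γ₀, hγ₀⟩ := exists_sub_lt_one P₀ hP₀ (le_of_eq hγ)
    have hA : v P (algebraMap K₀ K (γ - algebraMap k K₀ γ₀)) < 1 :=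
      (isOverWith_lt_one_iff he _).2 hγ₀
    rw [map_sub, ← IsScalarTower.algebraMap_apply] at hA
    by_cases hsum0 : γ₀ + c = 0
    · -- use the conjugate
      have hconj : v P (algebraMap K₀ K γ - z) = 1 := by
        have e1 : algebraMap K₀ K γ - z = (algebraMap K₀ K γ - algebraMap k K γ₀) -
            (z - algebraMap k K c) + algebraMap k K (γ₀ - c) := by
          rw [map_sub]; ring
        have hgc : γ₀ - c ≠ 0 := by
          have : γ₀ = -c := eq_neg_of_add_eq_zero_left hsum0
          rw [this]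
          intro h
          apply hc0
          have : (2 : k) * c = 0 := by linear_combination -h
          exact (mul_eq_zero.1 this).resolve_left h2
        have h1 : v P ((algebraMap K₀ K γ - algebraMap k K γ₀) - (z - algebraMap k K c)) < 1 :=
          (Valuation.map_sub _ _ _).trans_lt (max_lt hA hc)
        rw [e1, Valuation.map_add_eq_of_lt_right _ (by rw [v_algebraMap P hgc]; exact h1),
          v_algebraMap P hgc]
      have hprod : (algebraMap K₀ K γ + z) * (algebraMap K₀ K γ - z) =
          algebraMap K₀ K (γ ^ 2 - u) := by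
        rw [map_sub, map_pow, ← hz]; ring
      have hne1 : algebraMap K₀ K γ + z ≠ 0 := by
        intro h
        apply hzn
        exact ⟨-γ, by rw [map_neg]; exact (eq_neg_of_add_eq_zero_right h).symm⟩
      have hne2 : algebraMap K₀ K γ - z ≠ 0 := by
        intro h
        apply hzn
        exact ⟨γ, (sub_eq_zero.1 h)⟩
      have h3 := ord_mul P hne1 hne2
      rw [hprod, hα, (v_eq_one_iff P hne2).1 hconj, add_zero] at h3
      rw [← h3]
      exact even_two_mul _
    · have hgc : γ₀ + c ≠ 0 := hsum0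
      have e1 : algebraMap K₀ K γ + z = (algebraMap K₀ K γ - algebraMap k K γ₀) +
          (z - algebraMap k K c) + algebraMap k K (γ₀ + c) := by
        rw [map_add]; ring
      have h1 : v P ((algebraMap K₀ K γ - algebraMap k K γ₀) + (z - algebraMap k K c)) < 1 :=
        (Valuation.map_add _ _ _).trans_lt (max_lt hA hc)
      have h3 : v P (algebraMap K₀ K γ + z) = 1 := by
        rw [e1, Valuation.map_add_eq_of_lt_right _ (by rw [v_algebraMap P hgc]; exact h1),
          v_algebraMap P hgc]
      have hne1 : algebraMap K₀ K γ + z ≠ 0 := by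
        intro h
        rw [h, map_zero] at h3
        exact zero_ne_one h3
      rw [(v_eq_one_iff P hne1).1 h3]
      exact ⟨0, by simp⟩
  have heven : ∀ w : K, w ≠ 0 → Even (P.ord w) := by
    intro w hw
    obtain ⟨α, β, rfl⟩ := hdecomp w
    by_cases hβ : β = 0
    · subst hβ
      rw [map_zero, zero_mul, add_zero, hα]
      exact even_two_mul _
    by_cases hα0 : α = 0
    · subst hα0
      have hβ' : algebraMap K₀ K β ≠ 0 := by simpa using hβ
      rw [map_zero, zero_add, ord_mul P hβ' hz0, hα, hordz, add_zero]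
      exact even_two_mul _
    have hα' : algebraMap K₀ K α ≠ 0 := by simpa using hα0
    have hβ' : algebraMap K₀ K β ≠ 0 := by simpa using hβ
    have hβz : algebraMap K₀ K β * z ≠ 0 := mul_ne_zero hβ' hz0
    have hoβz : P.ord (algebraMap K₀ K β * z) = 2 * P₀.ord β := by
      rw [ord_mul P hβ' hz0, hα, hordz, add_zero]
    rcases lt_trichotomy (P₀.ord α) (P₀.ord β) with hlt | heq | hgt
    · rw [ord_add_eq_of_lt P hα' hβz (by rw [hα, hoβz]; omega), hα]
      exact even_two_mul _
    · -- equal orders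
      have hγ : v P₀ (α / β) = 1 := by
        rw [v_eq_one_iff P₀ (div_ne_zero hα0 hβ), div_eq_mul_inv, ord_mul P₀ hα0 (inv_ne_zero hβ),
          ord_inv, heq]
        ring
      have e1 : algebraMap K₀ K α + algebraMap K₀ K β * z =
          algebraMap K₀ K β * (algebraMap K₀ K (α / β) + z) := by
        rw [map_div₀]; field_simp
      have hne1 : algebraMap K₀ K (α / β) + z ≠ 0 := by
        intro h
        apply hw
        rw [e1, h, mul_zero]
      rw [e1, ord_mul P hβ' hne1, hα]
      exact (even_two_mul _).add (hkey _ hγ)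
    · rw [add_comm, ord_add_eq_of_lt P hβz hα' (by rw [hα, hoβz]; omega), hoβz]
      exact even_two_mul _
  obtain ⟨t, ht⟩ := exists_uniformizer P
  have ht0 : t ≠ 0 := by
    rintro rfl
    rw [map_zero] at ht
    exact WithZero.exp_ne_zero.symm ht
  have h1 : P.ord t = 1 := (ord_eq_iff P ht0 1).2 ht
  have := heven t ht0
  rw [h1] at this
  exact absurd this (by decide)

end Quadratic



section Quadratic2

variable {k K₀ K : Type*} [Field k] [Field K₀] [Field K] [Algebra k K₀] [Algebra K₀ K]
  [Algebra k K] [IsScalarTower k K₀ K]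

/-- In a quadratic extension, if every place over `P₀` has ramification index at least two, then
there is exactly one such place, it has ramification index two and the same degree. -/
theorem unique_of_two_le [FiniteDimensional K₀ K] (hdeg : Module.finrank K₀ K = 2)
    (hK₀ : IsFunctionField k K₀) (P₀ : FunFld.Place k K₀)
    (key : ∀ (Q : FunFld.Place k K) (e : ℕ), IsOverWith Q P₀ e → 2 ≤ e) :
    (∃! P : FunFld.Place k K, FunFld.IsOver P P₀) ∧
    ∀ P : FunFld.Place k K, FunFld.IsOver P P₀ → FunFld.IsOverWith P P₀ 2 ∧ P.deg = P₀.deg := by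
  classical
  obtain ⟨hfin, hsum⟩ := sum_ramIdx_mul_deg (K' := K) hK₀ P₀
  have hsum' := hsum hfin.toFinset (fun Q => hfin.mem_toFinset)
  rw [hdeg] at hsum'
  have hP₀pos := deg_pos P₀ hK₀
  have hterm : ∀ Q ∈ hfin.toFinset, 2 * P₀.deg ≤ ramIdx Q P₀ * Q.deg := by
    intro Q hQ
    obtain ⟨e, he⟩ := hfin.mem_toFinset.1 hQ
    rw [ramIdx_eq he]
    exact Nat.mul_le_mul (key Q e he) (deg_le_of_isOverWith he (deg_pos_of_finite hK₀ Q))
  have hcard : hfin.toFinset.card ≤ 1 := by
    by_contra hcon
    have h1 := Finset.card_nsmul_le_sum hfin.toFinset _ _ hterm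
    rw [hsum', smul_eq_mul] at h1
    have h3 : 2 * (2 * P₀.deg) ≤ hfin.toFinset.card * (2 * P₀.deg) :=
      Nat.mul_le_mul_right _ (by omega)
    omega
  have hne : hfin.toFinset.Nonempty := by
    by_contra hcon
    rw [Finset.not_nonempty_iff_eq_empty] at hcon
    rw [hcon, Finset.sum_empty] at hsum'
    omega
  obtain ⟨Q₀, hQ₀⟩ := Finset.card_eq_one.1 (le_antisymm hcard (Finset.card_pos.2 hne))
  have hmem : ∀ Q : FunFld.Place k K, IsOver Q P₀ ↔ Q = Q₀ := by
    intro Q
    have h1 : Q ∈ hfin.toFinset ↔ IsOver Q P₀ := hfin.mem_toFinset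
    rw [← h1, hQ₀, Finset.mem_singleton]
  refine ⟨⟨Q₀, (hmem Q₀).2 rfl, fun Q hQ => (hmem Q).1 hQ⟩, fun P hP => ?_⟩
  obtain rfl := (hmem P).1 hP
  rw [hQ₀, Finset.sum_singleton] at hsum'
  obtain ⟨e, he⟩ := hP
  rw [ramIdx_eq he] at hsum'
  have h1 := key P e he
  have h3 := deg_le_of_isOverWith he (deg_pos_of_finite hK₀ P)
  have he2 : e = 2 := by
    by_contra hne
    have : 3 ≤ e := by omega
    have : 3 * P₀.deg ≤ e * P.deg := Nat.mul_le_mul this h3
    omega
  subst he2
  exact ⟨he, by omega⟩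

/-- ramification index at most two in a quadratic extension -/
theorem e_le_two [FiniteDimensional K₀ K] (hdeg : Module.finrank K₀ K = 2)
    (hK₀ : IsFunctionField k K₀) {P₀ : FunFld.Place k K₀} {P : FunFld.Place k K} {e : ℕ}
    (he : IsOverWith P P₀ e) : e ≤ 2 := by
  classical
  obtain ⟨hfin, hsum⟩ := sum_ramIdx_mul_deg (K' := K) hK₀ P₀
  have hsum' := hsum hfin.toFinset (fun Q => hfin.mem_toFinset)
  rw [hdeg] at hsum'
  have hPmem : P ∈ hfin.toFinset := hfin.mem_toFinset.2 ⟨e, he⟩
  have hle := Finset.single_le_sum (f := fun Q => ramIdx Q P₀ * Q.deg)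
    (fun Q _ => Nat.zero_le _) hPmem
  rw [hsum', ramIdx_eq he] at hle
  have h3 := deg_le_of_isOverWith he (deg_pos_of_finite hK₀ P)
  have hP₀pos := deg_pos P₀ hK₀
  by_contra hcon
  have : 3 ≤ e := by omega
  have : 3 * P₀.deg ≤ e * P.deg := Nat.mul_le_mul this h3
  omega

/-- Artin–Schreier in characteristic two: no ramification where `f` is regular. -/
theorem e_eq_one_of_artinSchreier [CharP k 2] [FiniteDimensional K₀ K]
    (hdeg : Module.finrank K₀ K = 2) (hK₀ : IsFunctionField k K₀) (P₀ : FunFld.Place k K₀)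
    (y : K) (f : K₀) (hy : y ^ 2 + y = algebraMap K₀ K f) (hf : 0 ≤ P₀.ord f)
    (hyn : y ∉ Set.range (algebraMap K₀ K))
    (P : FunFld.Place k K) (e : ℕ) (he : IsOverWith P P₀ e) : e = 1 := by
  classical
  by_contra hne
  have he1 := isOverWith_one_le he
  have he2 := e_le_two hdeg hK₀ he
  have he2' : e = 2 := by omega
  subst he2'
  haveI : CharP K 2 := by
    have : CharP K (ringChar K) := ringChar.charP K
    have h1 := (algebraMap k K).charP_iff_charP 2 |>.1 inferInstance
    exact h1
  have hy0 : y ≠ 0 := by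
    rintro rfl
    apply hyn
    exact ⟨0, by simp⟩
  have hα : ∀ α : K₀, P.ord (algebraMap K₀ K α) = 2 * P₀.ord α := by
    intro α
    rw [isOverWith_ord he]
    norm_num
  have h11 : (1 : K) + 1 = 0 := CharTwo.add_self_eq_zero 1
  -- `y` is integral at `P`
  have hyO : v P y ≤ 1 := by
    by_contra hcon
    push Not at hcon
    have h1 : v P y < v P (y ^ 2) := by
      rw [map_pow, sq]
      calc v P y = v P y * 1 := (mul_one _).symm
        _ < v P y * v P y := by
          apply mul_lt_mul_of_pos_left hcon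
          exact lt_trans zero_lt_one hcon
    have h3 : v P (y ^ 2 + y) = v P (y ^ 2) := Valuation.map_add_eq_of_lt_left _ h1
    rw [hy] at h3
    have h4 : v P (algebraMap K₀ K f) ≤ 1 := by
      by_cases hf0 : f = 0
      · subst hf0; simp
      · have hf0' : algebraMap K₀ K f ≠ 0 := by simpa using hf0
        rw [v_le_one_iff P hf0', hα]
        omega
    rw [h3, map_pow] at h4
    have : 1 < v P y ^ 2 := one_lt_pow₀ hcon (by norm_num)
    exact absurd h4 (not_le.2 this)
  -- norm computation: for every `γ`, `ord (γ + y)` is even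
  have hkey : ∀ γ : K₀, v P₀ γ ≤ 1 → Even (P.ord (algebraMap K₀ K γ + y)) := by
    intro γ hγ
    have hγP : v P (algebraMap K₀ K γ) ≤ 1 := by
      change P.1 _ ≤ 1
      rw [he γ]
      exact pow_le_one' hγ 2
    set a := algebraMap K₀ K γ + y with ha
    have ha0 : a ≠ 0 := by
      intro h
      apply hyn
      refine ⟨γ, ?_⟩
      have : y = -algebraMap K₀ K γ := eq_neg_of_add_eq_zero_right h
      rw [this, CharTwo.neg_eq]
    have ha1 : a + 1 ≠ 0 := by
      intro h
      apply hyn
      refine ⟨γ + 1, ?_⟩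
      have : y = -(algebraMap K₀ K γ + 1) := by
        apply eq_neg_of_add_eq_zero_right
        rw [← h, ha]; ring
      rw [this, CharTwo.neg_eq, map_add, map_one]
    have hprod : a * (a + 1) = algebraMap K₀ K (γ ^ 2 + γ + f) := by
      rw [map_add, map_add, map_pow, ← hy, ha]
      have : (algebraMap K₀ K γ + y) * (algebraMap K₀ K γ + y + 1) =
          algebraMap K₀ K γ ^ 2 + algebraMap K₀ K γ + (y ^ 2 + y) +
            (1 + 1) * (algebraMap K₀ K γ * y) := by ring
      rw [this, h11, zero_mul, add_zero]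
    have hsum := ord_mul P ha0 ha1
    rw [hprod, hα] at hsum
    have haO : v P a ≤ 1 := (Valuation.map_add _ _ _).trans (max_le hγP hyO)
    have ha1O : v P (a + 1) ≤ 1 := (Valuation.map_add _ _ _).trans (max_le haO (by simp))
    have hoa : 0 ≤ P.ord a := (v_le_one_iff P ha0).1 haO
    have hoa1 : 0 ≤ P.ord (a + 1) := (v_le_one_iff P ha1).1 ha1O
    -- one of them is a unit
    by_cases hlt : v P a < 1
    · have h1 : v P (a + 1) = 1 := by
        rw [add_comm, Valuation.map_add_eq_of_lt_left _ (by rw [map_one]; exact hlt), map_one]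
      rw [(v_eq_one_iff P ha1).1 h1, add_zero] at hsum
      rw [← hsum]
      exact even_two_mul _
    · have h1 : v P a = 1 := le_antisymm haO (not_lt.1 hlt)
      rw [(v_eq_one_iff P ha0).1 h1]
      exact ⟨0, by simp⟩
  -- `ord y` is even
  have hoy : Even (P.ord y) := by
    have := hkey 0 (by simp)
    rwa [map_zero, zero_add] at this
  obtain ⟨d, hd⟩ := hoy
  -- decomposition
  have hli : LinearIndependent K₀ ![1, y] := by
    rw [LinearIndependent.pair_iff]
    intro s t hst
    have ht : t = 0 := by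
      by_contra ht
      apply hyn
      refine ⟨-(t⁻¹ * s), ?_⟩
      have h1 : t • y = -(s • (1 : K)) := eq_neg_of_add_eq_zero_right hst
      have h3 : y = t⁻¹ • (t • y) := by rw [smul_smul, inv_mul_cancel₀ ht, one_smul]
      rw [h3, h1, Algebra.smul_def, Algebra.smul_def, mul_one, map_neg, map_mul, mul_neg]
    subst ht
    rw [zero_smul, add_zero] at hst
    have hs : s = 0 := by
      rw [Algebra.smul_def, mul_one] at hst
      exact (map_eq_zero _).1 hst
    exact ⟨hs, rfl⟩
  let b := basisOfLinearIndependentOfCardEqFinrank hli (by simp [hdeg])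
  have hdecomp : ∀ w : K, ∃ α β : K₀, w = algebraMap K₀ K α + algebraMap K₀ K β * y := by
    intro w
    refine ⟨b.repr w 0, b.repr w 1, ?_⟩
    have h1 := b.sum_repr w
    rw [Fin.sum_univ_two] at h1
    simp only [b, coe_basisOfLinearIndependentOfCardEqFinrank, Matrix.cons_val_zero,
      Matrix.cons_val_one] at h1
    rw [Algebra.smul_def, Algebra.smul_def, mul_one] at h1
    exact h1.symm
  have heven : ∀ w : K, w ≠ 0 → Even (P.ord w) := by
    intro w hw
    obtain ⟨α, β, rfl⟩ := hdecomp w
    by_cases hβ : β = 0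
    · subst hβ
      rw [map_zero, zero_mul, add_zero, hα]
      exact even_two_mul _
    have hβ' : algebraMap K₀ K β ≠ 0 := by simpa using hβ
    have hβy : algebraMap K₀ K β * y ≠ 0 := mul_ne_zero hβ' hy0
    have hoβy : P.ord (algebraMap K₀ K β * y) = 2 * P₀.ord β + (d + d) := by
      rw [ord_mul P hβ' hy0, hα, hd]
    by_cases hα0 : α = 0
    · subst hα0
      rw [map_zero, zero_add, hoβy]
      exact ⟨P₀.ord β + d, by ring⟩
    have hα' : algebraMap K₀ K α ≠ 0 := by simpa using hα0
    rcases lt_trichotomy (2 * P₀.ord α) (2 * P₀.ord β + (d + d)) with hlt | heq | hgt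
    · rw [ord_add_eq_of_lt P hα' hβy (by rw [hα, hoβy]; exact hlt), hα]
      exact even_two_mul _
    · -- equal orders
      have hγ : v P₀ (α / β) ≤ 1 := by
        rw [v_le_one_iff P₀ (div_ne_zero hα0 hβ), div_eq_mul_inv, ord_mul P₀ hα0 (inv_ne_zero hβ),
          ord_inv]
        have hd0 : 0 ≤ d + d := by
          rw [← hd]; exact (v_le_one_iff P hy0).1 hyO
        omega
      have e1 : algebraMap K₀ K α + algebraMap K₀ K β * y =
          algebraMap K₀ K β * (algebraMap K₀ K (α / β) + y) := by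
        rw [map_div₀]; field_simp
      have hne1 : algebraMap K₀ K (α / β) + y ≠ 0 := by
        intro h
        apply hw
        rw [e1, h, mul_zero]
      rw [e1, ord_mul P hβ' hne1, hα]
      exact (even_two_mul _).add (hkey _ hγ)
    · rw [add_comm, ord_add_eq_of_lt P hβy hα' (by rw [hα, hoβy]; exact hgt), hoβy]
      exact ⟨P₀.ord β + d, by ring⟩
  obtain ⟨t, ht⟩ := exists_uniformizer P
  have ht0 : t ≠ 0 := by
    rintro rfl
    rw [map_zero] at ht
    exact WithZero.exp_ne_zero.symm ht
  have h1 : P.ord t = 1 := (ord_eq_iff P ht0 1).2 ht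
  have := heven t ht0
  rw [h1] at this
  exact absurd this (by decide)

end Quadratic2

end Groth.Agent.Lib.Helper26.FunFldRatPlace
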