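import Mathlib
import Groth.Agent.Lib.Helper2.FunFld.RR
import Groth.Agent.Lib.Helper2.FunFld.InfPl
import Groth.Agent.Lib.Helper2.FunFld.Aut
import Groth.Agent.Lib.Helper2.FunFld.GenusOne

set_option autoImplicit false
set_option linter.unusedSectionVars false
set_option linter.style.haveILetI false
open scoped WithZero IntermediateField
open FunFld Polynomial
open Groth.Agent.Lib.Helper2.FF

namespace Groth.Agent.Lib.Helper26.Hyp

variable {k K : Type*} [Field k] [Field K] [Algebra k K]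

/-- at a pole of `x`, a nonzero polynomial in `x` has the valuation of its leading term -/
theorem v_aeval_of_one_lt (P : FunFld.Place k K) {x : K} (hx : 1 < v P x) {p : k[X]} (hp : p ≠ 0) :
    v P (aeval x p) = v P x ^ p.natDegree := by
  have hk := P.2.1
  have hx0 : x ≠ 0 := by
    rintro rfl
    rw [map_zero] at hx
    exact absurd hx (not_lt.2 zero_le)
  letI : Invertible x := invertibleOfNonzero hx0
  have h1 := Polynomial.eval₂_reverse_mul_pow (algebraMap k K) x p
  rw [invOf_eq_inv] at h1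
  have hxinv : v P x⁻¹ < 1 := by
    rw [map_inv₀]
    exact inv_lt_one_of_one_lt₀ hx
  have hc0 : p.reverse.coeff 0 ≠ 0 := by
    rw [Polynomial.coeff_zero_reverse]
    exact Polynomial.leadingCoeff_ne_zero.2 hp
  have h2 : v P (aeval x⁻¹ p.reverse) = 1 := by
    have h3 := w_aeval_sub_coeff_le (v P) hk hxinv.le p.reverse
    have h4 : v P (algebraMap k K (p.reverse.coeff 0)) = 1 := v_algebraMap P hc0
    have e : aeval x⁻¹ p.reverse = algebraMap k K (p.reverse.coeff 0)
        + (aeval x⁻¹ p.reverse - algebraMap k K (p.reverse.coeff 0)) := by ring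
    rw [e, Valuation.map_add_eq_of_lt_left _ (by rw [h4]; exact lt_of_le_of_lt h3 hxinv), h4]
  have h5 : aeval x p = aeval x⁻¹ p.reverse * x ^ p.natDegree := h1.symm
  rw [h5, map_mul, h2, one_mul, map_pow]

/-- the pole divisor of `x` vanishes where `x` is integral -/
theorem pdiv_apply_of_le_one (hK : IsFunctionField k K) {x : K} (P : FunFld.Place k K)
    (hx : v P x ≤ 1) : pdiv (k := k) x P = 0 := by
  rw [pdiv_apply hK]
  by_cases hx0 : x = 0
  · subst hx0; simp [ord_zero]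
  · have := (v_le_one_iff P hx0).1 hx
    omega

/-- a rational function of `x` in lowest terms -/
theorem exists_coprime_repr {x : K} (hx : Transcendental k x) {r : K} (hr : r ∈ k⟮x⟯) :
    ∃ u w : k[X], w ≠ 0 ∧ IsCoprime u w ∧ r * aeval x w = aeval x u := by
  classical
  have hinj : Function.Injective (aeval x : k[X] →ₐ[k] K) := transcendental_iff_injective.mp hx
  obtain ⟨u₀, v₀, huv₀⟩ := (IntermediateField.mem_adjoin_simple_iff k r).mp hr
  by_cases hr0 : r = 0
  · exact ⟨0, 1, one_ne_zero, isCoprime_one_right, by simp [hr0]⟩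
  have hv₀ : v₀ ≠ 0 := by
    rintro rfl
    rw [map_zero, div_zero] at huv₀
    exact hr0 huv₀
  obtain ⟨g, hg⟩ : ∃ g, g = gcd u₀ v₀ := ⟨_, rfl⟩
  have hg0 : g ≠ 0 := by
    rw [hg]
    intro h
    rw [gcd_eq_zero_iff] at h
    exact hv₀ h.2
  obtain ⟨u, hu⟩ : ∃ u, u₀ = g * u := hg ▸ gcd_dvd_left u₀ v₀
  obtain ⟨w, hw⟩ : ∃ w, v₀ = g * w := hg ▸ gcd_dvd_right u₀ v₀
  have hw0 : w ≠ 0 := by
    rintro rfl
    rw [mul_zero] at hw
    exact hv₀ hw
  have hcop : IsCoprime u w := by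
    have h1 := isCoprime_div_gcd_div_gcd (p := u₀) (q := v₀) hv₀
    rw [← hg] at h1
    have h2 : u₀ / g = u := by rw [hu, mul_div_cancel_left₀ _ hg0]
    have h3 : v₀ / g = w := by rw [hw, mul_div_cancel_left₀ _ hg0]
    rwa [h2, h3] at h1
  have hgx : aeval x g ≠ 0 := fun h => hg0 (hinj (by rw [h, map_zero]))
  have hwx : aeval x w ≠ 0 := fun h => hw0 (hinj (by rw [h, map_zero]))
  refine ⟨u, w, hw0, hcop, ?_⟩
  rw [huv₀, hu, hw, map_mul, map_mul]
  field_simp

/-- a rational function of `x` with poles bounded by `m (x)_∞` is a polynomial of degree `≤ m` -/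
theorem exists_poly_of_mem_L (hK : IsFunctionField k K) {x : K} (hx : Transcendental k x)
    (m : ℕ) {r : K} (hr : r ∈ k⟮x⟯) (hrL : r ∈ L (m • pdiv (k := k) x)) :
    ∃ p : k[X], p.natDegree ≤ m ∧ r = aeval x p := by
  classical
  have hinj : Function.Injective (aeval x : k[X] →ₐ[k] K) := transcendental_iff_injective.mp hx
  by_cases hr0 : r = 0
  · exact ⟨0, by simp, by simp [hr0]⟩
  obtain ⟨u, w, hw0, hcop, hruw⟩ := exists_coprime_repr hx hr
  -- `w` is a unit
  have hwunit : IsUnit w := by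
    by_contra hnu
    have hwdeg : w.natDegree ≠ 0 := by
      intro h
      apply hnu
      rw [Polynomial.isUnit_iff]
      obtain ⟨c, hc⟩ := Polynomial.natDegree_eq_zero.1 h
      refine ⟨c, ?_, hc⟩
      rw [isUnit_iff_ne_zero]
      rintro rfl
      rw [map_zero] at hc
      exact hw0 hc.symm
    have htr : Transcendental k (aeval x w) :=
      hx.aeval w hwdeg (mem_nonZeroDivisors_of_ne_zero (leadingCoeff_ne_zero.2 hw0))
    obtain ⟨P, hP⟩ := exists_place_lt_one hK htr
    have hxP : v P x ≤ 1 := by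
      by_contra hlt
      push Not at hlt
      have := one_le_v_aeval_of_one_lt P hlt hw0
      exact absurd hP (not_lt.2 this)
    have hA : pdiv (k := k) x P = 0 := pdiv_apply_of_le_one hK P hxP
    have hrP : v P r ≤ 1 := by
      have := hrL P
      rwa [Finsupp.smul_apply, hA, smul_zero, WithZero.exp_zero] at this
    obtain ⟨a, b, hab⟩ := hcop
    have h1 : aeval x a * aeval x u + aeval x b * aeval x w = 1 := by
      rw [← map_mul, ← map_mul, ← map_add, hab, map_one]
    have h2 : v P (aeval x u) < 1 := by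
      rw [← hruw, map_mul]
      exact mul_lt_one_of_nonneg_of_lt_one_right hrP zero_le hP
    have h3 : v P (aeval x a * aeval x u + aeval x b * aeval x w) < 1 := by
      refine lt_of_le_of_lt (Valuation.map_add _ _ _) (max_lt ?_ ?_)
      · rw [map_mul]
        exact mul_lt_one_of_nonneg_of_lt_one_right (w_aeval_le_one (v P) P.2.1 hxP a) zero_le h2
      · rw [map_mul]
        exact mul_lt_one_of_nonneg_of_lt_one_right (w_aeval_le_one (v P) P.2.1 hxP b) zero_le hP
    rw [h1, map_one] at h3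
    exact lt_irrefl _ h3
  obtain ⟨c, hc, hcw⟩ := Polynomial.isUnit_iff.1 hwunit
  have hc0 : c ≠ 0 := hc.ne_zero
  obtain ⟨p, hp⟩ : ∃ p : k[X], p = C c⁻¹ * u := ⟨_, rfl⟩
  have hrp : r = aeval x p := by
    rw [hp, map_mul, aeval_C, ← hruw, ← hcw, aeval_C, ← mul_assoc, mul_comm _ r, mul_assoc,
      ← map_mul, inv_mul_cancel₀ hc0, map_one, mul_one]
  refine ⟨p, ?_, hrp⟩
  have hp0 : p ≠ 0 := by
    rintro rfl
    rw [map_zero] at hrp
    exact hr0 hrp
  -- degree bound at a pole of `x`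
  obtain ⟨P, hP⟩ := exists_place_one_lt hK hx
  have hx0 : x ≠ 0 := by
    rintro rfl
    rw [map_zero] at hP
    exact absurd hP (not_lt.2 zero_le)
  have h1 := hrL P
  rw [hrp, v_aeval_of_one_lt P hP hp0, Finsupp.smul_apply, pdiv_apply hK] at h1
  have hord : P.ord x < 0 := (one_lt_v_iff P hx0).1 hP
  rw [max_eq_left (by omega), v_eq_exp_neg_ord P hx0, ← WithZero.exp_nsmul, WithZero.exp_le_exp]
    at h1
  by_contra hlt
  push Not at hlt
  have h2 : (m : ℤ) + 1 ≤ p.natDegree := by exact_mod_cast hlt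
  simp only [nsmul_eq_mul] at h1
  nlinarith

section Quad

variable {x y : K}

/-- `K = k(x)(y)` -/
theorem adjoin_y_eq_top (hxy : IntermediateField.adjoin k ({x, y} : Set K) = ⊤) :
    (k⟮x⟯)⟮y⟯ = (⊤ : IntermediateField k⟮x⟯ K) := by
  apply IntermediateField.restrictScalars_injective k
  rw [IntermediateField.adjoin_adjoin_left, IntermediateField.restrictScalars_top,
    Set.singleton_union]
  exact hxy

/-- the decomposition `z = a + b y` -/
theorem exists_decomp (hxy : IntermediateField.adjoin k ({x, y} : Set K) = ⊤) (c : k⟮x⟯)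
    (hy2 : y ^ 2 = (c : K)) (z : K) : ∃ a b : k⟮x⟯, z = (a : K) + (b : K) * y := by
  have hFy := adjoin_y_eq_top hxy
  let q : (k⟮x⟯)[X] := X ^ 2 - C c
  have hqm : q.Monic := monic_X_pow_sub_C c (by norm_num)
  have hqy : aeval y q = 0 := by
    simp only [q, map_sub, map_pow, aeval_X, aeval_C]
    rw [hy2]
    exact sub_self _
  have hqdeg : q.natDegree = 2 := natDegree_X_pow_sub_C
  have hyint : IsIntegral k⟮x⟯ y := ⟨q, hqm, hqy⟩
  have hzmem : z ∈ (k⟮x⟯)⟮y⟯ := hFy ▸ IntermediateField.mem_top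
  have hsub : ((k⟮x⟯)⟮y⟯).toSubalgebra = Algebra.adjoin k⟮x⟯ {y} :=
    IntermediateField.adjoin_simple_toSubalgebra_of_isAlgebraic hyint.isAlgebraic
  have hzmem' : z ∈ Algebra.adjoin k⟮x⟯ {y} := by
    rw [← hsub]; exact hzmem
  rw [Algebra.adjoin_singleton_eq_range_aeval] at hzmem'
  obtain ⟨g, hg⟩ := hzmem'
  let r : (k⟮x⟯)[X] := g %ₘ q
  have hr : aeval y r = z := by
    have h1 := Polynomial.modByMonic_add_div g q
    have h2 : aeval y g = aeval y r + aeval y q * aeval y (g /ₘ q) := by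
      conv_lhs => rw [← h1]
      simp [r]
    rw [hqy, zero_mul, add_zero] at h2
    rw [← h2]; exact hg
  have hrdeg : r.degree ≤ 1 := by
    have hq1 : q ≠ 1 := fun h => by rw [h] at hqdeg; simp at hqdeg
    have h1 : r.natDegree < q.natDegree := Polynomial.natDegree_modByMonic_lt g hqm hq1
    rw [hqdeg] at h1
    have h1' : r.natDegree ≤ 1 := by omega
    exact Polynomial.degree_le_of_natDegree_le h1'
  have hr' := Polynomial.eq_X_add_C_of_degree_le_one hrdeg
  refine ⟨r.coeff 0, r.coeff 1, ?_⟩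
  rw [← hr, hr']
  simp
  ring

/-- uniqueness of the decomposition -/
theorem decomp_unique (hy : y ∉ k⟮x⟯) {a b : k⟮x⟯} (h : (a : K) + (b : K) * y = 0) :
    a = 0 ∧ b = 0 := by
  by_cases hb : b = 0
  · subst hb
    simp only [ZeroMemClass.coe_zero, zero_mul, add_zero] at h
    exact ⟨Subtype.ext h, rfl⟩
  · exfalso
    apply hy
    have hbK : (b : K) ≠ 0 := fun h0 => hb (Subtype.ext h0)
    have : y = -(a : K) * (b : K)⁻¹ := by
      field_simp
      linear_combination h
    rw [this]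
    exact (k⟮x⟯).mul_mem ((k⟮x⟯).neg_mem a.2) ((k⟮x⟯).inv_mem b.2)

/-- the conjugation `y ↦ -y` of `K` over `k(x)` -/
theorem exists_conj (hxy : IntermediateField.adjoin k ({x, y} : Set K) = ⊤) (c : k⟮x⟯)
    (hy2 : y ^ 2 = (c : K)) (hy : y ∉ k⟮x⟯) :
    ∃ σ : K ≃ₐ[k] K, (∀ a : k⟮x⟯, σ (a : K) = a) ∧ σ y = -y := by
  have hFy := adjoin_y_eq_top hxy
  let q : (k⟮x⟯)[X] := X ^ 2 - C c
  have hqm : q.Monic := monic_X_pow_sub_C c (by norm_num)
  have hqy : aeval y q = 0 := by
    simp only [q, map_sub, map_pow, aeval_X, aeval_C]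
    rw [hy2]
    exact sub_self _
  have hqdeg : q.natDegree = 2 := natDegree_X_pow_sub_C
  have hyint : IsIntegral k⟮x⟯ y := ⟨q, hqm, hqy⟩
  have hmin : q = minpoly k⟮x⟯ y := by
    have hdvd : minpoly k⟮x⟯ y ∣ q := minpoly.dvd k⟮x⟯ y hqy
    have h2le : 2 ≤ (minpoly k⟮x⟯ y).natDegree := by
      rw [minpoly.two_le_natDegree_iff hyint]
      rintro ⟨z, hz⟩
      exact hy (hz ▸ z.2)
    exact Polynomial.eq_of_monic_of_dvd_of_natDegree_le (minpoly.monic hyint) hqm hdvd
      (hqdeg ▸ h2le)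
  haveI : FiniteDimensional k⟮x⟯ K := by
    have hfinFy : FiniteDimensional k⟮x⟯ (k⟮x⟯)⟮y⟯ := IntermediateField.adjoin.finiteDimensional hyint
    rw [hFy] at hfinFy
    exact Module.Finite.equiv
      (IntermediateField.topEquiv : (⊤ : IntermediateField k⟮x⟯ K) ≃ₐ[k⟮x⟯] K).toLinearEquiv
  let e : AdjoinRoot (minpoly k⟮x⟯ y) ≃ₐ[k⟮x⟯] K :=
    (IntermediateField.adjoinRootEquivAdjoin k⟮x⟯ hyint).trans
      ((IntermediateField.equivOfEq hFy).trans IntermediateField.topEquiv)
  have he : e (AdjoinRoot.root (minpoly k⟮x⟯ y)) = y := by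
    simp [e, IntermediateField.adjoinRootEquivAdjoin_apply_root]
  have hneg : aeval (-y) (minpoly k⟮x⟯ y) = 0 := by
    rw [← hmin]
    simp only [q, map_sub, map_pow, aeval_X, aeval_C]
    rw [neg_sq, hy2]
    exact sub_self _
  let τ : AdjoinRoot (minpoly k⟮x⟯ y) →ₐ[k⟮x⟯] K := AdjoinRoot.liftAlgHom (minpoly k⟮x⟯ y)
    (Algebra.ofId k⟮x⟯ K) (-y) (by
      rw [← hneg]; rfl)
  let σ₀ : K →ₐ[k⟮x⟯] K := τ.comp (e.symm : K →ₐ[k⟮x⟯] AdjoinRoot (minpoly k⟮x⟯ y))
  have hσy : σ₀ y = -y := by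
    change τ (e.symm y) = -y
    have h1 : e.symm y = AdjoinRoot.root (minpoly k⟮x⟯ y) := by
      rw [AlgEquiv.symm_apply_eq, he]
    rw [h1]
    simp [τ]
  let σ₁ : K ≃ₐ[k⟮x⟯] K := AlgEquiv.ofBijective σ₀ (AlgHom.bijective σ₀)
  refine ⟨σ₁.restrictScalars k, fun a => ?_, hσy⟩
  exact σ₁.commutes a

end Quad

end Groth.Agent.Lib.Helper26.Hyp
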