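import Mathlib
import Groth.Agent.Lib.Helper26.PlaneModel4
set_option autoImplicit false
open scoped WithZero IntermediateField
open FunFld
open Groth.Agent.Lib.Helper2.FF
open Groth.Agent.Lib.Helper26.FunFldAlgClosed
open Groth.Agent.Lib.Helper26.PlaneModel
open Groth.Agent.Lib.Helper26.PlaneModel2
open Groth.Agent.Lib.Helper26.PlaneModel3
open Groth.Agent.Lib.Helper26.PlaneModel4

namespace Groth.Agent.Lib.Helper26.PlaneModel5

variable {k : Type*} [Field k]

/-- general nonvanishing of a "monic" element -/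
theorem pow_sub_ne_zero {A : Type*} [CommRing A] [Algebra k A] (M₀ : Submonoid A) (Y : A) (N : ℕ)
    (ψ : A →ₐ[k] Polynomial k) (hψM : ∀ m ∈ M₀, ψ m = 0 ∨ ψ m = 1) (hψY : ψ Y = Polynomial.X)
    {H : A} (hH : H ∈ Submodule.span k (redSet M₀ Y N)) : Y ^ N - H ≠ 0 := by
  classical
  intro h0
  have hψH : ψ H ∈ Polynomial.degreeLT k N := by
    refine Submodule.span_induction (p := fun H _ => ψ H ∈ Polynomial.degreeLT k N) ?_ ?_ ?_ ?_ hH
    · rintro _ ⟨m, hm, j, hj, rfl⟩
      rw [map_mul, map_pow, hψY]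
      rcases hψM m hm with h | h
      · rw [h, zero_mul]; exact Submodule.zero_mem _
      · rw [h, one_mul, Polynomial.mem_degreeLT]
        exact (Polynomial.degree_X_pow_le j).trans_lt (by exact_mod_cast hj)
    · rw [map_zero]; exact Submodule.zero_mem _
    · intro p q _ _ hp hq
      rw [map_add]; exact Submodule.add_mem _ hp hq
    · intro c p _ hp
      rw [map_smul]; exact Submodule.smul_mem _ _ hp
  have h1 : ψ (Y ^ N - H) = 0 := by rw [h0, map_zero]
  rw [map_sub, map_pow, hψY, sub_eq_zero] at h1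
  rw [← h1, Polynomial.mem_degreeLT, Polynomial.degree_X_pow] at hψH
  exact lt_irrefl _ hψH

/-- homogeneous reduced monomials -/
def monoSet3 {A : Type*} [CommRing A] (Z X' Y : A) (N m : ℕ) : Set A :=
  {p | ∃ c a j : ℕ, j < N ∧ c + a + j ≤ m ∧ p = Z ^ c * X' ^ a * Y ^ j}

theorem monoSet3_mono {A : Type*} [CommRing A] (Z X' Y : A) (N : ℕ) {m m' : ℕ} (h : m ≤ m') :
    monoSet3 Z X' Y N m ⊆ monoSet3 Z X' Y N m' := by
  rintro f ⟨c, a, b, hb, hab, rfl⟩
  exact ⟨c, a, b, hb, by omega, rfl⟩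

theorem monoSet3_subset_redSet {A : Type*} [CommRing A] (Z X' Y : A) (N m : ℕ) :
    monoSet3 Z X' Y N m ⊆ redSet (Submonoid.closure {Z, X'}) Y N := by
  rintro f ⟨c, a, b, hb, hab, rfl⟩
  exact ⟨Z ^ c * X' ^ a, (Submonoid.mem_closure_pair _ _ _).2 ⟨c, a, rfl⟩, b, hb, rfl⟩

theorem exists_mem_span_monoSet3 {A : Type*} [CommRing A] [Algebra k A] (Z X' Y : A) (N : ℕ)
    {p : A} (hp : p ∈ Submodule.span k (redSet (Submonoid.closure {Z, X'}) Y N)) :
    ∃ m, p ∈ Submodule.span k (monoSet3 Z X' Y N m) := by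
  refine Submodule.span_induction
    (p := fun p _ => ∃ m, p ∈ Submodule.span k (monoSet3 Z X' Y N m)) ?_ ?_ ?_ ?_ hp
  · rintro _ ⟨q, hq, j, hj, rfl⟩
    obtain ⟨c, a, rfl⟩ := (Submonoid.mem_closure_pair _ _ _).1 hq
    exact ⟨c + a + j, Submodule.subset_span ⟨c, a, j, hj, le_rfl, rfl⟩⟩
  · exact ⟨0, Submodule.zero_mem _⟩
  · rintro p q _ _ ⟨m, hm⟩ ⟨m', hm'⟩
    exact ⟨max m m', Submodule.add_mem _
      (Submodule.span_mono (monoSet3_mono Z X' Y N (le_max_left _ _)) hm)
      (Submodule.span_mono (monoSet3_mono Z X' Y N (le_max_right _ _)) hm')⟩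
  · rintro c p _ ⟨m, hm⟩
    exact ⟨m, Submodule.smul_mem _ _ hm⟩

theorem monoSet3_subset_range {A : Type*} [CommRing A] (Z X' Y : A) (N m : ℕ) :
    monoSet3 Z X' Y N m ⊆ Set.range
      (fun s : (Σ d : Fin (m + 1), Σ j : Fin N, Fin ((d : ℕ) + 1 - j)) =>
        Z ^ ((s.1 : ℕ) - (s.2.1 : ℕ) - (s.2.2 : ℕ)) * X' ^ (s.2.2 : ℕ) * Y ^ (s.2.1 : ℕ)) := by
  rintro _ ⟨c, a, b, hb, hab, rfl⟩
  refine ⟨⟨⟨c + a + b, by omega⟩, ⟨⟨b, hb⟩, ⟨a, by simp only; omega⟩⟩⟩, ?_⟩
  simp only
  congr 3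
  omega

variable {K : Type*} [Field K] [Algebra k K]

/-- graded families of independent vectors give an independent family of monomials -/
theorem linearIndependent_sigma_monomial {m : ℕ} {ι : Fin (m + 1) → Type*} [∀ d, Fintype (ι d)]
    (μ : (d : Fin (m + 1)) → ι d → K) (hμ : ∀ d, LinearIndependent k (μ d)) :
    LinearIndependent k (fun s : (Σ d : Fin (m + 1), ι d) =>
      Polynomial.C (μ s.1 s.2) * (Polynomial.X : Polynomial K) ^ (s.1 : ℕ)) := by
  classical
  rw [Fintype.linearIndependent_iff]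
  intro g hg
  rw [Fintype.sum_sigma] at hg
  rintro ⟨e, t⟩
  have h1 := congrArg (fun p : Polynomial K => p.coeff (e : ℕ)) hg
  simp only [Polynomial.finsetSum_coeff, Polynomial.coeff_smul, Polynomial.coeff_C_mul_X_pow,
    Polynomial.coeff_zero] at h1
  rw [Finset.sum_eq_single e] at h1
  · simp only [if_true] at h1
    exact Fintype.linearIndependent_iff.1 (hμ e) (fun s => g ⟨e, s⟩) h1 t
  · intro d _ hd
    refine Finset.sum_eq_zero (fun s _ => ?_)
    rw [if_neg (fun h => hd (Fin.ext h.symm)), smul_zero]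
  · intro h; exact absurd (Finset.mem_univ e) h

/-- **the homogeneous ideal of a plane model is principal**, generated by a homogeneous
polynomial of degree the degree of the model -/
theorem exists_ker_eq_span_homog [Infinite k] (hK : IsFunctionField k K) (x y : K)
    (hxy : IntermediateField.adjoin k ({x, y} : Set K) = ⊤) :
    ∃ (G : MvPolynomial (Fin 3) k) (N : ℕ), G ≠ 0 ∧ G.IsHomogeneous N ∧
      (N : ℤ) = (mapDiv k ![(1 : K), x, y]).deg ∧
      RingHom.ker (MvPolynomial.aeval fun i =>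
        Polynomial.C (![(1 : K), x, y] i) * (Polynomial.X : Polynomial K) :
          MvPolynomial (Fin 3) k →ₐ[k] Polynomial K) = Ideal.span {G} := by
  classical
  obtain ⟨b, hpd, htr, htop⟩ := plane_setup hK x y hxy
  obtain ⟨x', hx'⟩ : ∃ x', x' = x + b • y := ⟨_, rfl⟩
  rw [← hx'] at hpd htr htop
  have hvle := v_le_exp_mapDiv hK x y
  have hfd : FiniteDimensional k⟮x'⟯ K := finiteDimensional_adjoin_simple hK htr
  have hint : IsIntegral k⟮x'⟯ y := IsIntegral.of_finite _ _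
  set N := (minpoly k⟮x'⟯ y).natDegree with hN
  have hnat : N = Module.finrank k⟮x'⟯ K := by
    rw [hN, ← IntermediateField.adjoin.finrank hint, htop, IntermediateField.finrank_top']
  have hNpos : 0 < N := by rw [hnat]; exact Module.finrank_pos
  have hdeg : (mapDiv k ![(1 : K), x, y]).deg = (N : ℤ) := by
    rw [← hpd, deg_pdiv hK htr, hnat]
  have hy : ∀ P : FunFld.Place k K, v P y ≤ WithZero.exp (pdiv (k := k) x' P) := by
    intro P; rw [hpd]; exact (hvle P).2.1
  -- polynomial side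
  obtain ⟨Z, hZ⟩ : ∃ Z : MvPolynomial (Fin 3) k, Z = MvPolynomial.X 0 := ⟨_, rfl⟩
  obtain ⟨X', hX'⟩ : ∃ X' : MvPolynomial (Fin 3) k,
    X' = MvPolynomial.X 1 + MvPolynomial.C b * MvPolynomial.X 2 := ⟨_, rfl⟩
  obtain ⟨Y, hY⟩ : ∃ Y : MvPolynomial (Fin 3) k, Y = MvPolynomial.X 2 := ⟨_, rfl⟩
  obtain ⟨ev, hev⟩ : ∃ ev : MvPolynomial (Fin 3) k →ₐ[k] Polynomial K,
    ev = MvPolynomial.aeval fun i =>
        Polynomial.C (![(1 : K), x, y] i) * (Polynomial.X : Polynomial K) := ⟨_, rfl⟩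
  have hevZ : ev Z = Polynomial.X := by rw [hev, hZ]; simp
  have hevX : ev X' = Polynomial.C x' * Polynomial.X := by
    rw [hev, hX', hx']
    simp only [map_add, map_mul, MvPolynomial.aeval_X, MvPolynomial.aeval_C,
      Matrix.cons_val_one, Matrix.cons_val_zero, Matrix.cons_val_two, Matrix.head_cons,
      Matrix.tail_cons, Polynomial.algebraMap_apply, Algebra.smul_def]
    ring
  have hevY : ev Y = Polynomial.C y * Polynomial.X := by rw [hev, hY]; simp
  have hevmono : ∀ c a j : ℕ, ev (Z ^ c * X' ^ a * Y ^ j) =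
      Polynomial.C (x' ^ a * y ^ j) * Polynomial.X ^ (c + a + j) := by
    intro c a j
    rw [map_mul, map_mul, map_pow, map_pow, map_pow, hevZ, hevX, hevY, mul_pow, mul_pow,
      map_mul, map_pow, map_pow]
    ring
  -- the relation
  have hyN := pow_natDegree_mem hK htr hy
  rw [← hN] at hyN
  obtain ⟨c, hc⟩ := (Submodule.mem_span_range_iff_exists_fun k).1
    (Submodule.span_mono (monoSet_subset_range x' y N N) hyN)
  obtain ⟨ν, hν⟩ : ∃ ν : (Σ j : Fin N, Fin (N + 1 - j)) → MvPolynomial (Fin 3) k,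
    ν = fun s => Z ^ (N - (s.1 : ℕ) - (s.2 : ℕ)) * X' ^ (s.2 : ℕ) * Y ^ (s.1 : ℕ) := ⟨_, rfl⟩
  have hsN : ∀ s : (Σ j : Fin N, Fin (N + 1 - j)), (s.2 : ℕ) + (s.1 : ℕ) ≤ N := by
    intro s; have := s.2.2; omega
  have hνev : ∀ s, ev (ν s) = Polynomial.C (x' ^ (s.2 : ℕ) * y ^ (s.1 : ℕ)) * Polynomial.X ^ N := by
    intro s
    rw [hν, hevmono]
    congr 2
    have := hsN s; omega
  obtain ⟨H, hH⟩ : ∃ H, H = ∑ s, c s • ν s := ⟨_, rfl⟩
  have hevH : ev H = Polynomial.C (y ^ N) * Polynomial.X ^ N := by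
    rw [hH, map_sum, ← hc, map_sum, Finset.sum_mul]
    refine Finset.sum_congr rfl (fun s _ => ?_)
    rw [map_smul, hνev, ← smul_mul_assoc, Polynomial.smul_C]
  have hXhom : X'.IsHomogeneous 1 := by
    rw [hX']
    exact (MvPolynomial.isHomogeneous_X _ _).add (MvPolynomial.isHomogeneous_C_mul_X _ _)
  have hνhom : ∀ s, ν s ∈ MvPolynomial.homogeneousSubmodule (Fin 3) k N := by
    intro s
    rw [MvPolynomial.mem_homogeneousSubmodule, hν]
    have h1 := (((MvPolynomial.isHomogeneous_X k (0 : Fin 3)).pow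
      (N - (s.1 : ℕ) - (s.2 : ℕ))).mul (hXhom.pow (s.2 : ℕ))).mul
      ((MvPolynomial.isHomogeneous_X k (2 : Fin 3)).pow (s.1 : ℕ))
    rw [← hZ, ← hY] at h1
    convert h1 using 1
    have := hsN s; omega
  have hHhom : H ∈ MvPolynomial.homogeneousSubmodule (Fin 3) k N := by
    rw [hH]
    exact Submodule.sum_mem _ (fun s _ => Submodule.smul_mem _ _ (hνhom s))
  have hHred : H ∈ Submodule.span k (redSet (Submonoid.closure {Z, X'}) Y N) := by
    rw [hH]
    refine Submodule.sum_mem _ (fun s _ => Submodule.smul_mem _ _ (Submodule.subset_span ?_))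
    rw [hν]
    exact ⟨_, (Submonoid.mem_closure_pair _ _ _).2 ⟨_, _, rfl⟩, s.1, s.1.2, rfl⟩
  obtain ⟨G, hG⟩ : ∃ G, G = Y ^ N - H := ⟨_, rfl⟩
  have hevG : ev G = 0 := by
    rw [hG, map_sub, map_pow, hevY, hevH, mul_pow, ← map_pow, sub_self]
  have hGhom : G.IsHomogeneous N := by
    rw [← MvPolynomial.mem_homogeneousSubmodule, hG]
    refine Submodule.sub_mem _ ?_ hHhom
    rw [MvPolynomial.mem_homogeneousSubmodule, hY]
    have := (MvPolynomial.isHomogeneous_X k (2 : Fin 3)).pow N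
    rwa [one_mul] at this
  have hG0 : G ≠ 0 := by
    rw [hG]
    set ψ : MvPolynomial (Fin 3) k →ₐ[k] Polynomial k :=
      MvPolynomial.aeval ![1, - Polynomial.C b * Polynomial.X, Polynomial.X] with hψ
    have hψZ : ψ Z = 1 := by rw [hZ]; simp [hψ]
    have hψX : ψ X' = 0 := by rw [hX']; simp [hψ]
    have hψY : ψ Y = Polynomial.X := by rw [hY]; simp [hψ]
    refine pow_sub_ne_zero _ Y N ψ ?_ hψY hHred
    intro m hm
    obtain ⟨c, a, rfl⟩ := (Submonoid.mem_closure_pair _ _ _).1 hm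
    rw [map_mul, map_pow, map_pow, hψZ, hψX, one_pow, one_mul]
    rcases Nat.eq_zero_or_pos a with rfl | ha
    · right; rw [pow_zero]
    · left; rw [zero_pow ha.ne']
  have hadj : Algebra.adjoin k
      ((Submonoid.closure {Z, X'} : Set (MvPolynomial (Fin 3) k)) ∪ {Y}) = ⊤ := by
    rw [eq_top_iff, ← MvPolynomial.adjoin_range_X]
    refine Algebra.adjoin_le ?_
    have hYm : Y ∈ Algebra.adjoin k
        ((Submonoid.closure {Z, X'} : Set (MvPolynomial (Fin 3) k)) ∪ {Y}) :=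
      Algebra.subset_adjoin (Or.inr rfl)
    have hXm : X' ∈ Algebra.adjoin k
        ((Submonoid.closure {Z, X'} : Set (MvPolynomial (Fin 3) k)) ∪ {Y}) :=
      Algebra.subset_adjoin (Or.inl (Submonoid.subset_closure (Or.inr rfl)))
    have hZm : Z ∈ Algebra.adjoin k
        ((Submonoid.closure {Z, X'} : Set (MvPolynomial (Fin 3) k)) ∪ {Y}) :=
      Algebra.subset_adjoin (Or.inl (Submonoid.subset_closure (Or.inl rfl)))
    rintro _ ⟨i, rfl⟩
    fin_cases i
    · change (MvPolynomial.X 0 : MvPolynomial (Fin 3) k) ∈ _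
      rw [← hZ]; exact hZm
    · have e : (MvPolynomial.X 1 : MvPolynomial (Fin 3) k) = X' - algebraMap k _ b * Y := by
        rw [hX', hY, MvPolynomial.algebraMap_eq]; ring
      change (MvPolynomial.X 1 : MvPolynomial (Fin 3) k) ∈ _
      rw [e]
      exact Subalgebra.sub_mem _ hXm (Subalgebra.mul_mem _ (Subalgebra.algebraMap_mem _ _) hYm)
    · change (MvPolynomial.X 2 : MvPolynomial (Fin 3) k) ∈ _
      rw [← hY]; exact hYm
  have hsup := monic_division (k := k) (Submonoid.closure {Z, X'}) Y N H hHred hadj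
  rw [← hG] at hsup
  have hinj : ∀ p ∈ Submodule.span k (redSet (Submonoid.closure {Z, X'}) Y N),
      ev p = 0 → p = 0 := by
    intro p hp h0
    obtain ⟨m, hm⟩ := exists_mem_span_monoSet3 Z X' Y N hp
    have hm' := Submodule.span_mono (monoSet3_subset_range Z X' Y N m) hm
    refine eq_zero_of_linearIndependent_comp ev _ ?_ hm' h0
    have := linearIndependent_sigma_monomial (k := k) (K := K) (m := m)
      (ι := fun d => (Σ j : Fin N, Fin ((d : ℕ) + 1 - j)))
      (fun d s => x' ^ (s.2 : ℕ) * y ^ (s.1 : ℕ))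
      (fun d => linearIndependent_monomials htr (d : ℕ))
    convert this using 2 with s
    · rw [hevmono]
      congr 2
      have := s.2.2.2; omega
    · rfl
  have hker := ker_eq_span_of_sup_eq_top ev _ G hinj hevG hsup
  exact ⟨G, N, hG0, hGhom, hdeg.symm, by rw [← hev]; exact hker⟩

end Groth.Agent.Lib.Helper26.PlaneModel5
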