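import Mathlib

set_option autoImplicit false

universe u

namespace Groth.Agent.Lib.Helper26

open AlgebraicGeometry CategoryTheory

/-- For a quasi-compact morphism, every point in the closure of the image of a closed set is a
specialization of a point of the image. -/
theorem exists_specializes_of_mem_closure_image {X Y : Scheme.{u}} (f : X ⟶ Y) [QuasiCompact f]
    (Z : Set X) (hZ : IsClosed Z) (y : Y) (hy : y ∈ closure (f '' Z)) :
    ∃ z ∈ Z, f z ⤳ y := by
  obtain ⟨_, ⟨V, hV : IsAffineOpen V, rfl⟩, hyV, -⟩ :=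
    Y.isBasis_affineOpens.exists_subset_of_mem_open (Set.mem_univ y) isOpen_univ
  have hc : IsCompact ((f ⁻¹ᵁ V : X.Opens) : Set X) :=
    QuasiCompact.isCompact_preimage (f := f) _ V.2 hV.isCompact
  obtain ⟨B, g, hg⟩ := isCompact_iff_exists.mp hc
  have hrange : Set.range (g ≫ f) ⊆ Set.range hV.fromSpec := by
    rw [hV.range_fromSpec]
    rintro _ ⟨b, rfl⟩
    have : g b ∈ Set.range g := ⟨b, rfl⟩
    rw [hg] at this
    exact this
  let ψ : Spec B ⟶ Spec Γ(Y, V) := IsOpenImmersion.lift hV.fromSpec (g ≫ f) hrange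
  have hψ : ψ ≫ hV.fromSpec = g ≫ f := IsOpenImmersion.lift_fac _ _ _
  obtain ⟨φ, hφ⟩ := Spec.map_surjective ψ
  obtain ⟨p, hp⟩ : y ∈ Set.range hV.fromSpec := by rw [hV.range_fromSpec]; exact hyV
  have hZB : IsClosed (g ⁻¹' Z) := hZ.preimage g.continuous
  obtain ⟨I, hI⟩ := (PrimeSpectrum.isClosed_iff_zeroLocus_ideal _).mp hZB
  have himage : hV.fromSpec '' (ψ '' (g ⁻¹' Z)) = f '' Z ∩ V := by
    ext w
    constructor
    · rintro ⟨_, ⟨b, hb, rfl⟩, rfl⟩
      rw [← Scheme.Hom.comp_apply, hψ, Scheme.Hom.comp_apply]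
      refine ⟨⟨g b, hb, rfl⟩, ?_⟩
      have : g b ∈ Set.range g := ⟨b, rfl⟩
      rw [hg] at this
      exact this
    · rintro ⟨⟨z, hz, rfl⟩, hzV⟩
      have : z ∈ Set.range g := by rw [hg]; exact hzV
      obtain ⟨b, rfl⟩ := this
      refine ⟨ψ b, ⟨b, hz, rfl⟩, ?_⟩
      rw [← Scheme.Hom.comp_apply, hψ, Scheme.Hom.comp_apply]
  have hpc : p ∈ closure (ψ '' (g ⁻¹' Z)) := by
    rw [hV.fromSpec.isOpenEmbedding.isInducing.closure_eq_preimage_closure_image, Set.mem_preimage,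
      hp, himage]
    exact Set.inter_comm _ _ ▸ V.2.inter_closure ⟨hyV, hy⟩
  rw [← hφ, hI] at hpc
  have hpc' : p ∈ closure (PrimeSpectrum.comap φ.hom '' PrimeSpectrum.zeroLocus (I : Set B)) := hpc
  rw [PrimeSpectrum.closure_image_comap_zeroLocus] at hpc'
  obtain ⟨q, hqI, hq, hqle⟩ := Ideal.exists_ideal_comap_le_prime p.asIdeal I hpc'
  let b : Spec B := ⟨q, hq⟩
  have hb : b ∈ g ⁻¹' Z := by rw [hI]; exact hqI
  have hsp : ψ b ⤳ p := by
    rw [← hφ]
    exact (PrimeSpectrum.le_iff_specializes _ _).mp hqle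
  refine ⟨g b, hb, ?_⟩
  have := hsp.map hV.fromSpec.continuous
  rw [hp, ← Scheme.Hom.comp_apply, hψ, Scheme.Hom.comp_apply] at this
  exact this

end Groth.Agent.Lib.Helper26
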