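import Mathlib

set_option linter.style.haveILetI false

universe u

open Polynomial

namespace Groth.Agent.Lib.Helper26.WeilSym

/-- The "reflected" polynomial `x^n P(q/x)`. -/
noncomputable def refl (P : ℤ[X]) (q : ℤ) : ℤ[X] :=
  ∑ j ∈ Finset.range (P.natDegree + 1), C (P.coeff j * q ^ j) * X ^ (P.natDegree - j)

lemma coeff_refl (P : ℤ[X]) (q : ℤ) (i : ℕ) (hi : i ≤ P.natDegree) :
    (refl P q).coeff i = P.coeff (P.natDegree - i) * q ^ (P.natDegree - i) := by
  rw [refl, finsetSum_coeff]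
  rw [Finset.sum_eq_single (P.natDegree - i)]
  · rw [coeff_C_mul_X_pow, if_pos]
    omega
  · intro j hj hne
    rw [coeff_C_mul_X_pow, if_neg]
    rw [Finset.mem_range] at hj
    omega
  · intro h
    exfalso
    apply h
    rw [Finset.mem_range]
    omega

lemma natDegree_refl_le (P : ℤ[X]) (q : ℤ) : (refl P q).natDegree ≤ P.natDegree := by
  rw [refl]
  apply natDegree_sum_le_of_forall_le
  intro j _
  refine (natDegree_C_mul_X_pow_le _ _).trans ?_
  omega

lemma aeval_refl (P : ℤ[X]) (q : ℤ) (w : ℂ) (hw : w ≠ 0) :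
    aeval w (refl P q) = w ^ P.natDegree * aeval ((q : ℂ) / w) P := by
  rw [refl, map_sum, aeval_eq_sum_range, Finset.mul_sum]
  apply Finset.sum_congr rfl
  intro j hj
  rw [Finset.mem_range] at hj
  have hj' : j ≤ P.natDegree := by omega
  rw [map_mul, aeval_C, map_pow, aeval_X, zsmul_eq_mul, div_pow]
  have : w ^ P.natDegree = w ^ (P.natDegree - j) * w ^ j := by
    rw [← pow_add]
    congr 1
    omega
  rw [this]
  have hwj : w ^ j ≠ 0 := pow_ne_zero _ hw
  simp only [eq_intCast, Int.cast_mul, Int.cast_pow]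
  field_simp

/-- conjugation commutes with evaluation of an integer polynomial -/
lemma aeval_conj_int (P : ℤ[X]) (z : ℂ) :
    aeval ((starRingEnd ℂ) z) P = (starRingEnd ℂ) (aeval z P) :=
  aeval_algHom_apply ((starRingEnd ℂ).toIntAlgHom) z P

attribute [local instance] Polynomial.Gal.splits_ℚ_ℂ

theorem even_natDegree (P : ℤ[X]) (hm : P.Monic) (hirr : Irreducible P)
    (hnr : ∀ z ∈ P.aroots ℂ, z.im ≠ 0) : Even P.natDegree := by
  classical
  set Q : ℚ[X] := P.map (Int.castRingHom ℚ) with hQ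
  have hQirr : Irreducible Q :=
    (IsPrimitive.Int.irreducible_iff_irreducible_map_cast hm.isPrimitive).mp hirr
  have hQsep : Q.Separable := hQirr.separable
  have hQdeg : Q.natDegree = P.natDegree := hm.natDegree_map _
  have hcard : Fintype.card (Q.rootSet ℂ) = Q.natDegree :=
    card_rootSet_eq_natDegree hQsep (IsAlgClosed.splits _)
  have hreal : Q.rootSet ℝ = ∅ := by
    rw [Set.eq_empty_iff_forall_notMem]
    intro x hx
    rw [mem_rootSet] at hx
    have h1 : aeval (x : ℂ) P = 0 := by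
      have h2 : aeval (x : ℂ) Q = 0 := by
        have := congrArg (algebraMap ℝ ℂ) hx.2
        rw [← aeval_algebraMap_apply, map_zero] at this
        exact this
      have h4 : aeval (x : ℂ) (P.map (Int.castRingHom ℚ)) = aeval (x : ℂ) P := by
        rw [aeval_def, eval₂_map, aeval_def]
        congr 1
      rw [← h4]
      exact h2
    have h3 : (x : ℂ) ∈ P.aroots ℂ := by
      rw [mem_aroots]
      exact ⟨hm.ne_zero, h1⟩
    exact hnr _ h3 (Complex.ofReal_im x)
  have key := Polynomial.Gal.card_complex_roots_eq_card_real_add_card_not_gal_inv Q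
  have hn : 2 ∣ (Polynomial.Gal.galActionHom Q ℂ (Polynomial.Gal.restrict Q ℂ
      (AlgEquiv.restrictScalars ℚ Complex.conjAe))).support.card :=
    Equiv.Perm.two_dvd_card_support
      (by
         rw [← map_pow, ← map_pow,
          show AlgEquiv.restrictScalars ℚ Complex.conjAe ^ 2 = 1 from
            AlgEquiv.ext Complex.conj_conj,
          map_one, map_one])
  rw [Set.toFinset_card, hcard, hQdeg] at key
  have h0 : (Q.rootSet ℝ).toFinset.card = 0 := by
    rw [Set.toFinset_card]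
    simp [hreal]
  rw [h0, zero_add] at key
  rw [key]
  exact even_iff_two_dvd.mpr hn

theorem main_poly (P : ℤ[X]) (hm : P.Monic) (hirr : Irreducible P) (q : ℕ) (hq : 0 < q)
    (hweil : ∀ z ∈ P.aroots ℂ, ‖z‖ = Real.sqrt (q : ℝ))
    (hnr : ∀ z ∈ P.aroots ℂ, z.im ≠ 0) :
    Even P.natDegree ∧
      ∀ r ≤ P.natDegree / 2,
        P.coeff (P.natDegree / 2 - r) = (q : ℤ) ^ r * P.coeff (P.natDegree / 2 + r) := by
  have heven := even_natDegree P hm hirr hnr
  refine ⟨heven, ?_⟩
  obtain ⟨d, hd⟩ := heven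
  have hd2 : P.natDegree / 2 = d := by omega
  have hP0 : P ≠ 0 := hm.ne_zero
  have hqC : ((q : ℤ) : ℂ) = (q : ℂ) := by push_cast; rfl
  -- a root
  have hnpos : 0 < P.natDegree :=
    hm.natDegree_pos.mpr (fun h => hirr.not_isUnit (h ▸ isUnit_one))
  have hdeg : P.degree ≠ 0 := by
    rw [degree_eq_natDegree hP0]
    exact_mod_cast hnpos.ne'
  have hdegC : (P.map (algebraMap ℤ ℂ)).degree ≠ 0 := by
    rwa [degree_map_eq_of_injective (algebraMap ℤ ℂ).injective_int]
  obtain ⟨z₀, hz₀⟩ := IsAlgClosed.exists_root (P.map (algebraMap ℤ ℂ)) hdegC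
  have hz₀' : aeval z₀ P = 0 := by
    rw [aeval_def, ← eval_map]
    exact hz₀
  have hz₀r : z₀ ∈ P.aroots ℂ := by
    rw [mem_aroots]
    exact ⟨hP0, hz₀'⟩
  have hz₀ne : z₀ ≠ 0 := by
    intro h
    apply hnr z₀ hz₀r
    rw [h]
    rfl
  -- q / z₀ = conj z₀
  have hconj : (q : ℂ) / z₀ = (starRingEnd ℂ) z₀ := by
    rw [div_eq_iff hz₀ne, mul_comm, Complex.mul_conj, Complex.normSq_eq_norm_sq, hweil z₀ hz₀r,
      Real.sq_sqrt (Nat.cast_nonneg q)]
    push_cast
    rfl
  -- the reflected polynomial vanishes at z₀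
  have hR0 : aeval z₀ (refl P q) = 0 := by
    rw [aeval_refl P q z₀ hz₀ne, hqC, hconj, aeval_conj_int, hz₀', map_zero, mul_zero]
  -- P = minpoly ℤ z₀
  have hz₀int : IsIntegral ℤ z₀ := ⟨P, hm, hz₀'⟩
  have hPmin : P = minpoly ℤ z₀ := by
    have hdvd : minpoly ℤ z₀ ∣ P := minpoly.isIntegrallyClosed_dvd hz₀int hz₀'
    have hassoc : Associated (minpoly ℤ z₀) P :=
      (minpoly.irreducible hz₀int).associated_of_dvd hirr hdvd
    exact (eq_of_monic_of_associated (minpoly.monic hz₀int) hm hassoc).symm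
  have hdvd : P ∣ refl P q := by
    rw [hPmin]
    have := minpoly.isIntegrallyClosed_dvd hz₀int hR0
    rwa [← hPmin] at this ⊢
  obtain ⟨c, hc⟩ := hdvd
  -- a₀ ≠ 0
  have ha0 : P.coeff 0 ≠ 0 := by
    intro h
    have h0 : (0 : ℂ) ∈ P.aroots ℂ := by
      rw [mem_aroots]
      refine ⟨hP0, ?_⟩
      rw [← coeff_zero_eq_aeval_zero', h, map_zero]
    exact hnr 0 h0 rfl
  have hRn : (refl P q).coeff P.natDegree = P.coeff 0 := by
    rw [coeff_refl P q _ le_rfl, Nat.sub_self, pow_zero, mul_one]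
  have hRne : refl P q ≠ 0 := by
    intro h
    rw [h, coeff_zero] at hRn
    exact ha0 hRn.symm
  have hcne : c ≠ 0 := by
    rintro rfl
    rw [mul_zero] at hc
    exact hRne hc
  have hcdeg : c.natDegree = 0 := by
    have h1 := natDegree_refl_le P q
    rw [hc, natDegree_mul hP0 hcne] at h1
    omega
  have hcC : c = C (P.coeff 0) := by
    rw [eq_C_of_natDegree_eq_zero hcdeg]
    congr 1
    have := hRn
    rw [hc, eq_C_of_natDegree_eq_zero hcdeg, coeff_mul_C] at this
    have hlc : P.coeff P.natDegree = 1 := hm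
    rw [hlc, one_mul] at this
    exact this
  have hR : refl P q = C (P.coeff 0) * P := by
    rw [hc, hcC, mul_comm]
  -- a₀ = q^d
  have ha0q : P.coeff 0 = (q : ℤ) ^ d := by
    set s : ℂ := ((Real.sqrt (q : ℝ) : ℝ) : ℂ) with hs
    have hss : s * s = (q : ℂ) := by
      rw [hs, ← Complex.ofReal_mul, Real.mul_self_sqrt (Nat.cast_nonneg q)]
      rfl
    have hsne : s ≠ 0 := by
      intro h
      rw [h, mul_zero] at hss
      have : (q : ℂ) ≠ 0 := Nat.cast_ne_zero.mpr hq.ne'
      exact this hss.symm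
    have hsP : aeval s P ≠ 0 := by
      intro h
      have : s ∈ P.aroots ℂ := by
        rw [mem_aroots]
        exact ⟨hP0, h⟩
      exact hnr s this (Complex.ofReal_im _)
    have hqs : (q : ℂ) / s = s := by
      rw [div_eq_iff hsne, hss]
    have h1 := aeval_refl P q s hsne
    rw [hqC, hqs, hR, map_mul, aeval_C] at h1
    have h2 : algebraMap ℤ ℂ (P.coeff 0) = s ^ P.natDegree := mul_right_cancel₀ hsP h1
    have h3 : s ^ P.natDegree = (q : ℂ) ^ d := by
      rw [hd, ← two_mul, pow_mul, pow_two, hss]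
    rw [h3] at h2
    have h4 : ((P.coeff 0 : ℤ) : ℂ) = (((q : ℤ) ^ d : ℤ) : ℂ) := by
      rw [eq_intCast] at h2
      push_cast
      exact h2
    exact_mod_cast h4
  intro r hr
  rw [hd2] at hr ⊢
  have hi : d + r ≤ P.natDegree := by omega
  have h1 := coeff_refl P q (d + r) hi
  rw [hR, coeff_C_mul, ha0q] at h1
  have h2 : P.natDegree - (d + r) = d - r := by omega
  rw [h2] at h1
  have hqz : ((q : ℤ)) ^ (d - r) ≠ 0 := pow_ne_zero _ (by exact_mod_cast hq.ne')
  have h3 : (q : ℤ) ^ d = (q : ℤ) ^ (d - r) * (q : ℤ) ^ r := by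
    rw [← pow_add]
    congr 1
    omega
  rw [h3] at h1
  apply mul_left_cancel₀ hqz
  rw [mul_comm ((q : ℤ) ^ (d - r)) (P.coeff (d - r)), ← h1]
  ring

theorem main (p e : ℕ) [Fact p.Prime] (he : 0 < e)
    (K : Type u) [Field K] [CharZero K] (π : K) (hπ : IsIntegral ℤ π)
    (hweil : ∀ z ∈ (minpoly ℤ π).aroots ℂ, ‖z‖ = Real.sqrt ((p : ℝ) ^ e))
    (hnr : ∀ z ∈ (minpoly ℤ π).aroots ℂ, z.im ≠ 0) :
    Even (minpoly ℤ π).natDegree ∧
      ∀ r ≤ (minpoly ℤ π).natDegree / 2,
        (minpoly ℤ π).coeff ((minpoly ℤ π).natDegree / 2 - r) =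
          (p : ℤ) ^ (e * r) * (minpoly ℤ π).coeff ((minpoly ℤ π).natDegree / 2 + r) := by
  have hp : 0 < p := (Fact.out : p.Prime).pos
  have := main_poly (minpoly ℤ π) (minpoly.monic hπ) (minpoly.irreducible hπ) (p ^ e)
    (pow_pos hp e) (by simpa using hweil) hnr
  refine ⟨this.1, fun r hr => ?_⟩
  rw [this.2 r hr]
  push_cast
  rw [pow_mul]

end Groth.Agent.Lib.Helper26.WeilSym
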