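import Groth.Agent.Lib.Helper26.FiniteEtaleSplit
import Mathlib.AlgebraicGeometry.Morphisms.Etale
import Mathlib.AlgebraicGeometry.Morphisms.Finite
import Mathlib.AlgebraicGeometry.Limits
import Mathlib.AlgebraicGeometry.Pullbacks

/-!
# Finite étale morphisms are étale locally on the base trivial covers
-/

open AlgebraicGeometry CategoryTheory Limits TensorProduct

namespace Groth.Agent.Lib.Helper26

universe u

/-- `f` becomes a trivial finite cover over some étale neighbourhood of `s`. -/
def SplitsEtaleLocally {X S : Scheme.{u}} (f : X ⟶ S) (s : S) : Prop :=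
  ∃ (U : Scheme.{u}) (g : U ⟶ S) (_ : AlgebraicGeometry.Etale g) (u : U) (_ : g.base u = s)
      (n : ℕ) (V : Fin n → Scheme.{u}) (c : ∀ j, V j ⟶ U) (_ : ∀ j, IsIso (c j))
      (e : (∐ V) ≅ pullback f g), ∀ j, Sigma.ι V j ≫ e.hom ≫ pullback.snd f g = c j

lemma SplitsEtaleLocally.of_isPullback {X S X' S' : Scheme.{u}} {f : X ⟶ S} {f' : X' ⟶ S'}
    {a : X' ⟶ X} {i : S' ⟶ S} (h : IsPullback a f' f i) [AlgebraicGeometry.Etale i] (s' : S')
    (s : S) (hs : i.base s' = s)
    (H : SplitsEtaleLocally f' s') : SplitsEtaleLocally f s := by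
  obtain ⟨U, g', hg', u, hu, n, V, c, hc, e', he'⟩ := H
  have hpb : IsPullback (pullback.fst f' g' ≫ a) (pullback.snd f' g') f (g' ≫ i) :=
    (IsPullback.of_hasPullback f' g').paste_horiz h
  refine ⟨U, g' ≫ i, inferInstance, u, by simp [hu, hs], n, V, c, hc,
    e' ≪≫ hpb.isoPullback, fun j => ?_⟩
  simp [he' j]

/-- `Spec` of a ring isomorphism, as an isomorphism of schemes. -/
noncomputable def specIsoOfRingEquiv {A B : Type u} [CommRing A] [CommRing B] (γ : A ≃+* B) :
    Spec (.of B) ≅ Spec (.of A) where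
  hom := Spec.map (CommRingCat.ofHom γ.toRingHom)
  inv := Spec.map (CommRingCat.ofHom γ.symm.toRingHom)
  hom_inv_id := by
    rw [← Spec.map_comp, ← Spec.map_id]
    congr 1
    ext x
    simp
  inv_hom_id := by
    rw [← Spec.map_comp, ← Spec.map_id]
    congr 1
    ext x
    simp

set_option backward.isDefEq.respectTransparency false in
lemma splitsEtaleLocally_SpecMap {R B : Type u} [CommRing R] [CommRing B] [Algebra R B]
    [Algebra.Etale R B] [Module.Finite R B] (p : Spec (.of R)) :
    SplitsEtaleLocally (Spec.map (CommRingCat.ofHom (algebraMap R B))) p := by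
  obtain ⟨T, _, _, _, P, hP, hsplit⟩ := exists_etale_isFiniteSplit (R := R) (B := B) p
  obtain ⟨n, ⟨α⟩⟩ := hsplit.nonempty_algEquiv_fun
  let γ : B ⊗[R] T ≃+* (ULift.{u} (Fin n) → T) :=
    (Algebra.TensorProduct.comm R B T).toRingEquiv.trans <| α.toRingEquiv.trans
      (AlgEquiv.piCongrLeft' T (fun _ : Fin n => T) Equiv.ulift.symm).toRingEquiv
  let e : (∐ fun _ : Fin n => Spec (CommRingCat.of T)) ≅
      pullback (Spec.map (CommRingCat.ofHom (algebraMap R B)))
        (Spec.map (CommRingCat.ofHom (algebraMap R T))) :=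
    Sigma.reindex Equiv.ulift.symm (fun _ : ULift.{u} (Fin n) => Spec (CommRingCat.of T)) ≪≫
      asIso (sigmaSpec (fun _ : ULift.{u} (Fin n) => CommRingCat.of T)) ≪≫
      specIsoOfRingEquiv γ ≪≫ (pullbackSpecIso R B T).symm
  refine ⟨Spec (.of T), Spec.map (CommRingCat.ofHom (algebraMap R T)), ?_, P, hP, n,
    fun _ => Spec (.of T), fun _ => 𝟙 _, fun _ => inferInstance, e, fun j => ?_⟩
  · rw [HasRingHomProperty.Spec_iff (P := @AlgebraicGeometry.Etale)]
    exact RingHom.etale_algebraMap.mpr inferInstance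
  · simp only [e, Iso.trans_hom, asIso_hom, Iso.symm_hom, Category.assoc, pullbackSpecIso_inv_snd,
      specIsoOfRingEquiv]
    have h1 := Sigma.ι_reindex_hom Equiv.ulift.symm
      (fun _ : ULift.{u} (Fin n) => Spec (CommRingCat.of T)) j
    simp only [Function.comp_def] at h1
    rw [reassoc_of% h1, ι_sigmaSpec_assoc, ← Spec.map_comp, ← Spec.map_comp, ← Spec.map_id]
    congr 1
    ext t
    have h2 : (t ⊗ₜ[R] (1 : B)) = algebraMap T (T ⊗[R] B) t := by
      simp [Algebra.TensorProduct.algebraMap_apply]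
    have h3 : α (t ⊗ₜ[R] (1 : B)) j = t := by
      rw [h2, α.commutes]
      rfl
    simpa [γ] using h3

set_option backward.isDefEq.respectTransparency false in
/-- The affine case. -/
lemma splitsEtaleLocally_of_isAffine {X S : Scheme.{u}} (f : X ⟶ S) [IsAffine X] [IsAffine S]
    [IsFinite f] [AlgebraicGeometry.Etale f] (s : S) : SplitsEtaleLocally f s := by
  have h2 : IsPullback X.isoSpec.inv (Spec.map f.appTop) f S.isoSpec.inv :=
    IsPullback.of_horiz_isIso ⟨(Scheme.isoSpec_inv_naturality f).symm⟩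
  have hfin : f.appTop.hom.Finite := f.finite_appTop
  have het : f.appTop.hom.Etale :=
    (HasRingHomProperty.iff_of_isAffine (P := @AlgebraicGeometry.Etale)).mp inferInstance
  algebraize [f.appTop.hom]
  have := splitsEtaleLocally_SpecMap (R := Γ(S, ⊤)) (B := Γ(X, ⊤)) (S.isoSpec.hom s)
  exact this.of_isPullback h2 (S.isoSpec.hom s) s (by simp)

set_option backward.isDefEq.respectTransparency false in
/-- A finite étale morphism becomes a trivial cover on an étale neighbourhood of any point of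
the base. -/
theorem splitsEtaleLocally {X S : Scheme.{u}} (f : X ⟶ S) [IsFinite f]
    [AlgebraicGeometry.Etale f] (s : S) : SplitsEtaleLocally f s := by
  obtain ⟨(W : S.Opens), hW, hsW, -⟩ := TopologicalSpace.Opens.isBasis_iff_nbhd.mp S.isBasis_affineOpens
    (TopologicalSpace.Opens.mem_top s)
  have : IsAffine W.toScheme := hW
  have : IsAffine (f ⁻¹ᵁ W).toScheme := hW.preimage f
  have h1 : IsPullback (f ⁻¹ᵁ W).ι (f ∣_ W) f W.ι := (isPullback_morphismRestrict f W).flip
  exact (splitsEtaleLocally_of_isAffine (f ∣_ W) ⟨s, hsW⟩).of_isPullback h1 ⟨s, hsW⟩ s rfl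

end Groth.Agent.Lib.Helper26
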