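import Mathlib
import Groth.Prelude.Def_FibCat2

/-!
# Categories fibred in groupoids: lifting lemmas and the inherited topology
-/

set_option autoImplicit false
open CategoryTheory
universe v₂ u₂ v u

namespace Groth.Agent.Lib.Helper26.FibGrpdTop

variable {C : Type u} [Category.{v} C] {𝒳 : Type u₂} [Category.{v₂} 𝒳] (p : 𝒳 ⥤ C)

/-- existence of lifts, in `eqToHom` form -/
theorem exists_lift [hp : FibCat.IsFibGrpd p] {x : 𝒳} {V : C} (f : V ⟶ p.obj x) :
    ∃ (y : 𝒳) (φ : y ⟶ x) (e : p.obj y = V), p.map φ = eqToHom e ≫ f := by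
  obtain ⟨y, φ, h⟩ := hp.exists_lift f
  refine ⟨y, φ, IsHomLift.domain_eq p f φ, ?_⟩
  have := IsHomLift.fac' p f φ
  simpa using this

/-- strongly cartesian: unique factorisation -/
theorem existsUnique_factor [hp : FibCat.IsFibGrpd p] {x y z : 𝒳} (φ : y ⟶ x) (ψ : z ⟶ x)
    (g : p.obj z ⟶ p.obj y) (hg : g ≫ p.map φ = p.map ψ) :
    ∃! χ : z ⟶ y, p.map χ = g ∧ χ ≫ φ = ψ := by
  have := hp.isStronglyCartesian φ
  have h2 : p.IsHomLift (g ≫ p.map φ) ψ := by rw [hg]; infer_instance
  obtain ⟨χ, ⟨h1, h3⟩, hu⟩ := Functor.IsStronglyCartesian.universal_property' (p := p)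
    (f := p.map φ) (φ := φ) g ψ
  refine ⟨χ, ⟨?_, h3⟩, fun χ' ⟨h1', h3'⟩ => hu χ' ⟨?_, h3'⟩⟩
  · exact (IsHomLift.eq_of_isHomLift p g χ).symm
  · rw [← h1']; infer_instance

/-- pushing forward commutes with pulling back sieves (one inclusion) -/
theorem pullback_functorPushforward_le [hp : FibCat.IsFibGrpd p] {X Y : 𝒳} (S : Sieve X)
    (f : Y ⟶ X) :
    (S.functorPushforward p).pullback (p.map f) ≤ (S.pullback f).functorPushforward p := by
  rintro V g ⟨W, s, h, hs, e⟩
  obtain ⟨y', γ, ey, hγ⟩ := exists_lift p g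
  subst ey
  simp only [eqToHom_refl, Category.id_comp] at hγ
  obtain ⟨χ, ⟨h1, h3⟩, -⟩ := existsUnique_factor p s (γ ≫ f) h (by
    rw [Functor.map_comp, hγ, e])
  refine ⟨y', γ, 𝟙 _, ?_, by simp [hγ]⟩
  change S (γ ≫ f)
  rw [← h3]
  exact S.downward_closed hs χ

theorem functorPushforward_mem_of_mem [hp : FibCat.IsFibGrpd p] (J : GrothendieckTopology C)
    {x : 𝒳} {S : Sieve x} (hS : S ∈ p.restrictedTopology J x) :
    S.functorPushforward p ∈ J (p.obj x) := by
  rw [Functor.restrictedTopology] at hS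
  induction hS with
  | of X S hS => rwa [← Sieve.generate_map_eq_functorPushforward]
  | top X => simp
  | pullback X S _ Y f ih =>
    exact J.superset_covering (pullback_functorPushforward_le p S f) (J.pullback_stable _ ih)
  | transitive X S R _ _ hS H' =>
    apply J.transitive hS
    rintro Y _ ⟨Z, g, i, hg, rfl⟩
    rw [Sieve.pullback_comp]
    apply J.pullback_stable i
    refine J.superset_covering ?_ (H' hg)
    rintro W _ ⟨Z', g', i', hg, rfl⟩
    refine ⟨Z', g' ≫ g, i', hg, ?_⟩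
    simp

theorem mem_restrictedTopology_iff [hp : FibCat.IsFibGrpd p] (J : GrothendieckTopology C)
    {x : 𝒳} (S : Sieve x) :
    S ∈ p.restrictedTopology J x ↔ S.functorPushforward p ∈ J (p.obj x) :=
  ⟨functorPushforward_mem_of_mem p J, p.mem_restrictedTopology_of_functorPushforward_mem⟩

instance faithful_post [hp : FibCat.IsFibGrpd p] (x : 𝒳) : (Over.post p : Over x ⥤ Over (p.obj x)).Faithful where
  map_injective {a b} χ χ' h := by
    have h' : p.map χ.left = p.map χ'.left := congrArg CommaMorphism.left h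
    obtain ⟨c, -, hu⟩ := existsUnique_factor p b.hom a.hom (p.map χ.left) (by
      rw [← Functor.map_comp, Over.w])
    ext
    exact (hu χ.left ⟨rfl, Over.w χ⟩).trans (hu χ'.left ⟨h'.symm, Over.w χ'⟩).symm

instance full_post [hp : FibCat.IsFibGrpd p] (x : 𝒳) : (Over.post p : Over x ⥤ Over (p.obj x)).Full where
  map_surjective {a b} g := by
    obtain ⟨c, ⟨h1, h2⟩, -⟩ := existsUnique_factor p b.hom a.hom g.left (Over.w g)
    refine ⟨Over.homMk c h2, ?_⟩
    ext
    exact h1

instance essSurj_post [hp : FibCat.IsFibGrpd p] (x : 𝒳) : (Over.post p : Over x ⥤ Over (p.obj x)).EssSurj where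
  mem_essImage Y := by
    obtain ⟨y, φ, e, h⟩ := exists_lift p Y.hom
    refine ⟨Over.mk φ, ⟨Over.isoMk (eqToIso (show ((Over.post p).obj (Over.mk φ)).left = Y.left from e)) ?_⟩⟩
    change eqToHom e ≫ Y.hom = p.map φ
    rw [h]

theorem isEquivalence_post [hp : FibCat.IsFibGrpd p] (x : 𝒳) :
    (Over.post p : Over x ⥤ Over (p.obj x)).IsEquivalence where

theorem mem_over_iff [hp : FibCat.IsFibGrpd p] (J : GrothendieckTopology C) (x : 𝒳) (a : Over x)
    (S : Sieve a) : S ∈ (p.restrictedTopology J).over x a ↔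
      S.functorPushforward (Over.post p) ∈ (J.over (p.obj x)) ((Over.post p).obj a) := by
  rw [GrothendieckTopology.mem_over_iff, GrothendieckTopology.mem_over_iff,
    Sieve.overEquiv_functorPushforward_post]
  exact mem_restrictedTopology_iff p J _

end Groth.Agent.Lib.Helper26.FibGrpdTop
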