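import Mathlib
import Groth.Prelude.Def_AlgSt4
import Groth.Agent.Lib.Helper26.FibGrpdTop
set_option autoImplicit false
universe u
open CategoryTheory CategoryTheory.Limits AlgebraicGeometry
open AlgSt
open Groth.Agent.Lib.Helper26.FibGrpdTop

namespace Groth.Agent.Lib.Helper26.StackPoints

variable {S : Scheme.{u}}

/-- a morphism of `𝒳` between the objects of two field-valued points gives a morphism over `S`
of the spectra. -/
noncomputable def FPt.baseHom {𝒳 : AlgSt.Cat S} {p q : AlgSt.FPt 𝒳} (a : p.obj ⟶ q.obj) :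
    (Over.mk p.str : Over S) ⟶ Over.mk q.str :=
  eqToHom p.lies.symm ≫ 𝒳.p.map a ≫ eqToHom q.lies

theorem FPt.map_eq {𝒳 : AlgSt.Cat S} {p q : AlgSt.FPt 𝒳} (a : p.obj ⟶ q.obj) :
    𝒳.p.map a = eqToHom p.lies ≫ FPt.baseHom a ≫ eqToHom q.lies.symm := by
  simp [FPt.baseHom]

instance surj_of_field {K L : Type u} [Field K] [Field L]
    (f : Spec (CommRingCat.of K) ⟶ Spec (CommRingCat.of L)) : Surjective f := by
  constructor
  intro y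
  have : Nonempty (Spec (CommRingCat.of K)) := inferInstance
  obtain ⟨x⟩ := this
  have : Subsingleton (Spec (CommRingCat.of L)) := inferInstance
  exact ⟨x, Subsingleton.elim _ _⟩

/-- amalgamation: two field points over a common third one are dominated by a fourth -/
theorem amalg {𝒳 : AlgSt.Cat S} [h𝒳 : FibCat.IsFibGrpd 𝒳.p] {q r r' : AlgSt.FPt 𝒳}
    (b : r.obj ⟶ q.obj) (c : r'.obj ⟶ q.obj) :
    ∃ (t : AlgSt.FPt 𝒳) (_ : t.obj ⟶ r.obj) (_ : t.obj ⟶ r'.obj), True := by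
  let β := FPt.baseHom b
  let γ := FPt.baseHom c
  let Z := pullback β.left γ.left
  have : Nonempty Z := by
    have : Surjective (pullback.fst β.left γ.left) := inferInstance
    obtain ⟨x⟩ : Nonempty (Spec (CommRingCat.of r.K)) := inferInstance
    obtain ⟨z, -⟩ := this.surj x
    exact ⟨z⟩
  obtain ⟨z⟩ := this
  let str'' : Spec (CommRingCat.of ↥(Z.residueField z)) ⟶ S :=
    Z.fromSpecResidueField z ≫ pullback.fst β.left γ.left ≫ r.str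
  have hsnd : (Z.fromSpecResidueField z ≫ pullback.snd β.left γ.left) ≫ r'.str = str'' := by
    have h1 : β.left ≫ q.str = r.str := Over.w β
    have h2 : γ.left ≫ q.str = r'.str := Over.w γ
    simp only [str'', Category.assoc]
    have h3 := pullback.condition (f := β.left) (g := γ.left)
    calc Z.fromSpecResidueField z ≫ pullback.snd β.left γ.left ≫ r'.str
        = Z.fromSpecResidueField z ≫ (pullback.snd β.left γ.left ≫ γ.left) ≫ q.str := by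
          rw [Category.assoc, h2]
      _ = Z.fromSpecResidueField z ≫ (pullback.fst β.left γ.left ≫ β.left) ≫ q.str := by rw [h3]
      _ = _ := by rw [Category.assoc, h1]
  let m1 : (Over.mk str'' : Over S) ⟶ Over.mk r.str :=
    Over.homMk (Z.fromSpecResidueField z ≫ pullback.fst β.left γ.left) (by simp [str''])
  let m2 : (Over.mk str'' : Over S) ⟶ Over.mk r'.str :=
    Over.homMk (Z.fromSpecResidueField z ≫ pullback.snd β.left γ.left) hsnd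
  have hm : m1 ≫ β = m2 ≫ γ := by
    ext
    simp [m1, m2, pullback.condition]
  obtain ⟨y, φ, e, hφ⟩ := exists_lift 𝒳.p (m1 ≫ eqToHom r.lies.symm)
  obtain ⟨χ, ⟨-, -⟩, -⟩ := existsUnique_factor 𝒳.p c (φ ≫ b)
    (eqToHom e ≫ m2 ≫ eqToHom r'.lies.symm) (by
      rw [Functor.map_comp, hφ, FPt.map_eq b, FPt.map_eq c]
      simp only [Category.assoc, eqToHom_trans_assoc, eqToHom_refl, Category.id_comp]
      rw [← Category.assoc m1, ← Category.assoc m2, hm])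
  exact ⟨⟨↥(Z.residueField z), str'', y, e⟩, φ, χ, trivial⟩

theorem rel_equivalence (𝒳 : AlgSt.Cat S) (h𝒳 : FibCat.IsFibGrpd 𝒳.p) :
    _root_.Equivalence (@AlgSt.FPt.Rel S 𝒳) := by
  refine ⟨fun p => ⟨p, 𝟙 _, 𝟙 _, trivial⟩, fun ⟨r, a, b, _⟩ => ⟨r, b, a, trivial⟩, ?_⟩
  rintro p q s ⟨r, a, b, -⟩ ⟨r', c, d, -⟩
  obtain ⟨t, f, g, -⟩ := amalg b c
  exact ⟨t, f ≫ a, g ≫ d, trivial⟩

theorem isStronglyCartesian_of_isHomLift {C : Type*} [Category C] {𝒳 : Type*} [Category 𝒳]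
    (p : 𝒳 ⥤ C) [hp : FibCat.IsFibGrpd p] {R T : C} {a b : 𝒳} (f : R ⟶ T) (φ : a ⟶ b)
    [p.IsHomLift f φ] : p.IsStronglyCartesian f φ := by
  subst_hom_lift p f φ
  exact hp.isStronglyCartesian φ

theorem baseHom_isHomLift {𝒳 : AlgSt.Cat S} {p q : AlgSt.FPt 𝒳} (a : p.obj ⟶ q.obj) :
    𝒳.p.IsHomLift (FPt.baseHom a) a :=
  IsHomLift.of_fac _ _ _ p.lies q.lies rfl

/-- pull back a field point along a morphism of spectra over `S` -/
theorem exists_pullback_pt {𝒵 : AlgSt.Cat S} [h : FibCat.IsFibGrpd 𝒵.p] (p : AlgSt.FPt 𝒵)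
    {X : Over S} (m : X ⟶ Over.mk p.str) :
    ∃ (p' : 𝒵.obj) (_ : 𝒵.p.obj p' = X) (φ : p' ⟶ p.obj), 𝒵.p.IsHomLift m φ := by
  obtain ⟨y, φ, hφ⟩ := h.exists_lift (m ≫ eqToHom p.lies.symm)
  have h2 : 𝒵.p.IsHomLift m φ := (IsHomLift.lift_comp_eqToHom_iff 𝒵.p m φ p.lies.symm).1 hφ
  exact ⟨y, IsHomLift.domain_eq 𝒵.p m φ, φ, h2⟩

/-- in a category fibred in groupoids, a morphism over an identity is an isomorphism -/
theorem isIso_of_lift_id {C : Type*} [Category C] {𝒳 : Type*} [Category 𝒳]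
    (p : 𝒳 ⥤ C) [hp : FibCat.IsFibGrpd p] {R : C} {a b : 𝒳} (φ : a ⟶ b)
    [p.IsHomLift (𝟙 R) φ] : IsIso φ := by
  have := isStronglyCartesian_of_isHomLift p (𝟙 R) φ
  exact Functor.IsStronglyCartesian.isIso_of_base_isIso p (𝟙 R) φ

theorem exists_fp_pt {𝒳 𝒴 𝒵 : AlgSt.Cat S} [h𝒳 : FibCat.IsFibGrpd 𝒳.p] [h𝒴 : FibCat.IsFibGrpd 𝒴.p]
    [h𝒵 : FibCat.IsFibGrpd 𝒵.p] (f : 𝒳 ⥤ᵇ 𝒴) (g : 𝒵 ⥤ᵇ 𝒴) (p : AlgSt.FPt 𝒵) (q : AlgSt.FPt 𝒳)
    (h : AlgSt.FPt.Rel (p.map g) (q.map f)) :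
    ∃ w : AlgSt.FPt (FibCat.fp g f), AlgSt.FPt.Rel (w.map (FibCat.fpFst g f)) p ∧
      AlgSt.FPt.Rel (w.map (FibCat.fpSnd g f)) q := by
  obtain ⟨r, a₀, b₀, -⟩ := h
  let α : (Over.mk r.str : Over S) ⟶ Over.mk p.str := FPt.baseHom a₀
  let β : (Over.mk r.str : Over S) ⟶ Over.mk q.str := FPt.baseHom b₀
  let a : r.obj ⟶ g.obj p.obj := a₀
  let b : r.obj ⟶ f.obj q.obj := b₀
  have ha : 𝒴.p.IsHomLift α a := baseHom_isHomLift a₀
  have hb : 𝒴.p.IsHomLift β b := baseHom_isHomLift b₀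
  obtain ⟨p', e, φ, hφ⟩ := exists_pullback_pt p α
  obtain ⟨q', e', ψ, hψ⟩ := exists_pullback_pt q β
  have hgφ : 𝒴.p.IsHomLift α (g.map φ) := inferInstance
  have hfψ : 𝒴.p.IsHomLift β (f.map ψ) := inferInstance
  have c1 := isStronglyCartesian_of_isHomLift 𝒴.p α (g.map φ)
  have c2 := isStronglyCartesian_of_isHomLift 𝒴.p β (f.map ψ)
  let χ₁ : r.obj ⟶ g.obj p' := Functor.IsStronglyCartesian.map 𝒴.p α (g.map φ) (g := 𝟙 _) (f' := α)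
    (by simp) a
  let χ₂ : r.obj ⟶ f.obj q' := Functor.IsStronglyCartesian.map 𝒴.p β (f.map ψ) (g := 𝟙 _) (f' := β)
    (by simp) b
  have h1 : 𝒴.p.IsHomLift (𝟙 (Over.mk r.str)) χ₁ := inferInstance
  have h2 : 𝒴.p.IsHomLift (𝟙 (Over.mk r.str)) χ₂ := inferInstance
  have i1 : IsIso χ₁ := isIso_of_lift_id 𝒴.p (R := Over.mk r.str) χ₁
  have h3 : 𝒴.p.IsHomLift (𝟙 (Over.mk r.str)) (inv χ₁ ≫ χ₂) := inferInstance
  have i2 : IsIso χ₂ := isIso_of_lift_id 𝒴.p (R := Over.mk r.str) χ₂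
  let w₀ : (FibCat.fp g f).obj := ⟨⟨p', q', (asIso χ₁).symm ≪≫ asIso χ₂⟩, by
    change 𝒴.p.IsHomLift (𝟙 (𝒵.p.obj p')) (inv χ₁ ≫ χ₂)
    rw [e]; exact h3⟩
  refine ⟨⟨r.K, r.str, w₀, e⟩, ⟨⟨r.K, r.str, p', e⟩, 𝟙 _, φ, trivial⟩,
    ⟨⟨r.K, r.str, q', e'⟩, 𝟙 _, ψ, trivial⟩⟩


theorem exists_points_fp {𝒳 𝒴 𝒵 : AlgSt.Cat S} (h𝒳 : FibCat.IsFibGrpd 𝒳.p) (h𝒴 : FibCat.IsFibGrpd 𝒴.p)
    (h𝒵 : FibCat.IsFibGrpd 𝒵.p) (f : 𝒳 ⥤ᵇ 𝒴) (g : 𝒵 ⥤ᵇ 𝒴)
    (z : AlgSt.Points 𝒵) (x : AlgSt.Points 𝒳) (h : AlgSt.Points.map g z = AlgSt.Points.map f x) :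
    ∃ w : AlgSt.Points (FibCat.fp g f),
      AlgSt.Points.map (FibCat.fpFst g f) w = z ∧ AlgSt.Points.map (FibCat.fpSnd g f) w = x := by
  obtain ⟨p, rfl⟩ := AlgSt.Points.mk_surjective z
  obtain ⟨q, rfl⟩ := AlgSt.Points.mk_surjective x
  have h' : AlgSt.FPt.Rel (p.map g) (q.map f) :=
    (rel_equivalence 𝒴 h𝒴).eqvGen_iff.1 (Quot.eqvGen_exact h)
  obtain ⟨w, h1, h2⟩ := exists_fp_pt f g p q h'
  exact ⟨AlgSt.Points.mk w, AlgSt.Points.sound h1, AlgSt.Points.sound h2⟩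

end Groth.Agent.Lib.Helper26.StackPoints
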