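import Mathlib
import Groth.Prelude.Def_Hyper

/-!
# Covering morphisms of semi-representable objects (`Hyper.IsSRCovering`)

* `comp_cov`: composites of SR coverings are SR coverings;
* `iso_cov`: isomorphisms are SR coverings;
* `pbc`, `pbcIsLimit`, `pbc_cov`: the explicit pullback in `FormalCoproduct C` and stability of
  SR coverings under it;
* `pullback_fst_cov`: stability under the chosen pullback.
-/

set_option autoImplicit false
universe u
open CategoryTheory CategoryTheory.Limits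

namespace Groth.Agent.Lib.Helper26.SRCovering

variable {C : Type u} [SmallCategory C] (J : GrothendieckTopology C)

theorem comp_cov {K L M : FormalCoproduct.{u} C} (f : K ⟶ L) (g : L ⟶ M)
    (hf : Hyper.IsSRCovering J f) (hg : Hyper.IsSRCovering J g) : Hyper.IsSRCovering J (f ≫ g) := by
  intro m
  refine J.transitive (hg m) _ ?_
  intro Y h hh
  rw [Sieve.mem_ofArrows_iff] at hh
  obtain ⟨⟨l, hl⟩, a, rfl⟩ := hh
  subst hl
  rw [Sieve.pullback_comp]
  refine J.pullback_stable a ?_
  refine J.superset_covering ?_ (hf l)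
  intro Z k hk
  rw [Sieve.mem_ofArrows_iff] at hk
  obtain ⟨⟨i, hi⟩, b, rfl⟩ := hk
  subst hi
  change Sieve.ofArrows _ _ _
  rw [Sieve.mem_ofArrows_iff]
  refine ⟨⟨i, rfl⟩, b, ?_⟩
  simp

theorem iso_cov {K' K : FormalCoproduct.{u} C} (e : K' ≅ K) : Hyper.IsSRCovering J e.hom := by
  intro j
  apply J.covering_of_eq_top
  rw [← Sieve.id_mem_iff_eq_top, Sieve.mem_ofArrows_iff]
  obtain ⟨h₁, h₂⟩ := (FormalCoproduct.hom_ext_iff _ _).1 e.inv_hom_id
  refine ⟨⟨e.inv.f j, congrFun h₁ j⟩, e.inv.φ j, ?_⟩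
  have := h₂ j
  simp only [FormalCoproduct.category_comp_φ, FormalCoproduct.category_id_φ, Category.assoc] at this
  exact this.symm

section
variable [HasPullbacks C]
/-- the explicit pullback cone -/
noncomputable abbrev pbc {K L L' : FormalCoproduct.{u} C} (f : K ⟶ L) (g : L' ⟶ L) :
    PullbackCone g f :=
  FormalCoproduct.pullbackCone g f (fun _ ↦ pullback.cone _ _)

noncomputable def pbcIsLimit {K L L' : FormalCoproduct.{u} C} (f : K ⟶ L) (g : L' ⟶ L) :
    IsLimit (pbc f g) :=
  FormalCoproduct.isLimitPullbackCone g f (fun _ ↦ pullback.cone _ _) (fun _ ↦ pullback.isLimit _ _)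

theorem pbc_cov {K L L' : FormalCoproduct.{u} C} (f : K ⟶ L) (g : L' ⟶ L)
    (hf : Hyper.IsSRCovering J f) : Hyper.IsSRCovering J (pbc f g).fst := by
  intro l'
  refine J.superset_covering ?_ (J.pullback_stable (g.φ l') (hf (g.f l')))
  intro Z h hh
  rw [Sieve.pullback_apply, Sieve.mem_ofArrows_iff] at hh
  obtain ⟨⟨k, hk⟩, a, ha⟩ := hh
  rw [Sieve.mem_ofArrows_iff]
  have cond : h ≫ (g.φ l' ≫ eqToHom (congrArg L.obj hk.symm)) = a ≫ f.φ k := by
    rw [← Category.assoc, ha]
    simp
  refine ⟨⟨⟨(l', k), hk.symm⟩, rfl⟩, pullback.lift h a cond, ?_⟩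
  change h = pullback.lift h a cond ≫ pullback.fst _ _ ≫ 𝟙 _
  rw [Category.comp_id, pullback.lift_fst]

theorem pullback_fst_cov {K L L' : FormalCoproduct.{u} C} (f : K ⟶ L) (g : L' ⟶ L)
    (hf : Hyper.IsSRCovering J f) : Hyper.IsSRCovering J (pullback.fst g f) := by
  let e : pullback g f ≅ (pbc f g).pt :=
    IsLimit.conePointUniqueUpToIso (pullback.isLimit g f) (pbcIsLimit f g)
  have he : e.hom ≫ (pbc f g).fst = pullback.fst g f :=
    IsLimit.conePointUniqueUpToIso_hom_comp (pullback.isLimit g f) (pbcIsLimit f g)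
      WalkingCospan.left
  rw [← he]
  exact comp_cov J _ _ (iso_cov J e) (pbc_cov J f g hf)

end

end Groth.Agent.Lib.Helper26.SRCovering
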