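import Mathlib

set_option autoImplicit false
set_option linter.unusedVariables false
set_option linter.style.haveILetI false
set_option linter.unusedSectionVars false
set_option linter.unusedSimpArgs false

universe u

namespace Groth.Agent.Lib.Helper26.ASField

open Polynomial

section Roots

variable (p : ℕ) [hp : Fact p.Prime] {K L : Type u} [Field K] [Field L] [Algebra K L] [CharP K p]

theorem charP_L (K : Type u) {L : Type u} [Field K] [Field L] [Algebra K L] [CharP K p] :
    CharP L p :=
  charP_of_injective_algebraMap (algebraMap K L).injective p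

/-- `(z + i)^p - (z + i) = z^p - z` -/
theorem shift_root [CharP L p] (z : L) (i : ℕ) : (z + i) ^ p - (z + i) = z ^ p - z := by
  rw [add_pow_char]
  have : (i : L) ^ p = (i : L) := by
    rw [← frobenius_def, map_natCast]
  rw [this]
  ring

/-- the Artin–Schreier polynomial -/
noncomputable def asPoly (ξ : K) : K[X] := X ^ p - (X + C ξ)

theorem asPoly_deg_aux (ξ : K) : degree (X + C ξ : K[X]) < (p : WithBot ℕ) := by
  have h1 : 1 < p := hp.out.one_lt
  rw [degree_add_C (by rw [degree_X]; exact zero_lt_one), degree_X]
  exact_mod_cast h1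

theorem asPoly_monic (ξ : K) : (asPoly p ξ).Monic :=
  monic_X_pow_sub (asPoly_deg_aux p ξ)

theorem asPoly_natDegree (ξ : K) : (asPoly p ξ).natDegree = p := by
  have h1 : 1 < p := hp.out.one_lt
  unfold asPoly
  rw [natDegree_sub_eq_left_of_natDegree_lt, natDegree_X_pow]
  rw [natDegree_X_pow, natDegree_add_C, natDegree_X]
  exact h1

theorem asPoly_separable (ξ : K) : (asPoly p ξ).Separable := by
  rw [separable_def]
  have hd : derivative (asPoly p ξ) = -1 := by
    unfold asPoly
    rw [derivative_sub, derivative_add, derivative_X_pow, derivative_X, derivative_C,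
      CharP.cast_eq_zero K p]
    simp
  rw [hd]
  exact isCoprime_one_right.neg_right

theorem asPoly_eval (ξ : K) (x : L) :
    aeval x (asPoly p ξ) = x ^ p - x - algebraMap K L ξ := by
  unfold asPoly
  simp [sub_sub]

end Roots

section Split

variable (p : ℕ) [hp : Fact p.Prime] {K L : Type u} [Field K] [Field L] [Algebra K L] [CharP K p]
  (ξ : K) (z : L)

open Classical in
/-- the `p` roots `z + i` -/
noncomputable def rootSetF : Finset L := (Finset.range p).image (fun i : ℕ => z + (i : L))

include K in
theorem card_rootSetF : (rootSetF p z).card = p := by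
  classical
  rw [rootSetF, Finset.card_image_of_injOn, Finset.card_range]
  intro i hi j hj hij
  have h1 : (i : L) = (j : L) := add_left_cancel hij
  haveI := charP_L p K (L := L)
  rw [CharP.natCast_eq_natCast L p] at h1
  exact Nat.ModEq.eq_of_lt_of_lt h1 (Finset.mem_range.mp hi) (Finset.mem_range.mp hj)

theorem roots_eq (hz : z ^ p - z = algebraMap K L ξ) :
    ((asPoly p ξ).map (algebraMap K L)).roots = (rootSetF p z).val := by
  classical
  haveI := charP_L p K (L := L)
  symm
  apply Multiset.eq_of_le_of_card_le
  · rw [Multiset.le_iff_subset (rootSetF p z).nodup]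
    intro x hx
    rw [Finset.mem_val, rootSetF, Finset.mem_image] at hx
    obtain ⟨i, _, rfl⟩ := hx
    rw [mem_roots (map_monic_ne_zero (asPoly_monic p ξ)), IsRoot.def, eval_map, ← aeval_def,
      asPoly_eval, shift_root, hz, sub_self]
  · calc ((asPoly p ξ).map (algebraMap K L)).roots.card
        ≤ ((asPoly p ξ).map (algebraMap K L)).natDegree := card_roots' _
      _ = p := by rw [natDegree_map, asPoly_natDegree]
      _ = (rootSetF p z).val.card := (card_rootSetF (K := K) p z).symm

theorem splits (hz : z ^ p - z = algebraMap K L ξ) :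
    ((asPoly p ξ).map (algebraMap K L)).Splits := by
  rw [splits_iff_card_roots, roots_eq p ξ z hz, natDegree_map, asPoly_natDegree]
  exact card_rootSetF (K := K) p z

theorem isGalois (hz : z ^ p - z = algebraMap K L ξ)
    (hgen : IntermediateField.adjoin K {z} = ⊤) : IsGalois K L := by
  haveI : (asPoly p ξ).IsSplittingField K L := by
    refine ⟨splits p ξ z hz, ?_⟩
    have hzint : IsIntegral K z := by
      refine ⟨asPoly p ξ, asPoly_monic p ξ, ?_⟩
      rw [← aeval_def, asPoly_eval, hz, sub_self]
    have hzroot : z ∈ (asPoly p ξ).rootSet L := by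
      rw [mem_rootSet]
      exact ⟨(asPoly_monic p ξ).ne_zero, by rw [asPoly_eval, hz, sub_self]⟩
    rw [eq_top_iff]
    have h1 : Algebra.adjoin K {z} ≤ Algebra.adjoin K ((asPoly p ξ).rootSet L) :=
      Algebra.adjoin_mono (Set.singleton_subset_iff.mpr hzroot)
    refine le_trans ?_ h1
    rw [← IntermediateField.adjoin_simple_toSubalgebra_of_isAlgebraic hzint.isAlgebraic, hgen]
    exact le_of_eq rfl
  exact IsGalois.of_separable_splitting_field (asPoly_separable p ξ)

theorem mem_range_of_natDegree_lt (hz : z ^ p - z = algebraMap K L ξ)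
    (hd : (minpoly K z).natDegree < p) : z ∈ Set.range (algebraMap K L) := by
  classical
  haveI := charP_L p K (L := L)
  have hzint : IsIntegral K z := by
    refine ⟨asPoly p ξ, asPoly_monic p ξ, ?_⟩
    rw [← aeval_def, asPoly_eval, hz, sub_self]
  have hgf : minpoly K z ∣ asPoly p ξ :=
    minpoly.dvd K z (by rw [asPoly_eval, hz, sub_self])
  have hgm : (minpoly K z).Monic := minpoly.monic hzint
  have hf0 : (asPoly p ξ).map (algebraMap K L) ≠ 0 := map_monic_ne_zero (asPoly_monic p ξ)
  have hsp : ((minpoly K z).map (algebraMap K L)).Splits :=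
    (splits p ξ z hz).of_dvd hf0 (Polynomial.map_dvd _ hgf)
  have hroots : ((minpoly K z).map (algebraMap K L)).roots ≤ (rootSetF p z).val := by
    rw [← roots_eq p ξ z hz]
    exact roots.le_of_dvd hf0 (Polynomial.map_dvd _ hgf)
  have hsum : ((minpoly K z).map (algebraMap K L)).roots.sum
      = - ((minpoly K z).map (algebraMap K L)).nextCoeff := by
    rw [hsp.nextCoeff_eq_neg_sum_roots_of_monic (hgm.map _), neg_neg]
  have hform : ∀ (s : Multiset L), s ≤ (rootSetF p z).val →
      ∃ m : ℕ, s.sum = (s.card : L) * z + (m : L) := by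
    intro s
    induction s using Multiset.induction_on with
    | empty => intro _; exact ⟨0, by simp⟩
    | cons a s ih =>
      intro hle
      obtain ⟨m, hm⟩ := ih ((Multiset.le_cons_self s a).trans hle)
      have ha : a ∈ (rootSetF p z).val := Multiset.mem_of_le hle (Multiset.mem_cons_self a s)
      rw [Finset.mem_val, rootSetF, Finset.mem_image] at ha
      obtain ⟨i, _, rfl⟩ := ha
      refine ⟨i + m, ?_⟩
      rw [Multiset.sum_cons, hm, Multiset.card_cons, Nat.cast_add, Nat.cast_add, Nat.cast_one]
      ring
  obtain ⟨m, hm⟩ := hform _ hroots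
  have hcard : ((minpoly K z).map (algebraMap K L)).roots.card = (minpoly K z).natDegree := by
    rw [← hsp.natDegree_eq_card_roots, natDegree_map]
  rw [hcard, hsum, nextCoeff_map (algebraMap K L).injective] at hm
  have hd0 : ((minpoly K z).natDegree : L) ≠ 0 := by
    rw [Ne, CharP.cast_eq_zero_iff L p]
    intro hdvd
    have hpos : 0 < (minpoly K z).natDegree := minpoly.natDegree_pos hzint
    exact absurd (Nat.le_of_dvd hpos hdvd) (not_le.mpr hd)
  refine ⟨(-((minpoly K z).nextCoeff) - (m : K)) / ((minpoly K z).natDegree : K), ?_⟩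
  rw [map_div₀, map_sub, map_neg, map_natCast, map_natCast, hm]
  field_simp
  ring

theorem finrank_eq_one_of_mem_range (hgen : IntermediateField.adjoin K {z} = ⊤)
    (hzK : z ∈ Set.range (algebraMap K L)) : Module.finrank K L = 1 := by
  have h1 : IntermediateField.adjoin K {z} = ⊥ := by
    rw [IntermediateField.adjoin_simple_eq_bot_iff]
    exact IntermediateField.mem_bot.mpr hzK
  rw [hgen] at h1
  have := IntermediateField.finrank_bot (F := K) (E := L)
  rw [← h1] at this
  rw [← this, IntermediateField.finrank_top']

theorem finrank_eq_natDegree_minpoly (hz : z ^ p - z = algebraMap K L ξ)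
    (hgen : IntermediateField.adjoin K {z} = ⊤) :
    Module.finrank K L = (minpoly K z).natDegree := by
  have hzint : IsIntegral K z := by
    refine ⟨asPoly p ξ, asPoly_monic p ξ, ?_⟩
    rw [← aeval_def, asPoly_eval, hz, sub_self]
  rw [← IntermediateField.adjoin.finrank hzint, hgen, IntermediateField.finrank_top']

theorem finrank_dichotomy (hz : z ^ p - z = algebraMap K L ξ)
    (hgen : IntermediateField.adjoin K {z} = ⊤) :
    (z ∈ Set.range (algebraMap K L) ∧ Module.finrank K L = 1) ∨
      (z ∉ Set.range (algebraMap K L) ∧ Module.finrank K L = p) := by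
  by_cases hzK : z ∈ Set.range (algebraMap K L)
  · exact Or.inl ⟨hzK, finrank_eq_one_of_mem_range z hgen hzK⟩
  · refine Or.inr ⟨hzK, ?_⟩
    rw [finrank_eq_natDegree_minpoly p ξ z hz hgen]
    have hle : (minpoly K z).natDegree ≤ p := by
      have := natDegree_le_of_dvd (minpoly.dvd K z (by rw [asPoly_eval, hz, sub_self]))
        (asPoly_monic p ξ).ne_zero
      rwa [asPoly_natDegree] at this
    rcases lt_or_eq_of_le hle with hlt | heq
    · exact absurd (mem_range_of_natDegree_lt p ξ z hz hlt) hzK
    · exact heq

theorem finiteDimensional (hz : z ^ p - z = algebraMap K L ξ)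
    (hgen : IntermediateField.adjoin K {z} = ⊤) : FiniteDimensional K L := by
  have hzint : IsIntegral K z := by
    refine ⟨asPoly p ξ, asPoly_monic p ξ, ?_⟩
    rw [← aeval_def, asPoly_eval, hz, sub_self]
  have := IntermediateField.adjoin.finiteDimensional hzint
  rw [hgen] at this
  exact (IntermediateField.topEquiv (F := K) (E := L)).toLinearEquiv.finiteDimensional

end Split

end Groth.Agent.Lib.Helper26.ASField
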