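import Mathlib
import Groth.Prelude.Def_EtRam

set_option autoImplicit false
set_option linter.unusedVariables false
set_option linter.style.haveILetI false
set_option linter.unusedSectionVars false
set_option linter.unusedSimpArgs false

universe u

namespace Groth.Agent.Lib.Helper26.TameSub

open IsLocalRing

section PartA

variable (A K : Type u) [CommRing A] [IsDomain A] [IsDiscreteValuationRing A] [Field K] [Algebra A K]
  [IsFractionRing A K] (L : Type u) [Field L] [Algebra K L] [FiniteDimensional K L]
  [Algebra.IsSeparable K L]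

/-- elements integral over a subring contained in a valuation subring lie in it -/
theorem mem_of_isIntegral_of_le {R : Type u} [CommRing R] [Algebra R L] (V : ValuationSubring L)
    (hR : ∀ r : R, algebraMap R L r ∈ V) (x : L) (hx : IsIntegral R x) : x ∈ V := by
  by_contra hxV
  have hx0 : x ≠ 0 := fun h => hxV (h ▸ V.zero_mem)
  have hinv : x⁻¹ ∈ V := (V.mem_or_inv_mem x).resolve_left hxV
  have hinvnu : x⁻¹ ∈ V.nonunits := by
    rw [V.mem_nonunits_iff_or]; right; rwa [inv_inv]
  obtain ⟨p, hp, hpx⟩ := hx
  -- x^n = - Σ_{i<n} a_i x^i ; multiply by x^{-n}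
  have hn : p.natDegree ≠ 0 := by
    intro h0
    have : p = 1 := hp.natDegree_eq_zero.mp h0
    rw [this] at hpx; simp at hpx
  rw [Polynomial.eval₂_eq_sum_range, Finset.sum_range_succ, Polynomial.Monic.coeff_natDegree hp,
    map_one, one_mul] at hpx
  have h1 : (1 : L) = - ∑ i ∈ Finset.range p.natDegree,
      algebraMap R L (p.coeff i) * (x⁻¹) ^ (p.natDegree - i) := by
    have : x ^ p.natDegree = - ∑ i ∈ Finset.range p.natDegree, algebraMap R L (p.coeff i) * x ^ i := by
      linear_combination hpx
    have h2 : (1 : L) = x ^ p.natDegree * (x⁻¹) ^ p.natDegree := by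
      rw [← mul_pow, mul_inv_cancel₀ hx0, one_pow]
    rw [h2, this, neg_mul, Finset.sum_mul]
    congr 1
    refine Finset.sum_congr rfl fun i hi => ?_
    have hi' : i ≤ p.natDegree := (Finset.mem_range.mp hi).le
    have : (x⁻¹) ^ p.natDegree = (x⁻¹) ^ i * (x⁻¹) ^ (p.natDegree - i) := by
      rw [← pow_add, Nat.add_sub_cancel' hi']
    rw [this, mul_assoc, ← mul_assoc (x ^ i), ← mul_pow, mul_inv_cancel₀ hx0, one_pow, one_mul]
  -- RHS is in the maximal ideal
  have hmem : (- ∑ i ∈ Finset.range p.natDegree,
      algebraMap R L (p.coeff i) * (x⁻¹) ^ (p.natDegree - i)) ∈ V.nonunits := by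
    have key : ∀ i ∈ Finset.range p.natDegree,
        V.valuation (algebraMap R L (p.coeff i) * (x⁻¹) ^ (p.natDegree - i)) < 1 := by
      intro i hi
      have hpos : p.natDegree - i ≠ 0 := by
        have := Finset.mem_range.mp hi; omega
      rw [map_mul, map_pow]
      have ha : V.valuation (algebraMap R L (p.coeff i)) ≤ 1 :=
        (V.valuation_le_one_iff _).mpr (hR _)
      have hb : V.valuation x⁻¹ < 1 := V.mem_nonunits_iff.mp hinvnu
      calc V.valuation (algebraMap R L (p.coeff i)) * V.valuation x⁻¹ ^ (p.natDegree - i)
          ≤ 1 * V.valuation x⁻¹ ^ (p.natDegree - i) := by gcongr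
        _ = V.valuation x⁻¹ ^ (p.natDegree - i) := one_mul _
        _ < 1 := pow_lt_one₀ zero_le hb hpos
    rw [V.mem_nonunits_iff, Valuation.map_neg]
    exact Valuation.map_sum_lt _ one_ne_zero key
  rw [← h1] at hmem
  rw [V.mem_nonunits_iff, map_one] at hmem
  exact lt_irrefl _ hmem


theorem isDVR_of_dominates (V : ValuationSubring L)
    (h : EtRam.Dominates A ((algebraMap K L).comp (algebraMap A K)) V) :
    IsDiscreteValuationRing V := by
  classical
  letI : Algebra A L := ((algebraMap K L).comp (algebraMap A K)).toAlgebra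
  haveI : IsScalarTower A K L := IsScalarTower.of_algebraMap_eq (fun _ => rfl)
  haveI hDed : IsDedekindDomain (integralClosure A L) := integralClosure.isDedekindDomain A K L
  haveI hFr : IsFractionRing (integralClosure A L) L :=
    integralClosure.isFractionRing_of_finite_extension K L
  have hBV : ∀ x : L, x ∈ integralClosure A L → x ∈ V := fun x hx =>
    mem_of_isIntegral_of_le L V (fun r => h.1 r) x hx
  let ι : integralClosure A L →+* V :=
    (algebraMap (integralClosure A L) L).codRestrict V.toSubring (fun b => hBV _ b.2)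
  have hι : ∀ b, ((ι b : V) : L) = (b : L) := fun b => rfl
  let q : Ideal (integralClosure A L) := (maximalIdeal V).comap ι
  haveI hqp : q.IsPrime := Ideal.comap_isPrime ι _
  -- q ≠ ⊥
  obtain ⟨π, hπ⟩ := IsDiscreteValuationRing.exists_irreducible A
  have hπm : π ∈ maximalIdeal A := by
    rw [mem_maximalIdeal, mem_nonunits_iff]; exact hπ.not_isUnit
  have hπ0 : algebraMap A L π ≠ 0 := by
    have hinj : Function.Injective (algebraMap A L) :=
      (algebraMap K L).injective.comp (IsFractionRing.injective A K)
    exact fun h0 => hπ.ne_zero (hinj (by rw [h0, map_zero]))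
  have hq0 : q ≠ ⊥ := by
    intro hq
    have hmem : algebraMap A (integralClosure A L) π ∈ q := by
      show ι (algebraMap A (integralClosure A L) π) ∈ maximalIdeal V
      rw [ValuationSubring.valuation_lt_one_iff]
      exact h.2 π hπm
    rw [hq, Ideal.mem_bot] at hmem
    apply hπ0
    have := congrArg (algebraMap (integralClosure A L) L) hmem
    rwa [map_zero, ← IsScalarTower.algebraMap_apply] at this
  haveI hDVR : IsDiscreteValuationRing (Localization.AtPrime q) :=
    IsLocalization.AtPrime.isDiscreteValuationRing_of_dedekind_domain (integralClosure A L) hq0 _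
  -- the map B_q → V
  have hunit : ∀ s : q.primeCompl, IsUnit (ι s) := by
    intro s
    by_contra hs
    exact s.2 (show ι s ∈ maximalIdeal V from hs)
  let φ : Localization.AtPrime q →+* V := IsLocalization.lift (M := q.primeCompl) hunit
  have hφ : ∀ b, φ (algebraMap _ _ b) = ι b := fun b => IsLocalization.lift_eq _ _
  -- algebra structure B_q → L
  have hunitL : ∀ s : q.primeCompl, IsUnit (algebraMap (integralClosure A L) L s) := by
    intro s
    have := (hunit s).map V.subtype
    exact this
  letI : Algebra (Localization.AtPrime q) L := (V.subtype.comp φ).toAlgebra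
  haveI : IsScalarTower (integralClosure A L) (Localization.AtPrime q) L :=
    IsScalarTower.of_algebraMap_eq (fun b => by
      show (b : L) = V.subtype (φ (algebraMap _ _ b))
      rw [hφ]; rfl)
  haveI : IsFractionRing (Localization.AtPrime q) L :=
    IsFractionRing.isFractionRing_of_isDomain_of_isLocalization q.primeCompl _ _
  have hφinj : Function.Injective φ := by
    intro x y hxy
    apply IsFractionRing.injective (Localization.AtPrime q) L
    show V.subtype (φ x) = V.subtype (φ y)
    rw [hxy]
  have hφmax : ∀ y ∈ maximalIdeal (Localization.AtPrime q), φ y ∈ maximalIdeal V := by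
    intro y hy
    rw [← Localization.AtPrime.map_eq_maximalIdeal] at hy
    refine Submodule.span_induction ?_ ?_ ?_ ?_ hy
    · rintro _ ⟨b, hb, rfl⟩
      rw [hφ]; exact hb
    · rw [map_zero]; exact Ideal.zero_mem _
    · intro x y _ _ hx hy; rw [map_add]; exact Ideal.add_mem _ hx hy
    · intro a x _ hx; rw [smul_eq_mul, map_mul]; exact Ideal.mul_mem_left _ _ hx
  have hφsurj : Function.Surjective φ := by
    rintro ⟨x, hxV⟩
    by_cases hx0 : x = 0
    · exact ⟨0, by rw [map_zero]; exact Subtype.ext hx0.symm⟩
    rcases ValuationRing.isInteger_or_isInteger (Localization.AtPrime q) x with ⟨y, hy⟩ | ⟨y, hy⟩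
    · exact ⟨y, Subtype.ext hy⟩
    · by_cases hyu : IsUnit y
      · obtain ⟨u, rfl⟩ := hyu
        refine ⟨((u⁻¹ : (Localization.AtPrime q)ˣ) : Localization.AtPrime q), Subtype.ext ?_⟩
        show algebraMap (Localization.AtPrime q) L _ = x
        have h1 : algebraMap (Localization.AtPrime q) L ((u⁻¹ : (Localization.AtPrime q)ˣ) : Localization.AtPrime q)
            * algebraMap (Localization.AtPrime q) L (u : Localization.AtPrime q) = 1 := by
          rw [← map_mul, Units.inv_mul, map_one]
        rw [hy] at h1
        field_simp at h1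
        exact h1
      · exfalso
        have hym : φ y ∈ maximalIdeal V := hφmax y hyu
        have hval : ((φ y : V) : L) = x⁻¹ := hy
        have : IsUnit (φ y) := by
          refine IsUnit.of_mul_eq_one (⟨x, hxV⟩ : V) (Subtype.ext ?_)
          show ((φ y : V) : L) * x = 1
          rw [hval, inv_mul_cancel₀ hx0]
        exact hym this
  exact IsDiscreteValuationRing.RingEquivClass.isDiscreteValuationRing (RingEquiv.ofBijective φ ⟨hφinj, hφsurj⟩)

end PartA

section Tower

theorem ramificationIdx'_tower_dvr (A V W : Type u) [CommRing A] [IsDomain A] [IsDiscreteValuationRing A]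
    [CommRing V] [IsDomain V] [IsDiscreteValuationRing V]
    [CommRing W] [IsDomain W] [IsDiscreteValuationRing W]
    [Algebra A V] [Algebra V W] [Algebra A W] [IsScalarTower A V W]
    [IsLocalHom (algebraMap V W)]
    (hinj1 : Function.Injective (algebraMap A V)) (hinj2 : Function.Injective (algebraMap V W)) :
    Ideal.ramificationIdx' (maximalIdeal A) (maximalIdeal W) =
      Ideal.ramificationIdx' (maximalIdeal A) (maximalIdeal V) *
        Ideal.ramificationIdx' (maximalIdeal V) (maximalIdeal W) := by
  have hA : maximalIdeal A ≠ ⊥ := IsDiscreteValuationRing.not_a_field A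
  have hV : maximalIdeal V ≠ ⊥ := IsDiscreteValuationRing.not_a_field V
  refine Ideal.ramificationIdx'_algebra_tower ?_ ?_ ?_
  · rwa [Ne, Ideal.map_eq_bot_iff_of_injective hinj2]
  · have hinj : Function.Injective (algebraMap A W) := by
      rw [IsScalarTower.algebraMap_eq A V W]; exact hinj2.comp hinj1
    rwa [Ne, Ideal.map_eq_bot_iff_of_injective hinj]
  · rw [Ideal.map_le_iff_le_comap]
    exact ((local_hom_TFAE (algebraMap V W)).out 0 3).mp ‹_›

end Tower

section Main

theorem comap_eq_of_local {L M : Type u} [Field L] [Field M]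
    (V : ValuationSubring L) (W : ValuationSubring M) (f : L →+* M)
    (h1 : ∀ x : L, x ∈ V → f x ∈ W)
    (h2 : ∀ x : L, x ∈ V.nonunits → f x ∈ W.nonunits) :
    W.comap f = V := by
  ext x
  rw [ValuationSubring.mem_comap]
  constructor
  · intro hx
    by_contra hxV
    have hx0 : x ≠ 0 := fun h => hxV (h ▸ V.zero_mem)
    have hinv : x⁻¹ ∈ V.nonunits := V.inv_mem_nonunits_iff.mpr (Or.inr hxV)
    have := h2 _ hinv
    rw [map_inv₀, W.inv_mem_nonunits_iff] at this
    rcases this with h0 | h0
    · exact hx0 ((map_eq_zero f).mp h0)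
    · exact h0 hx
  · exact h1 x


variable (A K : Type u) [CommRing A] [IsDomain A] [IsDiscreteValuationRing A] [Field K] [Algebra A K]
  [IsFractionRing A K] (L M : Type u) [Field L] [Field M]
  [Algebra K L] [Algebra K M] [Algebra L M] [IsScalarTower K L M]

theorem gM_eq (a : A) : ((algebraMap K M).comp (algebraMap A K)) a =
    algebraMap L M (((algebraMap K L).comp (algebraMap A K)) a) := by
  simp only [RingHom.comp_apply]
  rw [← IsScalarTower.algebraMap_apply K L M]

theorem dominates_comap (W : ValuationSubring M)
    (hW : EtRam.Dominates A ((algebraMap K M).comp (algebraMap A K)) W) :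
    EtRam.Dominates A ((algebraMap K L).comp (algebraMap A K)) (W.comap (algebraMap L M)) := by
  refine ⟨fun a => ?_, fun a ha => ?_⟩
  · rw [ValuationSubring.mem_comap, ← gM_eq]; exact hW.1 a
  · have h1 := hW.2 a ha
    rw [gM_eq A K L M] at h1
    -- valuation of comap
    have hmem : ((algebraMap K L).comp (algebraMap A K)) a ∈ (W.comap (algebraMap L M)).nonunits := by
      rw [ValuationSubring.mem_nonunits_iff_or]
      by_cases h0 : ((algebraMap K L).comp (algebraMap A K)) a = 0
      · exact Or.inl h0
      · right
        rw [ValuationSubring.mem_comap, map_inv₀]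
        have : algebraMap L M (((algebraMap K L).comp (algebraMap A K)) a) ∈ W.nonunits := h1
        rw [W.mem_nonunits_iff_or] at this
        rcases this with h | h
        · exact absurd ((map_eq_zero _).mp h) h0
        · exact h
    exact hmem

theorem exists_extension (V : ValuationSubring L)
    (hV : EtRam.Dominates A ((algebraMap K L).comp (algebraMap A K)) V) :
    ∃ W : ValuationSubring M, EtRam.Dominates A ((algebraMap K M).comp (algebraMap A K)) W ∧
      W.comap (algebraMap L M) = V := by
  obtain ⟨W, h, hloc⟩ := IsLocalRing.exists_factor_valuationRing ((algebraMap L M).comp V.subtype)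
  have h1 : ∀ x : L, x ∈ V → algebraMap L M x ∈ W := fun x hx => h ⟨x, hx⟩
  have h2 : ∀ x : L, x ∈ V.nonunits → algebraMap L M x ∈ W.nonunits := by
    intro x hx
    obtain ⟨hxV, hxm⟩ := V.mem_nonunits_iff_exists_mem_maximalIdeal.mp hx
    rw [W.mem_nonunits_iff_exists_mem_maximalIdeal]
    refine ⟨h1 x hxV, ?_⟩
    rw [mem_maximalIdeal, mem_nonunits_iff] at hxm ⊢
    intro hu
    apply hxm
    exact hloc.map_nonunit ⟨x, hxV⟩ hu
  refine ⟨W, ⟨fun a => ?_, fun a ha => ?_⟩, comap_eq_of_local V W _ h1 h2⟩
  · rw [gM_eq A K L M]; exact h1 _ (hV.1 a)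
  · rw [gM_eq A K L M]
    exact h2 _ (hV.2 a ha)


omit [IsDomain A] [IsDiscreteValuationRing A] in
theorem isLocalHom_of_dominates [IsLocalRing A] {F : Type u} [Field F] (g : A →+* F) (V : ValuationSubring F)
    (hV : EtRam.Dominates A g V) : IsLocalHom (RingHom.codRestrict g V hV.1) := by
  constructor
  intro a ha
  by_contra hau
  have hm : a ∈ maximalIdeal A := hau
  have h1 := hV.2 a hm
  have h2 : (RingHom.codRestrict g V hV.1 a) ∈ maximalIdeal V := by
    rw [ValuationSubring.valuation_lt_one_iff]; exact h1
  exact h2 ha

variable [FiniteDimensional K M] [Algebra.IsSeparable K M]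

theorem main_1989_tame
    (hM : EtRam.IsTamelyRamified A ((algebraMap K M).comp (algebraMap A K))) :
    EtRam.IsTamelyRamified A ((algebraMap K L).comp (algebraMap A K)) := by
  intro V hV
  obtain ⟨W, hW, rfl⟩ := exists_extension A K L M V hV
  intro hlocAV
  letI algAV : Algebra A (W.comap (algebraMap L M)) :=
    (RingHom.codRestrict ((algebraMap K L).comp (algebraMap A K)) (W.comap (algebraMap L M)) hV.1).toAlgebra
  letI algAW : Algebra A W :=
    (RingHom.codRestrict ((algebraMap K M).comp (algebraMap A K)) W hW.1).toAlgebra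
  letI algVW : Algebra (W.comap (algebraMap L M)) W := (EtRam.inclOfComap W (algebraMap L M)).toAlgebra
  haveI hlocAW : IsLocalHom (algebraMap A W) := isLocalHom_of_dominates A _ W hW
  haveI hlocVW : IsLocalHom (algebraMap (W.comap (algebraMap L M)) W) :=
    EtRam.isLocalHom_inclOfComap W (algebraMap L M)
  haveI : IsScalarTower A (W.comap (algebraMap L M)) W :=
    IsScalarTower.of_algebraMap_eq (fun a => Subtype.ext (gM_eq A K L M a))
  obtain ⟨hsep, hp⟩ := hM W hW
  haveI := hsep
  haveI : FiniteDimensional K L := FiniteDimensional.left K L M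
  haveI : Algebra.IsSeparable K L := Algebra.isSeparable_tower_bot_of_isSeparable K L M
  haveI hVdvr : IsDiscreteValuationRing (W.comap (algebraMap L M)) := isDVR_of_dominates A K L _ hV
  haveI hWdvr : IsDiscreteValuationRing W := isDVR_of_dominates A K M _ hW
  refine ⟨Algebra.isSeparable_tower_bot_of_isSeparable (ResidueField A)
    (ResidueField (W.comap (algebraMap L M))) (ResidueField W), ?_⟩
  intro p hpp hchar hdvd
  apply hp p hpp hchar
  have hinj1 : Function.Injective (algebraMap A (W.comap (algebraMap L M))) := by
    intro a b hab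
    have := congrArg Subtype.val hab
    exact (IsFractionRing.injective A K) ((algebraMap K L).injective this)
  have hinj2 : Function.Injective (algebraMap (W.comap (algebraMap L M)) W) := by
    intro a b hab
    have := congrArg Subtype.val hab
    exact Subtype.ext ((algebraMap L M).injective this)
  rw [ramificationIdx'_tower_dvr A (W.comap (algebraMap L M)) W hinj1 hinj2]
  exact Dvd.dvd.mul_right hdvd _


theorem main_1989_unram
    (hM : EtRam.IsUnramifiedExt A ((algebraMap K M).comp (algebraMap A K))) :
    EtRam.IsUnramifiedExt A ((algebraMap K L).comp (algebraMap A K)) := by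
  intro V hV
  obtain ⟨W, hW, rfl⟩ := exists_extension A K L M V hV
  intro hlocAV
  letI algAV : Algebra A (W.comap (algebraMap L M)) :=
    (RingHom.codRestrict ((algebraMap K L).comp (algebraMap A K)) (W.comap (algebraMap L M)) hV.1).toAlgebra
  letI algAW : Algebra A W :=
    (RingHom.codRestrict ((algebraMap K M).comp (algebraMap A K)) W hW.1).toAlgebra
  letI algVW : Algebra (W.comap (algebraMap L M)) W := (EtRam.inclOfComap W (algebraMap L M)).toAlgebra
  haveI hlocAW : IsLocalHom (algebraMap A W) := isLocalHom_of_dominates A _ W hW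
  haveI hlocVW : IsLocalHom (algebraMap (W.comap (algebraMap L M)) W) :=
    EtRam.isLocalHom_inclOfComap W (algebraMap L M)
  haveI : IsScalarTower A (W.comap (algebraMap L M)) W :=
    IsScalarTower.of_algebraMap_eq (fun a => Subtype.ext (gM_eq A K L M a))
  obtain ⟨hwu, hsep⟩ := hM W hW
  haveI := hsep
  refine ⟨?_, Algebra.isSeparable_tower_bot_of_isSeparable (ResidueField A)
    (ResidueField (W.comap (algebraMap L M))) (ResidueField W)⟩
  -- weakly unramified
  unfold EtRam.IsWeaklyUnramified at hwu ⊢
  apply le_antisymm
  · exact ((local_hom_TFAE (algebraMap A (W.comap (algebraMap L M)))).out 0 2).mp ‹_›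
  · intro x hx
    obtain ⟨π, hπ⟩ := IsDiscreteValuationRing.exists_irreducible A
    have hmA : maximalIdeal A = Ideal.span {π} := (IsDiscreteValuationRing.irreducible_iff_uniformizer π).mp hπ
    have hxW : algebraMap (W.comap (algebraMap L M)) W x ∈ maximalIdeal W := by
      have := ((local_hom_TFAE (algebraMap (W.comap (algebraMap L M)) W)).out 0 3).mp ‹_›
      exact this hx
    rw [← hwu, hmA, Ideal.map_span, Set.image_singleton, Ideal.mem_span_singleton'] at hxW
    obtain ⟨w, hw⟩ := hxW
    rw [hmA, Ideal.map_span, Set.image_singleton, Ideal.mem_span_singleton']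
    have hπ0 : ((algebraMap K L).comp (algebraMap A K)) π ≠ 0 := by
      intro h0
      apply hπ.ne_zero
      apply IsFractionRing.injective A K
      apply (algebraMap K L).injective
      rw [map_zero, map_zero]; exact h0
    have hwL : (w : M) = algebraMap L M ((x : L) / ((algebraMap K L).comp (algebraMap A K)) π) := by
      have h1 := congrArg Subtype.val hw
      have h2 : (w : M) * ((algebraMap K M).comp (algebraMap A K)) π =
          algebraMap L M (x : L) := h1
      rw [gM_eq A K L M] at h2
      rw [map_div₀, eq_div_iff, h2]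
      exact fun h => hπ0 ((map_eq_zero _).mp h)
    have hmem : (x : L) / ((algebraMap K L).comp (algebraMap A K)) π ∈ W.comap (algebraMap L M) := by
      rw [ValuationSubring.mem_comap, ← hwL]; exact w.2
    refine ⟨⟨_, hmem⟩, Subtype.ext ?_⟩
    show (x : L) / ((algebraMap K L).comp (algebraMap A K)) π *
      ((algebraMap K L).comp (algebraMap A K)) π = x
    rw [div_mul_cancel₀ _ hπ0]


theorem dominates_of_comap (W : ValuationSubring M) :
    EtRam.Dominates (W.comap (algebraMap L M))
      ((algebraMap L M).comp (W.comap (algebraMap L M)).subtype) W := by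
  refine ⟨fun x => x.2, fun x hx => ?_⟩
  have h1 : IsLocalHom (EtRam.inclOfComap W (algebraMap L M)) := EtRam.isLocalHom_inclOfComap W _
  have h2 : EtRam.inclOfComap W (algebraMap L M) x ∈ maximalIdeal W := by
    intro hu
    exact hx (h1.map_nonunit x hu)
  rw [ValuationSubring.valuation_lt_one_iff] at h2
  exact h2

theorem main_1990_tame
    (h1 : EtRam.IsTamelyRamified A ((algebraMap K L).comp (algebraMap A K)))
    (h2 : ∀ (V : ValuationSubring L), EtRam.Dominates A ((algebraMap K L).comp (algebraMap A K)) V →
        EtRam.IsTamelyRamified V ((algebraMap L M).comp V.subtype)) :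
    EtRam.IsTamelyRamified A ((algebraMap K M).comp (algebraMap A K)) := by
  intro W hW
  intro hlocAW
  have hV := dominates_comap A K L M W hW
  have hVW := dominates_of_comap L M W
  letI algAV : Algebra A (W.comap (algebraMap L M)) :=
    (RingHom.codRestrict ((algebraMap K L).comp (algebraMap A K)) (W.comap (algebraMap L M)) hV.1).toAlgebra
  letI algAW : Algebra A W :=
    (RingHom.codRestrict ((algebraMap K M).comp (algebraMap A K)) W hW.1).toAlgebra
  letI algVW : Algebra (W.comap (algebraMap L M)) W :=
    (RingHom.codRestrict ((algebraMap L M).comp (W.comap (algebraMap L M)).subtype) W hVW.1).toAlgebra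
  haveI hlocAV : IsLocalHom (algebraMap A (W.comap (algebraMap L M))) := isLocalHom_of_dominates A _ _ hV
  haveI hlocVW : IsLocalHom (algebraMap (W.comap (algebraMap L M)) W) :=
    isLocalHom_of_dominates _ _ W hVW
  haveI : IsScalarTower A (W.comap (algebraMap L M)) W :=
    IsScalarTower.of_algebraMap_eq (fun a => Subtype.ext (gM_eq A K L M a))
  obtain ⟨hsep1, hp1⟩ := h1 _ hV
  obtain ⟨hsep2, hp2⟩ := h2 _ hV W hVW
  haveI := hsep1
  haveI := hsep2
  haveI : FiniteDimensional K L := FiniteDimensional.left K L M
  haveI : Algebra.IsSeparable K L := Algebra.isSeparable_tower_bot_of_isSeparable K L M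
  haveI hVdvr : IsDiscreteValuationRing (W.comap (algebraMap L M)) := isDVR_of_dominates A K L _ hV
  haveI hWdvr : IsDiscreteValuationRing W := isDVR_of_dominates A K M _ hW
  refine ⟨Algebra.IsSeparable.trans (ResidueField A)
    (ResidueField (W.comap (algebraMap L M))) (ResidueField W), ?_⟩
  intro p hpp hchar hdvd
  have hinj1 : Function.Injective (algebraMap A (W.comap (algebraMap L M))) := by
    intro a b hab
    have := congrArg Subtype.val hab
    exact (IsFractionRing.injective A K) ((algebraMap K L).injective this)
  have hinj2 : Function.Injective (algebraMap (W.comap (algebraMap L M)) W) := by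
    intro a b hab
    have := congrArg Subtype.val hab
    exact Subtype.ext ((algebraMap L M).injective this)
  rw [ramificationIdx'_tower_dvr A (W.comap (algebraMap L M)) W hinj1 hinj2] at hdvd
  haveI hchar2 : CharP (ResidueField (W.comap (algebraMap L M))) p :=
    charP_of_injective_algebraMap
      (algebraMap (ResidueField A) (ResidueField (W.comap (algebraMap L M)))).injective p
  rcases (Nat.Prime.dvd_mul hpp).mp hdvd with h | h
  · exact hp1 p hpp hchar h
  · exact hp2 p hpp hchar2 h

theorem main_1990_unram
    (h1 : EtRam.IsUnramifiedExt A ((algebraMap K L).comp (algebraMap A K)))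
    (h2 : ∀ (V : ValuationSubring L), EtRam.Dominates A ((algebraMap K L).comp (algebraMap A K)) V →
        EtRam.IsUnramifiedExt V ((algebraMap L M).comp V.subtype)) :
    EtRam.IsUnramifiedExt A ((algebraMap K M).comp (algebraMap A K)) := by
  intro W hW
  intro hlocAW
  have hV := dominates_comap A K L M W hW
  have hVW := dominates_of_comap L M W
  letI algAV : Algebra A (W.comap (algebraMap L M)) :=
    (RingHom.codRestrict ((algebraMap K L).comp (algebraMap A K)) (W.comap (algebraMap L M)) hV.1).toAlgebra
  letI algAW : Algebra A W :=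
    (RingHom.codRestrict ((algebraMap K M).comp (algebraMap A K)) W hW.1).toAlgebra
  letI algVW : Algebra (W.comap (algebraMap L M)) W :=
    (RingHom.codRestrict ((algebraMap L M).comp (W.comap (algebraMap L M)).subtype) W hVW.1).toAlgebra
  haveI hlocAV : IsLocalHom (algebraMap A (W.comap (algebraMap L M))) := isLocalHom_of_dominates A _ _ hV
  haveI hlocVW : IsLocalHom (algebraMap (W.comap (algebraMap L M)) W) :=
    isLocalHom_of_dominates _ _ W hVW
  haveI : IsScalarTower A (W.comap (algebraMap L M)) W :=
    IsScalarTower.of_algebraMap_eq (fun a => Subtype.ext (gM_eq A K L M a))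
  obtain ⟨hw1, hsep1⟩ := h1 _ hV
  obtain ⟨hw2, hsep2⟩ := h2 _ hV W hVW
  haveI := hsep1
  haveI := hsep2
  refine ⟨?_, Algebra.IsSeparable.trans (ResidueField A)
    (ResidueField (W.comap (algebraMap L M))) (ResidueField W)⟩
  unfold EtRam.IsWeaklyUnramified at hw1 hw2 ⊢
  rw [IsScalarTower.algebraMap_eq A (W.comap (algebraMap L M)) W, ← Ideal.map_map, hw1, hw2]

end Main

end Groth.Agent.Lib.Helper26.TameSub
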