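import Mathlib
import Groth.Prelude.Def_EtRam
import Groth.Agent.Lib.Helper26.TameSub

set_option autoImplicit false
set_option linter.unusedVariables false
set_option linter.style.haveILetI false
set_option linter.unusedSectionVars false
set_option linter.unusedSimpArgs false

universe u

namespace Groth.Agent.Lib.Helper26.SolDesc

open IsLocalRing TensorProduct Groth.Agent.Lib.Helper26.TameSub

section Aux

theorem exists_valuationSubring_of_prime {R F : Type u} [CommRing R] [Field F] (φ : R →+* F)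
    (P : Ideal R) [hP : P.IsPrime] (hker : ∀ r, φ r = 0 → r ∈ P) :
    ∃ W' : ValuationSubring F, (∀ r, φ r ∈ W') ∧ (∀ r ∈ P, φ r ∈ W'.nonunits) := by
  have hItop : Ideal.map φ.rangeRestrict P ≠ ⊤ := by
    intro htop
    have h1 : (1 : φ.range) ∈ Ideal.map φ.rangeRestrict P := by rw [htop]; trivial
    rw [Ideal.mem_map_iff_of_surjective _ φ.rangeRestrict_surjective] at h1
    obtain ⟨p, hp, hp1⟩ := h1
    have h2 : φ p = 1 := congrArg Subtype.val hp1
    have h3 : φ (p - 1) = 0 := by rw [map_sub, h2, map_one, sub_self]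
    have h4 : p - 1 ∈ P := hker _ h3
    have h5 : (1 : R) ∈ P := by
      have := P.sub_mem hp h4
      simpa using this
    exact hP.ne_top ((Ideal.eq_top_iff_one P).mpr h5)
  obtain ⟨W', hW'le, hW'nu⟩ := Ideal.image_subset_nonunits_valuationSubring _ hItop
  refine ⟨W', fun r => hW'le ⟨r, rfl⟩, fun r hr => ?_⟩
  apply hW'nu
  exact ⟨φ.rangeRestrict r, Ideal.mem_map_of_mem _ hr, rfl⟩

end Aux

section Compositum

variable (B C L M₀ : Type u) [CommRing B] [IsDomain B] [IsDiscreteValuationRing B]
  [CommRing C] [IsDomain C] [IsDiscreteValuationRing C]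
  [Algebra B C] [IsLocalHom (algebraMap B C)]
  [Field L] [Field M₀] [Algebra L M₀] [Algebra B L] [IsFractionRing B L]
  [Algebra C M₀] [IsFractionRing C M₀] [Algebra B M₀] [IsScalarTower B C M₀] [IsScalarTower B L M₀]
  (M : Type u) [Field M] [Algebra L M]

theorem exists_compositum (hinj : Function.Injective (algebraMap B C)) (W : ValuationSubring M)
    (hW : EtRam.Dominates B ((algebraMap L M).comp (algebraMap B L)) W) :
    ∃ (M' : Type u) (_ : Field M') (j : M →+* M') (j₀ : M₀ →+* M') (W' : ValuationSubring M'),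
      j.comp (algebraMap L M) = j₀.comp (algebraMap L M₀) ∧ W'.comap j = W ∧
      EtRam.Dominates C (j₀.comp (algebraMap C M₀)) W' ∧
      (∀ S : Subfield M', (∀ x, j x ∈ S) → (∀ y, j₀ y ∈ S) → S = ⊤) := by
  classical
  letI algBW : Algebra B W :=
    (RingHom.codRestrict ((algebraMap L M).comp (algebraMap B L)) W hW.1).toAlgebra
  haveI hlocBW : IsLocalHom (algebraMap B W) := isLocalHom_of_dominates B _ W hW
  have hinjBW : Function.Injective (algebraMap B W) := by
    intro a b hab
    have := congrArg Subtype.val hab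
    exact (IsFractionRing.injective B L) ((algebraMap L M).injective this)
  haveI : FaithfulSMul B C := (faithfulSMul_iff_algebraMap_injective B C).mpr hinj
  haveI : Module.Flat B C := inferInstance
  haveI : Module.FaithfullyFlat B C := Module.FaithfullyFlat.of_flat_of_isLocalHom
  haveI : Module.FaithfullyFlat W (W ⊗[B] C) := inferInstance
  obtain ⟨P, hPprime, hPover⟩ :=
    Ideal.exists_isPrime_liesOver_of_faithfullyFlat (B := W ⊗[B] C) (maximalIdeal W)
  obtain ⟨P0, hP0le, hP0prime, hP0over⟩ :=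
    Ideal.exists_ideal_le_liesOver_of_le (p := (⊥ : Ideal W)) (q := maximalIdeal W) P bot_le
  -- the domain D and its fraction field
  let D := (W ⊗[B] C) ⧸ P0
  let M' := FractionRing D
  let φ : (W ⊗[B] C) →+* M' := (algebraMap D M').comp (Ideal.Quotient.mk P0)
  have hφker : ∀ r, φ r = 0 ↔ r ∈ P0 := by
    intro r
    show algebraMap D M' (Ideal.Quotient.mk P0 r) = 0 ↔ _
    rw [map_eq_zero_iff _ (IsFractionRing.injective D M'), Ideal.Quotient.eq_zero_iff_mem]
  -- compatibility over B
  have hcompat : ∀ b : B, (algebraMap B W b) ⊗ₜ[B] (1 : C) = (1 : W) ⊗ₜ[B] (algebraMap B C b) := by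
    intro b
    rw [Algebra.algebraMap_eq_smul_one, Algebra.algebraMap_eq_smul_one, TensorProduct.smul_tmul]
  let gW : W →+* M' := φ.comp (Algebra.TensorProduct.includeLeft : W →ₐ[B] W ⊗[B] C).toRingHom
  let gC : C →+* M' := φ.comp (Algebra.TensorProduct.includeRight : C →ₐ[B] W ⊗[B] C).toRingHom
  have hgW : ∀ w : W, gW w = φ (w ⊗ₜ 1) := fun w => rfl
  have hgC : ∀ c : C, gC c = φ (1 ⊗ₜ c) := fun c => rfl
  have hgWinj : Function.Injective gW := by
    rw [injective_iff_map_eq_zero]
    intro w hw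
    rw [hgW, hφker] at hw
    have h1 : w ∈ P0.under W := hw
    rw [← hP0over.over] at h1
    exact h1
  obtain ⟨π, hπ⟩ := IsDiscreteValuationRing.exists_irreducible B
  have hπm : π ∈ maximalIdeal B := by
    rw [mem_maximalIdeal, mem_nonunits_iff]; exact hπ.not_isUnit
  have hπW : algebraMap B W π ∈ maximalIdeal W := by
    have := ((local_hom_TFAE (algebraMap B W)).out 0 3).mp hlocBW
    exact this hπm
  have hπC0 : algebraMap B C π ≠ 0 := fun h => hπ.ne_zero (hinj (by rw [h, map_zero]))
  have hπW0 : algebraMap B W π ≠ 0 := fun h => hπ.ne_zero (hinjBW (by rw [h, map_zero]))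
  have hmemP : ∀ w : W, w ∈ maximalIdeal W → (w ⊗ₜ[B] (1 : C)) ∈ P := by
    intro w hw
    rw [hPover.over] at hw
    exact hw
  have hgCinj : Function.Injective gC := by
    rw [injective_iff_map_eq_zero]
    intro c hc
    by_contra hc0
    -- kernel is a nonzero prime, hence maximal
    let 𝔠 : Ideal C := P0.comap (Algebra.TensorProduct.includeRight : C →ₐ[B] W ⊗[B] C).toRingHom
    haveI : 𝔠.IsPrime := Ideal.comap_isPrime _ _
    have hc𝔠 : c ∈ 𝔠 := by
      show (1 : W) ⊗ₜ[B] c ∈ P0
      rw [← hφker]; exact hc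
    have h𝔠0 : 𝔠 ≠ ⊥ := fun h => hc0 (by rw [h, Ideal.mem_bot] at hc𝔠; exact hc𝔠)
    have h𝔠max : 𝔠.IsMaximal := Ideal.IsPrime.isMaximal inferInstance h𝔠0
    have h𝔠eq : 𝔠 = maximalIdeal C := IsLocalRing.eq_maximalIdeal h𝔠max
    have hπ𝔠 : algebraMap B C π ∈ 𝔠 := by
      rw [h𝔠eq]
      have := ((local_hom_TFAE (algebraMap B C)).out 0 3).mp ‹_›
      exact this hπm
    have h1 : (1 : W) ⊗ₜ[B] (algebraMap B C π) ∈ P0 := hπ𝔠
    rw [← hcompat] at h1
    have h2 : algebraMap B W π ∈ P0.under W := h1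
    rw [← hP0over.over, Ideal.mem_bot] at h2
    exact hπW0 h2
  let j : M →+* M' := IsFractionRing.lift (A := W) (K := M) hgWinj
  let j₀ : M₀ →+* M' := IsFractionRing.lift (A := C) (K := M₀) hgCinj
  have hj : ∀ w : W, j (w : M) = gW w := fun w => IsFractionRing.lift_algebraMap hgWinj w
  have hj₀ : ∀ c : C, j₀ (algebraMap C M₀ c) = gC c := fun c => IsFractionRing.lift_algebraMap hgCinj c
  -- the valuation ring
  obtain ⟨W', hφW', hφnu⟩ := exists_valuationSubring_of_prime φ P
    (fun r hr => hP0le ((hφker r).mp hr))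
  refine ⟨M', inferInstance, j, j₀, W', ?_, ?_, ?_, ?_⟩
  · -- compatibility
    apply IsLocalization.ringHom_ext (nonZeroDivisors B)
    ext b
    simp only [RingHom.comp_apply]
    have e1 : algebraMap L M (algebraMap B L b) = ((algebraMap B W b : W) : M) := rfl
    rw [e1, hj, hgW, hcompat, ← hgC, ← hj₀, ← IsScalarTower.algebraMap_apply B L M₀,
      ← IsScalarTower.algebraMap_apply B C M₀]
  · apply comap_eq_of_local
    · intro x hx
      have := hj ⟨x, hx⟩
      rw [show ((⟨x, hx⟩ : W) : M) = x from rfl] at this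
      rw [this, hgW]; exact hφW' _
    · intro x hx
      obtain ⟨hxW, hxm⟩ := W.mem_nonunits_iff_exists_mem_maximalIdeal.mp hx
      have := hj ⟨x, hxW⟩
      rw [show ((⟨x, hxW⟩ : W) : M) = x from rfl] at this
      rw [this, hgW]
      exact hφnu _ (hmemP _ hxm)
  · -- dominates C
    have hPC : ∀ c ∈ maximalIdeal C, (1 : W) ⊗ₜ[B] c ∈ P := by
      let 𝔠 : Ideal C := P.comap (Algebra.TensorProduct.includeRight : C →ₐ[B] W ⊗[B] C).toRingHom
      haveI : 𝔠.IsPrime := Ideal.comap_isPrime _ _
      have hπ𝔠 : algebraMap B C π ∈ 𝔠 := by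
        show (1 : W) ⊗ₜ[B] (algebraMap B C π) ∈ P
        rw [← hcompat]; exact hmemP _ hπW
      have h𝔠0 : 𝔠 ≠ ⊥ := fun h => hπC0 (by rw [h, Ideal.mem_bot] at hπ𝔠; exact hπ𝔠)
      have h𝔠max : 𝔠.IsMaximal := Ideal.IsPrime.isMaximal inferInstance h𝔠0
      have h𝔠eq : 𝔠 = maximalIdeal C := IsLocalRing.eq_maximalIdeal h𝔠max
      intro c hc
      rw [← h𝔠eq] at hc
      exact hc
    refine ⟨fun c => ?_, fun c hc => ?_⟩
    · rw [RingHom.comp_apply, hj₀, hgC]; exact hφW' _
    · rw [RingHom.comp_apply, hj₀, hgC]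
      exact hφnu _ (hPC c hc)
  · intro S hS1 hS2
    have hφS : ∀ r, φ r ∈ S := by
      intro r
      induction r using TensorProduct.induction_on with
      | zero => rw [map_zero]; exact S.zero_mem
      | tmul w c =>
        have : w ⊗ₜ[B] c = (w ⊗ₜ[B] (1 : C)) * ((1 : W) ⊗ₜ[B] c) := by
          rw [Algebra.TensorProduct.tmul_mul_tmul, mul_one, one_mul]
        rw [this, map_mul, ← hgW, ← hgC, ← hj, ← hj₀]
        exact S.mul_mem (hS1 _) (hS2 _)
      | add x y hx hy => rw [map_add]; exact S.add_mem hx hy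
    rw [eq_top_iff]
    intro z _
    obtain ⟨d1, d2, hd2, rfl⟩ := IsFractionRing.div_surjective (A := D) z
    obtain ⟨r1, rfl⟩ := Ideal.Quotient.mk_surjective d1
    obtain ⟨r2, rfl⟩ := Ideal.Quotient.mk_surjective d2
    exact S.div_mem (hφS r1) (hφS r2)

end Compositum

section Descent

theorem mem_map_of_valuationRing {A₁ S : Type u} [CommRing A₁] [IsDomain A₁] [ValuationRing A₁]
    [CommRing S] (ι : A₁ →+* S) (I : Ideal A₁) (y : S) (hy : y ∈ I.map ι) :
    ∃ a ∈ I, ∃ w : S, y = ι a * w := by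
  refine Submodule.span_induction ?_ ?_ ?_ ?_ hy
  · rintro _ ⟨a, ha, rfl⟩
    exact ⟨a, ha, 1, (mul_one _).symm⟩
  · exact ⟨0, I.zero_mem, 0, by simp⟩
  · rintro x y _ _ ⟨a1, ha1, w1, rfl⟩ ⟨a2, ha2, w2, rfl⟩
    rcases ValuationRing.dvd_total a1 a2 with ⟨c, rfl⟩ | ⟨c, rfl⟩
    · exact ⟨a1, ha1, w1 + ι c * w2, by rw [map_mul]; ring⟩
    · exact ⟨a2, ha2, ι c * w1 + w2, by rw [map_mul]; ring⟩
  · rintro s x _ ⟨a, ha, w, rfl⟩
    exact ⟨a, ha, s * w, by rw [smul_eq_mul]; ring⟩

variable {K₁ M M' : Type u} [Field K₁] [Field M] [Field M']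

theorem weaklyUnramified_descent (f : K₁ →+* M) (j : M →+* M') (W' : ValuationSubring M')
    (h : letI := (EtRam.inclOfComap W' (j.comp f)).toAlgebra
      EtRam.IsWeaklyUnramified (W'.comap (j.comp f)) W') :
    letI := (EtRam.inclOfComap (W'.comap j) f).toAlgebra
    EtRam.IsWeaklyUnramified ((W'.comap j).comap f) (W'.comap j) := by
  letI alg1 := (EtRam.inclOfComap W' (j.comp f)).toAlgebra
  letI alg2 := (EtRam.inclOfComap (W'.comap j) f).toAlgebra
  show Ideal.map (EtRam.inclOfComap (W'.comap j) f) (maximalIdeal _) = maximalIdeal _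
  have h' : Ideal.map (EtRam.inclOfComap W' (j.comp f)) (maximalIdeal _) = maximalIdeal _ := h
  apply le_antisymm
  · exact ((local_hom_TFAE (EtRam.inclOfComap (W'.comap j) f)).out 0 2).mp
      (EtRam.isLocalHom_inclOfComap _ _)
  · intro x hx
    -- image in W'
    have hx' : EtRam.inclOfComap W' j x ∈ maximalIdeal W' := by
      have hle : maximalIdeal (W'.comap j) ≤ (maximalIdeal W').comap (EtRam.inclOfComap W' j) :=
        ((local_hom_TFAE (EtRam.inclOfComap W' j)).out 0 3).mp (EtRam.isLocalHom_inclOfComap _ _)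
      exact hle hx
    rw [← h'] at hx'
    obtain ⟨a, ha, w, hw⟩ := mem_map_of_valuationRing _ _ _ hx'
    have hw' : j (x : M) = j (f (a : K₁)) * (w : M') := congrArg Subtype.val hw
    by_cases ha0 : (a : K₁) = 0
    · rw [ha0, map_zero, map_zero, zero_mul] at hw'
      have : (x : M) = 0 := (map_eq_zero j).mp hw'
      have hx0 : x = 0 := Subtype.ext this
      rw [hx0]; exact Ideal.zero_mem _
    · have hfa : f (a : K₁) ≠ 0 := fun h0 => ha0 ((map_eq_zero f).mp h0)
      have hjfa : j (f (a : K₁)) ≠ 0 := fun h0 => hfa ((map_eq_zero j).mp h0)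
      have hq : j ((x : M) / f (a : K₁)) = (w : M') := by
        rw [map_div₀, hw', mul_div_cancel_left₀ _ hjfa]
      have hmem : (x : M) / f (a : K₁) ∈ W'.comap j := by
        rw [ValuationSubring.mem_comap, hq]; exact w.2
      let a' : ((W'.comap j).comap f) := ⟨(a : K₁), a.2⟩
      have ha' : a' ∈ maximalIdeal ((W'.comap j).comap f) := by
        intro hu
        apply ha
        obtain ⟨u, hu⟩ := hu
        refine IsUnit.of_mul_eq_one (⟨((u⁻¹ : _ˣ) : ((W'.comap j).comap f)).1,
          ((u⁻¹ : _ˣ) : ((W'.comap j).comap f)).2⟩ : W'.comap (j.comp f)) (Subtype.ext ?_)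
        have := congrArg Subtype.val u.mul_inv
        rw [hu] at this
        exact this
      have hxe : x = EtRam.inclOfComap (W'.comap j) f a' * ⟨_, hmem⟩ := by
        apply Subtype.ext
        show (x : M) = f (a : K₁) * ((x : M) / f (a : K₁))
        rw [mul_div_cancel₀ _ hfa]
      rw [hxe]
      exact Ideal.mul_mem_right _ _ (Ideal.mem_map_of_mem _ ha')


theorem geomRed_descent {R S T : Type u} [CommRing R] [IsLocalRing R] [CommRing S] [IsLocalRing S]
    [CommRing T] [IsLocalRing T]
    (f : R →+* S) (g : S →+* T) (h : R →+* T) [IsLocalHom f] [IsLocalHom g] [IsLocalHom h]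
    (hcomp : ∀ r, h r = g (f r))
    (H : @Algebra.IsGeometricallyReduced (ResidueField R) (ResidueField T) _ _
      (ResidueField.map h).toAlgebra) :
    @Algebra.IsGeometricallyReduced (ResidueField R) (ResidueField S) _ _
      (ResidueField.map f).toAlgebra := by
  letI a1 : Algebra (ResidueField R) (ResidueField T) := (ResidueField.map h).toAlgebra
  letI a2 : Algebra (ResidueField R) (ResidueField S) := (ResidueField.map f).toAlgebra
  let φ : ResidueField S →ₐ[ResidueField R] ResidueField T :=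
    { ResidueField.map g with
      commutes' := by
        intro r
        obtain ⟨r, rfl⟩ := residue_surjective r
        show ResidueField.map g (ResidueField.map f (residue R r)) =
          ResidueField.map h (residue R r)
        rw [ResidueField.map_residue, ResidueField.map_residue, ResidueField.map_residue, hcomp] }
  exact Algebra.IsGeometricallyReduced.of_injective φ (RingHom.injective _)

end Descent

section Main

variable (A B C K L M₀ K₁ : Type u) [CommRing A] [IsDomain A] [IsDiscreteValuationRing A]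
    [CommRing B] [IsDomain B] [IsDiscreteValuationRing B] [Algebra A B] [IsLocalHom (algebraMap A B)]
    [CommRing C] [IsDomain C] [IsDiscreteValuationRing C] [Algebra B C] [IsLocalHom (algebraMap B C)]
    [Field K] [Field L] [Field M₀] [Field K₁] [Algebra K L] [Algebra K M₀] [Algebra L M₀] [IsScalarTower K L M₀]
    [Algebra K K₁] [FiniteDimensional K K₁] [Algebra A K] [IsFractionRing A K]
    [Algebra B L] [IsFractionRing B L] [Algebra A L] [IsScalarTower A K L] [IsScalarTower A B L]
    [Algebra C M₀] [IsFractionRing C M₀] [Algebra B M₀]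
    [IsScalarTower B C M₀] [IsScalarTower B L M₀]

/-- the common set-up: from a compositum `M` for `B` build one for `C` -/
theorem exists_setup (hinj : Function.Injective (algebraMap B C))
    (M : Type u) [Field M] [Algebra K M] [Algebra L M] [Algebra K₁ M] [IsScalarTower K L M]
    [IsScalarTower K K₁ M]
    (hgen : Algebra.adjoin L (Set.range (algebraMap K₁ M)) = ⊤) (W : ValuationSubring M)
    (hW : EtRam.Dominates B ((algebraMap L M).comp (algebraMap B L)) W) :
    ∃ (M' : Type u) (_ : Field M') (j : M →+* M') (j₀ : M₀ →+* M') (W' : ValuationSubring M'),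
      W'.comap j = W ∧
      letI algM₀M' : Algebra M₀ M' := j₀.toAlgebra
      letI algKM' : Algebra K M' := (j₀.comp (algebraMap K M₀)).toAlgebra
      letI algK₁M' : Algebra K₁ M' := (j.comp (algebraMap K₁ M)).toAlgebra
      ∃ (_ : IsScalarTower K M₀ M') (_ : IsScalarTower K K₁ M'),
        Algebra.adjoin M₀ (Set.range (algebraMap K₁ M')) = ⊤ ∧
        EtRam.Dominates C ((algebraMap M₀ M').comp (algebraMap C M₀)) W' := by
  obtain ⟨M', instF, j, j₀, W', hcompat, hcomap, hdom, hgenM'⟩ :=
    exists_compositum B C L M₀ M hinj W hW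
  refine ⟨M', instF, j, j₀, W', hcomap, ?_⟩
  letI algM₀M' : Algebra M₀ M' := j₀.toAlgebra
  letI algKM' : Algebra K M' := (j₀.comp (algebraMap K M₀)).toAlgebra
  letI algK₁M' : Algebra K₁ M' := (j.comp (algebraMap K₁ M)).toAlgebra
  haveI t1 : IsScalarTower K M₀ M' := IsScalarTower.of_algebraMap_eq (fun _ => rfl)
  haveI t2 : IsScalarTower K K₁ M' := IsScalarTower.of_algebraMap_eq (fun x => by
    show j₀ (algebraMap K M₀ x) = j (algebraMap K₁ M (algebraMap K K₁ x))
    rw [← IsScalarTower.algebraMap_apply K K₁ M, IsScalarTower.algebraMap_apply K L M,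
      IsScalarTower.algebraMap_apply K L M₀]
    exact (RingHom.congr_fun hcompat _).symm)
  refine ⟨t1, t2, ?_, hdom⟩
  -- generation
  have halg : ∀ x ∈ Set.range (algebraMap K₁ M'), IsAlgebraic M₀ x := by
    rintro _ ⟨k, rfl⟩
    have h1 : IsAlgebraic K k := Algebra.IsAlgebraic.isAlgebraic k
    have h2 : IsAlgebraic K (algebraMap K₁ M' k) := h1.algebraMap
    exact h2.tower_top M₀
  rw [← IntermediateField.adjoin_toSubalgebra_of_isAlgebraic halg]
  have htop : (IntermediateField.adjoin M₀ (Set.range (algebraMap K₁ M'))).toSubfield = ⊤ := by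
    apply hgenM'
    · intro m
      have hm : m ∈ Algebra.adjoin L (Set.range (algebraMap K₁ M)) := by rw [hgen]; trivial
      induction hm using Algebra.adjoin_induction with
      | mem x hx =>
        obtain ⟨k, rfl⟩ := hx
        exact IntermediateField.subset_adjoin M₀ _ ⟨k, rfl⟩
      | algebraMap l =>
        have : j (algebraMap L M l) = algebraMap M₀ M' (algebraMap L M₀ l) :=
          RingHom.congr_fun hcompat l
        rw [this]
        exact IntermediateField.algebraMap_mem _ _
      | add x y _ _ hx hy => rw [map_add]; exact add_mem hx hy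
      | mul x y _ _ hx hy => rw [map_mul]; exact mul_mem hx hy
    · intro y
      exact IntermediateField.algebraMap_mem _ y
  rw [eq_top_iff]
  intro z _
  have : z ∈ (IntermediateField.adjoin M₀ (Set.range (algebraMap K₁ M'))).toSubfield := by
    rw [htop]; trivial
  exact this

theorem main_1988_weak (hinj : Function.Injective (algebraMap B C))
    (hC : EtRam.IsWeakSolution C K M₀ K₁) : EtRam.IsWeakSolution B K L K₁ := by
  intro M _ _ _ _ _ _ hgen W hW
  obtain ⟨M', instF, j, j₀, W', hcomap, h⟩ := exists_setup B C K L M₀ K₁ hinj M hgen W hW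
  subst hcomap
  letI algM₀M' : Algebra M₀ M' := j₀.toAlgebra
  letI algKM' : Algebra K M' := (j₀.comp (algebraMap K M₀)).toAlgebra
  letI algK₁M' : Algebra K₁ M' := (j.comp (algebraMap K₁ M)).toAlgebra
  obtain ⟨t1, t2, hgen', hdom⟩ := h
  have := hC M' hgen' W' hdom
  exact weaklyUnramified_descent (algebraMap K₁ M) j W' this


theorem main_1988_sol (hinj : Function.Injective (algebraMap B C))
    (hC : EtRam.IsSolution C K M₀ K₁) : EtRam.IsSolution B K L K₁ := by
  intro M _ _ _ _ _ _ hgen W hW
  obtain ⟨M', instF, j, j₀, W', hcomap, h⟩ := exists_setup B C K L M₀ K₁ hinj M hgen W hW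
  subst hcomap
  letI algM₀M' : Algebra M₀ M' := j₀.toAlgebra
  letI algKM' : Algebra K M' := (j₀.comp (algebraMap K M₀)).toAlgebra
  letI algK₁M' : Algebra K₁ M' := (j.comp (algebraMap K₁ M)).toAlgebra
  obtain ⟨t1, t2, hgen', hdom⟩ := h
  obtain ⟨h1, h2⟩ := hC M' hgen' W' hdom
  refine ⟨weaklyUnramified_descent (algebraMap K₁ M) j W' h1, ?_⟩
  have hloc := EtRam.isLocalHom_inclOfComap W' (j.comp (algebraMap K₁ M))
  exact @geomRed_descent _ _ _ _ _ _ _ _ _ (EtRam.inclOfComap (W'.comap j) (algebraMap K₁ M))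
    (EtRam.inclOfComap W' j) (EtRam.inclOfComap W' (j.comp (algebraMap K₁ M))) _ _ hloc
    (fun r => rfl) h2

end Main

end Groth.Agent.Lib.Helper26.SolDesc
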