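import Mathlib
import Groth.Prelude.Def_EtRam
import Groth.Agent.Lib.Helper26.TameSub

set_option autoImplicit false
set_option linter.unusedVariables false
set_option linter.style.haveILetI false
set_option linter.unusedSectionVars false
set_option linter.unusedSimpArgs false

universe u

namespace Groth.Agent.Lib.Helper26.ValFin

open IsLocalRing Polynomial Groth.Agent.Lib.Helper26.TameSub

section ValueGroup

/-- For an element algebraic over a subfield, some power of its valuation is the valuation of an
element of the subfield. -/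
theorem exists_pow_eq {K K' Γ₀ : Type*} [Field K] [Field K'] [Algebra K K']
    [LinearOrderedCommGroupWithZero Γ₀] (v : Valuation K' Γ₀) (x : K') (hx0 : x ≠ 0)
    (p : K[X]) (hp0 : p ≠ 0) (hpx : aeval x p = 0) :
    ∃ (m : ℕ) (c : K), 0 < m ∧ m ≤ p.natDegree ∧ c ≠ 0 ∧ v x ^ m = v (algebraMap K K' c) := by
  classical
  let f : ℕ → K' := fun i => algebraMap K K' (p.coeff i) * x ^ i
  have hsum : ∑ i ∈ p.support, f i = 0 := by
    have := hpx
    rw [aeval_def, eval₂_eq_sum, Polynomial.sum_def] at this
    exact this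
  have hf0 : ∀ i ∈ p.support, f i ≠ 0 := by
    intro i hi
    have : p.coeff i ≠ 0 := Polynomial.mem_support_iff.mp hi
    exact mul_ne_zero (fun h => this ((map_eq_zero _).mp h)) (pow_ne_zero _ hx0)
  have hne : p.support.Nonempty := Polynomial.nonempty_support_iff.mpr hp0
  obtain ⟨j, hj, hjmax⟩ := Finset.exists_max_image p.support (fun i => v (f i)) hne
  have hex : ∃ i ∈ p.support \ {j}, v (f i) = v (f j) := by
    by_contra hcon
    push Not at hcon
    have hlt : ∀ i ∈ p.support \ {j}, v (f i) < v (f j) := by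
      intro i hi
      exact lt_of_le_of_ne (hjmax i (Finset.mem_sdiff.mp hi).1) (hcon i hi)
    have h1 := Valuation.map_sum_eq_of_lt v hj hlt
    rw [hsum, map_zero] at h1
    exact (Valuation.ne_zero_iff v).mpr (hf0 j hj) h1.symm
  obtain ⟨i, hi, hij⟩ := hex
  have hi' : i ∈ p.support := (Finset.mem_sdiff.mp hi).1
  have hine : i ≠ j := fun h => (Finset.mem_sdiff.mp hi).2 (by rw [h]; exact Finset.mem_singleton_self j)
  have hvx : v x ≠ 0 := (Valuation.ne_zero_iff v).mpr hx0
  -- general step
  have key : ∀ a b : ℕ, a ∈ p.support → b ∈ p.support → a < b → v (f a) = v (f b) →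
      ∃ (m : ℕ) (c : K), 0 < m ∧ m ≤ p.natDegree ∧ c ≠ 0 ∧ v x ^ m = v (algebraMap K K' c) := by
    intro a b ha hb hab heq
    obtain ⟨d, rfl, hd⟩ : ∃ d, b = a + d ∧ 0 < d := ⟨b - a, by omega, by omega⟩
    have hca : p.coeff a ≠ 0 := Polynomial.mem_support_iff.mp ha
    have hcb : p.coeff (a + d) ≠ 0 := Polynomial.mem_support_iff.mp hb
    refine ⟨d, p.coeff a / p.coeff (a + d), hd, ?_, div_ne_zero hca hcb, ?_⟩
    · have := Polynomial.le_natDegree_of_mem_supp (a + d) hb
      omega
    · simp only [f, map_mul, map_pow] at heq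
      have hvb : v (algebraMap K K' (p.coeff (a + d))) ≠ 0 :=
        (Valuation.ne_zero_iff v).mpr (fun h => hcb ((map_eq_zero _).mp h))
      rw [map_div₀, map_div₀, eq_div_iff hvb]
      rw [pow_add, ← mul_assoc] at heq
      have hpa : v x ^ a ≠ 0 := pow_ne_zero _ hvx
      have h2 : v (algebraMap K K' (p.coeff a)) * v x ^ a =
          (v (algebraMap K K' (p.coeff (a + d))) * v x ^ d) * v x ^ a := by
        rw [heq, mul_right_comm]
      have h3 := mul_right_cancel₀ hpa h2
      rw [h3, mul_comm]
  rcases Nat.lt_or_gt_of_ne hine with h | h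
  · exact key i j hi' hj h hij
  · exact key j i hj hi' h hij.symm

end ValueGroup

section Dominates

variable (A K : Type u) [CommRing A] [IsDomain A] [IsDiscreteValuationRing A] [Field K] [Algebra A K]
  [IsFractionRing A K] (K' : Type u) [Field K'] [Algebra K K'] [FiniteDimensional K K']

variable {A K K'}

theorem val_unit (V : ValuationSubring K')
    (hV : EtRam.Dominates A ((algebraMap K K').comp (algebraMap A K)) V) (u : Aˣ) :
    V.valuation (((algebraMap K K').comp (algebraMap A K)) (u : A)) = 1 := by
  have hu : IsUnit (⟨_, hV.1 (u : A)⟩ : V) := by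
    refine IsUnit.of_mul_eq_one (⟨_, hV.1 ((u⁻¹ : Aˣ) : A)⟩ : V) (Subtype.ext ?_)
    show ((algebraMap K K').comp (algebraMap A K)) (u : A) *
      ((algebraMap K K').comp (algebraMap A K)) ((u⁻¹ : Aˣ) : A) = 1
    rw [← map_mul, Units.mul_inv, map_one]
  exact (V.valuation_eq_one_iff _).mp hu


theorem val_K (V : ValuationSubring K')
    (hV : EtRam.Dominates A ((algebraMap K K').comp (algebraMap A K)) V)
    (π : A) (hπ : Irreducible π) (c : K) (hc : c ≠ 0)
    (hle : V.valuation (algebraMap K K' c) ≤ 1) :
    ∃ k : ℕ, V.valuation (algebraMap K K' c) =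
      V.valuation (((algebraMap K K').comp (algebraMap A K)) π) ^ k := by
  have hcase : ∀ a : A, a ≠ 0 → ∃ k : ℕ, V.valuation (algebraMap K K' (algebraMap A K a)) =
      V.valuation (((algebraMap K K').comp (algebraMap A K)) π) ^ k := by
    intro a ha
    obtain ⟨k, u, rfl⟩ := IsDiscreteValuationRing.eq_unit_mul_pow_irreducible ha hπ
    refine ⟨k, ?_⟩
    have := val_unit V hV u
    simp only [RingHom.comp_apply] at this ⊢
    rw [map_mul, map_mul, map_mul, this, one_mul, map_pow, map_pow, map_pow]
  rcases ValuationRing.isInteger_or_isInteger A c with ⟨a, ha⟩ | ⟨a, ha⟩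
  · have ha0 : a ≠ 0 := by
      rintro rfl
      rw [map_zero] at ha
      exact hc ha.symm
    rw [← ha]
    exact hcase a ha0
  · by_cases hau : IsUnit a
    · obtain ⟨u, rfl⟩ := hau
      have hcu : c = algebraMap A K ((u⁻¹ : Aˣ) : A) := by
        have h1 : algebraMap A K ((u⁻¹ : Aˣ) : A) * algebraMap A K (u : A) = 1 := by
          rw [← map_mul, Units.inv_mul, map_one]
        rw [ha] at h1
        field_simp at h1
        exact h1.symm
      rw [hcu]
      exact hcase _ (Units.ne_zero _)
    · exfalso
      have ham : a ∈ maximalIdeal A := hau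
      have h1 := hV.2 a ham
      have h2 : algebraMap K K' c = (((algebraMap K K').comp (algebraMap A K)) a)⁻¹ := by
        simp only [RingHom.comp_apply]
        rw [ha, map_inv₀, inv_inv]
      rw [h2, map_inv₀] at hle
      have ha0 : V.valuation (((algebraMap K K').comp (algebraMap A K)) a) ≠ 0 := by
        rw [Valuation.ne_zero_iff]
        intro h0
        simp only [RingHom.comp_apply] at h0
        rw [ha] at h0
        have := (map_eq_zero _).mp h0
        exact hc (inv_eq_zero.mp this)
      have h3 : 1 ≤ V.valuation (((algebraMap K K').comp (algebraMap A K)) a) := by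
        rwa [inv_le_one₀ (zero_lt_iff.mpr ha0)] at hle
      exact absurd h1 (not_lt.mpr h3)


theorem exists_pow_N (V : ValuationSubring K')
    (hV : EtRam.Dominates A ((algebraMap K K').comp (algebraMap A K)) V)
    (π : A) (hπ : Irreducible π) (x : K') (hxV : x ∈ V) (hx0 : x ≠ 0) :
    ∃ k : ℕ, V.valuation x ^ (Module.finrank K K').factorial =
      V.valuation (((algebraMap K K').comp (algebraMap A K)) π) ^ k := by
  have hint : IsIntegral K x := Algebra.IsIntegral.isIntegral x
  obtain ⟨m, c, hm0, hmle, hc0, hmc⟩ := exists_pow_eq V.valuation x hx0 (minpoly K x)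
    (minpoly.ne_zero hint) (minpoly.aeval K x)
  have hmn : m ≤ Module.finrank K K' := hmle.trans (minpoly.natDegree_le x)
  have hle : V.valuation (algebraMap K K' c) ≤ 1 := by
    rw [← hmc]
    exact pow_le_one₀ zero_le ((V.valuation_le_one_iff x).mpr hxV)
  obtain ⟨k, hk⟩ := val_K V hV π hπ c hc0 hle
  obtain ⟨r, hr⟩ := Nat.dvd_factorial hm0 hmn
  refine ⟨k * r, ?_⟩
  rw [hr, pow_mul, hmc, hk, ← pow_mul]


theorem isDVR_of_dominates_finite (V : ValuationSubring K')
    (hV : EtRam.Dominates A ((algebraMap K K').comp (algebraMap A K)) V) :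
    IsDiscreteValuationRing V := by
  classical
  obtain ⟨π, hπ⟩ := IsDiscreteValuationRing.exists_irreducible A
  have hNpos : 0 < (Module.finrank K K').factorial := Nat.factorial_pos _
  have hgπ0 : ((algebraMap K K').comp (algebraMap A K)) π ≠ 0 := by
    intro h0
    have h1 : algebraMap A K π = 0 := (map_eq_zero (algebraMap K K')).mp h0
    exact hπ.ne_zero ((IsFractionRing.injective A K) (h1.trans (map_zero _).symm))
  have hq1 : V.valuation (((algebraMap K K').comp (algebraMap A K)) π) < 1 :=
    hV.2 π hπ.not_isUnit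
  have hq0 : V.valuation (((algebraMap K K').comp (algebraMap A K)) π) ≠ 0 :=
    (Valuation.ne_zero_iff _).mpr hgπ0
  have hqpos : 0 < V.valuation (((algebraMap K K').comp (algebraMap A K)) π) := zero_lt_iff.mpr hq0
  have hexp : ∀ x : V, x ≠ 0 → ∃ k : ℕ, V.valuation (x : K') ^ (Module.finrank K K').factorial =
      V.valuation (((algebraMap K K').comp (algebraMap A K)) π) ^ k :=
    fun x hx => exists_pow_N V hV π hπ x x.2 (fun h => hx (Subtype.ext h))
  have hS : ∃ k : ℕ, ∃ x : V, x ∈ maximalIdeal V ∧ x ≠ 0 ∧
      V.valuation (x : K') ^ (Module.finrank K K').factorial =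
        V.valuation (((algebraMap K K').comp (algebraMap A K)) π) ^ k := by
    refine ⟨(Module.finrank K K').factorial, ⟨_, hV.1 π⟩, ?_, ?_, rfl⟩
    · rw [ValuationSubring.valuation_lt_one_iff]; exact hq1
    · exact fun h => hgπ0 (congrArg Subtype.val h)
  obtain ⟨x₀, hx₀m, hx₀0, hx₀k⟩ := Nat.find_spec hS
  have hx₀lt : V.valuation (x₀ : K') < 1 := (V.valuation_lt_one_iff x₀).mp hx₀m
  have hk₀pos : 0 < Nat.find hS := by
    by_contra h
    have h0 : Nat.find hS = 0 := by omega
    rw [h0, pow_zero] at hx₀k
    have := pow_lt_one₀ zero_le hx₀lt hNpos.ne'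
    rw [hx₀k] at this
    exact lt_irrefl _ this
  have hqpow : ∀ a b : ℕ, V.valuation (((algebraMap K K').comp (algebraMap A K)) π) ^ a ≤
      V.valuation (((algebraMap K K').comp (algebraMap A K)) π) ^ b ↔ b ≤ a :=
    fun a b => pow_le_pow_iff_right_of_lt_one₀ hqpos hq1
  have hqinj : ∀ a b : ℕ, V.valuation (((algebraMap K K').comp (algebraMap A K)) π) ^ a =
      V.valuation (((algebraMap K K').comp (algebraMap A K)) π) ^ b → a = b := by
    intro a b hab
    exact le_antisymm ((hqpow b a).mp hab.ge) ((hqpow a b).mp hab.le)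
  have hdiv : ∀ x : V, x ∈ maximalIdeal V → ∃ y : V, x = x₀ * y := by
    intro x hx
    by_cases hx0 : x = 0
    · exact ⟨0, by rw [hx0, mul_zero]⟩
    obtain ⟨k, hk⟩ := hexp x hx0
    have hkk : Nat.find hS ≤ k := Nat.find_min' hS ⟨x, hx, hx0, hk⟩
    have hle : V.valuation (x : K') ^ (Module.finrank K K').factorial ≤
        V.valuation (x₀ : K') ^ (Module.finrank K K').factorial := by
      rw [hk, hx₀k]; exact (hqpow _ _).mpr hkk
    have hle' : V.valuation (x : K') ≤ V.valuation (x₀ : K') :=
      (pow_le_pow_iff_left₀ zero_le zero_le hNpos.ne').mp hle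
    have hx₀0' : (x₀ : K') ≠ 0 := fun h => hx₀0 (Subtype.ext h)
    have hmem : (x : K') / (x₀ : K') ∈ V := by
      rw [← V.valuation_le_one_iff, map_div₀]
      exact div_le_one_of_le₀ hle' zero_le
    refine ⟨⟨_, hmem⟩, Subtype.ext ?_⟩
    show (x : K') = (x₀ : K') * ((x : K') / (x₀ : K'))
    rw [mul_div_cancel₀ _ hx₀0']
  have hfac : ∀ k : ℕ, ∀ y : V, y ≠ 0 →
      V.valuation (y : K') ^ (Module.finrank K K').factorial =
        V.valuation (((algebraMap K K').comp (algebraMap A K)) π) ^ k →
      ∃ (j : ℕ) (u : Vˣ), y = u * x₀ ^ j := by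
    intro k
    induction k using Nat.strong_induction_on with
    | _ k ih =>
      intro y hy0 hyk
      by_cases hyu : IsUnit y
      · obtain ⟨u, rfl⟩ := hyu
        exact ⟨0, u, by rw [pow_zero, mul_one]⟩
      · obtain ⟨y₁, rfl⟩ := hdiv y hyu
        have hy₁0 : y₁ ≠ 0 := right_ne_zero_of_mul hy0
        obtain ⟨k₁, hk₁⟩ := hexp y₁ hy₁0
        have h1 : V.valuation (((algebraMap K K').comp (algebraMap A K)) π) ^ k =
            V.valuation (((algebraMap K K').comp (algebraMap A K)) π) ^ (Nat.find hS + k₁) := by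
          rw [← hyk, pow_add, ← hx₀k, ← hk₁, ← mul_pow]
          congr 1
        have hkeq := hqinj _ _ h1
        obtain ⟨j, u, hju⟩ := ih k₁ (by omega) y₁ hy₁0 hk₁
        exact ⟨j + 1, u, by rw [hju, pow_succ]; ring⟩
  have hmeq : maximalIdeal V = Ideal.span {x₀} := by
    apply le_antisymm
    · intro x hx
      obtain ⟨y, rfl⟩ := hdiv x hx
      exact Ideal.mul_mem_right _ _ (Ideal.subset_span rfl)
    · rw [Ideal.span_le]; rintro _ rfl; exact hx₀m
  have hirr : Irreducible x₀ := by
    have hprime : (Ideal.span {x₀}).IsPrime := hmeq ▸ inferInstance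
    exact ((Ideal.span_singleton_prime hx₀0).mp hprime).irreducible
  apply IsDiscreteValuationRing.ofHasUnitMulPowIrreducibleFactorization
  refine ⟨x₀, hirr, fun {y} hy => ?_⟩
  obtain ⟨k, hk⟩ := hexp y hy
  obtain ⟨j, u, hju⟩ := hfac k y hy hk
  exact ⟨j, u, by rw [hju]; ring⟩


/-- `A = V ∩ K`. -/
theorem mem_range_of_val_le_one (V : ValuationSubring K')
    (hV : EtRam.Dominates A ((algebraMap K K').comp (algebraMap A K)) V) (c : K)
    (hle : V.valuation (algebraMap K K' c) ≤ 1) : ∃ a : A, algebraMap A K a = c := by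
  rcases ValuationRing.isInteger_or_isInteger A c with ⟨a, ha⟩ | ⟨a, ha⟩
  · exact ⟨a, ha⟩
  · by_cases hc : c = 0
    · exact ⟨0, by rw [hc, map_zero]⟩
    by_cases hau : IsUnit a
    · obtain ⟨u, rfl⟩ := hau
      refine ⟨((u⁻¹ : Aˣ) : A), ?_⟩
      have h1 : algebraMap A K ((u⁻¹ : Aˣ) : A) * algebraMap A K (u : A) = 1 := by
        rw [← map_mul, Units.inv_mul, map_one]
      rw [ha] at h1
      field_simp at h1
      exact h1
    · exfalso
      have ham : a ∈ maximalIdeal A := hau
      have h1 := hV.2 a ham
      have h2 : algebraMap K K' c = (((algebraMap K K').comp (algebraMap A K)) a)⁻¹ := by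
        simp only [RingHom.comp_apply]
        rw [ha, map_inv₀, inv_inv]
      rw [h2, map_inv₀] at hle
      have ha0 : V.valuation (((algebraMap K K').comp (algebraMap A K)) a) ≠ 0 := by
        rw [Valuation.ne_zero_iff]
        intro h0
        simp only [RingHom.comp_apply] at h0
        rw [ha] at h0
        have := (map_eq_zero _).mp h0
        exact hc (inv_eq_zero.mp this)
      have h3 : 1 ≤ V.valuation (((algebraMap K K').comp (algebraMap A K)) a) := by
        rwa [inv_le_one₀ (zero_lt_iff.mpr ha0)] at hle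
      exact absurd h1 (not_lt.mpr h3)

theorem finite_residue (V : ValuationSubring K')
    (hV : EtRam.Dominates A ((algebraMap K K').comp (algebraMap A K)) V) :
    letI : Algebra A V :=
      (RingHom.codRestrict ((algebraMap K K').comp (algebraMap A K)) V hV.1).toAlgebra
    ∀ [IsLocalHom (algebraMap A V)], Module.Finite (ResidueField A) (ResidueField V) := by
  classical
  letI algAV : Algebra A V :=
    (RingHom.codRestrict ((algebraMap K K').comp (algebraMap A K)) V hV.1).toAlgebra
  intro hloc
  rw [← Module.rank_lt_aleph0_iff]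
  refine lt_of_le_of_lt (rank_le (n := Module.finrank K K') ?_) (Cardinal.natCast_lt_aleph0)
  intro s hs
  -- lifts
  choose lift hlift using fun y : ResidueField V => residue_surjective (R := V) y
  have hli : LinearIndependent K (fun i : s => ((lift (i : ResidueField V) : V) : K')) := by
    rw [linearIndependent_iff']
    intro t c hsum
    by_contra hcon
    push Not at hcon
    obtain ⟨i₀, hi₀t, hi₀⟩ := hcon
    have htne : t.Nonempty := ⟨i₀, hi₀t⟩
    obtain ⟨j, hjt, hjmax⟩ := Finset.exists_max_image t
      (fun i => V.valuation (algebraMap K K' (c i))) htne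
    have hcj0 : c j ≠ 0 := by
      intro h0
      have h1 := hjmax i₀ hi₀t
      simp only [h0, map_zero] at h1
      have : V.valuation (algebraMap K K' (c i₀)) = 0 := le_antisymm h1 zero_le
      rw [Valuation.zero_iff] at this
      exact hi₀ ((map_eq_zero _).mp this)
    have hvj0 : V.valuation (algebraMap K K' (c j)) ≠ 0 :=
      (Valuation.ne_zero_iff _).mpr (fun h => hcj0 ((map_eq_zero _).mp h))
    have hd : ∀ i ∈ t, ∃ a : A, algebraMap A K a = c i / c j := by
      intro i hi
      apply mem_range_of_val_le_one V hV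
      rw [map_div₀, map_div₀]
      exact div_le_one_of_le₀ (hjmax i hi) zero_le
    choose! a ha using hd
    -- relation in V
    have hrel : ∑ i ∈ t, algebraMap A V (a i) * lift (i : ResidueField V) = 0 := by
      apply Subtype.ext
      rw [AddSubmonoidClass.coe_finsetSum]
      have h1 : ∀ i ∈ t, ((algebraMap A V (a i) * lift (i : ResidueField V) : V) : K') =
          (c j)⁻¹ • (c i • ((lift (i : ResidueField V) : V) : K')) := by
        intro i hi
        show algebraMap K K' (algebraMap A K (a i)) * _ = _
        rw [ha i hi, Algebra.smul_def, Algebra.smul_def, ← mul_assoc, ← map_mul]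
        congr 2
        field_simp
      rw [Finset.sum_congr rfl h1, ← Finset.smul_sum, hsum, smul_zero]
      rfl
    have hrel' := congrArg (residue V) hrel
    rw [map_sum, map_zero] at hrel'
    have h2 : ∀ i ∈ t, residue V (algebraMap A V (a i) * lift (i : ResidueField V)) =
        residue A (a i) • ((i : s) : ResidueField V) := by
      intro i hi
      rw [map_mul, hlift, Algebra.smul_def]
      rfl
    rw [Finset.sum_congr rfl h2] at hrel'
    have h3 := (linearIndependent_iff'.mp hs) t (fun i => residue A (a i)) hrel' j hjt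
    have h4 : algebraMap A K (a j) = 1 := by rw [ha j hjt, div_self hcj0]
    have h5 : a j = 1 := (IsFractionRing.injective A K) (h4.trans (map_one _).symm)
    rw [h5, map_one] at h3
    exact one_ne_zero h3
  have := hli.fintype_card_le_finrank
  simpa using this

end Dominates

end Groth.Agent.Lib.Helper26.ValFin
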