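import Mathlib
import Groth.Prelude.Def_EtRam
import Groth.Agent.Lib.Helper26.TameSub
import Groth.Agent.Lib.Helper26.SolDesc
import Groth.Agent.Lib.Helper26.ValFin

set_option autoImplicit false
set_option linter.unusedVariables false
set_option linter.style.haveILetI false
set_option linter.unusedSectionVars false
set_option linter.unusedSimpArgs false

universe u

namespace Groth.Agent.Lib.Helper26.TensG

open IsLocalRing TensorProduct

section Gprime

variable {C' F : Type u} [CommRing C'] [Field F]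

theorem not_nonunits {W : ValuationSubring F} {x : F} (hx : x ∉ W.nonunits) : x ≠ 0 ∧ x⁻¹ ∈ W := by
  rw [W.mem_nonunits_iff_or] at hx
  push Not at hx
  exact hx

theorem one_sub_not_nonunits {W : ValuationSubring F} {m : F} (hm : m ∈ W.nonunits) :
    (1 - m) ∉ W.nonunits := by
  intro h
  have h1 : (1 - m) + m ∈ W.nonunits := W.nonunits.add_mem h hm
  rw [sub_add_cancel, W.mem_nonunits_iff, map_one] at h1
  exact lt_irrefl _ h1

theorem nonunits_mul {W : ValuationSubring F} {m w : F} (hm : m ∈ W.nonunits) (hw : w ∈ W) :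
    m * w ∈ W.nonunits := by
  rw [W.mem_nonunits_iff] at hm ⊢
  rw [map_mul]
  have hw' : W.valuation w ≤ 1 := (W.valuation_le_one_iff w).mpr hw
  calc W.valuation m * W.valuation w ≤ W.valuation m * 1 := by gcongr
    _ = W.valuation m := mul_one _
    _ < 1 := hm

/-- key step: elements mapping into the maximal ideal are divisible by `t` up to a unit -/
theorem key_step (ψ : C' →+* F) (t : C') (W : ValuationSubring F) (hψW : ∀ c, ψ c ∈ W)
    (hvnr : ∀ y : C', ∃ z y', y * (1 - y * z) = t * y') (y : C') (hy : ψ y ∈ W.nonunits) :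
    ∃ s y', ψ s ∉ W.nonunits ∧ s * y = t * y' := by
  obtain ⟨z, y', h⟩ := hvnr y
  refine ⟨1 - y * z, y', ?_, by rw [mul_comm]; exact h⟩
  rw [map_sub, map_one, map_mul]
  exact one_sub_not_nonunits (nonunits_mul hy (hψW z))

theorem frac_unit_denominator (ψ : C' →+* F) (t : C') (W : ValuationSubring F)
    [IsDiscreteValuationRing W]
    (hψW : ∀ c, ψ c ∈ W) (htm : ψ t ∈ W.nonunits) (ht0 : ψ t ≠ 0)
    (hvnr : ∀ y : C', ∃ z y', y * (1 - y * z) = t * y')
    (hfrac : ∀ w : F, ∃ c c', ψ c' ≠ 0 ∧ w = ψ c / ψ c') :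
    ∀ w ∈ W, ∃ c s, ψ s ∉ W.nonunits ∧ w = ψ c / ψ s := by
  let ψW : C' →+* W := ψ.codRestrict W.toSubring hψW
  have hψWval : ∀ c, ((ψW c : W) : F) = ψ c := fun c => rfl
  have hmemmax : ∀ c, ψ c ∈ W.nonunits ↔ ψW c ∈ maximalIdeal W := fun c =>
    (W.coe_mem_nonunits_iff (a := ψW c))
  have hP : ∀ n : ℕ, ∀ c c' : C', ψ c' ≠ 0 →
      IsDiscreteValuationRing.addVal W (ψW c') = n → ψ c / ψ c' ∈ W →
      ∃ c₂ s, ψ s ∉ W.nonunits ∧ ψ c / ψ c' = ψ c₂ / ψ s := by
    intro n
    induction n using Nat.strong_induction_on with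
    | _ n ih =>
      intro c c' hc'0 hval hw
      by_cases hu : IsUnit (ψW c')
      · refine ⟨c, c', ?_, rfl⟩
        rw [hmemmax]
        exact fun h => h hu
      · have hc'm : ψ c' ∈ W.nonunits := (hmemmax c').mpr hu
        have hcm : ψ c ∈ W.nonunits := by
          have : ψ c = ψ c' * (ψ c / ψ c') := by field_simp
          rw [this]
          exact nonunits_mul hc'm hw
        obtain ⟨s₁, c₁, hs₁, h1⟩ := key_step ψ t W hψW hvnr c hcm
        obtain ⟨s₂, c₁', hs₂, h2⟩ := key_step ψ t W hψW hvnr c' hc'm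
        have hs₁0 := (not_nonunits hs₁).1
        have hs₂0 := (not_nonunits hs₂).1
        have h1' : ψ s₁ * ψ c = ψ t * ψ c₁ := by rw [← map_mul, h1, map_mul]
        have h2' : ψ s₂ * ψ c' = ψ t * ψ c₁' := by rw [← map_mul, h2, map_mul]
        have hc₁'0 : ψ c₁' ≠ 0 := by
          intro h0
          rw [h0, mul_zero] at h2'
          exact mul_ne_zero hs₂0 hc'0 h2'
        -- valuations
        have hs₁u : IsUnit (ψW s₁) := by
          by_contra h
          exact hs₁ ((hmemmax s₁).mpr h)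
        have hs₂u : IsUnit (ψW s₂) := by
          by_contra h
          exact hs₂ ((hmemmax s₂).mpr h)
        have hvs₁ : IsDiscreteValuationRing.addVal W (ψW s₁) = 0 :=
          IsDiscreteValuationRing.addVal_eq_zero_iff.mpr hs₁u
        have hvs₂ : IsDiscreteValuationRing.addVal W (ψW s₂) = 0 :=
          IsDiscreteValuationRing.addVal_eq_zero_iff.mpr hs₂u
        have h2W : ψW s₂ * ψW c' = ψW t * ψW c₁' := Subtype.ext h2'
        have hval2 := congrArg (IsDiscreteValuationRing.addVal W) h2W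
        rw [IsDiscreteValuationRing.addVal_mul, IsDiscreteValuationRing.addVal_mul, hvs₂, zero_add,
          hval] at hval2
        have htW0 : ψW t ≠ 0 := fun h => ht0 (congrArg Subtype.val h)
        have hc₁'W0 : ψW c₁' ≠ 0 := fun h => hc₁'0 (congrArg Subtype.val h)
        obtain ⟨e, he⟩ := ENat.ne_top_iff_exists.mp
          (fun h => htW0 (IsDiscreteValuationRing.addVal_eq_top_iff.mp h))
        obtain ⟨m', hm'⟩ := ENat.ne_top_iff_exists.mp
          (fun h => hc₁'W0 (IsDiscreteValuationRing.addVal_eq_top_iff.mp h))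
        have he1 : e ≠ 0 := by
          rintro rfl
          have h0 : IsDiscreteValuationRing.addVal W (ψW t) = 0 := by rw [← he]; rfl
          have := IsDiscreteValuationRing.addVal_eq_zero_iff.mp h0
          exact ((hmemmax t).mp htm) this
        rw [← he, ← hm'] at hval2
        have hnat : n = e + m' := by exact_mod_cast hval2
        have hval' : IsDiscreteValuationRing.addVal W (ψW (c₁' * s₁)) = m' := by
          rw [map_mul, IsDiscreteValuationRing.addVal_mul, hvs₁, add_zero, ← hm']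
        have hne : ψ (c₁' * s₁) ≠ 0 := by rw [map_mul]; exact mul_ne_zero hc₁'0 hs₁0
        have heq : ψ c / ψ c' = ψ (c₁ * s₂) / ψ (c₁' * s₁) := by
          rw [map_mul, map_mul, div_eq_div_iff hc'0 (mul_ne_zero hc₁'0 hs₁0)]
          have ht0' := ht0
          have e1 : ψ t * (ψ c * (ψ c₁' * ψ s₁)) = ψ t * (ψ c₁ * ψ s₂ * ψ c') := by
            calc ψ t * (ψ c * (ψ c₁' * ψ s₁)) = (ψ s₁ * ψ c) * (ψ t * ψ c₁') := by ring
              _ = (ψ t * ψ c₁) * (ψ s₂ * ψ c') := by rw [h1', h2']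
              _ = _ := by ring
          exact mul_left_cancel₀ ht0 e1
        rw [heq] at hw ⊢
        exact ih m' (by omega) (c₁ * s₂) (c₁' * s₁) hne hval' hw
  intro w hw
  obtain ⟨c, c', hc'0, rfl⟩ := hfrac w
  have hc'W0 : ψW c' ≠ 0 := fun h => hc'0 (congrArg Subtype.val h)
  obtain ⟨n, hn⟩ := ENat.ne_top_iff_exists.mp
    (fun h => hc'W0 (IsDiscreteValuationRing.addVal_eq_top_iff.mp h))
  exact hP n c c' hc'0 hn.symm hw

theorem maximalIdeal_generated (ψ : C' →+* F) (t : C') (W : ValuationSubring F)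
    [IsDiscreteValuationRing W]
    (hψW : ∀ c, ψ c ∈ W) (htm : ψ t ∈ W.nonunits) (ht0 : ψ t ≠ 0)
    (hvnr : ∀ y : C', ∃ z y', y * (1 - y * z) = t * y')
    (hfrac : ∀ w : F, ∃ c c', ψ c' ≠ 0 ∧ w = ψ c / ψ c') :
    ∀ w ∈ W.nonunits, ∃ w' ∈ W, w = ψ t * w' := by
  intro w hw
  have hwW : w ∈ W := W.nonunits_subset hw
  obtain ⟨c, s, hs, rfl⟩ := frac_unit_denominator ψ t W hψW htm ht0 hvnr hfrac w hwW
  obtain ⟨hs0, hsinv⟩ := not_nonunits hs
  have hcm : ψ c ∈ W.nonunits := by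
    have : ψ c = (ψ c / ψ s) * ψ s := by field_simp
    rw [this]
    exact nonunits_mul hw (hψW s)
  obtain ⟨s₁, c₁, hs₁, h1⟩ := key_step ψ t W hψW hvnr c hcm
  obtain ⟨hs₁0, hs₁inv⟩ := not_nonunits hs₁
  have h1' : ψ s₁ * ψ c = ψ t * ψ c₁ := by rw [← map_mul, h1, map_mul]
  refine ⟨ψ c₁ * (ψ s₁)⁻¹ * (ψ s)⁻¹, mul_mem (mul_mem (hψW c₁) hs₁inv) hsinv, ?_⟩
  have : ψ c = ψ t * ψ c₁ * (ψ s₁)⁻¹ := by
    rw [← h1']; field_simp
  rw [this]; field_simp

end Gprime

section VNR

open Polynomial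

/-- An element integral over a field in a reduced algebra is von Neumann regular. -/
theorem exists_vnr {k R : Type*} [Field k] [CommRing R] [Algebra k R] [IsReduced R] (x : R)
    (hx : IsIntegral k x) : ∃ z : R, x = x * x * z := by
  obtain ⟨p, hpm, hpx⟩ := hx
  have hpx' : aeval x p = 0 := hpx
  have hp0 : p ≠ 0 := hpm.ne_zero
  obtain ⟨g, hpg, hg⟩ := Polynomial.exists_eq_pow_rootMultiplicity_mul_and_not_dvd p hp0 0
  rw [map_zero, sub_zero] at hpg hg
  have ha₀ : g.coeff 0 ≠ 0 := fun h => hg (Polynomial.X_dvd_iff.mpr h)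
  have hdecomp : aeval x g = aeval x g.divX * x + algebraMap k R (g.coeff 0) := by
    conv_lhs => rw [← Polynomial.divX_mul_X_add g]
    rw [map_add, map_mul, aeval_X, aeval_C]
  -- x * aeval x g = 0
  have hxg : x * aeval x g = 0 := by
    have h1 : x ^ (rootMultiplicity 0 p) * aeval x g = 0 := by
      rw [hpg, map_mul, map_pow, aeval_X] at hpx'
      exact hpx'
    have hnil : IsNilpotent (x * aeval x g) := by
      refine ⟨rootMultiplicity 0 p + 1, ?_⟩
      rw [mul_pow, pow_succ, pow_succ (aeval x g)]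
      calc x ^ rootMultiplicity 0 p * x * ((aeval x g) ^ rootMultiplicity 0 p * aeval x g)
          = (x ^ rootMultiplicity 0 p * aeval x g) * (x * (aeval x g) ^ rootMultiplicity 0 p) := by
            ring
        _ = 0 := by rw [h1, zero_mul]
    exact hnil.eq_zero
  rw [hdecomp, mul_add] at hxg
  refine ⟨-((g.coeff 0)⁻¹ • aeval x g.divX), ?_⟩
  have h2 : x * algebraMap k R (g.coeff 0) = -(x * (aeval x g.divX * x)) := by
    rw [eq_neg_iff_add_eq_zero, add_comm]; exact hxg
  have h3 : x = (g.coeff 0)⁻¹ • (x * algebraMap k R (g.coeff 0)) := by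
    rw [mul_comm, ← Algebra.smul_def, smul_smul, inv_mul_cancel₀ ha₀, one_smul]
  conv_lhs => rw [h3, h2]
  rw [smul_neg, mul_neg, mul_smul_comm]
  congr 1
  congr 1
  ring

/-- A surjective image of a von Neumann regular ring is reduced. -/
theorem isReduced_of_surjective_of_vnr {R S : Type*} [CommRing R] [CommRing S] (f : R →+* S)
    (hf : Function.Surjective f) (hR : ∀ x : R, ∃ z : R, x = x * x * z) : IsReduced S := by
  constructor
  rintro y ⟨n, hn⟩
  obtain ⟨x, rfl⟩ := hf y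
  obtain ⟨z, hz⟩ := hR x
  have hy : f x = f x * f x * f z := by rw [← map_mul, ← map_mul, ← hz]
  have key : ∀ m : ℕ, f x = f x ^ (m + 1) * f z ^ m := by
    intro m
    induction m with
    | zero => simp
    | succ m ih =>
      calc f x = f x ^ (m + 1) * f z ^ m := ih
        _ = f x ^ m * (f x * f x * f z) * f z ^ m := by rw [← hy, pow_succ]
        _ = f x ^ (m + 1 + 1) * f z ^ (m + 1) := by ring
  cases n with
  | zero =>
    rw [pow_zero] at hn
    have : f x = f x * 1 := (mul_one _).symm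
    rw [this, hn, mul_zero]
  | succ n => rw [key n, hn, zero_mul]

end VNR

section H

variable {X Y Z : Type u} [CommRing X] [IsLocalRing X] [CommRing Y] [IsLocalRing Y]
  [CommRing Z] [IsLocalRing Z]
  [Algebra X Y] [Algebra X Z] [IsLocalHom (algebraMap X Y)] [IsLocalHom (algebraMap X Z)]

variable (X Y Z) in
/-- the reduction map `Z ⊗[X] Y → κ(Z) ⊗[κ(X)] κ(Y)` -/
noncomputable def rho : Z ⊗[X] Y →ₐ[X] ResidueField Z ⊗[ResidueField X] ResidueField Y :=
  Algebra.TensorProduct.lift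
    ({ toRingHom := (Algebra.TensorProduct.includeLeft :
          ResidueField Z →ₐ[ResidueField X] ResidueField Z ⊗[ResidueField X] ResidueField Y).toRingHom.comp
          (residue Z)
       commutes' := fun x => by
        rw [Algebra.TensorProduct.algebraMap_apply]; rfl } :
      Z →ₐ[X] ResidueField Z ⊗[ResidueField X] ResidueField Y)
    ({ toRingHom := (Algebra.TensorProduct.includeRight :
          ResidueField Y →ₐ[ResidueField X] ResidueField Z ⊗[ResidueField X] ResidueField Y).toRingHom.comp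
          (residue Y)
       commutes' := fun x => by
        rw [Algebra.TensorProduct.algebraMap_apply]
        show (1 : ResidueField Z) ⊗ₜ[ResidueField X] (residue Y (algebraMap X Y x)) =
          (residue Z (algebraMap X Z x)) ⊗ₜ[ResidueField X] (1 : ResidueField Y)
        have h1 : residue Y (algebraMap X Y x) = (residue X x) • (1 : ResidueField Y) := by
          rw [Algebra.smul_def, mul_one]; rfl
        have h2 : residue Z (algebraMap X Z x) = (residue X x) • (1 : ResidueField Z) := by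
          rw [Algebra.smul_def, mul_one]; rfl
        rw [h1, h2, TensorProduct.smul_tmul] } :
      Y →ₐ[X] ResidueField Z ⊗[ResidueField X] ResidueField Y)
    (fun _ _ => Commute.all _ _)

theorem rho_tmul (z : Z) (y : Y) :
    rho X Y Z (z ⊗ₜ[X] y) = (residue Z z) ⊗ₜ[ResidueField X] (residue Y y) := by
  unfold rho
  rw [Algebra.TensorProduct.lift_tmul]
  show ((residue Z z) ⊗ₜ[ResidueField X] (1 : ResidueField Y)) *
    ((1 : ResidueField Z) ⊗ₜ[ResidueField X] (residue Y y)) = _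
  rw [Algebra.TensorProduct.tmul_mul_tmul, mul_one, one_mul]

theorem rho_surjective : Function.Surjective (rho X Y Z) := by
  intro w
  induction w using TensorProduct.induction_on with
  | zero => exact ⟨0, map_zero _⟩
  | tmul a b =>
    obtain ⟨z, rfl⟩ := residue_surjective a
    obtain ⟨y, rfl⟩ := residue_surjective b
    exact ⟨z ⊗ₜ y, rho_tmul z y⟩
  | add a b ha hb =>
    obtain ⟨a', rfl⟩ := ha
    obtain ⟨b', rfl⟩ := hb
    exact ⟨a' + b', map_add _ _ _⟩


theorem ker_rho_le (πZ : Z) (hZ : maximalIdeal Z = Ideal.span {πZ})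
    (hw : (maximalIdeal X).map (algebraMap X Y) = maximalIdeal Y) (c : Z ⊗[X] Y)
    (hc : rho X Y Z c = 0) : c ∈ Ideal.span {πZ ⊗ₜ[X] (1 : Y)} := by
  have ha : ∀ z ∈ maximalIdeal Z, z ⊗ₜ[X] (1 : Y) ∈ Ideal.span {πZ ⊗ₜ[X] (1 : Y)} := by
    intro z hz
    rw [hZ, Ideal.mem_span_singleton'] at hz
    obtain ⟨z', rfl⟩ := hz
    rw [Ideal.mem_span_singleton']
    exact ⟨z' ⊗ₜ 1, by rw [Algebra.TensorProduct.tmul_mul_tmul, mul_one]⟩
  have hb : ∀ x ∈ maximalIdeal X,
      (algebraMap X Z x) ⊗ₜ[X] (1 : Y) ∈ Ideal.span {πZ ⊗ₜ[X] (1 : Y)} := by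
    intro x hx
    apply ha
    have := ((local_hom_TFAE (algebraMap X Z)).out 0 3).mp ‹_›
    exact this hx
  have hcY : ∀ y ∈ maximalIdeal Y, (1 : Z) ⊗ₜ[X] y ∈ Ideal.span {πZ ⊗ₜ[X] (1 : Y)} := by
    intro y hy
    rw [← hw] at hy
    refine Submodule.span_induction ?_ ?_ ?_ ?_ hy
    · rintro _ ⟨x, hx, rfl⟩
      have h1 : (1 : Z) ⊗ₜ[X] (algebraMap X Y x) = (algebraMap X Z x) ⊗ₜ[X] (1 : Y) := by
        rw [Algebra.algebraMap_eq_smul_one, Algebra.algebraMap_eq_smul_one, TensorProduct.smul_tmul]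
      rw [h1]; exact hb x hx
    · rw [TensorProduct.tmul_zero]; exact Ideal.zero_mem _
    · intro a b _ _ ha hb
      rw [TensorProduct.tmul_add]; exact Ideal.add_mem _ ha hb
    · intro a b _ hb
      have : (1 : Z) ⊗ₜ[X] (a • b) = ((1 : Z) ⊗ₜ[X] a) * ((1 : Z) ⊗ₜ[X] b) := by
        rw [Algebra.TensorProduct.tmul_mul_tmul, one_mul, smul_eq_mul]
      rw [this]; exact Ideal.mul_mem_left _ _ hb
  -- the inverse map
  let J : Ideal (Z ⊗[X] Y) := Ideal.span {πZ ⊗ₜ[X] (1 : Y)}
  let φ : X →+* (Z ⊗[X] Y) ⧸ J := (Ideal.Quotient.mk J).comp (algebraMap X (Z ⊗[X] Y))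
  have hφ : ∀ x ∈ maximalIdeal X, φ x = 0 := by
    intro x hx
    show Ideal.Quotient.mk J (algebraMap X (Z ⊗[X] Y) x) = 0
    rw [Ideal.Quotient.eq_zero_iff_mem, Algebra.TensorProduct.algebraMap_apply]
    exact hb x hx
  let φ' : ResidueField X →+* (Z ⊗[X] Y) ⧸ J := Ideal.Quotient.lift (maximalIdeal X) φ hφ
  letI algQ : Algebra (ResidueField X) ((Z ⊗[X] Y) ⧸ J) := φ'.toAlgebra
  let gZ0 : ResidueField Z →+* (Z ⊗[X] Y) ⧸ J :=
    Ideal.Quotient.lift (maximalIdeal Z)
      ((Ideal.Quotient.mk J).comp (Algebra.TensorProduct.includeLeft : Z →ₐ[X] Z ⊗[X] Y).toRingHom)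
      (fun z hz => by
        show Ideal.Quotient.mk J (z ⊗ₜ[X] (1 : Y)) = 0
        rw [Ideal.Quotient.eq_zero_iff_mem]; exact ha z hz)
  let gY0 : ResidueField Y →+* (Z ⊗[X] Y) ⧸ J :=
    Ideal.Quotient.lift (maximalIdeal Y)
      ((Ideal.Quotient.mk J).comp (Algebra.TensorProduct.includeRight : Y →ₐ[X] Z ⊗[X] Y).toRingHom)
      (fun y hy => by
        show Ideal.Quotient.mk J ((1 : Z) ⊗ₜ[X] y) = 0
        rw [Ideal.Quotient.eq_zero_iff_mem]; exact hcY y hy)
  have hgZ0 : ∀ z : Z, gZ0 (residue Z z) = Ideal.Quotient.mk J (z ⊗ₜ[X] (1 : Y)) := fun z => rfl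
  have hgY0 : ∀ y : Y, gY0 (residue Y y) = Ideal.Quotient.mk J ((1 : Z) ⊗ₜ[X] y) := fun y => rfl
  let gZ : ResidueField Z →ₐ[ResidueField X] (Z ⊗[X] Y) ⧸ J :=
    { toRingHom := gZ0
      commutes' := fun r => by
        obtain ⟨x, rfl⟩ := residue_surjective r
        show gZ0 (residue Z (algebraMap X Z x)) = φ' (residue X x)
        rw [hgZ0]
        show _ = Ideal.Quotient.mk J (algebraMap X (Z ⊗[X] Y) x)
        rw [Algebra.TensorProduct.algebraMap_apply] }
  let gY : ResidueField Y →ₐ[ResidueField X] (Z ⊗[X] Y) ⧸ J :=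
    { toRingHom := gY0
      commutes' := fun r => by
        obtain ⟨x, rfl⟩ := residue_surjective r
        show gY0 (residue Y (algebraMap X Y x)) = φ' (residue X x)
        rw [hgY0]
        show _ = Ideal.Quotient.mk J (algebraMap X (Z ⊗[X] Y) x)
        rw [Algebra.TensorProduct.algebraMap_apply]
        congr 1
        show (1 : Z) ⊗ₜ[X] (algebraMap X Y x) = (algebraMap X Z x) ⊗ₜ[X] (1 : Y)
        rw [Algebra.algebraMap_eq_smul_one, Algebra.algebraMap_eq_smul_one, TensorProduct.smul_tmul] }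
  let σ := Algebra.TensorProduct.lift gZ gY (fun _ _ => Commute.all _ _)
  have hσρ : ∀ c : Z ⊗[X] Y, σ (rho X Y Z c) = Ideal.Quotient.mk J c := by
    intro c
    induction c using TensorProduct.induction_on with
    | zero => simp
    | tmul z y =>
      rw [rho_tmul, Algebra.TensorProduct.lift_tmul]
      show gZ0 (residue Z z) * gY0 (residue Y y) = _
      rw [hgZ0, hgY0, ← map_mul, Algebra.TensorProduct.tmul_mul_tmul, mul_one, one_mul]
    | add a b ha hb => rw [map_add, map_add, map_add, ha, hb]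
  have := hσρ c
  rw [hc, map_zero] at this
  exact Ideal.Quotient.eq_zero_iff_mem.mp this.symm

end H

section Main

variable {X Y Z : Type u} [CommRing X] [IsLocalRing X] [CommRing Y] [IsLocalRing Y]
  [CommRing Z] [IsLocalRing Z]
  [Algebra X Y] [Algebra X Z] [IsLocalHom (algebraMap X Y)] [IsLocalHom (algebraMap X Z)]

theorem vnr_mod_t (πZ : Z) (hZ : maximalIdeal Z = Ideal.span {πZ})
    (hw : (maximalIdeal X).map (algebraMap X Y) = maximalIdeal Y)
    (hT : ∀ x : ResidueField Z ⊗[ResidueField X] ResidueField Y, ∃ z, x = x * x * z)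
    (y : Z ⊗[X] Y) : ∃ z y', y * (1 - y * z) = (πZ ⊗ₜ[X] (1 : Y)) * y' := by
  obtain ⟨zb, hzb⟩ := hT (rho X Y Z y)
  obtain ⟨z, rfl⟩ := rho_surjective (X := X) (Y := Y) (Z := Z) zb
  have h0 : rho X Y Z (y * (1 - y * z)) = 0 := by
    rw [map_mul, map_sub, map_one, map_mul, mul_sub, mul_one, ← mul_assoc, ← hzb, sub_self]
  have := ker_rho_le πZ hZ hw _ h0
  rw [Ideal.mem_span_singleton'] at this
  obtain ⟨y', hy'⟩ := this
  exact ⟨z, y', by rw [← hy', mul_comm]⟩

variable {F : Type u} [Field F]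

theorem main (πZ : Z) (hZ : maximalIdeal Z = Ideal.span {πZ})
    (hw : (maximalIdeal X).map (algebraMap X Y) = maximalIdeal Y)
    (hT : ∀ x : ResidueField Z ⊗[ResidueField X] ResidueField Y, ∃ z, x = x * x * z)
    (jY : Y →+* F) (jZ : Z →+* F)
    (hcompat : ∀ x : X, jY (algebraMap X Y x) = jZ (algebraMap X Z x))
    (W : ValuationSubring F) [IsDiscreteValuationRing W]
    (hYW : ∀ y, jY y ∈ W) (hZW : ∀ z, jZ z ∈ W) (hπ : jZ πZ ∈ W.nonunits) (hπ0 : jZ πZ ≠ 0)
    (hgen : ∀ S : Subfield F, (∀ y, jY y ∈ S) → (∀ z, jZ z ∈ S) → S = ⊤) :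
    ∃ ψ : Z ⊗[X] Y →+* F, (∀ z y, ψ (z ⊗ₜ[X] y) = jZ z * jY y) ∧ (∀ c, ψ c ∈ W) ∧
      (∀ w ∈ W.nonunits, ∃ w' ∈ W, w = jZ πZ * w') ∧
      (∀ w ∈ W, ∃ c s, ψ s ∉ W.nonunits ∧ w = ψ c / ψ s) := by
  letI algXF : Algebra X F := (jZ.comp (algebraMap X Z)).toAlgebra
  let fZ : Z →ₐ[X] F := { jZ with commutes' := fun x => rfl }
  let fY : Y →ₐ[X] F := { jY with commutes' := fun x => hcompat x }
  let ψ : Z ⊗[X] Y →+* F := (Algebra.TensorProduct.lift fZ fY (fun _ _ => Commute.all _ _)).toRingHom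
  have hψ : ∀ z y, ψ (z ⊗ₜ[X] y) = jZ z * jY y := fun z y =>
    Algebra.TensorProduct.lift_tmul _ _ _ z y
  have hψW : ∀ c, ψ c ∈ W := by
    intro c
    induction c using TensorProduct.induction_on with
    | zero => rw [map_zero]; exact W.zero_mem
    | tmul z y => rw [hψ]; exact W.mul_mem _ _ (hZW z) (hYW y)
    | add a b ha hb => rw [map_add]; exact W.add_mem _ _ ha hb
  have hψt : ψ (πZ ⊗ₜ[X] (1 : Y)) = jZ πZ := by rw [hψ, map_one, mul_one]
  have hfrac : ∀ w : F, ∃ c c', ψ c' ≠ 0 ∧ w = ψ c / ψ c' := by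
    let S : Subfield F :=
      { carrier := {w | ∃ c c', ψ c' ≠ 0 ∧ w = ψ c / ψ c'}
        mul_mem' := by
          rintro _ _ ⟨c1, c1', h1, rfl⟩ ⟨c2, c2', h2, rfl⟩
          exact ⟨c1 * c2, c1' * c2', by rw [map_mul]; exact mul_ne_zero h1 h2,
            by rw [div_mul_div_comm, map_mul, map_mul]⟩
        one_mem' := ⟨1, 1, by rw [map_one]; exact one_ne_zero, by rw [map_one, div_one]⟩
        add_mem' := by
          rintro _ _ ⟨c1, c1', h1, rfl⟩ ⟨c2, c2', h2, rfl⟩
          exact ⟨c1 * c2' + c1' * c2, c1' * c2', by rw [map_mul]; exact mul_ne_zero h1 h2,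
            by rw [div_add_div _ _ h1 h2, map_add, map_mul, map_mul, map_mul]⟩
        zero_mem' := ⟨0, 1, by rw [map_one]; exact one_ne_zero, by rw [map_zero, zero_div]⟩
        neg_mem' := by
          rintro _ ⟨c1, c1', h1, rfl⟩
          exact ⟨-c1, c1', h1, by rw [map_neg, neg_div]⟩
        inv_mem' := by
          rintro _ ⟨c1, c1', h1, rfl⟩
          by_cases hc : ψ c1 = 0
          · exact ⟨0, 1, by rw [map_one]; exact one_ne_zero, by rw [hc, zero_div, inv_zero, map_zero, zero_div]⟩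
          · exact ⟨c1', c1, hc, by rw [inv_div]⟩ }
    have hS : S = ⊤ := hgen S
      (fun y => ⟨(1 : Z) ⊗ₜ[X] y, 1, by rw [map_one]; exact one_ne_zero,
        by rw [hψ, map_one, one_mul, map_one, div_one]⟩)
      (fun z => ⟨z ⊗ₜ[X] (1 : Y), 1, by rw [map_one]; exact one_ne_zero,
        by rw [hψ, map_one, mul_one, map_one, div_one]⟩)
    intro w
    have : w ∈ S := by rw [hS]; trivial
    exact this
  have hvnr := vnr_mod_t (X := X) (Y := Y) πZ hZ hw hT
  refine ⟨ψ, hψ, hψW, ?_, ?_⟩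
  · have := maximalIdeal_generated ψ (πZ ⊗ₜ[X] (1 : Y)) W hψW (by rw [hψt]; exact hπ)
      (by rw [hψt]; exact hπ0) hvnr hfrac
    intro w hw
    obtain ⟨w', hw', h⟩ := this w hw
    exact ⟨w', hw', by rw [h, hψt]⟩
  · exact frac_unit_denominator ψ (πZ ⊗ₜ[X] (1 : Y)) W hψW (by rw [hψt]; exact hπ)
      (by rw [hψt]; exact hπ0) hvnr hfrac

end Main

end Groth.Agent.Lib.Helper26.TensG
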