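import Mathlib
import Groth.Prelude.Def_EtRam
import Groth.Agent.Lib.Helper26.TameSub
import Groth.Agent.Lib.Helper26.SolDesc
import Groth.Agent.Lib.Helper26.ValFin
import Groth.Agent.Lib.Helper26.TensG

set_option autoImplicit false
set_option linter.unusedVariables false
set_option linter.style.haveILetI false
set_option linter.unusedSectionVars false
set_option linter.unusedSimpArgs false

universe u

namespace Groth.Agent.Lib.Helper26.UnrBC

open IsLocalRing TensorProduct Groth.Agent.Lib.Helper26.TameSub

section Aux

theorem nonunits_comap {K₁ M : Type u} [Field K₁] [Field M] (W : ValuationSubring M) (f : K₁ →+* M)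
    (x : K₁) (hx : f x ∈ W.nonunits) : x ∈ (W.comap f).nonunits := by
  rw [ValuationSubring.mem_nonunits_iff_or]
  by_cases h0 : x = 0
  · exact Or.inl h0
  · right
    rw [ValuationSubring.mem_comap, map_inv₀]
    rw [W.mem_nonunits_iff_or] at hx
    rcases hx with h | h
    · exact absurd ((map_eq_zero _).mp h) h0
    · exact h

end Aux

section S9306

variable (A B K L K' : Type u) [CommRing A] [IsDomain A]
    [IsDiscreteValuationRing A] [CommRing B] [IsDomain B] [IsDiscreteValuationRing B] [Algebra A B]
    [IsLocalHom (algebraMap A B)]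
    [Field K] [Field L] [Field K'] [Algebra A K] [IsFractionRing A K] [Algebra B L] [IsFractionRing B L]
    [Algebra K L] [Algebra A L] [IsScalarTower A K L] [IsScalarTower A B L]
    [Algebra K K'] [FiniteDimensional K K']
    (F : Type u) [Field F] [Algebra (K' ⊗[K] L) F]

/-- `F` is finite over `L`. -/
theorem finite_L_F (hF : Function.Surjective (algebraMap (K' ⊗[K] L) F)) :
    @Module.Finite L F _ _ (((algebraMap (K' ⊗[K] L) F).comp
      (Algebra.TensorProduct.includeRight : L →ₐ[K] K' ⊗[K] L).toRingHom).toAlgebra.toModule) := by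
  letI algLF : Algebra L F := ((algebraMap (K' ⊗[K] L) F).comp
      (Algebra.TensorProduct.includeRight : L →ₐ[K] K' ⊗[K] L).toRingHom).toAlgebra
  let θ₀ : L ⊗[K] K' →+* F :=
    (algebraMap (K' ⊗[K] L) F).comp (Algebra.TensorProduct.comm K L K').toRingEquiv.toRingHom
  have hθ₀ : ∀ l k, θ₀ (l ⊗ₜ[K] k) = algebraMap (K' ⊗[K] L) F (k ⊗ₜ[K] l) := fun l k => rfl
  let θ : L ⊗[K] K' →ₗ[L] F :=
    { toFun := θ₀
      map_add' := map_add θ₀
      map_smul' := fun l x => by
        have : l • x = (l ⊗ₜ[K] (1 : K')) * x := by
          rw [Algebra.smul_def, Algebra.TensorProduct.algebraMap_apply]; rfl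
        rw [this, map_mul, hθ₀, RingHom.id_apply, Algebra.smul_def]
        rfl }
  have hθ : Function.Surjective θ := by
    intro f
    obtain ⟨τ, rfl⟩ := hF f
    exact ⟨(Algebra.TensorProduct.comm K L K').symm τ, by
      show (algebraMap (K' ⊗[K] L) F) ((Algebra.TensorProduct.comm K L K')
        ((Algebra.TensorProduct.comm K L K').symm τ)) = _
      rw [AlgEquiv.apply_symm_apply]⟩
  exact Module.Finite.of_surjective θ hθ


theorem main_9306 [Algebra.IsSeparable K K'] (hinj : Function.Injective (algebraMap A B))
    (h : EtRam.IsUnramifiedExt A ((algebraMap K K').comp (algebraMap A K)))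
    (hF : Function.Surjective (algebraMap (K' ⊗[K] L) F)) :
    EtRam.IsUnramifiedExt B ((algebraMap (K' ⊗[K] L) F).comp
      ((Algebra.TensorProduct.includeRight : L →ₐ[K] K' ⊗[K] L).toRingHom.comp (algebraMap B L))) := by
  intro W hW hlocBW
  letI algBW : Algebra B W := (RingHom.codRestrict ((algebraMap (K' ⊗[K] L) F).comp
      ((Algebra.TensorProduct.includeRight : L →ₐ[K] K' ⊗[K] L).toRingHom.comp (algebraMap B L)))
      W hW.1).toAlgebra
  -- the two maps into F
  let jK' : K' →+* F := (algebraMap (K' ⊗[K] L) F).comp
    (Algebra.TensorProduct.includeLeft : K' →ₐ[K] K' ⊗[K] L).toRingHom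
  let jL : L →+* F := (algebraMap (K' ⊗[K] L) F).comp
    (Algebra.TensorProduct.includeRight : L →ₐ[K] K' ⊗[K] L).toRingHom
  have hjK' : ∀ k, jK' k = algebraMap (K' ⊗[K] L) F (k ⊗ₜ[K] (1 : L)) := fun k => rfl
  have hjL : ∀ l, jL l = algebraMap (K' ⊗[K] L) F ((1 : K') ⊗ₜ[K] l) := fun l => rfl
  have hjcompat : ∀ k : K, jK' (algebraMap K K' k) = jL (algebraMap K L k) := by
    intro k
    have e : (algebraMap K K' k) ⊗ₜ[K] (1 : L) = (1 : K') ⊗ₜ[K] (algebraMap K L k) := by
      rw [Algebra.algebraMap_eq_smul_one, Algebra.algebraMap_eq_smul_one, TensorProduct.smul_tmul]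
    rw [hjK', hjL, e]
  have hgF : ∀ b : B, ((algebraMap (K' ⊗[K] L) F).comp
      ((Algebra.TensorProduct.includeRight : L →ₐ[K] K' ⊗[K] L).toRingHom.comp (algebraMap B L))) b =
      jL (algebraMap B L b) := fun b => rfl
  have hAcompat : ∀ a : A, jK' (((algebraMap K K').comp (algebraMap A K)) a) =
      jL (algebraMap B L (algebraMap A B a)) := by
    intro a
    show jK' (algebraMap K K' (algebraMap A K a)) = _
    rw [hjcompat, ← IsScalarTower.algebraMap_apply A K L, IsScalarTower.algebraMap_apply A B L]
  -- V' dominates A
  have hV' : EtRam.Dominates A ((algebraMap K K').comp (algebraMap A K)) (W.comap jK') := by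
    refine ⟨fun a => ?_, fun a ha => ?_⟩
    · rw [ValuationSubring.mem_comap, hAcompat]; exact hW.1 _
    · have haB : algebraMap A B a ∈ maximalIdeal B := by
        have := ((local_hom_TFAE (algebraMap A B)).out 0 3).mp ‹_›
        exact this ha
      have h1 := hW.2 _ haB
      have h2 : jK' (((algebraMap K K').comp (algebraMap A K)) a) ∈ W.nonunits := by
        rw [hAcompat]; exact h1
      exact nonunits_comap W jK' _ h2
  letI algAV' : Algebra A (W.comap jK') :=
    (RingHom.codRestrict ((algebraMap K K').comp (algebraMap A K)) (W.comap jK') hV'.1).toAlgebra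
  haveI hlocAV' : IsLocalHom (algebraMap A (W.comap jK')) := isLocalHom_of_dominates A _ _ hV'
  obtain ⟨hwu, hsep⟩ := h (W.comap jK') hV'
  haveI := hsep
  haveI hV'dvr : IsDiscreteValuationRing (W.comap jK') := ValFin.isDVR_of_dominates_finite _ hV'
  haveI hfinres : Module.Finite (ResidueField A) (ResidueField (W.comap jK')) :=
    ValFin.finite_residue _ hV'
  -- W is a DVR
  letI algLF : Algebra L F := jL.toAlgebra
  haveI : FiniteDimensional L F := finite_L_F K L K' F hF
  have hW' : EtRam.Dominates B ((algebraMap L F).comp (algebraMap B L)) W := hW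
  haveI hWdvr : IsDiscreteValuationRing W := ValFin.isDVR_of_dominates_finite W hW'
  -- VNR of the residue tensor product
  haveI : Algebra.FormallyUnramified (ResidueField A) (ResidueField (W.comap jK')) :=
    Algebra.FormallyUnramified.of_isSeparable _ _
  haveI : Algebra.FormallyUnramified (ResidueField B)
      (ResidueField B ⊗[ResidueField A] ResidueField (W.comap jK')) := inferInstance
  haveI : IsReduced (ResidueField B ⊗[ResidueField A] ResidueField (W.comap jK')) :=
    Algebra.FormallyUnramified.isReduced_of_field (ResidueField B) _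
  have hT : ∀ x : ResidueField B ⊗[ResidueField A] ResidueField (W.comap jK'),
      ∃ z, x = x * x * z := fun x =>
    TensG.exists_vnr (k := ResidueField B) x (Algebra.IsIntegral.isIntegral x)
  obtain ⟨πB, hπB⟩ := IsDiscreteValuationRing.exists_irreducible B
  have hZ : maximalIdeal B = Ideal.span {πB} :=
    (IsDiscreteValuationRing.irreducible_iff_uniformizer πB).mp hπB
  have hπBm : πB ∈ maximalIdeal B := hπB.not_isUnit
  have hπB0 : jL (algebraMap B L πB) ≠ 0 := by
    intro h0
    have h1 : algebraMap B L πB = 0 := (map_eq_zero jL).mp h0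
    exact hπB.ne_zero ((IsFractionRing.injective B L) (h1.trans (map_zero _).symm))
  obtain ⟨ψ, hψ, hψW, hmax, hfrac⟩ := TensG.main (X := A) (Y := W.comap jK') (Z := B) πB hZ hwu hT
    (jK'.comp (W.comap jK').subtype) (jL.comp (algebraMap B L))
    (fun a => hAcompat a) W (fun v => v.2) (fun b => hW.1 b) (hW.2 πB hπBm) hπB0
    (by
      intro S hS1 hS2
      have hK' : ∀ k : K', jK' k ∈ S := by
        intro k
        obtain ⟨v, v', hv', rfl⟩ := IsFractionRing.div_surjective (A := (W.comap jK')) k
        rw [map_div₀]
        exact S.div_mem (hS1 v) (hS1 v')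
      have hL : ∀ l : L, jL l ∈ S := by
        intro l
        obtain ⟨b, b', hb', rfl⟩ := IsFractionRing.div_surjective (A := B) l
        rw [map_div₀]
        exact S.div_mem (hS2 b) (hS2 b')
      rw [eq_top_iff]
      intro f hf
      clear hf
      obtain ⟨τ, rfl⟩ := hF f
      induction τ using TensorProduct.induction_on with
      | zero => rw [map_zero]; exact S.zero_mem
      | tmul k l =>
        have : k ⊗ₜ[K] l = (k ⊗ₜ[K] (1 : L)) * ((1 : K') ⊗ₜ[K] l) := by
          rw [Algebra.TensorProduct.tmul_mul_tmul, mul_one, one_mul]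
        rw [this, map_mul, ← hjK', ← hjL]
        exact S.mul_mem (hK' k) (hL l)
      | add x y hx hy => rw [map_add]; exact S.add_mem hx hy)
  refine ⟨?_, ?_⟩
  · -- weakly unramified
    show Ideal.map (algebraMap B W) (maximalIdeal B) = maximalIdeal W
    apply le_antisymm
    · exact ((local_hom_TFAE (algebraMap B W)).out 0 2).mp hlocBW
    · intro x hx
      have hxnu : (x : F) ∈ W.nonunits := (W.coe_mem_nonunits_iff (a := x)).mpr hx
      obtain ⟨w', hw', hxw⟩ := hmax _ hxnu
      have : x = algebraMap B W πB * ⟨w', hw'⟩ := Subtype.ext hxw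
      rw [this]
      exact Ideal.mul_mem_right _ _ (Ideal.mem_map_of_mem _ hπBm)
  · -- separable residue field extension
    letI algAW : Algebra A W := ((algebraMap B W).comp (algebraMap A B)).toAlgebra
    haveI : IsScalarTower A B W := IsScalarTower.of_algebraMap_eq (fun _ => rfl)
    haveI hlocAW : IsLocalHom (algebraMap A W) :=
      RingHom.isLocalHom_comp (algebraMap B W) (algebraMap A B)
    letI algV'W : Algebra (W.comap jK') W := (EtRam.inclOfComap W jK').toAlgebra
    haveI hlocV'W : IsLocalHom (algebraMap (W.comap jK') W) := EtRam.isLocalHom_inclOfComap W jK'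
    haveI : IsScalarTower A (W.comap jK') W := IsScalarTower.of_algebraMap_eq (fun a =>
      Subtype.ext (hAcompat a).symm)
    -- residues of ψ-images are separable
    let ψW : B ⊗[A] (W.comap jK') →+* W := ψ.codRestrict W.toSubring hψW
    have hψWmul : ∀ b (v : W.comap jK'), ψW (b ⊗ₜ[A] v) = algebraMap B W b * algebraMap (W.comap jK') W v :=
      fun b v => Subtype.ext (hψ b v)
    have hsepres : ∀ c, residue W (ψW c) ∈ separableClosure (ResidueField B) (ResidueField W) := by
      intro c
      induction c using TensorProduct.induction_on with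
      | zero => rw [map_zero, map_zero]; exact zero_mem _
      | tmul b v =>
        rw [hψWmul, map_mul]
        refine mul_mem ?_ ?_
        · have : residue W (algebraMap B W b) =
              algebraMap (ResidueField B) (ResidueField W) (residue B b) := rfl
          rw [this]
          exact IntermediateField.algebraMap_mem _ _
        · have e1 : residue W (algebraMap (W.comap jK') W v) =
              algebraMap (ResidueField (W.comap jK')) (ResidueField W) (residue _ v) := rfl
          rw [e1, mem_separableClosure_iff]
          have h1 : IsSeparable (ResidueField A) (residue (W.comap jK') v) :=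
            Algebra.IsSeparable.isSeparable _ _
          have h2 : IsSeparable (ResidueField A)
              (algebraMap (ResidueField (W.comap jK')) (ResidueField W) (residue _ v)) :=
            h1.map (IsScalarTower.toAlgHom (ResidueField A) (ResidueField (W.comap jK'))
              (ResidueField W)) (RingHom.injective _)
          exact h2.tower_top (ResidueField B)
      | add x y hx hy => rw [map_add, map_add]; exact add_mem hx hy
    constructor
    intro wbar
    obtain ⟨w, rfl⟩ := residue_surjective wbar
    obtain ⟨c, s, hs, hw⟩ := hfrac (w : F) w.2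
    have hsu : IsUnit (ψW s) := by
      by_contra hns
      exact hs ((W.coe_mem_nonunits_iff (a := ψW s)).mpr hns)
    have hs0 : ψ s ≠ 0 := (TensG.not_nonunits hs).1
    have hmul : w * ψW s = ψW c := by
      apply Subtype.ext
      show (w : F) * ψ s = ψ c
      rw [hw, div_mul_cancel₀ _ hs0]
    have hres : residue W w * residue W (ψW s) = residue W (ψW c) := by rw [← map_mul, hmul]
    have hsres0 : residue W (ψW s) ≠ 0 := (residue_ne_zero_iff_isUnit _).mpr hsu
    have hw' : residue W w = residue W (ψW c) * (residue W (ψW s))⁻¹ := by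
      rw [← hres, mul_assoc, mul_inv_cancel₀ hsres0, mul_one]
    rw [← mem_separableClosure_iff, hw']
    exact mul_mem (hsepres c) (inv_mem (hsepres s))

end S9306

end Groth.Agent.Lib.Helper26.UnrBC
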