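import Mathlib
import Groth.Prelude.Def_EtRam
import Groth.Agent.Lib.Helper26.TameSub
import Groth.Agent.Lib.Helper26.SolDesc
import Groth.Agent.Lib.Helper26.ValFin
import Groth.Agent.Lib.Helper26.TensG
import Groth.Agent.Lib.Helper26.UnrBC

set_option autoImplicit false
set_option linter.unusedVariables false
set_option linter.style.haveILetI false
set_option linter.unusedSectionVars false
set_option linter.unusedSimpArgs false

universe u

namespace Groth.Agent.Lib.Helper26.Sol1983

open IsLocalRing TensorProduct Groth.Agent.Lib.Helper26.TameSub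

section Fields

/-- the tensor product of an algebraic field extension and a geometrically reduced one is
von Neumann regular -/
theorem vnr_tensor {k E F : Type u} [Field k] [Field E] [Field F] [Algebra k E] [Algebra k F]
    [Algebra.IsAlgebraic k E] [Algebra.IsGeometricallyReduced k F] :
    ∀ x : E ⊗[k] F, ∃ z, x = x * x * z := by
  haveI h1 : IsReduced (E ⊗[k] F) := inferInstance
  haveI h2 : IsReduced (F ⊗[k] E) :=
    isReduced_of_injective (Algebra.TensorProduct.comm k F E) (Algebra.TensorProduct.comm k F E).injective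
  haveI : Algebra.IsIntegral F (F ⊗[k] E) := inferInstance
  have hv : ∀ x : F ⊗[k] E, ∃ z, x = x * x * z := fun x =>
    TensG.exists_vnr (k := F) x (Algebra.IsIntegral.isIntegral x)
  intro x
  obtain ⟨z, hz⟩ := hv ((Algebra.TensorProduct.comm k E F) x)
  refine ⟨(Algebra.TensorProduct.comm k E F).symm z, ?_⟩
  apply (Algebra.TensorProduct.comm k E F).injective
  rw [map_mul, map_mul, AlgEquiv.apply_symm_apply]
  exact hz

variable {kA kB k₁ kW : Type u} [Field kA] [Field kB] [Field k₁] [Field kW]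
  [Algebra kA kB] [Algebra kA k₁] [Algebra k₁ kW] [Algebra kB kW]

theorem geomRed_of_gen [Algebra.IsGeometricallyReduced kA kB] [Algebra.IsAlgebraic kA k₁]
    (hcompat : ∀ a : kA, algebraMap kB kW (algebraMap kA kB a) =
      algebraMap k₁ kW (algebraMap kA k₁ a))
    (hgen : ∀ S : Subfield kW, (∀ x : k₁, algebraMap k₁ kW x ∈ S) →
      (∀ y : kB, algebraMap kB kW y ∈ S) → S = ⊤) :
    Algebra.IsGeometricallyReduced k₁ kW := by
  rw [Algebra.isGeometricallyReduced_field_iff]
  haveI : IsScalarTower kA k₁ (AlgebraicClosure k₁) := inferInstance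
  haveI : Algebra.IsAlgebraic kA (AlgebraicClosure k₁) := Algebra.IsAlgebraic.trans kA k₁ _
  have hvnr : ∀ x : (AlgebraicClosure k₁) ⊗[kA] kB, ∃ z, x = x * x * z := vnr_tensor
  let f₁ : (AlgebraicClosure k₁) →ₐ[kA] (AlgebraicClosure k₁) ⊗[k₁] kW :=
    { toRingHom := (Algebra.TensorProduct.includeLeft :
        (AlgebraicClosure k₁) →ₐ[k₁] (AlgebraicClosure k₁) ⊗[k₁] kW).toRingHom
      commutes' := fun a => by
        rw [Algebra.TensorProduct.algebraMap_apply]; rfl }
  let f₂ : kB →ₐ[kA] (AlgebraicClosure k₁) ⊗[k₁] kW :=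
    { toRingHom := (Algebra.TensorProduct.includeRight :
        kW →ₐ[k₁] (AlgebraicClosure k₁) ⊗[k₁] kW).toRingHom.comp (algebraMap kB kW)
      commutes' := fun a => by
        rw [Algebra.TensorProduct.algebraMap_apply]
        show (1 : AlgebraicClosure k₁) ⊗ₜ[k₁] (algebraMap kB kW (algebraMap kA kB a)) =
          (algebraMap kA (AlgebraicClosure k₁) a) ⊗ₜ[k₁] (1 : kW)
        rw [IsScalarTower.algebraMap_apply kA k₁ (AlgebraicClosure k₁), hcompat, Algebra.algebraMap_eq_smul_one (algebraMap kA k₁ a),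
          Algebra.algebraMap_eq_smul_one (A := AlgebraicClosure k₁) (algebraMap kA k₁ a),
          TensorProduct.smul_tmul] }
  let Φ : (AlgebraicClosure k₁) ⊗[kA] kB →ₐ[kA] (AlgebraicClosure k₁) ⊗[k₁] kW :=
    Algebra.TensorProduct.lift f₁ f₂ (fun _ _ => Commute.all _ _)
  have hΦ : ∀ ω b, Φ (ω ⊗ₜ[kA] b) = ω ⊗ₜ[k₁] (algebraMap kB kW b) := by
    intro ω b
    show Algebra.TensorProduct.lift f₁ f₂ _ (ω ⊗ₜ[kA] b) = _
    rw [Algebra.TensorProduct.lift_tmul]
    show (ω ⊗ₜ[k₁] (1 : kW)) * ((1 : AlgebraicClosure k₁) ⊗ₜ[k₁] (algebraMap kB kW b)) = _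
    rw [Algebra.TensorProduct.tmul_mul_tmul, mul_one, one_mul]
  let S : Subfield kW :=
    { carrier := {w | ∃ r, Φ r = (1 : AlgebraicClosure k₁) ⊗ₜ[k₁] w}
      mul_mem' := by
        rintro a b ⟨r, hr⟩ ⟨s, hs⟩
        exact ⟨r * s, by rw [map_mul, hr, hs, Algebra.TensorProduct.tmul_mul_tmul, mul_one]⟩
      one_mem' := ⟨1, by rw [map_one]; rfl⟩
      add_mem' := by
        rintro a b ⟨r, hr⟩ ⟨s, hs⟩
        exact ⟨r + s, by rw [map_add, hr, hs, TensorProduct.tmul_add]⟩
      zero_mem' := ⟨0, by rw [map_zero, TensorProduct.tmul_zero]⟩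
      neg_mem' := by
        rintro a ⟨r, hr⟩
        exact ⟨-r, by rw [map_neg, hr, TensorProduct.tmul_neg]⟩
      inv_mem' := by
        rintro a ⟨r, hr⟩
        by_cases ha : a = 0
        · exact ⟨0, by rw [ha, inv_zero, map_zero, TensorProduct.tmul_zero]⟩
        obtain ⟨z, hz⟩ := hvnr r
        refine ⟨z, ?_⟩
        have hu : Φ r = Φ r * Φ r * Φ z := by rw [← map_mul, ← map_mul, ← hz]
        have hvu : ((1 : AlgebraicClosure k₁) ⊗ₜ[k₁] a⁻¹) * Φ r = 1 := by
          rw [hr, Algebra.TensorProduct.tmul_mul_tmul, mul_one, inv_mul_cancel₀ ha]; rfl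
        calc Φ z = (((1 : AlgebraicClosure k₁) ⊗ₜ[k₁] a⁻¹) * Φ r) *
              (((1 : AlgebraicClosure k₁) ⊗ₜ[k₁] a⁻¹) * Φ r) * Φ z := by rw [hvu, one_mul, one_mul]
          _ = ((1 : AlgebraicClosure k₁) ⊗ₜ[k₁] a⁻¹) * ((1 : AlgebraicClosure k₁) ⊗ₜ[k₁] a⁻¹) *
              (Φ r * Φ r * Φ z) := by ring
          _ = ((1 : AlgebraicClosure k₁) ⊗ₜ[k₁] a⁻¹) * (((1 : AlgebraicClosure k₁) ⊗ₜ[k₁] a⁻¹) * Φ r) := by
              rw [← hu]; ring
          _ = (1 : AlgebraicClosure k₁) ⊗ₜ[k₁] a⁻¹ := by rw [hvu, mul_one] }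
  have hS : S = ⊤ := hgen S
    (fun x => ⟨(algebraMap k₁ (AlgebraicClosure k₁) x) ⊗ₜ[kA] (1 : kB), by
      rw [hΦ, map_one, Algebra.algebraMap_eq_smul_one x,
        Algebra.algebraMap_eq_smul_one (A := kW) x, TensorProduct.smul_tmul]⟩)
    (fun y => ⟨(1 : AlgebraicClosure k₁) ⊗ₜ[kA] y, hΦ 1 y⟩)
  have hsurj : Function.Surjective Φ := by
    intro t
    induction t using TensorProduct.induction_on with
    | zero => exact ⟨0, map_zero _⟩
    | tmul ω w =>
      have hw : w ∈ S := by rw [hS]; trivial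
      obtain ⟨r, hr⟩ := hw
      refine ⟨(ω ⊗ₜ[kA] (1 : kB)) * r, ?_⟩
      rw [map_mul, hΦ, hr, map_one, Algebra.TensorProduct.tmul_mul_tmul, mul_one, one_mul]
    | add a b ha hb =>
      obtain ⟨a', rfl⟩ := ha
      obtain ⟨b', rfl⟩ := hb
      exact ⟨a' + b', map_add _ _ _⟩
  exact TensG.isReduced_of_surjective_of_vnr Φ.toRingHom hsurj hvnr

end Fields

section Main

variable (A B K L : Type u) [CommRing A] [IsDomain A] [IsDiscreteValuationRing A]
    [CommRing B] [IsDomain B] [IsDiscreteValuationRing B] [Algebra A B] [IsLocalHom (algebraMap A B)]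
    [Field K] [Field L] [Algebra A K] [IsFractionRing A K] [Algebra B L] [IsFractionRing B L]
    [Algebra K L] [Algebra A L] [IsScalarTower A K L] [IsScalarTower A B L]
    (K₁ : Type u) [Field K₁] [Algebra K K₁] [FiniteDimensional K K₁]

theorem finite_L_M (M : Type u) [Field M] [Algebra K M] [Algebra L M] [Algebra K₁ M]
    [IsScalarTower K L M] [IsScalarTower K K₁ M]
    (hgen : Algebra.adjoin L (Set.range (algebraMap K₁ M)) = ⊤) : Module.Finite L M := by
  let φ : L ⊗[K] K₁ →ₐ[L] M := Algebra.TensorProduct.lift (Algebra.ofId L M)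
    (IsScalarTower.toAlgHom K K₁ M) (fun _ _ => Commute.all _ _)
  have hsurj : Function.Surjective φ := by
    rw [← AlgHom.range_eq_top, eq_top_iff, ← hgen]
    apply Algebra.adjoin_le
    rintro _ ⟨k, rfl⟩
    exact ⟨(1 : L) ⊗ₜ[K] k, by
      show Algebra.TensorProduct.lift _ _ _ ((1 : L) ⊗ₜ[K] k) = _
      rw [Algebra.TensorProduct.lift_tmul, map_one, one_mul]; rfl⟩
  exact Module.Finite.of_surjective φ.toLinearMap hsurj

theorem main_1983 (hinj : Function.Injective (algebraMap A B))
    (hw : EtRam.IsWeaklyUnramified A B)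
    [Algebra.IsGeometricallyReduced (ResidueField A) (ResidueField B)] :
    EtRam.IsSolution B K L K₁ := by
  intro M _ _ _ _ _ _ hgen W hW
  have key : ∀ a : A, algebraMap K₁ M (((algebraMap K K₁).comp (algebraMap A K)) a) =
      ((algebraMap L M).comp (algebraMap B L)) (algebraMap A B a) := by
    intro a
    show algebraMap K₁ M (algebraMap K K₁ (algebraMap A K a)) =
      algebraMap L M (algebraMap B L (algebraMap A B a))
    rw [← IsScalarTower.algebraMap_apply A B L, IsScalarTower.algebraMap_apply A K L,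
      ← IsScalarTower.algebraMap_apply K L M, ← IsScalarTower.algebraMap_apply K K₁ M]
  have hA₁ : EtRam.Dominates A ((algebraMap K K₁).comp (algebraMap A K))
      (W.comap (algebraMap K₁ M)) := by
    refine ⟨fun a => ?_, fun a ha => ?_⟩
    · rw [ValuationSubring.mem_comap, key]; exact hW.1 _
    · have haB : algebraMap A B a ∈ maximalIdeal B := by
        have := ((local_hom_TFAE (algebraMap A B)).out 0 3).mp ‹_›
        exact this ha
      have h1 := hW.2 _ haB
      rw [← key] at h1
      exact UnrBC.nonunits_comap W (algebraMap K₁ M) _ h1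
  haveI hA₁dvr : IsDiscreteValuationRing (W.comap (algebraMap K₁ M)) :=
    ValFin.isDVR_of_dominates_finite _ hA₁
  letI algAA₁ : Algebra A (W.comap (algebraMap K₁ M)) :=
    (RingHom.codRestrict ((algebraMap K K₁).comp (algebraMap A K)) (W.comap (algebraMap K₁ M))
      hA₁.1).toAlgebra
  haveI hlocAA₁ : IsLocalHom (algebraMap A (W.comap (algebraMap K₁ M))) :=
    isLocalHom_of_dominates A _ _ hA₁
  haveI hfinres : Module.Finite (ResidueField A) (ResidueField (W.comap (algebraMap K₁ M))) :=
    ValFin.finite_residue _ hA₁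
  haveI : FiniteDimensional L M := finite_L_M K L K₁ M hgen
  haveI hWdvr : IsDiscreteValuationRing W := ValFin.isDVR_of_dominates_finite W hW
  haveI : Algebra.IsAlgebraic (ResidueField A) (ResidueField (W.comap (algebraMap K₁ M))) :=
    Algebra.IsAlgebraic.of_finite _ _
  have hT : ∀ x : ResidueField (W.comap (algebraMap K₁ M)) ⊗[ResidueField A] ResidueField B,
      ∃ z, x = x * x * z := vnr_tensor
  obtain ⟨π₁, hπ₁⟩ := IsDiscreteValuationRing.exists_irreducible (W.comap (algebraMap K₁ M))
  have hZ : maximalIdeal (W.comap (algebraMap K₁ M)) = Ideal.span {π₁} :=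
    (IsDiscreteValuationRing.irreducible_iff_uniformizer π₁).mp hπ₁
  have hπ₁m : π₁ ∈ maximalIdeal (W.comap (algebraMap K₁ M)) := hπ₁.not_isUnit
  have hπ₁0 : algebraMap K₁ M (π₁ : K₁) ≠ 0 := by
    intro h0
    have h1 : (π₁ : K₁) = 0 := (map_eq_zero _).mp h0
    exact hπ₁.ne_zero (Subtype.ext h1)
  have hπ₁W : algebraMap K₁ M (π₁ : K₁) ∈ W.nonunits := by
    have hle : maximalIdeal (W.comap (algebraMap K₁ M)) ≤
        (maximalIdeal W).comap (EtRam.inclOfComap W (algebraMap K₁ M)) :=
      ((local_hom_TFAE (EtRam.inclOfComap W (algebraMap K₁ M))).out 0 3).mp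
        (EtRam.isLocalHom_inclOfComap _ _)
    have h1 := hle hπ₁m
    exact (W.coe_mem_nonunits_iff (a := EtRam.inclOfComap W (algebraMap K₁ M) π₁)).mpr h1
  obtain ⟨ψ, hψ, hψW, hmax, hfrac⟩ := TensG.main (X := A) (Y := B)
    (Z := W.comap (algebraMap K₁ M)) π₁ hZ hw hT
    ((algebraMap L M).comp (algebraMap B L))
    ((algebraMap K₁ M).comp (W.comap (algebraMap K₁ M)).subtype)
    (fun a => (key a).symm) W (fun b => hW.1 b) (fun v => v.2) hπ₁W hπ₁0
    (by
      intro S hS1 hS2
      have hK₁ : ∀ k : K₁, algebraMap K₁ M k ∈ S := by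
        intro k
        obtain ⟨v, v', hv', rfl⟩ := IsFractionRing.div_surjective (A := (W.comap (algebraMap K₁ M))) k
        rw [map_div₀]
        exact S.div_mem (hS2 v) (hS2 v')
      have hL : ∀ l : L, algebraMap L M l ∈ S := by
        intro l
        obtain ⟨b, b', hb', rfl⟩ := IsFractionRing.div_surjective (A := B) l
        rw [map_div₀]
        exact S.div_mem (hS1 b) (hS1 b')
      rw [eq_top_iff]
      intro m _
      have hm : m ∈ Algebra.adjoin L (Set.range (algebraMap K₁ M)) := by rw [hgen]; trivial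
      induction hm using Algebra.adjoin_induction with
      | mem x hx =>
        obtain ⟨k, rfl⟩ := hx
        exact hK₁ k
      | algebraMap l => exact hL l
      | add x y _ _ hx hy => exact S.add_mem (hx trivial) (hy trivial)
      | mul x y _ _ hx hy => exact S.mul_mem (hx trivial) (hy trivial))
  refine ⟨?_, ?_⟩
  · show Ideal.map (EtRam.inclOfComap W (algebraMap K₁ M)) (maximalIdeal _) = maximalIdeal W
    apply le_antisymm
    · exact ((local_hom_TFAE (EtRam.inclOfComap W (algebraMap K₁ M))).out 0 2).mp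
        (EtRam.isLocalHom_inclOfComap _ _)
    · intro x hx
      have hxnu : (x : M) ∈ W.nonunits := (W.coe_mem_nonunits_iff (a := x)).mpr hx
      obtain ⟨w', hw', hxw⟩ := hmax _ hxnu
      have : x = EtRam.inclOfComap W (algebraMap K₁ M) π₁ * ⟨w', hw'⟩ := Subtype.ext hxw
      rw [this]
      exact Ideal.mul_mem_right _ _ (Ideal.mem_map_of_mem _ hπ₁m)
  · letI algBW : Algebra B W :=
      (RingHom.codRestrict ((algebraMap L M).comp (algebraMap B L)) W hW.1).toAlgebra
    haveI hlocBW : IsLocalHom (algebraMap B W) := isLocalHom_of_dominates B _ _ hW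
    letI algk : Algebra (ResidueField (W.comap (algebraMap K₁ M))) (ResidueField W) :=
      (ResidueField.map (EtRam.inclOfComap W (algebraMap K₁ M))).toAlgebra
    show Algebra.IsGeometricallyReduced (ResidueField (W.comap (algebraMap K₁ M))) (ResidueField W)
    let ψW : (W.comap (algebraMap K₁ M)) ⊗[A] B →+* W := ψ.codRestrict W.toSubring hψW
    have hψWmul : ∀ (v : W.comap (algebraMap K₁ M)) (b : B),
        ψW (v ⊗ₜ[A] b) = EtRam.inclOfComap W (algebraMap K₁ M) v * algebraMap B W b :=
      fun v b => Subtype.ext (hψ v b)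
    have halgk : ∀ v, algebraMap (ResidueField (W.comap (algebraMap K₁ M))) (ResidueField W)
        (residue _ v) = residue W (EtRam.inclOfComap W (algebraMap K₁ M) v) := fun v => rfl
    apply geomRed_of_gen (kA := ResidueField A) (kB := ResidueField B)
    · intro a
      obtain ⟨a, rfl⟩ := residue_surjective a
      rw [ResidueField.algebraMap_residue, ResidueField.algebraMap_residue,
        ResidueField.algebraMap_residue, halgk]
      congr 1
      exact Subtype.ext (key a).symm
    · intro S hS1 hS2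
      have hres : ∀ c, residue W (ψW c) ∈ S := by
        intro c
        induction c using TensorProduct.induction_on with
        | zero => rw [map_zero, map_zero]; exact S.zero_mem
        | tmul v b =>
          rw [hψWmul, map_mul]
          exact S.mul_mem (hS1 (residue _ v)) (hS2 (residue _ b))
        | add x y hx hy => rw [map_add, map_add]; exact S.add_mem hx hy
      rw [eq_top_iff]
      intro wbar _
      obtain ⟨w, rfl⟩ := residue_surjective wbar
      obtain ⟨c, s, hs, hw⟩ := hfrac (w : M) w.2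
      have hsu : IsUnit (ψW s) := by
        by_contra hns
        exact hs ((W.coe_mem_nonunits_iff (a := ψW s)).mpr hns)
      have hs0 : ψ s ≠ 0 := (TensG.not_nonunits hs).1
      have hmul : w * ψW s = ψW c := by
        apply Subtype.ext
        show (w : M) * ψ s = ψ c
        rw [hw, div_mul_cancel₀ _ hs0]
      have hres' : residue W w * residue W (ψW s) = residue W (ψW c) := by rw [← map_mul, hmul]
      have hsres0 : residue W (ψW s) ≠ 0 := (residue_ne_zero_iff_isUnit _).mpr hsu
      have hw' : residue W w = residue W (ψW c) * (residue W (ψW s))⁻¹ := by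
        rw [← hres', mul_assoc, mul_inv_cancel₀ hsres0, mul_one]
      rw [hw']
      exact S.mul_mem (hres c) (S.inv_mem (hres s))

end Main

end Groth.Agent.Lib.Helper26.Sol1983
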