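import Mathlib
import Groth.Prelude.Def_EtRam
import Groth.Agent.Lib.Helper26.TameSub
import Groth.Agent.Lib.Helper26.SolDesc
import Groth.Agent.Lib.Helper26.ValFin
import Groth.Agent.Lib.Helper26.TensG
import Groth.Agent.Lib.Helper26.UnrBC
import Groth.Agent.Lib.Helper26.Sol1983

set_option autoImplicit false
set_option linter.unusedVariables false
set_option linter.style.haveILetI false
set_option linter.unusedSectionVars false
set_option linter.unusedSimpArgs false

universe u

namespace Groth.Agent.Lib.Helper26.Sol1982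

open IsLocalRing TensorProduct Polynomial Groth.Agent.Lib.Helper26.TameSub

section P1

/-- the ramification index of an extension of DVRs via uniformizers -/
theorem ramIdx_spec (A B : Type u) [CommRing A] [IsDomain A] [IsDiscreteValuationRing A]
    [CommRing B] [IsDomain B] [IsDiscreteValuationRing B] [Algebra A B] [IsLocalHom (algebraMap A B)]
    (hinj : Function.Injective (algebraMap A B)) (π : A) (hπ : Irreducible π) (πB : B)
    (hπB : Irreducible πB) :
    Ideal.ramificationIdx' (maximalIdeal A) (maximalIdeal B) ≠ 0 ∧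
    ∃ u : Bˣ, algebraMap A B π =
      u * πB ^ (Ideal.ramificationIdx' (maximalIdeal A) (maximalIdeal B)) := by
  have h0 : algebraMap A B π ≠ 0 := fun h => hπ.ne_zero (hinj (h.trans (map_zero _).symm))
  obtain ⟨n, u, hu⟩ := IsDiscreteValuationRing.eq_unit_mul_pow_irreducible h0 hπB
  have hmA : maximalIdeal A = Ideal.span {π} :=
    (IsDiscreteValuationRing.irreducible_iff_uniformizer π).mp hπ
  have hmB : maximalIdeal B = Ideal.span {πB} :=
    (IsDiscreteValuationRing.irreducible_iff_uniformizer πB).mp hπB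
  have hmap : Ideal.map (algebraMap A B) (maximalIdeal A) = (maximalIdeal B) ^ n := by
    rw [hmA, Ideal.map_span, Set.image_singleton, hmB, Ideal.span_singleton_pow, hu]
    exact Ideal.span_singleton_eq_span_singleton.mpr
      ⟨u⁻¹, by rw [mul_comm, ← mul_assoc, Units.inv_mul, one_mul]⟩
  have hn : n ≠ 0 := by
    rintro rfl
    rw [pow_zero, mul_one] at hu
    have : IsUnit (algebraMap A B π) := hu ▸ u.isUnit
    exact hπ.not_isUnit (isUnit_of_map_unit (algebraMap A B) π this)
  have hidx : Ideal.ramificationIdx' (maximalIdeal A) (maximalIdeal B) = n := by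
    apply Ideal.ramificationIdx'_spec
    · rw [hmap]
    · rw [hmap, hmB, Ideal.span_singleton_pow, Ideal.span_singleton_pow,
        Ideal.span_singleton_le_span_singleton]
      intro hdvd
      rw [pow_succ] at hdvd
      obtain ⟨c, hc⟩ := hdvd
      have h1 : πB ^ n * 1 = πB ^ n * (πB * c) := by rw [mul_one, ← mul_assoc]; exact hc
      have h2 := mul_left_cancel₀ (pow_ne_zero n hπB.ne_zero) h1
      exact hπB.not_isUnit (IsUnit.of_mul_eq_one c h2.symm)
  rw [hidx]
  exact ⟨hn, u, hu⟩

end P1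

section P3

/-- adjoining a root of a separable monic polynomial to a reduced ring gives a reduced ring -/
theorem isReduced_adjoinRoot {R : Type u} [CommRing R] [IsReduced R] (g : R[X]) (hg : g.Monic)
    (hsep : g.Separable) : IsReduced (AdjoinRoot g) := by
  constructor
  rintro x ⟨n, hn⟩
  by_cases hn0 : n = 0
  · subst hn0
    rw [pow_zero] at hn
    calc x = x * 1 := (mul_one x).symm
      _ = 0 := by rw [hn, mul_zero]
  obtain ⟨h, rfl⟩ := AdjoinRoot.mk_surjective x
  have hx : AdjoinRoot.mk g h = AdjoinRoot.mk g (h %ₘ g) := by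
    rw [AdjoinRoot.mk_eq_mk]
    refine ⟨h /ₘ g, ?_⟩
    have := Polynomial.modByMonic_add_div h g
    linear_combination -this
  rw [hx] at hn ⊢
  set r := h %ₘ g with hr
  rw [← map_pow, AdjoinRoot.mk_eq_zero] at hn
  have hr0 : r = 0 := by
    by_cases htriv : Nontrivial R
    swap
    · haveI : Subsingleton R := not_nontrivial_iff_subsingleton.mp htriv
      exact Subsingleton.elim _ _
    have hdeg : r.degree < g.degree := Polynomial.degree_modByMonic_lt h hg
    ext i
    rw [Polynomial.coeff_zero]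
    have hnil : r.coeff i ∈ nilradical R := by
      rw [nilradical_eq_sInf, Ideal.mem_sInf]
      intro q hq
      haveI : q.IsPrime := hq
      have hker : RingHom.ker (algebraMap R q.ResidueField) = q := Ideal.ker_algebraMap_residueField q
      have hdvd : g.map (algebraMap R q.ResidueField) ∣ (r.map (algebraMap R q.ResidueField)) ^ n := by
        rw [← Polynomial.map_pow]
        exact Polynomial.map_dvd _ hn
      have hsq : Squarefree (g.map (algebraMap R q.ResidueField)) := (hsep.map).squarefree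
      have hdvd' : g.map (algebraMap R q.ResidueField) ∣ r.map (algebraMap R q.ResidueField) :=
        (hsq.isRadical) n _ hdvd
      have hdeg' : (r.map (algebraMap R q.ResidueField)).degree <
          (g.map (algebraMap R q.ResidueField)).degree := by
        rw [hg.degree_map]
        exact lt_of_le_of_lt (Polynomial.degree_map_le) hdeg
      have hzero := Polynomial.eq_zero_of_dvd_of_degree_lt hdvd' hdeg'
      have : (r.map (algebraMap R q.ResidueField)).coeff i = 0 := by rw [hzero, coeff_zero]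
      rw [Polynomial.coeff_map] at this
      rw [← hker]
      exact this
    rw [nilradical_eq_zero] at hnil
    exact hnil
  rw [hr0, map_zero]

/-- VNR for `AdjoinRoot` of a separable monic polynomial over a reduced integral algebra over a field -/
theorem vnr_adjoinRoot {k R : Type u} [Field k] [CommRing R] [Algebra k R] [IsReduced R]
    [Algebra.IsIntegral k R] (g : R[X]) (hg : g.Monic) (hsep : g.Separable) :
    ∀ x : AdjoinRoot g, ∃ z, x = x * x * z := by
  haveI := isReduced_adjoinRoot g hg hsep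
  haveI : Module.Finite R (AdjoinRoot g) := hg.finite_adjoinRoot
  haveI : Algebra.IsIntegral R (AdjoinRoot g) := inferInstance
  haveI : Algebra.IsIntegral k (AdjoinRoot g) := Algebra.IsIntegral.trans (R := k) R
  intro x
  exact TensG.exists_vnr (k := k) x (Algebra.IsIntegral.isIntegral x)

end P3

section P2

theorem geomRed_of_charZero {k E : Type u} [Field k] [Field E] [Algebra k E] [CharZero k] :
    Algebra.IsGeometricallyReduced k E := by
  rw [Algebra.isGeometricallyReduced_field_iff]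
  have h1 : IsReduced (E ⊗[k] AlgebraicClosure k) := by
    apply IsReduced.tensorProduct_of_flat_of_forall_fg
    intro B hB
    obtain ⟨s, hs⟩ := hB
    have halg : ∀ x ∈ (s : Set (AlgebraicClosure k)), IsAlgebraic k x := fun x _ =>
      Algebra.IsAlgebraic.isAlgebraic x
    have hB' : B = (IntermediateField.adjoin k (s : Set (AlgebraicClosure k))).toSubalgebra := by
      rw [IntermediateField.adjoin_toSubalgebra_of_isAlgebraic halg, hs]
    subst hB'
    haveI : FiniteDimensional k (IntermediateField.adjoin k (s : Set (AlgebraicClosure k))) :=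
      IntermediateField.finiteDimensional_adjoin (fun x _ => Algebra.IsIntegral.isIntegral x)
    haveI : Algebra.IsSeparable k (IntermediateField.adjoin k (s : Set (AlgebraicClosure k))) :=
      inferInstance
    haveI : Algebra.FormallyUnramified k (IntermediateField.adjoin k (s : Set (AlgebraicClosure k))) :=
      Algebra.FormallyUnramified.of_isSeparable _ _
    haveI : Algebra.FormallyUnramified E
        (E ⊗[k] (IntermediateField.adjoin k (s : Set (AlgebraicClosure k)))) := inferInstance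
    show IsReduced (E ⊗[k] (IntermediateField.adjoin k (s : Set (AlgebraicClosure k))))
    exact Algebra.FormallyUnramified.isReduced_of_field E
      (E ⊗[k] (IntermediateField.adjoin k (s : Set (AlgebraicClosure k))))
  exact isReduced_of_injective (Algebra.TensorProduct.comm k (AlgebraicClosure k) E)
    (Algebra.TensorProduct.comm k (AlgebraicClosure k) E).injective

end P2

section P4

theorem vnr_adjoinRoot_tensor {kA kB E : Type u} [Field kA] [Field kB] [Field E] [Algebra kA kB]
    [Algebra kA E] [Algebra.IsGeometricallyReduced kA kB] [Algebra.IsAlgebraic kA E]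
    (e : ℕ) (he : (e : kA) ≠ 0) (ε : (kB ⊗[kA] E)ˣ) :
    ∀ x : AdjoinRoot (X ^ e - C (ε : kB ⊗[kA] E)), ∃ z, x = x * x * z := by
  haveI h1 : IsReduced (E ⊗[kA] kB) := inferInstance
  haveI h2 : IsReduced (kB ⊗[kA] E) :=
    isReduced_of_injective (Algebra.TensorProduct.comm kA kB E) (Algebra.TensorProduct.comm kA kB E).injective
  haveI : Algebra.IsIntegral kB (kB ⊗[kA] E) := inferInstance
  have he0 : e ≠ 0 := fun h => he (by rw [h]; simp)
  apply vnr_adjoinRoot (k := kB)
  · exact Polynomial.monic_X_pow_sub_C _ he0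
  · apply Polynomial.separable_X_pow_sub_C_unit ε
    have : ((e : ℕ) : kB ⊗[kA] E) = algebraMap kA (kB ⊗[kA] E) (e : kA) := by
      rw [map_natCast]
    rw [this]
    exact (IsUnit.mk0 _ he).map _

end P4

section P5

variable {kA kB k₁ kW : Type u} [Field kA] [Field kB] [Field k₁] [Field kW]
  [Algebra kA kB] [Algebra kA k₁] [Algebra k₁ kW] [Algebra kB kW]

theorem geomRed_of_gen_root [Algebra.IsGeometricallyReduced kA kB] [Algebra.IsAlgebraic kA k₁]
    (hcompat : ∀ a : kA, algebraMap kB kW (algebraMap kA kB a) =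
      algebraMap k₁ kW (algebraMap kA k₁ a))
    (e : ℕ) (he : (e : kA) ≠ 0) (y : kW) (a : k₁) (b : kB) (ha : a ≠ 0) (hb : b ≠ 0)
    (hy : y ^ e * algebraMap kB kW b = algebraMap k₁ kW a)
    (hgen : ∀ S : Subfield kW, (∀ x : k₁, algebraMap k₁ kW x ∈ S) →
      (∀ x : kB, algebraMap kB kW x ∈ S) → y ∈ S → S = ⊤) :
    Algebra.IsGeometricallyReduced k₁ kW := by
  rw [Algebra.isGeometricallyReduced_field_iff]
  haveI : IsScalarTower kA k₁ (AlgebraicClosure k₁) := inferInstance
  haveI : Algebra.IsAlgebraic kA (AlgebraicClosure k₁) := Algebra.IsAlgebraic.trans kA k₁ _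
  have haΩ : algebraMap k₁ (AlgebraicClosure k₁) a ≠ 0 := by
    rw [Ne, map_eq_zero]; exact ha
  let ε₀ : (kB ⊗[kA] (AlgebraicClosure k₁))ˣ :=
    { val := b⁻¹ ⊗ₜ[kA] (algebraMap k₁ (AlgebraicClosure k₁) a)
      inv := b ⊗ₜ[kA] (algebraMap k₁ (AlgebraicClosure k₁) a)⁻¹
      val_inv := by
        rw [Algebra.TensorProduct.tmul_mul_tmul, inv_mul_cancel₀ hb, mul_inv_cancel₀ haΩ]; rfl
      inv_val := by
        rw [Algebra.TensorProduct.tmul_mul_tmul, mul_inv_cancel₀ hb, inv_mul_cancel₀ haΩ]; rfl }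
  have hvnr := vnr_adjoinRoot_tensor (kA := kA) (kB := kB) (E := AlgebraicClosure k₁) e he ε₀
  let f₁ : (AlgebraicClosure k₁) →ₐ[kA] (AlgebraicClosure k₁) ⊗[k₁] kW :=
    { toRingHom := (Algebra.TensorProduct.includeLeft :
        (AlgebraicClosure k₁) →ₐ[k₁] (AlgebraicClosure k₁) ⊗[k₁] kW).toRingHom
      commutes' := fun a => by
        rw [Algebra.TensorProduct.algebraMap_apply]; rfl }
  let f₂ : kB →ₐ[kA] (AlgebraicClosure k₁) ⊗[k₁] kW :=
    { toRingHom := (Algebra.TensorProduct.includeRight :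
        kW →ₐ[k₁] (AlgebraicClosure k₁) ⊗[k₁] kW).toRingHom.comp (algebraMap kB kW)
      commutes' := fun a => by
        rw [Algebra.TensorProduct.algebraMap_apply]
        show (1 : AlgebraicClosure k₁) ⊗ₜ[k₁] (algebraMap kB kW (algebraMap kA kB a)) =
          (algebraMap kA (AlgebraicClosure k₁) a) ⊗ₜ[k₁] (1 : kW)
        rw [IsScalarTower.algebraMap_apply kA k₁ (AlgebraicClosure k₁), hcompat,
          Algebra.algebraMap_eq_smul_one (algebraMap kA k₁ a),
          Algebra.algebraMap_eq_smul_one (A := AlgebraicClosure k₁) (algebraMap kA k₁ a),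
          TensorProduct.smul_tmul] }
  let Φ : kB ⊗[kA] (AlgebraicClosure k₁) →ₐ[kA] (AlgebraicClosure k₁) ⊗[k₁] kW :=
    Algebra.TensorProduct.lift f₂ f₁ (fun _ _ => Commute.all _ _)
  have hΦ : ∀ b ω, Φ (b ⊗ₜ[kA] ω) = ω ⊗ₜ[k₁] (algebraMap kB kW b) := by
    intro b ω
    show Algebra.TensorProduct.lift f₂ f₁ _ (b ⊗ₜ[kA] ω) = _
    rw [Algebra.TensorProduct.lift_tmul]
    show ((1 : AlgebraicClosure k₁) ⊗ₜ[k₁] (algebraMap kB kW b)) * (ω ⊗ₜ[k₁] (1 : kW)) = _
    rw [Algebra.TensorProduct.tmul_mul_tmul, mul_one, one_mul]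
  have hmove : ∀ (x : k₁) (w : kW), (algebraMap k₁ (AlgebraicClosure k₁) x) ⊗ₜ[k₁] w =
      (1 : AlgebraicClosure k₁) ⊗ₜ[k₁] (algebraMap k₁ kW x * w) := by
    intro x w
    rw [Algebra.algebraMap_eq_smul_one (A := AlgebraicClosure k₁) x, TensorProduct.smul_tmul,
      Algebra.smul_def]
  have hb' : algebraMap kB kW b ≠ 0 := by rw [Ne, map_eq_zero]; exact hb
  have hye : y ^ e = algebraMap k₁ kW a * (algebraMap kB kW b)⁻¹ := by
    rw [← hy, mul_assoc, mul_inv_cancel₀ hb', mul_one]
  have hroot : (X ^ e - C (ε₀ : kB ⊗[kA] (AlgebraicClosure k₁))).eval₂ Φ.toRingHom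
      ((1 : AlgebraicClosure k₁) ⊗ₜ[k₁] y) = 0 := by
    rw [eval₂_sub, eval₂_pow, eval₂_X, eval₂_C]
    show ((1 : AlgebraicClosure k₁) ⊗ₜ[k₁] y) ^ e -
      Φ (b⁻¹ ⊗ₜ[kA] (algebraMap k₁ (AlgebraicClosure k₁) a)) = 0
    rw [hΦ, hmove, Algebra.TensorProduct.tmul_pow, one_pow, hye, map_inv₀, sub_self]
  let Φ' : AdjoinRoot (X ^ e - C (ε₀ : kB ⊗[kA] (AlgebraicClosure k₁))) →+*
      (AlgebraicClosure k₁) ⊗[k₁] kW := AdjoinRoot.lift Φ.toRingHom _ hroot
  have hΦ'of : ∀ r, Φ' (AdjoinRoot.of _ r) = Φ r := fun r => AdjoinRoot.lift_of hroot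
  have hΦ'root : Φ' (AdjoinRoot.root _) = (1 : AlgebraicClosure k₁) ⊗ₜ[k₁] y :=
    AdjoinRoot.lift_root hroot
  let S : Subfield kW :=
    { carrier := {w | ∃ r, Φ' r = (1 : AlgebraicClosure k₁) ⊗ₜ[k₁] w}
      mul_mem' := by
        rintro a b ⟨r, hr⟩ ⟨s, hs⟩
        exact ⟨r * s, by rw [map_mul, hr, hs, Algebra.TensorProduct.tmul_mul_tmul, mul_one]⟩
      one_mem' := ⟨1, by rw [map_one]; rfl⟩
      add_mem' := by
        rintro a b ⟨r, hr⟩ ⟨s, hs⟩
        exact ⟨r + s, by rw [map_add, hr, hs, TensorProduct.tmul_add]⟩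
      zero_mem' := ⟨0, by rw [map_zero, TensorProduct.tmul_zero]⟩
      neg_mem' := by
        rintro a ⟨r, hr⟩
        exact ⟨-r, by rw [map_neg, hr, TensorProduct.tmul_neg]⟩
      inv_mem' := by
        rintro a ⟨r, hr⟩
        by_cases ha : a = 0
        · exact ⟨0, by rw [ha, inv_zero, map_zero, TensorProduct.tmul_zero]⟩
        obtain ⟨z, hz⟩ := hvnr r
        refine ⟨z, ?_⟩
        have hu : Φ' r = Φ' r * Φ' r * Φ' z := by rw [← map_mul, ← map_mul, ← hz]
        have hvu : ((1 : AlgebraicClosure k₁) ⊗ₜ[k₁] a⁻¹) * Φ' r = 1 := by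
          rw [hr, Algebra.TensorProduct.tmul_mul_tmul, mul_one, inv_mul_cancel₀ ha]; rfl
        calc Φ' z = (((1 : AlgebraicClosure k₁) ⊗ₜ[k₁] a⁻¹) * Φ' r) *
              (((1 : AlgebraicClosure k₁) ⊗ₜ[k₁] a⁻¹) * Φ' r) * Φ' z := by rw [hvu, one_mul, one_mul]
          _ = ((1 : AlgebraicClosure k₁) ⊗ₜ[k₁] a⁻¹) * ((1 : AlgebraicClosure k₁) ⊗ₜ[k₁] a⁻¹) *
              (Φ' r * Φ' r * Φ' z) := by ring
          _ = ((1 : AlgebraicClosure k₁) ⊗ₜ[k₁] a⁻¹) * (((1 : AlgebraicClosure k₁) ⊗ₜ[k₁] a⁻¹) * Φ' r) := by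
              rw [← hu]; ring
          _ = (1 : AlgebraicClosure k₁) ⊗ₜ[k₁] a⁻¹ := by rw [hvu, mul_one] }
  have hS : S = ⊤ := hgen S
    (fun x => ⟨AdjoinRoot.of _ ((1 : kB) ⊗ₜ[kA] (algebraMap k₁ (AlgebraicClosure k₁) x)), by
      rw [hΦ'of, hΦ, map_one, hmove, mul_one]⟩)
    (fun x => ⟨AdjoinRoot.of _ (x ⊗ₜ[kA] (1 : AlgebraicClosure k₁)), by rw [hΦ'of, hΦ]⟩)
    ⟨AdjoinRoot.root _, hΦ'root⟩
  have hsurj : Function.Surjective Φ' := by
    intro t
    induction t using TensorProduct.induction_on with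
    | zero => exact ⟨0, map_zero _⟩
    | tmul ω w =>
      have hw : w ∈ S := by rw [hS]; trivial
      obtain ⟨r, hr⟩ := hw
      refine ⟨AdjoinRoot.of _ ((1 : kB) ⊗ₜ[kA] ω) * r, ?_⟩
      rw [map_mul, hΦ'of, hΦ, hr, map_one, Algebra.TensorProduct.tmul_mul_tmul, mul_one, one_mul]
    | add a b ha hb =>
      obtain ⟨a', rfl⟩ := ha
      obtain ⟨b', rfl⟩ := hb
      exact ⟨a' + b', map_add _ _ _⟩
  exact TensG.isReduced_of_surjective_of_vnr Φ' hsurj hvnr

end P5

section H

variable {F : Type u} [Field F]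

theorem frac_of_gen {C' : Type u} [CommRing C'] (ψ : C' →+* F)
    (hgen : ∀ S : Subfield F, (∀ c, ψ c ∈ S) → S = ⊤) :
    ∀ w : F, ∃ c c', ψ c' ≠ 0 ∧ w = ψ c / ψ c' := by
  let S : Subfield F :=
    { carrier := {w | ∃ c c', ψ c' ≠ 0 ∧ w = ψ c / ψ c'}
      mul_mem' := by
        rintro _ _ ⟨c1, c1', h1, rfl⟩ ⟨c2, c2', h2, rfl⟩
        exact ⟨c1 * c2, c1' * c2', by rw [map_mul]; exact mul_ne_zero h1 h2,
          by rw [div_mul_div_comm, map_mul, map_mul]⟩
      one_mem' := ⟨1, 1, by rw [map_one]; exact one_ne_zero, by rw [map_one, div_one]⟩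
      add_mem' := by
        rintro _ _ ⟨c1, c1', h1, rfl⟩ ⟨c2, c2', h2, rfl⟩
        exact ⟨c1 * c2' + c1' * c2, c1' * c2', by rw [map_mul]; exact mul_ne_zero h1 h2,
          by rw [div_add_div _ _ h1 h2, map_add, map_mul, map_mul, map_mul]⟩
      zero_mem' := ⟨0, 1, by rw [map_one]; exact one_ne_zero, by rw [map_zero, zero_div]⟩
      neg_mem' := by
        rintro _ ⟨c1, c1', h1, rfl⟩
        exact ⟨-c1, c1', h1, by rw [map_neg, neg_div]⟩
      inv_mem' := by
        rintro _ ⟨c1, c1', h1, rfl⟩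
        by_cases hc : ψ c1 = 0
        · exact ⟨0, 1, by rw [map_one]; exact one_ne_zero, by rw [hc, zero_div, inv_zero, map_zero, zero_div]⟩
        · exact ⟨c1', c1, hc, by rw [inv_div]⟩ }
  have hS : S = ⊤ := hgen S
    (fun c => ⟨c, 1, by rw [map_one]; exact one_ne_zero, by rw [map_one, div_one]⟩)
  intro w
  have : w ∈ S := by rw [hS]; trivial
  exact this

/-- Lemma H: a subring `C` of a DVR `W ⊂ F` generating `F`, such that `C/(t)` is a quotient of a
von Neumann regular ring: then `t` generates the maximal ideal of `W` and `W` is a localization of `C`. -/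
theorem lemmaH (W : ValuationSubring F) [IsDiscreteValuationRing W] (C : Subring F)
    (hCW : ∀ c : C, (c : F) ∈ W) (t : C) (htm : (t : F) ∈ W.nonunits) (ht0 : (t : F) ≠ 0)
    {R : Type u} [CommRing R] (hR : ∀ x : R, ∃ z, x = x * x * z)
    (σ : R →+* C ⧸ Ideal.span {t}) (hσ : Function.Surjective σ)
    (hgen : ∀ S : Subfield F, (∀ c : C, (c : F) ∈ S) → S = ⊤) :
    (∀ w ∈ W.nonunits, ∃ w' ∈ W, w = (t : F) * w') ∧
    (∀ w ∈ W, ∃ c s : C, (s : F) ∉ W.nonunits ∧ w = (c : F) / (s : F)) := by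
  have hvnr : ∀ y : C, ∃ z y', y * (1 - y * z) = t * y' := by
    intro y
    obtain ⟨r, hr⟩ := hσ (Ideal.Quotient.mk _ y)
    obtain ⟨z₀, hz₀⟩ := hR r
    obtain ⟨z, hz⟩ := Ideal.Quotient.mk_surjective (σ z₀)
    have h1 : Ideal.Quotient.mk (Ideal.span {t}) (y * (1 - y * z)) = 0 := by
      rw [map_mul, map_sub, map_one, map_mul, hz, ← hr, mul_sub, mul_one, ← mul_assoc, ← map_mul,
        ← map_mul, ← hz₀, sub_self]
    rw [Ideal.Quotient.eq_zero_iff_mem, Ideal.mem_span_singleton'] at h1
    obtain ⟨y', hy'⟩ := h1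
    exact ⟨z, y', by rw [← hy', mul_comm]⟩
  have hfrac := frac_of_gen C.subtype (fun S hS => hgen S hS)
  exact ⟨TensG.maximalIdeal_generated C.subtype t W hCW htm ht0 hvnr hfrac,
    TensG.frac_unit_denominator C.subtype t W hCW htm ht0 hvnr hfrac⟩

end H

section Main

variable (A B K L : Type u) [CommRing A] [IsDomain A] [IsDiscreteValuationRing A]
    [CommRing B] [IsDomain B] [IsDiscreteValuationRing B] [Algebra A B] [IsLocalHom (algebraMap A B)]
    [Field K] [Field L] [Algebra A K] [IsFractionRing A K] [Algebra B L] [IsFractionRing B L]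
    [Algebra K L] [Algebra A L] [IsScalarTower A K L] [IsScalarTower A B L]
    (K₁ : Type u) [Field K₁] [Algebra K K₁] [FiniteDimensional K K₁]

theorem core (hinj : Function.Injective (algebraMap A B))
    (he : ((Ideal.ramificationIdx' (maximalIdeal A) (maximalIdeal B) : ℕ) : ResidueField A) ≠ 0)
    [Algebra.IsGeometricallyReduced (ResidueField A) (ResidueField B)]
    (M : Type u) [Field M] [Algebra K M] [Algebra L M] [Algebra K₁ M] [IsScalarTower K L M]
    [IsScalarTower K K₁ M]
    (hgen : Algebra.adjoin L (Set.range (algebraMap K₁ M)) = ⊤) (W : ValuationSubring M)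
    (hW : EtRam.Dominates B ((algebraMap L M).comp (algebraMap B L)) W)
    (hA : ∀ a : A, (algebraMap K K₁) (algebraMap A K a) ∈ W.comap (algebraMap K₁ M))
    (hdvd : letI : Algebra A (W.comap (algebraMap K₁ M)) :=
        (RingHom.codRestrict ((algebraMap K K₁).comp (algebraMap A K))
          (W.comap (algebraMap K₁ M)) hA).toAlgebra
      Ideal.ramificationIdx' (maximalIdeal A) (maximalIdeal B) ∣
        Ideal.ramificationIdx' (maximalIdeal A) (maximalIdeal (W.comap (algebraMap K₁ M)))) :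
    (letI : Algebra (W.comap (algebraMap K₁ M)) W := (EtRam.inclOfComap W (algebraMap K₁ M)).toAlgebra
     EtRam.IsWeaklyUnramified (W.comap (algebraMap K₁ M)) W) ∧
      @Algebra.IsGeometricallyReduced (ResidueField (W.comap (algebraMap K₁ M))) (ResidueField W) _ _
        (ResidueField.map (EtRam.inclOfComap W (algebraMap K₁ M))).toAlgebra := by
  have key : ∀ a : A, algebraMap K₁ M (((algebraMap K K₁).comp (algebraMap A K)) a) =
      ((algebraMap L M).comp (algebraMap B L)) (algebraMap A B a) := by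
    intro a
    show algebraMap K₁ M (algebraMap K K₁ (algebraMap A K a)) =
      algebraMap L M (algebraMap B L (algebraMap A B a))
    rw [← IsScalarTower.algebraMap_apply A B L, IsScalarTower.algebraMap_apply A K L,
      ← IsScalarTower.algebraMap_apply K L M, ← IsScalarTower.algebraMap_apply K K₁ M]
  have hA₁ : EtRam.Dominates A ((algebraMap K K₁).comp (algebraMap A K))
      (W.comap (algebraMap K₁ M)) := by
    refine ⟨fun a => ?_, fun a ha => ?_⟩
    · rw [ValuationSubring.mem_comap, key]; exact hW.1 _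
    · have haB : algebraMap A B a ∈ maximalIdeal B := by
        have := ((local_hom_TFAE (algebraMap A B)).out 0 3).mp ‹_›
        exact this ha
      have h1 := hW.2 _ haB
      rw [← key] at h1
      exact UnrBC.nonunits_comap W (algebraMap K₁ M) _ h1
  haveI hA₁dvr : IsDiscreteValuationRing (W.comap (algebraMap K₁ M)) :=
    ValFin.isDVR_of_dominates_finite _ hA₁
  letI algAA₁ : Algebra A (W.comap (algebraMap K₁ M)) :=
    (RingHom.codRestrict ((algebraMap K K₁).comp (algebraMap A K)) (W.comap (algebraMap K₁ M))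
      hA).toAlgebra
  haveI hlocAA₁ : IsLocalHom (algebraMap A (W.comap (algebraMap K₁ M))) :=
    isLocalHom_of_dominates A _ _ hA₁
  haveI hfinres : Module.Finite (ResidueField A) (ResidueField (W.comap (algebraMap K₁ M))) :=
    ValFin.finite_residue _ hA₁
  haveI : FiniteDimensional L M := Sol1983.finite_L_M K L K₁ M hgen
  haveI hWdvr : IsDiscreteValuationRing W := ValFin.isDVR_of_dominates_finite W hW
  haveI : Algebra.IsAlgebraic (ResidueField A) (ResidueField (W.comap (algebraMap K₁ M))) :=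
    Algebra.IsAlgebraic.of_finite _ _
  have hinjA₁ : Function.Injective (algebraMap A (W.comap (algebraMap K₁ M))) := by
    intro a b hab
    have h1 : ((algebraMap K K₁).comp (algebraMap A K)) a = ((algebraMap K K₁).comp (algebraMap A K)) b :=
      congrArg Subtype.val hab
    exact (IsFractionRing.injective A K) ((algebraMap K K₁).injective h1)
  -- uniformizers
  obtain ⟨π, hπ⟩ := IsDiscreteValuationRing.exists_irreducible A
  obtain ⟨πB, hπB⟩ := IsDiscreteValuationRing.exists_irreducible B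
  obtain ⟨π₁, hπ₁⟩ := IsDiscreteValuationRing.exists_irreducible (W.comap (algebraMap K₁ M))
  obtain ⟨he0, u, hu⟩ := ramIdx_spec A B hinj π hπ πB hπB
  obtain ⟨he₁0, u₁, hu₁⟩ := ramIdx_spec A (W.comap (algebraMap K₁ M)) hinjA₁ π hπ π₁ hπ₁
  obtain ⟨d, hd⟩ := hdvd
  have hd0 : d ≠ 0 := by
    rintro rfl
    rw [mul_zero] at hd
    exact he₁0 hd
  rw [hd] at hu₁
  generalize Ideal.ramificationIdx' (maximalIdeal A) (maximalIdeal B) = e at he he0 hu hu₁ hd
  clear hd he₁0
  have hZ : maximalIdeal (W.comap (algebraMap K₁ M)) = Ideal.span {π₁} :=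
    (IsDiscreteValuationRing.irreducible_iff_uniformizer π₁).mp hπ₁
  have hmB : maximalIdeal B = Ideal.span {πB} :=
    (IsDiscreteValuationRing.irreducible_iff_uniformizer πB).mp hπB
  have hπ₁m : π₁ ∈ maximalIdeal (W.comap (algebraMap K₁ M)) := hπ₁.not_isUnit
  have ht0 : algebraMap K₁ M (π₁ : K₁) ≠ 0 := by
    intro h0
    have h1 : (π₁ : K₁) = 0 := (map_eq_zero _).mp h0
    exact hπ₁.ne_zero (Subtype.ext h1)
  have htW : algebraMap K₁ M (π₁ : K₁) ∈ W.nonunits := by
    have hle : maximalIdeal (W.comap (algebraMap K₁ M)) ≤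
        (maximalIdeal W).comap (EtRam.inclOfComap W (algebraMap K₁ M)) :=
      ((local_hom_TFAE (EtRam.inclOfComap W (algebraMap K₁ M))).out 0 3).mp
        (EtRam.isLocalHom_inclOfComap _ _)
    have h1 := hle hπ₁m
    exact (W.coe_mem_nonunits_iff (a := EtRam.inclOfComap W (algebraMap K₁ M) π₁)).mpr h1
  -- the maps
  let j₁ : (W.comap (algebraMap K₁ M)) →+* M := (algebraMap K₁ M).comp (W.comap (algebraMap K₁ M)).subtype
  let jB : B →+* M := (algebraMap L M).comp (algebraMap B L)
  have hj₁ : ∀ v : W.comap (algebraMap K₁ M), j₁ v = algebraMap K₁ M (v : K₁) := fun v => rfl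
  have hcompat : ∀ a : A, j₁ (algebraMap A (W.comap (algebraMap K₁ M)) a) = jB (algebraMap A B a) :=
    fun a => key a
  have hjBinj : Function.Injective jB :=
    (algebraMap L M).injective.comp (IsFractionRing.injective B L)
  -- the element y
  let y : M := jB πB / (j₁ π₁) ^ d
  have ht0' : j₁ π₁ ≠ 0 := ht0
  have hy1 : jB πB = y * (j₁ π₁) ^ d := by
    show jB πB = jB πB / (j₁ π₁) ^ d * (j₁ π₁) ^ d
    rw [div_mul_cancel₀ _ (pow_ne_zero d ht0')]
  have hjBu0 : jB (u : B) ≠ 0 := fun h => u.ne_zero (hjBinj (h.trans (map_zero _).symm))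
  have hy2 : y ^ e * jB (u : B) = j₁ (u₁ : W.comap (algebraMap K₁ M)) := by
    have h1 : jB (algebraMap A B π) = jB u * (jB πB) ^ e := by rw [hu, map_mul, map_pow]
    have h2 : j₁ (algebraMap A (W.comap (algebraMap K₁ M)) π) = j₁ u₁ * (j₁ π₁) ^ (e * d) := by
      rw [hu₁, map_mul, map_pow]
    rw [hcompat, h1, hy1, mul_pow, ← pow_mul, mul_comm d e] at h2
    have h3 : (jB u * y ^ e) * (j₁ π₁) ^ (e * d) = j₁ u₁ * (j₁ π₁) ^ (e * d) := by
      rw [← h2]; ring
    have h4 := mul_right_cancel₀ (pow_ne_zero (e * d) ht0') h3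
    rw [← h4, mul_comm]
  have hjBuinv : jB ((u⁻¹ : Bˣ) : B) = (jB (u : B))⁻¹ := by
    have : jB ((u⁻¹ : Bˣ) : B) * jB (u : B) = 1 := by rw [← map_mul, Units.inv_mul, map_one]
    exact eq_inv_of_mul_eq_one_left this
  have hye : y ^ e = jB ((u⁻¹ : Bˣ) : B) * j₁ (u₁ : W.comap (algebraMap K₁ M)) := by
    rw [hjBuinv, ← hy2]
    field_simp
  have hyW : y ∈ W := by
    have hyeW : y ^ e ∈ W := by
      rw [hye]
      exact W.mul_mem _ _ (hW.1 _) (u₁ : W.comap (algebraMap K₁ M)).2
    have hint : IsIntegral W y := by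
      refine ⟨X ^ e - Polynomial.C (⟨y ^ e, hyeW⟩ : W), Polynomial.monic_X_pow_sub_C _ he0, ?_⟩
      rw [eval₂_sub, eval₂_pow, eval₂_X, eval₂_C]
      exact sub_self _
    exact mem_of_isIntegral_of_le M W (fun r => r.2) y hint
  -- the subring Cs
  let Cs : Subring M := Subring.closure (Set.range j₁ ∪ Set.range jB ∪ {y})
  have hC₁ : ∀ v, j₁ v ∈ Cs := fun v => Subring.subset_closure (Or.inl (Or.inl ⟨v, rfl⟩))
  have hCB : ∀ b, jB b ∈ Cs := fun b => Subring.subset_closure (Or.inl (Or.inr ⟨b, rfl⟩))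
  have hCy : y ∈ Cs := Subring.subset_closure (Or.inr rfl)
  have hCW : ∀ c : Cs, (c : M) ∈ W := by
    intro c
    have : Cs ≤ W.toSubring := by
      apply Subring.closure_le.mpr
      rintro x ((⟨v, rfl⟩ | ⟨b, rfl⟩) | rfl)
      · exact v.2
      · exact hW.1 b
      · exact hyW
    exact this c.2
  let t : Cs := ⟨j₁ π₁, hC₁ π₁⟩
  let yC : Cs := ⟨y, hCy⟩
  let i₁ : (W.comap (algebraMap K₁ M)) →+* Cs := j₁.codRestrict Cs hC₁
  let iB : B →+* Cs := jB.codRestrict Cs hCB
  have hiBπ : iB πB = yC * t ^ d := Subtype.ext hy1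
  have hyCe : yC ^ e = iB ((u⁻¹ : Bˣ) : B) * i₁ (u₁ : W.comap (algebraMap K₁ M)) := Subtype.ext hye
  -- the maps to the quotient
  let q₁ : ResidueField (W.comap (algebraMap K₁ M)) →+* Cs ⧸ Ideal.span {t} :=
    Ideal.Quotient.lift (maximalIdeal (W.comap (algebraMap K₁ M)))
      ((Ideal.Quotient.mk (Ideal.span {t})).comp i₁) (by
        intro v hv
        rw [hZ, Ideal.mem_span_singleton'] at hv
        obtain ⟨v', rfl⟩ := hv
        show Ideal.Quotient.mk (Ideal.span {t}) (i₁ (v' * π₁)) = 0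
        rw [Ideal.Quotient.eq_zero_iff_mem, map_mul]
        exact Ideal.mul_mem_left _ _ (Ideal.subset_span rfl))
  let qB : ResidueField B →+* Cs ⧸ Ideal.span {t} :=
    Ideal.Quotient.lift (maximalIdeal B)
      ((Ideal.Quotient.mk (Ideal.span {t})).comp iB) (by
        intro b hb
        rw [hmB, Ideal.mem_span_singleton'] at hb
        obtain ⟨b', rfl⟩ := hb
        show Ideal.Quotient.mk (Ideal.span {t}) (iB (b' * πB)) = 0
        rw [Ideal.Quotient.eq_zero_iff_mem, map_mul, hiBπ]
        obtain ⟨d', rfl⟩ := Nat.exists_eq_succ_of_ne_zero hd0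
        rw [pow_succ]
        refine Ideal.mul_mem_left _ _ (Ideal.mul_mem_left _ _ (Ideal.mul_mem_left _ _ (Ideal.subset_span rfl))))
  have hq₁ : ∀ v, q₁ (residue _ v) = Ideal.Quotient.mk (Ideal.span {t}) (i₁ v) := fun v => rfl
  have hqB : ∀ b, qB (residue _ b) = Ideal.Quotient.mk (Ideal.span {t}) (iB b) := fun b => rfl
  letI algQ : Algebra (ResidueField A) (Cs ⧸ Ideal.span {t}) :=
    (q₁.comp (algebraMap (ResidueField A) (ResidueField (W.comap (algebraMap K₁ M))))).toAlgebra
  let g₁ : ResidueField (W.comap (algebraMap K₁ M)) →ₐ[ResidueField A] Cs ⧸ Ideal.span {t} :=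
    { toRingHom := q₁
      commutes' := fun _ => rfl }
  let gB : ResidueField B →ₐ[ResidueField A] Cs ⧸ Ideal.span {t} :=
    { toRingHom := qB
      commutes' := fun r => by
        obtain ⟨a, rfl⟩ := residue_surjective r
        show qB (algebraMap (ResidueField A) (ResidueField B) (residue A a)) =
          q₁ (algebraMap (ResidueField A) (ResidueField (W.comap (algebraMap K₁ M))) (residue A a))
        rw [ResidueField.algebraMap_residue, ResidueField.algebraMap_residue, hqB, hq₁]
        congr 1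
        exact Subtype.ext (hcompat a).symm }
  let σT : ResidueField B ⊗[ResidueField A] ResidueField (W.comap (algebraMap K₁ M)) →ₐ[ResidueField A]
      Cs ⧸ Ideal.span {t} := Algebra.TensorProduct.lift gB g₁ (fun _ _ => Commute.all _ _)
  have hσT : ∀ b v, σT (b ⊗ₜ v) = qB b * q₁ v := fun b v => Algebra.TensorProduct.lift_tmul _ _ _ b v
  -- the unit ε
  let ε : (ResidueField B ⊗[ResidueField A] ResidueField (W.comap (algebraMap K₁ M)))ˣ :=
    { val := (residue B ((u⁻¹ : Bˣ) : B)) ⊗ₜ (residue _ (u₁ : W.comap (algebraMap K₁ M)))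
      inv := (residue B (u : B)) ⊗ₜ (residue _ ((u₁⁻¹ : (W.comap (algebraMap K₁ M))ˣ) : W.comap (algebraMap K₁ M)))
      val_inv := by
        rw [Algebra.TensorProduct.tmul_mul_tmul, ← map_mul, ← map_mul, Units.inv_mul, Units.mul_inv,
          map_one, map_one]; rfl
      inv_val := by
        rw [Algebra.TensorProduct.tmul_mul_tmul, ← map_mul, ← map_mul, Units.inv_mul, Units.mul_inv,
          map_one, map_one]; rfl }
  have hvnrT' := vnr_adjoinRoot_tensor (kA := ResidueField A) (kB := ResidueField B)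
    (E := ResidueField (W.comap (algebraMap K₁ M))) e he ε
  have hroot : (X ^ e - Polynomial.C (ε : ResidueField B ⊗[ResidueField A]
      ResidueField (W.comap (algebraMap K₁ M)))).eval₂ σT.toRingHom
      (Ideal.Quotient.mk (Ideal.span {t}) yC) = 0 := by
    rw [eval₂_sub, eval₂_pow, eval₂_X, eval₂_C]
    show (Ideal.Quotient.mk (Ideal.span {t}) yC) ^ e - σT ((residue B ((u⁻¹ : Bˣ) : B)) ⊗ₜ
      (residue _ (u₁ : W.comap (algebraMap K₁ M)))) = 0
    rw [hσT, hqB, hq₁, ← map_pow, ← map_mul, hyCe, sub_self]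
  let σ' : AdjoinRoot (X ^ e - Polynomial.C (ε : ResidueField B ⊗[ResidueField A]
      ResidueField (W.comap (algebraMap K₁ M)))) →+* Cs ⧸ Ideal.span {t} :=
    AdjoinRoot.lift σT.toRingHom _ hroot
  have hσ'of : ∀ r, σ' (AdjoinRoot.of _ r) = σT r := fun r => AdjoinRoot.lift_of hroot
  have hσ'root : σ' (AdjoinRoot.root _) = Ideal.Quotient.mk (Ideal.span {t}) yC :=
    AdjoinRoot.lift_root hroot
  have hσ'surj : Function.Surjective σ' := by
    intro q
    obtain ⟨c, rfl⟩ := Ideal.Quotient.mk_surjective q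
    obtain ⟨c, hc⟩ := c
    induction hc using Subring.closure_induction with
    | mem x hx =>
      rcases hx with (⟨v, rfl⟩ | ⟨b, rfl⟩) | rfl
      · exact ⟨AdjoinRoot.of _ ((1 : ResidueField B) ⊗ₜ (residue _ v)), by
          rw [hσ'of, hσT, map_one, one_mul, hq₁]; rfl⟩
      · exact ⟨AdjoinRoot.of _ ((residue _ b) ⊗ₜ (1 : ResidueField (W.comap (algebraMap K₁ M)))), by
          rw [hσ'of, hσT, map_one, mul_one, hqB]; rfl⟩
      · exact ⟨AdjoinRoot.root _, hσ'root⟩
    | zero => exact ⟨0, by rw [map_zero]; rfl⟩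
    | one => exact ⟨1, by rw [map_one]; rfl⟩
    | add x y hx hy ihx ihy =>
      obtain ⟨a, ha⟩ := ihx
      obtain ⟨b, hb⟩ := ihy
      exact ⟨a + b, by rw [map_add, ha, hb]; rfl⟩
    | neg x hx ihx =>
      obtain ⟨a, ha⟩ := ihx
      exact ⟨-a, by rw [map_neg, ha]; rfl⟩
    | mul x y hx hy ihx ihy =>
      obtain ⟨a, ha⟩ := ihx
      obtain ⟨b, hb⟩ := ihy
      exact ⟨a * b, by rw [map_mul, ha, hb]; rfl⟩
  -- generation of M
  have hgenM : ∀ S : Subfield M, (∀ c : Cs, (c : M) ∈ S) → S = ⊤ := by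
    intro S hS
    have hS1 : ∀ v, j₁ v ∈ S := fun v => hS ⟨j₁ v, hC₁ v⟩
    have hS2 : ∀ b, jB b ∈ S := fun b => hS ⟨jB b, hCB b⟩
    have hK₁ : ∀ k : K₁, algebraMap K₁ M k ∈ S := by
      intro k
      obtain ⟨v, v', hv', rfl⟩ := IsFractionRing.div_surjective (A := (W.comap (algebraMap K₁ M))) k
      rw [map_div₀]
      exact S.div_mem (hS1 v) (hS1 v')
    have hL : ∀ l : L, algebraMap L M l ∈ S := by
      intro l
      obtain ⟨b, b', hb', rfl⟩ := IsFractionRing.div_surjective (A := B) l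
      rw [map_div₀]
      exact S.div_mem (hS2 b) (hS2 b')
    rw [eq_top_iff]
    intro m _
    have hm : m ∈ Algebra.adjoin L (Set.range (algebraMap K₁ M)) := by rw [hgen]; trivial
    induction hm using Algebra.adjoin_induction with
    | mem x hx =>
      obtain ⟨k, rfl⟩ := hx
      exact hK₁ k
    | algebraMap l => exact hL l
    | add x y _ _ hx hy => exact S.add_mem (hx trivial) (hy trivial)
    | mul x y _ _ hx hy => exact S.mul_mem (hx trivial) (hy trivial)
  obtain ⟨hmax, hfrac⟩ := lemmaH W Cs hCW t htW ht0 hvnrT' σ' hσ'surj hgenM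
  refine ⟨?_, ?_⟩
  · show Ideal.map (EtRam.inclOfComap W (algebraMap K₁ M)) (maximalIdeal _) = maximalIdeal W
    apply le_antisymm
    · exact ((local_hom_TFAE (EtRam.inclOfComap W (algebraMap K₁ M))).out 0 2).mp
        (EtRam.isLocalHom_inclOfComap _ _)
    · intro x hx
      have hxnu : (x : M) ∈ W.nonunits := (W.coe_mem_nonunits_iff (a := x)).mpr hx
      obtain ⟨w', hw', hxw⟩ := hmax _ hxnu
      have : x = EtRam.inclOfComap W (algebraMap K₁ M) π₁ * ⟨w', hw'⟩ := Subtype.ext hxw
      rw [this]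
      exact Ideal.mul_mem_right _ _ (Ideal.mem_map_of_mem _ hπ₁m)
  · letI algBW : Algebra B W :=
      (RingHom.codRestrict ((algebraMap L M).comp (algebraMap B L)) W hW.1).toAlgebra
    haveI hlocBW : IsLocalHom (algebraMap B W) := isLocalHom_of_dominates B _ _ hW
    letI algk : Algebra (ResidueField (W.comap (algebraMap K₁ M))) (ResidueField W) :=
      (ResidueField.map (EtRam.inclOfComap W (algebraMap K₁ M))).toAlgebra
    show Algebra.IsGeometricallyReduced (ResidueField (W.comap (algebraMap K₁ M))) (ResidueField W)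
    have halgk : ∀ v, algebraMap (ResidueField (W.comap (algebraMap K₁ M))) (ResidueField W)
        (residue _ v) = residue W (EtRam.inclOfComap W (algebraMap K₁ M) v) := fun v => rfl
    have hresC : ∀ (S : Subfield (ResidueField W)),
        (∀ x : ResidueField (W.comap (algebraMap K₁ M)),
          algebraMap (ResidueField (W.comap (algebraMap K₁ M))) (ResidueField W) x ∈ S) →
        (∀ x : ResidueField B, algebraMap (ResidueField B) (ResidueField W) x ∈ S) →
        residue W ⟨y, hyW⟩ ∈ S → ∀ c : Cs, residue W ⟨(c : M), hCW c⟩ ∈ S := by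
      intro S hS1 hS2 hS3 c
      obtain ⟨c, hc⟩ := c
      have hcl : Cs ≤ W.toSubring := fun x hx => hCW ⟨x, hx⟩
      suffices h : ∀ (x : M) (hx : x ∈ Cs), residue W ⟨x, hcl hx⟩ ∈ S from h c hc
      intro x hx
      induction hx using Subring.closure_induction with
      | mem x hx =>
        rcases hx with (⟨v, rfl⟩ | ⟨b, rfl⟩) | rfl
        · exact hS1 (residue _ v)
        · exact hS2 (residue _ b)
        · exact hS3
      | zero => exact S.zero_mem
      | one => exact S.one_mem
      | add x y hx hy ihx ihy => exact S.add_mem ihx ihy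
      | neg x hx ihx => exact S.neg_mem ihx
      | mul x y hx hy ihx ihy => exact S.mul_mem ihx ihy
    apply geomRed_of_gen_root (kA := ResidueField A) (kB := ResidueField B) ?_ e he
      (residue W ⟨y, hyW⟩) (residue _ (u₁ : W.comap (algebraMap K₁ M))) (residue B (u : B))
      ((residue_ne_zero_iff_isUnit _).mpr u₁.isUnit) ((residue_ne_zero_iff_isUnit _).mpr u.isUnit)
    · rw [ResidueField.algebraMap_residue, halgk, ← map_pow, ← map_mul]
      congr 1
      exact Subtype.ext hy2
    · intro S hS1 hS2 hS3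
      have hres := hresC S hS1 hS2 hS3
      rw [eq_top_iff]
      intro wbar _
      obtain ⟨w, rfl⟩ := residue_surjective wbar
      obtain ⟨c, s, hs, hw⟩ := hfrac (w : M) w.2
      have hsu : IsUnit (⟨(s : M), hCW s⟩ : W) := by
        by_contra hns
        exact hs ((W.coe_mem_nonunits_iff (a := (⟨(s : M), hCW s⟩ : W))).mpr hns)
      have hs0 : (s : M) ≠ 0 := (TensG.not_nonunits hs).1
      have hmul : w * (⟨(s : M), hCW s⟩ : W) = ⟨(c : M), hCW c⟩ := by
        apply Subtype.ext
        show (w : M) * (s : M) = (c : M)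
        rw [hw, div_mul_cancel₀ _ hs0]
      have hres' : residue W w * residue W ⟨(s : M), hCW s⟩ = residue W ⟨(c : M), hCW c⟩ := by
        rw [← map_mul, hmul]
      have hsres0 : residue W ⟨(s : M), hCW s⟩ ≠ 0 := (residue_ne_zero_iff_isUnit _).mpr hsu
      have hw' : residue W w = residue W ⟨(c : M), hCW c⟩ * (residue W ⟨(s : M), hCW s⟩)⁻¹ := by
        rw [← hres', mul_assoc, mul_inv_cancel₀ hsres0, mul_one]
      rw [hw']
      exact S.mul_mem (hres c) (S.inv_mem (hres s))
    · intro a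
      obtain ⟨a, rfl⟩ := residue_surjective a
      rw [ResidueField.algebraMap_residue, ResidueField.algebraMap_residue,
        ResidueField.algebraMap_residue, halgk]
      congr 1
      exact Subtype.ext (key a).symm

theorem main_1982 (hinj : Function.Injective (algebraMap A B))
    (htame : CharZero (IsLocalRing.ResidueField A) ∨
      ∃ p : ℕ, p.Prime ∧ CharP (IsLocalRing.ResidueField A) p ∧
        ¬ p ∣ Ideal.ramificationIdx' (IsLocalRing.maximalIdeal A) (IsLocalRing.maximalIdeal B) ∧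
        Algebra.IsGeometricallyReduced (IsLocalRing.ResidueField A) (IsLocalRing.ResidueField B)) :
    EtRam.ForallLocalExt B K L K₁ (fun M _ W f =>
      ∀ hA : ∀ a : A, (algebraMap K K₁) (algebraMap A K a) ∈ W.comap f,
        letI : Algebra A (W.comap f) := (RingHom.codRestrict ((algebraMap K K₁).comp (algebraMap A K)) (W.comap f) hA).toAlgebra
        letI : Algebra (W.comap f) W := (EtRam.inclOfComap W f).toAlgebra
        Ideal.ramificationIdx' (IsLocalRing.maximalIdeal A) (IsLocalRing.maximalIdeal B) ∣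
          Ideal.ramificationIdx' (IsLocalRing.maximalIdeal A) (IsLocalRing.maximalIdeal (W.comap f)) →
        EtRam.IsWeaklyUnramified (W.comap f) W ∧
          @Algebra.IsGeometricallyReduced (IsLocalRing.ResidueField (W.comap f)) (IsLocalRing.ResidueField W) _ _
            (IsLocalRing.ResidueField.map (EtRam.inclOfComap W f)).toAlgebra) := by
  intro M _ _ _ _ _ _ hgen W hW hA hdvd
  rcases htame with h0 | ⟨p, hp, hchar, hpe, hgr⟩
  · haveI := h0
    haveI : Algebra.IsGeometricallyReduced (ResidueField A) (ResidueField B) := geomRed_of_charZero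
    obtain ⟨π, hπ⟩ := IsDiscreteValuationRing.exists_irreducible A
    obtain ⟨πB, hπB⟩ := IsDiscreteValuationRing.exists_irreducible B
    obtain ⟨he0, -⟩ := ramIdx_spec A B hinj π hπ πB hπB
    have he : ((Ideal.ramificationIdx' (maximalIdeal A) (maximalIdeal B) : ℕ) : ResidueField A) ≠ 0 :=
      Nat.cast_ne_zero.mpr he0
    exact core A B K L K₁ hinj he M hgen W hW hA hdvd
  · haveI := hgr
    haveI := hchar
    have he : ((Ideal.ramificationIdx' (maximalIdeal A) (maximalIdeal B) : ℕ) : ResidueField A) ≠ 0 := by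
      rw [Ne, CharP.cast_eq_zero_iff (ResidueField A) p]; exact hpe
    exact core A B K L K₁ hinj he M hgen W hW hA hdvd

end Main

end Groth.Agent.Lib.Helper26.Sol1982
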