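import Mathlib
import Groth.Prelude.Def_EtRam
import Groth.Agent.Lib.Helper26.ValFin
import Groth.Agent.Lib.Helper26.Sol1982

set_option autoImplicit false
set_option linter.unusedVariables false
set_option linter.style.haveILetI false
set_option linter.unusedSectionVars false
set_option linter.unusedSimpArgs false

universe u

namespace Groth.Agent.Lib.Helper26.Monog

open IsLocalRing Polynomial Groth.Agent.Lib.Helper26

section M

variable {A K L : Type u} [CommRing A] [IsDomain A] [IsDiscreteValuationRing A] [Field K]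
  [Algebra A K] [IsFractionRing A K] [Field L] [Algebra K L] [FiniteDimensional K L]

/-- the structure map -/
abbrev gAL (A K L : Type u) [CommRing A] [Field K] [Algebra A K] [Field L] [Algebra K L] :
    A →+* L := (algebraMap K L).comp (algebraMap A K)

/-- VNR of the quotient of `AdjoinRoot h` by `π`. -/
theorem vnr_lift (π : A) (hπ : maximalIdeal A = Ideal.span {π}) (h : A[X])
    (hvnr : ∀ x : AdjoinRoot (h.map (Ideal.Quotient.mk (maximalIdeal A))), ∃ w, x = x * x * w) :
    ∀ q : AdjoinRoot h, ∃ w q', q * (1 - q * w) = AdjoinRoot.of h π * q' := by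
  intro q
  let e : (AdjoinRoot h ⧸ (maximalIdeal A).map (AdjoinRoot.of h)) ≃+*
      AdjoinRoot (h.map (Ideal.Quotient.mk (maximalIdeal A))) :=
    (AdjoinRoot.quotEquivQuotMap h (maximalIdeal A)).toRingEquiv
  obtain ⟨w₀, hw₀⟩ := hvnr (e (Ideal.Quotient.mk _ q))
  obtain ⟨w, hw⟩ := Ideal.Quotient.mk_surjective (e.symm w₀)
  have h1 : Ideal.Quotient.mk ((maximalIdeal A).map (AdjoinRoot.of h)) (q * (1 - q * w)) = 0 := by
    apply e.injective
    simp only [map_zero, map_mul, map_sub, map_one, hw, RingEquiv.apply_symm_apply]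
    set x := e (Ideal.Quotient.mk _ q) with hx
    calc x * (1 - x * w₀) = x - x * x * w₀ := by ring
      _ = 0 := by rw [← hw₀, sub_self]
  rw [Ideal.Quotient.eq_zero_iff_mem, hπ, Ideal.map_span, Set.image_singleton,
    Ideal.mem_span_singleton'] at h1
  obtain ⟨q', hq'⟩ := h1
  exact ⟨w, q', by rw [← hq', mul_comm]⟩

/-- generation: a subfield containing `g(A)` and `y` is everything -/
theorem subfield_eq_top (y : L) (hgen : IntermediateField.adjoin K {y} = ⊤)
    (S : Subfield L) (hA : ∀ a : A, gAL A K L a ∈ S) (hy : y ∈ S) : S = ⊤ := by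
  have hK : ∀ c : K, algebraMap K L c ∈ S := by
    intro c
    obtain ⟨a₁, a₂, _, rfl⟩ := IsFractionRing.div_surjective (A := A) c
    rw [map_div₀]
    exact S.div_mem (hA a₁) (hA a₂)
  let T : IntermediateField K L := { S with algebraMap_mem' := hK }
  have hT : T = ⊤ := by
    rw [eq_top_iff, ← hgen, IntermediateField.adjoin_le_iff]
    intro x hx
    rw [Set.mem_singleton_iff] at hx
    rw [hx]
    exact hy
  rw [eq_top_iff]
  intro x _
  have : x ∈ T := by rw [hT]; trivial
  exact this

theorem monogenic (π : A) (hπ : maximalIdeal A = Ideal.span {π})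
    (y : L) (h : A[X]) (hy : eval₂ (gAL A K L) y h = 0)
    (hgen : IntermediateField.adjoin K {y} = ⊤)
    (hvnr : ∀ x : AdjoinRoot (h.map (Ideal.Quotient.mk (maximalIdeal A))), ∃ w, x = x * x * w)
    (hyV : ∀ V : ValuationSubring L, EtRam.Dominates A (gAL A K L) V → y ∈ V)
    (V : ValuationSubring L) (hV : EtRam.Dominates A (gAL A K L) V) :
    (∀ w ∈ V.nonunits, ∃ w' ∈ V, w = gAL A K L π * w') ∧
    (∀ w ∈ V, ∃ c s : AdjoinRoot h, AdjoinRoot.lift (gAL A K L) y hy s ∉ V.nonunits ∧
      w = AdjoinRoot.lift (gAL A K L) y hy c / AdjoinRoot.lift (gAL A K L) y hy s) := by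
  haveI : IsDiscreteValuationRing V := ValFin.isDVR_of_dominates_finite V hV
  set ψ := AdjoinRoot.lift (gAL A K L) y hy with hψ
  have hψW : ∀ c, ψ c ∈ V := by
    intro c
    induction c using AdjoinRoot.induction_on with
    | ih q =>
      rw [hψ, AdjoinRoot.lift_mk, eval₂_eq_sum_range]
      refine V.sum_mem (fun i _ => V.mul_mem _ _ (hV.1 _) (V.pow_mem (hyV V hV) i))
  have hπm : π ∈ maximalIdeal A := by rw [hπ]; exact Ideal.mem_span_singleton_self π
  have hπ0 : π ≠ 0 := by
    intro h0
    rw [h0, Ideal.span_singleton_eq_bot.mpr rfl] at hπ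
    exact IsDiscreteValuationRing.not_a_field A hπ
  have ht : ψ (AdjoinRoot.of h π) = gAL A K L π := by rw [hψ, AdjoinRoot.lift_of]
  have htm : ψ (AdjoinRoot.of h π) ∈ V.nonunits := by
    rw [ht]
    exact (hV.2 π hπm)
  have ht0 : ψ (AdjoinRoot.of h π) ≠ 0 := by
    rw [ht]
    intro h0
    have : algebraMap A K π = 0 := (map_eq_zero (algebraMap K L)).mp h0
    exact hπ0 ((IsFractionRing.injective A K) (by rw [this, map_zero]))
  have hvnr' := vnr_lift π hπ h hvnr
  have hfrac := Sol1982.frac_of_gen ψ (fun S hS => subfield_eq_top y hgen S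
    (fun a => by have := hS (AdjoinRoot.of h a); rwa [hψ, AdjoinRoot.lift_of] at this)
    (by have := hS (AdjoinRoot.root h); rwa [hψ, AdjoinRoot.lift_root] at this))
  refine ⟨?_, TensG.frac_unit_denominator ψ _ V hψW htm ht0 hvnr' hfrac⟩
  intro w hw
  obtain ⟨w', hw', hww'⟩ := TensG.maximalIdeal_generated ψ _ V hψW htm ht0 hvnr' hfrac w hw
  exact ⟨w', hw', by rw [hww', ht]⟩

/-- `ψ` lands in `V`. -/
theorem lift_mem (y : L) (h : A[X]) (hy : eval₂ (gAL A K L) y h = 0)
    (V : ValuationSubring L) (hV : EtRam.Dominates A (gAL A K L) V) (hyV : y ∈ V)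
    (c : AdjoinRoot h) : AdjoinRoot.lift (gAL A K L) y hy c ∈ V := by
  induction c using AdjoinRoot.induction_on with
  | ih q =>
    rw [AdjoinRoot.lift_mk, eval₂_eq_sum_range]
    exact V.sum_mem (fun i _ => V.mul_mem _ _ (hV.1 _) (V.pow_mem hyV i))

theorem weaklyUnramified (π : A) (hπ : maximalIdeal A = Ideal.span {π})
    (V : ValuationSubring L) (hV : EtRam.Dominates A (gAL A K L) V)
    (hdiv : ∀ w ∈ V.nonunits, ∃ w' ∈ V, w = gAL A K L π * w') :
    letI : Algebra A V := (RingHom.codRestrict (gAL A K L) V hV.1).toAlgebra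
    EtRam.IsWeaklyUnramified A V := by
  letI : Algebra A V := (RingHom.codRestrict (gAL A K L) V hV.1).toAlgebra
  unfold EtRam.IsWeaklyUnramified
  have hπm : π ∈ maximalIdeal A := by rw [hπ]; exact Ideal.mem_span_singleton_self π
  apply le_antisymm
  · rw [Ideal.map_le_iff_le_comap]
    intro a ha
    rw [Ideal.mem_comap]
    have h1 := hV.2 a ha
    have h2 : (algebraMap A V a) ∈ maximalIdeal V := by
      rw [ValuationSubring.valuation_lt_one_iff]; exact h1
    exact h2
  · intro w hw
    have hw' : (w : L) ∈ V.nonunits := (V.coe_mem_nonunits_iff (a := w)).mpr hw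
    obtain ⟨w', hw'V, hww'⟩ := hdiv _ hw'
    have : w = algebraMap A V π * ⟨w', hw'V⟩ := Subtype.ext hww'
    rw [this]
    exact Ideal.mul_mem_right _ _ (Ideal.mem_map_of_mem _ hπm)

section Res

variable (y : L) (h : A[X]) (hy : eval₂ (gAL A K L) y h = 0)
  (V : ValuationSubring L) (hV : EtRam.Dominates A (gAL A K L) V) (hyV : y ∈ V)

include hy in
theorem residue_root :
    letI : Algebra A V := (RingHom.codRestrict (gAL A K L) V hV.1).toAlgebra
    ∀ [IsLocalHom (algebraMap A V)],
      aeval (residue V ⟨y, hyV⟩) (h.map (residue A)) = 0 := by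
  letI : Algebra A V := (RingHom.codRestrict (gAL A K L) V hV.1).toAlgebra
  intro _
  rw [aeval_def, eval₂_map]
  have h1 : (algebraMap (ResidueField A) (ResidueField V)).comp (residue A) =
      (residue V).comp (algebraMap A V) := rfl
  rw [h1, ← hom_eval₂]
  have h2 : eval₂ (algebraMap A V) (⟨y, hyV⟩ : V) h = 0 := by
    apply Subtype.ext
    have := hom_eval₂ h (algebraMap A V) V.subtype (⟨y, hyV⟩ : V)
    rw [show V.subtype (eval₂ (algebraMap A V) (⟨y, hyV⟩ : V) h) =
      ((eval₂ (algebraMap A V) (⟨y, hyV⟩ : V) h : V) : L) from rfl] at this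
    rw [this]
    exact hy
  rw [h2, map_zero]

theorem residue_gen
    (hfr : ∀ w ∈ V, ∃ c s : AdjoinRoot h, AdjoinRoot.lift (gAL A K L) y hy s ∉ V.nonunits ∧
      w = AdjoinRoot.lift (gAL A K L) y hy c / AdjoinRoot.lift (gAL A K L) y hy s) :
    letI : Algebra A V := (RingHom.codRestrict (gAL A K L) V hV.1).toAlgebra
    ∀ [IsLocalHom (algebraMap A V)],
      IntermediateField.adjoin (ResidueField A) {residue V ⟨y, hyV⟩} = ⊤ := by
  letI : Algebra A V := (RingHom.codRestrict (gAL A K L) V hV.1).toAlgebra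
  intro _
  have hψW := lift_mem y h hy V hV hyV
  let ψV : AdjoinRoot h →+* V := (AdjoinRoot.lift (gAL A K L) y hy).codRestrict V.toSubring hψW
  let Φ : AdjoinRoot h →+* ResidueField V := (residue V).comp ψV
  have hΦ : ∀ c, Φ c ∈ IntermediateField.adjoin (ResidueField A) {residue V ⟨y, hyV⟩} := by
    intro c
    induction c using AdjoinRoot.induction_on with
    | ih q =>
      induction q using Polynomial.induction_on with
      | C a =>
        have : Φ (AdjoinRoot.mk h (C a)) = algebraMap (ResidueField A) (ResidueField V) (residue A a) := by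
          show residue V (ψV (AdjoinRoot.mk h (C a))) = residue V (algebraMap A V a)
          congr 1
          apply Subtype.ext
          show AdjoinRoot.lift (gAL A K L) y hy (AdjoinRoot.mk h (C a)) = gAL A K L a
          rw [AdjoinRoot.lift_mk, eval₂_C]
        rw [this]
        exact IntermediateField.algebraMap_mem _ _
      | add p q hp hq =>
        rw [map_add, map_add]
        exact add_mem hp hq
      | monomial n a ih =>
        have : Φ (AdjoinRoot.mk h (C a * X ^ (n + 1))) =
            Φ (AdjoinRoot.mk h (C a * X ^ n)) * residue V ⟨y, hyV⟩ := by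
          rw [pow_succ, ← mul_assoc, map_mul, map_mul]
          congr 1
          show residue V (ψV (AdjoinRoot.mk h X)) = residue V ⟨y, hyV⟩
          congr 1
          apply Subtype.ext
          show AdjoinRoot.lift (gAL A K L) y hy (AdjoinRoot.mk h X) = y
          rw [AdjoinRoot.lift_mk, eval₂_X]
        rw [this]
        exact mul_mem ih (IntermediateField.mem_adjoin_simple_self _ _)
  rw [eq_top_iff]
  intro x _
  obtain ⟨w, rfl⟩ := residue_surjective x
  obtain ⟨c, s, hs, hw⟩ := hfr w.1 w.2
  have hmul : w * ψV s = ψV c := by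
    apply Subtype.ext
    show (w : L) * AdjoinRoot.lift (gAL A K L) y hy s = AdjoinRoot.lift (gAL A K L) y hy c
    have hs0 : AdjoinRoot.lift (gAL A K L) y hy s ≠ 0 := by
      intro h0
      apply hs
      rw [h0]
      exact V.nonunits.zero_mem
    rw [hw]
    field_simp
  have hsu : Φ s ≠ 0 := by
    intro h0
    have h1 : ψV s ∈ maximalIdeal V := (residue_eq_zero_iff _).mp h0
    exact hs ((V.coe_mem_nonunits_iff (a := ψV s)).mpr h1)
  have : residue V w = Φ c / Φ s := by
    rw [eq_div_iff hsu]
    show residue V w * residue V (ψV s) = residue V (ψV c)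
    rw [← map_mul, hmul]
  rw [this]
  exact div_mem (hΦ c) (hΦ s)

end Res

/-- uniqueness of the dominating valuation ring when the special fibre is a field -/
theorem unique_of_irreducible (π : A) (hπ : maximalIdeal A = Ideal.span {π})
    (y : L) (h : A[X]) (hy : eval₂ (gAL A K L) y h = 0)
    (hirr : Irreducible (h.map (residue A)))
    (V V' : ValuationSubring L) (hV : EtRam.Dominates A (gAL A K L) V)
    (hV' : EtRam.Dominates A (gAL A K L) V') (hyV : y ∈ V) (hyV' : y ∈ V')
    (hfr : ∀ w ∈ V, ∃ c s : AdjoinRoot h, AdjoinRoot.lift (gAL A K L) y hy s ∉ V.nonunits ∧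
      w = AdjoinRoot.lift (gAL A K L) y hy c / AdjoinRoot.lift (gAL A K L) y hy s) :
    V ≤ V' := by
  have hπm : π ∈ maximalIdeal A := by rw [hπ]; exact Ideal.mem_span_singleton_self π
  -- the ideal `M`
  set M : Ideal (AdjoinRoot h) := (maximalIdeal A).map (AdjoinRoot.of h) with hM
  haveI : Fact (Irreducible (h.map (residue A))) := ⟨hirr⟩
  have hMmax : M.IsMaximal := by
    apply Ideal.Quotient.maximal_of_isField
    have hf : IsField (AdjoinRoot (h.map (residue A))) := Field.toIsField _
    let e : (AdjoinRoot h ⧸ M) ≃+* AdjoinRoot (h.map (residue A)) :=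
      (AdjoinRoot.quotEquivQuotMap h (maximalIdeal A)).toRingEquiv
    exact e.toMulEquiv.isField hf
  -- `P_W = M` for any dominating `W` containing `y`
  have hP : ∀ (W : ValuationSubring L) (hW : EtRam.Dominates A (gAL A K L) W) (hyW : y ∈ W)
      (s : AdjoinRoot h), AdjoinRoot.lift (gAL A K L) y hy s ∈ W.nonunits ↔ s ∈ M := by
    intro W hW hyW s
    have hψW := lift_mem y h hy W hW hyW
    let ψW : AdjoinRoot h →+* W := (AdjoinRoot.lift (gAL A K L) y hy).codRestrict W.toSubring hψW
    let P : Ideal (AdjoinRoot h) := (maximalIdeal W).comap ψW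
    have hPmem : ∀ s, s ∈ P ↔ AdjoinRoot.lift (gAL A K L) y hy s ∈ W.nonunits := by
      intro s
      exact (W.coe_mem_nonunits_iff (a := ψW s)).symm
    have hMP : M ≤ P := by
      rw [hM, Ideal.map_le_iff_le_comap]
      intro a ha
      rw [Ideal.mem_comap, hPmem, AdjoinRoot.lift_of]
      exact hW.2 a ha
    have hPne : P ≠ ⊤ := by
      intro htop
      have : (1 : AdjoinRoot h) ∈ P := by rw [htop]; trivial
      rw [hPmem, map_one, ValuationSubring.mem_nonunits_iff, map_one] at this
      exact lt_irrefl _ this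
    have : M = P := hMmax.eq_of_le hPne hMP
    rw [this, hPmem]
  intro x hx
  obtain ⟨c, s, hs, rfl⟩ := hfr x hx
  rw [hP V hV hyV] at hs
  have hs' : AdjoinRoot.lift (gAL A K L) y hy s ∉ V'.nonunits := by
    rw [hP V' hV' hyV']; exact hs
  obtain ⟨_, hinv⟩ := TensG.not_nonunits hs'
  rw [div_eq_mul_inv]
  exact V'.mul_mem _ _ (lift_mem y h hy V' hV' hyV' c) hinv

end M

end Groth.Agent.Lib.Helper26.Monog
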