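import Mathlib
import Groth.Prelude.Def_EtRam
import Groth.Agent.Lib.Helper26.TameSub
import Groth.Agent.Lib.Helper26.SolDesc
import Groth.Agent.Lib.Helper26.ValFin
import Groth.Agent.Lib.Helper26.TensG
import Groth.Agent.Lib.Helper26.UnrBC
import Groth.Agent.Lib.Helper26.Sol1983
import Groth.Agent.Lib.Helper26.Sol1982

set_option autoImplicit false
set_option linter.unusedVariables false
set_option linter.style.haveILetI false
set_option linter.unusedSectionVars false
set_option linter.unusedSimpArgs false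

universe u

namespace Groth.Agent.Lib.Helper26.TameBC

open IsLocalRing TensorProduct Polynomial Groth.Agent.Lib.Helper26.TameSub

section Aux

theorem exists_bezout_nat (a b : ℕ) (ha : 0 < a) (hb : 0 < b) (hab : Nat.Coprime a b) :
    ∃ r s : ℕ, r * b = s * a + 1 := by
  rcases Nat.lt_or_ge 1 a with h1 | h1
  · obtain ⟨m, -, hm⟩ := Nat.exists_mul_mod_eq_one_of_coprime (n := b) (k := a) hab.symm h1
    refine ⟨m, b * m / a, ?_⟩
    have := Nat.div_add_mod (b * m) a
    rw [hm] at this
    rw [mul_comm m b, mul_comm (b * m / a) a]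
    exact this.symm
  · have : a = 1 := le_antisymm h1 ha
    subst this
    exact ⟨1, b - 1, by omega⟩

variable {F : Type u} [Field F]

/-- an element whose power lies in a valuation subring lies in it -/
theorem mem_of_pow_mem (W : ValuationSubring F) (x : F) (n : ℕ) (hn : n ≠ 0) (h : x ^ n ∈ W) :
    x ∈ W := by
  have hint : IsIntegral W x := by
    refine ⟨X ^ n - Polynomial.C (⟨x ^ n, h⟩ : W), Polynomial.monic_X_pow_sub_C _ hn, ?_⟩
    rw [eval₂_sub, eval₂_pow, eval₂_X, eval₂_C]
    exact sub_self _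
  exact mem_of_isIntegral_of_le F W (fun r => r.2) x hint

theorem nonunits_of_pow_nonunits (W : ValuationSubring F) (x : F) (n : ℕ)
    (h : x ^ n ∈ W.nonunits) : x ∈ W.nonunits := by
  by_contra hx
  obtain ⟨hx0, hxinv⟩ := TensG.not_nonunits hx
  have h1 : x ^ n * (x⁻¹) ^ n ∈ W.nonunits := TensG.nonunits_mul h (pow_mem hxinv n)
  rw [← mul_pow, mul_inv_cancel₀ hx0, one_pow, W.mem_nonunits_iff, map_one] at h1
  exact lt_irrefl _ h1

end Aux

section S9307

variable (A B K L K' : Type u) [CommRing A] [IsDomain A]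
    [IsDiscreteValuationRing A] [CommRing B] [IsDomain B] [IsDiscreteValuationRing B] [Algebra A B]
    [IsLocalHom (algebraMap A B)]
    [Field K] [Field L] [Field K'] [Algebra A K] [IsFractionRing A K] [Algebra B L] [IsFractionRing B L]
    [Algebra K L] [Algebra A L] [IsScalarTower A K L] [IsScalarTower A B L]
    [Algebra K K'] [FiniteDimensional K K']
    (F : Type u) [Field F] [Algebra (K' ⊗[K] L) F]

theorem main_9307 [Algebra.IsSeparable K K'] (hinj : Function.Injective (algebraMap A B))
    (h : EtRam.IsTamelyRamified A ((algebraMap K K').comp (algebraMap A K)))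
    (hF : Function.Surjective (algebraMap (K' ⊗[K] L) F)) :
    EtRam.IsTamelyRamified B ((algebraMap (K' ⊗[K] L) F).comp
      ((Algebra.TensorProduct.includeRight : L →ₐ[K] K' ⊗[K] L).toRingHom.comp (algebraMap B L))) := by
  intro W hW hlocBW
  letI algBW : Algebra B W := (RingHom.codRestrict ((algebraMap (K' ⊗[K] L) F).comp
      ((Algebra.TensorProduct.includeRight : L →ₐ[K] K' ⊗[K] L).toRingHom.comp (algebraMap B L)))
      W hW.1).toAlgebra
  -- the two maps into F
  let jK' : K' →+* F := (algebraMap (K' ⊗[K] L) F).comp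
    (Algebra.TensorProduct.includeLeft : K' →ₐ[K] K' ⊗[K] L).toRingHom
  let jL : L →+* F := (algebraMap (K' ⊗[K] L) F).comp
    (Algebra.TensorProduct.includeRight : L →ₐ[K] K' ⊗[K] L).toRingHom
  have hjK' : ∀ k, jK' k = algebraMap (K' ⊗[K] L) F (k ⊗ₜ[K] (1 : L)) := fun k => rfl
  have hjL : ∀ l, jL l = algebraMap (K' ⊗[K] L) F ((1 : K') ⊗ₜ[K] l) := fun l => rfl
  have hjcompat : ∀ k : K, jK' (algebraMap K K' k) = jL (algebraMap K L k) := by
    intro k
    have e : (algebraMap K K' k) ⊗ₜ[K] (1 : L) = (1 : K') ⊗ₜ[K] (algebraMap K L k) := by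
      rw [Algebra.algebraMap_eq_smul_one, Algebra.algebraMap_eq_smul_one, TensorProduct.smul_tmul]
    rw [hjK', hjL, e]
  have hAcompat : ∀ a : A, jK' (((algebraMap K K').comp (algebraMap A K)) a) =
      jL (algebraMap B L (algebraMap A B a)) := by
    intro a
    show jK' (algebraMap K K' (algebraMap A K a)) = _
    rw [hjcompat, ← IsScalarTower.algebraMap_apply A K L, IsScalarTower.algebraMap_apply A B L]
  -- V' dominates A
  have hV' : EtRam.Dominates A ((algebraMap K K').comp (algebraMap A K)) (W.comap jK') := by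
    refine ⟨fun a => ?_, fun a ha => ?_⟩
    · rw [ValuationSubring.mem_comap, hAcompat]; exact hW.1 _
    · have haB : algebraMap A B a ∈ maximalIdeal B := by
        have := ((local_hom_TFAE (algebraMap A B)).out 0 3).mp ‹_›
        exact this ha
      have h1 := hW.2 _ haB
      have h2 : jK' (((algebraMap K K').comp (algebraMap A K)) a) ∈ W.nonunits := by
        rw [hAcompat]; exact h1
      exact UnrBC.nonunits_comap W jK' _ h2
  letI algAV' : Algebra A (W.comap jK') :=
    (RingHom.codRestrict ((algebraMap K K').comp (algebraMap A K)) (W.comap jK') hV'.1).toAlgebra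
  haveI hlocAV' : IsLocalHom (algebraMap A (W.comap jK')) := isLocalHom_of_dominates A _ _ hV'
  obtain ⟨hsep, htame⟩ := h (W.comap jK') hV'
  haveI := hsep
  haveI hV'dvr : IsDiscreteValuationRing (W.comap jK') := ValFin.isDVR_of_dominates_finite _ hV'
  haveI hfinres : Module.Finite (ResidueField A) (ResidueField (W.comap jK')) :=
    ValFin.finite_residue _ hV'
  -- W is a DVR
  letI algLF : Algebra L F := jL.toAlgebra
  haveI : FiniteDimensional L F := UnrBC.finite_L_F K L K' F hF
  have hW' : EtRam.Dominates B ((algebraMap L F).comp (algebraMap B L)) W := hW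
  haveI hWdvr : IsDiscreteValuationRing W := ValFin.isDVR_of_dominates_finite W hW'
  have hinjAV' : Function.Injective (algebraMap A (W.comap jK')) := by
    intro a b hab
    have h1 : ((algebraMap K K').comp (algebraMap A K)) a = ((algebraMap K K').comp (algebraMap A K)) b :=
      congrArg Subtype.val hab
    exact (IsFractionRing.injective A K) ((algebraMap K K').injective h1)
  -- the reducedness of T
  haveI : Algebra.FormallyUnramified (ResidueField A) (ResidueField (W.comap jK')) :=
    Algebra.FormallyUnramified.of_isSeparable _ _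
  haveI : Algebra.FormallyUnramified (ResidueField B)
      (ResidueField B ⊗[ResidueField A] ResidueField (W.comap jK')) := inferInstance
  haveI hTred : IsReduced (ResidueField B ⊗[ResidueField A] ResidueField (W.comap jK')) :=
    Algebra.FormallyUnramified.isReduced_of_field (ResidueField B) _
  -- uniformizers
  obtain ⟨π, hπ⟩ := IsDiscreteValuationRing.exists_irreducible A
  obtain ⟨πB, hπB⟩ := IsDiscreteValuationRing.exists_irreducible B
  obtain ⟨π', hπ'⟩ := IsDiscreteValuationRing.exists_irreducible (W.comap jK')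
  obtain ⟨heB0, u, hu⟩ := Sol1982.ramIdx_spec A B hinj π hπ πB hπB
  obtain ⟨he'0, u', hu'⟩ := Sol1982.ramIdx_spec A (W.comap jK') hinjAV' π hπ π' hπ'
  -- characteristic
  have hg0 : ((Nat.gcd (Ideal.ramificationIdx' (maximalIdeal A) (maximalIdeal (W.comap jK')))
      (Ideal.ramificationIdx' (maximalIdeal A) (maximalIdeal B)) : ℕ) : ResidueField A) ≠ 0 := by
    obtain ⟨p₀, hp₀⟩ := CharP.exists (ResidueField A)
    rw [Ne, CharP.cast_eq_zero_iff (ResidueField A) p₀]
    intro hdvd
    have hdvd' : p₀ ∣ Ideal.ramificationIdx' (maximalIdeal A) (maximalIdeal (W.comap jK')) :=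
      hdvd.trans (Nat.gcd_dvd_left _ _)
    rcases CharP.char_is_prime_or_zero (ResidueField A) p₀ with hp | hp
    · exact htame p₀ hp hp₀ hdvd'
    · rw [hp, zero_dvd_iff] at hdvd'
      exact he'0 hdvd'
  -- numerical data
  generalize Ideal.ramificationIdx' (maximalIdeal A) (maximalIdeal (W.comap jK')) = e' at *
  generalize Ideal.ramificationIdx' (maximalIdeal A) (maximalIdeal B) = eB at *
  obtain ⟨a, ha⟩ : Nat.gcd e' eB ∣ e' := Nat.gcd_dvd_left _ _
  obtain ⟨b, hb⟩ : Nat.gcd e' eB ∣ eB := Nat.gcd_dvd_right _ _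
  have hgpos : 0 < Nat.gcd e' eB := Nat.gcd_pos_of_pos_left _ (Nat.pos_of_ne_zero he'0)
  have hcop : Nat.Coprime a b := by
    have h1 := Nat.coprime_div_gcd_div_gcd hgpos
    rw [Nat.div_eq_of_eq_mul_right hgpos ha, Nat.div_eq_of_eq_mul_right hgpos hb] at h1
    exact h1
  generalize Nat.gcd e' eB = g at hg0 ha hb hgpos
  have ha0 : 0 < a := by
    rcases Nat.eq_zero_or_pos a with h0 | h0
    · rw [h0, mul_zero] at ha; exact absurd ha he'0
    · exact h0
  have hb0 : 0 < b := by
    rcases Nat.eq_zero_or_pos b with h0 | h0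
    · rw [h0, mul_zero] at hb; exact absurd hb heB0
    · exact h0
  obtain ⟨r', s', hrs⟩ := exists_bezout_nat a b ha0 hb0 hcop
  rw [hb] at hu
  rw [ha] at hu'
  have htame' : ∀ p : ℕ, p.Prime → CharP (ResidueField A) p → ¬ p ∣ a := by
    intro p hp hchar hpa
    apply htame p hp hchar
    rw [ha]
    exact hpa.mul_left g
  clear htame
  subst ha hb
  have hmV' : maximalIdeal (W.comap jK') = Ideal.span {π'} :=
    (IsDiscreteValuationRing.irreducible_iff_uniformizer π').mp hπ'
  have hmB : maximalIdeal B = Ideal.span {πB} :=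
    (IsDiscreteValuationRing.irreducible_iff_uniformizer πB).mp hπB
  -- the maps
  let jV : (W.comap jK') →+* F := jK'.comp (W.comap jK').subtype
  let jB : B →+* F := jL.comp (algebraMap B L)
  have hcompat : ∀ x : A, jV (algebraMap A (W.comap jK') x) = jB (algebraMap A B x) :=
    fun x => hAcompat x
  have hjBinj : Function.Injective jB := jL.injective.comp (IsFractionRing.injective B L)
  have hjVinj : Function.Injective jV := jK'.injective.comp Subtype.val_injective
  have hjBW : ∀ x, jB x ∈ W := fun x => hW.1 x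
  have hjVW : ∀ v, jV v ∈ W := fun v => v.2
  have hP0 : jV π' ≠ 0 := fun h0 => hπ'.ne_zero (hjVinj (h0.trans (map_zero _).symm))
  have hQ0 : jB πB ≠ 0 := fun h0 => hπB.ne_zero (hjBinj (h0.trans (map_zero _).symm))
  have hPnu : jV π' ∈ W.nonunits := by
    have hle : maximalIdeal (W.comap jK') ≤ (maximalIdeal W).comap (EtRam.inclOfComap W jK') :=
      ((local_hom_TFAE (EtRam.inclOfComap W jK')).out 0 3).mp (EtRam.isLocalHom_inclOfComap _ _)
    have h1 := hle (show π' ∈ maximalIdeal (W.comap jK') from hπ'.not_isUnit)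
    exact (W.coe_mem_nonunits_iff (a := EtRam.inclOfComap W jK' π')).mpr h1
  have hjBu0 : jB (u : B) ≠ 0 := fun h0 => u.ne_zero (hjBinj (h0.trans (map_zero _).symm))
  have hjVu0 : jV (u' : W.comap jK') ≠ 0 := fun h0 => u'.ne_zero (hjVinj (h0.trans (map_zero _).symm))
  have hjBuinv : jB ((u⁻¹ : Bˣ) : B) = (jB (u : B))⁻¹ := by
    have : jB ((u⁻¹ : Bˣ) : B) * jB (u : B) = 1 := by rw [← map_mul, Units.inv_mul, map_one]
    exact eq_inv_of_mul_eq_one_left this
  have hjVuinv : jV ((u'⁻¹ : (W.comap jK')ˣ) : W.comap jK') = (jV (u' : W.comap jK'))⁻¹ := by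
    have : jV ((u'⁻¹ : (W.comap jK')ˣ) : W.comap jK') * jV (u' : W.comap jK') = 1 := by
      rw [← map_mul, Units.inv_mul, map_one]
    exact eq_inv_of_mul_eq_one_left this
  -- the elements θ and ϖ
  let θ : F := (jV π') ^ a / (jB πB) ^ b
  let ϖ : F := (jV π') ^ r' / (jB πB) ^ s'
  have hθ0 : θ ≠ 0 := div_ne_zero (pow_ne_zero _ hP0) (pow_ne_zero _ hQ0)
  have hϖ0 : ϖ ≠ 0 := div_ne_zero (pow_ne_zero _ hP0) (pow_ne_zero _ hQ0)
  have hI1 : θ ^ g * jV (u' : W.comap jK') = jB (u : B) := by
    have h1 : jB (algebraMap A B π) = jB u * (jB πB) ^ (g * b) := by rw [hu, map_mul, map_pow]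
    have h2 : jV (algebraMap A (W.comap jK') π) = jV u' * (jV π') ^ (g * a) := by
      rw [hu', map_mul, map_pow]
    rw [hcompat, h1] at h2
    show ((jV π') ^ a / (jB πB) ^ b) ^ g * jV (u' : W.comap jK') = jB (u : B)
    rw [div_pow, ← pow_mul, ← pow_mul, mul_comm a g, mul_comm b g, div_mul_eq_mul_div,
      div_eq_iff (pow_ne_zero _ hQ0), mul_comm ((jV π') ^ (g * a)), ← h2]
  have hI2 : jV π' * θ ^ s' = ϖ ^ b := by
    show jV π' * ((jV π') ^ a / (jB πB) ^ b) ^ s' = ((jV π') ^ r' / (jB πB) ^ s') ^ b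
    rw [div_pow, div_pow, ← pow_mul, ← pow_mul, ← pow_mul, ← pow_mul, hrs, pow_succ]
    ring
  have hI3 : jB πB * θ ^ r' = ϖ ^ a := by
    show jB πB * ((jV π') ^ a / (jB πB) ^ b) ^ r' = ((jV π') ^ r' / (jB πB) ^ s') ^ a
    rw [div_pow, div_pow, ← pow_mul, ← pow_mul, ← pow_mul, ← pow_mul, mul_comm b r', hrs, pow_succ, mul_comm a r']
    field_simp
  have hθg : θ ^ g = jB (u : B) * jV ((u'⁻¹ : (W.comap jK')ˣ) : W.comap jK') := by
    rw [hjVuinv, ← hI1, mul_assoc, mul_inv_cancel₀ hjVu0, mul_one]
  have hθinvg : (θ⁻¹) ^ g = jV (u' : W.comap jK') * jB ((u⁻¹ : Bˣ) : B) := by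
    rw [hjBuinv, inv_pow, ← hI1, mul_inv, mul_comm (jV (u' : W.comap jK')), mul_assoc,
      inv_mul_cancel₀ hjVu0, mul_one]
  have hθW : θ ∈ W := mem_of_pow_mem W θ g hgpos.ne' (by
    rw [hθg]; exact W.mul_mem _ _ (hjBW _) (hjVW _))
  have hθinvW : θ⁻¹ ∈ W := mem_of_pow_mem W θ⁻¹ g hgpos.ne' (by
    rw [hθinvg]; exact W.mul_mem _ _ (hjVW _) (hjBW _))
  have hϖnu : ϖ ∈ W.nonunits := by
    apply nonunits_of_pow_nonunits W ϖ b
    rw [← hI2]
    exact TensG.nonunits_mul hPnu (pow_mem hθW s')
  have hϖW : ϖ ∈ W := W.nonunits_subset hϖnu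
  have hP' : jV π' = ϖ ^ b * (θ⁻¹) ^ s' := by
    rw [← hI2, inv_pow, mul_assoc, mul_inv_cancel₀ (pow_ne_zero _ hθ0), mul_one]
  have hQ' : jB πB = ϖ ^ a * (θ⁻¹) ^ r' := by
    rw [← hI3, inv_pow, mul_assoc, mul_inv_cancel₀ (pow_ne_zero _ hθ0), mul_one]
  -- the subring
  let Cs : Subring F := Subring.closure (Set.range jV ∪ Set.range jB ∪ {θ, ϖ})
  have hCV : ∀ v, jV v ∈ Cs := fun v => Subring.subset_closure (Or.inl (Or.inl ⟨v, rfl⟩))
  have hCB : ∀ x, jB x ∈ Cs := fun x => Subring.subset_closure (Or.inl (Or.inr ⟨x, rfl⟩))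
  have hCθ : θ ∈ Cs := Subring.subset_closure (Or.inr (Or.inl rfl))
  have hCϖ : ϖ ∈ Cs := Subring.subset_closure (Or.inr (Or.inr rfl))
  have hθinv_eq : θ⁻¹ = θ ^ (g - 1) * (jV (u' : W.comap jK') * jB ((u⁻¹ : Bˣ) : B)) := by
    rw [← hθinvg]
    obtain ⟨g', rfl⟩ := Nat.exists_eq_succ_of_ne_zero hgpos.ne'
    rw [Nat.succ_sub_one, pow_succ, inv_pow, ← mul_assoc, mul_inv_cancel₀ (pow_ne_zero _ hθ0), one_mul]
  have hCθinv : θ⁻¹ ∈ Cs := by
    rw [hθinv_eq]
    exact Cs.mul_mem (Cs.pow_mem hCθ _) (Cs.mul_mem (hCV _) (hCB _))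
  have hCW : ∀ c : Cs, (c : F) ∈ W := by
    intro c
    have : Cs ≤ W.toSubring := by
      apply Subring.closure_le.mpr
      rintro x ((⟨v, rfl⟩ | ⟨b, rfl⟩) | (rfl | rfl))
      · exact v.2
      · exact hW.1 b
      · exact hθW
      · exact hϖW
    exact this c.2
  let t : Cs := ⟨ϖ, hCϖ⟩
  let θC : Cs := ⟨θ, hCθ⟩
  let θiC : Cs := ⟨θ⁻¹, hCθinv⟩
  let iV : (W.comap jK') →+* Cs := jV.codRestrict Cs hCV
  let iB : B →+* Cs := jB.codRestrict Cs hCB
  have hiVπ : iV π' = t ^ b * θiC ^ s' := Subtype.ext hP'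
  have hiBπ : iB πB = t ^ a * θiC ^ r' := Subtype.ext hQ'
  have hθCg : θC ^ g = iB (u : B) * iV ((u'⁻¹ : (W.comap jK')ˣ) : W.comap jK') := Subtype.ext hθg
  -- the maps to the quotient
  let qV : ResidueField (W.comap jK') →+* Cs ⧸ Ideal.span {t} :=
    Ideal.Quotient.lift (maximalIdeal (W.comap jK'))
      ((Ideal.Quotient.mk (Ideal.span {t})).comp iV) (by
        intro v hv
        rw [hmV', Ideal.mem_span_singleton'] at hv
        obtain ⟨v', rfl⟩ := hv
        show Ideal.Quotient.mk (Ideal.span {t}) (iV (v' * π')) = 0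
        rw [Ideal.Quotient.eq_zero_iff_mem, map_mul, hiVπ]
        obtain ⟨b', rfl⟩ := Nat.exists_eq_succ_of_ne_zero hb0.ne'
        rw [pow_succ]
        refine Ideal.mul_mem_left _ _ (Ideal.mul_mem_right _ _ (Ideal.mul_mem_left _ _ (Ideal.subset_span rfl))))
  let qB : ResidueField B →+* Cs ⧸ Ideal.span {t} :=
    Ideal.Quotient.lift (maximalIdeal B)
      ((Ideal.Quotient.mk (Ideal.span {t})).comp iB) (by
        intro x hx
        rw [hmB, Ideal.mem_span_singleton'] at hx
        obtain ⟨x', rfl⟩ := hx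
        show Ideal.Quotient.mk (Ideal.span {t}) (iB (x' * πB)) = 0
        rw [Ideal.Quotient.eq_zero_iff_mem, map_mul, hiBπ]
        obtain ⟨a', rfl⟩ := Nat.exists_eq_succ_of_ne_zero ha0.ne'
        rw [pow_succ]
        refine Ideal.mul_mem_left _ _ (Ideal.mul_mem_right _ _ (Ideal.mul_mem_left _ _ (Ideal.subset_span rfl))))
  have hqV : ∀ v, qV (residue _ v) = Ideal.Quotient.mk (Ideal.span {t}) (iV v) := fun v => rfl
  have hqB : ∀ x, qB (residue _ x) = Ideal.Quotient.mk (Ideal.span {t}) (iB x) := fun x => rfl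
  letI algQ : Algebra (ResidueField A) (Cs ⧸ Ideal.span {t}) :=
    (qV.comp (algebraMap (ResidueField A) (ResidueField (W.comap jK')))).toAlgebra
  let gV : ResidueField (W.comap jK') →ₐ[ResidueField A] Cs ⧸ Ideal.span {t} :=
    { toRingHom := qV
      commutes' := fun _ => rfl }
  let gB : ResidueField B →ₐ[ResidueField A] Cs ⧸ Ideal.span {t} :=
    { toRingHom := qB
      commutes' := fun r => by
        obtain ⟨x, rfl⟩ := residue_surjective r
        show qB (algebraMap (ResidueField A) (ResidueField B) (residue A x)) =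
          qV (algebraMap (ResidueField A) (ResidueField (W.comap jK')) (residue A x))
        rw [ResidueField.algebraMap_residue, ResidueField.algebraMap_residue, hqB, hqV]
        congr 1
        exact Subtype.ext (hcompat x).symm }
  let σT : ResidueField B ⊗[ResidueField A] ResidueField (W.comap jK') →ₐ[ResidueField A]
      Cs ⧸ Ideal.span {t} := Algebra.TensorProduct.lift gB gV (fun _ _ => Commute.all _ _)
  have hσT : ∀ x v, σT (x ⊗ₜ v) = qB x * qV v := fun x v => Algebra.TensorProduct.lift_tmul _ _ _ x v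
  -- the unit ε
  let ε : (ResidueField B ⊗[ResidueField A] ResidueField (W.comap jK'))ˣ :=
    { val := (residue B (u : B)) ⊗ₜ (residue _ ((u'⁻¹ : (W.comap jK')ˣ) : W.comap jK'))
      inv := (residue B ((u⁻¹ : Bˣ) : B)) ⊗ₜ (residue _ (u' : W.comap jK'))
      val_inv := by
        rw [Algebra.TensorProduct.tmul_mul_tmul, ← map_mul, ← map_mul, Units.inv_mul, Units.mul_inv,
          map_one, map_one]; rfl
      inv_val := by
        rw [Algebra.TensorProduct.tmul_mul_tmul, ← map_mul, ← map_mul, Units.inv_mul, Units.mul_inv,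
          map_one, map_one]; rfl }
  haveI : Algebra.IsIntegral (ResidueField B)
      (ResidueField B ⊗[ResidueField A] ResidueField (W.comap jK')) := inferInstance
  have hvnrT' : ∀ x : AdjoinRoot (X ^ g - Polynomial.C (ε : ResidueField B ⊗[ResidueField A]
      ResidueField (W.comap jK'))), ∃ z, x = x * x * z := by
    apply Sol1982.vnr_adjoinRoot (k := ResidueField B)
    · exact Polynomial.monic_X_pow_sub_C _ hgpos.ne'
    · apply Polynomial.separable_X_pow_sub_C_unit ε
      have : ((g : ℕ) : ResidueField B ⊗[ResidueField A] ResidueField (W.comap jK')) =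
          algebraMap (ResidueField A) (ResidueField B ⊗[ResidueField A] ResidueField (W.comap jK'))
            (g : ResidueField A) := by
        rw [map_natCast]
      rw [this]
      exact (IsUnit.mk0 _ hg0).map _
  have hroot : (X ^ g - Polynomial.C (ε : ResidueField B ⊗[ResidueField A]
      ResidueField (W.comap jK'))).eval₂ σT.toRingHom
      (Ideal.Quotient.mk (Ideal.span {t}) θC) = 0 := by
    rw [eval₂_sub, eval₂_pow, eval₂_X, eval₂_C]
    show (Ideal.Quotient.mk (Ideal.span {t}) θC) ^ g - σT ((residue B (u : B)) ⊗ₜ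
      (residue _ ((u'⁻¹ : (W.comap jK')ˣ) : W.comap jK'))) = 0
    rw [hσT, hqB, hqV, ← map_pow, ← map_mul, hθCg, sub_self]
  let σ' : AdjoinRoot (X ^ g - Polynomial.C (ε : ResidueField B ⊗[ResidueField A]
      ResidueField (W.comap jK'))) →+* Cs ⧸ Ideal.span {t} :=
    AdjoinRoot.lift σT.toRingHom _ hroot
  have hσ'of : ∀ r, σ' (AdjoinRoot.of _ r) = σT r := fun r => AdjoinRoot.lift_of hroot
  have hσ'root : σ' (AdjoinRoot.root _) = Ideal.Quotient.mk (Ideal.span {t}) θC :=
    AdjoinRoot.lift_root hroot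
  have hσ'surj : Function.Surjective σ' := by
    intro q
    obtain ⟨c, rfl⟩ := Ideal.Quotient.mk_surjective q
    obtain ⟨c, hc⟩ := c
    induction hc using Subring.closure_induction with
    | mem x hx =>
      rcases hx with (⟨v, rfl⟩ | ⟨b, rfl⟩) | (rfl | rfl)
      · exact ⟨AdjoinRoot.of _ ((1 : ResidueField B) ⊗ₜ (residue _ v)), by
          rw [hσ'of, hσT, map_one, one_mul, hqV]; rfl⟩
      · exact ⟨AdjoinRoot.of _ ((residue _ b) ⊗ₜ (1 : ResidueField (W.comap jK'))), by
          rw [hσ'of, hσT, map_one, mul_one, hqB]; rfl⟩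
      · exact ⟨AdjoinRoot.root _, hσ'root⟩
      · refine ⟨0, ?_⟩
        rw [map_zero]
        symm
        rw [Ideal.Quotient.eq_zero_iff_mem]
        exact Ideal.subset_span rfl
    | zero => exact ⟨0, by rw [map_zero]; rfl⟩
    | one => exact ⟨1, by rw [map_one]; rfl⟩
    | add x y hx hy ihx ihy =>
      obtain ⟨a, ha⟩ := ihx
      obtain ⟨b, hb⟩ := ihy
      exact ⟨a + b, by rw [map_add, ha, hb]; rfl⟩
    | neg x hx ihx =>
      obtain ⟨a, ha⟩ := ihx
      exact ⟨-a, by rw [map_neg, ha]; rfl⟩
    | mul x y hx hy ihx ihy =>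
      obtain ⟨a, ha⟩ := ihx
      obtain ⟨b, hb⟩ := ihy
      exact ⟨a * b, by rw [map_mul, ha, hb]; rfl⟩
  -- generation of F
  have hgenF : ∀ S : Subfield F, (∀ c : Cs, (c : F) ∈ S) → S = ⊤ := by
    intro S hS
    have hS1 : ∀ v, jV v ∈ S := fun v => hS ⟨jV v, hCV v⟩
    have hS2 : ∀ x, jB x ∈ S := fun x => hS ⟨jB x, hCB x⟩
    have hK' : ∀ k : K', jK' k ∈ S := by
      intro k
      obtain ⟨v, v', hv', rfl⟩ := IsFractionRing.div_surjective (A := (W.comap jK')) k
      rw [map_div₀]
      exact S.div_mem (hS1 v) (hS1 v')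
    have hL : ∀ l : L, jL l ∈ S := by
      intro l
      obtain ⟨x, x', hx', rfl⟩ := IsFractionRing.div_surjective (A := B) l
      rw [map_div₀]
      exact S.div_mem (hS2 x) (hS2 x')
    rw [eq_top_iff]
    intro f hf
    clear hf
    obtain ⟨τ, rfl⟩ := hF f
    induction τ using TensorProduct.induction_on with
    | zero => rw [map_zero]; exact S.zero_mem
    | tmul k l =>
      have : k ⊗ₜ[K] l = (k ⊗ₜ[K] (1 : L)) * ((1 : K') ⊗ₜ[K] l) := by
        rw [Algebra.TensorProduct.tmul_mul_tmul, mul_one, one_mul]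
      rw [this, map_mul, ← hjK', ← hjL]
      exact S.mul_mem (hK' k) (hL l)
    | add x y hx hy => rw [map_add]; exact S.add_mem hx hy
  obtain ⟨hmax, hfrac⟩ := Sol1982.lemmaH W Cs hCW t hϖnu hϖ0 hvnrT' σ' hσ'surj hgenF
  have hcl : Cs ≤ W.toSubring := fun x hx => hCW ⟨x, hx⟩
  refine ⟨?_, ?_⟩
  · -- separable residue field extension
    letI algAW : Algebra A W := ((algebraMap B W).comp (algebraMap A B)).toAlgebra
    haveI : IsScalarTower A B W := IsScalarTower.of_algebraMap_eq (fun _ => rfl)
    haveI hlocAW : IsLocalHom (algebraMap A W) :=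
      RingHom.isLocalHom_comp (algebraMap B W) (algebraMap A B)
    letI algV'W : Algebra (W.comap jK') W := (EtRam.inclOfComap W jK').toAlgebra
    haveI hlocV'W : IsLocalHom (algebraMap (W.comap jK') W) := EtRam.isLocalHom_inclOfComap W jK'
    haveI : IsScalarTower A (W.comap jK') W := IsScalarTower.of_algebraMap_eq (fun a =>
      Subtype.ext (hAcompat a).symm)
    have hsepV : ∀ v : W.comap jK', residue W ⟨jV v, hjVW v⟩ ∈
        separableClosure (ResidueField B) (ResidueField W) := by
      intro v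
      have e1 : residue W ⟨jV v, hjVW v⟩ =
          algebraMap (ResidueField (W.comap jK')) (ResidueField W) (residue _ v) := rfl
      rw [e1, mem_separableClosure_iff]
      have h1 : IsSeparable (ResidueField A) (residue (W.comap jK') v) :=
        Algebra.IsSeparable.isSeparable _ _
      have h2 : IsSeparable (ResidueField A)
          (algebraMap (ResidueField (W.comap jK')) (ResidueField W) (residue _ v)) :=
        h1.map (IsScalarTower.toAlgHom (ResidueField A) (ResidueField (W.comap jK'))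
          (ResidueField W)) (RingHom.injective _)
      exact h2.tower_top (ResidueField B)
    have hsepB : ∀ x : B, residue W ⟨jB x, hjBW x⟩ ∈
        separableClosure (ResidueField B) (ResidueField W) := by
      intro x
      have : residue W ⟨jB x, hjBW x⟩ =
          algebraMap (ResidueField B) (ResidueField W) (residue B x) := rfl
      rw [this]
      exact IntermediateField.algebraMap_mem _ _
    have hsepθ : residue W ⟨θ, hθW⟩ ∈ separableClosure (ResidueField B) (ResidueField W) := by
      have hu'res0 : residue W ⟨jV (u' : W.comap jK'), hjVW _⟩ ≠ 0 := by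
        rw [residue_ne_zero_iff_isUnit]
        exact (u'.isUnit.map (EtRam.inclOfComap W jK'))
      have hrel : (residue W ⟨θ, hθW⟩) ^ g * residue W ⟨jV (u' : W.comap jK'), hjVW _⟩ =
          residue W ⟨jB (u : B), hjBW _⟩ := by
        rw [← map_pow, ← map_mul]
        congr 1
        exact Subtype.ext hI1
      have hc : residue W ⟨jB (u : B), hjBW _⟩ * (residue W ⟨jV (u' : W.comap jK'), hjVW _⟩)⁻¹ ∈
          separableClosure (ResidueField B) (ResidueField W) :=
        mul_mem (hsepB _) (inv_mem (hsepV _))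
      have hθgc : (residue W ⟨θ, hθW⟩) ^ g =
          residue W ⟨jB (u : B), hjBW _⟩ * (residue W ⟨jV (u' : W.comap jK'), hjVW _⟩)⁻¹ := by
        rw [← hrel, mul_assoc, mul_inv_cancel₀ hu'res0, mul_one]
      have hθres0 : residue W ⟨θ, hθW⟩ ≠ 0 := by
        rw [residue_ne_zero_iff_isUnit]
        exact ⟨⟨⟨θ, hθW⟩, ⟨θ⁻¹, hθinvW⟩, Subtype.ext (mul_inv_cancel₀ hθ0),
          Subtype.ext (inv_mul_cancel₀ hθ0)⟩, rfl⟩
      have hgW : ((g : ℕ) : ResidueField W) ≠ 0 := by
        have h1 : ((g : ℕ) : ResidueField W) =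
            algebraMap (ResidueField A) (ResidueField W) (g : ResidueField A) := by
          rw [map_natCast]
        rw [h1, Ne, map_eq_zero]
        exact hg0
      set c' : separableClosure (ResidueField B) (ResidueField W) :=
        ⟨residue W ⟨jB (u : B), hjBW _⟩ * (residue W ⟨jV (u' : W.comap jK'), hjVW _⟩)⁻¹, hc⟩ with hc'def
      have hc'0 : c' ≠ 0 := by
        intro h0
        have h1 : (c' : ResidueField W) = 0 := by rw [h0]; rfl
        have h2 : (residue W ⟨θ, hθW⟩) ^ g = 0 := by rw [hθgc]; exact h1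
        exact hθres0 (pow_eq_zero_iff hgpos.ne' |>.mp h2)
      have hgS : ((g : ℕ) : separableClosure (ResidueField B) (ResidueField W)) ≠ 0 := by
        intro h0
        apply hgW
        have h1 : algebraMap (separableClosure (ResidueField B) (ResidueField W)) (ResidueField W)
            ((g : ℕ) : separableClosure (ResidueField B) (ResidueField W)) = 0 := by
          rw [h0, map_zero]
        rw [map_natCast] at h1
        exact h1
      have hpolysep : (X ^ g - Polynomial.C c' :
          (separableClosure (ResidueField B) (ResidueField W))[X]).Separable :=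
        Polynomial.separable_X_pow_sub_C c' hgS hc'0
      have haeval : Polynomial.aeval (residue W ⟨θ, hθW⟩) (X ^ g - Polynomial.C c' :
          (separableClosure (ResidueField B) (ResidueField W))[X]) = 0 := by
        rw [map_sub, map_pow, aeval_X, aeval_C, hθgc]
        exact sub_self _
      have hsepS : IsSeparable (separableClosure (ResidueField B) (ResidueField W))
          (residue W ⟨θ, hθW⟩) :=
        hpolysep.of_dvd (minpoly.dvd _ _ haeval)
      rw [mem_separableClosure_iff]
      exact IsSeparable.of_algebra_isSeparable_of_isSeparable (ResidueField B) hsepS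
    have hsepC : ∀ (x : F) (hx : x ∈ Cs), residue W ⟨x, hcl hx⟩ ∈
        separableClosure (ResidueField B) (ResidueField W) := by
      intro x hx
      induction hx using Subring.closure_induction with
      | mem x hx =>
        rcases hx with (⟨v, rfl⟩ | ⟨b, rfl⟩) | (rfl | rfl)
        · exact hsepV v
        · exact hsepB b
        · exact hsepθ
        · have : residue W ⟨ϖ, hϖW⟩ = 0 := by
            rw [residue_eq_zero_iff]
            exact (W.coe_mem_nonunits_iff (a := (⟨ϖ, hϖW⟩ : W))).mp hϖnu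
          rw [this]
          exact zero_mem _
      | zero =>
        have : residue W ⟨0, hcl (zero_mem _)⟩ = 0 := map_zero _
        rw [this]; exact zero_mem _
      | one =>
        have : residue W ⟨1, hcl (one_mem _)⟩ = 1 := map_one _
        rw [this]; exact one_mem _
      | add x y hx hy ihx ihy =>
        have : residue W ⟨x + y, hcl (add_mem hx hy)⟩ =
            residue W ⟨x, hcl hx⟩ + residue W ⟨y, hcl hy⟩ := by
          rw [← map_add]; rfl
        rw [this]; exact add_mem ihx ihy
      | neg x hx ihx =>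
        have : residue W ⟨-x, hcl (neg_mem hx)⟩ = - residue W ⟨x, hcl hx⟩ := by
          rw [← map_neg]; rfl
        rw [this]; exact neg_mem ihx
      | mul x y hx hy ihx ihy =>
        have : residue W ⟨x * y, hcl (mul_mem hx hy)⟩ =
            residue W ⟨x, hcl hx⟩ * residue W ⟨y, hcl hy⟩ := by
          rw [← map_mul]; rfl
        rw [this]; exact mul_mem ihx ihy
    constructor
    intro wbar
    obtain ⟨w, rfl⟩ := residue_surjective wbar
    obtain ⟨c, s, hs, hw⟩ := hfrac (w : F) w.2
    have hsu : IsUnit (⟨(s : F), hCW s⟩ : W) := by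
      by_contra hns
      exact hs ((W.coe_mem_nonunits_iff (a := (⟨(s : F), hCW s⟩ : W))).mpr hns)
    have hs0 : (s : F) ≠ 0 := (TensG.not_nonunits hs).1
    have hmul : w * (⟨(s : F), hCW s⟩ : W) = ⟨(c : F), hCW c⟩ := by
      apply Subtype.ext
      show (w : F) * (s : F) = (c : F)
      rw [hw, div_mul_cancel₀ _ hs0]
    have hres' : residue W w * residue W ⟨(s : F), hCW s⟩ = residue W ⟨(c : F), hCW c⟩ := by
      rw [← map_mul, hmul]
    have hsres0 : residue W ⟨(s : F), hCW s⟩ ≠ 0 := (residue_ne_zero_iff_isUnit _).mpr hsu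
    have hw' : residue W w = residue W ⟨(c : F), hCW c⟩ * (residue W ⟨(s : F), hCW s⟩)⁻¹ := by
      rw [← hres', mul_assoc, mul_inv_cancel₀ hsres0, mul_one]
    rw [← mem_separableClosure_iff, hw']
    exact mul_mem (hsepC c c.2) (inv_mem (hsepC s s.2))
  · -- the ramification index
    let ϖW : W := ⟨ϖ, hϖW⟩
    have hmW : maximalIdeal W = Ideal.span {ϖW} := by
      apply le_antisymm
      · intro x hx
        have hxnu : (x : F) ∈ W.nonunits := (W.coe_mem_nonunits_iff (a := x)).mpr hx
        obtain ⟨w', hw', hxw⟩ := hmax _ hxnu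
        rw [Ideal.mem_span_singleton']
        exact ⟨⟨w', hw'⟩, Subtype.ext (by rw [hxw]; exact mul_comm _ _)⟩
      · rw [Ideal.span_le]
        rintro _ rfl
        exact (W.coe_mem_nonunits_iff (a := ϖW)).mp hϖnu
    have hϖWirr : Irreducible ϖW := (IsDiscreteValuationRing.irreducible_iff_uniformizer ϖW).mpr hmW
    have hinjBW : Function.Injective (algebraMap B W) := by
      intro x y hxy
      exact hjBinj (congrArg Subtype.val hxy)
    obtain ⟨hidx0, uW, huW⟩ := Sol1982.ramIdx_spec B W hinjBW πB hπB ϖW hϖWirr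
    let θU : Wˣ := ⟨⟨θ⁻¹, hθinvW⟩, ⟨θ, hθW⟩, Subtype.ext (inv_mul_cancel₀ hθ0),
      Subtype.ext (mul_inv_cancel₀ hθ0)⟩
    have hQW : algebraMap B W πB = ((θU ^ r' : Wˣ) : W) * ϖW ^ a := by
      rw [Units.val_pow_eq_pow_val]
      apply Subtype.ext
      show jB πB = (θ⁻¹) ^ r' * ϖ ^ a
      rw [hQ', mul_comm]
    have hidx : Ideal.ramificationIdx' (maximalIdeal B) (maximalIdeal W) = a :=
      IsDiscreteValuationRing.unit_mul_pow_congr_pow hϖWirr hϖWirr uW (θU ^ r') _ a
        (huW.symm.trans hQW)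
    intro p hp hcharB hdvd
    haveI : CharP (ResidueField A) p :=
      RingHom.charP (algebraMap (ResidueField A) (ResidueField B)) (RingHom.injective _) p
    rw [hidx] at hdvd
    exact htame' p hp inferInstance hdvd

end S9307

end Groth.Agent.Lib.Helper26.TameBC
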