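import Mathlib
import Groth.Prelude.Def_EtRam
import Groth.Agent.Lib.Helper26.TameSub
import Groth.Agent.Lib.Helper26.SolDesc

set_option autoImplicit false
set_option linter.unusedVariables false
set_option linter.style.haveILetI false
set_option linter.unusedSectionVars false
set_option linter.unusedSimpArgs false

universe u

namespace Groth.Agent.Lib.Helper26.TotRam

open IsLocalRing TensorProduct Groth.Agent.Lib.Helper26.TameSub

section DVRcrit

/-- A Noetherian local ring whose maximal ideal is generated by a non-nilpotent element `t`: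
every nonzero element is a unit times a power of `t`. -/
theorem exists_unit_mul_pow {R : Type u} [CommRing R] [IsNoetherianRing R] [IsLocalRing R] (t : R)
    (ht : maximalIdeal R = Ideal.span {t}) (x : R) (hx : x ≠ 0) :
    ∃ (n : ℕ) (u : Rˣ), x = u * t ^ n := by
  classical
  have hinf : ⨅ n : ℕ, (maximalIdeal R) ^ n = ⊥ :=
    Ideal.iInf_pow_eq_bot_of_isLocalRing _ Ideal.IsPrime.ne_top'
  have hex : ∃ n : ℕ, x ∉ (maximalIdeal R) ^ n := by
    by_contra hcon
    push Not at hcon
    have : x ∈ ⨅ n : ℕ, (maximalIdeal R) ^ n := by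
      rw [Ideal.mem_iInf]; exact hcon
    rw [hinf, Ideal.mem_bot] at this
    exact hx this
  let n := Nat.find hex
  have hn : x ∉ (maximalIdeal R) ^ n := Nat.find_spec hex
  have hn0 : n ≠ 0 := by
    intro h0
    rw [h0, pow_zero, Ideal.one_eq_top] at hn
    exact hn trivial
  obtain ⟨m, hm⟩ := Nat.exists_eq_succ_of_ne_zero hn0
  have hm' : x ∈ (maximalIdeal R) ^ m := by
    by_contra hcon
    have := Nat.find_min' hex hcon
    omega
  rw [ht, Ideal.span_singleton_pow, Ideal.mem_span_singleton'] at hm'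
  obtain ⟨y, hy⟩ := hm'
  have hyu : IsUnit y := by
    by_contra hyn
    have hym : y ∈ maximalIdeal R := hyn
    rw [ht, Ideal.mem_span_singleton'] at hym
    obtain ⟨z, hz⟩ := hym
    apply hn
    rw [hm, ht, Ideal.span_singleton_pow, Ideal.mem_span_singleton']
    exact ⟨z, by rw [← hy, ← hz, pow_succ]; ring⟩
  obtain ⟨u, rfl⟩ := hyu
  exact ⟨m, u, hy.symm⟩

theorem isDomain_of_principal {R : Type u} [CommRing R] [IsNoetherianRing R] [IsLocalRing R] (t : R)
    (ht : maximalIdeal R = Ideal.span {t}) (hnil : ¬ IsNilpotent t) : IsDomain R := by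
  haveI : Nontrivial R := inferInstance
  have : NoZeroDivisors R := by
    constructor
    intro a b hab
    by_contra hcon
    push Not at hcon
    obtain ⟨n, u, rfl⟩ := exists_unit_mul_pow t ht a hcon.1
    obtain ⟨m, v, rfl⟩ := exists_unit_mul_pow t ht b hcon.2
    apply hnil
    refine ⟨n + m, ?_⟩
    have h1 : (u : R) * v * t ^ (n + m) = 0 := by rw [← hab, pow_add]; ring
    have h2 := congrArg (fun z => ((u⁻¹ : Rˣ) : R) * ((v⁻¹ : Rˣ) : R) * z) h1
    simp only [mul_zero] at h2
    rw [← h2]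
    have e1 : ((u⁻¹ : Rˣ) : R) * (u : R) = 1 := Units.inv_mul u
    have e2 : ((v⁻¹ : Rˣ) : R) * (v : R) = 1 := Units.inv_mul v
    calc t ^ (n + m) = (((u⁻¹ : Rˣ) : R) * (u : R)) * (((v⁻¹ : Rˣ) : R) * (v : R)) * t ^ (n + m) := by
          rw [e1, e2]; ring
      _ = _ := by ring
  exact NoZeroDivisors.to_isDomain R

theorem isDVR_of_principal {R : Type u} [CommRing R] [IsNoetherianRing R] [IsLocalRing R] (t : R)
    (ht : maximalIdeal R = Ideal.span {t}) (hnil : ¬ IsNilpotent t) [IsDomain R] :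
    IsDiscreteValuationRing R := by
  have ht0 : t ≠ 0 := fun h => hnil (h ▸ IsNilpotent.zero)
  apply IsDiscreteValuationRing.ofHasUnitMulPowIrreducibleFactorization
  refine ⟨t, ?_, ?_⟩
  · have hprime : (Ideal.span {t}).IsPrime := ht ▸ inferInstance
    exact ((Ideal.span_singleton_prime ht0).mp hprime).irreducible
  · intro x hx
    obtain ⟨n, u, rfl⟩ := exists_unit_mul_pow t ht x hx
    exact ⟨n, u, by ring⟩

end DVRcrit

section TensorDVR

variable (A B V : Type u) [CommRing A] [IsDomain A] [IsDiscreteValuationRing A]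
  [CommRing B] [IsDomain B] [IsDiscreteValuationRing B]
  [CommRing V] [IsDomain V] [IsDiscreteValuationRing V]
  [Algebra A B] [Algebra A V] [IsLocalHom (algebraMap A B)] [IsLocalHom (algebraMap A V)]
  [Module.Finite A V]

variable {A B V}

theorem decomp (hres : Function.Surjective (fun a : A => residue V (algebraMap A V a)))
    (π₁ : V) (hπ₁ : Irreducible π₁) (x : B ⊗[A] V) :
    ∃ (b : B) (y : B ⊗[A] V), x = b ⊗ₜ[A] (1 : V) + ((1 : B) ⊗ₜ[A] π₁) * y := by
  have hmV : maximalIdeal V = Ideal.span {π₁} :=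
    (IsDiscreteValuationRing.irreducible_iff_uniformizer π₁).mp hπ₁
  induction x using TensorProduct.induction_on with
  | zero => exact ⟨0, 0, by simp⟩
  | tmul b v =>
    obtain ⟨a, ha⟩ := hres (residue V v)
    have hmem : v - algebraMap A V a ∈ maximalIdeal V := by
      rw [← residue_eq_zero_iff, map_sub, sub_eq_zero]; exact ha.symm
    rw [hmV, Ideal.mem_span_singleton'] at hmem
    obtain ⟨v', hv'⟩ := hmem
    refine ⟨a • b, b ⊗ₜ[A] v', ?_⟩
    have hv : v = algebraMap A V a + π₁ * v' := by rw [mul_comm, hv']; ring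
    rw [Algebra.TensorProduct.tmul_mul_tmul, one_mul, TensorProduct.smul_tmul,
      ← TensorProduct.tmul_add]
    congr 1
    rw [hv, Algebra.smul_def, mul_one]
  | add x y hx hy =>
    obtain ⟨b1, y1, rfl⟩ := hx
    obtain ⟨b2, y2, rfl⟩ := hy
    exact ⟨b1 + b2, y1 + y2, by rw [TensorProduct.add_tmul]; ring⟩

theorem tmul_one_mem_span (hw : (maximalIdeal A).map (algebraMap A B) = maximalIdeal B)
    (π₁ : V) (hπ₁ : Irreducible π₁) (b : B) (hb : b ∈ maximalIdeal B) :
    b ⊗ₜ[A] (1 : V) ∈ Ideal.span {(1 : B) ⊗ₜ[A] π₁} := by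
  have hmV : maximalIdeal V = Ideal.span {π₁} :=
    (IsDiscreteValuationRing.irreducible_iff_uniformizer π₁).mp hπ₁
  rw [← hw] at hb
  refine Submodule.span_induction ?_ ?_ ?_ ?_ hb
  · rintro _ ⟨a, ha, rfl⟩
    have haV : algebraMap A V a ∈ maximalIdeal V := by
      have := ((local_hom_TFAE (algebraMap A V)).out 0 3).mp ‹_›
      exact this ha
    rw [hmV, Ideal.mem_span_singleton'] at haV
    obtain ⟨v, hv⟩ := haV
    rw [Ideal.mem_span_singleton']
    refine ⟨(1 : B) ⊗ₜ[A] v, ?_⟩
    rw [Algebra.TensorProduct.tmul_mul_tmul, one_mul, hv, Algebra.algebraMap_eq_smul_one,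
      Algebra.algebraMap_eq_smul_one, TensorProduct.smul_tmul]
  · rw [TensorProduct.zero_tmul]; exact Ideal.zero_mem _
  · intro x y _ _ hx hy
    rw [TensorProduct.add_tmul]; exact Ideal.add_mem _ hx hy
  · intro c x _ hx
    have : (c • x) ⊗ₜ[A] (1 : V) = (c ⊗ₜ[A] (1 : V)) * (x ⊗ₜ[A] (1 : V)) := by
      rw [Algebra.TensorProduct.tmul_mul_tmul, one_mul, smul_eq_mul]
    rw [this]
    exact Ideal.mul_mem_left _ _ hx


/-- `1 ⊗ π₁` lies in every prime of `B ⊗ V` containing the image of the uniformizer of `A`. -/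
theorem t_mem_of_prime (hinjV : Function.Injective (algebraMap A V))
    (π : A) (hπ : Irreducible π) (π₁ : V) (hπ₁ : Irreducible π₁)
    (Q : Ideal (B ⊗[A] V)) [Q.IsPrime] (hQ : (algebraMap A B π) ⊗ₜ[A] (1 : V) ∈ Q) :
    (1 : B) ⊗ₜ[A] π₁ ∈ Q := by
  have h0 : algebraMap A V π ≠ 0 := fun h => hπ.ne_zero (hinjV (by rw [h, map_zero]))
  obtain ⟨e, u, hu⟩ := IsDiscreteValuationRing.eq_unit_mul_pow_irreducible h0 hπ₁
  have h1 : ((1 : B) ⊗ₜ[A] π₁) ^ e =
      ((1 : B) ⊗ₜ[A] ((u⁻¹ : Vˣ) : V)) * ((algebraMap A B π) ⊗ₜ[A] (1 : V)) := by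
    rw [Algebra.TensorProduct.tmul_pow, one_pow, Algebra.TensorProduct.tmul_mul_tmul, one_mul,
      mul_one, Algebra.algebraMap_eq_smul_one, TensorProduct.smul_tmul, Algebra.smul_def,
      hu, mul_comm (u : V), mul_assoc, Units.mul_inv, mul_one]
  have h2 : ((1 : B) ⊗ₜ[A] π₁) ^ e ∈ Q := by rw [h1]; exact Q.mul_mem_left _ hQ
  exact Ideal.IsPrime.mem_of_pow_mem inferInstance e h2

theorem flat_aux (hinjV : Function.Injective (algebraMap A V)) : Module.FaithfullyFlat A V := by
  haveI : FaithfulSMul A V := (faithfulSMul_iff_algebraMap_injective A V).mpr hinjV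
  haveI : Module.Flat A V := inferInstance
  exact Module.FaithfullyFlat.of_flat_of_isLocalHom

theorem t_not_isUnit (hinjV : Function.Injective (algebraMap A V))
    (π₁ : V) (hπ₁ : Irreducible π₁) : ¬ IsUnit ((1 : B) ⊗ₜ[A] π₁) := by
  haveI := flat_aux (A := A) (V := V) hinjV
  haveI : Module.FaithfullyFlat B (B ⊗[A] V) := inferInstance
  obtain ⟨π, hπ⟩ := IsDiscreteValuationRing.exists_irreducible A
  obtain ⟨Q, hQprime, hQover⟩ :=
    Ideal.exists_isPrime_liesOver_of_faithfullyFlat (B := B ⊗[A] V) (maximalIdeal B)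
  have hπB : algebraMap A B π ∈ maximalIdeal B := by
    have := ((local_hom_TFAE (algebraMap A B)).out 0 3).mp ‹_›
    exact this (show π ∈ maximalIdeal A from hπ.not_isUnit)
  have hQ : (algebraMap A B π) ⊗ₜ[A] (1 : V) ∈ Q := by
    rw [hQover.over] at hπB
    exact hπB
  have := t_mem_of_prime hinjV π hπ π₁ hπ₁ Q hQ
  intro hu
  exact hQprime.ne_top (Ideal.eq_top_of_isUnit_mem _ this hu)

theorem span_t_isMaximal (hinjV : Function.Injective (algebraMap A V))
    (hw : (maximalIdeal A).map (algebraMap A B) = maximalIdeal B)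
    (hres : Function.Surjective (fun a : A => residue V (algebraMap A V a)))
    (π₁ : V) (hπ₁ : Irreducible π₁) : (Ideal.span {(1 : B) ⊗ₜ[A] π₁}).IsMaximal := by
  rw [Ideal.isMaximal_iff]
  refine ⟨?_, ?_⟩
  · intro h1
    rw [← Ideal.eq_top_iff_one, Ideal.span_singleton_eq_top] at h1
    exact t_not_isUnit hinjV π₁ hπ₁ h1
  · intro J x hIJ hxI hxJ
    obtain ⟨b, y, rfl⟩ := decomp hres π₁ hπ₁ x
    have hb : b ∉ maximalIdeal B := by
      intro hb
      apply hxI
      exact Ideal.add_mem _ (tmul_one_mem_span hw π₁ hπ₁ b hb)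
        (Ideal.mul_mem_right _ _ (Ideal.subset_span rfl))
    have hbu : IsUnit b := by
      by_contra h; exact hb h
    have hbJ : b ⊗ₜ[A] (1 : V) ∈ J := by
      have h2 : ((1 : B) ⊗ₜ[A] π₁) * y ∈ J :=
        J.mul_mem_right _ (hIJ (Ideal.subset_span rfl))
      have := J.sub_mem hxJ h2
      simpa using this
    have hbu' : IsUnit (b ⊗ₜ[A] (1 : V)) :=
      hbu.map (Algebra.TensorProduct.includeLeft : B →ₐ[A] B ⊗[A] V)
    have := Ideal.eq_top_of_isUnit_mem _ hbJ hbu'
    rw [this]; trivial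

theorem isLocalRing_tensor (hinjV : Function.Injective (algebraMap A V))
    (hw : (maximalIdeal A).map (algebraMap A B) = maximalIdeal B)
    (hres : Function.Surjective (fun a : A => residue V (algebraMap A V a)))
    (π₁ : V) (hπ₁ : Irreducible π₁) : IsLocalRing (B ⊗[A] V) := by
  have hmax := span_t_isMaximal (B := B) hinjV hw hres π₁ hπ₁
  haveI : Nontrivial (B ⊗[A] V) := by
    by_contra hnt
    rw [not_nontrivial_iff_subsingleton] at hnt
    exact hmax.ne_top (Subsingleton.elim _ _)
  refine IsLocalRing.of_unique_max_ideal ⟨Ideal.span {(1 : B) ⊗ₜ[A] π₁}, hmax, ?_⟩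
  intro 𝔪 h𝔪
  haveI : Algebra.IsIntegral B (B ⊗[A] V) := Algebra.IsIntegral.of_finite B _
  obtain ⟨π, hπ⟩ := IsDiscreteValuationRing.exists_irreducible A
  have hcomap : (𝔪.comap (algebraMap B (B ⊗[A] V))).IsMaximal :=
    Ideal.isMaximal_comap_of_isIntegral_of_isMaximal 𝔪
  have hcomap' : 𝔪.comap (algebraMap B (B ⊗[A] V)) = maximalIdeal B :=
    IsLocalRing.eq_maximalIdeal hcomap
  have hπB : algebraMap A B π ∈ maximalIdeal B := by
    have := ((local_hom_TFAE (algebraMap A B)).out 0 3).mp ‹_›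
    exact this (show π ∈ maximalIdeal A from hπ.not_isUnit)
  rw [← hcomap'] at hπB
  have hQ : (algebraMap A B π) ⊗ₜ[A] (1 : V) ∈ 𝔪 := hπB
  haveI := h𝔪.isPrime
  have ht := t_mem_of_prime hinjV π hπ π₁ hπ₁ 𝔪 hQ
  have hle : Ideal.span {(1 : B) ⊗ₜ[A] π₁} ≤ 𝔪 := by
    rw [Ideal.span_le]; rintro _ rfl; exact ht
  exact (hmax.eq_of_le h𝔪.ne_top hle).symm


theorem t_not_nilpotent (hinjB : Function.Injective (algebraMap A B))
    (hinjV : Function.Injective (algebraMap A V))
    (π₁ : V) (hπ₁ : Irreducible π₁) : ¬ IsNilpotent ((1 : B) ⊗ₜ[A] π₁) := by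
  rintro ⟨k, hk⟩
  obtain ⟨π, hπ⟩ := IsDiscreteValuationRing.exists_irreducible A
  have h0 : algebraMap A V π ≠ 0 := fun h => hπ.ne_zero (hinjV (by rw [h, map_zero]))
  obtain ⟨e, u, hu⟩ := IsDiscreteValuationRing.eq_unit_mul_pow_irreducible h0 hπ₁
  have h1 : (algebraMap A B π) ⊗ₜ[A] (1 : V) = ((1 : B) ⊗ₜ[A] (u : V)) * ((1 : B) ⊗ₜ[A] π₁) ^ e := by
    rw [Algebra.TensorProduct.tmul_pow, one_pow, Algebra.TensorProduct.tmul_mul_tmul, one_mul,
      ← hu, Algebra.algebraMap_eq_smul_one, Algebra.algebraMap_eq_smul_one, TensorProduct.smul_tmul]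
  have h2 : ((algebraMap A B π) ⊗ₜ[A] (1 : V)) ^ k = 0 := by
    rw [h1, mul_pow, ← pow_mul, mul_comm e k, pow_mul, hk, zero_pow, mul_zero]
    intro he
    rw [he, pow_zero] at hu
    -- e = 0 : then algebraMap π is a unit, impossible
    have hunit : IsUnit (algebraMap A V π) := by rw [hu, mul_one]; exact u.isUnit
    exact hπ.not_isUnit (isUnit_of_map_unit (algebraMap A V) π hunit)
  rw [Algebra.TensorProduct.tmul_pow, one_pow] at h2
  haveI : FaithfulSMul A B := (faithfulSMul_iff_algebraMap_injective A B).mpr hinjB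
  haveI : Module.Flat A B := inferInstance
  have hinj := Algebra.TensorProduct.includeLeft_injective (R := A) (S := A) (A := B) (B := V) hinjV
  have h3 : (Algebra.TensorProduct.includeLeft : B →ₐ[A] B ⊗[A] V) ((algebraMap A B π) ^ k) = 0 := h2
  rw [← map_zero (Algebra.TensorProduct.includeLeft : B →ₐ[A] B ⊗[A] V)] at h3
  have h4 := hinj h3
  have h5 : algebraMap A B π = 0 := pow_eq_zero_iff (by
    rintro rfl
    rw [pow_zero] at h4
    exact one_ne_zero h4) |>.mp h4
  exact hπ.ne_zero (hinjB (by rw [h5, map_zero]))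

theorem exists_isDVR_tensor (hinjB : Function.Injective (algebraMap A B))
    (hinjV : Function.Injective (algebraMap A V))
    (hw : (maximalIdeal A).map (algebraMap A B) = maximalIdeal B)
    (hres : Function.Surjective (fun a : A => residue V (algebraMap A V a)))
    (π₁ : V) (hπ₁ : Irreducible π₁) :
    ∃ (_ : IsDomain (B ⊗[A] V)) (_ : IsDiscreteValuationRing (B ⊗[A] V)),
      Irreducible ((1 : B) ⊗ₜ[A] π₁) := by
  haveI hloc : IsLocalRing (B ⊗[A] V) := isLocalRing_tensor hinjV hw hres π₁ hπ₁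
  haveI : IsNoetherianRing (B ⊗[A] V) := IsNoetherianRing.of_finite B _
  have hmax := span_t_isMaximal (B := B) hinjV hw hres π₁ hπ₁
  have hmeq : maximalIdeal (B ⊗[A] V) = Ideal.span {(1 : B) ⊗ₜ[A] π₁} :=
    (IsLocalRing.eq_maximalIdeal hmax).symm
  have hnil := t_not_nilpotent (B := B) hinjB hinjV π₁ hπ₁
  haveI hdom : IsDomain (B ⊗[A] V) := isDomain_of_principal _ hmeq hnil
  haveI hdvr : IsDiscreteValuationRing (B ⊗[A] V) := isDVR_of_principal _ hmeq hnil
  refine ⟨hdom, hdvr, ?_⟩
  rw [IsDiscreteValuationRing.irreducible_iff_uniformizer]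
  convert hmeq

end TensorDVR

section Aux

theorem exists_valuationSubring_of_prime {R F : Type u} [CommRing R] [Field F] (φ : R →+* F)
    (P : Ideal R) [hP : P.IsPrime] (hker : ∀ r, φ r = 0 → r ∈ P) :
    ∃ W' : ValuationSubring F, (∀ r, φ r ∈ W') ∧ (∀ r ∈ P, φ r ∈ W'.nonunits) := by
  have hItop : Ideal.map φ.rangeRestrict P ≠ ⊤ := by
    intro htop
    have h1 : (1 : φ.range) ∈ Ideal.map φ.rangeRestrict P := by rw [htop]; trivial
    rw [Ideal.mem_map_iff_of_surjective _ φ.rangeRestrict_surjective] at h1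
    obtain ⟨p, hp, hp1⟩ := h1
    have h2 : φ p = 1 := congrArg Subtype.val hp1
    have h3 : φ (p - 1) = 0 := by rw [map_sub, h2, map_one, sub_self]
    have h4 : p - 1 ∈ P := hker _ h3
    have h5 : (1 : R) ∈ P := by
      have := P.sub_mem hp h4
      simpa using this
    exact hP.ne_top ((Ideal.eq_top_iff_one P).mpr h5)
  obtain ⟨W', hW'le, hW'nu⟩ := Ideal.image_subset_nonunits_valuationSubring _ hItop
  refine ⟨W', fun r => hW'le ⟨r, rfl⟩, fun r hr => ?_⟩
  apply hW'nu
  exact ⟨φ.rangeRestrict r, Ideal.mem_map_of_mem _ hr, rfl⟩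

end Aux

section IntClosure

variable (A K : Type u) [CommRing A] [IsDomain A] [IsDiscreteValuationRing A] [Field K] [Algebra A K]
  [IsFractionRing A K] (K₁ : Type u) [Field K₁] [Algebra K K₁] [FiniteDimensional K K₁]
  [Algebra.IsSeparable K K₁]

/-- Under total ramification, the dominating valuation ring is the integral closure. -/
theorem mem_iff_isIntegral
    (ht : EtRam.IsTotallyRamified A ((algebraMap K K₁).comp (algebraMap A K)))
    (V : ValuationSubring K₁) (hV : EtRam.Dominates A ((algebraMap K K₁).comp (algebraMap A K)) V)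
    (x : K₁) :
    x ∈ V ↔ @IsIntegral A K₁ _ _ ((algebraMap K K₁).comp (algebraMap A K)).toAlgebra x := by
  classical
  letI : Algebra A K₁ := ((algebraMap K K₁).comp (algebraMap A K)).toAlgebra
  haveI : IsScalarTower A K K₁ := IsScalarTower.of_algebraMap_eq (fun _ => rfl)
  constructor
  swap
  · intro hx
    exact mem_of_isIntegral_of_le K₁ V (fun r => hV.1 r) x hx
  intro hxV
  haveI hDed : IsDedekindDomain (integralClosure A K₁) := integralClosure.isDedekindDomain A K K₁
  haveI hFr : IsFractionRing (integralClosure A K₁) K₁ :=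
    integralClosure.isFractionRing_of_finite_extension K K₁
  have hBV : ∀ x : K₁, x ∈ integralClosure A K₁ → x ∈ V := fun x hx =>
    mem_of_isIntegral_of_le K₁ V (fun r => hV.1 r) x hx
  -- every maximal ideal lies in the nonunits of V
  have hmaxnu : ∀ q : Ideal (integralClosure A K₁), q.IsMaximal →
      ∀ r ∈ q, ((r : integralClosure A K₁) : K₁) ∈ V.nonunits := by
    intro q hq r hr
    haveI := hq.isPrime
    obtain ⟨V', h1, h2⟩ := exists_valuationSubring_of_prime
      (algebraMap (integralClosure A K₁) K₁) q (fun r hr0 => by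
        have : r = 0 := (IsFractionRing.injective (integralClosure A K₁) K₁) (by rw [hr0, map_zero])
        rw [this]; exact q.zero_mem)
    have hV' : EtRam.Dominates A ((algebraMap K K₁).comp (algebraMap A K)) V' := by
      refine ⟨fun a => h1 (algebraMap A (integralClosure A K₁) a), fun a ha => ?_⟩
      have hcomap : (q.comap (algebraMap A (integralClosure A K₁))).IsMaximal :=
        Ideal.isMaximal_comap_of_isIntegral_of_isMaximal q
      have hcomap' : q.comap (algebraMap A (integralClosure A K₁)) = maximalIdeal A :=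
        IsLocalRing.eq_maximalIdeal hcomap
      rw [← hcomap'] at ha
      exact h2 _ ha
    have : V' = V := ht.2.1 V' V hV' hV
    rw [← this]
    exact h2 r hr
  -- the ideal q₀ = m_V ∩ A₁
  let ι : integralClosure A K₁ →+* V :=
    (algebraMap (integralClosure A K₁) K₁).codRestrict V.toSubring (fun b => hBV _ b.2)
  let q₀ : Ideal (integralClosure A K₁) := (maximalIdeal V).comap ι
  haveI hq₀p : q₀.IsPrime := Ideal.comap_isPrime ι _
  have hq₀mem : ∀ r, ((r : integralClosure A K₁) : K₁) ∈ V.nonunits → r ∈ q₀ := by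
    intro r hr
    show ι r ∈ maximalIdeal V
    exact (V.coe_mem_nonunits_iff (a := ι r)).mp hr
  have hq₀max : ∀ q : Ideal (integralClosure A K₁), q.IsMaximal → q = q₀ := by
    intro q hq
    exact hq.eq_of_le hq₀p.ne_top (fun r hr => hq₀mem r (hmaxnu q hq r hr))
  haveI hlocal : IsLocalRing (integralClosure A K₁) := by
    obtain ⟨q, hq⟩ := Ideal.exists_maximal (integralClosure A K₁)
    have := hq₀max q hq
    exact IsLocalRing.of_unique_max_ideal ⟨q₀, this ▸ hq, fun q' hq' => hq₀max q' hq'⟩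
  have hmeq : maximalIdeal (integralClosure A K₁) = q₀ :=
    hq₀max _ (maximalIdeal.isMaximal _)
  -- not a field
  obtain ⟨π, hπ⟩ := IsDiscreteValuationRing.exists_irreducible A
  have hπm : π ∈ maximalIdeal A := hπ.not_isUnit
  have hnf : ¬ IsField (integralClosure A K₁) := by
    intro hf
    have hπ0 : algebraMap A (integralClosure A K₁) π ≠ 0 := by
      intro h0
      have h1 : algebraMap A K₁ π = 0 := by
        rw [IsScalarTower.algebraMap_apply A (integralClosure A K₁) K₁, h0, map_zero]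
      have hinj : Function.Injective (algebraMap A K₁) :=
        (algebraMap K K₁).injective.comp (IsFractionRing.injective A K)
      exact hπ.ne_zero (hinj (by rw [h1, map_zero]))
    have hu : IsUnit (algebraMap A (integralClosure A K₁) π) := by
      obtain ⟨y, hy⟩ := hf.mul_inv_cancel hπ0
      exact IsUnit.of_mul_eq_one _ hy
    have hmem : algebraMap A (integralClosure A K₁) π ∈ q₀ := by
      apply hq₀mem
      exact hV.2 π hπm
    exact hq₀p.ne_top (Ideal.eq_top_of_isUnit_mem _ hmem hu)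
  haveI hDVR : IsDiscreteValuationRing (integralClosure A K₁) :=
    ((IsDiscreteValuationRing.TFAE (integralClosure A K₁) hnf).out 0 2).mpr hDed
  by_cases hx0 : x = 0
  · rw [hx0]; exact isIntegral_zero
  rcases ValuationRing.isInteger_or_isInteger (integralClosure A K₁) x with ⟨y, hy⟩ | ⟨y, hy⟩
  · rw [← hy]; exact y.2
  · by_cases hyu : IsUnit y
    · obtain ⟨u, rfl⟩ := hyu
      have h1 : algebraMap (integralClosure A K₁) K₁ ((u⁻¹ : (integralClosure A K₁)ˣ) : integralClosure A K₁)
          * algebraMap (integralClosure A K₁) K₁ (u : integralClosure A K₁) = 1 := by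
        rw [← map_mul, Units.inv_mul, map_one]
      rw [hy] at h1
      have h2 : x = algebraMap (integralClosure A K₁) K₁
          ((u⁻¹ : (integralClosure A K₁)ˣ) : integralClosure A K₁) := by
        field_simp at h1
        exact h1.symm
      rw [h2]
      exact ((u⁻¹ : (integralClosure A K₁)ˣ) : integralClosure A K₁).2
    · exfalso
      have hym : y ∈ maximalIdeal (integralClosure A K₁) := hyu
      rw [hmeq] at hym
      have h1 : ((ι y : V) : K₁) ∈ V.nonunits := (V.coe_mem_nonunits_iff (a := ι y)).mpr hym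
      have h2 : ((ι y : V) : K₁) = x⁻¹ := hy
      rw [h2, V.inv_mem_nonunits_iff] at h1
      rcases h1 with h | h
      · exact hx0 h
      · exact h hxV


theorem finite_of_totallyRamified
    (ht : EtRam.IsTotallyRamified A ((algebraMap K K₁).comp (algebraMap A K)))
    (V : ValuationSubring K₁) (hV : EtRam.Dominates A ((algebraMap K K₁).comp (algebraMap A K)) V) :
    letI : Algebra A V := (RingHom.codRestrict ((algebraMap K K₁).comp (algebraMap A K)) V hV.1).toAlgebra
    Module.Finite A V := by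
  letI algAV : Algebra A V :=
    (RingHom.codRestrict ((algebraMap K K₁).comp (algebraMap A K)) V hV.1).toAlgebra
  letI : Algebra A K₁ := ((algebraMap K K₁).comp (algebraMap A K)).toAlgebra
  haveI : IsScalarTower A K K₁ := IsScalarTower.of_algebraMap_eq (fun _ => rfl)
  haveI : Module.Finite A (integralClosure A K₁) := IsIntegralClosure.finite A K K₁ _
  let f : integralClosure A K₁ →ₗ[A] V :=
    { toFun := fun x => ⟨x.1, (mem_iff_isIntegral A K K₁ ht V hV x.1).mpr x.2⟩
      map_add' := fun x y => rfl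
      map_smul' := fun a x => by
        apply Subtype.ext
        show ((a • x : integralClosure A K₁) : K₁) = (algebraMap A K₁ a) * (x : K₁)
        rw [← Algebra.smul_def]; rfl }
  have hf : Function.Surjective f := fun v =>
    ⟨⟨v.1, (mem_iff_isIntegral A K K₁ ht V hV v.1).mp v.2⟩, rfl⟩
  exact Module.Finite.of_surjective f hf

end IntClosure

section Model

variable (A B K L : Type u) [CommRing A] [IsDomain A] [IsDiscreteValuationRing A]
    [CommRing B] [IsDomain B] [IsDiscreteValuationRing B] [Algebra A B] [IsLocalHom (algebraMap A B)]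
    [Field K] [Field L] [Algebra A K] [IsFractionRing A K] [Algebra B L] [IsFractionRing B L]
    [Algebra K L] [Algebra A L] [IsScalarTower A K L] [IsScalarTower A B L]
    (K₁ : Type u) [Field K₁] [Algebra K K₁] [FiniteDimensional K K₁] [Algebra.IsSeparable K K₁]

theorem exists_model (hinj : Function.Injective (algebraMap A B))
    (hw : EtRam.IsWeaklyUnramified A B)
    (ht : EtRam.IsTotallyRamified A ((algebraMap K K₁).comp (algebraMap A K)))
    (V : ValuationSubring K₁)
    (hV : EtRam.Dominates A ((algebraMap K K₁).comp (algebraMap A K)) V) :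
    ∃ (C' : Type u) (_ : CommRing C') (_ : IsDomain C') (_ : IsDiscreteValuationRing C')
      (iB : B →+* C') (iV : V →+* C'),
      (∀ a : A, iB (algebraMap A B a) =
        iV (RingHom.codRestrict ((algebraMap K K₁).comp (algebraMap A K)) V hV.1 a)) ∧
      (maximalIdeal C' = Ideal.map iV (maximalIdeal V)) ∧
      (∀ (R : Type u) [CommRing R] (fB : B →+* R) (fV : V →+* R),
        (∀ a, fB (algebraMap A B a) =
          fV (RingHom.codRestrict ((algebraMap K K₁).comp (algebraMap A K)) V hV.1 a)) →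
        ∃ ψ : C' →+* R, (∀ b, ψ (iB b) = fB b) ∧ (∀ v, ψ (iV v) = fV v)) ∧
      (∀ S : Subring C', (∀ b, iB b ∈ S) → (∀ v, iV v ∈ S) → S = ⊤) := by
  letI algAV : Algebra A V :=
    (RingHom.codRestrict ((algebraMap K K₁).comp (algebraMap A K)) V hV.1).toAlgebra
  haveI : IsLocalHom (algebraMap A V) := isLocalHom_of_dominates A _ V hV
  haveI : Module.Finite A V := finite_of_totallyRamified A K K₁ ht V hV
  haveI : IsDiscreteValuationRing V := isDVR_of_dominates A K K₁ V hV
  have hinjV : Function.Injective (algebraMap A V) := by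
    intro a b hab
    have := congrArg Subtype.val hab
    exact (IsFractionRing.injective A K) ((algebraMap K K₁).injective this)
  have hres : Function.Surjective (fun a : A => residue V (algebraMap A V a)) := ht.2.2 V hV
  obtain ⟨π₁, hπ₁⟩ := IsDiscreteValuationRing.exists_irreducible V
  obtain ⟨hdom, hdvr, hirr⟩ := exists_isDVR_tensor (B := B) hinj hinjV hw hres π₁ hπ₁
  refine ⟨B ⊗[A] V, inferInstance, hdom, hdvr,
    (Algebra.TensorProduct.includeLeft : B →ₐ[A] B ⊗[A] V).toRingHom,
    (Algebra.TensorProduct.includeRight : V →ₐ[A] B ⊗[A] V).toRingHom, ?_, ?_, ?_, ?_⟩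
  · intro a
    show (algebraMap A B a) ⊗ₜ[A] (1 : V) = (1 : B) ⊗ₜ[A] (algebraMap A V a)
    rw [Algebra.algebraMap_eq_smul_one, Algebra.algebraMap_eq_smul_one, TensorProduct.smul_tmul]
  · rw [(IsDiscreteValuationRing.irreducible_iff_uniformizer _).mp hirr,
      (IsDiscreteValuationRing.irreducible_iff_uniformizer _).mp hπ₁, Ideal.map_span,
      Set.image_singleton]
    rfl
  · intro R _ fB fV hcompat
    letI : Algebra A R := (fB.comp (algebraMap A B)).toAlgebra
    let fB' : B →ₐ[A] R := { fB with commutes' := fun a => rfl }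
    let fV' : V →ₐ[A] R := { fV with commutes' := fun a => (hcompat a).symm }
    refine ⟨(Algebra.TensorProduct.lift fB' fV' (fun _ _ => Commute.all _ _)).toRingHom, ?_, ?_⟩
    · intro b
      show Algebra.TensorProduct.lift fB' fV' _ (b ⊗ₜ[A] (1 : V)) = fB b
      rw [Algebra.TensorProduct.lift_tmul, map_one, mul_one]; rfl
    · intro v
      show Algebra.TensorProduct.lift fB' fV' _ ((1 : B) ⊗ₜ[A] v) = fV v
      rw [Algebra.TensorProduct.lift_tmul, map_one, one_mul]; rfl
  · intro S h1 h2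
    rw [eq_top_iff]
    intro x _
    clear ‹x ∈ (⊤ : Subring (B ⊗[A] V))›
    induction x using TensorProduct.induction_on with
    | zero => exact S.zero_mem
    | tmul b v =>
      have : b ⊗ₜ[A] v = (b ⊗ₜ[A] (1 : V)) * ((1 : B) ⊗ₜ[A] v) := by
        rw [Algebra.TensorProduct.tmul_mul_tmul, mul_one, one_mul]
      rw [this]
      exact S.mul_mem (h1 b) (h2 v)
    | add x y hx hy => exact S.add_mem hx hy


section Analysis

variable {A B K L K₁}
variable {C' : Type u} [CommRing C'] [IsDomain C'] [IsDiscreteValuationRing C']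

theorem analysis
    (V : ValuationSubring K₁)
    (hV : EtRam.Dominates A ((algebraMap K K₁).comp (algebraMap A K)) V)
    (iB : B →+* C') (iV : V →+* C')
    (hmax : maximalIdeal C' = Ideal.map iV (maximalIdeal V))
    (huniv : ∀ (R : Type u) [CommRing R] (fB : B →+* R) (fV : V →+* R),
        (∀ a, fB (algebraMap A B a) =
          fV (RingHom.codRestrict ((algebraMap K K₁).comp (algebraMap A K)) V hV.1 a)) →
        ∃ ψ : C' →+* R, (∀ b, ψ (iB b) = fB b) ∧ (∀ v, ψ (iV v) = fV v))
    (M : Type u) [Field M] [Algebra K M] [Algebra L M] [Algebra K₁ M] [IsScalarTower K L M]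
    [IsScalarTower K K₁ M]
    (hgen : Algebra.adjoin L (Set.range (algebraMap K₁ M)) = ⊤) :
    ∃ ψ : C' →+* M, Function.Injective ψ ∧
      (∀ b, ψ (iB b) = algebraMap L M (algebraMap B L b)) ∧
      (∀ v : V, ψ (iV v) = algebraMap K₁ M v) ∧ (∀ z : M, ∃ x y, ψ y ≠ 0 ∧ z = ψ x / ψ y) := by
  obtain ⟨ψ, hψB, hψV⟩ := huniv M ((algebraMap L M).comp (algebraMap B L))
    ((algebraMap K₁ M).comp V.subtype) (fun a => by
      show algebraMap L M (algebraMap B L (algebraMap A B a)) =
        algebraMap K₁ M (algebraMap K K₁ (algebraMap A K a))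
      rw [← IsScalarTower.algebraMap_apply A B L, IsScalarTower.algebraMap_apply A K L,
        ← IsScalarTower.algebraMap_apply K L M, ← IsScalarTower.algebraMap_apply K K₁ M])
  have hψV' : ∀ v : V, ψ (iV v) = algebraMap K₁ M v := hψV
  have hψB' : ∀ b, ψ (iB b) = algebraMap L M (algebraMap B L b) := hψB
  refine ⟨ψ, ?_, hψB', hψV', ?_⟩
  · -- injective
    rw [RingHom.injective_iff_ker_eq_bot]
    by_contra hker
    haveI : (RingHom.ker ψ).IsPrime := RingHom.ker_isPrime ψ
    have hkmax : (RingHom.ker ψ).IsMaximal := Ideal.IsPrime.isMaximal inferInstance hker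
    have hkeq : RingHom.ker ψ = maximalIdeal C' := IsLocalRing.eq_maximalIdeal hkmax
    obtain ⟨π, hπ⟩ := IsDiscreteValuationRing.exists_irreducible A
    have hπm : π ∈ maximalIdeal A := hπ.not_isUnit
    let v₀ : V := RingHom.codRestrict ((algebraMap K K₁).comp (algebraMap A K)) V hV.1 π
    have hv₀m : v₀ ∈ maximalIdeal V := by
      rw [ValuationSubring.valuation_lt_one_iff]; exact hV.2 π hπm
    have hv₀0 : (v₀ : K₁) ≠ 0 := by
      intro h0
      have h1 : algebraMap K K₁ (algebraMap A K π) = 0 := h0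
      have h2 : algebraMap A K π = 0 := (map_eq_zero _).mp h1
      have := (IsFractionRing.injective A K) (h2.trans (map_zero _).symm)
      exact hπ.ne_zero this
    have h1 : iV v₀ ∈ RingHom.ker ψ := by
      rw [hkeq, hmax]; exact Ideal.mem_map_of_mem _ hv₀m
    rw [RingHom.mem_ker, hψV'] at h1
    exact hv₀0 ((map_eq_zero _).mp h1)
  · intro z
    have hz : z ∈ Algebra.adjoin L (Set.range (algebraMap K₁ M)) := by rw [hgen]; trivial
    induction hz using Algebra.adjoin_induction with
    | mem x hx =>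
      obtain ⟨k, rfl⟩ := hx
      obtain ⟨v, v', hv', rfl⟩ := IsFractionRing.div_surjective (A := V) k
      have hv'0 : (v' : K₁) ≠ 0 := by
        have := nonZeroDivisors.ne_zero hv'
        exact fun h => this (Subtype.ext h)
      refine ⟨iV v, iV v', ?_, ?_⟩
      · rw [hψV']; exact fun h => hv'0 ((map_eq_zero _).mp h)
      · rw [hψV', hψV', map_div₀]; rfl
    | algebraMap l =>
      obtain ⟨b, s, hs, rfl⟩ := IsFractionRing.div_surjective (A := B) l
      have hs0 : algebraMap B L s ≠ 0 := by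
        have := nonZeroDivisors.ne_zero hs
        exact fun h => this ((IsFractionRing.injective B L) (by rw [h, map_zero]))
      refine ⟨iB b, iB s, ?_, ?_⟩
      · rw [hψB']; exact fun h => hs0 ((map_eq_zero _).mp h)
      · rw [hψB', hψB', map_div₀]
    | add x y _ _ hx hy =>
      obtain ⟨x1, y1, h1, rfl⟩ := hx
      obtain ⟨x2, y2, h2, rfl⟩ := hy
      refine ⟨x1 * y2 + y1 * x2, y1 * y2, ?_, ?_⟩
      · rw [map_mul]; exact mul_ne_zero h1 h2
      · rw [div_add_div _ _ h1 h2, map_add, map_mul, map_mul, map_mul]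
    | mul x y _ _ hx hy =>
      obtain ⟨x1, y1, h1, rfl⟩ := hx
      obtain ⟨x2, y2, h2, rfl⟩ := hy
      refine ⟨x1 * x2, y1 * y2, ?_, ?_⟩
      · rw [map_mul]; exact mul_ne_zero h1 h2
      · rw [div_mul_div_comm, map_mul, map_mul]


theorem weak_unram
    (ht : EtRam.IsTotallyRamified A ((algebraMap K K₁).comp (algebraMap A K)))
    (V : ValuationSubring K₁)
    (hV : EtRam.Dominates A ((algebraMap K K₁).comp (algebraMap A K)) V)
    (iB : B →+* C') (iV : V →+* C')
    (hmax : maximalIdeal C' = Ideal.map iV (maximalIdeal V))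
    (huniv : ∀ (R : Type u) [CommRing R] (fB : B →+* R) (fV : V →+* R),
        (∀ a, fB (algebraMap A B a) =
          fV (RingHom.codRestrict ((algebraMap K K₁).comp (algebraMap A K)) V hV.1 a)) →
        ∃ ψ : C' →+* R, (∀ b, ψ (iB b) = fB b) ∧ (∀ v, ψ (iV v) = fV v))
    (hgenC : ∀ S : Subring C', (∀ b, iB b ∈ S) → (∀ v, iV v ∈ S) → S = ⊤)
    (M : Type u) [Field M] [Algebra K M] [Algebra L M] [Algebra K₁ M] [IsScalarTower K L M]
    [IsScalarTower K K₁ M]
    (hgen : Algebra.adjoin L (Set.range (algebraMap K₁ M)) = ⊤)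
    (W : ValuationSubring M)
    (hW : EtRam.Dominates B ((algebraMap L M).comp (algebraMap B L)) W) :
    letI : Algebra (W.comap (algebraMap K₁ M)) W := (EtRam.inclOfComap W (algebraMap K₁ M)).toAlgebra
    EtRam.IsWeaklyUnramified (W.comap (algebraMap K₁ M)) W := by
  obtain ⟨ψ, hψinj, hψB, hψV, hψfrac⟩ := analysis V hV iB iV hmax huniv M hgen
  -- W ∩ K₁ = V
  have hdomA : EtRam.Dominates A ((algebraMap K K₁).comp (algebraMap A K))
      (W.comap (algebraMap K₁ M)) := by
    have key : ∀ a : A, algebraMap K₁ M (((algebraMap K K₁).comp (algebraMap A K)) a) =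
        ((algebraMap L M).comp (algebraMap B L)) (algebraMap A B a) := by
      intro a
      show algebraMap K₁ M (algebraMap K K₁ (algebraMap A K a)) =
        algebraMap L M (algebraMap B L (algebraMap A B a))
      rw [← IsScalarTower.algebraMap_apply A B L, IsScalarTower.algebraMap_apply A K L,
        ← IsScalarTower.algebraMap_apply K L M, ← IsScalarTower.algebraMap_apply K K₁ M]
    refine ⟨fun a => ?_, fun a ha => ?_⟩
    · rw [ValuationSubring.mem_comap, key]; exact hW.1 _
    · have haB : algebraMap A B a ∈ maximalIdeal B := by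
        have := ((local_hom_TFAE (algebraMap A B)).out 0 3).mp ‹_›
        exact this ha
      have h1 := hW.2 _ haB
      rw [← key] at h1
      have hmem : ((algebraMap K K₁).comp (algebraMap A K)) a ∈
          (W.comap (algebraMap K₁ M)).nonunits := by
        rw [ValuationSubring.mem_nonunits_iff_or]
        by_cases h0 : ((algebraMap K K₁).comp (algebraMap A K)) a = 0
        · exact Or.inl h0
        · right
          rw [ValuationSubring.mem_comap, map_inv₀]
          have : algebraMap K₁ M (((algebraMap K K₁).comp (algebraMap A K)) a) ∈ W.nonunits := h1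
          rw [W.mem_nonunits_iff_or] at this
          rcases this with h | h
          · exact absurd ((map_eq_zero _).mp h) h0
          · exact h
      exact hmem
  have hVeq : W.comap (algebraMap K₁ M) = V := ht.2.1 _ _ hdomA hV
  subst hVeq
  letI alg : Algebra (W.comap (algebraMap K₁ M)) W := (EtRam.inclOfComap W (algebraMap K₁ M)).toAlgebra
  show Ideal.map (EtRam.inclOfComap W (algebraMap K₁ M)) (maximalIdeal _) = maximalIdeal W
  apply le_antisymm
  · exact ((local_hom_TFAE (EtRam.inclOfComap W (algebraMap K₁ M))).out 0 2).mp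
      (EtRam.isLocalHom_inclOfComap _ _)
  -- ψ lands in W
  have hψW : ∀ c, ψ c ∈ W := by
    intro c
    have : (W.toSubring.comap ψ) = ⊤ := hgenC _ (fun b => by
      show ψ (iB b) ∈ W
      rw [hψB]; exact hW.1 b) (fun v => by
      show ψ (iV v) ∈ W
      rw [hψV]; exact v.2)
    have hc : c ∈ W.toSubring.comap ψ := by rw [this]; trivial
    exact hc
  let ψW : C' →+* W := ψ.codRestrict W.toSubring hψW
  have hψWmax : ∀ c ∈ maximalIdeal C', ψW c ∈ maximalIdeal W := by
    intro c hc
    rw [hmax] at hc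
    refine Submodule.span_induction ?_ ?_ ?_ ?_ hc
    · rintro _ ⟨v, hv, rfl⟩
      have hle : maximalIdeal (W.comap (algebraMap K₁ M)) ≤
          (maximalIdeal W).comap (EtRam.inclOfComap W (algebraMap K₁ M)) :=
        ((local_hom_TFAE (EtRam.inclOfComap W (algebraMap K₁ M))).out 0 3).mp
          (EtRam.isLocalHom_inclOfComap _ _)
      have h1 := hle hv
      have h2 : ψW (iV v) = EtRam.inclOfComap W (algebraMap K₁ M) v := Subtype.ext (hψV v)
      rw [h2]; exact h1
    · rw [map_zero]; exact Ideal.zero_mem _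
    · intro x y _ _ hx hy; rw [map_add]; exact Ideal.add_mem _ hx hy
    · intro a x _ hx; rw [smul_eq_mul, map_mul]; exact Ideal.mul_mem_left _ _ hx
  -- key: elements of m_W of the form ψ c
  have hcase1 : ∀ (x : W) (c : C'), x ∈ maximalIdeal W → (x : M) = ψ c →
      x ∈ Ideal.map (EtRam.inclOfComap W (algebraMap K₁ M)) (maximalIdeal _) := by
    intro x c hx hxc
    have hcm : c ∈ maximalIdeal C' := by
      by_contra hcu
      have hcu' : IsUnit c := by
        by_contra h; exact hcu h
      have : IsUnit (ψW c) := hcu'.map ψW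
      have hxe : x = ψW c := Subtype.ext hxc
      rw [← hxe] at this
      exact hx this
    rw [hmax] at hcm
    obtain ⟨a, ha, w, rfl⟩ := SolDesc.mem_map_of_valuationRing iV _ _ hcm
    have hxe : x = EtRam.inclOfComap W (algebraMap K₁ M) a * ψW w := by
      apply Subtype.ext
      rw [hxc, map_mul, hψV]; rfl
    rw [hxe]
    exact Ideal.mul_mem_right _ _ (Ideal.mem_map_of_mem _ ha)
  intro x hx
  letI algC'M : Algebra C' M := ψ.toAlgebra
  haveI : FaithfulSMul C' M := (faithfulSMul_iff_algebraMap_injective C' M).mpr hψinj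
  haveI : IsFractionRing C' M := IsFractionRing.of_field C' M (fun z => by
    obtain ⟨a, b, _, h⟩ := hψfrac z
    exact ⟨a, b, h⟩)
  by_cases hx0 : (x : M) = 0
  · have : x = 0 := Subtype.ext hx0
    rw [this]; exact Ideal.zero_mem _
  rcases ValuationRing.isInteger_or_isInteger C' (x : M) with ⟨c, hc⟩ | ⟨c, hc⟩
  · exact hcase1 x c hx hc.symm
  · by_cases hcu : IsUnit c
    · obtain ⟨u, rfl⟩ := hcu
      have h1 : ψ ((u⁻¹ : C'ˣ) : C') * ψ (u : C') = 1 := by
        rw [← map_mul, Units.inv_mul, map_one]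
      have hc' : ψ (u : C') = (x : M)⁻¹ := hc
      rw [hc'] at h1
      have h2 : (x : M) = ψ ((u⁻¹ : C'ˣ) : C') := by
        field_simp at h1
        exact h1.symm
      exact hcase1 x _ hx h2
    · exfalso
      have hcm : c ∈ maximalIdeal C' := hcu
      have h1 := hψWmax c hcm
      have h2 : ((ψW c : W) : M) ∈ W.nonunits := (W.coe_mem_nonunits_iff (a := ψW c)).mpr h1
      have h3 : ((ψW c : W) : M) = (x : M)⁻¹ := hc
      rw [h3, W.inv_mem_nonunits_iff] at h2
      rcases h2 with h | h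
      · exact hx0 h
      · exact h x.2

end Analysis


section Field

/-- two fraction fields of `C'` are isomorphic compatibly -/
theorem exists_equiv_of_frac {C' M M' : Type u} [CommRing C'] [IsDomain C'] [Field M] [Field M']
    (ψ : C' →+* M) (ψ' : C' →+* M') (h1 : Function.Injective ψ) (h1' : Function.Injective ψ')
    (h2 : ∀ z : M, ∃ x y, ψ y ≠ 0 ∧ z = ψ x / ψ y)
    (h2' : ∀ z : M', ∃ x y, ψ' y ≠ 0 ∧ z = ψ' x / ψ' y) :
    ∃ σ : M ≃+* M', ∀ c, σ (ψ c) = ψ' c := by
  letI a1 : Algebra C' M := ψ.toAlgebra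
  letI a2 : Algebra C' M' := ψ'.toAlgebra
  haveI : FaithfulSMul C' M := (faithfulSMul_iff_algebraMap_injective C' M).mpr h1
  haveI : FaithfulSMul C' M' := (faithfulSMul_iff_algebraMap_injective C' M').mpr h1'
  haveI : IsFractionRing C' M := IsFractionRing.of_field C' M (fun z => by
    obtain ⟨a, b, _, h⟩ := h2 z
    exact ⟨a, b, h⟩)
  haveI : IsFractionRing C' M' := IsFractionRing.of_field C' M' (fun z => by
    obtain ⟨a, b, _, h⟩ := h2' z
    exact ⟨a, b, h⟩)
  let σ : M ≃ₐ[C'] M' := IsLocalization.algEquiv (nonZeroDivisors C') M M'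
  exact ⟨σ.toRingEquiv, fun c => σ.commutes c⟩

theorem isField_tensor (hinj : Function.Injective (algebraMap A B))
    (hw : EtRam.IsWeaklyUnramified A B)
    (ht : EtRam.IsTotallyRamified A ((algebraMap K K₁).comp (algebraMap A K))) :
    IsField (L ⊗[K] K₁) := by
  obtain ⟨V, hV⟩ := ht.1
  obtain ⟨C', instC, hdom, hdvr, iB, iV, hcompat, hmax, huniv, hgenC⟩ :=
    exists_model A B K K₁ hinj hw ht V hV
  haveI : IsArtinianRing (L ⊗[K] K₁) := IsArtinianRing.of_finite L _
  haveI : Algebra.FormallyUnramified K K₁ := Algebra.FormallyUnramified.of_isSeparable K K₁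
  haveI : Algebra.FormallyUnramified L (L ⊗[K] K₁) := inferInstance
  haveI : IsReduced (L ⊗[K] K₁) := Algebra.FormallyUnramified.isReduced_of_field L _
  haveI : Nontrivial (L ⊗[K] K₁) :=
    (Algebra.TensorProduct.includeLeft_injective (R := K) (S := K) (A := L) (B := K₁)
      (algebraMap K K₁).injective).nontrivial
  -- analysis of a maximal ideal
  have key : ∀ 𝔫 : Ideal (L ⊗[K] K₁), 𝔫.IsMaximal →
      ∃ (M : Type u) (_ : Field M) (q : (L ⊗[K] K₁) →+* M) (ψ : C' →+* M),
        RingHom.ker q = 𝔫 ∧ Function.Injective ψ ∧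
        (∀ b, ψ (iB b) = q ((algebraMap B L b) ⊗ₜ[K] (1 : K₁))) ∧
        (∀ v : V, ψ (iV v) = q ((1 : L) ⊗ₜ[K] (v : K₁))) ∧
        (∀ z : M, ∃ x y, ψ y ≠ 0 ∧ z = ψ x / ψ y) := by
    intro 𝔫 h𝔫
    letI : Field ((L ⊗[K] K₁) ⧸ 𝔫) := Ideal.Quotient.field 𝔫
    letI algK₁ : Algebra K₁ ((L ⊗[K] K₁) ⧸ 𝔫) :=
      ((Ideal.Quotient.mk 𝔫).comp
        (Algebra.TensorProduct.includeRight : K₁ →ₐ[K] L ⊗[K] K₁).toRingHom).toAlgebra
    haveI : IsScalarTower K K₁ ((L ⊗[K] K₁) ⧸ 𝔫) := IsScalarTower.of_algebraMap_eq (fun k => by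
      show Ideal.Quotient.mk 𝔫 (algebraMap K (L ⊗[K] K₁) k) =
        Ideal.Quotient.mk 𝔫 ((1 : L) ⊗ₜ[K] (algebraMap K K₁ k))
      rw [Algebra.TensorProduct.algebraMap_apply, Algebra.algebraMap_eq_smul_one,
        Algebra.algebraMap_eq_smul_one, TensorProduct.smul_tmul])
    have hgen : Algebra.adjoin L (Set.range (algebraMap K₁ ((L ⊗[K] K₁) ⧸ 𝔫))) = ⊤ := by
      rw [eq_top_iff]
      intro z hz
      clear hz
      obtain ⟨t, rfl⟩ := Ideal.Quotient.mk_surjective z
      induction t using TensorProduct.induction_on with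
      | zero => rw [map_zero]; exact Subalgebra.zero_mem _
      | tmul l k =>
        have : Ideal.Quotient.mk 𝔫 (l ⊗ₜ[K] k) =
            l • (algebraMap K₁ ((L ⊗[K] K₁) ⧸ 𝔫) k) := by
          show _ = l • Ideal.Quotient.mk 𝔫 ((1 : L) ⊗ₜ[K] k)
          rw [Algebra.smul_def,
            IsScalarTower.algebraMap_apply L (L ⊗[K] K₁) ((L ⊗[K] K₁) ⧸ 𝔫),
            Ideal.Quotient.algebraMap_eq, ← map_mul, Algebra.TensorProduct.algebraMap_apply,
            Algebra.TensorProduct.tmul_mul_tmul, mul_one, one_mul]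
          rfl
        rw [this]
        exact Subalgebra.smul_mem _ (Algebra.subset_adjoin (Set.mem_range_self k)) l
      | add x y hx hy => rw [map_add]; exact Subalgebra.add_mem _ hx hy
    obtain ⟨ψ, hψinj, hψB, hψV, hψfrac⟩ :=
      analysis V hV iB iV hmax huniv ((L ⊗[K] K₁) ⧸ 𝔫) hgen
    refine ⟨(L ⊗[K] K₁) ⧸ 𝔫, inferInstance, Ideal.Quotient.mk 𝔫, ψ, Ideal.mk_ker, hψinj, ?_, ?_,
      hψfrac⟩
    · intro b
      rw [hψB]
      show algebraMap L ((L ⊗[K] K₁) ⧸ 𝔫) (algebraMap B L b) = _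
      rw [IsScalarTower.algebraMap_apply L (L ⊗[K] K₁) ((L ⊗[K] K₁) ⧸ 𝔫),
        Algebra.TensorProduct.algebraMap_apply]
      rfl
    · intro v
      rw [hψV]; rfl
  -- uniqueness of the maximal ideal
  have huniq : ∀ 𝔫 𝔫' : Ideal (L ⊗[K] K₁), 𝔫.IsMaximal → 𝔫'.IsMaximal → 𝔫 = 𝔫' := by
    intro 𝔫 𝔫' h𝔫 h𝔫'
    obtain ⟨M, instM, q, ψ, hker, hψinj, hψB, hψV, hψfrac⟩ := key 𝔫 h𝔫
    obtain ⟨M', instM', q', ψ', hker', hψinj', hψB', hψV', hψfrac'⟩ := key 𝔫' h𝔫'
    obtain ⟨σ, hσ⟩ := exists_equiv_of_frac ψ ψ' hψinj hψinj' hψfrac hψfrac'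
    have hL : ∀ l : L, σ (q (l ⊗ₜ[K] (1 : K₁))) = q' (l ⊗ₜ[K] (1 : K₁)) := by
      have : (σ.toRingHom.comp q).comp
          (Algebra.TensorProduct.includeLeft : L →ₐ[K] L ⊗[K] K₁).toRingHom =
          q'.comp (Algebra.TensorProduct.includeLeft : L →ₐ[K] L ⊗[K] K₁).toRingHom := by
        apply IsLocalization.ringHom_ext (nonZeroDivisors B)
        ext b
        show σ (q ((algebraMap B L b) ⊗ₜ[K] (1 : K₁))) = q' ((algebraMap B L b) ⊗ₜ[K] (1 : K₁))
        rw [← hψB, ← hψB', hσ]
      intro l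
      exact RingHom.congr_fun this l
    have hK₁ : ∀ k : K₁, σ (q ((1 : L) ⊗ₜ[K] k)) = q' ((1 : L) ⊗ₜ[K] k) := by
      have : (σ.toRingHom.comp q).comp
          (Algebra.TensorProduct.includeRight : K₁ →ₐ[K] L ⊗[K] K₁).toRingHom =
          q'.comp (Algebra.TensorProduct.includeRight : K₁ →ₐ[K] L ⊗[K] K₁).toRingHom := by
        apply IsLocalization.ringHom_ext (nonZeroDivisors V)
        ext v
        show σ (q ((1 : L) ⊗ₜ[K] (v : K₁))) = q' ((1 : L) ⊗ₜ[K] (v : K₁))
        rw [← hψV, ← hψV', hσ]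
      intro k
      exact RingHom.congr_fun this k
    have hall : ∀ t, σ (q t) = q' t := by
      intro t
      induction t using TensorProduct.induction_on with
      | zero => simp
      | tmul l k =>
        have : l ⊗ₜ[K] k = (l ⊗ₜ[K] (1 : K₁)) * ((1 : L) ⊗ₜ[K] k) := by
          rw [Algebra.TensorProduct.tmul_mul_tmul, mul_one, one_mul]
        rw [this, map_mul, map_mul, map_mul, hL, hK₁]
      | add x y hx hy => rw [map_add, map_add, map_add, hx, hy]
    rw [← hker, ← hker']
    ext t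
    rw [RingHom.mem_ker, RingHom.mem_ker, ← hall t]
    exact (map_eq_zero_iff σ σ.injective).symm
  haveI : IsLocalRing (L ⊗[K] K₁) := by
    obtain ⟨𝔫, h𝔫⟩ := Ideal.exists_maximal (L ⊗[K] K₁)
    exact IsLocalRing.of_unique_max_ideal ⟨𝔫, h𝔫, fun 𝔫' h𝔫' => huniq 𝔫' 𝔫 h𝔫' h𝔫⟩
  exact IsArtinianRing.isField_of_isReduced_of_isLocalRing _


theorem main_1984 (hinj : Function.Injective (algebraMap A B))
    (hw : EtRam.IsWeaklyUnramified A B)
    (ht : EtRam.IsTotallyRamified A ((algebraMap K K₁).comp (algebraMap A K))) :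
    IsField (L ⊗[K] K₁) ∧ EtRam.IsWeakSolution B K L K₁ := by
  refine ⟨isField_tensor A B K L K₁ hinj hw ht, ?_⟩
  obtain ⟨V, hV⟩ := ht.1
  obtain ⟨C', instC, hdom, hdvr, iB, iV, hcompat, hmax, huniv, hgenC⟩ :=
    exists_model A B K K₁ hinj hw ht V hV
  intro M _ _ _ _ _ _ hgen W hW
  exact weak_unram ht V hV iB iV hmax huniv hgenC M hgen W hW

end Field

end Model

end Groth.Agent.Lib.Helper26.TotRam
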