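import Mathlib
import Groth.Prelude.Def_EtRam
import Groth.Agent.Lib.Helper26.ValFin
import Groth.Agent.Lib.Helper26.Monog

set_option autoImplicit false
set_option linter.unusedVariables false
set_option linter.style.haveILetI false
set_option linter.unusedSectionVars false
set_option linter.unusedSimpArgs false

universe u

namespace Groth.Agent.Lib.Helper26.ValBasis

open IsLocalRing Polynomial Groth.Agent.Lib.Helper26 Groth.Agent.Lib.Helper26.Monog

section U

/-- ultrametric: a sum whose nonzero terms have pairwise distinct valuations has the valuation of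
its largest term -/
theorem val_sum_eq_max {L Γ : Type*} [Field L] [LinearOrderedCommGroupWithZero Γ]
    (v : Valuation L Γ) {ι : Type*} (s : Finset ι) (f : ι → L)
    (hne : ∃ i ∈ s, f i ≠ 0)
    (hinj : ∀ i ∈ s, ∀ j ∈ s, f i ≠ 0 → f j ≠ 0 → v (f i) = v (f j) → i = j) :
    ∃ i₀ ∈ s, f i₀ ≠ 0 ∧ v (∑ i ∈ s, f i) = v (f i₀) ∧ ∀ j ∈ s, v (f j) ≤ v (f i₀) := by
  classical
  induction s using Finset.induction_on with
  | empty => obtain ⟨i, hi, _⟩ := hne; exact absurd hi (Finset.notMem_empty i)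
  | insert a s has ih =>
    rw [Finset.sum_insert has]
    by_cases hall : ∃ i ∈ s, f i ≠ 0
    · obtain ⟨i₀, hi₀s, hi₀0, hsum, hmax⟩ := ih hall
        (fun i hi j hj => hinj i (Finset.mem_insert_of_mem hi) j (Finset.mem_insert_of_mem hj))
      by_cases hfa : f a = 0
      · refine ⟨i₀, Finset.mem_insert_of_mem hi₀s, hi₀0, by rw [hfa, zero_add, hsum], ?_⟩
        intro j hj
        rcases Finset.mem_insert.mp hj with rfl | hj
        · rw [hfa, map_zero]; exact zero_le
        · exact hmax j hj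
      · have hne' : v (f a) ≠ v (f i₀) := by
          intro heq
          have := hinj a (Finset.mem_insert_self a s) i₀ (Finset.mem_insert_of_mem hi₀s) hfa hi₀0 heq
          exact has (this ▸ hi₀s)
        rcases lt_or_gt_of_ne hne' with hlt | hgt
        · refine ⟨i₀, Finset.mem_insert_of_mem hi₀s, hi₀0, ?_, ?_⟩
          · rw [← hsum] at hlt
            rw [Valuation.map_add_eq_of_lt_right _ hlt, hsum]
          · intro j hj
            rcases Finset.mem_insert.mp hj with rfl | hj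
            · exact hlt.le
            · exact hmax j hj
        · refine ⟨a, Finset.mem_insert_self a s, hfa, ?_, ?_⟩
          · rw [← hsum] at hgt
            rw [Valuation.map_add_eq_of_lt_left _ hgt]
          · intro j hj
            rcases Finset.mem_insert.mp hj with rfl | hj
            · exact le_rfl
            · exact (hmax j hj).trans hgt.le
    · push Not at hall
      obtain ⟨i, hi, hi0⟩ := hne
      have hia : i = a := by
        rcases Finset.mem_insert.mp hi with h | h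
        · exact h
        · exact absurd (hall i h) hi0
      subst hia
      have hs0 : ∑ j ∈ s, f j = 0 := Finset.sum_eq_zero hall
      refine ⟨i, Finset.mem_insert_self i s, hi0, by rw [hs0, add_zero], ?_⟩
      intro j hj
      rcases Finset.mem_insert.mp hj with rfl | hj
      · exact le_rfl
      · rw [hall j hj, map_zero]; exact zero_le

end U

section B

variable {A K L : Type u} [CommRing A] [IsDomain A] [IsDiscreteValuationRing A] [Field K]
  [Algebra A K] [IsFractionRing A K] [Field L] [Algebra K L] [FiniteDimensional K L]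
  (V : ValuationSubring L) (hV : EtRam.Dominates A (gAL A K L) V) (π : A) (hπ : Irreducible π)

include hV hπ

theorem val_pi_pos : 0 < V.valuation (gAL A K L π) := by
  rw [zero_lt_iff, Valuation.ne_zero_iff]
  intro h0
  have : algebraMap A K π = 0 := (map_eq_zero (algebraMap K L)).mp h0
  exact hπ.ne_zero ((IsFractionRing.injective A K) (by rw [this, map_zero]))

theorem val_pi_lt_one : V.valuation (gAL A K L π) < 1 := hV.2 π hπ.not_isUnit

/-- the valuation of an element of `K` is an integral power of the valuation of `π` -/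
theorem val_K_zpow (c : K) (hc : c ≠ 0) :
    ∃ k : ℤ, V.valuation (algebraMap K L c) = V.valuation (gAL A K L π) ^ k := by
  obtain ⟨a₁, a₂, ha₂, rfl⟩ := IsFractionRing.div_surjective (A := A) c
  have ha₂0 : a₂ ≠ 0 := nonZeroDivisors.ne_zero ha₂
  have ha₁0 : a₁ ≠ 0 := by
    rintro rfl
    rw [map_zero, zero_div] at hc
    exact hc rfl
  have key : ∀ a : A, a ≠ 0 → ∃ n : ℕ, V.valuation (algebraMap K L (algebraMap A K a)) =
      V.valuation (gAL A K L π) ^ n := by
    intro a ha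
    obtain ⟨n, u, rfl⟩ := IsDiscreteValuationRing.eq_unit_mul_pow_irreducible ha hπ
    refine ⟨n, ?_⟩
    have h1 : algebraMap K L (algebraMap A K ((u : A) * π ^ n)) =
        gAL A K L (u : A) * gAL A K L π ^ n := by
      rw [← map_pow, ← map_mul]; rfl
    rw [h1, map_mul, map_pow, ValFin.val_unit V hV u, one_mul]
  obtain ⟨n₁, h₁⟩ := key a₁ ha₁0
  obtain ⟨n₂, h₂⟩ := key a₂ ha₂0
  refine ⟨(n₁ : ℤ) - n₂, ?_⟩
  rw [map_div₀, map_div₀, h₁, h₂, zpow_sub₀ (val_pi_pos V hV π hπ).ne', zpow_natCast, zpow_natCast]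

variable (p : ℕ) (hp : 0 < p) (ϖ : L) (hϖ : V.valuation ϖ ^ p = V.valuation (gAL A K L π))

include hp hϖ

theorem gamma_pos : 0 < V.valuation ϖ := by
  rw [zero_lt_iff]
  intro h0
  have := val_pi_pos V hV π hπ
  rw [← hϖ, h0, zero_pow hp.ne'] at this
  exact lt_irrefl _ this

theorem gamma_lt_one : V.valuation ϖ < 1 := by
  by_contra hge
  push Not at hge
  have h1 : 1 ≤ V.valuation ϖ ^ p := one_le_pow₀ hge
  rw [hϖ] at h1
  exact absurd (val_pi_lt_one V hV π hπ) (not_lt.mpr h1)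

theorem varpi_ne_zero : ϖ ≠ 0 := by
  intro h0
  have := gamma_pos V hV π hπ p hp ϖ hϖ
  rw [h0, map_zero] at this
  exact lt_irrefl _ this

theorem term_val (c : K) (hc : c ≠ 0) (j : ℕ) :
    ∃ k : ℤ, V.valuation (algebraMap K L c) = V.valuation (gAL A K L π) ^ k ∧
      V.valuation (algebraMap K L c * ϖ ^ j) = V.valuation ϖ ^ ((p : ℤ) * k + j) := by
  obtain ⟨k, hk⟩ := val_K_zpow V hV π hπ c hc
  refine ⟨k, hk, ?_⟩
  have hγ0 : V.valuation ϖ ≠ 0 := (gamma_pos V hV π hπ p hp ϖ hϖ).ne'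
  rw [map_mul, map_pow, hk, ← hϖ, zpow_add₀ hγ0, zpow_mul, zpow_natCast, zpow_natCast]

theorem term_distinct (c c' : K) (hc : c ≠ 0) (hc' : c' ≠ 0) (i j : Fin p)
    (h : V.valuation (algebraMap K L c * ϖ ^ (i : ℕ)) =
      V.valuation (algebraMap K L c' * ϖ ^ (j : ℕ))) : i = j := by
  obtain ⟨k, -, hk⟩ := term_val V hV π hπ p hp ϖ hϖ c hc i
  obtain ⟨k', -, hk'⟩ := term_val V hV π hπ p hp ϖ hϖ c' hc' j
  rw [hk, hk'] at h
  have hinj := (zpow_right_strictAnti₀ (gamma_pos V hV π hπ p hp ϖ hϖ)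
    (gamma_lt_one V hV π hπ p hp ϖ hϖ)).injective
  have h1 : (p : ℤ) * k + (i : ℕ) = (p : ℤ) * k' + (j : ℕ) := hinj h
  have h2 : ((p : ℤ) * k + (i : ℕ)) % (p : ℤ) = ((p : ℤ) * k' + (j : ℕ)) % (p : ℤ) := by rw [h1]
  rw [add_comm, Int.add_mul_emod_self_left, add_comm ((p : ℤ) * k'), Int.add_mul_emod_self_left,
    Int.emod_eq_of_lt (by positivity) (by exact_mod_cast i.2),
    Int.emod_eq_of_lt (by positivity) (by exact_mod_cast j.2)] at h2
  exact Fin.ext (by exact_mod_cast h2)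

theorem sum_val (c : Fin p → K) (hne : ∃ j, c j ≠ 0) :
    ∃ j₀, c j₀ ≠ 0 ∧
      V.valuation (∑ j, algebraMap K L (c j) * ϖ ^ (j : ℕ)) =
        V.valuation (algebraMap K L (c j₀) * ϖ ^ (j₀ : ℕ)) ∧
      ∀ j, V.valuation (algebraMap K L (c j) * ϖ ^ (j : ℕ)) ≤
        V.valuation (algebraMap K L (c j₀) * ϖ ^ (j₀ : ℕ)) := by
  have hϖ0 := varpi_ne_zero V hV π hπ p hp ϖ hϖ
  have hterm0 : ∀ j, algebraMap K L (c j) * ϖ ^ (j : ℕ) ≠ 0 ↔ c j ≠ 0 := by
    intro j
    rw [Ne, mul_eq_zero, not_or]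
    constructor
    · intro h h0; exact h.1 (by rw [h0, map_zero])
    · intro h; exact ⟨fun h0 => h ((map_eq_zero _).mp h0), pow_ne_zero _ hϖ0⟩
  obtain ⟨j₁, hj₁⟩ := hne
  obtain ⟨j₀, -, hj₀, hsum, hmax⟩ := val_sum_eq_max V.valuation Finset.univ
    (fun j : Fin p => algebraMap K L (c j) * ϖ ^ (j : ℕ))
    ⟨j₁, Finset.mem_univ _, (hterm0 j₁).mpr hj₁⟩
    (fun i _ j _ hi hj h => term_distinct V hV π hπ p hp ϖ hϖ (c i) (c j)
      ((hterm0 i).mp hi) ((hterm0 j).mp hj) i j h)
  exact ⟨j₀, (hterm0 j₀).mp hj₀, hsum, fun j => hmax j (Finset.mem_univ _)⟩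

theorem linearIndependent_pow : LinearIndependent K (fun j : Fin p => ϖ ^ (j : ℕ)) := by
  rw [Fintype.linearIndependent_iff]
  intro c hc
  by_contra hcon
  push Not at hcon
  obtain ⟨j₀, hj₀, hsum, -⟩ := sum_val V hV π hπ p hp ϖ hϖ c hcon
  have h1 : ∑ j, algebraMap K L (c j) * ϖ ^ (j : ℕ) = 0 := by
    rw [← hc]
    exact Finset.sum_congr rfl (fun j _ => by rw [Algebra.smul_def])
  rw [h1, map_zero] at hsum
  have hϖ0 := varpi_ne_zero V hV π hπ p hp ϖ hϖ
  rw [eq_comm, Valuation.zero_iff, mul_eq_zero] at hsum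
  rcases hsum with h | h
  · exact hj₀ ((map_eq_zero _).mp h)
  · exact pow_ne_zero _ hϖ0 h

theorem coeff_mem (c : Fin p → K) (hx : ∑ j, algebraMap K L (c j) * ϖ ^ (j : ℕ) ∈ V) :
    ∀ j, ∃ a : A, algebraMap A K a = c j := by
  intro j
  by_cases hcj : c j = 0
  · exact ⟨0, by rw [map_zero, hcj]⟩
  obtain ⟨j₀, hj₀, hsum, hmax⟩ := sum_val V hV π hπ p hp ϖ hϖ c ⟨j, hcj⟩
  have hle : V.valuation (algebraMap K L (c j) * ϖ ^ (j : ℕ)) ≤ 1 := by
    refine (hmax j).trans ?_
    rw [← hsum]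
    exact (V.valuation_le_one_iff _).mpr hx
  apply ValFin.mem_range_of_val_le_one V hV
  by_contra hgt
  push Not at hgt
  obtain ⟨k, hk, hkj⟩ := term_val V hV π hπ p hp ϖ hϖ (c j) hcj j
  have hk0 : k < 0 := by
    rw [hk] at hgt
    exact (one_lt_zpow_iff_right_of_lt_one₀ (val_pi_pos V hV π hπ) (val_pi_lt_one V hV π hπ)).mp hgt
  have hexp : (p : ℤ) * k + (j : ℕ) < 0 := by
    have h1 : (p : ℤ) * k ≤ (p : ℤ) * (-1) :=
      Int.mul_le_mul_of_nonneg_left (by omega) (by positivity)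
    have h2 : ((j : ℕ) : ℤ) < p := by exact_mod_cast j.2
    omega
  rw [hkj] at hle
  have := (one_lt_zpow_iff_right_of_lt_one₀ (gamma_pos V hV π hπ p hp ϖ hϖ)
    (gamma_lt_one V hV π hπ p hp ϖ hϖ)).mpr hexp
  exact absurd hle (not_le.mpr this)

end B

end Groth.Agent.Lib.Helper26.ValBasis
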