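import Mathlib
import Groth.Prelude.Def_EtRam
import Groth.Agent.Lib.Helper26.ValFin
import Groth.Agent.Lib.Helper26.Monog
import Groth.Agent.Lib.Helper26.ValBasis
import Groth.Agent.Lib.Helper26.ASField
import Groth.Agent.Lib.Helper26.TotRam
import Groth.Agent.Lib.Helper26.TameBC

set_option autoImplicit false
set_option linter.unusedVariables false
set_option linter.style.haveILetI false
set_option linter.unusedSectionVars false
set_option linter.unusedSimpArgs false

universe u

namespace Groth.Agent.Lib.Helper26.ASCaseB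

open IsLocalRing Polynomial Groth.Agent.Lib.Helper26 Groth.Agent.Lib.Helper26.Monog
  Groth.Agent.Lib.Helper26.ValBasis

section B

variable {A K L : Type u} [CommRing A] [IsDomain A] [IsDiscreteValuationRing A] [Field K]
  [Algebra A K] [IsFractionRing A K] [Field L] [Algebra K L] [FiniteDimensional K L]
  (p : ℕ) [hp : Fact p.Prime] [CharP K p]
  (π : A) (hπ : Irreducible π) (ξ : K) (z : L) (hz : z ^ p - z = algebraMap K L ξ)
  (n : ℕ) (a : Aˣ) (hn : 0 < n) (hξ : ξ * algebraMap A K π ^ n = algebraMap A K a)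

include hπ hz hn hξ

/-- the valuation relation `v(z)^p * v(π)^n = 1` -/
theorem val_relation (V : ValuationSubring L) (hV : EtRam.Dominates A (gAL A K L) V) :
    V.valuation z ^ p * V.valuation (gAL A K L π) ^ n = 1 := by
  have hp2 : 1 < p := hp.out.one_lt
  have hπpos := val_pi_pos V hV π hπ
  have hπlt := val_pi_lt_one V hV π hπ
  have hξL : algebraMap K L ξ * gAL A K L π ^ n = gAL A K L (a : A) := by
    have := congrArg (algebraMap K L) hξ
    rw [map_mul, map_pow] at this
    exact this
  have hvξ : V.valuation (algebraMap K L ξ) * V.valuation (gAL A K L π) ^ n = 1 := by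
    rw [← map_pow, ← map_mul, hξL, ValFin.val_unit V hV a]
  have hπn_lt : V.valuation (gAL A K L π) ^ n < 1 := pow_lt_one₀ zero_le hπlt hn.ne'
  have hπn_pos : 0 < V.valuation (gAL A K L π) ^ n := pow_pos hπpos n
  have hvξ_gt : 1 < V.valuation (algebraMap K L ξ) := by
    by_contra hle
    push Not at hle
    have : V.valuation (algebraMap K L ξ) * V.valuation (gAL A K L π) ^ n < 1 := by
      calc V.valuation (algebraMap K L ξ) * V.valuation (gAL A K L π) ^ n
          ≤ 1 * V.valuation (gAL A K L π) ^ n := by gcongr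
        _ = V.valuation (gAL A K L π) ^ n := one_mul _
        _ < 1 := hπn_lt
    rw [hvξ] at this
    exact lt_irrefl _ this
  have hvz_gt : 1 < V.valuation z := by
    by_contra hle
    push Not at hle
    have h1 : V.valuation (z ^ p - z) ≤ 1 := by
      refine (Valuation.map_sub _ _ _).trans (max_le ?_ hle)
      rw [map_pow]
      exact pow_le_one₀ zero_le hle
    rw [hz] at h1
    exact absurd hvξ_gt (not_lt.mpr h1)
  have hvzp : V.valuation z < V.valuation (z ^ p) := by
    rw [map_pow]
    exact lt_self_pow₀ hvz_gt hp2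
  have h2 : V.valuation (z ^ p - z) = V.valuation (z ^ p) :=
    Valuation.map_sub_eq_of_lt_left _ hvzp
  rw [hz, map_pow] at h2
  rw [← h2, hvξ]

/-- the uniformizer `ϖ = π^s z^t` -/
theorem val_varpi (s t : ℕ) (hst : s * p = t * n + 1)
    (V : ValuationSubring L) (hV : EtRam.Dominates A (gAL A K L) V) :
    V.valuation (gAL A K L π ^ s * z ^ t) ^ p = V.valuation (gAL A K L π) := by
  have hrel := val_relation p π hπ ξ z hz n a hn hξ V hV
  rw [map_mul, map_pow, map_pow, mul_pow, ← pow_mul, hst, ← pow_mul, mul_comm t p, pow_mul,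
    pow_add, pow_one, mul_comm t n, pow_mul]
  calc (V.valuation (gAL A K L π) ^ n) ^ t * V.valuation (gAL A K L π) * (V.valuation z ^ p) ^ t
      = V.valuation (gAL A K L π) * (V.valuation z ^ p * V.valuation (gAL A K L π) ^ n) ^ t := by
        rw [mul_pow]; ac_rfl
    _ = V.valuation (gAL A K L π) := by rw [hrel, one_pow, mul_one]

omit hπ hz hn hξ in
theorem exists_dominating : ∃ V : ValuationSubring L, EtRam.Dominates A (gAL A K L) V := by
  obtain ⟨W, h1, h2⟩ := TotRam.exists_valuationSubring_of_prime (gAL A K L) (maximalIdeal A)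
    (fun r hr => by
      have h0 : algebraMap A K r = 0 := (map_eq_zero (algebraMap K L)).mp hr
      have : r = 0 := (IsFractionRing.injective A K) (by rw [h0, map_zero])
      rw [this]; exact Ideal.zero_mem _)
  exact ⟨W, h1, fun a ha => (ValuationSubring.mem_nonunits_iff _).mp (h2 a ha)⟩

theorem caseB (hpn : ¬ p ∣ n) (hgen : IntermediateField.adjoin K {z} = ⊤) :
    EtRam.IsTotallyRamified A (gAL A K L) ∧ Module.finrank K L = p := by
  classical
  have hp0 : 0 < p := hp.out.pos
  obtain ⟨s, t, hst⟩ := TameBC.exists_bezout_nat n p hn hp0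
    ((Nat.Prime.coprime_iff_not_dvd hp.out).mpr hpn).symm
  set ϖ : L := gAL A K L π ^ s * z ^ t with hϖdef
  have hϖV : ∀ (V : ValuationSubring L) (hV : EtRam.Dominates A (gAL A K L) V),
      V.valuation ϖ ^ p = V.valuation (gAL A K L π) :=
    fun V hV => val_varpi p π hπ ξ z hz n a hn hξ s t hst V hV
  obtain ⟨V₀, hV₀⟩ := exists_dominating (A := A) (K := K) (L := L)
  -- the degree
  have hli₀ := linearIndependent_pow V₀ hV₀ π hπ p hp0 ϖ (hϖV V₀ hV₀)
  have hfin : Module.finrank K L = p := by
    have h1 : p ≤ Module.finrank K L := by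
      have := hli₀.fintype_card_le_finrank
      simpa using this
    rcases ASField.finrank_dichotomy p ξ z hz hgen with ⟨_, h⟩ | ⟨_, h⟩
    · rw [h] at h1
      exact absurd h1 (not_le.mpr hp.out.one_lt)
    · exact h
  -- decomposition
  have hdecomp : ∀ x : L, ∃ c : Fin p → K, x = ∑ j, algebraMap K L (c j) * ϖ ^ (j : ℕ) := by
    intro x
    let b := basisOfLinearIndependentOfCardEqFinrank hli₀ (by rw [Fintype.card_fin, hfin])
    refine ⟨fun j => b.repr x j, ?_⟩
    conv_lhs => rw [← b.sum_repr x]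
    refine Finset.sum_congr rfl (fun j _ => ?_)
    rw [coe_basisOfLinearIndependentOfCardEqFinrank, Algebra.smul_def]
  -- description of any dominating V
  have hdesc : ∀ (V : ValuationSubring L) (hV : EtRam.Dominates A (gAL A K L) V) (x : L),
      x ∈ V → ∃ c : Fin p → A, x = ∑ j, gAL A K L (c j) * ϖ ^ (j : ℕ) := by
    intro V hV x hx
    obtain ⟨c, hc⟩ := hdecomp x
    rw [hc] at hx
    have := coeff_mem V hV π hπ p hp0 ϖ (hϖV V hV) c hx
    choose c' hc' using this
    refine ⟨c', ?_⟩
    rw [hc]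
    refine Finset.sum_congr rfl (fun j _ => ?_)
    rw [← hc' j]
    rfl
  have hϖmem : ∀ (V : ValuationSubring L) (hV : EtRam.Dominates A (gAL A K L) V), ϖ ∈ V := by
    intro V hV
    rw [← V.valuation_le_one_iff]
    exact (gamma_lt_one V hV π hπ p hp0 ϖ (hϖV V hV)).le
  have hle : ∀ (V V' : ValuationSubring L) (hV : EtRam.Dominates A (gAL A K L) V)
      (hV' : EtRam.Dominates A (gAL A K L) V'), V ≤ V' := by
    intro V V' hV hV' x hx
    obtain ⟨c, rfl⟩ := hdesc V hV x hx
    exact V'.sum_mem (fun j _ => V'.mul_mem _ _ (hV'.1 _) (V'.pow_mem (hϖmem V' hV') _))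
  refine ⟨⟨⟨V₀, hV₀⟩, fun V V' hV hV' => le_antisymm (hle V V' hV hV') (hle V' V hV' hV), ?_⟩,
    hfin⟩
  intro V hV x
  obtain ⟨w, rfl⟩ := residue_surjective x
  obtain ⟨c, hc⟩ := hdesc V hV w.1 w.2
  haveI : NeZero p := ⟨hp0.ne'⟩
  refine ⟨c 0, ?_⟩
  show residue V (RingHom.codRestrict (gAL A K L) V hV.1 (c 0)) = residue V w
  rw [← sub_eq_zero, ← map_sub, residue_eq_zero_iff]
  refine (ValuationSubring.valuation_lt_one_iff V _).mpr ?_
  have hdiff : ((RingHom.codRestrict (gAL A K L) V hV.1 (c 0) - w : V) : L) =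
      - ∑ j ∈ Finset.univ.erase (0 : Fin p), gAL A K L (c j) * ϖ ^ (j : ℕ) := by
    show gAL A K L (c 0) - (w : L) = _
    rw [hc, ← Finset.add_sum_erase Finset.univ _ (Finset.mem_univ (0 : Fin p))]
    simp
  rw [hdiff, Valuation.map_neg]
  refine Valuation.map_sum_lt _ one_ne_zero (fun j hj => ?_)
  have hj0 : (j : ℕ) ≠ 0 := by
    intro h0
    exact (Finset.mem_erase.mp hj).1 (Fin.ext h0)
  rw [map_mul, map_pow]
  calc V.valuation (gAL A K L (c j)) * V.valuation ϖ ^ (j : ℕ)
      ≤ 1 * V.valuation ϖ ^ (j : ℕ) := by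
        gcongr
        exact (V.valuation_le_one_iff _).mpr (hV.1 _)
    _ = V.valuation ϖ ^ (j : ℕ) := one_mul _
    _ < 1 := pow_lt_one₀ zero_le (gamma_lt_one V hV π hπ p hp0 ϖ (hϖV V hV)) hj0

end B

end Groth.Agent.Lib.Helper26.ASCaseB
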