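import Mathlib
import Groth.Prelude.Def_EtRam
import Groth.Agent.Lib.Helper26.ValFin
import Groth.Agent.Lib.Helper26.Monog
import Groth.Agent.Lib.Helper26.ASField
import Groth.Agent.Lib.Helper26.ASCaseB
import Groth.Agent.Lib.Helper26.TotRam
import Groth.Agent.Lib.Helper26.TameSub

set_option autoImplicit false
set_option linter.unusedVariables false
set_option linter.style.haveILetI false
set_option linter.unusedSectionVars false
set_option linter.unusedSimpArgs false

universe u

namespace Groth.Agent.Lib.Helper26.ASCaseAC

open IsLocalRing Polynomial Groth.Agent.Lib.Helper26 Groth.Agent.Lib.Helper26.Monog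

section Gen

variable {A K L : Type u} [CommRing A] [IsDomain A] [IsDiscreteValuationRing A] [Field K]
  [Algebra A K] [IsFractionRing A K] [Field L] [Algebra K L]

/-- the residue field has characteristic `p` -/
theorem charP_residue (p : ℕ) [hp : Fact p.Prime] [CharP K p] : CharP (ResidueField A) p := by
  haveI : CharP A p := RingHom.charP (algebraMap A K) (IsFractionRing.injective A K) p
  have h0 : ((p : ℕ) : ResidueField A) = 0 := by
    have : ((p : ℕ) : A) = 0 := CharP.cast_eq_zero A p
    rw [← map_natCast (residue A), this, map_zero]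
  exact ringChar.of_eq (CharP.ringChar_of_prime_eq_zero hp.out h0)

/-- a root of a monic polynomial over `A` lies in every dominating valuation ring -/
theorem mem_of_root (y : L) (h : A[X]) (hm : h.Monic) (hy : eval₂ (gAL A K L) y h = 0)
    (V : ValuationSubring L) (hV : EtRam.Dominates A (gAL A K L) V) : y ∈ V := by
  letI : Algebra A L := (gAL A K L).toAlgebra
  exact TameSub.mem_of_isIntegral_of_le L V (fun r => hV.1 r) y ⟨h, hm, hy⟩

end Gen

section A

variable {A K L : Type u} [CommRing A] [IsDomain A] [IsDiscreteValuationRing A] [Field K]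
  [Algebra A K] [IsFractionRing A K] [Field L] [Algebra K L]
  (p : ℕ) [hp : Fact p.Prime] [CharP K p]
  (π : A) (hπ : maximalIdeal A = Ideal.span {π}) (z : L)

include hπ in
theorem caseA (a : A) (hz : z ^ p - z = algebraMap K L (algebraMap A K a))
    (hgen : IntermediateField.adjoin K {z} = ⊤) :
    Module.finrank K L = 1 ∨
      (EtRam.IsUnramifiedExt A (gAL A K L) ∧ Module.finrank K L = p) := by
  rcases ASField.finrank_dichotomy p (algebraMap A K a) z hz hgen with ⟨_, h⟩ | ⟨_, h⟩
  · exact Or.inl h
  refine Or.inr ⟨?_, h⟩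
  haveI : FiniteDimensional K L := ASField.finiteDimensional p (algebraMap A K a) z hz hgen
  haveI : CharP (ResidueField A) p := charP_residue (A := A) (K := K) p
  -- the polynomial
  set hpoly : A[X] := X ^ p - (X + C a) with hpoly_def
  have hdeg : degree (X + C a : A[X]) < (p : WithBot ℕ) := by
    rw [degree_add_C (by rw [degree_X]; exact zero_lt_one), degree_X]
    exact_mod_cast hp.out.one_lt
  have hmonic : hpoly.Monic := monic_X_pow_sub hdeg
  have hy : eval₂ (gAL A K L) z hpoly = 0 := by
    rw [hpoly_def, eval₂_sub, eval₂_pow, eval₂_X, eval₂_add, eval₂_X, eval₂_C]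
    have : gAL A K L a = algebraMap K L (algebraMap A K a) := rfl
    rw [this, ← hz]
    ring
  have hmap : hpoly.map (residue A) = ASField.asPoly p (residue A a) := by
    rw [hpoly_def, ASField.asPoly, Polynomial.map_sub, Polynomial.map_pow, Polynomial.map_add,
      Polynomial.map_X, Polynomial.map_C]
  have hsep : (hpoly.map (residue A)).Separable := by
    rw [hmap]; exact ASField.asPoly_separable p _
  have hvnr : ∀ x : AdjoinRoot (hpoly.map (Ideal.Quotient.mk (maximalIdeal A))),
      ∃ w, x = x * x * w :=
    Sol1982.vnr_adjoinRoot (k := ResidueField A) (R := ResidueField A) (hpoly.map (residue A))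
      (hmonic.map _) hsep
  have hyV : ∀ V : ValuationSubring L, EtRam.Dominates A (gAL A K L) V → z ∈ V :=
    fun V hV => mem_of_root z hpoly hmonic hy V hV
  intro V hV
  letI algAV : Algebra A V := (RingHom.codRestrict (gAL A K L) V hV.1).toAlgebra
  intro hloc
  obtain ⟨hdiv, hfr⟩ := monogenic π hπ z hpoly hy hgen hvnr hyV V hV
  refine ⟨weaklyUnramified π hπ V hV hdiv, ?_⟩
  have hgenres := residue_gen z hpoly hy V hV (hyV V hV) hfr
  have hroot := residue_root z hpoly hy V hV (hyV V hV)
  -- separability
  have hsepy : IsSeparable (ResidueField A) (residue V ⟨z, hyV V hV⟩) := by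
    have hdvd := minpoly.dvd (ResidueField A) (residue V ⟨z, hyV V hV⟩) hroot
    exact hsep.of_dvd hdvd
  haveI : Algebra.IsSeparable (ResidueField A)
      (IntermediateField.adjoin (ResidueField A) {residue V ⟨z, hyV V hV⟩}) :=
    (IntermediateField.isSeparable_adjoin_simple_iff_isSeparable _ _).mpr hsepy
  refine ⟨fun x => ?_⟩
  have hx : x ∈ IntermediateField.adjoin (ResidueField A) {residue V ⟨z, hyV V hV⟩} := by
    rw [hgenres]; trivial
  exact IntermediateField.isSeparable_of_mem_isSeparable _ _ hx

end A

section C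

variable {A K L : Type u} [CommRing A] [IsDomain A] [IsDiscreteValuationRing A] [Field K]
  [Algebra A K] [IsFractionRing A K] [Field L] [Algebra K L]
  (p : ℕ) [hp : Fact p.Prime] [CharP K p]
  (π : A) (hπ : maximalIdeal A = Ideal.span {π}) (z : L)

/-- the fourth case, in terms of `gAL` -/
def Case4 (A K L : Type u) [CommRing A] [IsDomain A] [IsDiscreteValuationRing A] [Field K]
    [Algebra A K] [Field L] [Algebra K L] (p : ℕ) : Prop :=
  (∃ V : ValuationSubring L, EtRam.Dominates A (gAL A K L) V) ∧
  (∀ V V' : ValuationSubring L, EtRam.Dominates A (gAL A K L) V →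
    EtRam.Dominates A (gAL A K L) V' → V = V') ∧
  ∀ (V : ValuationSubring L) (h : EtRam.Dominates A (gAL A K L) V),
    letI : Algebra A V := (RingHom.codRestrict (gAL A K L) V h.1).toAlgebra
    ∀ [IsLocalHom (algebraMap A V)],
      EtRam.IsWeaklyUnramified A V ∧
        IsPurelyInseparable (IsLocalRing.ResidueField A) (IsLocalRing.ResidueField V) ∧
        Module.finrank (IsLocalRing.ResidueField A) (IsLocalRing.ResidueField V) = p

include hπ in
theorem caseC (ξ : K) (hz : z ^ p - z = algebraMap K L ξ)
    (hgen : IntermediateField.adjoin K {z} = ⊤) (m : ℕ) (hm : 0 < m) (a : A)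
    (ha : ∀ r : A, residue A a ≠ residue A r ^ p)
    (hξ : ξ * algebraMap A K π ^ (p * m) = algebraMap A K a) :
    Case4 A K L p := by
  have hp1 : 1 < p := hp.out.one_lt
  haveI : FiniteDimensional K L := ASField.finiteDimensional p ξ z hz hgen
  haveI : CharP (ResidueField A) p := charP_residue (A := A) (K := K) p
  have hπm : π ∈ maximalIdeal A := by rw [hπ]; exact Ideal.mem_span_singleton_self π
  have hπ0 : π ≠ 0 := by
    intro h0
    rw [h0, Ideal.span_singleton_eq_bot.mpr rfl] at hπ
    exact IsDiscreteValuationRing.not_a_field A hπ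
  have hgπ0 : gAL A K L π ≠ 0 := by
    intro h0
    have : algebraMap A K π = 0 := (map_eq_zero (algebraMap K L)).mp h0
    exact hπ0 ((IsFractionRing.injective A K) (by rw [this, map_zero]))
  -- the new generator
  set y : L := gAL A K L π ^ m * z with hy_def
  set hpoly : A[X] := X ^ p - (C (π ^ (m * (p - 1))) * X + C a) with hpoly_def
  have hdeg : degree (C (π ^ (m * (p - 1))) * X + C a : A[X]) < (p : WithBot ℕ) := by
    refine lt_of_le_of_lt (degree_add_le _ _) (max_lt ?_ ?_)
    · refine lt_of_le_of_lt (degree_C_mul_X_le _) ?_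
      exact_mod_cast hp1
    · refine lt_of_le_of_lt degree_C_le ?_
      exact_mod_cast hp.out.pos
  have hmonic : hpoly.Monic := monic_X_pow_sub hdeg
  have hξL : algebraMap K L ξ * gAL A K L π ^ (p * m) = gAL A K L a := by
    have := congrArg (algebraMap K L) hξ
    rw [map_mul, map_pow] at this
    exact this
  have hy : eval₂ (gAL A K L) y hpoly = 0 := by
    rw [hpoly_def, eval₂_sub, eval₂_pow, eval₂_X, eval₂_add, eval₂_mul, eval₂_X, eval₂_C, eval₂_C,
      map_pow, ← hξL, ← hz, hy_def]
    have hexp : m * (p - 1) + m = p * m := by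
      obtain ⟨q, rfl⟩ : ∃ q, p = q + 1 := ⟨p - 1, by omega⟩
      simp only [Nat.add_sub_cancel]
      ring
    have h1 : gAL A K L π ^ (m * (p - 1)) * (gAL A K L π ^ m * z) = gAL A K L π ^ (p * m) * z := by
      rw [← mul_assoc, ← pow_add, hexp]
    rw [h1, mul_pow, ← pow_mul, mul_comm m p]
    ring
  have hres0 : residue A (π ^ (m * (p - 1))) = 0 := by
    rw [residue_eq_zero_iff]
    refine Ideal.pow_mem_of_mem _ hπm _ ?_
    exact Nat.mul_pos hm (by omega)
  have hmap : hpoly.map (residue A) = X ^ p - C (residue A a) := by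
    rw [hpoly_def, Polynomial.map_sub, Polynomial.map_pow, Polynomial.map_add, Polynomial.map_mul,
      Polynomial.map_X, Polynomial.map_C, Polynomial.map_C, hres0, map_zero, zero_mul, zero_add]
  have hirr : Irreducible (hpoly.map (residue A)) := by
    rw [hmap]
    refine X_pow_sub_C_irreducible_of_prime hp.out (fun b hb => ?_)
    obtain ⟨r, rfl⟩ := residue_surjective b
    exact ha r hb.symm
  have hvnr' : ∀ x : AdjoinRoot (hpoly.map (residue A)), ∃ w, x = x * x * w := by
    haveI : Fact (Irreducible (hpoly.map (residue A))) := ⟨hirr⟩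
    intro x
    by_cases hx : x = 0
    · exact ⟨0, by rw [hx, mul_zero]⟩
    · exact ⟨x⁻¹, by rw [mul_assoc, mul_inv_cancel₀ hx, mul_one]⟩
  have hvnr : ∀ x : AdjoinRoot (hpoly.map (Ideal.Quotient.mk (maximalIdeal A))),
      ∃ w, x = x * x * w := hvnr'
  have hgeny : IntermediateField.adjoin K {y} = ⊤ := by
    rw [eq_top_iff, ← hgen, IntermediateField.adjoin_le_iff]
    intro x hx
    rw [Set.mem_singleton_iff] at hx
    subst hx
    have h1 : x = (algebraMap K L (algebraMap A K π) ^ m)⁻¹ * y := by
      rw [hy_def]
      have : gAL A K L π = algebraMap K L (algebraMap A K π) := rfl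
      rw [this, ← mul_assoc, inv_mul_cancel₀ (pow_ne_zero _ (this ▸ hgπ0)), one_mul]
    rw [h1]
    exact mul_mem (inv_mem (pow_mem (IntermediateField.algebraMap_mem _ _) _))
      (IntermediateField.mem_adjoin_simple_self K y)
  have hyV : ∀ V : ValuationSubring L, EtRam.Dominates A (gAL A K L) V → y ∈ V :=
    fun V hV => mem_of_root y hpoly hmonic hy V hV
  have hmono := fun V hV => monogenic π hπ y hpoly hy hgeny hvnr hyV V hV
  refine ⟨ASCaseB.exists_dominating (A := A) (K := K) (L := L), ?_, ?_⟩
  · intro V V' hV hV'
    exact le_antisymm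
      (unique_of_irreducible π hπ y hpoly hy hirr V V' hV hV' (hyV V hV) (hyV V' hV')
        (hmono V hV).2)
      (unique_of_irreducible π hπ y hpoly hy hirr V' V hV' hV (hyV V' hV') (hyV V hV)
        (hmono V' hV').2)
  · intro V hV
    letI algAV : Algebra A V := (RingHom.codRestrict (gAL A K L) V hV.1).toAlgebra
    intro hloc
    obtain ⟨hdiv, hfr⟩ := hmono V hV
    refine ⟨weaklyUnramified π hπ V hV hdiv, ?_⟩
    have hgenres := residue_gen y hpoly hy V hV (hyV V hV) hfr
    have hroot := residue_root y hpoly hy V hV (hyV V hV)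
    rw [hmap] at hroot
    set ybar : ResidueField V := residue V ⟨y, hyV V hV⟩ with hybar
    have hybar_pow : ybar ^ p = algebraMap (ResidueField A) (ResidueField V) (residue A a) := by
      have := hroot
      rw [map_sub, map_pow, aeval_X, aeval_C, sub_eq_zero] at this
      exact this
    haveI : CharP (ResidueField V) p :=
      charP_of_injective_algebraMap (algebraMap (ResidueField A) (ResidueField V)).injective p
    haveI : ExpChar (ResidueField A) p := ExpChar.prime hp.out
    constructor
    · rw [isPurelyInseparable_iff_pow_mem (ResidueField A) p]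
      intro x
      refine ⟨1, ?_⟩
      rw [pow_one]
      have hx : x ∈ IntermediateField.adjoin (ResidueField A) {ybar} := by
        rw [hgenres]; trivial
      induction hx using IntermediateField.adjoin_induction with
      | mem x hx =>
        rw [Set.mem_singleton_iff] at hx
        rw [hx, hybar_pow]
        exact ⟨_, rfl⟩
      | algebraMap x => exact ⟨x ^ p, by rw [map_pow]⟩
      | add x y _ _ hx hy =>
        rw [add_pow_char]
        exact add_mem hx hy
      | inv x _ hx =>
        rw [inv_pow]
        obtain ⟨c, hc⟩ := hx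
        exact ⟨c⁻¹, by rw [map_inv₀, hc]⟩
      | mul x y _ _ hx hy =>
        rw [mul_pow]
        exact mul_mem hx hy
    · have hmin : X ^ p - C (residue A a) = minpoly (ResidueField A) ybar :=
        minpoly.eq_of_irreducible_of_monic (hmap ▸ hirr) hroot (monic_X_pow_sub_C _ hp.out.ne_zero)
      have hint : IsIntegral (ResidueField A) ybar :=
        ⟨X ^ p - C (residue A a), monic_X_pow_sub_C _ hp.out.ne_zero, hroot⟩
      have h1 := IntermediateField.adjoin.finrank hint
      rw [← hmin, natDegree_X_pow_sub_C, hgenres, IntermediateField.finrank_top'] at h1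
      exact h1

end C

end Groth.Agent.Lib.Helper26.ASCaseAC
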