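import Mathlib
import Groth.Prelude.Def_EtRam
import Groth.Agent.Lib.Helper26.Monog
import Groth.Agent.Lib.Helper26.ASField
import Groth.Agent.Lib.Helper26.ASCaseB
import Groth.Agent.Lib.Helper26.ASCaseAC

set_option autoImplicit false
set_option linter.unusedVariables false
set_option linter.style.haveILetI false
set_option linter.unusedSectionVars false
set_option linter.unusedSimpArgs false

universe u

namespace Groth.Agent.Lib.Helper26.ASMain

open IsLocalRing Polynomial Groth.Agent.Lib.Helper26 Groth.Agent.Lib.Helper26.Monog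
  Groth.Agent.Lib.Helper26.ASCaseAC

section Red

variable {A K L : Type u} [CommRing A] [IsDomain A] [IsDiscreteValuationRing A] [Field K]
  [Algebra A K] [IsFractionRing A K] [Field L] [Algebra K L]
  (p : ℕ) [hp : Fact p.Prime] [CharP K p]
  (π : A) (hπ : maximalIdeal A = Ideal.span {π})

/-- the four cases -/
def Cases (A K L : Type u) [CommRing A] [IsDomain A] [IsDiscreteValuationRing A] [Field K]
    [Algebra A K] [Field L] [Algebra K L] (p : ℕ) : Prop :=
  Module.finrank K L = 1 ∨
  (EtRam.IsUnramifiedExt A (gAL A K L) ∧ Module.finrank K L = p) ∨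
  (EtRam.IsTotallyRamified A (gAL A K L) ∧ Module.finrank K L = p) ∨
  Case4 A K L p

include hπ

theorem pi_irreducible : Irreducible π :=
  (IsDiscreteValuationRing.irreducible_iff_uniformizer π).mpr hπ

theorem pi_ne_zero : algebraMap A K π ≠ 0 := by
  intro h0
  have : π = 0 := (IsFractionRing.injective A K) (by rw [h0, map_zero])
  exact (pi_irreducible π hπ).ne_zero this

/-- normal form of elements of `K` -/
theorem normal_form (ξ : K) :
    (∃ a : A, algebraMap A K a = ξ) ∨
      ∃ (n : ℕ) (u : Aˣ), 0 < n ∧ ξ * algebraMap A K π ^ n = algebraMap A K u := by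
  have hirr := pi_irreducible π hπ
  have hπK := pi_ne_zero (K := K) π hπ
  by_cases hξ0 : ξ = 0
  · exact Or.inl ⟨0, by rw [map_zero, hξ0]⟩
  obtain ⟨a₁, a₂, ha₂, rfl⟩ := IsFractionRing.div_surjective (A := A) ξ
  have ha₂0 : a₂ ≠ 0 := nonZeroDivisors.ne_zero ha₂
  have ha₁0 : a₁ ≠ 0 := by
    rintro rfl
    rw [map_zero, zero_div] at hξ0
    exact hξ0 rfl
  obtain ⟨k₁, u₁, rfl⟩ := IsDiscreteValuationRing.eq_unit_mul_pow_irreducible ha₁0 hirr
  obtain ⟨k₂, u₂, rfl⟩ := IsDiscreteValuationRing.eq_unit_mul_pow_irreducible ha₂0 hirr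
  have hu₂ : algebraMap A K (u₂ : A) ≠ 0 := by
    intro h0
    have : (u₂ : A) = 0 := (IsFractionRing.injective A K) (by rw [h0, map_zero])
    exact u₂.ne_zero this
  have hinv : algebraMap A K ((u₂⁻¹ : Aˣ) : A) = (algebraMap A K (u₂ : A))⁻¹ :=
    eq_inv_of_mul_eq_one_left (by rw [← map_mul, Units.inv_mul, map_one])
  rcases le_or_gt k₂ k₁ with hle | hlt
  · left
    obtain ⟨d, rfl⟩ := Nat.exists_eq_add_of_le hle
    refine ⟨((u₁ * u₂⁻¹ : Aˣ) : A) * π ^ d, ?_⟩
    rw [map_mul, map_mul, map_mul, map_pow, map_pow, map_pow, Units.val_mul, map_mul, hinv, pow_add]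
    field_simp
  · right
    obtain ⟨d, rfl⟩ := Nat.exists_eq_add_of_lt hlt
    refine ⟨d + 1, u₁ * u₂⁻¹, by omega, ?_⟩
    rw [map_mul, map_mul, map_pow, map_pow, Units.val_mul, map_mul, hinv, add_assoc, pow_add]
    field_simp

theorem cases_of_mem (z : L) (a : A) (hz : z ^ p - z = algebraMap K L (algebraMap A K a))
    (hgen : IntermediateField.adjoin K {z} = ⊤) : Cases A K L p := by
  rcases caseA p π hπ z a hz hgen with h | h
  · exact Or.inl h
  · exact Or.inr (Or.inl h)

theorem classify_aux : ∀ (n : ℕ) (ξ : K) (z : L) (u : Aˣ), 0 < n →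
    z ^ p - z = algebraMap K L ξ → IntermediateField.adjoin K {z} = ⊤ →
    ξ * algebraMap A K π ^ n = algebraMap A K u → Cases A K L p := by
  intro n
  induction n using Nat.strong_induction_on with
  | _ n ih =>
    intro ξ z u hn hz hgen hξ
    have hp1 : 1 < p := hp.out.one_lt
    have hπK := pi_ne_zero (K := K) π hπ
    have hπm : π ∈ maximalIdeal A := by rw [hπ]; exact Ideal.mem_span_singleton_self π
    by_cases hpn : p ∣ n
    swap
    · haveI : FiniteDimensional K L := ASField.finiteDimensional p ξ z hz hgen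
      exact Or.inr (Or.inr (Or.inl
        (ASCaseB.caseB p π (pi_irreducible π hπ) ξ z hz n u hn hξ hpn hgen)))
    obtain ⟨m, rfl⟩ := hpn
    have hm : 0 < m := Nat.pos_of_mul_pos_left hn |> fun h => by
      rcases Nat.eq_zero_or_pos m with h0 | h0
      · rw [h0, mul_zero] at hn; exact absurd hn (lt_irrefl _)
      · exact h0
    by_cases hpow : ∃ r : A, residue A (u : A) = residue A r ^ p
    swap
    · push Not at hpow
      exact Or.inr (Or.inr (Or.inr (caseC p π hπ z ξ hz hgen m hm u hpow hξ)))
    obtain ⟨r, hr⟩ := hpow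
    -- reduction
    set c : K := algebraMap A K r / algebraMap A K π ^ m with hc
    set ξ' : K := ξ - (c ^ p - c) with hξ'def
    set z' : L := z - algebraMap K L c with hz'def
    have hz' : z' ^ p - z' = algebraMap K L ξ' := by
      haveI := ASField.charP_L p K (L := L)
      rw [hz'def, hξ'def, sub_pow_char, map_sub, map_sub, map_pow, ← hz]
      ring
    have hgen' : IntermediateField.adjoin K {z'} = ⊤ := by
      rw [eq_top_iff, ← hgen, IntermediateField.adjoin_le_iff]
      intro x hx
      rw [Set.mem_singleton_iff] at hx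
      subst hx
      have : x = z' + algebraMap K L c := by rw [hz'def]; ring
      rw [this]
      exact add_mem (IntermediateField.mem_adjoin_simple_self K z')
        (IntermediateField.algebraMap_mem _ _)
    -- the integrality of `ξ' π^(pm-1)`
    have hpm : m < p * m := by nlinarith
    have hb : ∃ b' : A, ξ' * algebraMap A K π ^ (p * m - 1) = algebraMap A K b' := by
      have hbmem : (u : A) - r ^ p + r * π ^ (p * m - m) ∈ maximalIdeal A := by
        rw [← residue_eq_zero_iff, map_add, map_sub, map_pow, hr, sub_self, zero_add, map_mul,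
          map_pow, (residue_eq_zero_iff π).mpr hπm, zero_pow (by omega), mul_zero]
      rw [hπ, Ideal.mem_span_singleton'] at hbmem
      obtain ⟨b', hb'⟩ := hbmem
      refine ⟨b', ?_⟩
      have h1 : ξ' * algebraMap A K π ^ (p * m) =
          algebraMap A K ((u : A) - r ^ p + r * π ^ (p * m - m)) := by
        rw [hξ'def, sub_mul, sub_mul, hξ, hc, map_add, map_sub, map_mul, map_pow, map_pow]
        have e1 : (algebraMap A K r / algebraMap A K π ^ m) ^ p * algebraMap A K π ^ (p * m) =
            algebraMap A K r ^ p := by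
          rw [div_pow, ← pow_mul, mul_comm m p]
          field_simp
        have e2 : algebraMap A K r / algebraMap A K π ^ m * algebraMap A K π ^ (p * m) =
            algebraMap A K r * algebraMap A K π ^ (p * m - m) := by
          have : p * m = m + (p * m - m) := by omega
          conv_lhs => rw [this, pow_add]
          field_simp
        rw [e1, e2]
        ring
      rw [← hb', map_mul] at h1
      have h2 : p * m = (p * m - 1) + 1 := by omega
      rw [h2, pow_succ, ← mul_assoc] at h1
      exact mul_right_cancel₀ hπK h1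
    obtain ⟨b', hb'⟩ := hb
    rcases normal_form (K := K) π hπ ξ' with ⟨a', ha'⟩ | ⟨n', u', hn', hξ'⟩
    · rw [← ha'] at hz'
      exact cases_of_mem p π hπ z' a' hz' hgen'
    · have hlt : n' < p * m := by
        by_contra hge
        push Not at hge
        obtain ⟨d, hd⟩ : ∃ d, n' = (p * m - 1) + (d + 1) := ⟨n' - p * m, by omega⟩
        rw [hd, pow_add, ← mul_assoc, hb', ← map_pow, ← map_mul] at hξ'
        have h4 : b' * π ^ (d + 1) = (u' : A) := IsFractionRing.injective A K hξ'
        have h5 : (u' : A) ∈ maximalIdeal A := by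
          rw [← h4]
          exact Ideal.mul_mem_left _ _ (Ideal.pow_mem_of_mem _ hπm _ (by omega))
        exact h5 u'.isUnit
      exact ih n' hlt ξ' z' u' hn' hz' hgen' hξ'

theorem classify (ξ : K) (z : L) (hz : z ^ p - z = algebraMap K L ξ)
    (hgen : IntermediateField.adjoin K {z} = ⊤) : Cases A K L p := by
  rcases normal_form (K := K) π hπ ξ with ⟨a, ha⟩ | ⟨n, u, hn, hξ⟩
  · rw [← ha] at hz
    exact cases_of_mem p π hπ z a hz hgen
  · exact classify_aux p π hπ n ξ z u hn hz hgen hξ

end Red

section Main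

theorem main_7158 (p : ℕ) (hp : p.Prime) (A K L : Type u) [CommRing A] [IsDomain A]
    [IsDiscreteValuationRing A] [Field K] [Algebra A K] [IsFractionRing A K] [Field L] [Algebra K L]
    [Algebra A L]
    [IsScalarTower A K L] [CharP K p] (π : A) (hπ : IsLocalRing.maximalIdeal A = Ideal.span {π})
    (ξ : K) (z : L) (hz : z ^ p - z = algebraMap K L ξ)
    (hgen : IntermediateField.adjoin K {z} = ⊤) :
    let g : A →+* L := algebraMap A L
    let case1 : Prop := Module.finrank K L = 1
    let case2 : Prop := EtRam.IsUnramifiedExt A g ∧ Module.finrank K L = p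
    let case3 : Prop := EtRam.IsTotallyRamified A g ∧ Module.finrank K L = p
    let case4 : Prop := (∃ V : ValuationSubring L, EtRam.Dominates A g V) ∧
      (∀ V V' : ValuationSubring L, EtRam.Dominates A g V → EtRam.Dominates A g V' → V = V') ∧
      ∀ (V : ValuationSubring L) (h : EtRam.Dominates A g V),
        letI : Algebra A V := (RingHom.codRestrict g V h.1).toAlgebra
        ∀ [IsLocalHom (algebraMap A V)],
          EtRam.IsWeaklyUnramified A V ∧
            IsPurelyInseparable (IsLocalRing.ResidueField A) (IsLocalRing.ResidueField V) ∧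
            Module.finrank (IsLocalRing.ResidueField A) (IsLocalRing.ResidueField V) = p
    IsGalois K L ∧ (case1 ∨ case2 ∨ case3 ∨ case4) ∧
      ((∃ a : A, algebraMap A K a = ξ) → case1 ∨ case2) ∧
      (∀ (n : ℕ) (a : Aˣ), 0 < n → ¬ p ∣ n → ξ * algebraMap A K π ^ n = algebraMap A K a → case3) ∧
      (∀ (n : ℕ) (a : A), 0 < n → p ∣ n →
        (∀ r : A, IsLocalRing.residue A a ≠ IsLocalRing.residue A r ^ p) →
          ξ * algebraMap A K π ^ n = algebraMap A K a → case4) := by
  haveI : Fact p.Prime := ⟨hp⟩
  rw [IsScalarTower.algebraMap_eq A K L]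
  intro g case1 case2 case3 case4
  refine ⟨ASField.isGalois p ξ z hz hgen, classify p π hπ ξ z hz hgen, ?_, ?_, ?_⟩
  · rintro ⟨a, rfl⟩
    exact caseA p π hπ z a hz hgen
  · intro n a hn hpn hξ
    haveI : FiniteDimensional K L := ASField.finiteDimensional p ξ z hz hgen
    exact ASCaseB.caseB p π (pi_irreducible π hπ) ξ z hz n a hn hξ hpn hgen
  · intro n a hn hpn ha hξ
    obtain ⟨m, rfl⟩ := hpn
    have hm : 0 < m := by
      rcases Nat.eq_zero_or_pos m with h0 | h0
      · rw [h0, mul_zero] at hn; exact absurd hn (lt_irrefl _)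
      · exact h0
    exact caseC p π hπ z ξ hz hgen m hm a ha hξ

end Main

end Groth.Agent.Lib.Helper26.ASMain
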