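import Mathlib
import Groth.Prelude.Def_EtRam
import Groth.Agent.Lib.Helper26.Monog
import Groth.Agent.Lib.Helper26.ASField
import Groth.Agent.Lib.Helper26.ASCaseAC
import Groth.Agent.Lib.Helper26.ASMain
import Groth.Agent.Lib.Helper26.TameSub

set_option autoImplicit false
set_option linter.unusedVariables false
set_option linter.style.haveILetI false
set_option linter.unusedSectionVars false
set_option linter.unusedSimpArgs false

universe u

namespace Groth.Agent.Lib.Helper26.AS93

open IsLocalRing Polynomial Groth.Agent.Lib.Helper26 Groth.Agent.Lib.Helper26.Monog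
  Groth.Agent.Lib.Helper26.ASCaseAC

section Field

variable (p : ℕ) [hp : Fact p.Prime] (F E : Type u) [Field F] [Field E] [Algebra F E] [CharP F p]
  [FiniteDimensional F E] [IsGalois F E]

omit [CharP F p] hp in
theorem fixed_of_gen (σ : E ≃ₐ[F] E) (hσ : ∀ g : E ≃ₐ[F] E, g ∈ Subgroup.zpowers σ) (x : E)
    (hx : σ x = x) : ∃ c : F, algebraMap F E c = x := by
  have h1 : σ ∈ MulAction.stabilizer (E ≃ₐ[F] E) x := by
    rw [MulAction.mem_stabilizer_iff, AlgEquiv.smul_def]; exact hx
  have h2 : Subgroup.zpowers σ ≤ MulAction.stabilizer (E ≃ₐ[F] E) x :=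
    (Subgroup.zpowers_le).mpr h1
  have h3 : ∀ g : E ≃ₐ[F] E, g x = x := by
    intro g
    have := h2 (hσ g)
    rw [MulAction.mem_stabilizer_iff, AlgEquiv.smul_def] at this
    exact this
  have h4 := (IsGalois.mem_range_algebraMap_iff_fixed (F := F) (E := E) x).mpr h3
  exact h4

theorem exists_AS_gen (hdeg : Module.finrank F E = p) :
    ∃ (z : E) (ξ : F), z ^ p - z = algebraMap F E ξ ∧ IntermediateField.adjoin F {z} = ⊤ := by
  have hp1 : 1 < p := hp.out.one_lt
  haveI : CharP E p := ASField.charP_L p F (L := E)
  have hcard : Nat.card (E ≃ₐ[F] E) = p := by rw [IsGalois.card_aut_eq_finrank, hdeg]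
  haveI : IsCyclic (E ≃ₐ[F] E) := isCyclic_of_prime_card hcard
  obtain ⟨σ, hσ⟩ := IsCyclic.exists_generator (α := E ≃ₐ[F] E)
  -- the operator N = σ - 1
  set N : E →ₗ[F] E := σ.toLinearMap - LinearMap.id with hN
  have hNapp : ∀ x, N x = σ x - x := fun x => by
    rw [hN, LinearMap.sub_apply, AlgEquiv.toLinearMap_apply, LinearMap.id_apply]
  have hker : LinearMap.ker N = Submodule.span F {(1 : E)} := by
    ext x
    rw [LinearMap.mem_ker, hNapp, sub_eq_zero, Submodule.mem_span_singleton]
    constructor
    · intro hx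
      obtain ⟨c, hc⟩ := fixed_of_gen F E σ hσ x hx
      exact ⟨c, by rw [Algebra.smul_def, mul_one, hc]⟩
    · rintro ⟨c, rfl⟩
      rw [map_smul, map_one]
  have hkerdim : Module.finrank F (LinearMap.ker N) = 1 := by
    rw [hker]; exact finrank_span_singleton one_ne_zero
  have hrk := LinearMap.finrank_range_add_finrank_ker N
  rw [hkerdim, hdeg] at hrk
  -- the trace
  set T : E →ₗ[F] F := Algebra.trace F E with hT
  have hTsurj : Function.Surjective T := Algebra.trace_surjective F E
  have hTrk := LinearMap.finrank_range_add_finrank_ker T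
  rw [LinearMap.range_eq_top.mpr hTsurj, finrank_top, Module.finrank_self, hdeg] at hTrk
  have hle : LinearMap.range N ≤ LinearMap.ker T := by
    rintro _ ⟨x, rfl⟩
    rw [LinearMap.mem_ker, hNapp, map_sub, sub_eq_zero, hT]
    exact Algebra.trace_eq_of_algEquiv σ x
  have heq : LinearMap.range N = LinearMap.ker T :=
    Submodule.eq_of_le_of_finrank_eq hle (by omega)
  have h1 : (1 : E) ∈ LinearMap.ker T := by
    rw [LinearMap.mem_ker, hT]
    have := Algebra.trace_algebraMap (R := F) (S := E) (1 : F)
    rw [map_one] at this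
    rw [this, hdeg, nsmul_eq_mul, mul_one, CharP.cast_eq_zero]
  rw [← heq] at h1
  obtain ⟨y, hy⟩ := h1
  rw [hNapp, sub_eq_iff_eq_add] at hy
  -- y^p - y is fixed
  have hfix : σ (y ^ p - y) = y ^ p - y := by
    rw [map_sub, map_pow, hy, add_pow_char, one_pow]; ring
  obtain ⟨ξ, hξ⟩ := fixed_of_gen F E σ hσ _ hfix
  refine ⟨y, ξ, hξ.symm, ?_⟩
  haveI := IntermediateField.isSimpleOrder_of_finrank_prime F E (by rw [hdeg]; exact hp.out)
  rcases eq_bot_or_eq_top (IntermediateField.adjoin F {y}) with hb | ht
  · exfalso
    have hmem : y ∈ (⊥ : IntermediateField F E) := by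
      rw [← hb]; exact IntermediateField.mem_adjoin_simple_self F y
    rw [IntermediateField.mem_bot] at hmem
    obtain ⟨c, rfl⟩ := hmem
    rw [AlgEquiv.commutes] at hy
    have : (1 : E) = 0 := by
      have h := hy
      nth_rewrite 1 [← add_zero (algebraMap F E c)] at h
      rw [add_comm (1 : E)] at h
      exact (add_left_cancel h).symm
    exact one_ne_zero this
  · exact ht

end Field

section Red

variable {A K L : Type u} [CommRing A] [IsDomain A] [IsDiscreteValuationRing A] [Field K]
  [Algebra A K] [IsFractionRing A K] [Field L] [Algebra K L]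
  (p : ℕ) [hp : Fact p.Prime] [CharP K p]
  (π : A) (hπ : maximalIdeal A = Ideal.span {π})
  (hperf : ∀ u : Aˣ, ∃ r : A, residue A (u : A) = residue A r ^ p)

/-- the outcome of the reduction -/
def Outcome (A K L : Type u) [CommRing A] [Field K]
    [Algebra A K] [Field L] [Algebra K L] (p : ℕ) (π : A) : Prop :=
  (∃ (z' : L) (a : A), z' ^ p - z' = algebraMap K L (algebraMap A K a) ∧
      IntermediateField.adjoin K {z'} = ⊤) ∨
  (∃ (z' : L) (ξ' : K) (n' : ℕ) (u' : Aˣ), 0 < n' ∧ ¬ p ∣ n' ∧
      z' ^ p - z' = algebraMap K L ξ' ∧ IntermediateField.adjoin K {z'} = ⊤ ∧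
      ξ' * algebraMap A K π ^ n' = algebraMap A K u')

include hπ hperf

theorem reduce_aux : ∀ (n : ℕ) (ξ : K) (z : L) (u : Aˣ), 0 < n →
    z ^ p - z = algebraMap K L ξ → IntermediateField.adjoin K {z} = ⊤ →
    ξ * algebraMap A K π ^ n = algebraMap A K u → Outcome A K L p π := by
  intro n
  induction n using Nat.strong_induction_on with
  | _ n ih =>
    intro ξ z u hn hz hgen hξ
    have hp1 : 1 < p := hp.out.one_lt
    have hπK := ASMain.pi_ne_zero (K := K) π hπ
    have hπm : π ∈ maximalIdeal A := by rw [hπ]; exact Ideal.mem_span_singleton_self π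
    by_cases hpn : p ∣ n
    swap
    · exact Or.inr ⟨z, ξ, n, u, hn, hpn, hz, hgen, hξ⟩
    obtain ⟨m, rfl⟩ := hpn
    have hm : 0 < m := by
      rcases Nat.eq_zero_or_pos m with h0 | h0
      · rw [h0, mul_zero] at hn; exact absurd hn (lt_irrefl _)
      · exact h0
    obtain ⟨r, hr⟩ := hperf u
    -- reduction
    set c : K := algebraMap A K r / algebraMap A K π ^ m with hc
    set ξ' : K := ξ - (c ^ p - c) with hξ'def
    set z' : L := z - algebraMap K L c with hz'def
    have hz' : z' ^ p - z' = algebraMap K L ξ' := by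
      haveI := ASField.charP_L p K (L := L)
      rw [hz'def, hξ'def, sub_pow_char, map_sub, map_sub, map_pow, ← hz]
      ring
    have hgen' : IntermediateField.adjoin K {z'} = ⊤ := by
      rw [eq_top_iff, ← hgen, IntermediateField.adjoin_le_iff]
      intro x hx
      rw [Set.mem_singleton_iff] at hx
      subst hx
      have : x = z' + algebraMap K L c := by rw [hz'def]; ring
      rw [this]
      exact add_mem (IntermediateField.mem_adjoin_simple_self K z')
        (IntermediateField.algebraMap_mem _ _)
    -- the integrality of `ξ' π^(pm-1)`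
    have hpm : m < p * m := by nlinarith
    have hb : ∃ b' : A, ξ' * algebraMap A K π ^ (p * m - 1) = algebraMap A K b' := by
      have hbmem : (u : A) - r ^ p + r * π ^ (p * m - m) ∈ maximalIdeal A := by
        rw [← residue_eq_zero_iff, map_add, map_sub, map_pow, hr, sub_self, zero_add, map_mul,
          map_pow, (residue_eq_zero_iff π).mpr hπm, zero_pow (by omega), mul_zero]
      rw [hπ, Ideal.mem_span_singleton'] at hbmem
      obtain ⟨b', hb'⟩ := hbmem
      refine ⟨b', ?_⟩
      have h1 : ξ' * algebraMap A K π ^ (p * m) =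
          algebraMap A K ((u : A) - r ^ p + r * π ^ (p * m - m)) := by
        rw [hξ'def, sub_mul, sub_mul, hξ, hc, map_add, map_sub, map_mul, map_pow, map_pow]
        have e1 : (algebraMap A K r / algebraMap A K π ^ m) ^ p * algebraMap A K π ^ (p * m) =
            algebraMap A K r ^ p := by
          rw [div_pow, ← pow_mul, mul_comm m p]
          field_simp
        have e2 : algebraMap A K r / algebraMap A K π ^ m * algebraMap A K π ^ (p * m) =
            algebraMap A K r * algebraMap A K π ^ (p * m - m) := by
          have : p * m = m + (p * m - m) := by omega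
          conv_lhs => rw [this, pow_add]
          field_simp
        rw [e1, e2]
        ring
      rw [← hb', map_mul] at h1
      have h2 : p * m = (p * m - 1) + 1 := by omega
      rw [h2, pow_succ, ← mul_assoc] at h1
      exact mul_right_cancel₀ hπK h1
    obtain ⟨b', hb'⟩ := hb
    rcases ASMain.normal_form (K := K) π hπ ξ' with ⟨a', ha'⟩ | ⟨n', u', hn', hξ'⟩
    · rw [← ha'] at hz'
      exact Or.inl ⟨z', a', hz', hgen'⟩
    · have hlt : n' < p * m := by
        by_contra hge
        push Not at hge
        obtain ⟨d, hd⟩ : ∃ d, n' = (p * m - 1) + (d + 1) := ⟨n' - p * m, by omega⟩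
        rw [hd, pow_add, ← mul_assoc, hb', ← map_pow, ← map_mul] at hξ'
        have h4 : b' * π ^ (d + 1) = (u' : A) := IsFractionRing.injective A K hξ'
        have h5 : (u' : A) ∈ maximalIdeal A := by
          rw [← h4]
          exact Ideal.mul_mem_left _ _ (Ideal.pow_mem_of_mem _ hπm _ (by omega))
        exact h5 u'.isUnit
      exact ih n' hlt ξ' z' u' hn' hz' hgen' hξ'

theorem reduce (ξ : K) (z : L) (hz : z ^ p - z = algebraMap K L ξ)
    (hgen : IntermediateField.adjoin K {z} = ⊤) : Outcome A K L p π := by
  rcases ASMain.normal_form (K := K) π hπ ξ with ⟨a, ha⟩ | ⟨n, u, hn, hξ⟩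
  · rw [← ha] at hz
    exact Or.inl ⟨z, a, hz, hgen⟩
  · exact reduce_aux p π hπ hperf n ξ z u hn hz hgen hξ

end Red

section Ram

open IsDedekindDomain

attribute [local instance] FractionRing.liftAlgebra

variable (A B : Type u) [CommRing A] [IsDomain A] [IsDiscreteValuationRing A]
  [CommRing B] [IsDedekindDomain B] [Algebra A B] [Module.Finite A B] [Module.IsTorsionFree A B]
  (M : Ideal B) [M.IsMaximal]

theorem not_unramified (e : ℕ) (he : 2 ≤ e) (hram : M.ramificationIdx A = e) :
    ¬ EtRam.IsUnramifiedExt A (gAL A (FractionRing A) (FractionRing B)) := by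
  intro hunr
  haveI : Algebra.IsIntegral A B := inferInstance
  have hinj : Function.Injective (algebraMap A B) := FaithfulSMul.algebraMap_injective A B
  -- M lies over the maximal ideal
  haveI hmaxu : (M.under A).IsMaximal := Ideal.IsMaximal.under A M
  have hunder : M.under A = maximalIdeal A := IsLocalRing.eq_maximalIdeal hmaxu
  obtain ⟨π, hπ⟩ := IsDiscreteValuationRing.exists_irreducible A
  have hπmax : maximalIdeal A = Ideal.span {π} := hπ.maximalIdeal_eq
  have hπm : π ∈ maximalIdeal A := by rw [hπmax]; exact Ideal.mem_span_singleton_self π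
  have hπM : algebraMap A B π ∈ M := by
    have : π ∈ M.under A := by rw [hunder]; exact hπm
    exact this
  have hπB0 : algebraMap A B π ≠ 0 := by
    intro h0
    exact hπ.ne_zero (hinj (by rw [h0, map_zero]))
  have hM0 : M ≠ ⊥ := by
    rintro rfl
    exact hπB0 hπM
  have hunder0 : M.under A ≠ ⊥ := by
    rw [hunder]; exact IsDiscreteValuationRing.not_a_field A
  -- ramification
  have hram' : (M.under A).ramificationIdx' M = e := by
    rw [Ideal.ramificationIdx'_eq_ramificationIdx (M.under A) M hunder0, hram]
  have hle : Ideal.map (algebraMap A B) (M.under A) ≤ M ^ 2 := by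
    have h1 := Ideal.le_pow_ramificationIdx' (p := M.under A) (P := M)
    rw [hram'] at h1
    exact h1.trans (Ideal.pow_le_pow_right he)
  have hπM2 : algebraMap A B π ∈ M ^ 2 :=
    hle (Ideal.mem_map_of_mem _ (by rw [hunder]; exact hπm))
  -- the valuation
  set v : HeightOneSpectrum B := ⟨M, inferInstance, hM0⟩ with hv
  set w := v.valuation (FractionRing B) with hw
  set V : ValuationSubring (FractionRing B) := w.valuationSubring with hVdef
  have hequiv : w.IsEquiv V.valuation := Valuation.isEquiv_valuation_valuationSubring w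
  have hg : ∀ a : A, gAL A (FractionRing A) (FractionRing B) a =
      algebraMap B (FractionRing B) (algebraMap A B a) := by
    intro a
    show algebraMap (FractionRing A) (FractionRing B) (algebraMap A (FractionRing A) a) = _
    rw [← IsScalarTower.algebraMap_apply, IsScalarTower.algebraMap_apply A B (FractionRing B)]
  have hdom : EtRam.Dominates A (gAL A (FractionRing A) (FractionRing B)) V := by
    constructor
    · intro a
      rw [hg, hVdef, Valuation.mem_valuationSubring_iff]
      exact v.valuation_le_one _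
    · intro a ha
      rw [← hequiv.lt_one_iff_lt_one, hg, hw, v.valuation_lt_one_iff_mem]
      have : a ∈ M.under A := by rw [hunder]; exact ha
      exact this
  letI : Algebra A V :=
    (RingHom.codRestrict (gAL A (FractionRing A) (FractionRing B)) V hdom.1).toAlgebra
  haveI : IsLocalHom (algebraMap A V) := TameSub.isLocalHom_of_dominates A _ V hdom
  have h := hunr V hdom
  obtain ⟨hwu, -⟩ := h
  -- uniformizer upstairs
  obtain ⟨ϖ, hϖ⟩ := v.valuation_exists_uniformizer (FractionRing B)
  have hϖV : ϖ ∈ V := by
    rw [hVdef, Valuation.mem_valuationSubring_iff, ← hw] at *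
    rw [hϖ]
    exact le_of_lt (by rw [← WithZero.exp_zero, WithZero.exp_lt_exp]; omega)
  have hϖm : (⟨ϖ, hϖV⟩ : V) ∈ maximalIdeal V := by
    rw [ValuationSubring.valuation_lt_one_iff, ← hequiv.lt_one_iff_lt_one, hϖ,
      ← WithZero.exp_zero, WithZero.exp_lt_exp]
    omega
  unfold EtRam.IsWeaklyUnramified at hwu
  rw [← hwu, hπmax, Ideal.map_span, Set.image_singleton, Ideal.mem_span_singleton'] at hϖm
  obtain ⟨y, hy⟩ := hϖm
  have hy' : (y : FractionRing B) * algebraMap B (FractionRing B) (algebraMap A B π) = ϖ := by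
    have := congrArg Subtype.val hy
    rw [← hg]
    exact this
  have hyle : w (y : FractionRing B) ≤ 1 := (Valuation.mem_valuationSubring_iff w _).mp y.2
  have hπle : w (algebraMap B (FractionRing B) (algebraMap A B π)) ≤ WithZero.exp (-(2 : ℤ)) := by
    rw [hw, v.valuation_of_algebraMap]
    have := (v.intValuation_le_pow_iff_mem (algebraMap A B π) 2).mpr hπM2
    exact_mod_cast this
  have hcontra : w ϖ ≤ WithZero.exp (-(2 : ℤ)) := by
    rw [← hy', map_mul]
    calc w (y : FractionRing B) * w (algebraMap B (FractionRing B) (algebraMap A B π))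
        ≤ 1 * WithZero.exp (-(2 : ℤ)) := mul_le_mul' hyle hπle
      _ = _ := one_mul _
  rw [hϖ, WithZero.exp_le_exp] at hcontra
  omega

end Ram

section Main

attribute [local instance] FractionRing.liftAlgebra

theorem main_11093 (p : ℕ) [hp : Fact p.Prime] (K : Type u) [Field K]
    [CharP K p] [PerfectField K] (B : Type u) [CommRing B] [IsDedekindDomain B]
    [Algebra (PowerSeries K) B] [Module.Finite (PowerSeries K) B]
    [Module.IsTorsionFree (PowerSeries K) B]
    [IsGalois (FractionRing (PowerSeries K)) (FractionRing B)]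
    (hdeg : Module.finrank (FractionRing (PowerSeries K)) (FractionRing B) = p)
    (M : Ideal B) [M.IsMaximal] (hram : M.ramificationIdx (PowerSeries K) = p) :
    ∃ x : FractionRing B, ∃ m : ℕ, ∃ a : PowerSeries K,
      IntermediateField.adjoin (FractionRing (PowerSeries K)) {x} = ⊤ ∧ 0 < m ∧ ¬ p ∣ m ∧
      PowerSeries.constantCoeff a ≠ 0 ∧
      x ^ p - x + algebraMap (FractionRing (PowerSeries K)) (FractionRing B)
        (algebraMap (PowerSeries K) (FractionRing (PowerSeries K)) a /
          algebraMap (PowerSeries K) (FractionRing (PowerSeries K)) (PowerSeries.X ^ m)) = 0 := by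
  have hp1 : 1 < p := hp.out.one_lt
  haveI : CharP (PowerSeries K) p :=
    charP_of_injective_algebraMap (PowerSeries.C_injective (R := K)) p
  haveI : CharP (FractionRing (PowerSeries K)) p :=
    charP_of_injective_algebraMap (IsFractionRing.injective (PowerSeries K) _) p
  haveI : FiniteDimensional (FractionRing (PowerSeries K)) (FractionRing B) :=
    Module.finite_of_finrank_pos (by rw [hdeg]; exact hp.out.pos)
  obtain ⟨z, ξ, hz, hgen⟩ := exists_AS_gen p (FractionRing (PowerSeries K)) (FractionRing B) hdeg
  have hπ : maximalIdeal (PowerSeries K) = Ideal.span {(PowerSeries.X : PowerSeries K)} :=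
    PowerSeries.maximalIdeal_eq_span_X
  have hperf : ∀ u : (PowerSeries K)ˣ, ∃ r : PowerSeries K,
      residue (PowerSeries K) (u : PowerSeries K) = residue (PowerSeries K) r ^ p := by
    intro u
    haveI : PerfectRing K p := PerfectField.toPerfectRing p
    obtain ⟨d, hd⟩ := surjective_frobenius K p (PowerSeries.constantCoeff (u : PowerSeries K))
    refine ⟨PowerSeries.C d, ?_⟩
    rw [← map_pow, ← sub_eq_zero, ← map_sub, residue_eq_zero_iff, hπ,
      Ideal.mem_span_singleton, PowerSeries.X_dvd_iff, map_sub, map_pow,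
      PowerSeries.constantCoeff_C, ← hd, frobenius_def, sub_self]
  rcases reduce p PowerSeries.X hπ hperf ξ z hz hgen with
    ⟨z', a, hz', hgen'⟩ | ⟨z', ξ', n', u', hn', hpn', hz', hgen', hξ'⟩
  · exfalso
    rcases caseA p PowerSeries.X hπ z' a hz' hgen' with h | ⟨h, -⟩
    · rw [hdeg] at h; omega
    · exact not_unramified (PowerSeries K) B M p hp.out.two_le hram h
  · refine ⟨z', n', -(u' : PowerSeries K), hgen', hn', hpn', ?_, ?_⟩
    · rw [map_neg, neg_ne_zero]
      have := u'.isUnit
      rw [PowerSeries.isUnit_iff_constantCoeff] at this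
      exact this.ne_zero
    · have hX0 : algebraMap (PowerSeries K) (FractionRing (PowerSeries K)) PowerSeries.X ≠ 0 :=
        ASMain.pi_ne_zero (K := FractionRing (PowerSeries K)) PowerSeries.X hπ
      have hξ'' : ξ' = algebraMap (PowerSeries K) (FractionRing (PowerSeries K)) (u' : PowerSeries K) /
          algebraMap (PowerSeries K) (FractionRing (PowerSeries K)) (PowerSeries.X ^ n') := by
        rw [map_pow, eq_div_iff (pow_ne_zero _ hX0)]
        exact hξ'
      rw [hz', map_neg, neg_div, ← hξ'', map_neg, add_neg_cancel]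

end Main

end Groth.Agent.Lib.Helper26.AS93
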