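import Mathlib
import Groth.Agent.Lib.Helper1.ArtFunPS
import Groth.Agent.Lib.Helper1.ArtFunObsDimMain
import Groth.Agent.Lib.Helper12.IntegralDim

set_option autoImplicit false
universe u

namespace Groth.Agent.Lib.Helper26.ASFamA

open MvPolynomial IsLocalRing

/-- general injectivity: adjoining roots of monic-type relations to a domain -/
theorem injective_of_roots {R : Type u} [CommRing R] [IsDomain R] {n : ℕ} (d : ℕ) (hd : 0 < d)
    (g : Fin n → Polynomial R) (hg : ∀ i, (g i).degree < d)
    (I : Ideal (MvPolynomial (Fin n) R))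
    (hI : I = Ideal.span (Set.range fun i : Fin n =>
      (X i ^ d - Polynomial.aeval (X i : MvPolynomial (Fin n) R) (g i)))) :
    Function.Injective (algebraMap R (MvPolynomial (Fin n) R ⧸ I)) := by
  let L := FractionRing R
  let Ω := AlgebraicClosure L
  have hroot : ∀ i, ∃ ω : Ω, ω ^ d - Polynomial.aeval ω (g i) = 0 := by
    intro i
    let q : Polynomial Ω := Polynomial.X ^ d - (g i).map (algebraMap R Ω)
    have hdeg : q.degree = d := by
      have h1 : ((g i).map (algebraMap R Ω)).degree < (Polynomial.X ^ d : Polynomial Ω).degree := by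
        rw [Polynomial.degree_X_pow]
        exact lt_of_le_of_lt (Polynomial.degree_map_le) (hg i)
      rw [Polynomial.degree_sub_eq_left_of_degree_lt h1, Polynomial.degree_X_pow]
    have hq : q.degree ≠ 0 := by
      rw [hdeg]
      exact_mod_cast hd.ne'
    obtain ⟨ω, hω⟩ := IsAlgClosed.exists_root q hq
    refine ⟨ω, ?_⟩
    rw [Polynomial.IsRoot.def, Polynomial.eval_sub, Polynomial.eval_pow, Polynomial.eval_X,
      Polynomial.eval_map, ← Polynomial.aeval_def] at hω
    exact hω
  choose ω hω using hroot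
  let ev : MvPolynomial (Fin n) R →ₐ[R] Ω := MvPolynomial.aeval ω
  have hle : I ≤ RingHom.ker ev.toRingHom := by
    rw [hI, Ideal.span_le]
    rintro _ ⟨i, rfl⟩
    rw [SetLike.mem_coe, RingHom.mem_ker]
    show ev _ = 0
    rw [map_sub, map_pow, MvPolynomial.aeval_X, ← Polynomial.aeval_algHom_apply,
      MvPolynomial.aeval_X]
    exact hω i
  let lift : (MvPolynomial (Fin n) R ⧸ I) →ₐ[R] Ω := Ideal.Quotient.liftₐ I ev (fun x hx => hle hx)
  have hinj : Function.Injective (algebraMap R Ω) := by
    rw [IsScalarTower.algebraMap_eq R L Ω]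
    exact (algebraMap L Ω).injective.comp (IsFractionRing.injective R L)
  intro r s hrs
  apply hinj
  rw [← lift.commutes r, ← lift.commutes s, hrs]

section

variable (p : ℕ) [hp : Fact p.Prime] (k : Type u) [Field k] (n : ℕ)
  (a : Fin n → MvPowerSeries (Fin n) k)

/-- the defining relations -/
noncomputable def rel (i : Fin n) : MvPolynomial (Fin n) (MvPowerSeries (Fin n) k) :=
  X i ^ p - C (a i ^ (p - 1)) * X i - C (MvPowerSeries.X i)

/-- the defining ideal -/
noncomputable def relIdeal : Ideal (MvPolynomial (Fin n) (MvPowerSeries (Fin n) k)) :=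
  Ideal.span (Set.range (rel p k n a))

/-- the algebra `A` -/
abbrev AA : Type u := MvPolynomial (Fin n) (MvPowerSeries (Fin n) k) ⧸ relIdeal p k n a

/-- the class of `u_i` -/
noncomputable def uu (i : Fin n) : AA p k n a := Ideal.Quotient.mk _ (X i)

omit hp in
theorem uu_rel (i : Fin n) :
    uu p k n a i ^ p = algebraMap (MvPowerSeries (Fin n) k) (AA p k n a) (a i ^ (p - 1)) * uu p k n a i +
      algebraMap (MvPowerSeries (Fin n) k) (AA p k n a) (MvPowerSeries.X i) := by
  have h : Ideal.Quotient.mk (relIdeal p k n a) (rel p k n a i) = 0 :=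
    Ideal.Quotient.eq_zero_iff_mem.mpr (Ideal.subset_span ⟨i, rfl⟩)
  rw [rel, map_sub, map_sub, map_mul, map_pow] at h
  have h2 : ∀ r : MvPowerSeries (Fin n) k,
      Ideal.Quotient.mk (relIdeal p k n a) (C r) = algebraMap _ (AA p k n a) r := fun r => rfl
  rw [h2, h2] at h
  unfold uu
  linear_combination h

omit hp in
theorem adjoin_uu : Algebra.adjoin (MvPowerSeries (Fin n) k) (Set.range (uu p k n a)) = ⊤ := by
  have h1 : Set.range (uu p k n a) = (Ideal.Quotient.mkₐ (MvPowerSeries (Fin n) k) (relIdeal p k n a)) ''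
      (Set.range (X : Fin n → MvPolynomial (Fin n) (MvPowerSeries (Fin n) k))) := by
    rw [← Set.range_comp]
    rfl
  rw [h1, ← AlgHom.map_adjoin, MvPolynomial.adjoin_range_X, Algebra.map_top,
    AlgHom.range_eq_top]
  exact Ideal.Quotient.mkₐ_surjective _ _

theorem isIntegral_uu (i : Fin n) : IsIntegral (MvPowerSeries (Fin n) k) (uu p k n a i) := by
  refine ⟨Polynomial.X ^ p - Polynomial.C (a i ^ (p - 1)) * Polynomial.X -
    Polynomial.C (MvPowerSeries.X i), ?_, ?_⟩
  · have hp1 : 1 < p := hp.out.one_lt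
    have : Polynomial.X ^ p - Polynomial.C (a i ^ (p - 1)) * Polynomial.X -
        Polynomial.C (MvPowerSeries.X i : MvPowerSeries (Fin n) k) =
        Polynomial.X ^ p - (Polynomial.C (a i ^ (p - 1)) * Polynomial.X +
        Polynomial.C (MvPowerSeries.X i)) := by ring
    rw [this]
    apply Polynomial.monic_X_pow_sub
    refine lt_of_le_of_lt (Polynomial.degree_add_le _ _) ?_
    rw [max_lt_iff]
    constructor
    · refine lt_of_le_of_lt (Polynomial.degree_C_mul_X_le _) ?_
      exact_mod_cast hp1
    · refine lt_of_le_of_lt Polynomial.degree_C_le ?_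
      exact_mod_cast (by omega : 0 < p)
  · rw [← Polynomial.aeval_def, map_sub, map_sub, map_mul, map_pow, Polynomial.aeval_X,
      Polynomial.aeval_C, Polynomial.aeval_C, uu_rel]
    ring

instance isIntegral_AA : Algebra.IsIntegral (MvPowerSeries (Fin n) k) (AA p k n a) := by
  constructor
  intro z
  have h1 : Algebra.adjoin (MvPowerSeries (Fin n) k) (Set.range (uu p k n a)) ≤
      integralClosure (MvPowerSeries (Fin n) k) (AA p k n a) := by
    apply Algebra.adjoin_le
    rintro _ ⟨i, rfl⟩
    exact isIntegral_uu p k n a i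
  rw [adjoin_uu] at h1
  exact h1 trivial

end

end Groth.Agent.Lib.Helper26.ASFamA
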