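import Mathlib
import Groth.Agent.Lib.Helper12.IntegralDim

set_option autoImplicit false
universe u

namespace Groth.Agent.Lib.Helper26.ASFamG

open IsLocalRing

theorem algebraMap_mem_of_isMaximal {R A : Type*} [CommRing R] [IsLocalRing R] [CommRing A]
    [Algebra R A] [Algebra.IsIntegral R A] (M : Ideal A) [M.IsMaximal] (f : R)
    (hf : f ∈ maximalIdeal R) : algebraMap R A f ∈ M := by
  have h1 : (M.comap (algebraMap R A)).IsMaximal :=
    Ideal.isMaximal_comap_of_isIntegral_of_isMaximal M
  have h2 : M.comap (algebraMap R A) = maximalIdeal R := IsLocalRing.eq_maximalIdeal h1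
  rw [← h2] at hf
  exact hf

section

variable {R A : Type u} [CommRing R] [IsLocalRing R] [CommRing A] [Algebra R A]
    [Algebra.IsIntegral R A]
    (n : ℕ) (p : ℕ) (hp : 0 < p)
    (u : Fin n → A) (hmax : (Ideal.span (Set.range u)).IsMaximal)
    (hrel : ∀ i, ∃ c d : R, c ∈ maximalIdeal R ∧ d ∈ maximalIdeal R ∧
      u i ^ p = algebraMap R A c * u i + algebraMap R A d)

include hmax hrel in
theorem eq_span_of_isMaximal (M : Ideal A) [hM : M.IsMaximal] :
    M = Ideal.span (Set.range u) := by
  have hu : ∀ i, u i ∈ M := by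
    intro i
    obtain ⟨c, d, hc, hd, h⟩ := hrel i
    apply hM.isPrime.mem_of_pow_mem p
    rw [h]
    exact M.add_mem (M.mul_mem_right _ (algebraMap_mem_of_isMaximal M c hc))
      (algebraMap_mem_of_isMaximal M d hd)
  have hle : Ideal.span (Set.range u) ≤ M := by
    rw [Ideal.span_le]
    rintro _ ⟨i, rfl⟩
    exact hu i
  exact (hmax.eq_of_le hM.ne_top hle).symm

include hmax hrel in
theorem isLocalRing_generic : IsLocalRing A :=
  IsLocalRing.of_unique_max_ideal ⟨Ideal.span (Set.range u), hmax,
    fun M hM => by
      haveI := hM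
      exact eq_span_of_isMaximal n p u hmax hrel M⟩

include hmax hrel in
theorem isRegularLocalRing_generic [IsNoetherianRing A]
    (hinj : Function.Injective (algebraMap R A)) (hdim : ringKrullDim R = n) :
    IsRegularLocalRing A := by
  classical
  haveI : IsLocalRing A := isLocalRing_generic n p u hmax hrel
  apply IsRegularLocalRing.of_spanFinrank_maximalIdeal_le
  have hdimA : ringKrullDim A = n := by
    rw [← Groth.Agent.Lib.Helper12.ringKrullDim_eq_of_isIntegral_of_injective R A hinj, hdim]
  have hmaxA : maximalIdeal A = Ideal.span (Set.range u) :=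
    eq_span_of_isMaximal n p u hmax hrel _
  rw [hdimA, hmaxA]
  have h1 : Set.range u = ((Finset.univ.image u : Finset _) : Set _) := by
    rw [Finset.coe_image, Finset.coe_univ, Set.image_univ]
  have h2 : (Ideal.span (Set.range u)).spanFinrank ≤ n := by
    refine le_trans (Submodule.spanFinrank_span_le_ncard_of_finite (Set.finite_range _)) ?_
    rw [h1, Set.ncard_coe_finset]
    exact le_trans Finset.card_image_le (by rw [Finset.card_univ, Fintype.card_fin])
  exact_mod_cast h2

end

end Groth.Agent.Lib.Helper26.ASFamG
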