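import Mathlib
import Groth.Agent.Lib.Helper1.ArtFunPS
import Groth.Agent.Lib.Helper1.ArtFunObsDimMain
import Groth.Agent.Lib.Helper12.IntegralDim
import Groth.Agent.Lib.Helper26.ASFamA
import Groth.Agent.Lib.Helper26.ASFamG

set_option autoImplicit false
universe u

namespace Groth.Agent.Lib.Helper26.ASFamB

open MvPolynomial IsLocalRing Groth.Agent.Lib.Helper26.ASFamA

variable (p : ℕ) [hp : Fact p.Prime] (k : Type u) [Field k] (n : ℕ)
  (a : Fin n → MvPowerSeries (Fin n) k)

theorem algebraMap_injective :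
    Function.Injective (algebraMap (MvPowerSeries (Fin n) k) (AA p k n a)) := by
  have : IsDomain (MvPowerSeries (Fin n) k) := NoZeroDivisors.to_isDomain _
  apply injective_of_roots p hp.out.pos
    (fun i => Polynomial.C (a i ^ (p - 1)) * Polynomial.X + Polynomial.C (MvPowerSeries.X i))
  · intro i
    have hp1 : 1 < p := hp.out.one_lt
    refine lt_of_le_of_lt (Polynomial.degree_add_le _ _) ?_
    rw [max_lt_iff]
    constructor
    · refine lt_of_le_of_lt (Polynomial.degree_C_mul_X_le _) ?_
      exact_mod_cast hp1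
    · refine lt_of_le_of_lt Polynomial.degree_C_le ?_
      exact_mod_cast (by omega : 0 < p)
  · unfold relIdeal
    congr 1
    ext x
    constructor
    · rintro ⟨i, rfl⟩
      refine ⟨i, ?_⟩
      simp only [rel, map_add, map_mul, Polynomial.aeval_C, Polynomial.aeval_X]
      rw [MvPolynomial.algebraMap_eq]
      ring
    · rintro ⟨i, rfl⟩
      refine ⟨i, ?_⟩
      simp only [rel, map_add, map_mul, Polynomial.aeval_C, Polynomial.aeval_X]
      rw [MvPolynomial.algebraMap_eq]
      ring

/-- the augmentation `A → k` -/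
noncomputable def aug : AA p k n a →+* k :=
  Ideal.Quotient.lift _ (MvPolynomial.eval₂Hom
    (MvPowerSeries.constantCoeff (σ := Fin n) (R := k)) (fun _ => 0)) (by
    have hle : relIdeal p k n a ≤ RingHom.ker (MvPolynomial.eval₂Hom
        (MvPowerSeries.constantCoeff (σ := Fin n) (R := k)) (fun _ => (0 : k))) := by
      unfold relIdeal
      rw [Ideal.span_le]
      rintro _ ⟨i, rfl⟩
      rw [SetLike.mem_coe, RingHom.mem_ker]
      simp only [rel, map_sub, map_mul, map_pow, MvPolynomial.eval₂Hom_X', MvPolynomial.eval₂Hom_C,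
        MvPowerSeries.constantCoeff_X]
      rw [zero_pow hp.out.ne_zero]
      ring
    exact fun x hx => RingHom.mem_ker.mp (hle hx))

theorem aug_mk (q : MvPolynomial (Fin n) (MvPowerSeries (Fin n) k)) :
    aug p k n a (Ideal.Quotient.mk _ q) = MvPolynomial.eval₂Hom
      (MvPowerSeries.constantCoeff (σ := Fin n) (R := k)) (fun _ => 0) q := by
  rw [aug, Ideal.Quotient.lift_mk]

theorem aug_surjective : Function.Surjective (aug p k n a) := by
  intro c
  refine ⟨Ideal.Quotient.mk _ (C (MvPowerSeries.C c)), ?_⟩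
  rw [aug_mk, MvPolynomial.eval₂Hom_C, MvPowerSeries.constantCoeff_C]

theorem sub_C_mem_idealOfVars (q : MvPolynomial (Fin n) (MvPowerSeries (Fin n) k)) :
    q - C (constantCoeff q) ∈
      Ideal.span (Set.range (X : Fin n → MvPolynomial (Fin n) (MvPowerSeries (Fin n) k))) := by
  have h := (MvPolynomial.mem_pow_idealOfVars_iff' (σ := Fin n) (R := MvPowerSeries (Fin n) k) 1
    (q - C (constantCoeff q))).mpr (by
    intro x hx
    have hx0 : x = 0 := by
      rw [← Finsupp.degree_eq_zero_iff]
      omega
    subst hx0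
    rw [MvPolynomial.coeff_sub, MvPolynomial.coeff_zero_C]
    exact sub_self _)
  rwa [pow_one] at h

theorem algebraMap_X_mem (i : Fin n) :
    algebraMap (MvPowerSeries (Fin n) k) (AA p k n a) (MvPowerSeries.X i) ∈
      Ideal.span (Set.range (uu p k n a)) := by
  have h := uu_rel p k n a i
  have h2 : algebraMap (MvPowerSeries (Fin n) k) (AA p k n a) (MvPowerSeries.X i) =
      (uu p k n a i ^ (p - 1) -
        algebraMap (MvPowerSeries (Fin n) k) (AA p k n a) (a i ^ (p - 1))) * uu p k n a i := by
    have : uu p k n a i ^ p = uu p k n a i ^ (p - 1) * uu p k n a i := by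
      rw [← pow_succ, Nat.sub_add_cancel hp.out.one_le]
    rw [this] at h
    linear_combination (-1 : AA p k n a) * h
  rw [h2]
  exact Ideal.mul_mem_left _ _ (Ideal.subset_span ⟨i, rfl⟩)

theorem ker_aug : RingHom.ker (aug p k n a) = Ideal.span (Set.range (uu p k n a)) := by
  apply le_antisymm
  · intro z hz
    obtain ⟨q, rfl⟩ := Ideal.Quotient.mk_surjective z
    rw [RingHom.mem_ker, aug_mk, MvPolynomial.eval₂Hom_zero'_apply] at hz
    have h1 := sub_C_mem_idealOfVars k n q
    have h2 := Groth.Agent.Lib.Helper1.ArtFunLib.PS.sub_C_constantCoeff_mem (constantCoeff q)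
    rw [hz, map_zero, sub_zero] at h2
    have h3 : q = (q - C (constantCoeff q)) + C (constantCoeff q) := by ring
    rw [h3, map_add]
    refine Ideal.add_mem _ ?_ ?_
    · have hle : Ideal.span (Set.range (X : Fin n → MvPolynomial (Fin n) (MvPowerSeries (Fin n) k))) ≤
          (Ideal.span (Set.range (uu p k n a))).comap (Ideal.Quotient.mk (relIdeal p k n a)) := by
        rw [Ideal.span_le]
        rintro _ ⟨i, rfl⟩
        exact Ideal.subset_span ⟨i, rfl⟩
      exact hle h1
    · have hle : Ideal.span (Set.range (MvPowerSeries.X : Fin n → MvPowerSeries (Fin n) k)) ≤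
          (Ideal.span (Set.range (uu p k n a))).comap
            (algebraMap (MvPowerSeries (Fin n) k) (AA p k n a)) := by
        rw [Ideal.span_le]
        rintro _ ⟨i, rfl⟩
        exact algebraMap_X_mem p k n a i
      exact hle h2
  · rw [Ideal.span_le]
    rintro _ ⟨i, rfl⟩
    rw [SetLike.mem_coe, RingHom.mem_ker]
    unfold uu
    rw [aug_mk, MvPolynomial.eval₂Hom_X']

theorem isMaximal_span_uu : (Ideal.span (Set.range (uu p k n a))).IsMaximal := by
  rw [← ker_aug]
  exact RingHom.ker_isMaximal_of_surjective _ (aug_surjective p k n a)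

section Local

variable (ham : ∀ i, MvPowerSeries.constantCoeff (a i) = 0)

omit hp in
theorem mem_max_of_constantCoeff_eq_zero (f : MvPowerSeries (Fin n) k)
    (hf : MvPowerSeries.constantCoeff f = 0) : f ∈ maximalIdeal (MvPowerSeries (Fin n) k) := by
  rw [mem_maximalIdeal, mem_nonunits_iff, MvPowerSeries.isUnit_iff_constantCoeff, hf]
  exact not_isUnit_zero

include ham in
theorem hrel_AA : ∀ i, ∃ c d : MvPowerSeries (Fin n) k,
    c ∈ maximalIdeal (MvPowerSeries (Fin n) k) ∧ d ∈ maximalIdeal (MvPowerSeries (Fin n) k) ∧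
      uu p k n a i ^ p = algebraMap (MvPowerSeries (Fin n) k) (AA p k n a) c * uu p k n a i +
        algebraMap (MvPowerSeries (Fin n) k) (AA p k n a) d := by
  intro i
  refine ⟨a i ^ (p - 1), MvPowerSeries.X i, ?_, ?_, uu_rel p k n a i⟩
  · have h3 : a i ∈ maximalIdeal (MvPowerSeries (Fin n) k) :=
      mem_max_of_constantCoeff_eq_zero k n _ (ham i)
    have hp1 : p - 1 ≠ 0 := by have := hp.out.two_le; omega
    exact Ideal.pow_mem_of_mem _ h3 _ (Nat.pos_of_ne_zero hp1)
  · exact mem_max_of_constantCoeff_eq_zero k n _ (MvPowerSeries.constantCoeff_X i)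

include ham in
theorem isRegularLocalRing_AA : IsRegularLocalRing (AA p k n a) :=
  Groth.Agent.Lib.Helper26.ASFamG.isRegularLocalRing_generic
    (R := MvPowerSeries (Fin n) k) (A := AA p k n a) n p (uu p k n a)
    (isMaximal_span_uu p k n a) (hrel_AA p k n a ham) (algebraMap_injective p k n a)
    (Groth.Agent.Lib.Helper1.ArtFunLib.ringKrullDim_mvPowerSeries k n)

end Local

theorem main_15787
    (p : ℕ) [Fact p.Prime] (k : Type u) [Field k] (n : ℕ)
    (a : Fin n → MvPowerSeries (Fin n) k)
    (ham : ∀ i, MvPowerSeries.constantCoeff (a i) = 0) :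
    let I : Ideal (MvPolynomial (Fin n) (MvPowerSeries (Fin n) k)) :=
      Ideal.span (Set.range fun i : Fin n =>
        X i ^ p - C (a i ^ (p - 1)) * X i - C (MvPowerSeries.X i))
    IsRegularLocalRing (MvPolynomial (Fin n) (MvPowerSeries (Fin n) k) ⧸ I) ∧
      (Ideal.map (Ideal.Quotient.mk I)
        (Ideal.span (Set.range (X : Fin n → MvPolynomial (Fin n) (MvPowerSeries (Fin n) k))))).IsMaximal := by
  intro I
  refine ⟨isRegularLocalRing_AA p k n a ham, ?_⟩
  have h : Ideal.map (Ideal.Quotient.mk I)
      (Ideal.span (Set.range (X : Fin n → MvPolynomial (Fin n) (MvPowerSeries (Fin n) k)))) =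
      Ideal.span (Set.range (uu p k n a)) := by
    rw [Ideal.map_span, ← Set.range_comp]
    rfl
  rw [h]
  exact isMaximal_span_uu p k n a

end Groth.Agent.Lib.Helper26.ASFamB
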