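import Mathlib

set_option autoImplicit false
universe u

namespace Groth.Agent.Lib.Helper26.MonicQuot

open MvPolynomial

variable {R : Type u} [CommRing R]

/-- the ideal generated by the `P i (X i)` -/
noncomputable def relI (n : ℕ) (P : Fin n → Polynomial R) : Ideal (MvPolynomial (Fin n) R) :=
  Ideal.span (Set.range fun i => Polynomial.aeval (X i : MvPolynomial (Fin n) R) (P i))

/-- the quotient algebra -/
abbrev Q (n : ℕ) (P : Fin n → Polynomial R) : Type u := MvPolynomial (Fin n) R ⧸ relI n P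

section Step

variable (n : ℕ) (P : Fin (n + 1) → Polynomial R)

/-- the tail family -/
def tail : Fin n → Polynomial R := fun j => P j.succ

/-- the polynomial `P 0` over the tail quotient -/
noncomputable def f0 : Polynomial (Q n (tail n P)) := (P 0).map (algebraMap R (Q n (tail n P)))

/-- images of the variables -/
noncomputable def vars : Fin (n + 1) → AdjoinRoot (f0 n P) :=
  Fin.cons (AdjoinRoot.root (f0 n P))
    (fun j => AdjoinRoot.of (f0 n P) (Ideal.Quotient.mk (relI n (tail n P)) (X j)))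

/-- the map from the polynomial ring -/
noncomputable def Phi : MvPolynomial (Fin (n + 1)) R →ₐ[R] AdjoinRoot (f0 n P) :=
  aeval (vars n P)

theorem Phi_X_zero : Phi n P (X 0) = AdjoinRoot.root (f0 n P) := by
  rw [Phi, aeval_X, vars, Fin.cons_zero]

theorem Phi_X_succ (j : Fin n) : Phi n P (X j.succ) =
    AdjoinRoot.of (f0 n P) (Ideal.Quotient.mk (relI n (tail n P)) (X j)) := by
  rw [Phi, aeval_X, vars, Fin.cons_succ]

theorem Phi_kills : ∀ x ∈ relI (n + 1) P, Phi n P x = 0 := by
  have hle : relI (n + 1) P ≤ RingHom.ker (Phi n P).toRingHom := by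
    refine Ideal.span_le.mpr ?_
    rintro _ ⟨i, rfl⟩
    rw [SetLike.mem_coe, RingHom.mem_ker]
    show Phi n P _ = 0
    rw [← Polynomial.aeval_algHom_apply]
    refine Fin.cases ?_ (fun j => ?_) i
    · rw [Phi_X_zero, Polynomial.aeval_def, AdjoinRoot.algebraMap_eq', ← Polynomial.eval₂_map]
      exact AdjoinRoot.eval₂_root (f0 n P)
    · rw [Phi_X_succ]
      have h1 : Polynomial.aeval ((AdjoinRoot.of (f0 n P))
          ((Ideal.Quotient.mk (relI n (tail n P))) (X j))) (P j.succ) =
          ((AdjoinRoot.ofAlgHom R (f0 n P)).comp (Ideal.Quotient.mkₐ R (relI n (tail n P))))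
            (Polynomial.aeval (X j) (P j.succ)) := by
        rw [← Polynomial.aeval_algHom_apply]
        rfl
      rw [h1]
      have h2 : Ideal.Quotient.mkₐ R (relI n (tail n P)) (Polynomial.aeval (X j) (P j.succ)) = 0 := by
        rw [Ideal.Quotient.mkₐ_eq_mk, Ideal.Quotient.eq_zero_iff_mem]
        exact Ideal.subset_span ⟨j, rfl⟩
      rw [AlgHom.comp_apply, h2, map_zero]
  exact fun x hx => RingHom.mem_ker.mp (hle hx)

/-- the induced map on the quotient -/
noncomputable def PhiBar : Q (n + 1) P →ₐ[R] AdjoinRoot (f0 n P) :=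
  Ideal.Quotient.liftₐ (relI (n + 1) P) (Phi n P) (Phi_kills n P)

theorem PhiBar_mk (x : MvPolynomial (Fin (n + 1)) R) :
    PhiBar n P (Ideal.Quotient.mk _ x) = Phi n P x := rfl

/-- the inclusion of the tail quotient -/
noncomputable def iota : Q n (tail n P) →ₐ[R] Q (n + 1) P :=
  Ideal.Quotient.liftₐ (relI n (tail n P))
    ((Ideal.Quotient.mkₐ R (relI (n + 1) P)).comp (rename Fin.succ)) (by
    have hle : relI n (tail n P) ≤ RingHom.ker
        ((Ideal.Quotient.mkₐ R (relI (n + 1) P)).comp (rename Fin.succ)).toRingHom := by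
      refine Ideal.span_le.mpr ?_
      rintro _ ⟨j, rfl⟩
      rw [SetLike.mem_coe, RingHom.mem_ker]
      show ((Ideal.Quotient.mkₐ R (relI (n + 1) P)).comp (rename Fin.succ)) _ = 0
      rw [AlgHom.comp_apply, ← Polynomial.aeval_algHom_apply, rename_X,
        Ideal.Quotient.mkₐ_eq_mk, Ideal.Quotient.eq_zero_iff_mem]
      exact Ideal.subset_span ⟨j.succ, rfl⟩
    exact fun x hx => RingHom.mem_ker.mp (hle hx))

theorem iota_mk (x : MvPolynomial (Fin n) R) :
    iota n P (Ideal.Quotient.mk _ x) = Ideal.Quotient.mk _ (rename Fin.succ x) := rfl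

theorem eval_f0 : (f0 n P).eval₂ (iota n P : Q n (tail n P) →+* Q (n + 1) P)
    (Ideal.Quotient.mk _ (X 0)) = 0 := by
  rw [f0, Polynomial.eval₂_map]
  have h1 : ((iota n P : Q n (tail n P) →+* Q (n + 1) P).comp (algebraMap R (Q n (tail n P)))) =
      algebraMap R (Q (n + 1) P) := by
    ext r
    exact (iota n P).commutes r
  rw [h1, ← Polynomial.aeval_def]
  have h2 : Polynomial.aeval ((Ideal.Quotient.mk (relI (n + 1) P)) (X 0)) (P 0) =
      Ideal.Quotient.mkₐ R (relI (n + 1) P) (Polynomial.aeval (X 0) (P 0)) := by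
    rw [← Polynomial.aeval_algHom_apply]
    rfl
  rw [h2, Ideal.Quotient.mkₐ_eq_mk, Ideal.Quotient.eq_zero_iff_mem]
  exact Ideal.subset_span ⟨0, rfl⟩

/-- the inverse map -/
noncomputable def Psi : AdjoinRoot (f0 n P) →ₐ[R] Q (n + 1) P :=
  AdjoinRoot.liftAlgHom (f0 n P) (iota n P) (Ideal.Quotient.mk _ (X 0)) (eval_f0 n P)

theorem Psi_comp_PhiBar : (Psi n P).comp (PhiBar n P) = AlgHom.id R _ := by
  apply Ideal.Quotient.algHom_ext
  apply MvPolynomial.algHom_ext
  intro i
  show Psi n P (PhiBar n P (Ideal.Quotient.mk _ (X i))) = Ideal.Quotient.mk _ (X i)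
  rw [PhiBar_mk]
  refine Fin.cases ?_ (fun j => ?_) i
  · rw [Phi_X_zero, Psi, AdjoinRoot.liftAlgHom_root]
  · rw [Phi_X_succ, Psi, AdjoinRoot.liftAlgHom_of, iota_mk, rename_X]

theorem PhiBar_comp_iota : (PhiBar n P).comp (iota n P) = AdjoinRoot.ofAlgHom R (f0 n P) := by
  apply Ideal.Quotient.algHom_ext
  apply MvPolynomial.algHom_ext
  intro j
  show PhiBar n P (iota n P (Ideal.Quotient.mk _ (X j))) = AdjoinRoot.of (f0 n P) (Ideal.Quotient.mk _ (X j))
  rw [iota_mk, rename_X, PhiBar_mk, Phi_X_succ]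

theorem PhiBar_comp_Psi : (PhiBar n P).comp (Psi n P) = AlgHom.id R _ := by
  apply AdjoinRoot.algHom_ext'
  · rw [AlgHom.id_comp, AlgHom.comp_assoc]
    have : (Psi n P).comp (AdjoinRoot.ofAlgHom R (f0 n P)) = iota n P := by
      ext x
      show Psi n P (AdjoinRoot.of (f0 n P) x) = iota n P x
      rw [Psi, AdjoinRoot.liftAlgHom_of]
    rw [this, PhiBar_comp_iota]
  · show PhiBar n P (Psi n P (AdjoinRoot.root (f0 n P))) = AdjoinRoot.root (f0 n P)
    rw [Psi, AdjoinRoot.liftAlgHom_root, PhiBar_mk, Phi_X_zero]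

/-- the isomorphism -/
noncomputable def stepEquiv : Q (n + 1) P ≃ₐ[R] AdjoinRoot (f0 n P) :=
  AlgEquiv.ofAlgHom (PhiBar n P) (Psi n P) (PhiBar_comp_Psi n P) (Psi_comp_PhiBar n P)

end Step

theorem relI_zero (P : Fin 0 → Polynomial R) : relI 0 P = ⊥ := by
  unfold relI
  rw [Set.range_eq_empty, Ideal.span_empty]

theorem free_finrank [Nontrivial R] : ∀ (n : ℕ) (P : Fin n → Polynomial R),
    (∀ i, (P i).Monic) → (∀ i, 0 < (P i).natDegree) →
    Module.Free R (Q n P) ∧ Module.finrank R (Q n P) = ∏ i, (P i).natDegree := by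
  intro n
  induction n with
  | zero =>
    intro P _ _
    let e : Q 0 P ≃ₐ[R] R :=
      (Ideal.quotientEquivAlgOfEq R (relI_zero P)).trans
        ((AlgEquiv.quotientBot R _).trans (isEmptyAlgEquiv R (Fin 0)))
    refine ⟨Module.Free.of_equiv e.symm.toLinearEquiv, ?_⟩
    rw [e.toLinearEquiv.finrank_eq, Module.finrank_self, Finset.univ_eq_empty, Finset.prod_empty]
  | succ n ih =>
    intro P hmon hdeg
    obtain ⟨hfree, hrank⟩ := ih (tail n P) (fun j => hmon j.succ) (fun j => hdeg j.succ)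
    have hpos : 0 < Module.finrank R (Q n (tail n P)) := by
      rw [hrank]
      exact Finset.prod_pos (fun j _ => hdeg j.succ)
    have : Nontrivial (Q n (tail n P)) := Module.nontrivial_of_finrank_pos (R := R) hpos
    have hf0 : (f0 n P).Monic := (hmon 0).map _
    have hdeg0 : (f0 n P).natDegree = (P 0).natDegree := (hmon 0).natDegree_map _
    have : Module.Free (Q n (tail n P)) (AdjoinRoot (f0 n P)) := hf0.free_adjoinRoot
    have : Module.Finite (Q n (tail n P)) (AdjoinRoot (f0 n P)) := hf0.finite_adjoinRoot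
    have hrk0 : Module.finrank (Q n (tail n P)) (AdjoinRoot (f0 n P)) = (P 0).natDegree := by
      rw [(AdjoinRoot.powerBasis' hf0).finrank, AdjoinRoot.powerBasis'_dim, hdeg0]
    have : Module.Free R (AdjoinRoot (f0 n P)) := Module.Free.trans (R := R) (S := Q n (tail n P))
    refine ⟨Module.Free.of_equiv (stepEquiv n P).symm.toLinearEquiv, ?_⟩
    rw [(stepEquiv n P).toLinearEquiv.finrank_eq,
      ← Module.finrank_mul_finrank R (Q n (tail n P)) (AdjoinRoot (f0 n P)), hrank, hrk0,
      Fin.prod_univ_succ, mul_comm]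
    rfl

end Groth.Agent.Lib.Helper26.MonicQuot
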