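import Mathlib
import Groth.Agent.Lib.Helper1.ArtFunPS
import Groth.Agent.Lib.Helper9.SemiLocalProd
import Groth.Agent.Lib.Helper21.RegularLocal
import Groth.Agent.Lib.Helper26.ASFamA
import Groth.Agent.Lib.Helper26.ASFamB
import Groth.Agent.Lib.Helper26.ASFamG
import Groth.Agent.Lib.Helper26.MonicQuot

set_option autoImplicit false
universe u

namespace Groth.Agent.Lib.Helper26.ASFamC

open MvPolynomial IsLocalRing Groth.Agent.Lib.Helper26.ASFamA Groth.Agent.Lib.Helper26.ASFamB
  Groth.Agent.Lib.Helper26.MonicQuot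

variable (p : ℕ) [hp : Fact p.Prime] (k : Type u) [Field k] (n : ℕ)
  (a : Fin n → MvPowerSeries (Fin n) k)

/-- the univariate relations -/
noncomputable def PP (i : Fin n) : Polynomial (MvPowerSeries (Fin n) k) :=
  Polynomial.X ^ p - (Polynomial.C (a i ^ (p - 1)) * Polynomial.X + Polynomial.C (MvPowerSeries.X i))

theorem degree_lt (i : Fin n) :
    (Polynomial.C (a i ^ (p - 1)) * Polynomial.X +
      Polynomial.C (MvPowerSeries.X i : MvPowerSeries (Fin n) k)).degree < (p : WithBot ℕ) := by
  have hp1 : 1 < p := hp.out.one_lt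
  refine lt_of_le_of_lt (Polynomial.degree_add_le _ _) ?_
  rw [max_lt_iff]
  constructor
  · refine lt_of_le_of_lt (Polynomial.degree_C_mul_X_le _) ?_
    exact_mod_cast hp1
  · refine lt_of_le_of_lt Polynomial.degree_C_le ?_
    exact_mod_cast (by omega : 0 < p)

theorem PP_monic (i : Fin n) : (PP p k n a i).Monic :=
  Polynomial.monic_X_pow_sub (degree_lt p k n a i)

theorem PP_natDegree (i : Fin n) : (PP p k n a i).natDegree = p := by
  have h1 : (PP p k n a i).degree = p := by
    unfold PP
    have h2 : (Polynomial.C (a i ^ (p - 1)) * Polynomial.X +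
      Polynomial.C (MvPowerSeries.X i : MvPowerSeries (Fin n) k)).degree <
        (Polynomial.X ^ p : Polynomial (MvPowerSeries (Fin n) k)).degree := by
      rw [Polynomial.degree_X_pow]
      exact degree_lt p k n a i
    rw [Polynomial.degree_sub_eq_left_of_degree_lt h2, Polynomial.degree_X_pow]
  exact Polynomial.natDegree_eq_of_degree_eq_some h1

omit hp in
theorem relIdeal_eq : relIdeal p k n a = relI n (PP p k n a) := by
  unfold relIdeal relI
  congr 1
  ext x
  constructor
  · rintro ⟨i, rfl⟩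
    refine ⟨i, ?_⟩
    simp only [rel, PP, map_sub, map_add, map_mul, map_pow, Polynomial.aeval_C, Polynomial.aeval_X]
    rw [MvPolynomial.algebraMap_eq]
    ring
  · rintro ⟨i, rfl⟩
    refine ⟨i, ?_⟩
    simp only [rel, PP, map_sub, map_add, map_mul, map_pow, Polynomial.aeval_C, Polynomial.aeval_X]
    rw [MvPolynomial.algebraMap_eq]
    ring

theorem free_finrank_AA : Module.Free (MvPowerSeries (Fin n) k) (AA p k n a) ∧
    Module.finrank (MvPowerSeries (Fin n) k) (AA p k n a) = p ^ n := by
  obtain ⟨h1, h2⟩ := free_finrank n (PP p k n a) (PP_monic p k n a)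
    (fun i => by rw [PP_natDegree]; exact hp.out.pos)
  let e : AA p k n a ≃ₐ[MvPowerSeries (Fin n) k] Q n (PP p k n a) :=
    Ideal.quotientEquivAlgOfEq _ (relIdeal_eq p k n a)
  refine ⟨Module.Free.of_equiv e.symm.toLinearEquiv, ?_⟩
  rw [e.toLinearEquiv.finrank_eq, h2]
  simp only [PP_natDegree, Finset.prod_const, Finset.card_univ, Fintype.card_fin]

theorem main_15788
    (ham : ∀ i, MvPowerSeries.constantCoeff (a i) = 0) :
    let I : Ideal (MvPolynomial (Fin n) (MvPowerSeries (Fin n) k)) :=
      Ideal.span (Set.range fun i : Fin n =>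
        X i ^ p - C (a i ^ (p - 1)) * X i - C (MvPowerSeries.X i))
    Module.Free (MvPowerSeries (Fin n) k) (MvPolynomial (Fin n) (MvPowerSeries (Fin n) k) ⧸ I) ∧
      Module.finrank (MvPowerSeries (Fin n) k) (MvPolynomial (Fin n) (MvPowerSeries (Fin n) k) ⧸ I) = p ^ n ∧
      IsAdicComplete (Ideal.map (Ideal.Quotient.mk I)
          (Ideal.span (Set.range (X : Fin n → MvPolynomial (Fin n) (MvPowerSeries (Fin n) k)))))
        (MvPolynomial (Fin n) (MvPowerSeries (Fin n) k) ⧸ I) ∧
      IsDomain (MvPolynomial (Fin n) (MvPowerSeries (Fin n) k) ⧸ I) := by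
  intro I
  obtain ⟨hfree, hrank⟩ := free_finrank_AA p k n a
  have hreg : IsRegularLocalRing (AA p k n a) := isRegularLocalRing_AA p k n a ham
  refine ⟨hfree, hrank, ?_, Groth.Agent.Lib.Helper21.isDomain_of_isRegularLocalRing (AA p k n a)⟩
  have h : Ideal.map (Ideal.Quotient.mk I)
      (Ideal.span (Set.range (X : Fin n → MvPolynomial (Fin n) (MvPowerSeries (Fin n) k)))) =
      Ideal.span (Set.range (uu p k n a)) := by
    rw [Ideal.map_span, ← Set.range_comp]
    rfl
  rw [h]
  have hfield : IsAdicComplete (maximalIdeal k) k := by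
    rw [IsLocalRing.maximalIdeal_eq_bot]
    infer_instance
  have hRc : IsAdicComplete (maximalIdeal (MvPowerSeries (Fin n) k)) (MvPowerSeries (Fin n) k) :=
    Groth.Agent.Lib.Helper1.ArtFunLib.PS.isAdicComplete_mvPowerSeries
  have hfin : Module.Finite (MvPowerSeries (Fin n) k) (AA p k n a) := by
    apply Module.finite_of_finrank_pos
    rw [hrank]
    exact pow_pos hp.out.pos n
  have hloc : IsLocalRing (AA p k n a) := hreg.toIsLocalRing
  have hc := Groth.Agent.Lib.Helper9.SemiLocalProd.isAdicComplete_maximalIdeal_of_finite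
    (MvPowerSeries (Fin n) k) (AA p k n a)
  have hmax : maximalIdeal (AA p k n a) = Ideal.span (Set.range (uu p k n a)) :=
    Groth.Agent.Lib.Helper26.ASFamG.eq_span_of_isMaximal (R := MvPowerSeries (Fin n) k)
      (A := AA p k n a) n p (uu p k n a) (isMaximal_span_uu p k n a) (hrel_AA p k n a ham) _
  rw [hmax] at hc
  exact hc

end Groth.Agent.Lib.Helper26.ASFamC
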