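import Mathlib
import Groth.Agent.Lib.Helper26.TameH

set_option autoImplicit false
universe u

namespace Groth.Agent.Lib.Helper26.ASFamH

open IsLocalRing TensorProduct

/-- the ideal generated by the `σ t - t` -/
theorem fixedIdeal_eq {R A ι : Type*} [CommRing R] [CommRing A] [Algebra R A] (u : ι → A)
    (hu : Algebra.adjoin R (Set.range u) = ⊤) (σ : A ≃ₐ[R] A) (a : ι → R)
    (hσ : ∀ i, σ (u i) = u i + algebraMap R A (a i)) :
    Ideal.span (Set.range fun t : A => σ t - t) =
      (Ideal.span (Set.range a)).map (algebraMap R A) := by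
  apply le_antisymm
  · have key : ∀ t ∈ Algebra.adjoin R (Set.range u),
        σ t - t ∈ (Ideal.span (Set.range a)).map (algebraMap R A) := by
      intro t ht
      induction ht using Algebra.adjoin_induction with
      | mem x hx =>
        obtain ⟨i, rfl⟩ := hx
        rw [hσ, add_sub_cancel_left]
        exact Ideal.mem_map_of_mem _ (Ideal.subset_span ⟨i, rfl⟩)
      | algebraMap r =>
        rw [σ.commutes, sub_self]
        exact Ideal.zero_mem _
      | add x y _ _ hx hy =>
        have : σ (x + y) - (x + y) = (σ x - x) + (σ y - y) := by rw [map_add]; ring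
        rw [this]
        exact Ideal.add_mem _ hx hy
      | mul x y _ _ hx hy =>
        have : σ (x * y) - x * y = σ x * (σ y - y) + (σ x - x) * y := by rw [map_mul]; ring
        rw [this]
        exact Ideal.add_mem _ (Ideal.mul_mem_left _ _ hy) (Ideal.mul_mem_right _ _ hx)
    rw [Ideal.span_le]
    rintro _ ⟨t, rfl⟩
    exact key t (by rw [hu]; trivial)
  · rw [Ideal.map_span, Ideal.span_le]
    rintro _ ⟨_, ⟨i, rfl⟩, rfl⟩
    have : algebraMap R A (a i) = σ (u i) - u i := by rw [hσ, add_sub_cancel_left]
    rw [SetLike.mem_coe, this]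
    exact Ideal.subset_span ⟨u i, rfl⟩

section Length

variable {R A : Type u} [CommRing R] [IsLocalRing R] [CommRing A] [IsLocalRing A] [Algebra R A]

omit [IsLocalRing R] in
theorem length_residueField_eq_one
    (hres : Function.Surjective ((residue A).comp (algebraMap R A))) :
    Module.length R (ResidueField A) = 1 := by
  have h : Function.Surjective (algebraMap R (ResidueField A)) := by
    rw [IsScalarTower.algebraMap_eq R A (ResidueField A)]
    exact hres
  rw [Module.length_eq_of_surjective h, Module.length_eq_one_iff]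
  infer_instance

theorem length_restrict_eq
    (hres : Function.Surjective ((residue A).comp (algebraMap R A)))
    (M : Type u) [AddCommGroup M] [Module A M] [Module R M] [IsScalarTower R A M] :
    Module.length A M = Module.length R M := by
  by_cases htop : Module.length A M = ⊤
  · rw [htop]
    symm
    rw [eq_top_iff, ← htop]
    have h := Submodule.length_le_length_restrictScalars R (⊤ : Submodule A M)
    rw [Module.length_top] at h
    refine le_trans h (le_of_eq ?_)
    let e : ((⊤ : Submodule A M).restrictScalars R) ≃ₗ[R] M :=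
      { toFun := fun x => x.1
        invFun := fun m => ⟨m, Submodule.mem_top⟩
        map_add' := fun _ _ => rfl
        map_smul' := fun _ _ => rfl
        left_inv := fun _ => rfl
        right_inv := fun _ => rfl }
    exact e.length_eq
  · obtain ⟨n, hn⟩ := ENat.ne_top_iff_exists.mp htop
    have h := Groth.Agent.Lib.Helper26.TameH.length_restrict R A n M hn.symm
    rw [length_residueField_eq_one hres, mul_one] at h
    rw [h, hn]

theorem length_quotient_map_eq (m : ℕ) [Module.Free R A] (hm : Module.finrank R A = m)
    [Module.Finite R A]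
    (hres : Function.Surjective ((residue A).comp (algebraMap R A))) (I : Ideal R) :
    Module.length A (A ⧸ I.map (algebraMap R A)) = (m : ℕ∞) * Module.length R (R ⧸ I) := by
  rw [length_restrict_eq hres]
  let b : Module.Basis (Fin m) R A := Module.finBasisOfFinrankEq R A hm
  have e1 : (A ⧸ I.map (algebraMap R A)) ≃ₗ[R] (A ⧸ (I • ⊤ : Submodule R A)) := by
    rw [Ideal.smul_top_eq_map]
    exact (Submodule.Quotient.restrictScalarsEquiv R (I.map (algebraMap R A))).symm
  have e2 : (A ⧸ (I • ⊤ : Submodule R A)) ≃ₗ[R] ((R ⧸ I) ⊗[R] A) :=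
    (TensorProduct.quotTensorEquivQuotSMul A I).symm
  have e3 : ((R ⧸ I) ⊗[R] A) ≃ₗ[R] ((R ⧸ I) ⊗[R] (Fin m → R)) :=
    LinearEquiv.lTensor (R ⧸ I) b.equivFun
  have e4 : ((R ⧸ I) ⊗[R] (Fin m → R)) ≃ₗ[R] (Fin m → R ⧸ I) :=
    TensorProduct.piScalarRight R R (R ⧸ I) (Fin m)
  rw [(e1.trans (e2.trans (e3.trans e4))).length_eq, Module.length_pi]
  simp

end Length

end Groth.Agent.Lib.Helper26.ASFamH
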