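import Mathlib
import Groth.Agent.Lib.Helper1.ArtFunPS
import Groth.Agent.Lib.Helper21.RegularLocal
import Groth.Agent.Lib.Helper26.ASFamA
import Groth.Agent.Lib.Helper26.ASFamB
import Groth.Agent.Lib.Helper26.ASFamG
import Groth.Agent.Lib.Helper26.ASFamC
import Groth.Agent.Lib.Helper26.ASFamH

set_option autoImplicit false
universe u

namespace Groth.Agent.Lib.Helper26.ASFamJ

open MvPolynomial IsLocalRing Groth.Agent.Lib.Helper26.ASFamA Groth.Agent.Lib.Helper26.ASFamB
  Groth.Agent.Lib.Helper26.ASFamC Groth.Agent.Lib.Helper26.ASFamH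

/-- generic: the extension of `(a)` lies in `(u)^p` -/
theorem map_span_le_pow {R A ι : Type*} [CommRing R] [CommRing A] [Algebra R A] (u : ι → A)
    (p : ℕ) (hp : 1 ≤ p) (a x : ι → R)
    (ha : ∀ i, a i ∈ Ideal.span (Set.range x))
    (hrel : ∀ i, u i ^ p = algebraMap R A (a i ^ (p - 1)) * u i + algebraMap R A (x i)) :
    (Ideal.span (Set.range a)).map (algebraMap R A) ≤ Ideal.span (Set.range u) ^ p := by
  have hu : ∀ i, u i ∈ Ideal.span (Set.range u) := fun i => Ideal.subset_span ⟨i, rfl⟩
  have hpow : ∀ i, u i ^ p = u i ^ (p - 1) * u i := by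
    intro i
    rw [← pow_succ, Nat.sub_add_cancel hp]
  -- x_j ∈ (u)
  have hx1 : ∀ j, algebraMap R A (x j) ∈ Ideal.span (Set.range u) := by
    intro j
    have h2 : algebraMap R A (x j) = (u j ^ (p - 1) - algebraMap R A (a j ^ (p - 1))) * u j := by
      have h := hrel j
      rw [hpow] at h
      linear_combination (-1 : A) * h
    rw [h2]
    exact Ideal.mul_mem_left _ _ (hu j)
  have hle1 : Ideal.span (Set.range x) ≤ (Ideal.span (Set.range u)).comap (algebraMap R A) := by
    rw [Ideal.span_le]
    rintro _ ⟨j, rfl⟩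
    exact hx1 j
  have ha1 : ∀ j, algebraMap R A (a j) ∈ Ideal.span (Set.range u) := fun j => hle1 (ha j)
  -- x_j ∈ (u)^p
  have hx2 : ∀ j, algebraMap R A (x j) ∈ Ideal.span (Set.range u) ^ p := by
    intro j
    have h2 : algebraMap R A (x j) = u j ^ p - algebraMap R A (a j ^ (p - 1)) * u j := by
      linear_combination (-1 : A) * hrel j
    rw [h2]
    refine Ideal.sub_mem _ (Ideal.pow_mem_pow (hu j) p) ?_
    have h3 : algebraMap R A (a j ^ (p - 1)) ∈ Ideal.span (Set.range u) ^ (p - 1) := by
      rw [map_pow]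
      exact Ideal.pow_mem_pow (ha1 j) (p - 1)
    have h4 : Ideal.span (Set.range u) ^ p =
        Ideal.span (Set.range u) ^ (p - 1) * Ideal.span (Set.range u) := by
      rw [← pow_succ, Nat.sub_add_cancel hp]
    rw [h4]
    exact Ideal.mul_mem_mul h3 (hu j)
  have hle2 : Ideal.span (Set.range x) ≤ (Ideal.span (Set.range u) ^ p).comap (algebraMap R A) := by
    rw [Ideal.span_le]
    rintro _ ⟨j, rfl⟩
    exact hx2 j
  rw [Ideal.map_le_iff_le_comap, Ideal.span_le]
  rintro _ ⟨i, rfl⟩
  exact hle2 (ha i)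

/-- generic surjectivity of the residue map -/
theorem residue_comp_surjective {R A K : Type*} [CommRing R] [CommRing A] [IsLocalRing A]
    [Algebra R A] [CommRing K] (g : A →+* K) (hg : RingHom.ker g = maximalIdeal A)
    (s : K → R) (hs : ∀ c, g (algebraMap R A (s c)) = c) :
    Function.Surjective ((residue A).comp (algebraMap R A)) := by
  intro z
  obtain ⟨w, rfl⟩ := residue_surjective z
  refine ⟨s (g w), ?_⟩
  rw [RingHom.comp_apply]
  have hmem : w - algebraMap R A (s (g w)) ∈ maximalIdeal A := by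
    rw [← hg, RingHom.mem_ker, map_sub, hs, sub_self]
  have h4 := (residue_eq_zero_iff _).mpr hmem
  rw [map_sub, sub_eq_zero] at h4
  exact h4.symm

variable (p : ℕ) [hp : Fact p.Prime] (k : Type u) [Field k] (n : ℕ)
  (a : Fin n → MvPowerSeries (Fin n) k)

theorem main_19998_aux
    (ham : ∀ i, MvPowerSeries.constantCoeff (a i) = 0)
    (σ : AA p k n a ≃ₐ[MvPowerSeries (Fin n) k] AA p k n a)
    (hσ : ∀ i, σ (uu p k n a i) = uu p k n a i +
      algebraMap (MvPowerSeries (Fin n) k) (AA p k n a) (a i)) :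
    Ideal.span (Set.range fun t : AA p k n a => σ t - t) ≤
        Ideal.span (Set.range (uu p k n a)) ^ p ∧
      Module.length (AA p k n a) (AA p k n a ⧸ Ideal.span (Set.range fun t : AA p k n a => σ t - t)) =
        (p ^ n : ℕ∞) * Module.length (MvPowerSeries (Fin n) k)
          (MvPowerSeries (Fin n) k ⧸ Ideal.span (Set.range a)) := by
  have hJ := fixedIdeal_eq (R := MvPowerSeries (Fin n) k) (A := AA p k n a) (uu p k n a)
    (adjoin_uu p k n a) σ a hσ
  rw [hJ]
  obtain ⟨hfree, hrank⟩ := free_finrank_AA p k n a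
  have hreg : IsRegularLocalRing (AA p k n a) := isRegularLocalRing_AA p k n a ham
  have hfin : Module.Finite (MvPowerSeries (Fin n) k) (AA p k n a) := by
    apply Module.finite_of_finrank_pos
    rw [hrank]
    exact pow_pos hp.out.pos n
  have hloc : IsLocalRing (AA p k n a) := hreg.toIsLocalRing
  have hmax : maximalIdeal (AA p k n a) = Ideal.span (Set.range (uu p k n a)) :=
    Groth.Agent.Lib.Helper26.ASFamG.eq_span_of_isMaximal (R := MvPowerSeries (Fin n) k)
      (A := AA p k n a) n p (uu p k n a) (isMaximal_span_uu p k n a) (hrel_AA p k n a ham) _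
  constructor
  · refine map_span_le_pow (R := MvPowerSeries (Fin n) k) (A := AA p k n a) (uu p k n a) p
      hp.out.one_le a MvPowerSeries.X ?_ (uu_rel p k n a)
    intro i
    have h := Groth.Agent.Lib.Helper1.ArtFunLib.PS.sub_C_constantCoeff_mem (a i)
    rw [ham i, map_zero, sub_zero] at h
    exact h
  · have hres : Function.Surjective ((residue (AA p k n a)).comp
        (algebraMap (MvPowerSeries (Fin n) k) (AA p k n a))) := by
      refine residue_comp_surjective (R := MvPowerSeries (Fin n) k) (A := AA p k n a) (K := k)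
        (aug p k n a) ?_ (fun c => MvPowerSeries.C c) ?_
      · rw [hmax, ker_aug]
      · intro c
        have h3 : algebraMap (MvPowerSeries (Fin n) k) (AA p k n a)
            (MvPowerSeries.C c) = Ideal.Quotient.mk _ (C (MvPowerSeries.C c)) := rfl
        rw [h3, aug_mk, MvPolynomial.eval₂Hom_C, MvPowerSeries.constantCoeff_C]
    have h := length_quotient_map_eq (R := MvPowerSeries (Fin n) k) (A := AA p k n a) (p ^ n) hrank
      hres (Ideal.span (Set.range a))
    rw [h]
    push_cast
    rfl

end Groth.Agent.Lib.Helper26.ASFamJ
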