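import Mathlib

set_option autoImplicit false
set_option linter.style.haveILetI false
universe u

namespace Groth.Agent.Lib.Helper26.ASFamK

open IsLocalRing

/-- A retraction `A → R` for a finite free algebra over a local ring (local hom). -/
theorem exists_retraction {R A : Type*} [CommRing R] [IsLocalRing R] [CommRing A] [IsLocalRing A]
    [Algebra R A] [IsLocalHom (algebraMap R A)] [Module.Free R A] [Module.Finite R A] :
    ∃ π : A →ₗ[R] R, π 1 = 1 := by
  classical
  let b := Module.Free.chooseBasis R A
  haveI : Fintype (Module.Free.ChooseBasisIndex R A) := Module.Free.ChooseBasisIndex.fintype R A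
  by_cases h : ∃ i, IsUnit (b.repr 1 i)
  · obtain ⟨i, hi⟩ := h
    obtain ⟨v, hv⟩ := hi
    refine ⟨(↑v⁻¹ : R) • b.coord i, ?_⟩
    rw [LinearMap.smul_apply, Module.Basis.coord_apply, ← hv, smul_eq_mul, Units.inv_mul]
  · exfalso
    push_neg at h
    have h1 : (1 : A) ∈ maximalIdeal A := by
      have h2 : (1 : A) = ∑ i, b.repr 1 i • b i := (b.sum_repr 1).symm
      rw [h2]
      refine Ideal.sum_mem _ fun i _ => ?_
      rw [Algebra.smul_def]
      refine Ideal.mul_mem_right _ _ ?_
      have h3 : b.repr 1 i ∈ maximalIdeal R := (mem_maximalIdeal _).mpr (h i)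
      have h4 : Ideal.map (algebraMap R A) (maximalIdeal R) ≤ maximalIdeal A :=
        ((IsLocalRing.local_hom_TFAE (algebraMap R A)).out 0 2).mp (inferInstance : IsLocalHom (algebraMap R A))
      exact h4 (Ideal.mem_map_of_mem _ h3)
    exact (mem_maximalIdeal _).mp h1 isUnit_one

/-- fixed elements come from the base when the group has the right order -/
theorem mem_range_of_fixed {R A G : Type*} [CommRing R] [IsDomain R] [CommRing A] [IsDomain A]
    [Algebra R A] [FaithfulSMul R A] [Module.Finite R A]
    [Group G] [Finite G] [MulSemiringAction G A] [SMulCommClass G R A] [FaithfulSMul G A]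
    (hcard : Nat.card G = Module.finrank R A)
    (π : A →ₗ[R] R) (hπ : π 1 = 1)
    (b : A) (hb : ∀ g : G, g • b = b) : b ∈ Set.range (algebraMap R A) := by
  classical
  let K := FractionRing R
  let L := FractionRing A
  letI : Algebra K L := FractionRing.liftAlgebra R L
  letI : MulSemiringAction G L := IsFractionRing.mulSemiringAction G A L
  haveI : SMulDistribClass G A L := IsFractionRing.smulDistribClass G A L
  haveI : FaithfulSMul G L := IsFractionRing.faithfulSMul G A L
  haveI : SMulCommClass G K L := IsFractionRing.smulCommClass G R A K L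
  haveI : Fintype G := Fintype.ofFinite G
  have hKL : Module.finrank K L = Module.finrank R A := IsFractionRing.finrank_eq R K A L
  haveI : Algebra.IsIntegral R A := inferInstance
  have hpos : 0 < Module.finrank R A := by
    rw [← hcard]
    exact Nat.card_pos
  haveI : FiniteDimensional K L := by
    apply FiniteDimensional.of_finrank_pos
    rw [hKL]
    exact hpos
  let F : IntermediateField K L := FixedPoints.intermediateField G
  have hF : Module.finrank F L = Nat.card G := by
    rw [Nat.card_eq_fintype_card]
    exact FixedPoints.finrank_eq_card G L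
  have htower := Module.finrank_mul_finrank K F L
  rw [hF, hKL, hcard] at htower
  have hF1 : Module.finrank K F = 1 := by
    have := Nat.eq_of_mul_eq_mul_right hpos (htower.trans (one_mul _).symm)
    exact this
  have hbot : F = ⊥ := IntermediateField.finrank_eq_one_iff.mp hF1
  have hbF : algebraMap A L b ∈ F := by
    intro g
    rw [← algebraMap.coe_smul', hb g]
  rw [hbot, IntermediateField.mem_bot] at hbF
  obtain ⟨x, hx⟩ := hbF
  obtain ⟨r, s, hs, rfl⟩ := IsFractionRing.div_surjective (A := R) x
  have hs0 : s ≠ 0 := nonZeroDivisors.ne_zero hs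
  have hsA : algebraMap R A s ≠ 0 := by
    rw [Ne, FaithfulSMul.algebraMap_eq_zero_iff]
    exact hs0
  have h1 : algebraMap R A r = algebraMap R A s * b := by
    apply IsFractionRing.injective A L
    rw [map_mul, ← hx, ← IsScalarTower.algebraMap_apply, ← IsScalarTower.algebraMap_apply,
      IsScalarTower.algebraMap_apply R K L, IsScalarTower.algebraMap_apply R K L s, map_div₀]
    have : algebraMap K L (algebraMap R K s) ≠ 0 := by
      rw [Ne, map_eq_zero, IsFractionRing.to_map_eq_zero_iff]
      exact hs0
    rw [mul_div_cancel₀ _ this]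
  have h2 : r = s * π b := by
    have := congrArg π h1
    rw [Algebra.algebraMap_eq_smul_one, map_smul, hπ, ← Algebra.smul_def, map_smul, smul_eq_mul,
      smul_eq_mul, mul_one] at this
    exact this
  refine ⟨π b, ?_⟩
  have h3 : algebraMap R A s * (algebraMap R A (π b) - b) = 0 := by
    rw [mul_sub, ← map_mul, ← h2, h1, sub_self]
  rcases mul_eq_zero.mp h3 with h | h
  · exact absurd h hsA
  · exact sub_eq_zero.mp h

end Groth.Agent.Lib.Helper26.ASFamK
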