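import Mathlib

set_option autoImplicit false
set_option linter.style.haveILetI false
universe u

namespace Groth.Agent.Lib.Helper26.ASFamL

section Roots

variable {A : Type*} [CommRing A] [IsDomain A] (p : ℕ) [hp : Fact p.Prime] [CharP A p]

/-- the prime field embedding -/
noncomputable def iota : ZMod p →+* A := ZMod.castHom (dvd_refl p) A

theorem iota_injective : Function.Injective (iota (A := A) p) := RingHom.injective _

theorem iota_pow (c : ZMod p) : iota (A := A) p c ^ p = iota p c := by
  rw [← map_pow, ZMod.pow_card]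

/-- roots of `T^p - a^(p-1) T` -/
theorem root_classification (a : A) (ha : a ≠ 0) (w : A) (hw : w ^ p = a ^ (p - 1) * w) :
    ∃ c : ZMod p, w = iota p c * a := by
  classical
  have hp1 : 1 < p := hp.out.one_lt
  let f : Polynomial A := Polynomial.X ^ p - Polynomial.C (a ^ (p - 1)) * Polynomial.X
  have hdeg : f.natDegree = p := by
    have h2 : (Polynomial.C (a ^ (p - 1)) * Polynomial.X : Polynomial A).degree <
        (Polynomial.X ^ p : Polynomial A).degree := by
      rw [Polynomial.degree_X_pow]
      refine lt_of_le_of_lt (Polynomial.degree_C_mul_X_le _) ?_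
      exact_mod_cast hp1
    have h1 : f.degree = p := by
      rw [Polynomial.degree_sub_eq_left_of_degree_lt h2, Polynomial.degree_X_pow]
    exact Polynomial.natDegree_eq_of_degree_eq_some h1
  have hf0 : f ≠ 0 := by
    intro h
    rw [h, Polynomial.natDegree_zero] at hdeg
    omega
  have hapow : a ^ p = a ^ (p - 1) * a := by
    rw [← pow_succ, Nat.sub_add_cancel hp.out.one_le]
  have hroot : ∀ c : ZMod p, f.IsRoot (iota p c * a) := by
    intro c
    simp only [f, Polynomial.IsRoot.def, Polynomial.eval_sub, Polynomial.eval_pow,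
      Polynomial.eval_X, Polynomial.eval_mul, Polynomial.eval_C]
    rw [mul_pow, iota_pow, hapow]
    ring
  let S : Finset A := Finset.univ.image (fun c : ZMod p => iota p c * a)
  have hinj : Function.Injective (fun c : ZMod p => iota (A := A) p c * a) := by
    intro c c' h
    exact iota_injective p (mul_right_cancel₀ ha h)
  have hScard : S.card = p := by
    rw [Finset.card_image_of_injective _ hinj, Finset.card_univ, ZMod.card]
  have hSsub : S ⊆ f.roots.toFinset := by
    intro y hy
    obtain ⟨c, _, rfl⟩ := Finset.mem_image.mp hy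
    rw [Multiset.mem_toFinset, Polynomial.mem_roots hf0]
    exact hroot c
  have hle : f.roots.toFinset.card ≤ S.card := by
    rw [hScard]
    refine le_trans (Multiset.toFinset_card_le _) ?_
    rw [← hdeg]
    exact Polynomial.card_roots' f
  have hSeq : S = f.roots.toFinset := Finset.eq_of_subset_of_card_le hSsub hle
  have hwroot : w ∈ f.roots.toFinset := by
    rw [Multiset.mem_toFinset, Polynomial.mem_roots hf0]
    simp only [f, Polynomial.IsRoot.def, Polynomial.eval_sub, Polynomial.eval_pow,
      Polynomial.eval_X, Polynomial.eval_mul, Polynomial.eval_C]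
    rw [hw, sub_self]
  rw [← hSeq] at hwroot
  obtain ⟨c, _, hc⟩ := Finset.mem_image.mp hwroot
  exact ⟨c, hc.symm⟩

end Roots

section Generic

variable {R A : Type*} [CommRing R] [CommRing A] [IsDomain A] [Algebra R A]
  (p : ℕ) [hp : Fact p.Prime] [CharP A p] {n : ℕ}
  (u : Fin n → A) (hu : Algebra.adjoin R (Set.range u) = ⊤)
  (a x : Fin n → R) (ha : ∀ i, algebraMap R A (a i) ≠ 0)
  (hrel : ∀ i, u i ^ p = algebraMap R A (a i ^ (p - 1)) * u i + algebraMap R A (x i))
  (hlift : ∀ v : Fin n → A,
    (∀ i, v i ^ p = algebraMap R A (a i ^ (p - 1)) * v i + algebraMap R A (x i)) →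
     ∃ φ : A →ₐ[R] A, ∀ i, φ (u i) = v i)

include hu in
theorem algHom_ext (σ τ : A →ₐ[R] A) (h : ∀ i, σ (u i) = τ (u i)) : σ = τ := by
  apply AlgHom.ext_of_adjoin_eq_top hu
  rintro _ ⟨i, rfl⟩
  exact h i

include hu in
theorem algEquiv_ext (σ τ : A ≃ₐ[R] A) (h : ∀ i, σ (u i) = τ (u i)) : σ = τ := by
  have := algHom_ext u hu σ.toAlgHom τ.toAlgHom h
  ext t
  exact DFunLike.congr_fun this t

include ha hrel in
/-- every endomorphism translates the generators -/
theorem exists_shift (σ : A →ₐ[R] A) (i : Fin n) :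
    ∃ c : ZMod p, σ (u i) = u i + iota p c * algebraMap R A (a i) := by
  have h1 : σ (u i) ^ p = algebraMap R A (a i ^ (p - 1)) * σ (u i) + algebraMap R A (x i) := by
    have := congrArg σ (hrel i)
    rw [map_pow, map_add, map_mul, AlgHom.commutes, AlgHom.commutes] at this
    exact this
  have h2 : (σ (u i) - u i) ^ p = algebraMap R A (a i) ^ (p - 1) * (σ (u i) - u i) := by
    rw [(sub_pow_char (σ (u i)) (u i) : _ ^ p = _), h1, hrel i, map_pow]
    ring
  obtain ⟨c, hc⟩ := root_classification p (algebraMap R A (a i)) (ha i) _ h2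
  exact ⟨c, by rw [← hc]; ring⟩

include hrel in
theorem shifted_rel (c : Fin n → ZMod p) (i : Fin n) :
    (u i + iota p (c i) * algebraMap R A (a i)) ^ p =
      algebraMap R A (a i ^ (p - 1)) * (u i + iota p (c i) * algebraMap R A (a i)) +
        algebraMap R A (x i) := by
  have hapow : algebraMap R A (a i) ^ p = algebraMap R A (a i) ^ (p - 1) * algebraMap R A (a i) := by
    rw [← pow_succ, Nat.sub_add_cancel hp.out.one_le]
  rw [add_pow_char (u i) (iota p (c i) * algebraMap R A (a i)) p, mul_pow, iota_pow, hrel i, hapow, map_pow]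
  ring

/-- the shift vector of an automorphism -/
noncomputable def Phi (σ : A ≃ₐ[R] A) (i : Fin n) : ZMod p :=
  (exists_shift p u a x ha hrel σ.toAlgHom i).choose

theorem Phi_spec (σ : A ≃ₐ[R] A) (i : Fin n) :
    σ (u i) = u i + iota p (Phi p u a x ha hrel σ i) * algebraMap R A (a i) :=
  (exists_shift p u a x ha hrel σ.toAlgHom i).choose_spec

include ha in
theorem shift_unique (i : Fin n) (c c' : ZMod p)
    (h : u i + iota p c * algebraMap R A (a i) = u i + iota p c' * algebraMap R A (a i)) :
    c = c' := by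
  have h1 := add_left_cancel h
  exact iota_injective p (mul_right_cancel₀ (ha i) h1)

include hu in
theorem Phi_injective : Function.Injective (Phi p u a x ha hrel) := by
  intro σ τ h
  apply algEquiv_ext u hu
  intro i
  rw [Phi_spec p u a x ha hrel σ i, Phi_spec p u a x ha hrel τ i, h]

theorem Phi_mul (σ τ : A ≃ₐ[R] A) :
    Phi p u a x ha hrel (σ * τ) = Phi p u a x ha hrel σ + Phi p u a x ha hrel τ := by
  funext i
  apply shift_unique p u a ha i
  rw [← Phi_spec p u a x ha hrel (σ * τ) i, AlgEquiv.mul_apply, Phi_spec p u a x ha hrel τ i,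
    map_add, map_mul, AlgEquiv.commutes, Phi_spec p u a x ha hrel σ i, Pi.add_apply, map_add]
  have : σ (iota p (Phi p u a x ha hrel τ i)) = iota p (Phi p u a x ha hrel τ i) := by
    have h3 : (σ : A →+* A).comp (iota p) = iota p := RingHom.ext_zmod _ _
    exact DFunLike.congr_fun h3 _
  rw [this]
  ring

include hu hrel hlift in
/-- existence of the automorphism with a given shift vector -/
theorem exists_algEquiv (c : Fin n → ZMod p) :
    ∃ σ : A ≃ₐ[R] A, ∀ i, σ (u i) = u i + iota p (c i) * algebraMap R A (a i) := by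
  have key : ∀ c : Fin n → ZMod p, ∃ φ : A →ₐ[R] A,
      ∀ i, φ (u i) = u i + iota p (c i) * algebraMap R A (a i) :=
    fun c => hlift _ (shifted_rel p u a x hrel c)
  obtain ⟨φ, hφ⟩ := key c
  obtain ⟨ψ, hψ⟩ := key (-c)
  have hfix : ∀ (θ : A →ₐ[R] A) (d : ZMod p), θ (iota p d) = iota p d := by
    intro θ d
    have h3 : (θ : A →+* A).comp (iota p) = iota p := RingHom.ext_zmod _ _
    exact DFunLike.congr_fun h3 _
  have h1 : φ.comp ψ = AlgHom.id R A := by
    apply algHom_ext u hu
    intro i
    rw [AlgHom.comp_apply, hψ, map_add, map_mul, AlgHom.commutes, hφ, hfix, AlgHom.id_apply,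
      Pi.neg_apply, map_neg]
    ring
  have h2 : ψ.comp φ = AlgHom.id R A := by
    apply algHom_ext u hu
    intro i
    rw [AlgHom.comp_apply, hφ, map_add, map_mul, AlgHom.commutes, hψ, hfix, AlgHom.id_apply,
      Pi.neg_apply, map_neg]
    ring
  exact ⟨AlgEquiv.ofAlgHom φ ψ h1 h2, hφ⟩

include hu hlift in
theorem Phi_surjective : Function.Surjective (Phi p u a x ha hrel) := by
  intro c
  obtain ⟨σ, hσ⟩ := exists_algEquiv p u hu a x hrel hlift c
  refine ⟨σ, ?_⟩
  funext i
  apply shift_unique p u a ha i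
  rw [← Phi_spec p u a x ha hrel σ i, hσ]

include hu hlift ha hrel in
theorem card_algEquiv : Nat.card (A ≃ₐ[R] A) = p ^ n := by
  have e : (A ≃ₐ[R] A) ≃ (Fin n → ZMod p) :=
    Equiv.ofBijective (Phi p u a x ha hrel)
      ⟨Phi_injective p u hu a x ha hrel, Phi_surjective p u hu a x ha hrel hlift⟩
  rw [Nat.card_congr e, Nat.card_eq_fintype_card, Fintype.card_fun, ZMod.card, Fintype.card_fin]

include hu hlift ha hrel in
theorem finite_algEquiv : Finite (A ≃ₐ[R] A) := by
  apply Nat.finite_of_card_ne_zero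
  rw [card_algEquiv p u hu a x ha hrel hlift]
  exact pow_ne_zero _ hp.out.ne_zero

include hu ha hrel in
theorem algEquiv_comm (σ τ : A ≃ₐ[R] A) : σ * τ = τ * σ := by
  apply Phi_injective p u hu a x ha hrel
  rw [Phi_mul, Phi_mul, add_comm]

theorem Phi_one : Phi p u a x ha hrel 1 = 0 := by
  have h := Phi_mul p u a x ha hrel 1 1
  rw [one_mul] at h
  have h2 : Phi p u a x ha hrel 1 + 0 = Phi p u a x ha hrel 1 + Phi p u a x ha hrel 1 := by
    rw [add_zero]; exact h
  exact (add_left_cancel h2).symm

theorem Phi_pow (σ : A ≃ₐ[R] A) (m : ℕ) :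
    Phi p u a x ha hrel (σ ^ m) = m • Phi p u a x ha hrel σ := by
  induction m with
  | zero => rw [pow_zero, zero_smul, Phi_one]
  | succ m ih => rw [pow_succ, Phi_mul, ih, succ_nsmul]

include hu ha hrel in
theorem algEquiv_pow (σ : A ≃ₐ[R] A) : σ ^ p = 1 := by
  apply Phi_injective p u hu a x ha hrel
  rw [Phi_pow, Phi_one]
  funext i
  rw [Pi.smul_apply, Pi.zero_apply, nsmul_eq_mul, CharP.cast_eq_zero (ZMod p) p, zero_mul]

end Generic

end Groth.Agent.Lib.Helper26.ASFamL
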