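import Mathlib
import Groth.Agent.Lib.Helper21.RegularLocal
import Groth.Agent.Lib.Helper26.ASFamA
import Groth.Agent.Lib.Helper26.ASFamB
import Groth.Agent.Lib.Helper26.ASFamC
import Groth.Agent.Lib.Helper26.ASFamK
import Groth.Agent.Lib.Helper26.ASFamL

set_option autoImplicit false
set_option linter.style.haveILetI false
universe u

namespace Groth.Agent.Lib.Helper26.ASFamM

open MvPolynomial IsLocalRing Groth.Agent.Lib.Helper26.ASFamA Groth.Agent.Lib.Helper26.ASFamB
  Groth.Agent.Lib.Helper26.ASFamC Groth.Agent.Lib.Helper26.ASFamK Groth.Agent.Lib.Helper26.ASFamL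

variable (p : ℕ) [hp : Fact p.Prime] (k : Type u) [Field k] [CharP k p] (n : ℕ)
  (a : Fin n → MvPowerSeries (Fin n) k)

/-- generic lifting out of a quotient of a polynomial ring -/
theorem exists_lift_generic {R : Type*} [CommRing R] {n : ℕ}
    (gens : Fin n → MvPolynomial (Fin n) R) {A : Type*} [CommRing A] [Algebra R A]
    (f : MvPolynomial (Fin n) R →ₐ[R] A) (hf : Function.Surjective f)
    (hker : RingHom.ker f = Ideal.span (Set.range gens))
    (v : Fin n → A) (hv : ∀ i, MvPolynomial.aeval v (gens i) = 0) :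
    ∃ φ : A →ₐ[R] A, ∀ i, φ (f (X i)) = v i := by
  have hle : RingHom.ker f ≤ RingHom.ker (MvPolynomial.aeval v : MvPolynomial (Fin n) R →ₐ[R] A) := by
    rw [hker, Ideal.span_le]
    rintro _ ⟨i, rfl⟩
    rw [SetLike.mem_coe, RingHom.mem_ker]
    exact hv i
  let e : (MvPolynomial (Fin n) R ⧸ RingHom.ker f) ≃ₐ[R] A :=
    Ideal.quotientKerAlgEquivOfSurjective hf
  let ψ : (MvPolynomial (Fin n) R ⧸ RingHom.ker f) →ₐ[R] A :=
    Ideal.Quotient.liftₐ (RingHom.ker f) (MvPolynomial.aeval v)
      (fun q hq => RingHom.mem_ker.mp (hle hq))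
  refine ⟨ψ.comp e.symm.toAlgHom, ?_⟩
  intro i
  have h1 : e.symm (f (X i)) = Ideal.Quotient.mk _ (X i) := by
    rw [AlgEquiv.symm_apply_eq]
    rfl
  rw [AlgHom.comp_apply]
  change ψ (e.symm (f (X i))) = v i
  rw [h1]
  change MvPolynomial.aeval v (X i) = v i
  exact MvPolynomial.aeval_X v i

theorem exists_retraction' {R A : Type*} [CommRing R] [IsLocalRing R] [CommRing A] [IsLocalRing A]
    [Algebra R A] [FaithfulSMul R A] [Module.Free R A] [Module.Finite R A] :
    ∃ π : A →ₗ[R] R, π 1 = 1 := by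
  haveI : IsLocalHom (algebraMap R A) := inferInstance
  exact exists_retraction

omit hp [CharP k p] in
theorem hlift_AA (v : Fin n → AA p k n a)
    (hv : ∀ i, v i ^ p = algebraMap (MvPowerSeries (Fin n) k) (AA p k n a) (a i ^ (p - 1)) * v i +
      algebraMap (MvPowerSeries (Fin n) k) (AA p k n a) (MvPowerSeries.X i)) :
    ∃ φ : AA p k n a →ₐ[MvPowerSeries (Fin n) k] AA p k n a, ∀ i, φ (uu p k n a i) = v i := by
  refine exists_lift_generic (R := MvPowerSeries (Fin n) k) (A := AA p k n a) (rel p k n a)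
    (Ideal.Quotient.mkₐ (MvPowerSeries (Fin n) k) (relIdeal p k n a))
    (Ideal.Quotient.mkₐ_surjective _ _) ?_ v ?_
  · ext q
    rw [RingHom.mem_ker]
    exact Ideal.Quotient.eq_zero_iff_mem
  · intro i
    simp only [rel, map_sub, map_mul, map_pow, MvPolynomial.aeval_X, MvPolynomial.aeval_C]
    rw [hv i, map_pow]
    ring

theorem main_15789 (ha0 : ∀ i, a i ≠ 0)
    (ham : ∀ i, MvPowerSeries.constantCoeff (a i) = 0) :
    Nat.card (AA p k n a ≃ₐ[MvPowerSeries (Fin n) k] AA p k n a) = p ^ n ∧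
      (∀ σ τ : AA p k n a ≃ₐ[MvPowerSeries (Fin n) k] AA p k n a, σ * τ = τ * σ) ∧
      (∀ σ : AA p k n a ≃ₐ[MvPowerSeries (Fin n) k] AA p k n a, σ ^ p = 1) ∧
      (∀ b : AA p k n a,
        (∀ σ : AA p k n a ≃ₐ[MvPowerSeries (Fin n) k] AA p k n a, σ b = b) ↔
          b ∈ Set.range (algebraMap (MvPowerSeries (Fin n) k) (AA p k n a))) := by
  obtain ⟨hfree, hrank⟩ := free_finrank_AA p k n a
  have hreg : IsRegularLocalRing (AA p k n a) := isRegularLocalRing_AA p k n a ham
  haveI hdom : IsDomain (AA p k n a) :=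
    Groth.Agent.Lib.Helper21.isDomain_of_isRegularLocalRing (AA p k n a)
  have hfin : Module.Finite (MvPowerSeries (Fin n) k) (AA p k n a) := by
    apply Module.finite_of_finrank_pos
    rw [hrank]
    exact pow_pos hp.out.pos n
  have hloc : IsLocalRing (AA p k n a) := hreg.toIsLocalRing
  have hinj := algebraMap_injective p k n a
  haveI : IsDomain (MvPowerSeries (Fin n) k) := NoZeroDivisors.to_isDomain _
  haveI hfaith : FaithfulSMul (MvPowerSeries (Fin n) k) (AA p k n a) :=
    (faithfulSMul_iff_algebraMap_injective _ _).mpr hinj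
  haveI hcharR : CharP (MvPowerSeries (Fin n) k) p :=
    charP_of_injective_ringHom (MvPowerSeries.C_injective (σ := Fin n) (R := k)) p
  haveI hcharA : CharP (AA p k n a) p := charP_of_injective_algebraMap hinj p
  have ha : ∀ i, algebraMap (MvPowerSeries (Fin n) k) (AA p k n a) (a i) ≠ 0 := by
    intro i h
    exact ha0 i (hinj (by rw [h, map_zero]))
  have hu := adjoin_uu p k n a
  have hrel := uu_rel p k n a
  have hlift := hlift_AA p k n a
  have hcard := card_algEquiv (R := MvPowerSeries (Fin n) k) (A := AA p k n a) p (uu p k n a) hu a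
    MvPowerSeries.X ha hrel hlift
  refine ⟨hcard, ?_, ?_, ?_⟩
  · exact algEquiv_comm (R := MvPowerSeries (Fin n) k) (A := AA p k n a) p (uu p k n a) hu a
      MvPowerSeries.X ha hrel
  · exact algEquiv_pow (R := MvPowerSeries (Fin n) k) (A := AA p k n a) p (uu p k n a) hu a
      MvPowerSeries.X ha hrel
  · intro b
    constructor
    · intro hb
      haveI : Finite (AA p k n a ≃ₐ[MvPowerSeries (Fin n) k] AA p k n a) :=
        finite_algEquiv (R := MvPowerSeries (Fin n) k) (A := AA p k n a) p (uu p k n a) hu a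
          MvPowerSeries.X ha hrel hlift
      obtain ⟨π, hπ⟩ := exists_retraction' (R := MvPowerSeries (Fin n) k) (A := AA p k n a)
      exact mem_range_of_fixed (R := MvPowerSeries (Fin n) k) (A := AA p k n a)
        (G := AA p k n a ≃ₐ[MvPowerSeries (Fin n) k] AA p k n a) (hcard.trans hrank.symm) π hπ b hb
    · rintro ⟨r, rfl⟩ σ
      exact σ.commutes r

end Groth.Agent.Lib.Helper26.ASFamM
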