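import Mathlib

set_option autoImplicit false
set_option linter.style.haveILetI false
universe u

namespace Groth.Agent.Lib.Helper26.ASInvA

/-- gcd lemma: if `d` divides `x * αi i ^ e` for all `i` in the support, then `d ∣ x` -/
theorem dvd_of_forall_dvd_mul_pow {R : Type*} [CommRing R] [IsDomain R]
    [UniqueFactorizationMonoid R] {ι : Type*} [DecidableEq ι] (Supp : Finset ι)
    (hne : Supp.Nonempty) (a : ι → R)
    (hcop : ∀ i ∈ Supp, ∀ j ∈ Supp, i ≠ j → IsRelPrime (a i) (a j)) (e : ℕ)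
    (d : R) (hd : d ≠ 0) :
    ∀ x : R, (∀ i ∈ Supp, d ∣ x * (∏ j ∈ Supp.erase i, a j) ^ e) → d ∣ x := by
  revert hd
  refine UniqueFactorizationMonoid.induction_on_prime d (fun hd => absurd rfl hd)
    (fun d hu _ x _ => hu.dvd) ?_
  intro d' π hd'0 hπ ih hd x hx
  -- π divides x
  have hπx : π ∣ x := by
    by_contra hnot
    have h1 : ∀ i ∈ Supp, ∃ j ∈ Supp.erase i, π ∣ a j := by
      intro i hi
      have h2 : π ∣ x * (∏ j ∈ Supp.erase i, a j) ^ e :=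
        dvd_trans (dvd_mul_right π d') (hx i hi)
      rcases hπ.dvd_or_dvd h2 with h3 | h3
      · exact absurd h3 hnot
      · exact (Prime.dvd_finset_prod_iff hπ _).mp (hπ.dvd_of_dvd_pow h3)
    obtain ⟨i₁, hi₁⟩ := hne
    obtain ⟨j₁, hj₁, hπ₁⟩ := h1 i₁ hi₁
    have hj₁S : j₁ ∈ Supp := Finset.mem_of_mem_erase hj₁
    obtain ⟨j₂, hj₂, hπ₂⟩ := h1 j₁ hj₁S
    have hj₂S : j₂ ∈ Supp := Finset.mem_of_mem_erase hj₂
    have hne12 : j₁ ≠ j₂ := (Finset.ne_of_mem_erase hj₂).symm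
    exact hπ.not_unit (hcop j₁ hj₁S j₂ hj₂S hne12 hπ₁ hπ₂)
  obtain ⟨x', rfl⟩ := hπx
  have h4 : d' ∣ x' := by
    apply ih hd'0
    intro i hi
    have h5 := hx i hi
    rw [mul_assoc] at h5
    exact (mul_dvd_mul_iff_left hπ.ne_zero).mp h5
  exact mul_dvd_mul_left π h4

end Groth.Agent.Lib.Helper26.ASInvA
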