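import Mathlib

set_option autoImplicit false
set_option linter.style.haveILetI false
universe u

namespace Groth.Agent.Lib.Helper26.ASMinorA

open Polynomial

section PowerSums

variable (p : ℕ) [hp : Fact p.Prime]

theorem sum_pow_zmod (m : ℕ) (hm : m ≤ p - 1) :
    ∑ c : ZMod p, c ^ m = if m = p - 1 then -1 else 0 := by
  have hp1 : 1 < p := hp.out.one_lt
  split_ifs with h
  · subst h
    have h1 : ∀ c : ZMod p, c ^ (p - 1) = if c = 0 then 0 else 1 := by
      intro c
      split_ifs with hc
      · rw [hc, zero_pow (by omega)]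
      · exact ZMod.pow_card_sub_one_eq_one hc
    simp_rw [h1]
    rw [Finset.sum_ite, Finset.sum_const_zero, zero_add, Finset.sum_const, nsmul_one]
    have h2 : (Finset.univ.filter fun c : ZMod p => ¬ c = 0).card = p - 1 := by
      rw [Finset.filter_not, Finset.card_sdiff_of_subset (Finset.subset_univ _), Finset.card_univ,
        ZMod.card, Finset.filter_eq', if_pos (Finset.mem_univ _), Finset.card_singleton]
    rw [h2, Nat.cast_sub hp.out.one_le, Nat.cast_one, CharP.cast_eq_zero, zero_sub]
  · apply FiniteField.sum_pow_lt_card_sub_one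
    rw [ZMod.card]
    omega

end PowerSums

section Trace

variable {R A : Type*} [CommRing R] [CommRing A] [Algebra R A] (p : ℕ) [hp : Fact p.Prime]
  [CharP A p] (σ : A ≃ₐ[R] A)

/-- the prime field embedding -/
noncomputable def iota : ZMod p →+* A := ZMod.castHom (dvd_refl p) A

/-- the trace of the cyclic group generated by `σ` -/
noncomputable def Tr (t : A) : A := ∑ c : ZMod p, (σ ^ c.val) t

theorem Tr_add (t t' : A) : Tr p σ (t + t') = Tr p σ t + Tr p σ t' := by
  unfold Tr
  rw [← Finset.sum_add_distrib]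
  exact Finset.sum_congr rfl fun c _ => map_add _ _ _

theorem Tr_sum {ι : Type*} (s : Finset ι) (f : ι → A) :
    Tr p σ (∑ i ∈ s, f i) = ∑ i ∈ s, Tr p σ (f i) := by
  classical
  induction s using Finset.induction_on with
  | empty =>
    simp only [Finset.sum_empty]
    unfold Tr
    simp
  | insert a s ha ih => rw [Finset.sum_insert ha, Finset.sum_insert ha, Tr_add, ih]

theorem pow_fixed (b : A) (hb : σ b = b) (j : ℕ) : (σ ^ j) b = b := by
  induction j with
  | zero => rfl
  | succ j ih => rw [pow_succ, AlgEquiv.mul_apply, hb, ih]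

theorem Tr_mul_fixed (b t : A) (hb : σ b = b) : Tr p σ (b * t) = b * Tr p σ t := by
  unfold Tr
  rw [Finset.mul_sum]
  refine Finset.sum_congr rfl fun c _ => ?_
  rw [map_mul, pow_fixed σ b hb]

theorem pow_shift (u s : A) (hs : σ s = s) (hu : σ u = u + s) (j : ℕ) :
    (σ ^ j) u = u + (j : A) * s := by
  induction j with
  | zero => simp
  | succ j ih =>
    rw [pow_succ, AlgEquiv.mul_apply, hu, map_add, ih, pow_fixed σ s hs]
    push_cast
    ring

theorem Tr_pow (u s : A) (hs : σ s = s) (hu : σ u = u + s) (e : ℕ) (he : e ≤ p - 1) :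
    Tr p σ (u ^ e) = if e = p - 1 then -s ^ (p - 1) else 0 := by
  have h1 : ∀ c : ZMod p, (σ ^ c.val) (u ^ e) = (iota p c * s + u) ^ e := by
    intro c
    rw [map_pow, pow_shift σ u s hs hu]
    congr 1
    have : ((c.val : ℕ) : A) = iota p c := by
      unfold iota
      rw [ZMod.castHom_apply, ZMod.natCast_val]
    rw [this]
    ring
  unfold Tr
  simp_rw [h1, add_pow, mul_pow]
  rw [Finset.sum_comm]
  have h2 : ∀ m ∈ Finset.range (e + 1),
      ∑ c : ZMod p, iota (A := A) p c ^ m * s ^ m * u ^ (e - m) * (e.choose m : A) =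
        iota p (∑ c : ZMod p, c ^ m) * (s ^ m * u ^ (e - m) * (e.choose m : A)) := by
    intro m _
    rw [map_sum, Finset.sum_mul]
    refine Finset.sum_congr rfl fun c _ => ?_
    rw [map_pow]
    ring
  rw [Finset.sum_congr rfl h2]
  have h3 : ∀ m ∈ Finset.range (e + 1),
      iota (A := A) p (∑ c : ZMod p, c ^ m) * (s ^ m * u ^ (e - m) * (e.choose m : A)) =
        if m = p - 1 then -s ^ (p - 1) else 0 := by
    intro m hm
    rw [Finset.mem_range] at hm
    rw [sum_pow_zmod p m (by omega)]
    split_ifs with h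
    · subst h
      have he' : e = p - 1 := by omega
      subst he'
      rw [map_neg, map_one, Nat.sub_self, pow_zero, Nat.choose_self, Nat.cast_one]
      ring
    · rw [map_zero, zero_mul]
  rw [Finset.sum_congr rfl h3]
  split_ifs with h
  · subst h
    rw [Finset.sum_ite_eq' (Finset.range (p - 1 + 1)) (p - 1)]
    rw [if_pos (Finset.mem_range.mpr (by omega))]
  · apply Finset.sum_eq_zero
    intro m hm
    rw [Finset.mem_range] at hm
    rw [if_neg (by omega)]

end Trace

end Groth.Agent.Lib.Helper26.ASMinorA
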