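import Mathlib
import Groth.Agent.Lib.Helper26.ASMinorA

set_option autoImplicit false
set_option linter.style.haveILetI false
universe u

namespace Groth.Agent.Lib.Helper26.ASInvB

open Groth.Agent.Lib.Helper26.ASMinorA

section

variable {R A : Type*} [CommRing R] [CommRing A] [Algebra R A] (p : ℕ) [hp : Fact p.Prime]
  [CharP A p] (τ : A ≃ₐ[R] A)

theorem pow_val_succ (hτp : τ ^ p = 1) (c : ZMod p) : τ ^ (c + 1).val = τ ^ (c.val + 1) := by
  haveI : Fact (1 < p) := ⟨hp.out.one_lt⟩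
  rw [ZMod.val_add, ZMod.val_one, ← pow_eq_pow_mod _ hτp]

theorem Tr_tau (hτp : τ ^ p = 1) (y : A) : τ (Tr p τ y) = Tr p τ y := by
  unfold Tr
  rw [map_sum]
  have h1 : ∀ c : ZMod p, τ ((τ ^ c.val) y) = (τ ^ (c + 1).val) y := by
    intro c
    rw [pow_val_succ p τ hτp, pow_succ', AlgEquiv.mul_apply]
  rw [Finset.sum_congr rfl fun c _ => h1 c]
  exact Fintype.sum_equiv (Equiv.addRight (1 : ZMod p)) _ _ (fun c => rfl)

theorem Tr_comm (h : A ≃ₐ[R] A) (hc : h * τ = τ * h) (y : A) (hy : h y = y) :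
    h (Tr p τ y) = Tr p τ y := by
  unfold Tr
  rw [map_sum]
  refine Finset.sum_congr rfl fun c _ => ?_
  have h1 : ∀ j : ℕ, h * τ ^ j = τ ^ j * h := by
    intro j
    induction j with
    | zero => simp
    | succ j ih => rw [pow_succ, ← mul_assoc, ih, mul_assoc, hc, mul_assoc]
  have h2 := DFunLike.congr_fun (h1 c.val) y
  rw [AlgEquiv.mul_apply, AlgEquiv.mul_apply, hy] at h2
  exact h2

end

section Main

variable {R A : Type*} [CommRing R] [CommRing A] [IsDomain A] [Algebra R A] (p : ℕ)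
  [hp : Fact p.Prime] [CharP A p]

theorem iota_pow_sub_one (c : ZMod p) (hc : c ≠ 0) : iota (A := A) p c ^ (p - 1) = 1 := by
  rw [← map_pow, ZMod.pow_card_sub_one_eq_one hc, map_one]

/-- the inner sum of the Lagrange identity -/
theorem inner_sum (z δ : A) (hδ0 : δ ≠ 0) (c : ZMod p) :
    ∑ e ∈ Finset.range p, z ^ e * (z + iota p c * δ) ^ (p - 1 - e) =
      if c = 0 then 0 else δ ^ (p - 1) := by
  split_ifs with hc
  · subst hc
    rw [map_zero, zero_mul, add_zero, geom_sum₂_self, CharP.cast_eq_zero, zero_mul]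
  · have hne : z - (z + iota p c * δ) ≠ 0 := by
      rw [sub_add_cancel_left, neg_ne_zero]
      refine mul_ne_zero ?_ hδ0
      rw [Ne, map_eq_zero_iff _ (RingHom.injective _)]
      exact hc
    have h1 := geom_sum₂_mul z (z + iota p c * δ) p
    have h2 : z ^ p - (z + iota p c * δ) ^ p = (z - (z + iota p c * δ)) ^ p :=
      ((sub_pow_char z (z + iota p c * δ) : _ ^ p = _)).symm
    rw [h2] at h1
    have h3 : (z - (z + iota p c * δ)) ^ p =
        (z - (z + iota p c * δ)) ^ (p - 1) * (z - (z + iota p c * δ)) := by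
      rw [← pow_succ, Nat.sub_add_cancel hp.out.one_le]
    rw [h3] at h1
    have h4 := mul_right_cancel₀ hne h1
    rw [h4, sub_add_cancel_left, neg_mul_eq_neg_mul, ← map_neg, mul_pow,
      iota_pow_sub_one p (-c) (neg_ne_zero.mpr hc), one_mul]

/-- Lagrange/trace: an `H_s`-invariant element is, up to `δ^(p-1)`, a polynomial in `z` -/
theorem exists_coeffs
    (hfixR : ∀ b : A, (∀ φ : A ≃ₐ[R] A, φ b = b) → b ∈ Set.range (algebraMap R A))
    (hcomm : ∀ φ ψ : A ≃ₐ[R] A, φ * ψ = ψ * φ)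
    (τ : A ≃ₐ[R] A) (hτp : τ ^ p = 1) (z t : A) (δR : R) (hδ0 : algebraMap R A δR ≠ 0)
    (hτz : τ z = z + algebraMap R A δR)
    (hdecomp : ∀ φ : A ≃ₐ[R] A, ∃ (j : ℕ) (h : A ≃ₐ[R] A), φ = τ ^ j * h ∧ h t = t ∧ h z = z) :
    ∃ r : ℕ → R, algebraMap R A δR ^ (p - 1) * t =
      ∑ e ∈ Finset.range p, algebraMap R A (r e) * z ^ e := by
  classical
  set δ := algebraMap R A δR with hδ
  have hτδ : τ δ = δ := τ.commutes δR
  -- the traces
  have hρfix : ∀ m : ℕ, ∀ φ : A ≃ₐ[R] A, φ (Tr p τ (t * z ^ m)) = Tr p τ (t * z ^ m) := by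
    intro m φ
    obtain ⟨j, h, rfl, ht, hz⟩ := hdecomp φ
    rw [AlgEquiv.mul_apply, Tr_comm p τ h (hcomm h τ) _ (by rw [map_mul, map_pow, ht, hz])]
    exact pow_fixed τ _ (Tr_tau p τ hτp _) j
  have hρ : ∀ m : ℕ, ∃ r : R, algebraMap R A r = Tr p τ (t * z ^ m) :=
    fun m => hfixR _ (hρfix m)
  choose r hr using hρ
  -- the identity
  have hzc : ∀ c : ZMod p, (τ ^ c.val) z = z + iota p c * δ := by
    intro c
    rw [pow_shift τ z δ hτδ hτz]
    congr 2
    unfold iota
    rw [ZMod.castHom_apply, ZMod.natCast_val]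
  have hkey : ∑ e ∈ Finset.range p, Tr p τ (t * z ^ (p - 1 - e)) * z ^ e =
      δ ^ (p - 1) * (Tr p τ t - t) := by
    have h1 : ∀ e ∈ Finset.range p, Tr p τ (t * z ^ (p - 1 - e)) * z ^ e =
        ∑ c : ZMod p, (τ ^ c.val) t * (z ^ e * (z + iota p c * δ) ^ (p - 1 - e)) := by
      intro e _
      unfold Tr
      rw [Finset.sum_mul]
      refine Finset.sum_congr rfl fun c _ => ?_
      rw [map_mul, map_pow, hzc]
      ring
    rw [Finset.sum_congr rfl h1, Finset.sum_comm]
    have h2 : ∀ c : ZMod p, ∑ e ∈ Finset.range p,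
        (τ ^ c.val) t * (z ^ e * (z + iota p c * δ) ^ (p - 1 - e)) =
        if c = 0 then 0 else (τ ^ c.val) t * δ ^ (p - 1) := by
      intro c
      rw [← Finset.mul_sum, inner_sum p z δ hδ0 c]
      split_ifs <;> simp
    rw [Finset.sum_congr rfl fun c _ => h2 c]
    have h3 : Tr p τ t = ∑ c : ZMod p, (τ ^ c.val) t := rfl
    rw [h3, Finset.sum_ite, Finset.sum_const_zero, zero_add, Finset.filter_not,
      Finset.filter_eq', if_pos (Finset.mem_univ _), ← Finset.sum_mul,
      Finset.sum_sdiff_eq_sub (Finset.subset_univ _), Finset.sum_singleton, ZMod.val_zero, pow_zero,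
      AlgEquiv.one_apply]
    ring
  refine ⟨fun e => (if e = 0 then δR ^ (p - 1) * r 0 else 0) - r (p - 1 - e), ?_⟩
  have h4 : ∑ e ∈ Finset.range p, algebraMap R A
      ((if e = 0 then δR ^ (p - 1) * r 0 else 0) - r (p - 1 - e)) * z ^ e =
      δ ^ (p - 1) * Tr p τ t - ∑ e ∈ Finset.range p, Tr p τ (t * z ^ (p - 1 - e)) * z ^ e := by
    simp only [map_sub, sub_mul, Finset.sum_sub_distrib]
    congr 1
    · rw [Finset.sum_eq_single 0]
      · rw [if_pos rfl, map_mul, map_pow, hr 0, pow_zero, mul_one, mul_one]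
      · intro e _ he
        rw [if_neg he, map_zero, zero_mul]
      · intro h0
        exact absurd (Finset.mem_range.mpr hp.out.pos) h0
    · refine Finset.sum_congr rfl fun e _ => ?_
      rw [hr]
  rw [h4, hkey]
  ring

end Main

end Groth.Agent.Lib.Helper26.ASInvB
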