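import Mathlib
import Groth.Agent.Lib.Helper26.ASMinorA

set_option autoImplicit false
set_option linter.style.haveILetI false
universe u

namespace Groth.Agent.Lib.Helper26.ASInvC

open Groth.Agent.Lib.Helper26.ASMinorA Polynomial

variable {R A : Type*} [CommRing R] [CommRing A] [IsDomain A] [Algebra R A] (p : ℕ)
  [hp : Fact p.Prime] [CharP A p]

theorem f_monic (d y : R) [Nontrivial R] : (X ^ p - C d * X - C y : R[X]).Monic := by
  have hp1 : 1 < p := hp.out.one_lt
  rw [sub_sub]
  apply Polynomial.monic_X_pow_sub
  refine lt_of_le_of_lt (Polynomial.degree_add_le _ _) ?_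
  rw [max_lt_iff]
  constructor
  · refine lt_of_le_of_lt (Polynomial.degree_C_mul_X_le _) ?_
    exact_mod_cast hp1
  · refine lt_of_le_of_lt Polynomial.degree_C_le ?_
    exact_mod_cast (by omega : 0 < p)

theorem f_natDegree (d y : R) [Nontrivial R] : (X ^ p - C d * X - C y : R[X]).natDegree = p := by
  have hp1 : 1 < p := hp.out.one_lt
  rw [sub_sub]
  have h2 : (C d * X + C y : R[X]).degree < (X ^ p : R[X]).degree := by
    rw [Polynomial.degree_X_pow]
    refine lt_of_le_of_lt (Polynomial.degree_add_le _ _) ?_
    rw [max_lt_iff]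
    constructor
    · refine lt_of_le_of_lt (Polynomial.degree_C_mul_X_le _) ?_
      exact_mod_cast hp1
    · refine lt_of_le_of_lt Polynomial.degree_C_le ?_
      exact_mod_cast (by omega : 0 < p)
  have h1 : (X ^ p - (C d * X + C y) : R[X]).degree = p := by
    rw [Polynomial.degree_sub_eq_left_of_degree_lt h2, Polynomial.degree_X_pow]
  exact Polynomial.natDegree_eq_of_degree_eq_some h1

theorem ker_aeval_eq (hinj : Function.Injective (algebraMap R A))
    (z : A) (d y : R) (hz : z ^ p = algebraMap R A d * z + algebraMap R A y)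
    (τ : A ≃ₐ[R] A) (δR : R) (hδ0 : algebraMap R A δR ≠ 0)
    (hτz : τ z = z + algebraMap R A δR) :
    RingHom.ker (Polynomial.aeval z : R[X] →ₐ[R] A) =
      Ideal.span {(X ^ p - C d * X - C y : R[X])} := by
  classical
  haveI : Nontrivial R := (algebraMap R A).domain_nontrivial
  set f : R[X] := X ^ p - C d * X - C y with hf
  have hmon : f.Monic := f_monic p d y
  have hdeg : f.natDegree = p := f_natDegree p d y
  have hfz : Polynomial.aeval z f = 0 := by
    simp only [hf, map_sub, map_mul, map_pow, Polynomial.aeval_X, Polynomial.aeval_C]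
    rw [hz]
    ring
  apply le_antisymm
  · intro q hq
    rw [RingHom.mem_ker] at hq
    rw [Ideal.mem_span_singleton, ← Polynomial.modByMonic_eq_zero_iff_dvd hmon]
    set ρ := q %ₘ f with hρ
    have h1 : Polynomial.aeval z ρ = 0 := by
      have h2 := Polynomial.modByMonic_add_div q f
      have h3 := congrArg (Polynomial.aeval z) h2
      rw [map_add, map_mul, hfz, zero_mul, add_zero, hq] at h3
      exact h3
    have hρdeg : ρ.natDegree < p := by
      rw [← hdeg]
      apply Polynomial.natDegree_modByMonic_lt q hmon
      intro h1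
      rw [h1, Polynomial.natDegree_one] at hdeg
      exact hp.out.ne_zero hdeg.symm
    have hτδ : τ (algebraMap R A δR) = algebraMap R A δR := τ.commutes δR
    have hroots : ∀ c : ZMod p, (ρ.map (algebraMap R A)).eval
        (z + (ZMod.castHom (dvd_refl p) A c) * algebraMap R A δR) = 0 := by
      intro c
      rw [Polynomial.eval_map_algebraMap]
      have h4 : (τ ^ c.val) z = z + (ZMod.castHom (dvd_refl p) A c) * algebraMap R A δR := by
        rw [pow_shift τ z _ hτδ hτz, ZMod.castHom_apply, ZMod.natCast_val]
      rw [← h4, Polynomial.aeval_algHom_apply, h1, map_zero]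
    have hinjf : Function.Injective (fun c : ZMod p =>
        z + (ZMod.castHom (dvd_refl p) A c) * algebraMap R A δR) := by
      intro c c' h
      have h5 := add_left_cancel h
      exact (ZMod.castHom (dvd_refl p) A).injective (mul_right_cancel₀ hδ0 h5)
    have h6 : ρ.map (algebraMap R A) = 0 := by
      apply Polynomial.eq_zero_of_natDegree_lt_card_of_eval_eq_zero _ hinjf hroots
      rw [ZMod.card]
      exact lt_of_le_of_lt Polynomial.natDegree_map_le hρdeg
    exact Polynomial.map_injective _ hinj (by rw [h6, Polynomial.map_zero])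
  · rw [Ideal.span_le]
    intro q hq
    rw [Set.mem_singleton_iff] at hq
    rw [SetLike.mem_coe, RingHom.mem_ker, hq]
    exact hfz

end Groth.Agent.Lib.Helper26.ASInvC
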