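import Mathlib

set_option autoImplicit false
set_option linter.style.haveILetI false
universe u

namespace Groth.Agent.Lib.Helper26.ASInvD

open MvPolynomial

/-- gcd lemma: if `d` divides `x * αi i ^ e` for all `i` in the support, then `d ∣ x` -/
theorem dvd_of_forall_dvd_mul_pow {R : Type*} [CommRing R] [IsDomain R]
    [UniqueFactorizationMonoid R] {ι : Type*} [DecidableEq ι] (Supp : Finset ι)
    (hne : Supp.Nonempty) (a : ι → R)
    (hcop : ∀ i ∈ Supp, ∀ j ∈ Supp, i ≠ j → IsRelPrime (a i) (a j)) (e : ℕ)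
    (d : R) (hd : d ≠ 0) :
    ∀ x : R, (∀ i ∈ Supp, d ∣ x * (∏ j ∈ Supp.erase i, a j) ^ e) → d ∣ x := by
  revert hd
  refine UniqueFactorizationMonoid.induction_on_prime d (fun hd => absurd rfl hd)
    (fun d hu _ x _ => hu.dvd) ?_
  intro d' π hd'0 hπ ih hd x hx
  -- π divides x
  have hπx : π ∣ x := by
    by_contra hnot
    have h1 : ∀ i ∈ Supp, ∃ j ∈ Supp.erase i, π ∣ a j := by
      intro i hi
      have h2 : π ∣ x * (∏ j ∈ Supp.erase i, a j) ^ e :=
        dvd_trans (dvd_mul_right π d') (hx i hi)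
      rcases hπ.dvd_or_dvd h2 with h3 | h3
      · exact absurd h3 hnot
      · exact (Prime.dvd_finset_prod_iff hπ _).mp (hπ.dvd_of_dvd_pow h3)
    obtain ⟨i₁, hi₁⟩ := hne
    obtain ⟨j₁, hj₁, hπ₁⟩ := h1 i₁ hi₁
    have hj₁S : j₁ ∈ Supp := Finset.mem_of_mem_erase hj₁
    obtain ⟨j₂, hj₂, hπ₂⟩ := h1 j₁ hj₁S
    have hj₂S : j₂ ∈ Supp := Finset.mem_of_mem_erase hj₂
    have hne12 : j₁ ≠ j₂ := (Finset.ne_of_mem_erase hj₂).symm
    exact hπ.not_unit (hcop j₁ hj₁S j₂ hj₂S hne12 hπ₁ hπ₂)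
  obtain ⟨x', rfl⟩ := hπx
  have h4 : d' ∣ x' := by
    apply ih hd'0
    intro i hi
    have h5 := hx i hi
    rw [mul_assoc] at h5
    exact (mul_dvd_mul_iff_left hπ.ne_zero).mp h5
  exact mul_dvd_mul_left π h4

section

variable {R A : Type*} [CommRing R] [IsDomain R] [UniqueFactorizationMonoid R] [CommRing A]
  [Algebra R A] {n : ℕ} (p : ℕ) (u : Fin n → A)

/-- the evaluation at the `i`-th axis -/
noncomputable def ev (i : Fin n) : MvPolynomial (Fin n) R →ₐ[R] Polynomial R :=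
  aeval (fun j => if j = i then Polynomial.X else 0)

/-- the linear form -/
noncomputable def ZZ (Supp : Finset (Fin n)) (b : Fin n → R) : MvPolynomial (Fin n) R :=
  ∑ i ∈ Supp, C (b i) * X i

theorem ev_ZZ (Supp : Finset (Fin n)) (b : Fin n → R) (i : Fin n) (hi : i ∈ Supp) :
    ev i (ZZ Supp b) = Polynomial.C (b i) * Polynomial.X := by
  unfold ZZ ev
  rw [map_sum, Finset.sum_eq_single i]
  · rw [map_mul, aeval_C, aeval_X, if_pos rfl]
    rfl
  · intro j _ hj
    rw [map_mul, aeval_X, if_neg hj, mul_zero]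
  · intro h
    exact absurd hi h

theorem aeval_ZZ (Supp : Finset (Fin n)) (b : Fin n → R) :
    aeval u (ZZ Supp b) = ∑ i ∈ Supp, algebraMap R A (b i) * u i := by
  unfold ZZ
  rw [map_sum]
  refine Finset.sum_congr rfl fun i _ => ?_
  rw [map_mul, aeval_C, aeval_X]

theorem totalDegree_ZZ_le (Supp : Finset (Fin n)) (b : Fin n → R) :
    (ZZ Supp b).totalDegree ≤ 1 := by
  unfold ZZ
  apply totalDegree_finsetSum_le
  intro i _
  refine le_trans (totalDegree_mul _ _) ?_
  rw [totalDegree_C, totalDegree_X, zero_add]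

/-- the polynomial in the linear form -/
noncomputable def GG (Supp : Finset (Fin n)) (b : Fin n → R) (r : ℕ → R) :
    MvPolynomial (Fin n) R :=
  ∑ e ∈ Finset.range p, C (r e) * ZZ Supp b ^ e

theorem GG_mem (hp : 0 < p) (Supp : Finset (Fin n)) (b : Fin n → R) (r : ℕ → R) :
    GG p Supp b r ∈ restrictSupport R {m : Fin n →₀ ℕ | ∀ i, m i < p} := by
  rw [mem_restrictSupport_iff]
  intro m hm i
  have h1 : (GG p Supp b r).totalDegree ≤ p - 1 := by
    unfold GG
    apply totalDegree_finsetSum_le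
    intro e he
    rw [Finset.mem_range] at he
    refine le_trans (totalDegree_mul _ _) ?_
    rw [totalDegree_C, zero_add]
    refine le_trans (totalDegree_pow _ _) ?_
    have := totalDegree_ZZ_le Supp b
    calc e * (ZZ Supp b).totalDegree ≤ e * 1 := Nat.mul_le_mul_left e this
      _ ≤ p - 1 := by omega
  have h2 : m i ≤ (GG p Supp b r).degreeOf i := degreeOf_le_iff.mp le_rfl m hm
  have h3 := degreeOf_le_totalDegree (GG p Supp b r) i
  omega

theorem ev_GG (Supp : Finset (Fin n)) (b : Fin n → R) (r : ℕ → R) (i : Fin n) (hi : i ∈ Supp) :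
    ev i (GG p Supp b r) = ∑ e ∈ Finset.range p, Polynomial.C (r e * b i ^ e) * Polynomial.X ^ e := by
  unfold GG
  rw [map_sum]
  refine Finset.sum_congr rfl fun e _ => ?_
  have h1 : ev i (C (r e) : MvPolynomial (Fin n) R) = Polynomial.C (r e) := by
    unfold ev
    rw [aeval_C]
    rfl
  rw [map_mul, map_pow, ev_ZZ Supp b i hi, mul_pow, ← Polynomial.C_pow, ← mul_assoc, h1,
    ← Polynomial.C_mul]

theorem aeval_GG (Supp : Finset (Fin n)) (b : Fin n → R) (r : ℕ → R) :
    aeval u (GG p Supp b r) = ∑ e ∈ Finset.range p, algebraMap R A (r e) *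
      (∑ i ∈ Supp, algebraMap R A (b i) * u i) ^ e := by
  unfold GG
  rw [map_sum]
  refine Finset.sum_congr rfl fun e _ => ?_
  rw [map_mul, map_pow, aeval_C, aeval_ZZ]

theorem divide_coeffs (hp : 0 < p)
    (hspan : ∀ t : A, ∃ g ∈ restrictSupport R {m : Fin n →₀ ℕ | ∀ i, m i < p}, aeval u g = t)
    (hindep : ∀ g ∈ restrictSupport R {m : Fin n →₀ ℕ | ∀ i, m i < p}, aeval u g = 0 → g = 0)
    (Supp : Finset (Fin n)) (hne : Supp.Nonempty) (a : Fin n → R)
    (hcop : ∀ i ∈ Supp, ∀ j ∈ Supp, i ≠ j → IsRelPrime (a i) (a j))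
    (c : Fin n → R) (hcu : ∀ i ∈ Supp, IsUnit (c i))
    (d : R) (hd : d ≠ 0) (t : A) (r : ℕ → R)
    (h : algebraMap R A d * t = ∑ e ∈ Finset.range p, algebraMap R A (r e) *
      (∑ i ∈ Supp, algebraMap R A (c i * ∏ j ∈ Supp.erase i, a j) * u i) ^ e) :
    ∀ e < p, d ∣ r e := by
  classical
  obtain ⟨g, hg, rfl⟩ := hspan t
  set b : Fin n → R := fun i => c i * ∏ j ∈ Supp.erase i, a j with hb
  have hGG := GG_mem p hp Supp b r
  have h1 : GG p Supp b r - d • g ∈ restrictSupport R {m : Fin n →₀ ℕ | ∀ i, m i < p} :=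
    Submodule.sub_mem _ hGG (Submodule.smul_mem _ d hg)
  have h2 : aeval u (GG p Supp b r - d • g) = 0 := by
    rw [map_sub, aeval_GG, map_smul, Algebra.smul_def, h, sub_self]
  have h3 : GG p Supp b r = d • g := sub_eq_zero.mp (hindep _ h1 h2)
  intro e he
  apply dvd_of_forall_dvd_mul_pow Supp hne a hcop e d hd
  intro i hi
  have h4 : Polynomial.coeff (ev i (GG p Supp b r)) e = Polynomial.coeff (ev i (d • g)) e := by
    rw [h3]
  rw [ev_GG p Supp b r i hi, map_smul, Polynomial.coeff_smul, Polynomial.finset_sum_coeff] at h4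
  simp only [Polynomial.coeff_C_mul, Polynomial.coeff_X_pow] at h4
  rw [Finset.sum_eq_single e] at h4
  · rw [if_pos rfl, mul_one] at h4
    have h5 : d ∣ r e * b i ^ e := ⟨_, h4⟩
    rw [hb] at h5
    simp only at h5
    rw [mul_pow, mul_comm (c i ^ e), ← mul_assoc] at h5
    exact (IsUnit.dvd_mul_right ((hcu i hi).pow e)).mp h5
  · intro e' _ hne'
    rw [if_neg hne'.symm, mul_zero]
  · intro h6
    exact absurd (Finset.mem_range.mpr he) h6

end

end Groth.Agent.Lib.Helper26.ASInvD
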