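import Mathlib
import Groth.Agent.Lib.Helper26.ASFamL
import Groth.Agent.Lib.Helper26.ASInvB
import Groth.Agent.Lib.Helper26.ASInvC
import Groth.Agent.Lib.Helper26.ASInvD

set_option autoImplicit false
set_option linter.style.haveILetI false
universe u

namespace Groth.Agent.Lib.Helper26.ASInvE

open Groth.Agent.Lib.Helper26.ASFamL MvPolynomial

section

variable {R A : Type*} [CommRing R] [CommRing A] [IsDomain A] [Algebra R A]
  (p : ℕ) [hp : Fact p.Prime] [CharP A p] {n : ℕ}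
  (u : Fin n → A) (hu : Algebra.adjoin R (Set.range u) = ⊤)
  (a' x : Fin n → R) (ha : ∀ i, algebraMap R A (a' i) ≠ 0)
  (hrel : ∀ i, u i ^ p = algebraMap R A (a' i ^ (p - 1)) * u i + algebraMap R A (x i))
  (a : Fin n → R) (μ : R) (haa : ∀ i, a' i = μ * a i)
  (s : Fin n → ZMod p) (c : Fin n → R) (hc : ∀ i, algebraMap R A (c i) = iota p (s i))
  (Supp : Finset (Fin n)) (hSupp : ∀ i, i ∈ Supp ↔ s i ≠ 0)

/-- the element `z_s` -/
noncomputable def zS : A :=
  ∑ i ∈ Supp, algebraMap R A (c i * ∏ j ∈ Supp.erase i, a j) * u i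

include haa hc hSupp in
theorem map_zS (φ : A ≃ₐ[R] A) :
    φ (zS u a c Supp) = zS u a c Supp +
      iota p (∑ i, Phi p u a' x ha hrel φ i * s i) * algebraMap R A (μ * ∏ i ∈ Supp, a i) := by
  classical
  unfold zS
  rw [map_sum]
  have h1 : ∀ i ∈ Supp, φ (algebraMap R A (c i * ∏ j ∈ Supp.erase i, a j) * u i) =
      algebraMap R A (c i * ∏ j ∈ Supp.erase i, a j) * u i +
        iota p (Phi p u a' x ha hrel φ i * s i) * algebraMap R A (μ * ∏ i ∈ Supp, a i) := by
    intro i hi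
    rw [map_mul, AlgEquiv.commutes, Phi_spec p u a' x ha hrel φ i, haa i, mul_add]
    congr 1
    have hα : (∏ j ∈ Supp.erase i, a j) * a i = ∏ j ∈ Supp, a j := Finset.prod_erase_mul Supp a hi
    rw [← hα, map_mul (iota p)]
    simp only [map_mul]
    rw [hc i]
    ring
  rw [Finset.sum_congr rfl h1, Finset.sum_add_distrib, ← Finset.sum_mul, ← map_sum]
  congr 3
  apply Finset.sum_subset (Finset.subset_univ Supp)
  intro i _ hi
  have : s i = 0 := by
    by_contra h
    exact hi ((hSupp i).mpr h)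
  rw [this, mul_zero]

include haa hc hrel in
theorem zS_pow (hinj : Function.Injective (algebraMap R A)) :
    zS u a c Supp ^ p = algebraMap R A ((μ * ∏ i ∈ Supp, a i) ^ (p - 1)) * zS u a c Supp +
      algebraMap R A (∑ i ∈ Supp, c i * (∏ j ∈ Supp.erase i, a j) ^ p * x i) := by
  classical
  unfold zS
  rw [sum_pow_char]
  have hcp : ∀ i, c i ^ p = c i := fun i => hinj (by rw [map_pow, hc, iota_pow])
  have h1 : ∀ i ∈ Supp, (algebraMap R A (c i * ∏ j ∈ Supp.erase i, a j) * u i) ^ p =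
      algebraMap R A ((μ * ∏ i ∈ Supp, a i) ^ (p - 1)) *
        (algebraMap R A (c i * ∏ j ∈ Supp.erase i, a j) * u i) +
      algebraMap R A (c i * (∏ j ∈ Supp.erase i, a j) ^ p * x i) := by
    intro i hi
    have hα : (∏ j ∈ Supp.erase i, a j) * a i = ∏ j ∈ Supp, a j := Finset.prod_erase_mul Supp a hi
    have h2 : (∏ j ∈ Supp.erase i, a j) ^ p * (μ * a i) ^ (p - 1) =
        (μ * ∏ j ∈ Supp, a j) ^ (p - 1) * ∏ j ∈ Supp.erase i, a j := by
      rw [← hα]
      have : (∏ j ∈ Supp.erase i, a j) ^ p =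
          (∏ j ∈ Supp.erase i, a j) ^ (p - 1) * ∏ j ∈ Supp.erase i, a j := by
        rw [← pow_succ, Nat.sub_add_cancel hp.out.one_le]
      rw [this]
      ring
    have h2' := congrArg (algebraMap R A) h2
    rw [mul_pow, hrel i, haa i, ← map_pow, mul_pow, hcp i]
    simp only [map_mul, map_pow] at h2' ⊢
    linear_combination (algebraMap R A (c i) * u i) * h2'
  rw [Finset.sum_congr rfl h1, Finset.sum_add_distrib, ← Finset.mul_sum, ← map_sum]

theorem Phi_list_prod (l : List (A ≃ₐ[R] A)) :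
    Phi p u a' x ha hrel l.prod = (l.map (Phi p u a' x ha hrel)).sum := by
  induction l with
  | nil => rw [List.prod_nil, List.map_nil, List.sum_nil, Phi_one]
  | cons b l ih => rw [List.prod_cons, List.map_cons, List.sum_cons, Phi_mul, ih]

theorem Phi_sigma (σ : Fin n → (A ≃ₐ[R] A))
    (hσ : ∀ i j, σ i (u j) = u j + (if i = j then algebraMap R A (a' i) else 0)) (i : Fin n) :
    Phi p u a' x ha hrel (σ i) = Pi.single i 1 := by
  funext j
  apply shift_unique p u a' ha j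
  rw [← Phi_spec p u a' x ha hrel (σ i) j, hσ i j]
  by_cases h : i = j
  · subst h
    rw [if_pos rfl, Pi.single_eq_same, map_one, one_mul]
  · rw [if_neg h, Pi.single_eq_of_ne (Ne.symm h), map_zero, zero_mul]

theorem Phi_prod_sigma (σ : Fin n → (A ≃ₐ[R] A))
    (hσ : ∀ i j, σ i (u j) = u j + (if i = j then algebraMap R A (a' i) else 0))
    (ν : Fin n → ZMod p) :
    Phi p u a' x ha hrel (List.ofFn (fun i : Fin n => σ i ^ (ν i).val)).prod = ν := by
  rw [Phi_list_prod, List.map_ofFn, List.sum_ofFn]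
  funext j
  rw [Finset.sum_apply, Finset.sum_eq_single j]
  · rw [Function.comp_apply, Phi_pow, Phi_sigma p u a' x ha hrel σ hσ, Pi.smul_apply,
      Pi.single_eq_same, nsmul_eq_mul, mul_one, ZMod.natCast_val, ZMod.cast_id', id]
  · intro i _ hij
    rw [Function.comp_apply, Phi_pow, Phi_sigma p u a' x ha hrel σ hσ, Pi.smul_apply,
      Pi.single_eq_of_ne (Ne.symm hij), smul_zero]
  · intro h
    exact absurd (Finset.mem_univ j) h

end

section Main

variable {R A : Type*} [CommRing R] [IsDomain R] [UniqueFactorizationMonoid R] [CommRing A]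
  [IsDomain A] [Algebra R A]
  (p : ℕ) [hp : Fact p.Prime] [CharP A p] {n : ℕ}
  (u : Fin n → A) (hu : Algebra.adjoin R (Set.range u) = ⊤)
  (a' x : Fin n → R) (ha : ∀ i, algebraMap R A (a' i) ≠ 0)
  (hrel : ∀ i, u i ^ p = algebraMap R A (a' i ^ (p - 1)) * u i + algebraMap R A (x i))
  (hlift : ∀ v : Fin n → A,
    (∀ i, v i ^ p = algebraMap R A (a' i ^ (p - 1)) * v i + algebraMap R A (x i)) →
     ∃ φ : A →ₐ[R] A, ∀ i, φ (u i) = v i)
  (a : Fin n → R) (μ : R) (haa : ∀ i, a' i = μ * a i)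
  (s : Fin n → ZMod p) (c : Fin n → R) (hc : ∀ i, algebraMap R A (c i) = iota p (s i))
  (Supp : Finset (Fin n)) (hSupp : ∀ i, i ∈ Supp ↔ s i ≠ 0)

include hu hlift haa hc hSupp ha hrel in
theorem main_generic (hinj : Function.Injective (algebraMap R A))
    (hfixR : ∀ b : A, (∀ φ : A ≃ₐ[R] A, φ b = b) → b ∈ Set.range (algebraMap R A))
    (hspan : ∀ t : A, ∃ g ∈ restrictSupport R {m : Fin n →₀ ℕ | ∀ i, m i < p}, aeval u g = t)
    (hindep : ∀ g ∈ restrictSupport R {m : Fin n →₀ ℕ | ∀ i, m i < p}, aeval u g = 0 → g = 0)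
    (hs : s ≠ 0) (hcop : ∀ i j, i ≠ j → IsRelPrime (a i) (a j))
    (hcu : ∀ i, s i ≠ 0 → IsUnit (c i))
    (σ : Fin n → (A ≃ₐ[R] A))
    (hσ : ∀ i j, σ i (u j) = u j + (if i = j then algebraMap R A (a' i) else 0)) :
    (∀ t : A, (∀ ν : Fin n → ZMod p, ∑ i, ν i * s i = 0 →
        (List.ofFn (fun i : Fin n => σ i ^ (ν i).val)).prod t = t) ↔
      t ∈ (Polynomial.aeval (zS u a c Supp) : Polynomial R →ₐ[R] A).range) ∧
    RingHom.ker (Polynomial.aeval (zS u a c Supp) : Polynomial R →ₐ[R] A) =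
      Ideal.span {(Polynomial.X ^ p - Polynomial.C ((μ * ∏ i ∈ Supp, a i) ^ (p - 1)) * Polynomial.X
        - Polynomial.C (∑ i ∈ Supp, c i * (∏ j ∈ Supp.erase i, a j) ^ p * x i) :
          Polynomial R)} := by
  classical
  -- a support element
  obtain ⟨i₁, hi₁⟩ : ∃ i, s i ≠ 0 := by
    by_contra h
    push_neg at h
    exact hs (funext h)
  have hi₁S : i₁ ∈ Supp := (hSupp i₁).mpr hi₁
  -- nonvanishing
  have hμa : ∀ i, μ ≠ 0 ∧ a i ≠ 0 := by
    intro i
    have h1 := ha i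
    rw [haa i] at h1
    have h2 : μ * a i ≠ 0 := fun h => h1 (by rw [h, map_zero])
    exact ⟨left_ne_zero_of_mul h2, right_ne_zero_of_mul h2⟩
  have hα0 : ∏ i ∈ Supp, a i ≠ 0 := Finset.prod_ne_zero_iff.mpr fun i _ => (hμa i).2
  have hδR0 : μ * ∏ i ∈ Supp, a i ≠ 0 := mul_ne_zero (hμa i₁).1 hα0
  have hδ0 : algebraMap R A (μ * ∏ i ∈ Supp, a i) ≠ 0 := fun h => hδR0 (hinj (by rw [h, map_zero]))
  -- the automorphism τ
  obtain ⟨τ, hτ⟩ := exists_algEquiv p u hu a' x hrel hlift (Pi.single i₁ (s i₁)⁻¹)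
  have hPhiτ : Phi p u a' x ha hrel τ = Pi.single i₁ (s i₁)⁻¹ := by
    funext j
    apply shift_unique p u a' ha j
    rw [← Phi_spec p u a' x ha hrel τ j, hτ j]
  have hτsum : ∑ i, Phi p u a' x ha hrel τ i * s i = 1 := by
    rw [hPhiτ, Finset.sum_eq_single i₁]
    · rw [Pi.single_eq_same, inv_mul_cancel₀ hi₁]
    · intro i _ hi
      rw [Pi.single_eq_of_ne hi, zero_mul]
    · intro h
      exact absurd (Finset.mem_univ i₁) h
  have hτz : τ (zS u a c Supp) = zS u a c Supp + algebraMap R A (μ * ∏ i ∈ Supp, a i) := by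
    rw [map_zS p u a' x ha hrel a μ haa s c hc Supp hSupp τ, hτsum, map_one, one_mul]
  have hτp : τ ^ p = 1 := algEquiv_pow p u hu a' x ha hrel τ
  have hcomm : ∀ φ ψ : A ≃ₐ[R] A, φ * ψ = ψ * φ := algEquiv_comm p u hu a' x ha hrel
  -- fixed z
  have hfixz : ∀ φ : A ≃ₐ[R] A, ∑ i, Phi p u a' x ha hrel φ i * s i = 0 →
      φ (zS u a c Supp) = zS u a c Supp := by
    intro φ hφ
    rw [map_zS p u a' x ha hrel a μ haa s c hc Supp hSupp φ, hφ, map_zero, zero_mul, add_zero]
  refine ⟨fun t => ⟨fun ht => ?_, ?_⟩, ?_⟩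
  · -- invariants are polynomials in z
    have ht' : ∀ φ : A ≃ₐ[R] A, ∑ i, Phi p u a' x ha hrel φ i * s i = 0 → φ t = t := by
      intro φ hφ
      have h1 := ht (Phi p u a' x ha hrel φ) hφ
      have h2 : (List.ofFn (fun i : Fin n => σ i ^ (Phi p u a' x ha hrel φ i).val)).prod = φ := by
        apply Phi_injective p u hu a' x ha hrel
        exact Phi_prod_sigma p u a' x ha hrel σ hσ _
      rw [h2] at h1
      exact h1
    have hdecomp : ∀ φ : A ≃ₐ[R] A, ∃ (j : ℕ) (h : A ≃ₐ[R] A),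
        φ = τ ^ j * h ∧ h t = t ∧ h (zS u a c Supp) = zS u a c Supp := by
      intro φ
      set w : ZMod p := ∑ i, Phi p u a' x ha hrel φ i * s i with hw
      obtain ⟨h, hh⟩ := exists_algEquiv p u hu a' x hrel hlift
        (Phi p u a' x ha hrel φ - w.val • Phi p u a' x ha hrel τ)
      have hPhih : Phi p u a' x ha hrel h =
          Phi p u a' x ha hrel φ - w.val • Phi p u a' x ha hrel τ := by
        funext j
        apply shift_unique p u a' ha j
        rw [← Phi_spec p u a' x ha hrel h j, hh j]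
      have hsum : ∑ i, Phi p u a' x ha hrel h i * s i = 0 := by
        rw [hPhih]
        simp only [Pi.sub_apply, Pi.smul_apply, sub_mul, Finset.sum_sub_distrib, smul_mul_assoc]
        rw [← Finset.smul_sum, hτsum, ← hw, nsmul_eq_mul, mul_one, ZMod.natCast_zmod_val, sub_self]
      refine ⟨w.val, h, ?_, ht' h hsum, hfixz h hsum⟩
      apply Phi_injective p u hu a' x ha hrel
      rw [Phi_mul, Phi_pow, hPhih]
      abel
    obtain ⟨r, hr⟩ := Groth.Agent.Lib.Helper26.ASInvB.exists_coeffs p hfixR hcomm τ hτp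
      (zS u a c Supp) t (μ * ∏ i ∈ Supp, a i) hδ0 hτz hdecomp
    rw [← map_pow] at hr
    have hd0 : (μ * ∏ i ∈ Supp, a i) ^ (p - 1) ≠ 0 := pow_ne_zero _ hδR0
    have hdiv := Groth.Agent.Lib.Helper26.ASInvD.divide_coeffs p u hp.out.pos hspan hindep Supp
      ⟨i₁, hi₁S⟩ a (fun i _ j _ hij => hcop i j hij) c (fun i hi => hcu i ((hSupp i).mp hi))
      _ hd0 t r hr
    have hdiv' : ∀ e : ℕ, ∃ r' : R, e < p → r e = (μ * ∏ i ∈ Supp, a i) ^ (p - 1) * r' := by
      intro e
      by_cases he : e < p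
      · obtain ⟨r', hr'⟩ := hdiv e he
        exact ⟨r', fun _ => hr'⟩
      · exact ⟨0, fun h => absurd h he⟩
    choose r' hr' using hdiv'
    refine ⟨∑ e ∈ Finset.range p, Polynomial.C (r' e) * Polynomial.X ^ e, ?_⟩
    have hdA : algebraMap R A ((μ * ∏ i ∈ Supp, a i) ^ (p - 1)) ≠ 0 :=
      fun h => hd0 (hinj (by rw [h, map_zero]))
    apply mul_left_cancel₀ hdA
    rw [hr]
    show _ * (Polynomial.aeval (zS u a c Supp)) _ = _
    rw [map_sum, Finset.mul_sum]
    refine Finset.sum_congr rfl fun e he => ?_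
    rw [Finset.mem_range] at he
    rw [hr' e he]
    simp only [map_mul, map_pow, Polynomial.aeval_C, Polynomial.aeval_X]
    ring
  · -- polynomials in z are invariant
    rintro ⟨q, rfl⟩ ν hν
    set P := (List.ofFn (fun i : Fin n => σ i ^ (ν i).val)).prod with hP
    have hPhiP : Phi p u a' x ha hrel P = ν := Phi_prod_sigma p u a' x ha hrel σ hσ ν
    have hPz : P (zS u a c Supp) = zS u a c Supp := by
      apply hfixz
      rw [hPhiP]
      exact hν
    show P (Polynomial.aeval (zS u a c Supp) q) = Polynomial.aeval (zS u a c Supp) q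
    rw [← Polynomial.aeval_algHom_apply, hPz]
  · exact Groth.Agent.Lib.Helper26.ASInvC.ker_aeval_eq p hinj (zS u a c Supp) _ _
      (zS_pow p u a' x hrel a μ haa s c hc Supp hinj) τ (μ * ∏ i ∈ Supp, a i) hδ0 hτz

end Main

end Groth.Agent.Lib.Helper26.ASInvE
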