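import Mathlib
import Groth.Agent.Lib.Helper26.ASMinorA

set_option autoImplicit false
set_option linter.style.haveILetI false
universe u

namespace Groth.Agent.Lib.Helper26.ASMinorB

open Polynomial Groth.Agent.Lib.Helper26.ASMinorA

section Main

variable {R A : Type*} [CommRing R] [CommRing A] [Algebra R A] (p : ℕ) [hp : Fact p.Prime]
  [CharP A p]

/-- `Tr` of a polynomial expression of degree `< p` in `u` with fixed coefficients -/
theorem Tr_aeval_mem (B : Subalgebra R A) (σ : A ≃ₐ[R] A) (hσB : ∀ b ∈ B, σ b = b)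
    (u s : A) (hs : s ∈ B) (hu : σ u = u + s) (q : Polynomial B) (hq : q.natDegree < p) :
    Tr p σ (aeval u q) ∈ B := by
  rw [Polynomial.aeval_eq_sum_range' hq, Tr_sum]
  refine Subalgebra.sum_mem _ fun e he => ?_
  rw [Finset.mem_range] at he
  rw [Subalgebra.smul_def, smul_eq_mul, Tr_mul_fixed p σ _ _ (hσB _ (q.coeff e).2),
    Tr_pow p σ u s (hσB s hs) hu e (by omega)]
  refine Subalgebra.mul_mem _ (q.coeff e).2 ?_
  split_ifs
  · exact Subalgebra.neg_mem _ (Subalgebra.pow_mem _ hs _)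
  · exact Subalgebra.zero_mem _

/-- the key generic statement -/
theorem fixed_mem (B : Subalgebra R A) (σ : A ≃ₐ[R] A) (hσB : ∀ b ∈ B, σ b = b)
    (u s x : A) (hs : s ∈ B) (hx : x ∈ B) (hrel : u ^ p = s ^ (p - 1) * u + x)
    (hu : σ u = u + s)
    (hgen : ∀ t : A, ∃ (N : ℕ) (q : Polynomial B), s ^ N * t = aeval u q)
    (t : A) (ht : σ t = t) : ∃ N : ℕ, s ^ N * t ∈ B := by
  have hp1 : 1 < p := hp.out.one_lt
  rcases subsingleton_or_nontrivial A with hsub | hntA
  · exact ⟨0, by rw [Subsingleton.elim (s ^ 0 * t) 0]; exact Subalgebra.zero_mem _⟩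
  haveI hnt : Nontrivial B := ⟨⟨0, 1, fun h => zero_ne_one (congrArg Subtype.val h)⟩⟩
  obtain ⟨N, q, hq⟩ := hgen (t * u ^ (p - 1))
  -- the monic relation
  let f : Polynomial B := X ^ p - (C (⟨s, hs⟩ ^ (p - 1) : B) * X + C (⟨x, hx⟩ : B))
  have hdeg : (C (⟨s, hs⟩ ^ (p - 1) : B) * X + C (⟨x, hx⟩ : B) : Polynomial B).degree < (p : WithBot ℕ) := by
    refine lt_of_le_of_lt (Polynomial.degree_add_le _ _) ?_
    rw [max_lt_iff]
    constructor
    · refine lt_of_le_of_lt (Polynomial.degree_C_mul_X_le _) ?_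
      exact_mod_cast hp1
    · refine lt_of_le_of_lt Polynomial.degree_C_le ?_
      exact_mod_cast (by omega : 0 < p)
  have hfm : f.Monic := Polynomial.monic_X_pow_sub hdeg
  have hfu : aeval u f = 0 := by
    simp only [f, map_sub, map_add, map_mul, map_pow, aeval_X, aeval_C]
    rw [hrel]
    have e1 : algebraMap B A (⟨s, hs⟩ : B) = s := rfl
    have e2 : algebraMap B A (⟨x, hx⟩ : B) = x := rfl
    rw [e1, e2]
    ring
  have hfdeg : f.natDegree = p := by
    have h1 : f.degree = p := by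
      have h2 : (C (⟨s, hs⟩ ^ (p - 1) : B) * X + C (⟨x, hx⟩ : B) : Polynomial B).degree <
          (X ^ p : Polynomial B).degree := by
        rw [Polynomial.degree_X_pow]; exact hdeg
      show (X ^ p - (C ((⟨s, hs⟩ : B) ^ (p - 1)) * X + C (⟨x, hx⟩ : B)) : Polynomial B).degree = p
      rw [Polynomial.degree_sub_eq_left_of_degree_lt h2, Polynomial.degree_X_pow]
    exact Polynomial.natDegree_eq_of_degree_eq_some h1
  have hq' : aeval u q = aeval u (q %ₘ f) := by
    conv_lhs => rw [← Polynomial.modByMonic_add_div q f]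
    rw [map_add, map_mul, hfu, zero_mul, add_zero]
  have hdegr : (q %ₘ f).natDegree < p := by
    rw [← hfdeg]
    exact Polynomial.natDegree_modByMonic_lt q hfm (by
      intro h1
      rw [h1, natDegree_one] at hfdeg
      omega)
  have hTr := Tr_aeval_mem p B σ hσB u s hs hu (q %ₘ f) hdegr
  rw [← hq', ← hq] at hTr
  -- compute the trace of the left side
  have hsN : σ (s ^ N * t) = s ^ N * t := by rw [map_mul, map_pow, hσB s hs, ht]
  have h3 : s ^ N * (t * u ^ (p - 1)) = (s ^ N * t) * u ^ (p - 1) := by ring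
  rw [h3, Tr_mul_fixed p σ _ _ hsN, Tr_pow p σ u s (hσB s hs) hu (p - 1) le_rfl, if_pos rfl] at hTr
  refine ⟨N + (p - 1), ?_⟩
  have h4 : s ^ (N + (p - 1)) * t = -(s ^ N * t * -s ^ (p - 1)) := by
    rw [pow_add]; ring
  rw [h4]
  exact Subalgebra.neg_mem _ hTr

theorem aeval_lin (B : Subalgebra R A) (v : A) (b1 b2 : B) :
    aeval v (C b1 + C b2 * X : Polynomial B) = (b1 : A) + (b2 : A) * v := by
  rw [map_add, map_mul, aeval_C, aeval_C, aeval_X]
  rfl

theorem aeval_comb (B : Subalgebra R A) (v : A) (b1 b2 : B) (q1 q2 : Polynomial B) :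
    aeval v (C b1 * q1 + C b2 * q2 : Polynomial B) =
      (b1 : A) * aeval v q1 + (b2 : A) * aeval v q2 := by
  rw [map_add, map_mul, map_mul, aeval_C, aeval_C]
  rfl

theorem main_generic {n : ℕ} (u : Fin n → A) (hadj : Algebra.adjoin R (Set.range u) = ⊤)
    (a : Fin n → R) (μ : R) (x : R) (i₀ : Fin n)
    (hrel : u i₀ ^ p = algebraMap R A ((μ * a i₀) ^ (p - 1)) * u i₀ + algebraMap R A x)
    (σ : A ≃ₐ[R] A) (hσ : ∀ i, σ (u i) = u i + algebraMap R A (μ * a i))
    (t : A) (ht : σ t = t) :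
    ∃ N : ℕ, algebraMap R A (μ * a i₀) ^ N * t ∈
      Algebra.adjoin R (Set.range fun j : {j : Fin n // j ≠ i₀} =>
        algebraMap R A (a i₀) * u j.1 - algebraMap R A (a j.1) * u i₀) := by
  set z : {j : Fin n // j ≠ i₀} → A := fun j =>
    algebraMap R A (a i₀) * u j.1 - algebraMap R A (a j.1) * u i₀ with hz
  set B : Subalgebra R A := Algebra.adjoin R (Set.range z) with hB
  have hzB : ∀ j, z j ∈ B := fun j => Algebra.subset_adjoin ⟨j, rfl⟩
  have hRB : ∀ r : R, algebraMap R A r ∈ B := fun r => Subalgebra.algebraMap_mem B r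
  have hσB : ∀ b ∈ B, σ b = b := by
    intro b hb
    induction hb using Algebra.adjoin_induction with
    | mem y hy =>
      obtain ⟨j, rfl⟩ := hy
      simp only [hz, map_sub, map_mul, AlgEquiv.commutes, hσ, map_mul]
      ring
    | algebraMap r => exact σ.commutes r
    | add y y' _ _ h h' => rw [map_add, h, h']
    | mul y y' _ _ h h' => rw [map_mul, h, h']
  have hrel' : u i₀ ^ p = algebraMap R A (μ * a i₀) ^ (p - 1) * u i₀ + algebraMap R A x := by
    rw [hrel, map_pow]
  have hsB : algebraMap R A (μ * a i₀) ∈ B := hRB _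
  have hμs : algebraMap R A μ * algebraMap R A (a i₀) = algebraMap R A (μ * a i₀) := by
    rw [map_mul]
  generalize algebraMap R A (μ * a i₀) = s at hsB hμs hrel' ⊢
  have hgen : ∀ t : A, ∃ (N : ℕ) (q : Polynomial B), s ^ N * t = aeval (u i₀) q := by
    intro t
    have ht : t ∈ Algebra.adjoin R (Set.range u) := by rw [hadj]; trivial
    induction ht using Algebra.adjoin_induction with
    | mem y hy =>
      obtain ⟨i, rfl⟩ := hy
      by_cases hi : i = i₀
      · subst hi
        exact ⟨0, X, by rw [pow_zero, one_mul, aeval_X]⟩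
      · refine ⟨1, C (⟨algebraMap R A μ * z ⟨i, hi⟩, Subalgebra.mul_mem _ (hRB μ) (hzB _)⟩ : B) +
          C (⟨algebraMap R A (μ * a i), hRB _⟩ : B) * X, ?_⟩
        rw [aeval_lin, pow_one, ← hμs]
        show _ = algebraMap R A μ * z ⟨i, hi⟩ + algebraMap R A (μ * a i) * u i₀
        simp only [hz, map_mul]
        ring
    | algebraMap r =>
      exact ⟨0, C (algebraMap R B r), by rw [pow_zero, one_mul, aeval_C]; rfl⟩
    | add y y' _ _ h h' =>
      obtain ⟨N1, q1, h1⟩ := h
      obtain ⟨N2, q2, h2⟩ := h'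
      refine ⟨N1 + N2, C ((⟨s, hsB⟩ : B) ^ N2) * q1 + C ((⟨s, hsB⟩ : B) ^ N1) * q2, ?_⟩
      rw [aeval_comb, ← h1, ← h2, Subalgebra.coe_pow, Subalgebra.coe_pow, pow_add]
      show _ = s ^ N2 * _ + s ^ N1 * _
      ring
    | mul y y' _ _ h h' =>
      obtain ⟨N1, q1, h1⟩ := h
      obtain ⟨N2, q2, h2⟩ := h'
      refine ⟨N1 + N2, q1 * q2, ?_⟩
      rw [map_mul, ← h1, ← h2, pow_add]
      ring
  have hσs : σ (u i₀) = u i₀ + s := by rw [hσ i₀, ← hμs, map_mul]
  exact fixed_mem p B σ hσB (u i₀) s (algebraMap R A x) hsB (hRB _) hrel' hσs hgen t ht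

end Main

end Groth.Agent.Lib.Helper26.ASMinorB
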