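import Mathlib
import Groth.Agent.Lib.Helper26.ASFamA
import Groth.Agent.Lib.Helper26.ASFamB
import Groth.Agent.Lib.Helper26.ASMinorB

set_option autoImplicit false
set_option linter.style.haveILetI false
universe u

namespace Groth.Agent.Lib.Helper26.ASMinorC

open MvPolynomial Groth.Agent.Lib.Helper26.ASFamA Groth.Agent.Lib.Helper26.ASFamB
  Groth.Agent.Lib.Helper26.ASMinorB

variable (p : ℕ) [hp : Fact p.Prime] (k : Type u) [Field k] [CharP k p] (n : ℕ)
  (a : Fin n → MvPowerSeries (Fin n) k) (μ : MvPowerSeries (Fin n) k)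

theorem charP_AA (b : Fin n → MvPowerSeries (Fin n) k) : CharP (AA p k n b) p := by
  haveI hcharR : CharP (MvPowerSeries (Fin n) k) p :=
    charP_of_injective_ringHom (MvPowerSeries.C_injective (σ := Fin n) (R := k)) p
  exact charP_of_injective_algebraMap (algebraMap_injective p k n b) p

theorem main_19997 (i₀ : Fin n)
    (σ : AA p k n (fun i => μ * a i) ≃ₐ[MvPowerSeries (Fin n) k] AA p k n (fun i => μ * a i))
    (hσ : ∀ i, σ (uu p k n (fun i => μ * a i) i) = uu p k n (fun i => μ * a i) i +
      algebraMap (MvPowerSeries (Fin n) k) (AA p k n (fun i => μ * a i)) (μ * a i))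
    (t : AA p k n (fun i => μ * a i)) (ht : σ t = t) :
    ∃ N : ℕ, algebraMap (MvPowerSeries (Fin n) k) (AA p k n (fun i => μ * a i)) (μ * a i₀) ^ N * t ∈
      Algebra.adjoin (MvPowerSeries (Fin n) k) (Set.range fun j : {j : Fin n // j ≠ i₀} =>
        algebraMap (MvPowerSeries (Fin n) k) (AA p k n (fun i => μ * a i)) (a i₀) *
            uu p k n (fun i => μ * a i) j.1 -
          algebraMap (MvPowerSeries (Fin n) k) (AA p k n (fun i => μ * a i)) (a j.1) *
            uu p k n (fun i => μ * a i) i₀) := by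
  haveI := charP_AA p k n (fun i => μ * a i)
  exact main_generic (R := MvPowerSeries (Fin n) k) (A := AA p k n (fun i => μ * a i)) p
    (uu p k n (fun i => μ * a i)) (adjoin_uu p k n (fun i => μ * a i)) a μ (MvPowerSeries.X i₀) i₀
    (uu_rel p k n (fun i => μ * a i) i₀) σ hσ t ht

end Groth.Agent.Lib.Helper26.ASMinorC
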