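import Mathlib

set_option autoImplicit false
set_option linter.style.haveILetI false
universe u

namespace Groth.Agent.Lib.Helper26.ASMinorD

open Polynomial

/-- a linear map between free modules of the same finite rank over a domain whose image contains
a nonzero multiple of everything is injective -/
theorem injective_of_smul_mem_range {R M N : Type*} [CommRing R] [IsDomain R]
    [AddCommGroup M] [Module R M] [AddCommGroup N] [Module R N] {m : ℕ}
    (bM : Module.Basis (Fin m) R M) (bN : Module.Basis (Fin m) R N) (Θ : M →ₗ[R] N)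
    (c : R) (hc : c ≠ 0) (h : ∀ y, ∃ (e : ℕ) (x : M), Θ x = c ^ e • y) : Function.Injective Θ := by
  classical
  choose e g hg using fun i => h (bN i)
  let E : ℕ := ∑ i, e i
  have hle : ∀ i, e i ≤ E := fun i => Finset.single_le_sum (fun _ _ => Nat.zero_le _) (Finset.mem_univ i)
  let Λ : N →ₗ[R] M := bN.constr R (fun i => c ^ (E - e i) • g i)
  have hΘΛ : Θ ∘ₗ Λ = (c ^ E) • LinearMap.id := by
    apply bN.ext
    intro i
    rw [LinearMap.comp_apply, Module.Basis.constr_basis, map_smul, hg, smul_smul, ← pow_add,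
      Nat.sub_add_cancel (hle i)]
    rfl
  have hdet : (LinearMap.toMatrix bM bN Θ).det * (LinearMap.toMatrix bN bM Λ).det = (c ^ E) ^ m := by
    rw [← Matrix.det_mul, ← LinearMap.toMatrix_comp bN bM bN, hΘΛ, map_smul, LinearMap.toMatrix_id,
      Matrix.det_smul, Matrix.det_one, Fintype.card_fin, mul_one]
  have hne : (LinearMap.toMatrix bM bN Θ).det ≠ 0 := by
    intro h0
    rw [h0, zero_mul] at hdet
    exact pow_ne_zero m (pow_ne_zero E hc) hdet.symm
  rw [injective_iff_map_eq_zero]
  intro x hx
  have h1 := LinearMap.toMatrix_mulVec_repr bM bN Θ x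
  rw [hx, map_zero] at h1
  have h0 := Matrix.eq_zero_of_mulVec_eq_zero hne h1
  have h2 : bM.repr x = 0 := by
    ext i
    exact congrFun h0 i
  exact (LinearEquiv.map_eq_zero_iff _).mp h2

/-- `of` is injective for a monic polynomial of positive degree -/
theorem of_injective {B : Type*} [CommRing B] (f : Polynomial B) (hf : f.Monic)
    (hdeg : 0 < f.natDegree) : Function.Injective (AdjoinRoot.of f) := by
  rw [injective_iff_map_eq_zero]
  intro b hb
  rw [← AdjoinRoot.mk_C b, AdjoinRoot.mk_eq_zero] at hb
  by_contra hne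
  have hC : (C b : Polynomial B) ≠ 0 := by rwa [Ne, C_eq_zero]
  haveI : Nontrivial B := ⟨⟨b, 0, hne⟩⟩
  refine hf.not_dvd_of_degree_lt hC ?_ hb
  refine lt_of_le_of_lt degree_C_le ?_
  rw [degree_eq_natDegree hf.ne_zero]
  exact_mod_cast hdeg

end Groth.Agent.Lib.Helper26.ASMinorD
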