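import Mathlib
import Groth.Agent.Lib.Helper26.ASMinorD

set_option autoImplicit false
set_option linter.style.haveILetI false
universe u

namespace Groth.Agent.Lib.Helper26.ASMinorE

open Polynomial Groth.Agent.Lib.Helper26.ASMinorD

/-- factor an algebra map through a surjection -/
theorem exists_factor {R P B A : Type*} [CommRing R] [CommRing P] [CommRing B] [CommRing A]
    [Algebra R P] [Algebra R B] [Algebra R A] (π : P →ₐ[R] B) (hπ : Function.Surjective π)
    (φ : P →ₐ[R] A) (h : RingHom.ker π ≤ RingHom.ker φ) :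
    ∃ ψ : B →ₐ[R] A, ∀ q, ψ (π q) = φ q := by
  let e : (P ⧸ RingHom.ker π) ≃ₐ[R] B := Ideal.quotientKerAlgEquivOfSurjective hπ
  let ψ0 : (P ⧸ RingHom.ker π) →ₐ[R] A :=
    Ideal.Quotient.liftₐ (RingHom.ker π) φ (fun q hq => RingHom.mem_ker.mp (h hq))
  refine ⟨ψ0.comp e.symm.toAlgHom, ?_⟩
  intro q
  have h1 : e.symm (π q) = Ideal.Quotient.mk _ q := by
    rw [AlgEquiv.symm_apply_eq]
    rfl
  rw [AlgHom.comp_apply]
  change ψ0 (e.symm (π q)) = φ q
  rw [h1]
  rfl

section Main

variable {R A : Type u} [CommRing R] [IsDomain R] [CommRing A] [Algebra R A]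
  (p : ℕ) [hp : Fact p.Prime] [CharP A p] {n : ℕ}
  (u : Fin n → A) (hadj : Algebra.adjoin R (Set.range u) = ⊤)
  (a : Fin n → R) (μ : R) (x : Fin n → R)
  (hrel : ∀ i, u i ^ p = algebraMap R A ((μ * a i) ^ (p - 1)) * u i + algebraMap R A (x i))
  (i₀ : Fin n)

/-- the minor elements -/
def zz (j : {j : Fin n // j ≠ i₀}) : A :=
  algebraMap R A (a i₀) * u j.1 - algebraMap R A (a j.1) * u i₀

/-- the relations -/
noncomputable def rr (j : {j : Fin n // j ≠ i₀}) : MvPolynomial {j : Fin n // j ≠ i₀} R :=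
  MvPolynomial.X j ^ p - MvPolynomial.C ((μ * a i₀ * a j.1) ^ (p - 1)) * MvPolynomial.X j
    - MvPolynomial.C (a i₀ ^ p * x j.1 - a j.1 ^ p * x i₀)

include hrel in
theorem aeval_rr (j : {j : Fin n // j ≠ i₀}) :
    MvPolynomial.aeval (zz u a i₀) (rr p a μ x i₀ j) = 0 := by
  have hpow : ∀ (c : R), algebraMap R A (c ^ p) = algebraMap R A (c ^ (p - 1)) * algebraMap R A c := by
    intro c
    rw [← map_mul, ← pow_succ, Nat.sub_add_cancel hp.out.one_le]
  simp only [rr, map_sub, map_mul, map_pow, MvPolynomial.aeval_X, MvPolynomial.aeval_C]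
  unfold zz
  rw [(sub_pow_char (algebraMap R A (a i₀) * u j.1) (algebraMap R A (a j.1) * u i₀) : _ ^ p = _)]
  rw [mul_pow, mul_pow, hrel j.1, hrel i₀]
  simp only [map_sub, map_mul, map_pow]
  have h1 := hpow (a i₀)
  have h2 := hpow (a j.1)
  simp only [map_pow] at h1 h2
  rw [h1, h2]
  ring

end Main

section Main2

variable {R A : Type u} [CommRing R] [IsDomain R] [CommRing A] [Algebra R A]
  (p : ℕ) [hp : Fact p.Prime] [CharP A p] {n : ℕ}
  (u : Fin n → A) (hadj : Algebra.adjoin R (Set.range u) = ⊤)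
  (a : Fin n → R) (μ : R) (x : Fin n → R)
  (hrel : ∀ i, u i ^ p = algebraMap R A ((μ * a i) ^ (p - 1)) * u i + algebraMap R A (x i))
  (i₀ : Fin n) (ha0 : a i₀ ≠ 0)
  [Module.Free R A] (hArank : Module.finrank R A = p ^ n)
  (B : Type u) [CommRing B] [Algebra R B] [Module.Free R B] [Module.Finite R B]
  (hBrank : Module.finrank R B = p ^ (n - 1))
  (π : MvPolynomial {j : Fin n // j ≠ i₀} R →ₐ[R] B) (hπ : Function.Surjective π)
  (hkerπ : RingHom.ker π = Ideal.span (Set.range (rr p a μ x i₀)))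

include hrel hkerπ in
theorem ker_le : RingHom.ker π ≤ RingHom.ker
    (MvPolynomial.aeval (zz u a i₀) : MvPolynomial {j : Fin n // j ≠ i₀} R →ₐ[R] A) := by
  rw [hkerπ, Ideal.span_le]
  rintro _ ⟨j, rfl⟩
  rw [SetLike.mem_coe, RingHom.mem_ker]
  exact aeval_rr p u a μ x hrel i₀ j

include hadj hrel ha0 hArank hBrank hπ hkerπ in
/-- the induced map `B → A` is injective -/
theorem exists_injective :
    ∃ ψ : B →ₐ[R] A, (∀ q, ψ (π q) = MvPolynomial.aeval (zz u a i₀) q) ∧ Function.Injective ψ := by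
  classical
  have hp1 : 1 < p := hp.out.one_lt
  have hn : n ≠ 0 := fun h => (h ▸ i₀).elim0
  obtain ⟨ψ, hψ⟩ := exists_factor π hπ (MvPolynomial.aeval (zz u a i₀))
    (ker_le p u a μ x hrel i₀ B π hkerπ)
  refine ⟨ψ, hψ, ?_⟩
  rcases subsingleton_or_nontrivial B with hsub | hntB
  · exact Function.injective_of_subsingleton _
  -- the polynomial of `u i₀` over `B`
  let f : Polynomial B := X ^ p - (C (algebraMap R B ((μ * a i₀) ^ (p - 1))) * X +
    C (algebraMap R B (x i₀)))
  have hdeg : (C (algebraMap R B ((μ * a i₀) ^ (p - 1))) * X +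
      C (algebraMap R B (x i₀)) : Polynomial B).degree < (p : WithBot ℕ) := by
    refine lt_of_le_of_lt (Polynomial.degree_add_le _ _) ?_
    rw [max_lt_iff]
    constructor
    · refine lt_of_le_of_lt (Polynomial.degree_C_mul_X_le _) ?_
      exact_mod_cast hp1
    · refine lt_of_le_of_lt Polynomial.degree_C_le ?_
      exact_mod_cast (by omega : 0 < p)
  have hfm : f.Monic := Polynomial.monic_X_pow_sub hdeg
  have hfdeg : f.natDegree = p := by
    have h1 : f.degree = p := by
      have h2 : (C (algebraMap R B ((μ * a i₀) ^ (p - 1))) * X +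
          C (algebraMap R B (x i₀)) : Polynomial B).degree < (X ^ p : Polynomial B).degree := by
        rw [Polynomial.degree_X_pow]; exact hdeg
      show (X ^ p - (C (algebraMap R B ((μ * a i₀) ^ (p - 1))) * X +
        C (algebraMap R B (x i₀))) : Polynomial B).degree = p
      rw [Polynomial.degree_sub_eq_left_of_degree_lt h2, Polynomial.degree_X_pow]
    exact Polynomial.natDegree_eq_of_degree_eq_some h1
  have hfu : f.eval₂ (ψ : B →+* A) (u i₀) = 0 := by
    simp only [f, eval₂_sub, eval₂_add, eval₂_mul, eval₂_pow, eval₂_X, eval₂_C]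
    have e1 : ∀ r : R, (ψ : B →+* A) (algebraMap R B r) = algebraMap R A r := fun r => ψ.commutes r
    rw [e1, e1, hrel i₀]
    ring
  let Θ : AdjoinRoot f →ₐ[R] A := AdjoinRoot.liftAlgHom f ψ (u i₀) hfu
  have hΘof : ∀ b : B, Θ (AdjoinRoot.of f b) = ψ b := fun b => AdjoinRoot.liftAlgHom_of f ψ (u i₀) hfu b
  have hΘroot : Θ (AdjoinRoot.root f) = u i₀ := AdjoinRoot.liftAlgHom_root f ψ (u i₀) hfu
  -- almost surjectivity
  have hgen : ∀ y : A, ∃ (e : ℕ) (w : AdjoinRoot f), Θ w = (a i₀) ^ e • y := by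
    intro y
    have hy : y ∈ Algebra.adjoin R (Set.range u) := by rw [hadj]; trivial
    induction hy using Algebra.adjoin_induction with
    | mem y hy =>
      obtain ⟨i, rfl⟩ := hy
      by_cases hi : i = i₀
      · subst hi
        exact ⟨0, AdjoinRoot.root f, by rw [hΘroot, pow_zero, one_smul]⟩
      · refine ⟨1, AdjoinRoot.of f (π (MvPolynomial.X ⟨i, hi⟩)) +
          AdjoinRoot.of f (algebraMap R B (a i)) * AdjoinRoot.root f, ?_⟩
        rw [map_add, map_mul, hΘof, hΘof, hΘroot, hψ, MvPolynomial.aeval_X, pow_one, ψ.commutes,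
          Algebra.smul_def]
        unfold zz
        ring
    | algebraMap r =>
      exact ⟨0, algebraMap R _ r, by rw [Θ.commutes, pow_zero, one_smul]⟩
    | add y y' _ _ h h' =>
      obtain ⟨e1, w1, h1⟩ := h
      obtain ⟨e2, w2, h2⟩ := h'
      refine ⟨e1 + e2, (a i₀) ^ e2 • w1 + (a i₀) ^ e1 • w2, ?_⟩
      rw [map_add, map_smul, map_smul, h1, h2, smul_smul, smul_smul, ← pow_add, ← pow_add,
        smul_add, add_comm e2 e1]
    | mul y y' _ _ h h' =>
      obtain ⟨e1, w1, h1⟩ := h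
      obtain ⟨e2, w2, h2⟩ := h'
      refine ⟨e1 + e2, w1 * w2, ?_⟩
      rw [map_mul, h1, h2, smul_mul_smul_comm, ← pow_add]
  -- ranks
  haveI : Module.Free B (AdjoinRoot f) := hfm.free_adjoinRoot
  haveI : Module.Finite B (AdjoinRoot f) := hfm.finite_adjoinRoot
  have hrank1 : Module.finrank B (AdjoinRoot f) = p := by
    rw [(AdjoinRoot.powerBasis' hfm).finrank, AdjoinRoot.powerBasis'_dim, hfdeg]
  haveI : Module.Free R (AdjoinRoot f) := Module.Free.trans (R := R) (S := B) (M := AdjoinRoot f)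
  have hrankC : Module.finrank R (AdjoinRoot f) = p ^ n := by
    rw [← Module.finrank_mul_finrank R B (AdjoinRoot f), hBrank, hrank1, ← pow_succ,
      Nat.sub_add_cancel (Nat.one_le_iff_ne_zero.mpr hn)]
  haveI : Module.Finite R (AdjoinRoot f) := Module.Finite.trans B (AdjoinRoot f)
  haveI : Module.Finite R A := Module.finite_of_finrank_pos (by rw [hArank]; exact pow_pos hp.out.pos n)
  let bM := Module.finBasisOfFinrankEq R (AdjoinRoot f) hrankC
  let bN := Module.finBasisOfFinrankEq R A hArank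
  have hΘinj : Function.Injective Θ.toLinearMap :=
    injective_of_smul_mem_range bM bN Θ.toLinearMap (a i₀) ha0 hgen
  have hof := of_injective f hfm (by rw [hfdeg]; exact hp.out.pos)
  intro b b' hbb
  apply hof
  apply hΘinj
  show Θ (AdjoinRoot.of f b) = Θ (AdjoinRoot.of f b')
  rw [hΘof, hΘof, hbb]

include hadj hrel ha0 hArank hBrank hπ hkerπ in
theorem ker_aeval_eq :
    RingHom.ker (MvPolynomial.aeval (zz u a i₀) : MvPolynomial {j : Fin n // j ≠ i₀} R →ₐ[R] A) =
      Ideal.span (Set.range (rr p a μ x i₀)) := by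
  obtain ⟨ψ, hψ, hinj⟩ := exists_injective p u hadj a μ x hrel i₀ ha0 hArank B hBrank π hπ hkerπ
  apply le_antisymm
  · intro q hq
    rw [RingHom.mem_ker, ← hψ] at hq
    have h1 : π q = 0 := hinj (by rw [hq, map_zero])
    rw [← hkerπ, RingHom.mem_ker]
    exact h1
  · rw [← hkerπ]
    exact ker_le p u a μ x hrel i₀ B π hkerπ

end Main2

end Groth.Agent.Lib.Helper26.ASMinorE
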