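import Mathlib
import Groth.Agent.Lib.Helper26.MonicQuot

set_option autoImplicit false
set_option linter.style.haveILetI false
universe u

namespace Groth.Agent.Lib.Helper26.MonicQuotB

open MvPolynomial Groth.Agent.Lib.Helper26.MonicQuot

variable {R : Type u} [CommRing R]

/-- the ideal generated by the `P i (X i)`, for a general index type -/
noncomputable def relJ {ι : Type*} (P : ι → Polynomial R) : Ideal (MvPolynomial ι R) :=
  Ideal.span (Set.range fun i => Polynomial.aeval (X i : MvPolynomial ι R) (P i))

theorem free_finrank_fintype [Nontrivial R] {ι : Type*} [Fintype ι] (P : ι → Polynomial R)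
    (hmon : ∀ i, (P i).Monic) (hdeg : ∀ i, 0 < (P i).natDegree) :
    Module.Free R (MvPolynomial ι R ⧸ relJ P) ∧
      Module.finrank R (MvPolynomial ι R ⧸ relJ P) = ∏ i, (P i).natDegree := by
  classical
  let m := Fintype.card ι
  let e : ι ≃ Fin m := Fintype.equivFin ι
  let F : MvPolynomial ι R ≃ₐ[R] MvPolynomial (Fin m) R := MvPolynomial.renameEquiv R e
  have hmap : relI m (fun j => P (e.symm j)) = (relJ P).map (F : MvPolynomial ι R →+* MvPolynomial (Fin m) R) := by
    unfold relI relJ
    rw [Ideal.map_span, ← Set.range_comp]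
    congr 1
    have h1 : ((F : MvPolynomial ι R →+* MvPolynomial (Fin m) R) ∘
        fun i => Polynomial.aeval (X i : MvPolynomial ι R) (P i)) =
        (fun j => Polynomial.aeval (X j : MvPolynomial (Fin m) R) (P (e.symm j))) ∘ e := by
      funext i
      simp only [Function.comp_apply, Equiv.symm_apply_apply]
      show F (Polynomial.aeval (X i) (P i)) = _
      have h2 := Polynomial.aeval_algHom_apply (F : MvPolynomial ι R →ₐ[R] MvPolynomial (Fin m) R)
        (X i) (P i)
      have h3 : (F : MvPolynomial ι R →ₐ[R] MvPolynomial (Fin m) R) (X i) = X (e i) :=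
        MvPolynomial.rename_X e i
      rw [h3] at h2
      exact h2.symm
    rw [h1, e.surjective.range_comp]
  let G : (MvPolynomial ι R ⧸ relJ P) ≃ₐ[R] Q m (fun j => P (e.symm j)) :=
    Ideal.quotientEquivAlg (relJ P) (relI m (fun j => P (e.symm j))) F hmap
  obtain ⟨h1, h2⟩ := free_finrank m (fun j => P (e.symm j)) (fun j => hmon _) (fun j => hdeg _)
  refine ⟨Module.Free.of_equiv G.symm.toLinearEquiv, ?_⟩
  rw [G.toLinearEquiv.finrank_eq, h2]
  exact (Fintype.prod_equiv e (fun i => (P i).natDegree) (fun j => (P (e.symm j)).natDegree)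
    (fun i => by rw [Equiv.symm_apply_apply])).symm

end Groth.Agent.Lib.Helper26.MonicQuotB
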