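import Mathlib
import Groth.Agent.Lib.Helper26.ASFamA
import Groth.Agent.Lib.Helper26.ASFamB
import Groth.Agent.Lib.Helper26.ASFamC
import Groth.Agent.Lib.Helper26.ASMinorC
import Groth.Agent.Lib.Helper26.ASMinorE
import Groth.Agent.Lib.Helper26.MonicQuotB

set_option autoImplicit false
set_option linter.style.haveILetI false
universe u

namespace Groth.Agent.Lib.Helper26.ASMinorG

open MvPolynomial Groth.Agent.Lib.Helper26.ASFamA Groth.Agent.Lib.Helper26.ASFamB
  Groth.Agent.Lib.Helper26.ASFamC Groth.Agent.Lib.Helper26.ASMinorE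
  Groth.Agent.Lib.Helper26.MonicQuotB Groth.Agent.Lib.Helper26.ASMinorC

variable (p : ℕ) [hp : Fact p.Prime] (k : Type u) [Field k] (n : ℕ)
  (a : Fin n → MvPowerSeries (Fin n) k) (μ : MvPowerSeries (Fin n) k) (i₀ : Fin n)

omit hp in
theorem a_ne_zero (hn : 2 ≤ n) (ham : ∀ i, MvPowerSeries.constantCoeff (a i) = 0)
    (hcop : ∀ i j, i ≠ j → IsRelPrime (a i) (a j)) : a i₀ ≠ 0 := by
  intro h0
  haveI : Nontrivial (Fin n) := Fin.nontrivial_iff_two_le.mpr hn
  obtain ⟨j, hj⟩ := exists_ne i₀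
  have h1 := hcop i₀ j hj.symm
  rw [h0, isRelPrime_zero_left] at h1
  have h2 := MvPowerSeries.isUnit_iff_constantCoeff.mp h1
  rw [ham j] at h2
  exact not_isUnit_zero h2

/-- the univariate relations of the minor elements -/
noncomputable def PM (j : {j : Fin n // j ≠ i₀}) : Polynomial (MvPowerSeries (Fin n) k) :=
  Polynomial.X ^ p - (Polynomial.C ((μ * a i₀ * a j.1) ^ (p - 1)) * Polynomial.X +
    Polynomial.C (a i₀ ^ p * MvPowerSeries.X j.1 - a j.1 ^ p * MvPowerSeries.X i₀))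

theorem PM_degree_lt (j : {j : Fin n // j ≠ i₀}) :
    (Polynomial.C ((μ * a i₀ * a j.1) ^ (p - 1)) * Polynomial.X +
      Polynomial.C (a i₀ ^ p * MvPowerSeries.X j.1 - a j.1 ^ p * MvPowerSeries.X i₀) :
        Polynomial (MvPowerSeries (Fin n) k)).degree < (p : WithBot ℕ) := by
  have hp1 : 1 < p := hp.out.one_lt
  refine lt_of_le_of_lt (Polynomial.degree_add_le _ _) ?_
  rw [max_lt_iff]
  constructor
  · refine lt_of_le_of_lt (Polynomial.degree_C_mul_X_le _) ?_
    exact_mod_cast hp1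
  · refine lt_of_le_of_lt Polynomial.degree_C_le ?_
    exact_mod_cast (by omega : 0 < p)

theorem PM_monic (j : {j : Fin n // j ≠ i₀}) : (PM p k n a μ i₀ j).Monic :=
  Polynomial.monic_X_pow_sub (PM_degree_lt p k n a μ i₀ j)

theorem PM_natDegree (j : {j : Fin n // j ≠ i₀}) : (PM p k n a μ i₀ j).natDegree = p := by
  have h1 : (PM p k n a μ i₀ j).degree = p := by
    unfold PM
    have h2 : (Polynomial.C ((μ * a i₀ * a j.1) ^ (p - 1)) * Polynomial.X +
      Polynomial.C (a i₀ ^ p * MvPowerSeries.X j.1 - a j.1 ^ p * MvPowerSeries.X i₀) :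
        Polynomial (MvPowerSeries (Fin n) k)).degree <
        (Polynomial.X ^ p : Polynomial (MvPowerSeries (Fin n) k)).degree := by
      rw [Polynomial.degree_X_pow]
      exact PM_degree_lt p k n a μ i₀ j
    rw [Polynomial.degree_sub_eq_left_of_degree_lt h2, Polynomial.degree_X_pow]
  exact Polynomial.natDegree_eq_of_degree_eq_some h1

omit hp in
theorem relJ_eq : relJ (PM p k n a μ i₀) =
    Ideal.span (Set.range (rr p a μ MvPowerSeries.X i₀)) := by
  unfold relJ
  congr 1
  ext q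
  constructor
  · rintro ⟨j, rfl⟩
    refine ⟨j, ?_⟩
    simp only [rr, PM, map_sub, map_add, map_mul, map_pow, Polynomial.aeval_C, Polynomial.aeval_X]
    rw [MvPolynomial.algebraMap_eq]
    ring
  · rintro ⟨j, rfl⟩
    refine ⟨j, ?_⟩
    simp only [rr, PM, map_sub, map_add, map_mul, map_pow, Polynomial.aeval_C, Polynomial.aeval_X]
    rw [MvPolynomial.algebraMap_eq]
    ring

/-- the complete intersection ring of the minor elements -/
abbrev BB : Type u := MvPolynomial {j : Fin n // j ≠ i₀} (MvPowerSeries (Fin n) k) ⧸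
  Ideal.span (Set.range (rr p a μ MvPowerSeries.X i₀))

theorem free_finrank_BB : Module.Free (MvPowerSeries (Fin n) k) (BB p k n a μ i₀) ∧
    Module.finrank (MvPowerSeries (Fin n) k) (BB p k n a μ i₀) = p ^ (n - 1) := by
  obtain ⟨h1, h2⟩ := free_finrank_fintype (PM p k n a μ i₀) (PM_monic p k n a μ i₀)
    (fun j => by rw [PM_natDegree]; exact hp.out.pos)
  let e : (MvPolynomial {j : Fin n // j ≠ i₀} (MvPowerSeries (Fin n) k) ⧸ relJ (PM p k n a μ i₀))
      ≃ₐ[MvPowerSeries (Fin n) k] BB p k n a μ i₀ :=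
    Ideal.quotientEquivAlgOfEq _ (relJ_eq p k n a μ i₀)
  refine ⟨Module.Free.of_equiv e.toLinearEquiv, ?_⟩
  rw [← e.toLinearEquiv.finrank_eq, h2]
  simp only [PM_natDegree, Finset.prod_const, Finset.card_univ]
  congr 1
  rw [Fintype.card_subtype_compl, Fintype.card_fin, Fintype.card_subtype_eq]

variable [CharP k p]

theorem exists_injective_BB (hn : 2 ≤ n) (ham : ∀ i, MvPowerSeries.constantCoeff (a i) = 0)
    (hcop : ∀ i j, i ≠ j → IsRelPrime (a i) (a j)) :
    ∃ ψ : BB p k n a μ i₀ →ₐ[MvPowerSeries (Fin n) k] AA p k n (fun i => μ * a i),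
      (∀ q, ψ (Ideal.Quotient.mk _ q) =
        MvPolynomial.aeval (zz (uu p k n (fun i => μ * a i)) a i₀) q) ∧ Function.Injective ψ := by
  haveI := charP_AA p k n (fun i => μ * a i)
  haveI : IsDomain (MvPowerSeries (Fin n) k) := NoZeroDivisors.to_isDomain _
  obtain ⟨hAfree, hArank⟩ := free_finrank_AA p k n (fun i => μ * a i)
  obtain ⟨hBfree, hBrank⟩ := free_finrank_BB p k n a μ i₀
  haveI hBfin : Module.Finite (MvPowerSeries (Fin n) k) (BB p k n a μ i₀) := by
    apply Module.finite_of_finrank_pos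
    rw [hBrank]
    exact pow_pos hp.out.pos _
  have ha0 := a_ne_zero k n a i₀ hn ham hcop
  have hker : RingHom.ker (Ideal.Quotient.mkₐ (MvPowerSeries (Fin n) k)
      (Ideal.span (Set.range (rr p a μ MvPowerSeries.X i₀)))) =
      Ideal.span (Set.range (rr p a μ MvPowerSeries.X i₀)) := by
    ext q
    rw [RingHom.mem_ker]
    exact Ideal.Quotient.eq_zero_iff_mem
  exact exists_injective (R := MvPowerSeries (Fin n) k) (A := AA p k n (fun i => μ * a i)) p
    (uu p k n (fun i => μ * a i)) (adjoin_uu p k n (fun i => μ * a i)) a μ MvPowerSeries.X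
    (uu_rel p k n (fun i => μ * a i)) i₀ ha0 hArank (BB p k n a μ i₀) hBrank
    (Ideal.Quotient.mkₐ (MvPowerSeries (Fin n) k) _) (Ideal.Quotient.mkₐ_surjective _ _) hker

theorem main_15807 (hn : 2 ≤ n) (ham : ∀ i, MvPowerSeries.constantCoeff (a i) = 0)
    (hcop : ∀ i j, i ≠ j → IsRelPrime (a i) (a j)) :
    RingHom.ker (MvPolynomial.aeval (zz (uu p k n (fun i => μ * a i)) a i₀) :
      MvPolynomial {j : Fin n // j ≠ i₀} (MvPowerSeries (Fin n) k) →ₐ[MvPowerSeries (Fin n) k]
        AA p k n (fun i => μ * a i)) =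
      Ideal.span (Set.range (rr p a μ MvPowerSeries.X i₀)) := by
  obtain ⟨ψ, hψ, hinj⟩ := exists_injective_BB p k n a μ i₀ hn ham hcop
  apply le_antisymm
  · intro q hq
    rw [RingHom.mem_ker, ← hψ] at hq
    have h1 : (Ideal.Quotient.mk (Ideal.span (Set.range (rr p a μ MvPowerSeries.X i₀))) q) = 0 :=
      hinj (by rw [hq, map_zero])
    exact Ideal.Quotient.eq_zero_iff_mem.mp h1
  · intro q hq
    rw [RingHom.mem_ker, ← hψ, Ideal.Quotient.eq_zero_iff_mem.mpr hq, map_zero]

end Groth.Agent.Lib.Helper26.ASMinorG
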