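import Mathlib
import Groth.Agent.Lib.Helper26.MonicQuot

set_option autoImplicit false
set_option linter.style.haveILetI false
universe u

namespace Groth.Agent.Lib.Helper26.MonicQuotC

open MvPolynomial Groth.Agent.Lib.Helper26.MonicQuot

variable {R : Type u} [CommRing R] (n : ℕ) (P : Fin n → Polynomial R)

/-- the exponents of reduced monomials -/
def redSet : Set (Fin n →₀ ℕ) := {m | ∀ i, m i < (P i).natDegree}

/-- reduced polynomials -/
noncomputable def Red : Submodule R (MvPolynomial (Fin n) R) := restrictSupport R (redSet n P)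

/-- the quotient map as a linear map -/
noncomputable def mkL : MvPolynomial (Fin n) R →ₗ[R] Q n P :=
  (Ideal.Quotient.mkₐ R (relI n P)).toLinearMap

theorem mkL_apply (g : MvPolynomial (Fin n) R) : mkL n P g = Ideal.Quotient.mk _ g := rfl

/-- the image of the reduced polynomials -/
noncomputable def NN : Submodule R (Q n P) := (Red n P).map (mkL n P)

variable {n P}

theorem rel_mem (hmon : ∀ i, (P i).Monic) (i : Fin n) :
    X i ^ (P i).natDegree + ∑ e ∈ Finset.range (P i).natDegree, C ((P i).coeff e) * X i ^ e ∈
      relI n P := by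
  have h2 : Polynomial.aeval (X i : MvPolynomial (Fin n) R) (P i) =
      X i ^ (P i).natDegree + ∑ e ∈ Finset.range (P i).natDegree, C ((P i).coeff e) * X i ^ e := by
    conv_lhs => rw [(hmon i).as_sum]
    simp only [map_add, map_pow, Polynomial.aeval_X, map_sum, map_mul, Polynomial.aeval_C]
    rfl
  rw [← h2]
  exact Ideal.subset_span ⟨i, rfl⟩

theorem monomial_mem_Red {m : Fin n →₀ ℕ} (hm : m ∈ redSet n P) (r : R) :
    monomial m r ∈ Red n P :=
  (monomial_mem_restrictSupport R).mpr (Or.inl hm)

theorem mk_mem_NN {g : MvPolynomial (Fin n) R} (hg : g ∈ Red n P) :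
    (Ideal.Quotient.mk (relI n P) g : Q n P) ∈ NN n P :=
  ⟨g, hg, rfl⟩

/-- multiplication by a variable preserves `NN` -/
theorem X_mul_mem_NN (hmon : ∀ i, (P i).Monic) (i : Fin n) (y : Q n P) (hy : y ∈ NN n P) :
    Ideal.Quotient.mk (relI n P) (X i) * y ∈ NN n P := by
  classical
  obtain ⟨g, hg, rfl⟩ := hy
  rw [mkL_apply, ← map_mul]
  -- reduce to monomials
  have hg' : g ∈ Submodule.span R ((fun m => monomial m (1 : R)) '' redSet n P) := by
    rw [← restrictSupport_eq_span]
    exact hg
  clear hg
  induction hg' using Submodule.span_induction with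
  | mem x hx =>
    obtain ⟨m, hm, rfl⟩ := hx
    by_cases hlt : m i + 1 < (P i).natDegree
    · have h1 : X i * monomial m (1 : R) = monomial (m + Finsupp.single i 1) 1 := by
        rw [X, monomial_mul, one_mul, add_comm]
      show Ideal.Quotient.mk (relI n P) (X i * monomial m (1 : R)) ∈ NN n P
      rw [h1]
      apply mk_mem_NN
      apply monomial_mem_Red
      intro j
      by_cases hj : j = i
      · subst hj
        simp only [Finsupp.coe_add, Pi.add_apply, Finsupp.single_eq_same]
        exact hlt
      · simp only [Finsupp.coe_add, Pi.add_apply, Finsupp.single_eq_of_ne hj, add_zero]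
        exact hm j
    · have hmi : m i + 1 = (P i).natDegree := by
        have := hm i
        omega
      -- split off the i-th power
      set m' : Fin n →₀ ℕ := m.erase i with hm'
      have hsplit : m = m' + Finsupp.single i (m i) := by
        rw [hm', add_comm, Finsupp.single_add_erase]
      have h1 : X i * monomial m (1 : R) = monomial m' 1 * X i ^ (P i).natDegree := by
        conv_lhs => rw [hsplit]
        rw [← hmi, pow_succ, X_pow_eq_monomial, X, monomial_mul, monomial_mul, monomial_mul]
        congr 1
        · rw [add_comm, add_assoc]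
        · ring
      have h2 : ∀ e, monomial m' (1 : R) * (C ((P i).coeff e) * X i ^ e) =
          monomial (m' + Finsupp.single i e) ((P i).coeff e) := by
        intro e
        rw [X_pow_eq_monomial, C_mul_monomial, monomial_mul, one_mul, mul_one]
      have h3 : Ideal.Quotient.mk (relI n P) (X i * monomial m (1 : R)) =
          Ideal.Quotient.mk (relI n P)
            (- ∑ e ∈ Finset.range (P i).natDegree,
              monomial (m' + Finsupp.single i e) ((P i).coeff e)) := by
        rw [Ideal.Quotient.eq, h1]
        have h4 : monomial m' 1 * X i ^ (P i).natDegree -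
            -∑ e ∈ Finset.range (P i).natDegree, monomial (m' + Finsupp.single i e) ((P i).coeff e) =
            monomial m' (1 : R) * (X i ^ (P i).natDegree +
              ∑ e ∈ Finset.range (P i).natDegree, C ((P i).coeff e) * X i ^ e) := by
          rw [mul_add, Finset.mul_sum, sub_neg_eq_add]
          congr 1
          exact Finset.sum_congr rfl fun e _ => (h2 e).symm
        rw [h4]
        exact Ideal.mul_mem_left _ _ (rel_mem hmon i)
      show Ideal.Quotient.mk (relI n P) (X i * monomial m (1 : R)) ∈ NN n P
      rw [h3]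
      apply mk_mem_NN
      refine Submodule.neg_mem _ (Submodule.sum_mem _ fun e he => ?_)
      rw [Finset.mem_range] at he
      apply monomial_mem_Red
      intro j
      by_cases hj : j = i
      · subst hj
        simp only [hm', Finsupp.coe_add, Pi.add_apply, Finsupp.erase_same, Finsupp.single_eq_same,
          zero_add]
        exact he
      · simp only [hm', Finsupp.coe_add, Pi.add_apply, Finsupp.erase_ne hj,
          Finsupp.single_eq_of_ne hj, add_zero]
        exact hm j
  | zero => rw [mul_zero, map_zero]; exact Submodule.zero_mem _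
  | add x y _ _ hx hy => rw [mul_add, map_add]; exact Submodule.add_mem _ hx hy
  | smul r x _ hx =>
    rw [mul_smul_comm]
    have : Ideal.Quotient.mk (relI n P) (r • (X i * x)) =
        r • Ideal.Quotient.mk (relI n P) (X i * x) := rfl
    rw [this]
    exact Submodule.smul_mem _ r hx

theorem adjoin_mk_X : Algebra.adjoin R (Set.range fun i : Fin n =>
    (Ideal.Quotient.mk (relI n P) (X i) : Q n P)) = ⊤ := by
  have h1 : (Set.range fun i : Fin n => (Ideal.Quotient.mk (relI n P) (X i) : Q n P)) =
      (Ideal.Quotient.mkₐ R (relI n P)) '' (Set.range (X : Fin n → MvPolynomial (Fin n) R)) := by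
    rw [← Set.range_comp]
    rfl
  rw [h1, ← AlgHom.map_adjoin, MvPolynomial.adjoin_range_X, Algebra.map_top, AlgHom.range_eq_top]
  exact Ideal.Quotient.mkₐ_surjective _ _

theorem NN_eq_top (hmon : ∀ i, (P i).Monic) (hdeg : ∀ i, 0 < (P i).natDegree) : NN n P = ⊤ := by
  let S : Subalgebra R (Q n P) :=
    { carrier := {a | ∀ y ∈ NN n P, a * y ∈ NN n P}
      mul_mem' := fun {a b} ha hb y hy => by rw [mul_assoc]; exact ha _ (hb y hy)
      add_mem' := fun {a b} ha hb y hy => by rw [add_mul]; exact Submodule.add_mem _ (ha y hy) (hb y hy)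
      algebraMap_mem' := fun r y hy => by rw [← Algebra.smul_def]; exact Submodule.smul_mem _ r hy }
  have hS : S = ⊤ := by
    rw [eq_top_iff, ← adjoin_mk_X (P := P)]
    apply Algebra.adjoin_le
    rintro _ ⟨i, rfl⟩
    exact X_mul_mem_NN hmon i
  have h1 : (1 : Q n P) ∈ NN n P := by
    have : (Ideal.Quotient.mk (relI n P) (monomial 0 1) : Q n P) ∈ NN n P :=
      mk_mem_NN (monomial_mem_Red (m := 0) (fun i => by simpa using hdeg i) 1)
    exact this
  rw [eq_top_iff]
  intro a _
  have ha : a ∈ S := by rw [hS]; trivial
  have := ha 1 h1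
  rwa [mul_one] at this

theorem exists_red (hmon : ∀ i, (P i).Monic) (hdeg : ∀ i, 0 < (P i).natDegree) (a : Q n P) :
    ∃ g ∈ Red n P, Ideal.Quotient.mk (relI n P) g = a := by
  have h : a ∈ NN n P := by rw [NN_eq_top hmon hdeg]; trivial
  obtain ⟨g, hg, rfl⟩ := h
  exact ⟨g, hg, rfl⟩

/-- the index set of reduced monomials -/
noncomputable def redEquiv : ↥(redSet n P) ≃ ((i : Fin n) → Fin (P i).natDegree) where
  toFun m := fun i => ⟨m.1 i, m.2 i⟩
  invFun c := ⟨Finsupp.equivFunOnFinite.symm (fun i => (c i : ℕ)), fun i => (c i).2⟩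
  left_inv m := by
    apply Subtype.ext
    ext i
    rfl
  right_inv c := by
    funext i
    rfl

theorem finrank_Red [Nontrivial R] :
    Module.finrank R (Red n P) = ∏ i, (P i).natDegree := by
  have h1 := Module.finrank_eq_nat_card_basis (basisRestrictSupport R (redSet n P))
  have h2 : Module.finrank R (Red n P) = Nat.card ↥(redSet n P) := h1
  rw [h2, Nat.card_congr redEquiv, Nat.card_eq_fintype_card, Fintype.card_pi]
  simp only [Fintype.card_fin]

theorem red_injective [Nontrivial R] (hmon : ∀ i, (P i).Monic) (hdeg : ∀ i, 0 < (P i).natDegree)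
    (g : MvPolynomial (Fin n) R) (hg : g ∈ Red n P)
    (h0 : Ideal.Quotient.mk (relI n P) g = 0) : g = 0 := by
  obtain ⟨hfree, hrank⟩ := free_finrank n P hmon hdeg
  haveI : Finite ↥(redSet n P) := Finite.of_equiv _ redEquiv.symm
  haveI : Module.Free R (Red n P) := Module.Free.of_basis (basisRestrictSupport R (redSet n P))
  haveI : Module.Finite R (Red n P) := Module.Finite.of_basis (basisRestrictSupport R (redSet n P))
  haveI : Module.Finite R (Q n P) := by
    apply Module.finite_of_finrank_pos
    rw [hrank]
    exact Finset.prod_pos fun i _ => hdeg i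
  have hrk : Module.finrank R (Red n P) = Module.finrank R (Q n P) := by
    rw [finrank_Red, hrank]
  let i0 : Red n P ≃ₗ[R] Q n P := LinearEquiv.ofFinrankEq _ _ hrk
  let f : Red n P →ₗ[R] Q n P := (mkL n P).domRestrict (Red n P)
  have hf : Function.Surjective f := by
    intro a
    obtain ⟨g, hg, rfl⟩ := exists_red hmon hdeg a
    exact ⟨⟨g, hg⟩, rfl⟩
  have hinj := OrzechProperty.injective_of_surjective_of_injective i0.toLinearMap f i0.injective hf
  have h1 : f ⟨g, hg⟩ = f 0 := by
    rw [map_zero]
    exact h0
  have := hinj h1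
  exact congrArg Subtype.val this

end Groth.Agent.Lib.Helper26.MonicQuotC
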