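import Mathlib
import Groth.Agent.Lib.Helper1.ArtFunObsDimMain
import Groth.Agent.Lib.Helper20.RegularUFD
import Groth.Agent.Lib.Helper21.RegularLocal
import Groth.Agent.Lib.Helper26.ASFamA
import Groth.Agent.Lib.Helper26.ASFamB
import Groth.Agent.Lib.Helper26.ASFamC
import Groth.Agent.Lib.Helper26.ASFamL
import Groth.Agent.Lib.Helper26.ASFamM
import Groth.Agent.Lib.Helper26.ASMinorC
import Groth.Agent.Lib.Helper26.ASMinorG
import Groth.Agent.Lib.Helper26.MonicQuotC
import Groth.Agent.Lib.Helper26.ASInvE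

set_option autoImplicit false
set_option linter.style.haveILetI false
universe u

namespace Groth.Agent.Lib.Helper26.ASInvF

open MvPolynomial Groth.Agent.Lib.Helper26.ASFamA Groth.Agent.Lib.Helper26.ASFamB
  Groth.Agent.Lib.Helper26.ASFamC Groth.Agent.Lib.Helper26.ASFamL Groth.Agent.Lib.Helper26.ASFamM
  Groth.Agent.Lib.Helper26.ASMinorC Groth.Agent.Lib.Helper26.ASMinorG
  Groth.Agent.Lib.Helper26.MonicQuot Groth.Agent.Lib.Helper26.MonicQuotC
  Groth.Agent.Lib.Helper26.ASInvE

variable (p : ℕ) [hp : Fact p.Prime] (k : Type u) [Field k] (n : ℕ)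
  (b : Fin n → MvPowerSeries (Fin n) k)

omit hp in
theorem aeval_uu (g : MvPolynomial (Fin n) (MvPowerSeries (Fin n) k)) :
    aeval (uu p k n b) g = Ideal.Quotient.mk (relIdeal p k n b) g := by
  have h : (aeval (uu p k n b) : MvPolynomial (Fin n) (MvPowerSeries (Fin n) k) →ₐ[_] AA p k n b) =
      Ideal.Quotient.mkₐ (MvPowerSeries (Fin n) k) (relIdeal p k n b) := by
    apply MvPolynomial.algHom_ext
    intro i
    rw [aeval_X]
    rfl
  exact DFunLike.congr_fun h g

theorem redSet_PP : redSet n (PP p k n b) = {m : Fin n →₀ ℕ | ∀ i, m i < p} := by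
  ext m
  simp only [redSet, PP_natDegree, Set.mem_setOf_eq]

theorem hspan_AA (t : AA p k n b) :
    ∃ g ∈ restrictSupport (MvPowerSeries (Fin n) k) {m : Fin n →₀ ℕ | ∀ i, m i < p},
      aeval (uu p k n b) g = t := by
  obtain ⟨q, rfl⟩ := Ideal.Quotient.mk_surjective t
  obtain ⟨g, hg, hgq⟩ := exists_red (PP_monic p k n b)
    (fun i => by rw [PP_natDegree]; exact hp.out.pos)
    (Ideal.Quotient.mk (relI n (PP p k n b)) q)
  refine ⟨g, ?_, ?_⟩
  · rw [← redSet_PP p k n b]
    exact hg
  · rw [aeval_uu, Ideal.Quotient.eq, relIdeal_eq]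
    exact Ideal.Quotient.eq.mp hgq

theorem hindep_AA (g : MvPolynomial (Fin n) (MvPowerSeries (Fin n) k))
    (hg : g ∈ restrictSupport (MvPowerSeries (Fin n) k) {m : Fin n →₀ ℕ | ∀ i, m i < p})
    (h0 : aeval (uu p k n b) g = 0) : g = 0 := by
  rw [aeval_uu, Ideal.Quotient.eq_zero_iff_mem, relIdeal_eq] at h0
  apply red_injective (PP_monic p k n b) (fun i => by rw [PP_natDegree]; exact hp.out.pos) g
  · show g ∈ restrictSupport _ (redSet n (PP p k n b))
    rw [redSet_PP p k n b]
    exact hg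
  · exact Ideal.Quotient.eq_zero_iff_mem.mpr h0

theorem hc_generic {k R A : Type*} [Field k] [CommRing R] [Algebra k R] [CommRing A]
    [IsDomain A] [Algebra R A] (p : ℕ) [hp : Fact p.Prime] [CharP k p] [CharP A p] (c : ZMod p) :
    algebraMap R A (algebraMap k R (ZMod.castHom (dvd_refl p) k c)) =
      Groth.Agent.Lib.Helper26.ASFamL.iota p c := by
  have h3 : ((algebraMap R A).comp ((algebraMap k R).comp (ZMod.castHom (dvd_refl p) k))) =
      Groth.Agent.Lib.Helper26.ASFamL.iota p := RingHom.ext_zmod _ _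
  exact DFunLike.congr_fun h3 c

section Main

variable [CharP k p] (a : Fin n → MvPowerSeries (Fin n) k) (μ : MvPowerSeries (Fin n) k)

theorem main_15810 (hn : 2 ≤ n)
    (ham : ∀ i, MvPowerSeries.constantCoeff (a i) = 0)
    (hcop : ∀ i j, i ≠ j → IsRelPrime (a i) (a j))
    (hμ : μ ≠ 0) (s : Fin n → ZMod p) (hs : s ≠ 0)
    (σ : Fin n → (AA p k n (fun i => μ * a i) ≃ₐ[MvPowerSeries (Fin n) k]
      AA p k n (fun i => μ * a i)))
    (hσ : ∀ i j, σ i (uu p k n (fun i => μ * a i) j) = uu p k n (fun i => μ * a i) j +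
      (if i = j then algebraMap (MvPowerSeries (Fin n) k) (AA p k n (fun i => μ * a i)) (μ * a i)
        else 0)) :
    (∀ t : AA p k n (fun i => μ * a i), (∀ ν : Fin n → ZMod p, ∑ i, ν i * s i = 0 →
        (List.ofFn (fun i : Fin n => σ i ^ (ν i).val)).prod t = t) ↔
      t ∈ (Polynomial.aeval (zS (uu p k n (fun i => μ * a i)) a
        (fun i => algebraMap k (MvPowerSeries (Fin n) k) (ZMod.castHom (dvd_refl p) k (s i)))
        (Finset.univ.filter (fun i => s i ≠ 0))) :
          Polynomial (MvPowerSeries (Fin n) k) →ₐ[MvPowerSeries (Fin n) k]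
            AA p k n (fun i => μ * a i)).range) ∧
    RingHom.ker (Polynomial.aeval (zS (uu p k n (fun i => μ * a i)) a
        (fun i => algebraMap k (MvPowerSeries (Fin n) k) (ZMod.castHom (dvd_refl p) k (s i)))
        (Finset.univ.filter (fun i => s i ≠ 0))) :
          Polynomial (MvPowerSeries (Fin n) k) →ₐ[MvPowerSeries (Fin n) k]
            AA p k n (fun i => μ * a i)) =
      Ideal.span {(Polynomial.X ^ p - Polynomial.C
          ((μ * ∏ i ∈ Finset.univ.filter (fun i => s i ≠ 0), a i) ^ (p - 1)) * Polynomial.X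
        - Polynomial.C (∑ i ∈ Finset.univ.filter (fun i => s i ≠ 0),
            algebraMap k (MvPowerSeries (Fin n) k) (ZMod.castHom (dvd_refl p) k (s i)) *
              (∏ j ∈ (Finset.univ.filter (fun i => s i ≠ 0)).erase i, a j) ^ p *
                MvPowerSeries.X i) :
          Polynomial (MvPowerSeries (Fin n) k))} := by
  have ham' : ∀ i, MvPowerSeries.constantCoeff ((fun i => μ * a i) i) = 0 := by
    intro i
    show MvPowerSeries.constantCoeff (μ * a i) = 0
    rw [map_mul, ham i, mul_zero]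
  have hreg : IsRegularLocalRing (AA p k n (fun i => μ * a i)) :=
    isRegularLocalRing_AA p k n (fun i => μ * a i) ham'
  haveI hdom : IsDomain (AA p k n (fun i => μ * a i)) :=
    Groth.Agent.Lib.Helper21.isDomain_of_isRegularLocalRing (AA p k n (fun i => μ * a i))
  haveI hRreg : IsRegularLocalRing (MvPowerSeries (Fin n) k) :=
    Groth.Agent.Lib.Helper1.ArtFunLib.isRegularLocalRing_mvPowerSeries k n
  obtain ⟨hRdom, hRufd⟩ :=
    Groth.Agent.Lib.Helper20.RegularUFD.ufd_of_isRegularLocalRing (MvPowerSeries (Fin n) k)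
  haveI := hRufd
  haveI hcharA := charP_AA p k n (fun i => μ * a i)
  have hinj := algebraMap_injective p k n (fun i => μ * a i)
  have ha0 : ∀ i, (fun i => μ * a i) i ≠ 0 := fun i =>
    mul_ne_zero hμ (a_ne_zero k n a i hn ham hcop)
  have ha : ∀ i, algebraMap (MvPowerSeries (Fin n) k) (AA p k n (fun i => μ * a i))
      ((fun i => μ * a i) i) ≠ 0 := by
    intro i h
    exact ha0 i (hinj (by rw [h, map_zero]))
  have hfixR : ∀ b : AA p k n (fun i => μ * a i),
      (∀ φ : AA p k n (fun i => μ * a i) ≃ₐ[MvPowerSeries (Fin n) k] AA p k n (fun i => μ * a i),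
        φ b = b) → b ∈ Set.range (algebraMap (MvPowerSeries (Fin n) k)
          (AA p k n (fun i => μ * a i))) :=
    fun b => ((main_15789 p k n (fun i => μ * a i) ha0 ham').2.2.2 b).mp
  have hc : ∀ i, algebraMap (MvPowerSeries (Fin n) k) (AA p k n (fun i => μ * a i))
      (algebraMap k (MvPowerSeries (Fin n) k) (ZMod.castHom (dvd_refl p) k (s i))) =
        Groth.Agent.Lib.Helper26.ASFamL.iota p (s i) := fun i =>
    hc_generic (k := k) (R := MvPowerSeries (Fin n) k) (A := AA p k n (fun i => μ * a i)) p (s i)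
  have hcu : ∀ i, s i ≠ 0 → IsUnit (algebraMap k (MvPowerSeries (Fin n) k)
      (ZMod.castHom (dvd_refl p) k (s i))) := by
    intro i hi
    apply IsUnit.map
    rw [isUnit_iff_ne_zero, Ne, map_eq_zero_iff _ (RingHom.injective _)]
    exact hi
  have hSupp : ∀ i, i ∈ Finset.univ.filter (fun i => s i ≠ 0) ↔ s i ≠ 0 := fun i => by simp
  have haa : ∀ i, (fun i => μ * a i) i = μ * a i := fun _ => rfl
  have key := main_generic (R := MvPowerSeries (Fin n) k) (A := AA p k n (fun i => μ * a i)) p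
    (uu p k n (fun i => μ * a i)) ?_ (fun i => μ * a i)
    MvPowerSeries.X ?_ ?_ ?_
    a μ ?_ s
    (fun i => algebraMap k (MvPowerSeries (Fin n) k) (ZMod.castHom (dvd_refl p) k (s i))) ?_
    (Finset.univ.filter (fun i => s i ≠ 0))
    ?_ ?_ ?_ ?_ ?_ ?_ ?_ ?_ σ ?_
  · exact key
  · exact adjoin_uu p k n (fun i => μ * a i)
  · exact ha
  · exact uu_rel p k n (fun i => μ * a i)
  · exact hlift_AA p k n (fun i => μ * a i)
  · exact haa
  · exact hc
  · exact hSupp
  · exact hinj
  · exact hfixR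
  · exact hspan_AA p k n (fun i => μ * a i)
  · exact hindep_AA p k n (fun i => μ * a i)
  · exact hs
  · exact hcop
  · exact hcu
  · exact hσ

end Main

end Groth.Agent.Lib.Helper26.ASInvF
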