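import Mathlib

set_option autoImplicit false
set_option linter.style.haveILetI false
universe u

namespace Groth.Agent.Lib.Helper26.ASMinorH

/-- normality of a localized ring of invariants -/
theorem isIntegrallyClosed_away {A B : Type*} [CommRing A] [IsDomain A] [IsIntegrallyClosed A]
    [CommRing B] [IsDomain B] (ψ : B →+* A) (hψ : Function.Injective ψ) (s : B) (hs : s ≠ 0)
    (σ : A ≃+* A) (hσ : ∀ b, σ (ψ b) = ψ b)
    (hfix : ∀ y : A, σ y = y → ∃ (N : ℕ) (b : B), ψ b = ψ s ^ N * y)
    (Bs : Type*) [CommRing Bs] [Algebra B Bs] [IsLocalization.Away s Bs] :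
    IsIntegrallyClosed Bs := by
  classical
  let L := FractionRing A
  letI : Algebra B A := ψ.toAlgebra
  have hBL : ∀ b : B, algebraMap B L b = algebraMap A L (ψ b) := fun b =>
    IsScalarTower.algebraMap_apply B A L b
  have hBLinj : Function.Injective (algebraMap B L) :=
    (IsFractionRing.injective A L).comp hψ
  have hsL0 : algebraMap B L s ≠ 0 := by
    intro h
    exact hs (hBLinj (by rw [h, map_zero]))
  have hsL : IsUnit ((algebraMap B L) s) := hsL0.isUnit
  let g : Bs →+* L := IsLocalization.Away.lift s hsL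
  have hg : ∀ b : B, g (algebraMap B Bs b) = algebraMap B L b :=
    fun b => IsLocalization.Away.lift_eq s hsL b
  letI : Algebra Bs L := g.toAlgebra
  haveI : IsScalarTower B Bs L := IsScalarTower.of_algebraMap_eq (fun b => (hg b).symm)
  have hpow : Submonoid.powers s ≤ nonZeroDivisors B := by
    rintro _ ⟨e, rfl⟩
    exact mem_nonZeroDivisors_of_ne_zero (pow_ne_zero e hs)
  haveI : IsDomain Bs := IsLocalization.isDomain_of_le_nonZeroDivisors (M := Submonoid.powers s) Bs hpow
  -- every element of Bs times a power of s comes from B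
  have hsurj : ∀ x : Bs, ∃ (b : B) (e : ℕ), x * algebraMap B Bs s ^ e = algebraMap B Bs b := by
    intro x
    obtain ⟨⟨b, ⟨_, e, rfl⟩⟩, h⟩ := IsLocalization.surj (Submonoid.powers s) x
    exact ⟨b, e, by rw [← map_pow]; exact h⟩
  have hginj : Function.Injective (algebraMap Bs L) := by
    rw [injective_iff_map_eq_zero]
    intro x hx
    obtain ⟨b, e, hbe⟩ := hsurj x
    have h1 : algebraMap B L b = 0 := by
      rw [← hg, ← hbe, map_mul]
      show algebraMap Bs L x * _ = 0
      rw [hx, zero_mul]
    have hb0 : b = 0 := hBLinj (by rw [h1, map_zero])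
    rw [hb0, map_zero] at hbe
    rcases mul_eq_zero.mp hbe with h | h
    · exact h
    · exfalso
      have : IsUnit (algebraMap B Bs s ^ e) := (IsLocalization.Away.algebraMap_isUnit s).pow e
      exact this.ne_zero h
  -- the automorphism of L
  let σL : L ≃+* L := IsFractionRing.ringEquivOfRingEquiv σ
  have hσL : ∀ a : A, σL (algebraMap A L a) = algebraMap A L (σ a) :=
    fun a => IsFractionRing.ringEquivOfRingEquiv_algebraMap σ a
  have hσB : ∀ b : B, σL (algebraMap B L b) = algebraMap B L b := by
    intro b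
    rw [hBL, hσL, hσ]
  have hσBs : ∀ x : Bs, σL (algebraMap Bs L x) = algebraMap Bs L x := by
    intro x
    obtain ⟨b, e, hbe⟩ := hsurj x
    have h1 : algebraMap Bs L x * algebraMap B L s ^ e = algebraMap B L b := by
      have := congrArg (algebraMap Bs L) hbe
      rw [map_mul, map_pow, ← IsScalarTower.algebraMap_apply, ← IsScalarTower.algebraMap_apply] at this
      exact this
    have h2 := congrArg σL h1
    rw [map_mul, map_pow, hσB, hσB, ← h1] at h2
    exact mul_right_cancel₀ (pow_ne_zero e hsL0) h2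
  rw [isIntegrallyClosed_iff (FractionRing Bs)]
  intro t ht
  let κ : FractionRing Bs →+* L := IsFractionRing.lift hginj
  have hκ : ∀ x : Bs, κ (algebraMap Bs (FractionRing Bs) x) = algebraMap Bs L x :=
    fun x => IsFractionRing.lift_algebraMap hginj x
  letI : Algebra (FractionRing Bs) L := κ.toAlgebra
  haveI : IsScalarTower Bs (FractionRing Bs) L := IsScalarTower.of_algebraMap_eq (fun x => (hκ x).symm)
  have hσK : ∀ w : FractionRing Bs, σL (κ w) = κ w := by
    intro w
    obtain ⟨x, x', _, rfl⟩ := IsFractionRing.div_surjective Bs w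
    rw [map_div₀, map_div₀, hκ, hκ, hσBs, hσBs]
  have ht' : IsIntegral Bs (κ t) :=
    ht.map (IsScalarTower.toAlgHom Bs (FractionRing Bs) L)
  obtain ⟨⟨_, m, rfl⟩, hm⟩ := IsIntegral.exists_multiple_integral_of_isLocalization
    (Submonoid.powers s) (Rₘ := Bs) (κ t) ht'
  have hmA : IsIntegral A ((s ^ m) • κ t) := hm.tower_top
  obtain ⟨y, hy⟩ := (isIntegrallyClosed_iff L).mp (inferInstance : IsIntegrallyClosed A) hmA
  have hsm : (s ^ m) • κ t = algebraMap B L s ^ m * κ t := by
    rw [Algebra.smul_def, map_pow]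
  rw [hsm] at hy
  -- y is fixed
  have hyfix : σ y = y := by
    apply IsFractionRing.injective A L
    rw [← hσL, hy, map_mul, map_pow, hσB, hσK]
  obtain ⟨N, b, hb⟩ := hfix y hyfix
  -- conclusion
  have hunit : IsUnit (algebraMap B Bs s) := IsLocalization.Away.algebraMap_isUnit s
  obtain ⟨v, hv⟩ := hunit
  refine ⟨algebraMap B Bs b * ((v⁻¹ : Bsˣ) : Bs) ^ (N + m), ?_⟩
  apply κ.injective
  rw [hκ]
  have h3 : algebraMap Bs L (algebraMap B Bs b * ((v⁻¹ : Bsˣ) : Bs) ^ (N + m)) *
      algebraMap B L s ^ (N + m) = algebraMap B L b := by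
    rw [IsScalarTower.algebraMap_apply B Bs L s, ← map_pow, ← map_mul, mul_assoc, ← mul_pow, ← hv,
      Units.inv_mul, one_pow, mul_one, ← IsScalarTower.algebraMap_apply]
  have h4 : algebraMap B L b = κ t * algebraMap B L s ^ (N + m) := by
    rw [hBL b, hb, map_mul, map_pow, ← hBL s, hy, pow_add]
    ring
  rw [h4] at h3
  exact mul_right_cancel₀ (pow_ne_zero _ hsL0) h3

end Groth.Agent.Lib.Helper26.ASMinorH
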