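import Mathlib
import Groth.Agent.Lib.Helper18.SerreReg3
import Groth.Agent.Lib.Helper21.RegularLocal
import Groth.Agent.Lib.Helper26.ASFamA
import Groth.Agent.Lib.Helper26.ASFamB
import Groth.Agent.Lib.Helper26.ASFamC
import Groth.Agent.Lib.Helper26.ASFamL
import Groth.Agent.Lib.Helper26.ASFamM
import Groth.Agent.Lib.Helper26.ASMinorB
import Groth.Agent.Lib.Helper26.ASMinorC
import Groth.Agent.Lib.Helper26.ASMinorE
import Groth.Agent.Lib.Helper26.ASMinorG
import Groth.Agent.Lib.Helper26.ASMinorH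

set_option autoImplicit false
set_option linter.style.haveILetI false
universe u

namespace Groth.Agent.Lib.Helper26.ASMinorI

open MvPolynomial Groth.Agent.Lib.Helper26.ASFamA Groth.Agent.Lib.Helper26.ASFamB
  Groth.Agent.Lib.Helper26.ASFamC Groth.Agent.Lib.Helper26.ASMinorE
  Groth.Agent.Lib.Helper26.ASMinorC Groth.Agent.Lib.Helper26.ASMinorG
  Groth.Agent.Lib.Helper26.ASMinorH Groth.Agent.Lib.Helper26.ASFamL Groth.Agent.Lib.Helper26.ASFamM

variable (p : ℕ) [hp : Fact p.Prime] (k : Type u) [Field k] [CharP k p] (n : ℕ)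
  (a : Fin n → MvPowerSeries (Fin n) k) (μ : MvPowerSeries (Fin n) k) (i₀ : Fin n)

theorem exists_aeval_of_mem_adjoin {R A ι : Type*} [CommRing R] [CommRing A] [Algebra R A]
    (z : ι → A) (t : A) (ht : t ∈ Algebra.adjoin R (Set.range z)) :
    ∃ q : MvPolynomial ι R, MvPolynomial.aeval z q = t := by
  rw [Algebra.adjoin_range_eq_range_aeval] at ht
  exact ht

/-- generic: invariants are, up to a power of `μ a_{i₀}`, polynomials in the minor elements -/
theorem fixed_exists_aeval {R A : Type u} [CommRing R] [CommRing A] [Algebra R A] (p : ℕ)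
    [hp : Fact p.Prime] [CharP A p] {n : ℕ} (u : Fin n → A)
    (hadj : Algebra.adjoin R (Set.range u) = ⊤)
    (a : Fin n → R) (μ : R) (x : R) (i₀ : Fin n)
    (hrel : u i₀ ^ p = algebraMap R A ((μ * a i₀) ^ (p - 1)) * u i₀ + algebraMap R A x)
    (σ : A ≃ₐ[R] A) (hσ : ∀ i, σ (u i) = u i + algebraMap R A (μ * a i))
    (t : A) (ht : σ t = t) :
    ∃ (N : ℕ) (q : MvPolynomial {j : Fin n // j ≠ i₀} R),
      MvPolynomial.aeval (zz u a i₀) q = algebraMap R A (μ * a i₀) ^ N * t := by
  obtain ⟨N, hN⟩ := Groth.Agent.Lib.Helper26.ASMinorB.main_generic p u hadj a μ x i₀ hrel σ hσ t ht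
  obtain ⟨q, hq⟩ := exists_aeval_of_mem_adjoin (zz u a i₀) _ hN
  exact ⟨N, q, hq⟩

theorem main_15808 (hn : 2 ≤ n) (ham : ∀ i, MvPowerSeries.constantCoeff (a i) = 0)
    (hcop : ∀ i j, i ≠ j → IsRelPrime (a i) (a j)) (hμ : μ ≠ 0) :
    Module.Free (MvPowerSeries (Fin n) k) (BB p k n a μ i₀) ∧
      Module.finrank (MvPowerSeries (Fin n) k) (BB p k n a μ i₀) = p ^ (n - 1) ∧
      IsDomain (BB p k n a μ i₀) ∧
      IsIntegrallyClosed (Localization.Away
        (algebraMap (MvPowerSeries (Fin n) k) (BB p k n a μ i₀) (μ * a i₀))) := by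
  obtain ⟨hBfree, hBrank⟩ := free_finrank_BB p k n a μ i₀
  have ham' : ∀ i, MvPowerSeries.constantCoeff ((fun i => μ * a i) i) = 0 := by
    intro i
    show MvPowerSeries.constantCoeff (μ * a i) = 0
    rw [map_mul, ham i, mul_zero]
  have hreg : IsRegularLocalRing (AA p k n (fun i => μ * a i)) :=
    isRegularLocalRing_AA p k n (fun i => μ * a i) ham'
  haveI hdom : IsDomain (AA p k n (fun i => μ * a i)) :=
    Groth.Agent.Lib.Helper21.isDomain_of_isRegularLocalRing (AA p k n (fun i => μ * a i))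
  haveI hic : IsIntegrallyClosed (AA p k n (fun i => μ * a i)) :=
    Groth.Agent.Lib.Helper18.SerreReg.isIntegrallyClosed_of_isRegularLocalRing (AA p k n (fun i => μ * a i))
  haveI : IsDomain (MvPowerSeries (Fin n) k) := NoZeroDivisors.to_isDomain _
  haveI hcharA := charP_AA p k n (fun i => μ * a i)
  obtain ⟨ψ, hψ, hinj⟩ := exists_injective_BB p k n a μ i₀ hn ham hcop
  haveI hBdom : IsDomain (BB p k n a μ i₀) := hinj.isDomain ψ.toRingHom
  refine ⟨hBfree, hBrank, hBdom, ?_⟩
  -- the automorphism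
  obtain ⟨σ, hσ⟩ := exists_algEquiv (R := MvPowerSeries (Fin n) k) (A := AA p k n (fun i => μ * a i))
    p (uu p k n (fun i => μ * a i)) (adjoin_uu p k n (fun i => μ * a i)) (fun i => μ * a i)
    MvPowerSeries.X (uu_rel p k n (fun i => μ * a i)) (hlift_AA p k n (fun i => μ * a i))
    (fun _ => 1)
  have hσ' : ∀ i, σ (uu p k n (fun i => μ * a i) i) = uu p k n (fun i => μ * a i) i +
      algebraMap (MvPowerSeries (Fin n) k) (AA p k n (fun i => μ * a i)) (μ * a i) := by
    intro i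
    rw [hσ i, map_one, one_mul]
  have ha0 := a_ne_zero k n a i₀ hn ham hcop
  have hAinj := algebraMap_injective p k n (fun i => μ * a i)
  have hsA : algebraMap (MvPowerSeries (Fin n) k) (AA p k n (fun i => μ * a i)) (μ * a i₀) ≠ 0 := by
    intro h
    exact mul_ne_zero hμ ha0 (hAinj (by rw [h, map_zero]))
  have hsB : algebraMap (MvPowerSeries (Fin n) k) (BB p k n a μ i₀) (μ * a i₀) ≠ 0 := by
    intro h
    apply hsA
    rw [← ψ.commutes, h, map_zero]
  -- σ fixes the minor elements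
  have hσz : ∀ j, σ (zz (uu p k n (fun i => μ * a i)) a i₀ j) =
      zz (uu p k n (fun i => μ * a i)) a i₀ j := by
    intro j
    unfold zz
    rw [map_sub, map_mul, map_mul, AlgEquiv.commutes, AlgEquiv.commutes, hσ', hσ', map_mul, map_mul]
    ring
  have hσψ : ∀ b : BB p k n a μ i₀, σ (ψ b) = ψ b := by
    intro b
    obtain ⟨q, rfl⟩ := Ideal.Quotient.mk_surjective b
    rw [hψ]
    have h1 : (σ : AA p k n (fun i => μ * a i) →ₐ[MvPowerSeries (Fin n) k]
        AA p k n (fun i => μ * a i)).comp (MvPolynomial.aeval (zz (uu p k n (fun i => μ * a i)) a i₀)) =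
        MvPolynomial.aeval (zz (uu p k n (fun i => μ * a i)) a i₀) := by
      apply MvPolynomial.algHom_ext
      intro j
      rw [AlgHom.comp_apply, MvPolynomial.aeval_X]
      exact hσz j
    exact DFunLike.congr_fun h1 q
  have hfix : ∀ y : AA p k n (fun i => μ * a i), σ y = y → ∃ (N : ℕ) (b : BB p k n a μ i₀),
      ψ b = ψ (algebraMap (MvPowerSeries (Fin n) k) (BB p k n a μ i₀) (μ * a i₀)) ^ N * y := by
    intro y hy
    obtain ⟨N, q, hq⟩ := fixed_exists_aeval (R := MvPowerSeries (Fin n) k)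
      (A := AA p k n (fun i => μ * a i)) p (uu p k n (fun i => μ * a i))
      (adjoin_uu p k n (fun i => μ * a i)) a μ (MvPowerSeries.X i₀) i₀
      (uu_rel p k n (fun i => μ * a i) i₀) σ hσ' y hy
    refine ⟨N, Ideal.Quotient.mk _ q, ?_⟩
    rw [hψ, ψ.commutes]
    exact hq
  exact isIntegrallyClosed_away (A := AA p k n (fun i => μ * a i)) (B := BB p k n a μ i₀)
    (ψ : BB p k n a μ i₀ →+* AA p k n (fun i => μ * a i)) hinj _ hsB
    (σ : AA p k n (fun i => μ * a i) ≃+* AA p k n (fun i => μ * a i)) hσψ hfix _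

end Groth.Agent.Lib.Helper26.ASMinorI
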