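import Mathlib

set_option autoImplicit false
set_option linter.unusedVariables false
set_option linter.style.haveILetI false
set_option linter.unusedSectionVars false
set_option linter.unusedSimpArgs false

universe u

namespace Groth.Agent.Lib.Helper26.AbhyAR

open Polynomial IsLocalRing

section AR

variable {A : Type u} [CommRing A] [IsDomain A] [IsDiscreteValuationRing A] (π : A)
  (hπ : maximalIdeal A = Ideal.span {π}) (e : ℕ) (he : 0 < e)

include hπ in
theorem residue_pi : residue A π = 0 := by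
  rw [residue_eq_zero_iff, hπ]; exact Ideal.mem_span_singleton_self π

/-- the map `A[x]/(x^e - π) → κ(A)` sending `x` to `0` -/
noncomputable def toRes : AdjoinRoot (X ^ e - C π : A[X]) →+* ResidueField A :=
  AdjoinRoot.lift (residue A) 0 (by
    rw [eval₂_sub, eval₂_pow, eval₂_X, eval₂_C, zero_pow he.ne', residue_pi π hπ, sub_zero])

theorem toRes_of (a : A) : toRes π hπ e he (AdjoinRoot.of _ a) = residue A a := by
  rw [toRes, AdjoinRoot.lift_of]

theorem toRes_root : toRes π hπ e he (AdjoinRoot.root _) = 0 := by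
  rw [toRes, AdjoinRoot.lift_root]

omit [IsDomain A] [IsDiscreteValuationRing A] in
theorem root_pow : (AdjoinRoot.root (X ^ e - C π : A[X])) ^ e = AdjoinRoot.of _ π := by
  have h := AdjoinRoot.eval₂_root (X ^ e - C π : A[X])
  rw [eval₂_sub, eval₂_pow, eval₂_X, eval₂_C, sub_eq_zero] at h
  exact h

omit [IsDomain A] [IsDiscreteValuationRing A] in
theorem exists_rep (x : AdjoinRoot (X ^ e - C π : A[X])) :
    ∃ (a : A) (x' : AdjoinRoot (X ^ e - C π : A[X])),
      x = AdjoinRoot.of _ a + AdjoinRoot.root _ * x' := by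
  obtain ⟨q, rfl⟩ := AdjoinRoot.mk_surjective x
  refine ⟨q.coeff 0, AdjoinRoot.mk _ q.divX, ?_⟩
  conv_lhs => rw [← divX_mul_X_add q]
  rw [map_add, map_mul, AdjoinRoot.mk_X, AdjoinRoot.mk_C]
  ring

theorem toRes_eq_zero_iff (x : AdjoinRoot (X ^ e - C π : A[X])) :
    toRes π hπ e he x = 0 ↔ x ∈ Ideal.span {AdjoinRoot.root (X ^ e - C π : A[X])} := by
  constructor
  · intro h
    obtain ⟨a, x', rfl⟩ := exists_rep π e x
    rw [map_add, map_mul, toRes_root, zero_mul, add_zero, toRes_of, residue_eq_zero_iff, hπ,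
      Ideal.mem_span_singleton'] at h
    obtain ⟨c, rfl⟩ := h
    refine Ideal.add_mem _ ?_ (Ideal.mul_mem_right _ _ (Ideal.mem_span_singleton_self _))
    rw [map_mul, ← root_pow π e]
    exact Ideal.mul_mem_left _ _
      (Ideal.pow_mem_of_mem _ (Ideal.mem_span_singleton_self _) e he)
  · intro h
    rw [Ideal.mem_span_singleton'] at h
    obtain ⟨c, rfl⟩ := h
    rw [map_mul, toRes_root, mul_zero]

theorem toRes_surjective : Function.Surjective (toRes π hπ e he) := by
  intro x
  obtain ⟨a, rfl⟩ := residue_surjective x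
  exact ⟨AdjoinRoot.of _ a, toRes_of π hπ e he a⟩

include hπ he in
theorem span_root_isMaximal :
    (Ideal.span {AdjoinRoot.root (X ^ e - C π : A[X])}).IsMaximal := by
  have hker : RingHom.ker (toRes π hπ e he) = Ideal.span {AdjoinRoot.root (X ^ e - C π : A[X])} := by
    ext x
    rw [RingHom.mem_ker, toRes_eq_zero_iff]
  rw [← hker]
  exact RingHom.ker_isMaximal_of_surjective _ (toRes_surjective π hπ e he)

include hπ he in
theorem maximalIdeal_eq [IsLocalRing (AdjoinRoot (X ^ e - C π : A[X]))] :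
    maximalIdeal (AdjoinRoot (X ^ e - C π : A[X])) =
      Ideal.span {AdjoinRoot.root (X ^ e - C π : A[X])} :=
  (IsLocalRing.eq_maximalIdeal (span_root_isMaximal π hπ e he)).symm

include hπ he in
/-- `A[x]/(x^e - π)` is a local ring -/
theorem isLocalRing : IsLocalRing (AdjoinRoot (X ^ e - C π : A[X])) := by
  have hmonic : (X ^ e - C π : A[X]).Monic := monic_X_pow_sub_C _ he.ne'
  haveI : Module.Finite A (AdjoinRoot (X ^ e - C π : A[X])) := hmonic.finite_adjoinRoot
  haveI : Algebra.IsIntegral A (AdjoinRoot (X ^ e - C π : A[X])) := Algebra.IsIntegral.of_finite _ _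
  apply IsLocalRing.of_unique_max_ideal
  refine ⟨_, span_root_isMaximal π hπ e he, fun M hM => ?_⟩
  haveI := hM
  have hcomap : (M.comap (algebraMap A (AdjoinRoot (X ^ e - C π : A[X])))).IsMaximal :=
    Ideal.isMaximal_comap_of_isIntegral_of_isMaximal M
  have h1 : M.comap (algebraMap A (AdjoinRoot (X ^ e - C π : A[X]))) = maximalIdeal A :=
    IsLocalRing.eq_maximalIdeal hcomap
  have hπM : AdjoinRoot.of (X ^ e - C π : A[X]) π ∈ M := by
    have : π ∈ M.comap (algebraMap A (AdjoinRoot (X ^ e - C π : A[X]))) := by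
      rw [h1, hπ]; exact Ideal.mem_span_singleton_self π
    exact this
  rw [← root_pow π e] at hπM
  have hroot : AdjoinRoot.root (X ^ e - C π : A[X]) ∈ M := hM.isPrime.mem_of_pow_mem e hπM
  have hle : Ideal.span {AdjoinRoot.root (X ^ e - C π : A[X])} ≤ M := by
    rw [Ideal.span_le, Set.singleton_subset_iff]; exact hroot
  exact ((span_root_isMaximal π hπ e he).eq_of_le hM.ne_top hle).symm

theorem exists_sub_mem (x : AdjoinRoot (X ^ e - C π : A[X])) :
    ∃ a : A, x - AdjoinRoot.of _ a ∈ Ideal.span {AdjoinRoot.root (X ^ e - C π : A[X])} := by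
  obtain ⟨a, x', rfl⟩ := exists_rep π e x
  refine ⟨a, ?_⟩
  rw [add_sub_cancel_left]
  exact Ideal.mul_mem_right _ _ (Ideal.mem_span_singleton_self _)

end AR

end Groth.Agent.Lib.Helper26.AbhyAR
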