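import Mathlib
import Groth.Prelude.Def_EtRam
import Groth.Agent.Lib.Helper26.ValFin
import Groth.Agent.Lib.Helper26.Monog
import Groth.Agent.Lib.Helper26.ValBasis
import Groth.Agent.Lib.Helper26.ASCaseB
import Groth.Agent.Lib.Helper26.ASCaseAC

set_option autoImplicit false
set_option linter.unusedVariables false
set_option linter.style.haveILetI false
set_option linter.unusedSectionVars false
set_option linter.unusedSimpArgs false

universe u

namespace Groth.Agent.Lib.Helper26.EisTame

open IsLocalRing Polynomial Groth.Agent.Lib.Helper26 Groth.Agent.Lib.Helper26.Monog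
  Groth.Agent.Lib.Helper26.ValBasis Groth.Agent.Lib.Helper26.ASCaseAC

section E

variable {A K L : Type u} [CommRing A] [IsDomain A] [IsDiscreteValuationRing A] [Field K]
  [Algebra A K] [IsFractionRing A K] [Field L] [Algebra K L] [FiniteDimensional K L]

/-- a root of an Eisenstein polynomial of degree `e` has `v(α)^e = v(π)` -/
theorem eisenstein_val (π : A) (hπ : Irreducible π) (f : A[X]) (hmon : f.Monic)
    (hf : f.IsEisensteinAt (maximalIdeal A)) (hdeg : 0 < f.natDegree) (α : L)
    (hα : eval₂ (gAL A K L) α f = 0)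
    (V : ValuationSubring L) (hV : EtRam.Dominates A (gAL A K L) V) :
    V.valuation α ^ f.natDegree = V.valuation (gAL A K L π) := by
  have hmax : maximalIdeal A = Ideal.span {π} := hπ.maximalIdeal_eq
  have hπpos := val_pi_pos V hV π hπ
  have hπlt := val_pi_lt_one V hV π hπ
  have hαV : α ∈ V := mem_of_root α f hmon hα V hV
  have hαle : V.valuation α ≤ 1 := (V.valuation_le_one_iff _).mpr hαV
  -- coefficients below the top are multiples of `π`
  have hcoef : ∀ i, i < f.natDegree → V.valuation (gAL A K L (f.coeff i)) ≤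
      V.valuation (gAL A K L π) := by
    intro i hi
    have hm := hf.mem hi
    rw [hmax, Ideal.mem_span_singleton'] at hm
    obtain ⟨c, hc⟩ := hm
    rw [← hc, map_mul, map_mul]
    calc V.valuation (gAL A K L c) * V.valuation (gAL A K L π)
        ≤ 1 * V.valuation (gAL A K L π) := by
          gcongr
          exact (V.valuation_le_one_iff _).mpr (hV.1 _)
      _ = _ := one_mul _
  -- the equation
  obtain ⟨e', he'⟩ : ∃ e', f.natDegree = e' + 1 := ⟨f.natDegree - 1, by omega⟩
  have heq : α ^ f.natDegree = -(∑ i ∈ Finset.range f.natDegree, gAL A K L (f.coeff i) * α ^ i) := by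
    have h := hα
    rw [eval₂_eq_sum_range, Finset.sum_range_succ, hmon.coeff_natDegree, map_one, one_mul] at h
    exact eq_neg_of_add_eq_zero_right h
  -- `v(α) < 1`
  have hαlt : V.valuation α < 1 := by
    rcases lt_or_eq_of_le hαle with h | h
    · exact h
    exfalso
    have h1 : V.valuation (α ^ f.natDegree) = 1 := by rw [map_pow, h, one_pow]
    have h2 : V.valuation (α ^ f.natDegree) < 1 := by
      rw [heq, Valuation.map_neg]
      refine Valuation.map_sum_lt _ one_ne_zero (fun i hi => ?_)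
      rw [map_mul, map_pow, h, one_pow, mul_one]
      exact lt_of_le_of_lt (hcoef i (Finset.mem_range.mp hi)) hπlt
    rw [h1] at h2
    exact lt_irrefl _ h2
  -- the constant coefficient
  have h0 : V.valuation (gAL A K L (f.coeff 0)) = V.valuation (gAL A K L π) := by
    have hm := hf.mem hdeg
    rw [hmax, Ideal.mem_span_singleton'] at hm
    obtain ⟨c, hc⟩ := hm
    have hcu : IsUnit c := by
      by_contra hnu
      have hcm : c ∈ maximalIdeal A := (mem_maximalIdeal c).mpr hnu
      apply hf.notMem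
      rw [← hc, sq]
      exact Ideal.mul_mem_mul hcm (by rw [hmax]; exact Ideal.mem_span_singleton_self π)
    obtain ⟨cu, rfl⟩ := hcu
    rw [← hc, map_mul, map_mul, ValFin.val_unit V hV cu, one_mul]
  rw [← map_pow, heq, Valuation.map_neg, he', Finset.sum_range_succ', pow_zero, mul_one, ← h0]
  rw [add_comm]
  apply Valuation.map_add_eq_of_lt_left
  rw [h0]
  by_cases hne : e' = 0
  · subst hne
    rw [Finset.range_zero, Finset.sum_empty, map_zero]
    exact hπpos
  refine Valuation.map_sum_lt _ hπpos.ne' (fun i hi => ?_)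
  rw [map_mul, map_pow]
  have hi' : i + 1 < f.natDegree := by
    have := Finset.mem_range.mp hi
    omega
  calc V.valuation (gAL A K L (f.coeff (i + 1))) * V.valuation α ^ (i + 1)
      ≤ V.valuation (gAL A K L π) * V.valuation α ^ (i + 1) := by
        gcongr
        exact hcoef _ hi'
    _ < V.valuation (gAL A K L π) * 1 := by
        gcongr
        exact pow_lt_one₀ zero_le hαlt (by omega)
    _ = _ := mul_one _

/-- structure of dominating valuation rings from a uniformizer of exponent `e = [L:K]` -/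
theorem unif_structure (e : ℕ) (he : 0 < e) (π : A) (hπ : Irreducible π) (ϖ : L)
    (hϖV : ∀ (V : ValuationSubring L), EtRam.Dominates A (gAL A K L) V →
      V.valuation ϖ ^ e = V.valuation (gAL A K L π))
    (hfin : Module.finrank K L = e) :
    EtRam.IsTotallyRamified A (gAL A K L) ∧
    ∀ (V : ValuationSubring L), EtRam.Dominates A (gAL A K L) V → ∀ x : L,
      x ∈ V → ∃ c : Fin e → A, x = ∑ j, gAL A K L (c j) * ϖ ^ (j : ℕ) := by
  classical
  haveI : NeZero e := ⟨he.ne'⟩
  haveI : Nonempty (Fin e) := ⟨⟨0, he⟩⟩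
  obtain ⟨V₀, hV₀⟩ := ASCaseB.exists_dominating (A := A) (K := K) (L := L)
  have hli₀ := linearIndependent_pow V₀ hV₀ π hπ e he ϖ (hϖV V₀ hV₀)
  have hdecomp : ∀ x : L, ∃ c : Fin e → K, x = ∑ j, algebraMap K L (c j) * ϖ ^ (j : ℕ) := by
    intro x
    let b := basisOfLinearIndependentOfCardEqFinrank hli₀ (by rw [Fintype.card_fin, hfin])
    refine ⟨fun j => b.repr x j, ?_⟩
    conv_lhs => rw [← b.sum_repr x]
    refine Finset.sum_congr rfl (fun j _ => ?_)
    rw [coe_basisOfLinearIndependentOfCardEqFinrank, Algebra.smul_def]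
  have hdesc : ∀ (V : ValuationSubring L) (hV : EtRam.Dominates A (gAL A K L) V) (x : L),
      x ∈ V → ∃ c : Fin e → A, x = ∑ j, gAL A K L (c j) * ϖ ^ (j : ℕ) := by
    intro V hV x hx
    obtain ⟨c, hc⟩ := hdecomp x
    rw [hc] at hx
    have := coeff_mem V hV π hπ e he ϖ (hϖV V hV) c hx
    choose c' hc' using this
    refine ⟨c', ?_⟩
    rw [hc]
    refine Finset.sum_congr rfl (fun j _ => ?_)
    rw [← hc' j]
    rfl
  have hϖmem : ∀ (V : ValuationSubring L) (hV : EtRam.Dominates A (gAL A K L) V), ϖ ∈ V := by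
    intro V hV
    rw [← V.valuation_le_one_iff]
    exact (gamma_lt_one V hV π hπ e he ϖ (hϖV V hV)).le
  have hle : ∀ (V V' : ValuationSubring L) (hV : EtRam.Dominates A (gAL A K L) V)
      (hV' : EtRam.Dominates A (gAL A K L) V'), V ≤ V' := by
    intro V V' hV hV' x hx
    obtain ⟨c, rfl⟩ := hdesc V hV x hx
    exact V'.sum_mem (fun j _ => V'.mul_mem _ _ (hV'.1 _) (V'.pow_mem (hϖmem V' hV') _))
  refine ⟨⟨⟨V₀, hV₀⟩, fun V V' hV hV' => le_antisymm (hle V V' hV hV') (hle V' V hV' hV), ?_⟩,
    hdesc⟩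
  intro V hV x
  obtain ⟨w, rfl⟩ := residue_surjective x
  obtain ⟨c, hc⟩ := hdesc V hV w.1 w.2
  refine ⟨c 0, ?_⟩
  show residue V (RingHom.codRestrict (gAL A K L) V hV.1 (c 0)) = residue V w
  rw [← sub_eq_zero, ← map_sub, residue_eq_zero_iff]
  refine (ValuationSubring.valuation_lt_one_iff V _).mpr ?_
  have hdiff : ((RingHom.codRestrict (gAL A K L) V hV.1 (c 0) - w : V) : L) =
      - ∑ j ∈ Finset.univ.erase (0 : Fin e), gAL A K L (c j) * ϖ ^ (j : ℕ) := by
    show gAL A K L (c 0) - (w : L) = _
    rw [hc, ← Finset.add_sum_erase Finset.univ _ (Finset.mem_univ (0 : Fin e))]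
    simp
  rw [hdiff, Valuation.map_neg]
  refine Valuation.map_sum_lt _ one_ne_zero (fun j hj => ?_)
  have hj0 : (j : ℕ) ≠ 0 := by
    intro h0
    exact (Finset.mem_erase.mp hj).1 (Fin.ext h0)
  rw [map_mul, map_pow]
  calc V.valuation (gAL A K L (c j)) * V.valuation ϖ ^ (j : ℕ)
      ≤ 1 * V.valuation ϖ ^ (j : ℕ) := by
        gcongr
        exact (V.valuation_le_one_iff _).mpr (hV.1 _)
    _ = V.valuation ϖ ^ (j : ℕ) := one_mul _
    _ < 1 := pow_lt_one₀ zero_le (gamma_lt_one V hV π hπ e he ϖ (hϖV V hV)) hj0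

end E

end Groth.Agent.Lib.Helper26.EisTame
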