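import Mathlib
import Groth.Prelude.Def_EtRam
import Groth.Agent.Lib.Helper26.ValFin
import Groth.Agent.Lib.Helper26.Monog
import Groth.Agent.Lib.Helper26.ValBasis
import Groth.Agent.Lib.Helper26.ASCaseB
import Groth.Agent.Lib.Helper26.ASCaseAC
import Groth.Agent.Lib.Helper26.TotRam
import Groth.Agent.Lib.Helper26.TameBC

set_option autoImplicit false
set_option linter.unusedVariables false
set_option linter.style.haveILetI false
set_option linter.unusedSectionVars false
set_option linter.unusedSimpArgs false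

universe u

namespace Groth.Agent.Lib.Helper26.KumGen

open IsLocalRing Polynomial Groth.Agent.Lib.Helper26 Groth.Agent.Lib.Helper26.Monog
  Groth.Agent.Lib.Helper26.ValBasis Groth.Agent.Lib.Helper26.ASCaseAC

section Gen

variable {A K L : Type u} [CommRing A] [IsDomain A] [IsDiscreteValuationRing A] [Field K]
  [Algebra A K] [IsFractionRing A K] [Field L] [Algebra K L] [FiniteDimensional K L]

/-- valuation of a monic polynomial at an element of valuation `> 1` -/
theorem val_eval₂_monic (V : ValuationSubring L) (hV : ∀ a : A, gAL A K L a ∈ V)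
    (h : A[X]) (hm : h.Monic) (z : L) (hz : 1 < V.valuation z) :
    V.valuation (eval₂ (gAL A K L) z h) = V.valuation z ^ h.natDegree := by
  rw [eval₂_eq_sum_range, Finset.sum_range_succ, hm.coeff_natDegree, map_one, one_mul]
  have hlt : V.valuation (∑ i ∈ Finset.range h.natDegree, gAL A K L (h.coeff i) * z ^ i) <
      V.valuation (z ^ h.natDegree) := by
    rw [map_pow]
    refine Valuation.map_sum_lt _ (pow_ne_zero _ (zero_lt_one.trans hz).ne') (fun i hi => ?_)
    rw [map_mul, map_pow]
    calc V.valuation (gAL A K L (h.coeff i)) * V.valuation z ^ i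
        ≤ 1 * V.valuation z ^ i := by
          gcongr
          exact (V.valuation_le_one_iff _).mpr (hV _)
      _ = V.valuation z ^ i := one_mul _
      _ < V.valuation z ^ h.natDegree := pow_lt_pow_right₀ hz (Finset.mem_range.mp hi)
  rw [add_comm, Valuation.map_add_eq_of_lt_left _ hlt, map_pow]

theorem genA (π : A) (hπ : maximalIdeal A = Ideal.span {π}) (z : L) (hpoly : A[X])
    (hmonic : hpoly.Monic) (hy : eval₂ (gAL A K L) z hpoly = 0)
    (hgen : IntermediateField.adjoin K {z} = ⊤)
    (hsep : (hpoly.map (residue A)).Separable) :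
    EtRam.IsUnramifiedExt A (gAL A K L) := by
  have hvnr : ∀ x : AdjoinRoot (hpoly.map (Ideal.Quotient.mk (maximalIdeal A))),
      ∃ w, x = x * x * w :=
    Sol1982.vnr_adjoinRoot (k := ResidueField A) (R := ResidueField A) (hpoly.map (residue A))
      (hmonic.map _) hsep
  have hyV : ∀ V : ValuationSubring L, EtRam.Dominates A (gAL A K L) V → z ∈ V :=
    fun V hV => mem_of_root z hpoly hmonic hy V hV
  intro V hV
  letI algAV : Algebra A V := (RingHom.codRestrict (gAL A K L) V hV.1).toAlgebra
  intro hloc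
  obtain ⟨hdiv, hfr⟩ := monogenic π hπ z hpoly hy hgen hvnr hyV V hV
  refine ⟨weaklyUnramified π hπ V hV hdiv, ?_⟩
  have hgenres := residue_gen z hpoly hy V hV (hyV V hV) hfr
  have hroot := residue_root z hpoly hy V hV (hyV V hV)
  have hsepy : IsSeparable (ResidueField A) (residue V ⟨z, hyV V hV⟩) := by
    have hdvd := minpoly.dvd (ResidueField A) (residue V ⟨z, hyV V hV⟩) hroot
    exact hsep.of_dvd hdvd
  haveI : Algebra.IsSeparable (ResidueField A)
      (IntermediateField.adjoin (ResidueField A) {residue V ⟨z, hyV V hV⟩}) :=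
    (IntermediateField.isSeparable_adjoin_simple_iff_isSeparable _ _).mpr hsepy
  refine ⟨fun x => ?_⟩
  have hx : x ∈ IntermediateField.adjoin (ResidueField A) {residue V ⟨z, hyV V hV⟩} := by
    rw [hgenres]; trivial
  exact IntermediateField.isSeparable_of_mem_isSeparable _ _ hx

theorem genB (p : ℕ) [hp : Fact p.Prime] (π : A) (hπ : Irreducible π) (z : L) (n : ℕ) (hn : 0 < n)
    (hpn : ¬ p ∣ n)
    (hrel : ∀ (V : ValuationSubring L), EtRam.Dominates A (gAL A K L) V →
      V.valuation z ^ p * V.valuation (gAL A K L π) ^ n = 1)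
    (hdich : Module.finrank K L = 1 ∨ Module.finrank K L = p) :
    EtRam.IsTotallyRamified A (gAL A K L) ∧ Module.finrank K L = p := by
  classical
  have hp0 : 0 < p := hp.out.pos
  obtain ⟨s, t, hst⟩ := TameBC.exists_bezout_nat n p hn hp0
    ((Nat.Prime.coprime_iff_not_dvd hp.out).mpr hpn).symm
  set ϖ : L := gAL A K L π ^ s * z ^ t with hϖdef
  have hϖV : ∀ (V : ValuationSubring L) (hV : EtRam.Dominates A (gAL A K L) V),
      V.valuation ϖ ^ p = V.valuation (gAL A K L π) := by
    intro V hV
    have hrel' := hrel V hV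
    rw [hϖdef, map_mul, map_pow, map_pow, mul_pow, ← pow_mul, hst, ← pow_mul, mul_comm t p, pow_mul,
      pow_add, pow_one, mul_comm t n, pow_mul]
    calc (V.valuation (gAL A K L π) ^ n) ^ t * V.valuation (gAL A K L π) * (V.valuation z ^ p) ^ t
        = V.valuation (gAL A K L π) *
            (V.valuation z ^ p * V.valuation (gAL A K L π) ^ n) ^ t := by
          rw [mul_pow]; ac_rfl
      _ = V.valuation (gAL A K L π) := by rw [hrel', one_pow, mul_one]
  obtain ⟨V₀, hV₀⟩ := ASCaseB.exists_dominating (A := A) (K := K) (L := L)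
  have hli₀ := linearIndependent_pow V₀ hV₀ π hπ p hp0 ϖ (hϖV V₀ hV₀)
  have hfin : Module.finrank K L = p := by
    have h1 : p ≤ Module.finrank K L := by
      have := hli₀.fintype_card_le_finrank
      simpa using this
    rcases hdich with h | h
    · rw [h] at h1
      exact absurd h1 (not_le.mpr hp.out.one_lt)
    · exact h
  have hdecomp : ∀ x : L, ∃ c : Fin p → K, x = ∑ j, algebraMap K L (c j) * ϖ ^ (j : ℕ) := by
    intro x
    let b := basisOfLinearIndependentOfCardEqFinrank hli₀ (by rw [Fintype.card_fin, hfin])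
    refine ⟨fun j => b.repr x j, ?_⟩
    conv_lhs => rw [← b.sum_repr x]
    refine Finset.sum_congr rfl (fun j _ => ?_)
    rw [coe_basisOfLinearIndependentOfCardEqFinrank, Algebra.smul_def]
  have hdesc : ∀ (V : ValuationSubring L) (hV : EtRam.Dominates A (gAL A K L) V) (x : L),
      x ∈ V → ∃ c : Fin p → A, x = ∑ j, gAL A K L (c j) * ϖ ^ (j : ℕ) := by
    intro V hV x hx
    obtain ⟨c, hc⟩ := hdecomp x
    rw [hc] at hx
    have := coeff_mem V hV π hπ p hp0 ϖ (hϖV V hV) c hx
    choose c' hc' using this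
    refine ⟨c', ?_⟩
    rw [hc]
    refine Finset.sum_congr rfl (fun j _ => ?_)
    rw [← hc' j]
    rfl
  have hϖmem : ∀ (V : ValuationSubring L) (hV : EtRam.Dominates A (gAL A K L) V), ϖ ∈ V := by
    intro V hV
    rw [← V.valuation_le_one_iff]
    exact (gamma_lt_one V hV π hπ p hp0 ϖ (hϖV V hV)).le
  have hle : ∀ (V V' : ValuationSubring L) (hV : EtRam.Dominates A (gAL A K L) V)
      (hV' : EtRam.Dominates A (gAL A K L) V'), V ≤ V' := by
    intro V V' hV hV' x hx
    obtain ⟨c, rfl⟩ := hdesc V hV x hx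
    exact V'.sum_mem (fun j _ => V'.mul_mem _ _ (hV'.1 _) (V'.pow_mem (hϖmem V' hV') _))
  refine ⟨⟨⟨V₀, hV₀⟩, fun V V' hV hV' => le_antisymm (hle V V' hV hV') (hle V' V hV' hV), ?_⟩,
    hfin⟩
  intro V hV x
  obtain ⟨w, rfl⟩ := residue_surjective x
  obtain ⟨c, hc⟩ := hdesc V hV w.1 w.2
  haveI : NeZero p := ⟨hp0.ne'⟩
  refine ⟨c 0, ?_⟩
  show residue V (RingHom.codRestrict (gAL A K L) V hV.1 (c 0)) = residue V w
  rw [← sub_eq_zero, ← map_sub, residue_eq_zero_iff]
  refine (ValuationSubring.valuation_lt_one_iff V _).mpr ?_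
  have hdiff : ((RingHom.codRestrict (gAL A K L) V hV.1 (c 0) - w : V) : L) =
      - ∑ j ∈ Finset.univ.erase (0 : Fin p), gAL A K L (c j) * ϖ ^ (j : ℕ) := by
    show gAL A K L (c 0) - (w : L) = _
    rw [hc, ← Finset.add_sum_erase Finset.univ _ (Finset.mem_univ (0 : Fin p))]
    simp
  rw [hdiff, Valuation.map_neg]
  refine Valuation.map_sum_lt _ one_ne_zero (fun j hj => ?_)
  have hj0 : (j : ℕ) ≠ 0 := by
    intro h0
    exact (Finset.mem_erase.mp hj).1 (Fin.ext h0)
  rw [map_mul, map_pow]
  calc V.valuation (gAL A K L (c j)) * V.valuation ϖ ^ (j : ℕ)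
      ≤ 1 * V.valuation ϖ ^ (j : ℕ) := by
        gcongr
        exact (V.valuation_le_one_iff _).mpr (hV.1 _)
    _ = V.valuation ϖ ^ (j : ℕ) := one_mul _
    _ < 1 := pow_lt_one₀ zero_le (gamma_lt_one V hV π hπ p hp0 ϖ (hϖV V hV)) hj0

theorem genC (p : ℕ) [hp : Fact p.Prime] [CharP (ResidueField A) p]
    (π : A) (hπ : maximalIdeal A = Ideal.span {π}) (y : L) (hpoly : A[X]) (hmonic : hpoly.Monic)
    (hy : eval₂ (gAL A K L) y hpoly = 0) (hgeny : IntermediateField.adjoin K {y} = ⊤) (a : A)
    (hmap : hpoly.map (residue A) = X ^ p - C (residue A a))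
    (ha : ∀ r : A, residue A a ≠ residue A r ^ p) :
    Case4 A K L p := by
  have hp1 : 1 < p := hp.out.one_lt
  have hirr : Irreducible (hpoly.map (residue A)) := by
    rw [hmap]
    refine X_pow_sub_C_irreducible_of_prime hp.out (fun b hb => ?_)
    obtain ⟨r, rfl⟩ := residue_surjective b
    exact ha r hb.symm
  have hvnr' : ∀ x : AdjoinRoot (hpoly.map (residue A)), ∃ w, x = x * x * w := by
    haveI : Fact (Irreducible (hpoly.map (residue A))) := ⟨hirr⟩
    intro x
    by_cases hx : x = 0
    · exact ⟨0, by rw [hx, mul_zero]⟩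
    · exact ⟨x⁻¹, by rw [mul_assoc, mul_inv_cancel₀ hx, mul_one]⟩
  have hvnr : ∀ x : AdjoinRoot (hpoly.map (Ideal.Quotient.mk (maximalIdeal A))),
      ∃ w, x = x * x * w := hvnr'
  have hyV : ∀ V : ValuationSubring L, EtRam.Dominates A (gAL A K L) V → y ∈ V :=
    fun V hV => mem_of_root y hpoly hmonic hy V hV
  have hmono := fun V hV => monogenic π hπ y hpoly hy hgeny hvnr hyV V hV
  refine ⟨ASCaseB.exists_dominating (A := A) (K := K) (L := L), ?_, ?_⟩
  · intro V V' hV hV'
    exact le_antisymm
      (unique_of_irreducible π hπ y hpoly hy hirr V V' hV hV' (hyV V hV) (hyV V' hV')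
        (hmono V hV).2)
      (unique_of_irreducible π hπ y hpoly hy hirr V' V hV' hV (hyV V' hV') (hyV V hV)
        (hmono V' hV').2)
  · intro V hV
    letI algAV : Algebra A V := (RingHom.codRestrict (gAL A K L) V hV.1).toAlgebra
    intro hloc
    obtain ⟨hdiv, hfr⟩ := hmono V hV
    refine ⟨weaklyUnramified π hπ V hV hdiv, ?_⟩
    have hgenres := residue_gen y hpoly hy V hV (hyV V hV) hfr
    have hroot := residue_root y hpoly hy V hV (hyV V hV)
    rw [hmap] at hroot
    set ybar : ResidueField V := residue V ⟨y, hyV V hV⟩ with hybar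
    have hybar_pow : ybar ^ p = algebraMap (ResidueField A) (ResidueField V) (residue A a) := by
      have := hroot
      rw [map_sub, map_pow, aeval_X, aeval_C, sub_eq_zero] at this
      exact this
    haveI : CharP (ResidueField V) p :=
      charP_of_injective_algebraMap (algebraMap (ResidueField A) (ResidueField V)).injective p
    haveI : ExpChar (ResidueField A) p := ExpChar.prime hp.out
    constructor
    · rw [isPurelyInseparable_iff_pow_mem (ResidueField A) p]
      intro x
      refine ⟨1, ?_⟩
      rw [pow_one]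
      have hx : x ∈ IntermediateField.adjoin (ResidueField A) {ybar} := by
        rw [hgenres]; trivial
      induction hx using IntermediateField.adjoin_induction with
      | mem x hx =>
        rw [Set.mem_singleton_iff] at hx
        rw [hx, hybar_pow]
        exact ⟨_, rfl⟩
      | algebraMap x => exact ⟨x ^ p, by rw [map_pow]⟩
      | add x y _ _ hx hy =>
        rw [add_pow_char]
        exact add_mem hx hy
      | inv x _ hx =>
        rw [inv_pow]
        obtain ⟨c, hc⟩ := hx
        exact ⟨c⁻¹, by rw [map_inv₀, hc]⟩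
      | mul x y _ _ hx hy =>
        rw [mul_pow]
        exact mul_mem hx hy
    · have hmin : X ^ p - C (residue A a) = minpoly (ResidueField A) ybar :=
        minpoly.eq_of_irreducible_of_monic (hmap ▸ hirr) hroot (monic_X_pow_sub_C _ hp.out.ne_zero)
      have hint : IsIntegral (ResidueField A) ybar :=
        ⟨X ^ p - C (residue A a), monic_X_pow_sub_C _ hp.out.ne_zero, hroot⟩
      have h1 := IntermediateField.adjoin.finrank hint
      rw [← hmin, natDegree_X_pow_sub_C, hgenres, IntermediateField.finrank_top'] at h1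
      exact h1

end Gen

end Groth.Agent.Lib.Helper26.KumGen
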