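import Mathlib
import Groth.Prelude.Def_EtRam
import Groth.Agent.Lib.Helper26.EisTame
import Groth.Agent.Lib.Helper26.KumGen
import Groth.Agent.Lib.Helper26.TameSub

set_option autoImplicit false
set_option linter.unusedVariables false
set_option linter.style.haveILetI false
set_option linter.unusedSectionVars false
set_option linter.unusedSimpArgs false

universe u

namespace Groth.Agent.Lib.Helper26.AbhyLoc

open IsLocalRing Polynomial Groth.Agent.Lib.Helper26 Groth.Agent.Lib.Helper26.Monog
  Groth.Agent.Lib.Helper26.ValBasis Groth.Agent.Lib.Helper26.ASCaseAC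

section Loc

variable {B₀ F M₁ F' : Type u} [CommRing B₀] [IsDomain B₀] [IsDiscreteValuationRing B₀] [Field F]
  [Algebra B₀ F] [IsFractionRing B₀ F] [Field M₁] [Field F'] [Algebra F M₁] [Algebra M₁ F']
  [Algebra F F'] [IsScalarTower F M₁ F'] [FiniteDimensional F M₁] [FiniteDimensional M₁ F']
  [FiniteDimensional F F']

theorem val_eq_one_of_pow {Γ : Type*} [LinearOrderedCommGroupWithZero Γ] (x : Γ) (k : ℕ)
    (hk : 0 < k) (h : x ^ k = 1) : x = 1 := by
  rcases lt_trichotomy x 1 with hlt | heq | hgt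
  · have := pow_lt_one₀ zero_le hlt hk.ne'
    rw [h] at this
    exact absurd this (lt_irrefl _)
  · exact heq
  · have := one_lt_pow₀ hgt hk.ne'
    rw [h] at this
    exact absurd this (lt_irrefl _)

theorem abLoc2 (ϖ : B₀) (hϖ : Irreducible ϖ) (u : B₀ˣ) (k f : ℕ) (hk : 0 < k) (hf : 0 < f)
    (hkres : (k : ResidueField B₀) ≠ 0) (y : M₁) (hy : y ^ k = gAL B₀ F M₁ (u : B₀))
    (hgeny : IntermediateField.adjoin F {y} = ⊤)
    (z : F') (hz : z ^ f = algebraMap M₁ F' (y * gAL B₀ F M₁ ϖ))
    (hgenz : IntermediateField.adjoin M₁ {z} = ⊤)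
    (W : ValuationSubring F') (hW : EtRam.Dominates B₀ (gAL B₀ F F') W) :
    letI : Algebra B₀ W := (RingHom.codRestrict (gAL B₀ F F') W hW.1).toAlgebra
    ∀ [IsLocalHom (algebraMap B₀ W)],
      (∀ x ∈ W, W.valuation x < 1 → ∃ x' ∈ W, x = z * x') ∧ W.valuation z < 1 ∧
      Algebra.IsSeparable (ResidueField B₀) (ResidueField W) := by
  classical
  have hmax : maximalIdeal B₀ = Ideal.span {ϖ} := hϖ.maximalIdeal_eq
  -- Step 1: `M₁/F` is unramified
  have hmonic : (X ^ k - C (u : B₀) : B₀[X]).Monic := monic_X_pow_sub_C _ hk.ne'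
  have hyroot : eval₂ (gAL B₀ F M₁) y (X ^ k - C (u : B₀) : B₀[X]) = 0 := by
    rw [eval₂_sub, eval₂_pow, eval₂_X, eval₂_C, hy, sub_self]
  have hures : residue B₀ (u : B₀) ≠ 0 := (u.isUnit.map (residue B₀)).ne_zero
  have hsep : ((X ^ k - C (u : B₀) : B₀[X]).map (residue B₀)).Separable := by
    rw [Polynomial.map_sub, Polynomial.map_pow, Polynomial.map_X, Polynomial.map_C]
    exact separable_X_pow_sub_C _ hkres hures
  have hunr := KumGen.genA (K := F) (L := M₁) ϖ hmax y _ hmonic hyroot hgeny hsep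
  set W' : ValuationSubring M₁ := W.comap (algebraMap M₁ F') with hW'def
  have hW' : EtRam.Dominates B₀ (gAL B₀ F M₁) W' := TameSub.dominates_comap B₀ F M₁ F' W hW
  letI algBW' : Algebra B₀ W' := (RingHom.codRestrict (gAL B₀ F M₁) W' hW'.1).toAlgebra
  haveI locBW' : IsLocalHom (algebraMap B₀ W') := TameSub.isLocalHom_of_dominates B₀ _ _ hW'
  obtain ⟨hwu, hsep1⟩ := hunr W' hW'
  -- Step 2
  haveI hW'dvr : IsDiscreteValuationRing W' := ValFin.isDVR_of_dominates_finite W' hW'
  have hvy : W'.valuation y = 1 := by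
    apply val_eq_one_of_pow _ k hk
    rw [← map_pow, hy]
    exact ValFin.val_unit W' hW' u
  have hyW' : y ∈ W' := (W'.valuation_le_one_iff _).mp hvy.le
  have hyu : IsUnit (⟨y, hyW'⟩ : W') := (W'.valuation_eq_one_iff _).mpr hvy
  set t : W' := ⟨y, hyW'⟩ * algebraMap B₀ W' ϖ with ht
  have htval : (t : M₁) = y * gAL B₀ F M₁ ϖ := rfl
  have hmaxW' : maximalIdeal W' = Ideal.span {t} := by
    unfold EtRam.IsWeaklyUnramified at hwu
    rw [← hwu, hmax, Ideal.map_span, Set.image_singleton, ht]
    obtain ⟨yu, hyu'⟩ := hyu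
    rw [← hyu', Ideal.span_singleton_eq_span_singleton]
    exact (associated_unit_mul_left _ _ yu.isUnit).symm
  have ht_irr : Irreducible t :=
    (IsDiscreteValuationRing.irreducible_iff_uniformizer t).mpr hmaxW'
  have hWW' : EtRam.Dominates W' (gAL W' M₁ F') W := TameSub.dominates_of_comap M₁ F' W
  have hzt : z ^ f = gAL W' M₁ F' t := by
    rw [hz, ← htval]; rfl
  have hϖV : ∀ (W'' : ValuationSubring F'), EtRam.Dominates W' (gAL W' M₁ F') W'' →
      W''.valuation z ^ f = W''.valuation (gAL W' M₁ F' t) := by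
    intro W'' _
    rw [← map_pow, hzt]
  have hfin : Module.finrank M₁ F' = f := by
    apply le_antisymm
    · have hzint : IsIntegral M₁ z := IsIntegral.of_finite M₁ z
      have h1 := IntermediateField.adjoin.finrank hzint
      rw [hgenz, IntermediateField.finrank_top'] at h1
      rw [h1]
      have hroot : aeval z (X ^ f - C (y * gAL B₀ F M₁ ϖ) : M₁[X]) = 0 := by
        rw [map_sub, map_pow, aeval_X, aeval_C, hz, sub_self]
      have := natDegree_le_of_dvd (minpoly.dvd M₁ z hroot) (X_pow_sub_C_ne_zero hf _)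
      rwa [natDegree_X_pow_sub_C] at this
    · have hli := linearIndependent_pow W hWW' t ht_irr f hf z (hϖV W hWW')
      have := hli.fintype_card_le_finrank
      simpa using this
  obtain ⟨htot, hdesc⟩ := EisTame.unif_structure (K := M₁) (L := F') f hf t ht_irr z hϖV hfin
  -- Step 3
  letI algBW : Algebra B₀ W := (RingHom.codRestrict (gAL B₀ F F') W hW.1).toAlgebra
  intro hlocBW
  have hzlt : W.valuation z < 1 := gamma_lt_one W hWW' t ht_irr f hf z (hϖV W hWW')
  have hzW : z ∈ W := (W.valuation_le_one_iff _).mp hzlt.le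
  refine ⟨?_, hzlt, ?_⟩
  · intro x hx hxlt
    obtain ⟨c, hc⟩ := hdesc W hWW' x hx
    haveI : NeZero f := ⟨hf.ne'⟩
    -- the rest of the sum
    set rest : F' := ∑ j ∈ Finset.univ.erase (0 : Fin f), gAL W' M₁ F' (c j) * z ^ ((j : ℕ) - 1)
      with hrest
    have hrestW : rest ∈ W :=
      W.sum_mem (fun j _ => W.mul_mem _ _ (hWW'.1 _) (W.pow_mem hzW _))
    have hsplit : x = gAL W' M₁ F' (c 0) + z * rest := by
      rw [hc, ← Finset.add_sum_erase Finset.univ _ (Finset.mem_univ (0 : Fin f)), hrest,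
        Finset.mul_sum]
      congr 1
      · simp
      · refine Finset.sum_congr rfl (fun j hj => ?_)
        have hj0 : (j : ℕ) ≠ 0 := by
          intro h0
          exact (Finset.mem_erase.mp hj).1 (Fin.ext h0)
        obtain ⟨j', hj'⟩ : ∃ j', (j : ℕ) = j' + 1 := ⟨(j : ℕ) - 1, by omega⟩
        rw [hj', Nat.add_sub_cancel, pow_succ]
        ring
    have hc0lt : W.valuation (gAL W' M₁ F' (c 0)) < 1 := by
      have : gAL W' M₁ F' (c 0) = x - z * rest := by rw [hsplit]; ring
      rw [this]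
      refine lt_of_le_of_lt (Valuation.map_sub _ _ _) (max_lt hxlt ?_)
      rw [map_mul]
      calc W.valuation z * W.valuation rest ≤ W.valuation z * 1 := by
            gcongr
            exact (W.valuation_le_one_iff _).mpr hrestW
        _ = W.valuation z := mul_one _
        _ < 1 := hzlt
    have hc0m : c 0 ∈ maximalIdeal W' := by
      by_contra hnm
      have hu : IsUnit (c 0) := by
        by_contra hnu
        exact hnm ((mem_maximalIdeal _).mpr hnu)
      have h1 : W.valuation (gAL W' M₁ F' ((hu.unit : W'ˣ) : W')) = 1 :=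
        ValFin.val_unit W hWW' hu.unit
      rw [IsUnit.unit_spec] at h1
      rw [h1] at hc0lt
      exact lt_irrefl _ hc0lt
    rw [hmaxW', Ideal.mem_span_singleton'] at hc0m
    obtain ⟨c', hc'⟩ := hc0m
    obtain ⟨f', rfl⟩ : ∃ f', f = f' + 1 := ⟨f - 1, by omega⟩
    refine ⟨z ^ f' * gAL W' M₁ F' c' + rest,
      W.add_mem _ _ (W.mul_mem _ _ (W.pow_mem hzW _) (hWW'.1 _)) hrestW, ?_⟩
    rw [hsplit, ← hc', map_mul, ← hzt, pow_succ]
    ring
  · letI algW'W : Algebra W' W := (RingHom.codRestrict (gAL W' M₁ F') W hWW'.1).toAlgebra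
    haveI locW'W : IsLocalHom (algebraMap W' W) := TameSub.isLocalHom_of_dominates _ _ W hWW'
    haveI : IsScalarTower B₀ W' W :=
      IsScalarTower.of_algebraMap_eq (fun a => Subtype.ext (TameSub.gM_eq B₀ F M₁ F' a))
    haveI := hsep1
    haveI hsep2 : Algebra.IsSeparable (ResidueField W') (ResidueField W) := by
      refine ⟨fun x => ?_⟩
      obtain ⟨a, ha⟩ := htot.2.2 W hWW' x
      have : x = algebraMap (ResidueField W') (ResidueField W) (residue W' a) := by
        rw [← ha]; rfl
      rw [this]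
      exact isSeparable_algebraMap _
    exact Algebra.IsSeparable.trans (ResidueField B₀) (ResidueField W') (ResidueField W)

end Loc

end Groth.Agent.Lib.Helper26.AbhyLoc
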