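import Mathlib
import Groth.Prelude.Def_EtRam
import Groth.Agent.Lib.Helper26.AbhyLoc

set_option autoImplicit false
set_option linter.unusedVariables false
set_option linter.style.haveILetI false
set_option linter.unusedSectionVars false
set_option linter.unusedSimpArgs false

universe u

namespace Groth.Agent.Lib.Helper26.AbhyLoc1

open IsLocalRing Polynomial Groth.Agent.Lib.Helper26 Groth.Agent.Lib.Helper26.Monog
  Groth.Agent.Lib.Helper26.ValBasis Groth.Agent.Lib.Helper26.ASCaseAC

section Loc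

variable {B₀ F F' : Type u} [CommRing B₀] [IsDomain B₀] [IsDiscreteValuationRing B₀] [Field F]
  [Algebra B₀ F] [IsFractionRing B₀ F] [Field F'] [Algebra F F'] [FiniteDimensional F F']

theorem abLoc (ϖ : B₀) (hϖ : Irreducible ϖ) (u : B₀ˣ) (k f : ℕ) (hk : 0 < k) (hf : 0 < f)
    (hkres : (k : ResidueField B₀) ≠ 0) (z : F')
    (hz : z ^ (k * f) = gAL B₀ F F' ((u : B₀) * ϖ ^ k))
    (hgen : IntermediateField.adjoin F {z} = ⊤)
    (W : ValuationSubring F') (hW : EtRam.Dominates B₀ (gAL B₀ F F') W) :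
    letI : Algebra B₀ W := (RingHom.codRestrict (gAL B₀ F F') W hW.1).toAlgebra
    ∀ [IsLocalHom (algebraMap B₀ W)],
      (∀ x ∈ W, W.valuation x < 1 → ∃ x' ∈ W, x = z * x') ∧ W.valuation z < 1 ∧
      Algebra.IsSeparable (ResidueField B₀) (ResidueField W) := by
  have hgϖ0 : gAL B₀ F F' ϖ ≠ 0 := by
    intro h0
    have h1 : algebraMap B₀ F ϖ = 0 := (map_eq_zero (algebraMap F F')).mp h0
    exact hϖ.ne_zero ((IsFractionRing.injective B₀ F) (by rw [h1, map_zero]))
  set y' : F' := z ^ f / gAL B₀ F F' ϖ with hy'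
  have hy'k : y' ^ k = gAL B₀ F F' (u : B₀) := by
    rw [hy', div_pow, ← pow_mul, mul_comm f k, hz, map_mul, map_pow]
    field_simp
  let M₁ : IntermediateField F F' := IntermediateField.adjoin F {y'}
  let y : M₁ := IntermediateField.AdjoinSimple.gen F y'
  have hyval : (y : F') = y' := rfl
  have hy : y ^ k = gAL B₀ F M₁ (u : B₀) := by
    apply Subtype.ext
    show (y : F') ^ k = _
    rw [hyval, hy'k]
    rfl
  have hy'int : IsIntegral F y' := IsIntegral.of_finite F y'
  have hgeny : IntermediateField.adjoin F {y} = ⊤ := by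
    apply IntermediateField.adjoin_eq_top_of_algebra
    have := (IntermediateField.adjoin.powerBasis hy'int).adjoin_gen_eq_top
    rwa [IntermediateField.adjoin.powerBasis_gen] at this
  have hz' : z ^ f = algebraMap M₁ F' (y * gAL B₀ F M₁ ϖ) := by
    show z ^ f = (y : F') * gAL B₀ F F' ϖ
    rw [hyval, hy', div_mul_cancel₀ _ hgϖ0]
  have hgenz : IntermediateField.adjoin M₁ {z} = ⊤ := by
    rw [← IntermediateField.restrictScalars_eq_top_iff (K := F), eq_top_iff, ← hgen,
      IntermediateField.adjoin_le_iff]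
    intro x hx
    rw [Set.mem_singleton_iff] at hx
    rw [hx]
    exact IntermediateField.mem_adjoin_simple_self (↥M₁) z
  letI : Algebra B₀ W := (RingHom.codRestrict (gAL B₀ F F') W hW.1).toAlgebra
  intro hloc
  exact AbhyLoc.abLoc2 (F := F) (M₁ := M₁) (F' := F') ϖ hϖ u k f hk hf hkres y hy hgeny z hz' hgenz
    W hW

end Loc

end Groth.Agent.Lib.Helper26.AbhyLoc1
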