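import Mathlib
import Groth.Prelude.Def_EtRam
import Groth.Agent.Lib.Helper26.AbhyLoc1
import Groth.Agent.Lib.Helper26.AbhyAR

set_option autoImplicit false
set_option linter.unusedVariables false
set_option linter.style.haveILetI false
set_option linter.unusedSectionVars false
set_option linter.unusedSimpArgs false

universe u

namespace Groth.Agent.Lib.Helper26.AbhyFwd

open IsLocalRing Polynomial Groth.Agent.Lib.Helper26 Groth.Agent.Lib.Helper26.Monog
  Groth.Agent.Lib.Helper26.ValBasis Groth.Agent.Lib.Helper26.ASCaseAC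

section Ram

variable {A K L : Type u} [CommRing A] [IsDomain A] [IsDiscreteValuationRing A] [Field K]
  [Algebra A K] [IsFractionRing A K] [Field L] [Algebra K L] [FiniteDimensional K L]

/-- the ramification data of a dominating valuation ring -/
theorem ram_data (π : A) (hπ : Irreducible π) (V : ValuationSubring L)
    (hV : EtRam.Dominates A (gAL A K L) V) :
    letI : Algebra A V := (RingHom.codRestrict (gAL A K L) V hV.1).toAlgebra
    ∃ (ϖ : V) (u : Vˣ) (k : ℕ), Irreducible ϖ ∧ 0 < k ∧
      algebraMap A V π = (u : V) * ϖ ^ k ∧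
      Ideal.ramificationIdx' (maximalIdeal A) (maximalIdeal V) = k ∧
      k ∣ (Module.finrank K L).factorial := by
  letI : Algebra A V := (RingHom.codRestrict (gAL A K L) V hV.1).toAlgebra
  haveI : IsDiscreteValuationRing V := ValFin.isDVR_of_dominates_finite V hV
  obtain ⟨ϖ, hϖ⟩ := IsDiscreteValuationRing.exists_irreducible V
  have hπpos := val_pi_pos V hV π hπ
  have hπlt := val_pi_lt_one V hV π hπ
  have hπV0 : algebraMap A V π ≠ 0 := by
    intro h0
    have : (gAL A K L π) = 0 := congrArg Subtype.val h0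
    rw [this, map_zero] at hπpos
    exact lt_irrefl _ hπpos
  obtain ⟨k, u, hku⟩ := IsDiscreteValuationRing.eq_unit_mul_pow_irreducible hπV0 hϖ
  have hmaxV : maximalIdeal V = Ideal.span {ϖ} := hϖ.maximalIdeal_eq
  have hmaxA : maximalIdeal A = Ideal.span {π} := hπ.maximalIdeal_eq
  have hk0 : 0 < k := by
    rcases Nat.eq_zero_or_pos k with h0 | h0
    · exfalso
      rw [h0, pow_zero, mul_one] at hku
      have h1 : V.valuation (gAL A K L π) = 1 := by
        have : IsUnit (algebraMap A V π) := hku ▸ u.isUnit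
        exact (V.valuation_eq_one_iff _).mp this
      rw [h1] at hπlt
      exact lt_irrefl _ hπlt
    · exact h0
  have hϖ0 : ϖ ≠ 0 := hϖ.ne_zero
  have hmap : Ideal.map (algebraMap A V) (maximalIdeal A) = Ideal.span {algebraMap A V π} :=
    (congrArg (Ideal.map (algebraMap A V)) hmaxA).trans
      (by rw [Ideal.map_span, Set.image_singleton])
  refine ⟨ϖ, u, k, hϖ, hk0, hku, ?_, ?_⟩
  · apply Ideal.ramificationIdx'_spec
    · rw [hmap, hmaxV, Ideal.span_singleton_pow,
        Ideal.span_singleton_le_span_singleton, hku]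
      exact Dvd.intro_left _ rfl
    · rw [hmap, hmaxV, Ideal.span_singleton_pow,
        Ideal.span_singleton_le_span_singleton, hku]
      rintro ⟨c, hc⟩
      have h1 : ϖ ^ k * ((u : V) * 1) = ϖ ^ k * (ϖ * c) := by
        rw [mul_one, mul_comm, hc, pow_succ]; ring
      have h2 := mul_left_cancel₀ (pow_ne_zero k hϖ0) h1
      rw [mul_one] at h2
      have : IsUnit ϖ := isUnit_of_mul_isUnit_left (h2 ▸ u.isUnit)
      exact hϖ.not_isUnit this
  · -- `k ∣ n!`
    have hϖL0 : (ϖ : L) ≠ 0 := fun h => hϖ0 (Subtype.ext h)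
    obtain ⟨j, hj⟩ := ValFin.exists_pow_N V hV π hπ (ϖ : L) ϖ.2 hϖL0
    have hvϖlt : V.valuation (ϖ : L) < 1 := by
      have : ϖ ∈ maximalIdeal V := by rw [hmaxV]; exact Ideal.mem_span_singleton_self ϖ
      exact (ValuationSubring.valuation_lt_one_iff V _).mp this
    have hvϖpos : 0 < V.valuation (ϖ : L) := by
      rw [zero_lt_iff, Valuation.ne_zero_iff]; exact hϖL0
    have hvπ : V.valuation (gAL A K L π) = V.valuation (ϖ : L) ^ k := by
      have h1 : (gAL A K L π) = ((u : V) : L) * (ϖ : L) ^ k := by
        have := congrArg Subtype.val hku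
        exact this
      rw [h1, map_mul, map_pow]
      have h2 : V.valuation ((u : V) : L) = 1 := (V.valuation_eq_one_iff _).mp u.isUnit
      rw [h2, one_mul]
    rw [hvπ, ← pow_mul] at hj
    have hinj : (Module.finrank K L).factorial = k * j := by
      by_contra hne
      rcases lt_or_gt_of_ne hne with h | h
      · have := pow_lt_pow_right_of_lt_one₀ hvϖpos hvϖlt h
        rw [hj] at this
        exact lt_irrefl _ this
      · have := pow_lt_pow_right_of_lt_one₀ hvϖpos hvϖlt h
        rw [hj] at this
        exact lt_irrefl _ this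
    exact Dvd.intro _ hinj.symm

end Ram

section Alpha

variable {A K L L' : Type u} [CommRing A] [IsDomain A] [IsDiscreteValuationRing A] [Field K]
  [Algebra A K] [IsFractionRing A K] [Field L] [Algebra K L] [FiniteDimensional K L]
  [Field L'] [Algebra L L'] [Algebra K L'] [IsScalarTower K L L'] [FiniteDimensional L L']
  [FiniteDimensional K L']
  (π : A) (hπ : maximalIdeal A = Ideal.span {π}) (e : ℕ) (he0 : 0 < e)
  [Algebra (AdjoinRoot (X ^ e - C π : A[X])) L']

include hπ he0 in
theorem unram_of_data (hT : EtRam.IsTamelyRamified A (gAL A K L))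
    (hdiv : ∀ k : ℕ, k ∣ (Module.finrank K L).factorial → (k : ResidueField A) ≠ 0 → k ∣ e)
    (z : L') (hz : z ^ e = algebraMap L L' (gAL A K L π))
    (hgen : IntermediateField.adjoin L {z} = ⊤)
    (hcomp : (algebraMap (AdjoinRoot (X ^ e - C π : A[X])) L').comp (AdjoinRoot.of _) =
      gAL A K L')
    (hroot : algebraMap (AdjoinRoot (X ^ e - C π : A[X])) L' (AdjoinRoot.root _) = z)
    [IsLocalRing (AdjoinRoot (X ^ e - C π : A[X]))] :
    EtRam.IsUnramifiedExt (AdjoinRoot (X ^ e - C π : A[X]))
      (algebraMap (AdjoinRoot (X ^ e - C π : A[X])) L') := by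
  intro W hW
  letI algA'W : Algebra (AdjoinRoot (X ^ e - C π : A[X])) W :=
    (RingHom.codRestrict (algebraMap (AdjoinRoot (X ^ e - C π : A[X])) L') W hW.1).toAlgebra
  intro hlocA'W
  have hmaxA' := AbhyAR.maximalIdeal_eq π hπ e he0
  have hirr : Irreducible π := (IsDiscreteValuationRing.irreducible_iff_uniformizer π).mpr hπ
  have hgA : ∀ a, gAL A K L' a =
      algebraMap (AdjoinRoot (X ^ e - C π : A[X])) L' (AdjoinRoot.of _ a) := by
    intro a; rw [← hcomp]; rfl
  have hWA : EtRam.Dominates A (gAL A K L') W := by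
    refine ⟨fun a => by rw [hgA]; exact hW.1 _, fun a ha => ?_⟩
    rw [hgA]
    apply hW.2
    rw [hmaxA', ← AbhyAR.toRes_eq_zero_iff π hπ e he0, AbhyAR.toRes_of, residue_eq_zero_iff]
    exact ha
  set V : ValuationSubring L := W.comap (algebraMap L L') with hVdef
  have hV : EtRam.Dominates A (gAL A K L) V := TameSub.dominates_comap A K L L' W hWA
  have hWV : EtRam.Dominates V (gAL V L L') W := TameSub.dominates_of_comap L L' W
  letI algAV : Algebra A V := (RingHom.codRestrict (gAL A K L) V hV.1).toAlgebra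
  haveI locAV : IsLocalHom (algebraMap A V) := TameSub.isLocalHom_of_dominates A _ _ hV
  obtain ⟨sepAV, htame⟩ := hT V hV
  obtain ⟨ϖ, u, k, hϖ, hk0, hku, hram, hkdvd⟩ := ram_data π hirr V hV
  haveI : IsDiscreteValuationRing V := ValFin.isDVR_of_dominates_finite V hV
  have hkA : (k : ResidueField A) ≠ 0 := by
    obtain ⟨q, hq⟩ := CharP.exists (ResidueField A)
    rcases CharP.char_is_prime_or_zero (ResidueField A) q with hqp | hq0
    · rw [Ne, CharP.cast_eq_zero_iff (ResidueField A) q]
      intro hdvd
      exact htame q hqp hq (hram ▸ hdvd)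
    · subst hq0
      haveI : CharZero (ResidueField A) := CharP.charP_to_charZero _
      exact Nat.cast_ne_zero.mpr hk0.ne'
  have hkV : (k : ResidueField V) ≠ 0 := by
    have h1 : (k : ResidueField V) =
        algebraMap (ResidueField A) (ResidueField V) (k : ResidueField A) := (map_natCast _ k).symm
    rw [h1, Ne, map_eq_zero]
    exact hkA
  obtain ⟨f, hf⟩ := hdiv k hkdvd hkA
  have hf0 : 0 < f := by
    rcases Nat.eq_zero_or_pos f with h0 | h0
    · rw [h0, mul_zero] at hf; omega
    · exact h0
  have hzV : z ^ (k * f) = gAL V L L' ((u : V) * ϖ ^ k) := by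
    rw [← hf, hz, ← hku]
    rfl
  letI algVW : Algebra V W := (RingHom.codRestrict (gAL V L L') W hWV.1).toAlgebra
  haveI locVW : IsLocalHom (algebraMap V W) := TameSub.isLocalHom_of_dominates _ _ W hWV
  obtain ⟨hdivz, hzlt, sepVW⟩ := AbhyLoc1.abLoc (B₀ := V) (F := L) (F' := L') ϖ hϖ u k f hk0 hf0
    hkV z hzV hgen W hWV
  have hzW : z ∈ W := (W.valuation_le_one_iff _).mp hzlt.le
  constructor
  · unfold EtRam.IsWeaklyUnramified
    have hmap : Ideal.map (algebraMap (AdjoinRoot (X ^ e - C π : A[X])) W)
        (maximalIdeal (AdjoinRoot (X ^ e - C π : A[X]))) = Ideal.span {(⟨z, hzW⟩ : W)} := by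
      refine (congrArg (Ideal.map _) hmaxA').trans ?_
      rw [Ideal.map_span, Set.image_singleton]
      congr 2
      exact Subtype.ext hroot
    rw [hmap]
    apply le_antisymm
    · rw [Ideal.span_le, Set.singleton_subset_iff]
      exact (ValuationSubring.valuation_lt_one_iff W _).mpr hzlt
    · intro x hx
      have hxlt : W.valuation (x : L') < 1 := (ValuationSubring.valuation_lt_one_iff W _).mp hx
      obtain ⟨x', hx'W, hxx'⟩ := hdivz x.1 x.2 hxlt
      rw [Ideal.mem_span_singleton']
      exact ⟨⟨x', hx'W⟩, Subtype.ext (by rw [hxx']; exact mul_comm _ _)⟩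
  · letI algAW : Algebra A W := (RingHom.codRestrict (gAL A K L') W hWA.1).toAlgebra
    haveI locAW : IsLocalHom (algebraMap A W) := TameSub.isLocalHom_of_dominates A _ _ hWA
    haveI : IsScalarTower A V W :=
      IsScalarTower.of_algebraMap_eq (fun a => Subtype.ext (TameSub.gM_eq A K L L' a))
    haveI := sepAV
    haveI := sepVW
    haveI sepAW : Algebra.IsSeparable (ResidueField A) (ResidueField W) :=
      Algebra.IsSeparable.trans (ResidueField A) (ResidueField V) (ResidueField W)
    haveI locAA' : IsLocalHom (algebraMap A (AdjoinRoot (X ^ e - C π : A[X]))) := by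
      constructor
      intro a ha
      have h1 : IsUnit (AbhyAR.toRes π hπ e he0 (AdjoinRoot.of _ a)) := ha.map _
      rw [AbhyAR.toRes_of] at h1
      by_contra hnu
      exact h1.ne_zero ((residue_eq_zero_iff a).mpr ((mem_maximalIdeal a).mpr hnu))
    haveI : IsScalarTower A (AdjoinRoot (X ^ e - C π : A[X])) W :=
      IsScalarTower.of_algebraMap_eq (fun a => Subtype.ext (hgA a))
    exact Algebra.isSeparable_tower_top_of_isSeparable (ResidueField A)
      (ResidueField (AdjoinRoot (X ^ e - C π : A[X]))) (ResidueField W)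

end Alpha

end Groth.Agent.Lib.Helper26.AbhyFwd
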