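import Mathlib
import Groth.Prelude.Def_EtRam
import Groth.Agent.Lib.Helper26.AbhyFwd

set_option autoImplicit false
set_option linter.unusedVariables false
set_option linter.style.haveILetI false
set_option linter.unusedSectionVars false
set_option linter.unusedSimpArgs false

universe u

namespace Groth.Agent.Lib.Helper26.AbhyMain

open IsLocalRing Polynomial Groth.Agent.Lib.Helper26 Groth.Agent.Lib.Helper26.Monog
  Groth.Agent.Lib.Helper26.ValBasis Groth.Agent.Lib.Helper26.ASCaseAC

section Beta

variable {A K L : Type u} [CommRing A] [IsDomain A] [IsDiscreteValuationRing A] [Field K]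
  [Algebra A K] [IsFractionRing A K] [Field L] [Algebra K L] [FiniteDimensional K L]
  [Algebra.IsSeparable K L]
  (π : A) (hπ : maximalIdeal A = Ideal.span {π})

include hπ in
theorem forward_core (hT : EtRam.IsTamelyRamified A (gAL A K L)) (e : ℕ) (he0 : 0 < e)
    (heres : (e : ResidueField A) ≠ 0)
    (hdiv : ∀ k : ℕ, k ∣ (Module.finrank K L).factorial → (k : ResidueField A) ≠ 0 → k ∣ e) :
    ∃ (L' : Type u) (_ : Field L') (_ : Algebra K L')
      (_ : Algebra (AdjoinRoot (X ^ e - C π : A[X])) L') (_ : L →ₐ[K] L'),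
      FiniteDimensional K L' ∧ Algebra.IsSeparable K L' ∧
      (algebraMap (AdjoinRoot (X ^ e - C π : A[X])) L').comp (AdjoinRoot.of (X ^ e - C π)) =
        (algebraMap K L').comp (algebraMap A K) ∧
      ∀ [IsLocalRing (AdjoinRoot (X ^ e - C π : A[X]))],
        EtRam.IsUnramifiedExt (AdjoinRoot (X ^ e - C π : A[X]))
          (algebraMap (AdjoinRoot (X ^ e - C π : A[X])) L') := by
  have hirr : Irreducible π := (IsDiscreteValuationRing.irreducible_iff_uniformizer π).mpr hπ
  set πL : L := gAL A K L π with hπL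
  have hπL0 : πL ≠ 0 := by
    intro h0
    have h1 : algebraMap A K π = 0 := (map_eq_zero (algebraMap K L)).mp h0
    exact hirr.ne_zero ((IsFractionRing.injective A K) (by rw [h1, map_zero]))
  have heL : ((e : ℕ) : L) ≠ 0 := by
    intro h0
    apply heres
    have h1 : ((e : ℕ) : A) = 0 := by
      have h2 : gAL A K L ((e : ℕ) : A) = 0 := by rw [map_natCast]; exact h0
      have h3 : algebraMap A K ((e : ℕ) : A) = 0 := (map_eq_zero (algebraMap K L)).mp h2
      exact (IsFractionRing.injective A K) (by rw [h3, map_zero])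
    rw [← map_natCast (residue A), h1, map_zero]
  set h : L[X] := X ^ e - C πL with hh
  have hh0 : h ≠ 0 := X_pow_sub_C_ne_zero he0 _
  have hhnu : ¬ IsUnit h := by
    intro hu
    have := natDegree_eq_zero_of_isUnit hu
    rw [hh, natDegree_X_pow_sub_C] at this
    omega
  obtain ⟨h₁, hh₁irr, hh₁dvd⟩ := WfDvdMonoid.exists_irreducible_factor hhnu hh0
  haveI : Fact (Irreducible h₁) := ⟨hh₁irr⟩
  let L' := AdjoinRoot h₁
  haveI : IsScalarTower K L L' := inferInstance
  haveI finLL' : FiniteDimensional L L' := (AdjoinRoot.powerBasis hh₁irr.ne_zero).finite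
  haveI finKL' : FiniteDimensional K L' := FiniteDimensional.trans K L L'
  set z : L' := AdjoinRoot.root h₁ with hz
  have hzroot : eval₂ (algebraMap L L') z h = 0 := by
    obtain ⟨q, hq⟩ := hh₁dvd
    rw [hq, eval₂_mul, AdjoinRoot.algebraMap_eq, AdjoinRoot.eval₂_root, zero_mul]
  have hze : z ^ e = algebraMap L L' πL := by
    rw [hh, eval₂_sub, eval₂_pow, eval₂_X, eval₂_C, sub_eq_zero] at hzroot
    exact hzroot
  have hgen : IntermediateField.adjoin L {z} = ⊤ :=
    IntermediateField.adjoin_eq_top_of_algebra L _ AdjoinRoot.adjoinRoot_eq_top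
  -- separability
  have hsep : h.Separable := separable_X_pow_sub_C πL heL hπL0
  haveI sepLL' : Algebra.IsSeparable L L' := by
    have hzsep : IsSeparable L z := by
      have hdvd := minpoly.dvd L z (by rw [aeval_def]; exact hzroot)
      exact hsep.of_dvd hdvd
    haveI : Algebra.IsSeparable L (IntermediateField.adjoin L {z}) :=
      (IntermediateField.isSeparable_adjoin_simple_iff_isSeparable _ _).mpr hzsep
    refine ⟨fun x => ?_⟩
    have hx : x ∈ IntermediateField.adjoin L {z} := by rw [hgen]; trivial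
    exact IntermediateField.isSeparable_of_mem_isSeparable _ _ hx
  haveI sepKL' : Algebra.IsSeparable K L' := Algebra.IsSeparable.trans K L L'
  -- the `A'`-algebra structure
  have hz0 : eval₂ (gAL A K L') z (X ^ e - C π : A[X]) = 0 := by
    rw [eval₂_sub, eval₂_pow, eval₂_X, eval₂_C, hze, sub_eq_zero]
    rfl
  letI algA'L' : Algebra (AdjoinRoot (X ^ e - C π : A[X])) L' :=
    (AdjoinRoot.lift (gAL A K L') z hz0).toAlgebra
  have hcomp : (algebraMap (AdjoinRoot (X ^ e - C π : A[X])) L').comp (AdjoinRoot.of _) =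
      gAL A K L' := AdjoinRoot.lift_comp_of hz0
  have hroot : algebraMap (AdjoinRoot (X ^ e - C π : A[X])) L' (AdjoinRoot.root _) = z :=
    AdjoinRoot.lift_root hz0
  refine ⟨L', inferInstance, inferInstance, algA'L', IsScalarTower.toAlgHom K L L', finKL', sepKL',
    hcomp, ?_⟩
  intro hloc
  exact AbhyFwd.unram_of_data (K := K) (L := L) (L' := L') π hπ e he0 hT hdiv z hze hgen hcomp hroot

end Beta

end Groth.Agent.Lib.Helper26.AbhyMain
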