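import Mathlib
import Groth.Prelude.Def_EtRam
import Groth.Agent.Lib.Helper26.AbhyMain

set_option autoImplicit false
set_option linter.unusedVariables false
set_option linter.style.haveILetI false
set_option linter.unusedSectionVars false
set_option linter.unusedSimpArgs false

universe u

namespace Groth.Agent.Lib.Helper26.AbhyBack

open IsLocalRing Polynomial Groth.Agent.Lib.Helper26 Groth.Agent.Lib.Helper26.Monog
  Groth.Agent.Lib.Helper26.ValBasis Groth.Agent.Lib.Helper26.ASCaseAC

section NT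

theorem exists_e0 (κ : Type*) [Field κ] (N : ℕ) (hN : 0 < N) :
    ∃ e₀ : ℕ, 0 < e₀ ∧ (e₀ : κ) ≠ 0 ∧ ∀ k : ℕ, k ∣ N → (k : κ) ≠ 0 → k ∣ e₀ := by
  obtain ⟨q, hq⟩ := CharP.exists κ
  rcases CharP.char_is_prime_or_zero κ q with hqp | hq0
  · refine ⟨ordCompl[q] N, Nat.ordCompl_pos q hN.ne', ?_, ?_⟩
    · rw [Ne, CharP.cast_eq_zero_iff κ q]
      exact Nat.not_dvd_ordCompl hqp hN.ne'
    · intro k hk hkκ
      rw [Ne, CharP.cast_eq_zero_iff κ q] at hkκ
      have hcop : Nat.Coprime k (ordProj[q] N) :=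
        Nat.Coprime.pow_right _ ((Nat.Prime.coprime_iff_not_dvd hqp).mpr hkκ).symm
      rw [← Nat.ordProj_mul_ordCompl_eq_self N q] at hk
      exact hcop.dvd_of_dvd_mul_left hk
  · subst hq0
    haveI : CharZero κ := CharP.charP_to_charZero _
    exact ⟨N, hN, Nat.cast_ne_zero.mpr hN.ne', fun k hk _ => hk⟩

end NT

section Back

variable {A K L : Type u} [CommRing A] [IsDomain A] [IsDiscreteValuationRing A] [Field K]
  [Algebra A K] [IsFractionRing A K] [Field L] [Algebra K L] [FiniteDimensional K L]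
  [Algebra.IsSeparable K L]
  (π : A) (hπ : maximalIdeal A = Ideal.span {π})

include hπ in
theorem tame_of_unram (e : ℕ) (he0 : 0 < e) (heres : (e : ResidueField A) ≠ 0)
    (L' : Type u) [Field L'] [Algebra K L'] [Algebra (AdjoinRoot (X ^ e - C π : A[X])) L']
    [FiniteDimensional K L']
    (hcomp : (algebraMap (AdjoinRoot (X ^ e - C π : A[X])) L').comp (AdjoinRoot.of _) =
      (algebraMap K L').comp (algebraMap A K))
    [IsLocalRing (AdjoinRoot (X ^ e - C π : A[X]))]
    (hunr : EtRam.IsUnramifiedExt (AdjoinRoot (X ^ e - C π : A[X]))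
      (algebraMap (AdjoinRoot (X ^ e - C π : A[X])) L')) :
    EtRam.IsTamelyRamified A (gAL A K L') := by
  have hirr : Irreducible π := (IsDiscreteValuationRing.irreducible_iff_uniformizer π).mpr hπ
  have hmaxA' := AbhyAR.maximalIdeal_eq π hπ e he0
  set ψ := algebraMap (AdjoinRoot (X ^ e - C π : A[X])) L' with hψ
  have hgA : ∀ a, gAL A K L' a = ψ (AdjoinRoot.of _ a) := by
    intro a
    have := congrArg (fun g => g a) hcomp
    exact this.symm
  set z : L' := ψ (AdjoinRoot.root _) with hz
  have hze : z ^ e = gAL A K L' π := by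
    rw [hz, ← map_pow, AbhyAR.root_pow, hgA]
  intro W hW
  letI algAW : Algebra A W := (RingHom.codRestrict (gAL A K L') W hW.1).toAlgebra
  intro locAW
  have hπpos := val_pi_pos W hW π hirr
  have hπlt := val_pi_lt_one W hW π hirr
  have hzlt : W.valuation z < 1 := by
    by_contra hge
    push Not at hge
    have : 1 ≤ W.valuation z ^ e := one_le_pow₀ hge
    rw [← map_pow, hze] at this
    exact absurd hπlt (not_lt.mpr this)
  have hzW : z ∈ W := (W.valuation_le_one_iff _).mp hzlt.le
  have hψW : ∀ x, ψ x ∈ W := by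
    intro x
    obtain ⟨q, rfl⟩ := AdjoinRoot.mk_surjective x
    rw [← AdjoinRoot.aeval_eq, aeval_def, hom_eval₂, eval₂_eq_sum_range]
    refine W.sum_mem (fun i _ => W.mul_mem _ _ ?_ (W.pow_mem hzW i))
    have : (ψ.comp (algebraMap A (AdjoinRoot (X ^ e - C π : A[X])))) (q.coeff i) =
        gAL A K L' (q.coeff i) := (hgA _).symm
    rw [this]
    exact hW.1 _
  have hWA' : EtRam.Dominates (AdjoinRoot (X ^ e - C π : A[X])) ψ W := by
    refine ⟨hψW, fun x hx => ?_⟩
    rw [hmaxA', Ideal.mem_span_singleton'] at hx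
    obtain ⟨c, rfl⟩ := hx
    rw [map_mul, map_mul]
    calc W.valuation (ψ c) * W.valuation z ≤ 1 * W.valuation z := by
          gcongr
          exact (W.valuation_le_one_iff _).mpr (hψW c)
      _ = W.valuation z := one_mul _
      _ < 1 := hzlt
  letI algA'W : Algebra (AdjoinRoot (X ^ e - C π : A[X])) W :=
    (RingHom.codRestrict ψ W hWA'.1).toAlgebra
  haveI locA'W : IsLocalHom (algebraMap (AdjoinRoot (X ^ e - C π : A[X])) W) :=
    TameSub.isLocalHom_of_dominates _ _ W hWA'
  obtain ⟨hwu, sepA'W⟩ := hunr W hWA'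
  haveI : IsScalarTower A (AdjoinRoot (X ^ e - C π : A[X])) W :=
    IsScalarTower.of_algebraMap_eq (fun a => Subtype.ext (hgA a))
  haveI locAA' : IsLocalHom (algebraMap A (AdjoinRoot (X ^ e - C π : A[X]))) := by
    constructor
    intro a ha
    have h1 : IsUnit (AbhyAR.toRes π hπ e he0 (AdjoinRoot.of _ a)) := ha.map _
    rw [AbhyAR.toRes_of] at h1
    by_contra hnu
    exact h1.ne_zero ((residue_eq_zero_iff a).mpr ((mem_maximalIdeal a).mpr hnu))
  haveI sepAA' : Algebra.IsSeparable (ResidueField A)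
      (ResidueField (AdjoinRoot (X ^ e - C π : A[X]))) := by
    refine ⟨fun x => ?_⟩
    obtain ⟨x, rfl⟩ := residue_surjective x
    obtain ⟨a, ha⟩ := AbhyAR.exists_sub_mem π e x
    rw [← hmaxA', ← residue_eq_zero_iff, map_sub, sub_eq_zero] at ha
    have : residue _ x = algebraMap (ResidueField A)
        (ResidueField (AdjoinRoot (X ^ e - C π : A[X]))) (residue A a) := by
      rw [ha]; rfl
    rw [this]
    exact isSeparable_algebraMap _
  haveI := sepA'W
  refine ⟨Algebra.IsSeparable.trans (ResidueField A)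
    (ResidueField (AdjoinRoot (X ^ e - C π : A[X]))) (ResidueField W), ?_⟩
  intro p hpp hchar hdvd
  -- the ramification index is `e`
  have hmaxA : maximalIdeal A = Ideal.span {π} := hπ
  have hmapA : Ideal.map (algebraMap A W) (maximalIdeal A) = Ideal.span {algebraMap A W π} :=
    (congrArg (Ideal.map (algebraMap A W)) hmaxA).trans
      (by rw [Ideal.map_span, Set.image_singleton])
  have hπW : algebraMap A W π = (⟨z, hzW⟩ : W) ^ e := Subtype.ext hze.symm
  have hmaxW : maximalIdeal W = Ideal.span {(⟨z, hzW⟩ : W)} := by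
    unfold EtRam.IsWeaklyUnramified at hwu
    rw [← hwu]
    refine (congrArg (Ideal.map _) hmaxA').trans ?_
    rw [Ideal.map_span, Set.image_singleton]
    rfl
  have hz0 : (⟨z, hzW⟩ : W) ≠ 0 := by
    intro h0
    have h1 : z = 0 := congrArg Subtype.val h0
    rw [h1, zero_pow he0.ne'] at hze
    rw [← hze, map_zero] at hπpos
    exact lt_irrefl _ hπpos
  have hram : Ideal.ramificationIdx' (maximalIdeal A) (maximalIdeal W) = e := by
    apply Ideal.ramificationIdx'_spec
    · rw [hmapA, hmaxW, Ideal.span_singleton_pow, hπW]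
    · rw [hmapA, hmaxW, Ideal.span_singleton_pow, hπW, Ideal.span_singleton_le_span_singleton]
      rintro ⟨c, hc⟩
      have h1 : (⟨z, hzW⟩ : W) ^ e * 1 = (⟨z, hzW⟩ : W) ^ e * ((⟨z, hzW⟩ : W) * c) := by
        rw [mul_one, ← mul_assoc, ← pow_succ]; exact hc
      have h2 := mul_left_cancel₀ (pow_ne_zero e hz0) h1
      have hu : IsUnit (⟨z, hzW⟩ : W) := IsUnit.of_mul_eq_one _ h2.symm
      have h3 : W.valuation z = 1 := (W.valuation_eq_one_iff _).mp hu
      rw [h3] at hzlt
      exact lt_irrefl _ hzlt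
  rw [hram] at hdvd
  apply heres
  rw [CharP.cast_eq_zero_iff (ResidueField A) p]
  exact hdvd

end Back

section Main

open Polynomial IsLocalRing in
theorem main_9329 {A K L : Type u} [CommRing A] [IsDomain A]
    [IsDiscreteValuationRing A] [Field K] [Algebra A K] [IsFractionRing A K] [Field L] [Algebra K L]
    [Algebra A L] [IsScalarTower A K L] [FiniteDimensional K L] [Algebra.IsSeparable K L]
    (π : A) (hπ : maximalIdeal A = Ideal.span {π})
    (h : EtRam.IsTamelyRamified A (algebraMap A L)) :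
    ∃ e₀ : ℕ, 0 < e₀ ∧ (e₀ : ResidueField A) ≠ 0 ∧
      ∀ d : ℕ, 0 < d → (d : ResidueField A) ≠ 0 →
        ∃ (L' : Type u) (_ : Field L') (_ : Algebra K L')
          (_ : Algebra (AdjoinRoot (X ^ (d * e₀) - C π : A[X])) L') (_ : L →ₐ[K] L'),
          FiniteDimensional K L' ∧ Algebra.IsSeparable K L' ∧
          (algebraMap (AdjoinRoot (X ^ (d * e₀) - C π : A[X])) L').comp
              (AdjoinRoot.of (X ^ (d * e₀) - C π)) =
            (algebraMap K L').comp (algebraMap A K) ∧
          ∀ [IsLocalRing (AdjoinRoot (X ^ (d * e₀) - C π : A[X]))],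
            EtRam.IsUnramifiedExt (AdjoinRoot (X ^ (d * e₀) - C π : A[X]))
              (algebraMap (AdjoinRoot (X ^ (d * e₀) - C π : A[X])) L') := by
  rw [IsScalarTower.algebraMap_eq A K L] at h
  obtain ⟨e₀, he₀, he₀res, he₀div⟩ := exists_e0 (ResidueField A) (Module.finrank K L).factorial
    (Nat.factorial_pos _)
  refine ⟨e₀, he₀, he₀res, fun d hd hdres => ?_⟩
  exact AbhyMain.forward_core (K := K) (L := L) π hπ h (d * e₀) (Nat.mul_pos hd he₀)
    (by rw [Nat.cast_mul]; exact mul_ne_zero hdres he₀res)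
    (fun k hk hkres => Dvd.dvd.mul_left (he₀div k hk hkres) d)

open Polynomial IsLocalRing in
theorem main_9328 {A K L : Type u} [CommRing A] [IsDomain A]
    [IsDiscreteValuationRing A] [Field K] [Algebra A K] [IsFractionRing A K] [Field L] [Algebra K L]
    [Algebra A L] [IsScalarTower A K L] [FiniteDimensional K L] [Algebra.IsSeparable K L]
    (π : A) (hπ : maximalIdeal A = Ideal.span {π}) :
    EtRam.IsTamelyRamified A (algebraMap A L) ↔
      ∃ e : ℕ, 0 < e ∧ (e : ResidueField A) ≠ 0 ∧
        ∃ (L' : Type u) (_ : Field L') (_ : Algebra K L')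
          (_ : Algebra (AdjoinRoot (X ^ e - C π : A[X])) L') (_ : L →ₐ[K] L'),
          FiniteDimensional K L' ∧ Algebra.IsSeparable K L' ∧
          (algebraMap (AdjoinRoot (X ^ e - C π : A[X])) L').comp (AdjoinRoot.of (X ^ e - C π)) =
            (algebraMap K L').comp (algebraMap A K) ∧
          ∀ [IsLocalRing (AdjoinRoot (X ^ e - C π : A[X]))],
            EtRam.IsUnramifiedExt (AdjoinRoot (X ^ e - C π : A[X]))
              (algebraMap (AdjoinRoot (X ^ e - C π : A[X])) L') := by
  rw [IsScalarTower.algebraMap_eq A K L]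
  constructor
  · intro h
    obtain ⟨e₀, he₀, he₀res, he₀div⟩ := exists_e0 (ResidueField A) (Module.finrank K L).factorial
      (Nat.factorial_pos _)
    exact ⟨e₀, he₀, he₀res, AbhyMain.forward_core (K := K) (L := L) π hπ h e₀ he₀ he₀res he₀div⟩
  · rintro ⟨e, he0, heres, L', instF, instAlgK, instAlgA', φ, hfin, hsep, hcomp, hunr⟩
    haveI := hfin
    haveI := hsep
    haveI locA' := AbhyAR.isLocalRing π hπ e he0
    have hT' := tame_of_unram (K := K) π hπ e he0 heres L' hcomp hunr
    letI algLL' : Algebra L L' := φ.toRingHom.toAlgebra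
    haveI : IsScalarTower K L L' := IsScalarTower.of_algebraMap_eq (fun x => (φ.commutes x).symm)
    exact TameSub.main_1989_tame A K L L' hT'

end Main

end Groth.Agent.Lib.Helper26.AbhyBack
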