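import Mathlib

/-!
# Bases adapted to a decreasing filtration
-/

set_option autoImplicit false

namespace Groth.Agent.Lib.Helper26.AdaptedBasis

variable {k E : Type*} [Field k] [AddCommGroup E] [Module k E]

theorem finite_inf' (V W : Submodule k E) [Module.Finite k V] : Module.Finite k ↥(V ⊓ W) :=
  Module.Finite.of_injective (Submodule.inclusion (inf_le_left : V ⊓ W ≤ V))
    (Submodule.inclusion_injective _)

theorem finite_of_le' {V W : Submodule k E} [Module.Finite k W] (h : V ≤ W) : Module.Finite k V :=
  Module.Finite.of_injective (Submodule.inclusion h) (Submodule.inclusion_injective _)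

/-- A finite-dimensional subspace `V` with a decreasing filtration `V ⊓ F j` admits a basis
`b` with `b i ∈ F (m i) \ F (m i + 1)` and `∑ m i = ∑_{j ≥ 1} dim (V ⊓ F j)`; if the filtration
drops by at most one at each step, the `m i` are strictly decreasing. -/
theorem exists_adapted_basis (F : ℕ → Submodule k E) (hF : Antitone F) (B : ℕ) :
    ∀ (n : ℕ) (V : Submodule k E), Module.finrank k V = n → Module.Finite k V → V ≤ F 0 →
      V ⊓ F B = ⊥ →
      ∃ (b : Fin n → E) (m : Fin n → ℕ), LinearIndependent k b ∧
        Submodule.span k (Set.range b) = V ∧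
        (∀ i, b i ∈ F (m i)) ∧ (∀ i, b i ∉ F (m i + 1)) ∧
        ∑ i, m i = ∑ j ∈ Finset.range B, Module.finrank k ↥(V ⊓ F (j + 1)) ∧
        ((∀ j, Module.finrank k ↥(V ⊓ F j) ≤ Module.finrank k ↥(V ⊓ F (j + 1)) + 1) →
          StrictAnti m) := by
  classical
  intro n
  induction n with
  | zero =>
    intro V hV hfin _ _
    have hbot : V = ⊥ := by
      haveI := hfin
      exact Submodule.finrank_eq_zero.1 hV
    refine ⟨Fin.elim0, Fin.elim0, linearIndependent_empty_type, ?_, fun i => i.elim0,
      fun i => i.elim0, ?_, fun _ i => i.elim0⟩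
    · rw [hbot]; simp
    · rw [hbot]
      symm
      apply Finset.sum_eq_zero
      intro j _
      rw [bot_inf_eq, finrank_bot]
  | succ n ih =>
    intro V hV hfin hV0 hVB
    haveI := hfin
    have hVne : V ≠ ⊥ := by
      intro h
      rw [h, finrank_bot] at hV
      omega
    set Pj : ℕ → Prop := fun j => V ⊓ F j ≠ ⊥ with hPj
    have hP0 : Pj 0 := by
      simp only [hPj]
      rw [inf_eq_left.2 hV0]; exact hVne
    set j₀ := Nat.findGreatest Pj B with hj₀
    have hPj₀ : Pj j₀ := Nat.findGreatest_spec (Nat.zero_le B) hP0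
    have hj₀B : j₀ ≤ B := Nat.findGreatest_le B
    have hj₀lt : j₀ < B := by
      rcases Nat.lt_or_ge j₀ B with h | h
      · exact h
      · exfalso
        have : j₀ = B := le_antisymm hj₀B h
        rw [this] at hPj₀
        exact hPj₀ hVB
    have habove : ∀ j, j₀ < j → V ⊓ F j = ⊥ := by
      intro j hj
      rcases Nat.lt_or_ge B j with h | h
      · exact le_bot_iff.1 (hVB ▸ inf_le_inf le_rfl (hF h.le))
      · by_contra hne
        exact Nat.findGreatest_is_greatest hj h hne
    obtain ⟨f, hf, hf0⟩ := Submodule.exists_mem_ne_zero_of_ne_bot hPj₀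
    have hfV : f ∈ V := hf.1
    have hfF : ∀ j, j ≤ j₀ → f ∈ F j := fun j hj => hF hj hf.2
    have hfnot : f ∉ F (j₀ + 1) := by
      intro h
      have : f ∈ V ⊓ F (j₀ + 1) := ⟨hfV, h⟩
      rw [habove (j₀ + 1) (by omega)] at this
      exact hf0 (by simpa using this)
    set S : Submodule k E := Submodule.span k {f} with hS
    have hSV : S ≤ V := by
      rw [hS, Submodule.span_le, Set.singleton_subset_iff]; exact hfV
    have hSdim : Module.finrank k S = 1 := finrank_span_singleton hf0
    obtain ⟨q, hq⟩ := Submodule.exists_isCompl S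
    set V' : Submodule k E := V ⊓ q with hV'
    have hV'V : V' ≤ V := inf_le_left
    have hSV'bot : S ⊓ V' = ⊥ := by
      rw [eq_bot_iff]
      calc S ⊓ V' ≤ S ⊓ q := inf_le_inf le_rfl inf_le_right
        _ = ⊥ := hq.inf_eq_bot
    have hSV'sup : S ⊔ V' = V := by
      rw [hV', inf_comm, ← sup_inf_assoc_of_le q hSV, hq.sup_eq_top, top_inf_eq]
    haveI : Module.Finite k S := finite_of_le' hSV
    haveI : Module.Finite k V' := finite_of_le' hV'V
    have hV'dim : Module.finrank k V' = n := by
      have := Submodule.finrank_sup_add_finrank_inf_eq S V'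
      rw [hSV'sup, hSV'bot, finrank_bot, hV, hSdim] at this
      omega
    -- dimensions of the pieces
    have hpiece : ∀ j, j ≤ j₀ →
        Module.finrank k ↥(V ⊓ F j) = Module.finrank k ↥(V' ⊓ F j) + 1 := by
      intro j hj
      have hSF : S ≤ F j := by
        rw [hS, Submodule.span_le, Set.singleton_subset_iff]; exact hfF j hj
      have h1 : V ⊓ F j = S ⊔ (V' ⊓ F j) := by
        rw [← hSV'sup, sup_inf_assoc_of_le V' hSF]
      have h2 : S ⊓ (V' ⊓ F j) = ⊥ := by
        rw [eq_bot_iff]
        calc S ⊓ (V' ⊓ F j) ≤ S ⊓ V' := inf_le_inf le_rfl inf_le_left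
          _ = ⊥ := hSV'bot
      haveI : Module.Finite k ↥(V' ⊓ F j) := finite_inf' V' _
      have := Submodule.finrank_sup_add_finrank_inf_eq S (V' ⊓ F j)
      rw [← h1, h2, finrank_bot, hSdim] at this
      omega
    have hpiece' : ∀ j, j₀ < j → V' ⊓ F j = ⊥ := by
      intro j hj
      exact le_bot_iff.1 (habove j hj ▸ inf_le_inf hV'V le_rfl)
    obtain ⟨b', m', hli, hspan, hmem, hnmem, hsum, hstrict⟩ :=
      ih V' hV'dim inferInstance (hV'V.trans hV0)
        (le_bot_iff.1 (hVB ▸ inf_le_inf hV'V le_rfl))
    have hfV' : f ∉ V' := by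
      intro h
      have : f ∈ S ⊓ V' := ⟨Submodule.mem_span_singleton_self f, h⟩
      rw [hSV'bot] at this
      exact hf0 (by simpa using this)
    refine ⟨Fin.cons f b', Fin.cons j₀ m', ?_, ?_, ?_, ?_, ?_, ?_⟩
    · exact LinearIndependent.finCons hli (by rw [hspan]; exact hfV')
    · rw [Fin.range_cons, Submodule.span_insert, hspan, ← hS, hSV'sup]
    · intro i
      refine Fin.cases ?_ (fun i => ?_) i
      · simpa using hf.2
      · simpa using hmem i
    · intro i
      refine Fin.cases ?_ (fun i => ?_) i
      · simpa using hfnot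
      · simpa using hnmem i
    · rw [Fin.sum_univ_succ]
      simp only [Fin.cons_zero, Fin.cons_succ]
      rw [hsum]
      have h1 : ∀ j ∈ Finset.range B, Module.finrank k ↥(V ⊓ F (j + 1)) =
          Module.finrank k ↥(V' ⊓ F (j + 1)) + (if j < j₀ then 1 else 0) := by
        intro j _
        split_ifs with h
        · exact hpiece (j + 1) (by omega)
        · rw [habove (j + 1) (by omega), hpiece' (j + 1) (by omega)]
          simp
      rw [Finset.sum_congr rfl h1, Finset.sum_add_distrib, Finset.sum_boole]
      have h2 : (Finset.range B).filter (fun j => j < j₀) = Finset.range j₀ := by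
        ext j
        simp only [Finset.mem_filter, Finset.mem_range]
        omega
      rw [h2, Finset.card_range]
      simp only [Nat.cast_id]
      omega
    · intro hH
      have hH' : ∀ j, Module.finrank k ↥(V' ⊓ F j) ≤ Module.finrank k ↥(V' ⊓ F (j + 1)) + 1 := by
        intro j
        rcases Nat.lt_or_ge j j₀ with h | h
        · have := hH j
          rw [hpiece j h.le, hpiece (j + 1) (by omega)] at this
          omega
        · rcases Nat.lt_or_ge j₀ j with h' | h'
          · rw [hpiece' j h', finrank_bot]; omega
          · have hj : j = j₀ := le_antisymm h' h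
            have := hH j
            rw [hj, hpiece j₀ le_rfl, habove (j₀ + 1) (by omega), finrank_bot] at this
            rw [hj]
            omega
      have hsa := hstrict hH'
      have hlt : ∀ i, m' i < j₀ := by
        intro i
        have hb0 : b' i ≠ 0 := hli.ne_zero i
        have hbV' : b' i ∈ V' := by
          rw [← hspan]; exact Submodule.subset_span ⟨i, rfl⟩
        have hne : V' ⊓ F (m' i) ≠ ⊥ := by
          intro h
          have : b' i ∈ V' ⊓ F (m' i) := ⟨hbV', hmem i⟩
          rw [h] at this
          exact hb0 (by simpa using this)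
        rcases Nat.lt_or_ge (m' i) j₀ with h | h
        · exact h
        · exfalso
          rcases Nat.lt_or_ge j₀ (m' i) with h' | h'
          · exact hne (hpiece' _ h')
          · have hj : m' i = j₀ := le_antisymm h' h
            have h1 := hH j₀
            rw [hpiece j₀ le_rfl, habove (j₀ + 1) (by omega), finrank_bot] at h1
            have h2 : Module.finrank k ↥(V' ⊓ F j₀) = 0 := by omega
            haveI : Module.Finite k ↥(V' ⊓ F j₀) := finite_inf' V' _
            rw [Submodule.finrank_eq_zero] at h2
            rw [hj] at hne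
            exact hne h2
      rw [Fin.strictAnti_iff_succ_lt]
      intro i
      rw [Fin.cons_succ]
      rcases Fin.eq_zero_or_eq_succ (Fin.castSucc i) with h | ⟨j, hj⟩
      · rw [h, Fin.cons_zero]
        exact hlt i
      · rw [hj, Fin.cons_succ]
        apply hsa
        rw [Fin.lt_def]
        have := congrArg Fin.val hj
        simp only [Fin.val_castSucc, Fin.val_succ] at this
        omega

end Groth.Agent.Lib.Helper26.AdaptedBasis
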