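import Mathlib.RingTheory.AdicCompletion.Exactness

/-!
# Exactness of adic completion under an Artin–Rees type hypothesis

Mathlib proves exactness of adic completion only for finite modules over Noetherian rings.
Here we extract the only input actually used: an Artin–Rees type bound
`f ⁻¹ (I ^ (n + k) N) ≤ I ^ n M`.
-/

namespace Groth.Agent.Lib.Helper26

open AdicCompletion Submodule

variable {R : Type*} [CommRing R] (I : Ideal R)
variable {M N P : Type*} [AddCommGroup M] [Module R M] [AddCommGroup N] [Module R N]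
  [AddCommGroup P] [Module R P]

/-- If `f ⁻¹ (I ^ (n + k) N) ≤ I ^ n M` for all `n`, then `f` induces an injective
map on `I`-adic completions. -/
theorem adicCompletion_map_injective_of_comap_le {f : M →ₗ[R] N} (k : ℕ)
    (hk : ∀ n, (I ^ (n + k) • ⊤ : Submodule R N).comap f ≤ I ^ n • ⊤) :
    Function.Injective (AdicCompletion.map I f) := by
  rw [injective_iff_map_eq_zero]
  intro x
  apply AdicCompletion.induction_on I M x (fun a ↦ ?_)
  intro hx
  refine AdicCompletion.mk_zero_of _ _ _ ⟨0, fun n _ ↦ ⟨n + k, by lia, n, le_rfl, ?_⟩⟩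
  apply hk n
  simpa using congrArg (fun x ↦ x.val (n + k)) hx

/-- If `f ⁻¹ (I ^ (n + k) N) ≤ I ^ n M` for all `n`, `M → N → P` is exact and `N → P` is
surjective, then the sequence of `I`-adic completions is exact. -/
theorem adicCompletion_map_exact_of_comap_le {f : M →ₗ[R] N} {g : N →ₗ[R] P}
    (hfg : Function.Exact f g) (hg : Function.Surjective g) (k : ℕ)
    (hk : ∀ n, (I ^ (n + k) • ⊤ : Submodule R N).comap f ≤ I ^ n • ⊤) :
    Function.Exact (AdicCompletion.map I f) (AdicCompletion.map I g) := by
  refine LinearMap.exact_of_comp_eq_zero_of_ker_le_range ?_ (fun y ↦ ?_)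
  · rw [AdicCompletion.map_comp, hfg.linearMap_comp_eq_zero, AdicCompletion.map_zero]
  · apply AdicCompletion.induction_on I N y (fun b ↦ ?_)
    intro hz
    have hb (n : ℕ) : g (b n) ∈ (I ^ n • ⊤ : Submodule R P) := by
      simpa using congrArg (fun x ↦ x.val n) hz
    have h1 (n : ℕ) : ∃ a : M, f a - b n ∈ (I ^ n • ⊤ : Submodule R N) := by
      have : g (b n) ∈ Submodule.map g (I ^ n • ⊤ : Submodule R N) := by
        rw [map_smul'', Submodule.map_top, LinearMap.range_eq_top.mpr hg]; exact hb n
      obtain ⟨d, hd, hgd⟩ := this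
      obtain ⟨a, ha⟩ := (hfg (b n - d)).mp (by simp [hgd])
      refine ⟨a, ?_⟩
      rw [ha]
      simpa using neg_mem hd
    choose a ha using h1
    have hle (m n : ℕ) (hmn : m ≤ n) : (I ^ n • ⊤ : Submodule R N) ≤ I ^ m • ⊤ :=
      Submodule.smul_mono_left (Ideal.pow_le_pow_right hmn)
    have hcauchy : ∀ n, a (n + k) ≡ a (n + 1 + k) [SMOD (I ^ n • ⊤ : Submodule R M)] := by
      intro n
      rw [SModEq.sub_mem]
      apply hk n
      show f (a (n + k) - a (n + 1 + k)) ∈ (I ^ (n + k) • ⊤ : Submodule R N)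
      have e : f (a (n + k) - a (n + 1 + k)) = (f (a (n + k)) - b (n + k))
          - (f (a (n + 1 + k)) - b (n + 1 + k)) - (b (n + 1 + k) - b (n + k)) := by
        rw [map_sub]; abel
      rw [e]
      refine sub_mem (sub_mem (ha _) (hle _ _ (by lia) (ha _))) ?_
      rw [← Submodule.Quotient.eq]
      exact AdicCauchySequence.mk_eq_mk (by lia) b
    refine ⟨AdicCompletion.mk I M (AdicCauchySequence.mk I M (fun n ↦ a (n + k)) hcauchy), ?_⟩
    ext n
    suffices h : Submodule.Quotient.mk (p := (I ^ n • ⊤ : Submodule R N)) (f (a (n + k))) =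
        Submodule.Quotient.mk (p := (I ^ n • ⊤ : Submodule R N)) (b (n + k)) by
      simp [h, AdicCauchySequence.mk_eq_mk (show n ≤ n + k by lia)]
    rw [Submodule.Quotient.eq]
    exact hle _ _ (by lia) (ha _)

end Groth.Agent.Lib.Helper26
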