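import Mathlib

/-!
# Adic completion and weakly regular sequences under bounded torsion
-/

set_option autoImplicit false
set_option linter.unusedSectionVars false
universe u

namespace Groth.Agent.Lib.Helper26.AdicReg
open AdicCompletion LinearMap Submodule

variable {R : Type u} [CommRing R] (I : Ideal R)
variable {M : Type u} [AddCommGroup M] [Module R M]
variable {N : Type u} [AddCommGroup N] [Module R N]
variable {P : Type u} [AddCommGroup P] [Module R P]

/-- The uniform Artin–Rees type hypothesis on `f`. -/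
def HasShift (f : M →ₗ[R] N) (k : ℕ) : Prop :=
  ∀ (n : ℕ) (z : M), f z ∈ (I ^ (n + k) • ⊤ : Submodule R N) → z ∈ (I ^ n • ⊤ : Submodule R M)

theorem map_injective_of_hasShift {f : M →ₗ[R] N} {k : ℕ} (hk : HasShift I f k) :
    Function.Injective (AdicCompletion.map I f) := by
  rw [← LinearMap.ker_eq_bot, LinearMap.ker_eq_bot']
  intro x
  apply AdicCompletion.induction_on I M x (fun a ↦ ?_)
  intro hx
  refine AdicCompletion.mk_zero_of _ _ _ ⟨0, fun n _ ↦ ⟨n + k, by lia, n, by lia, ?_⟩⟩
  apply hk
  simpa using congrArg (fun x ↦ x.val (n + k)) hx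

theorem map_exact_of_hasShift {f : M →ₗ[R] N} {g : N →ₗ[R] P} {k : ℕ} (hk : HasShift I f k)
    (hfg : Function.Exact f g) (hg : Function.Surjective g) :
    Function.Exact (AdicCompletion.map I f) (AdicCompletion.map I g) := by
  refine LinearMap.exact_of_comp_eq_zero_of_ker_le_range ?_ (fun y ↦ ?_)
  · rw [AdicCompletion.map_comp, hfg.linearMap_comp_eq_zero, AdicCompletion.map_zero]
  · apply AdicCompletion.induction_on I N y (fun b ↦ ?_)
    intro hz
    have hb (n : ℕ) : g (b n) ∈ (I ^ n • ⊤ : Submodule R P) := by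
      simpa using congrArg (fun x ↦ x.val n) hz
    -- choose preimages
    have hex : ∀ n : ℕ, ∃ y : M, f y - b n ∈ (I ^ n • ⊤ : Submodule R N) := by
      intro n
      have h1 : g (b n) ∈ Submodule.map g (I ^ n • ⊤ : Submodule R N) := by
        rw [Submodule.map_smul'', Submodule.map_top, LinearMap.range_eq_top.mpr hg]
        exact hb n
      obtain ⟨d, hdmem, hd⟩ := h1
      obtain ⟨y, hy⟩ := (hfg (b n - d)).mp (by simp [hd])
      refine ⟨y, ?_⟩
      rw [hy]
      simpa using (Submodule.neg_mem _ hdmem)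
    choose y hy using hex
    have hcauchy : ∀ n, y (n + k) ≡ y (n + 1 + k) [SMOD (I ^ n • ⊤ : Submodule R M)] := by
      intro n
      rw [SModEq.sub_mem]
      apply hk
      have h1 : f (y (n + k) - y (n + 1 + k)) =
          (f (y (n + k)) - b (n + k)) - (f (y (n + 1 + k)) - b (n + 1 + k))
            + (b (n + k) - b (n + 1 + k)) := by
        rw [map_sub]; abel
      rw [h1]
      refine Submodule.add_mem _ (Submodule.sub_mem _ (hy _) ?_) ?_
      · exact (Submodule.smul_mono_left (Ideal.pow_le_pow_right (by lia))) (hy (n + 1 + k))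
      · rw [← SModEq.sub_mem]
        exact b.property (by lia)
    refine ⟨AdicCompletion.mk I M (AdicCauchySequence.mk I M (fun n ↦ y (n + k)) hcauchy), ?_⟩
    ext n
    suffices h : Submodule.Quotient.mk (p := (I ^ n • ⊤ : Submodule R N)) (f (y (n + k))) =
          Submodule.Quotient.mk (p := (I ^ n • ⊤ : Submodule R N)) (b (n + k)) by
      simp [h, AdicCauchySequence.mk_eq_mk (show n ≤ n + k by lia)]
    rw [Submodule.Quotient.eq]
    exact (Submodule.smul_mono_left (Ideal.pow_le_pow_right (by lia))) (hy (n + k))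

theorem mem_span_pow_smul_top_iff (a : R) (n : ℕ) (z : M) :
    z ∈ ((Ideal.span {a}) ^ n • ⊤ : Submodule R M) ↔ ∃ w : M, z = a ^ n • w := by
  rw [Ideal.span_singleton_pow, Submodule.ideal_span_singleton_smul,
    Submodule.mem_smul_pointwise_iff_exists]
  constructor
  · rintro ⟨w, -, rfl⟩; exact ⟨w, rfl⟩
  · rintro ⟨w, rfl⟩; exact ⟨w, trivial, rfl⟩

theorem hasShift_of_bounded_torsion (a : R) {f : M →ₗ[R] N} {g : N →ₗ[R] P}
    (hf : Function.Injective f) (hfg : Function.Exact f g) (K : ℕ)
    (hK : ∀ p : P, (∃ m : ℕ, a ^ m • p = 0) → a ^ K • p = 0) :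
    HasShift (Ideal.span {a}) f K := by
  intro n z hz
  rw [mem_span_pow_smul_top_iff] at hz ⊢
  obtain ⟨w, hw⟩ := hz
  have h1 : a ^ (n + K) • g w = 0 := by
    rw [← map_smul, ← hw]
    exact hfg.apply_apply_eq_zero z
  have h2 : a ^ K • g w = 0 := hK _ ⟨_, h1⟩
  rw [← map_smul] at h2
  obtain ⟨z', hz'⟩ := (hfg _).mp h2
  refine ⟨z', hf ?_⟩
  rw [hw, map_smul, hz', pow_add, mul_smul]

section Main

variable (A : Type u) [CommRing A] (a : A)

theorem map_lsmul (r : A) (M : Type u) [AddCommGroup M] [Module A M]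
    (x : AdicCompletion (Ideal.span {a}) M) :
    AdicCompletion.map (Ideal.span {a}) (LinearMap.lsmul A M r) x = r • x := by
  ext n
  rw [AdicCompletion.map_val_apply, AdicCompletion.val_smul_apply]
  obtain ⟨y, hy⟩ := Submodule.Quotient.mk_surjective _ (x.val n)
  rw [← hy]
  rfl

/-- the kernel always contains the extended ideal -/
theorem map_le_ker (J : Ideal A) :
    J.map (algebraMap A (AdicCompletion (Ideal.span {a}) A)) ≤
      LinearMap.ker (AdicCompletion.map (Ideal.span {a}) J.mkQ) := by
  refine Ideal.map_le_iff_le_comap.mpr ?_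
  intro j hj
  change algebraMap A (AdicCompletion (Ideal.span {a}) A) j ∈
    LinearMap.ker (AdicCompletion.map (Ideal.span {a}) J.mkQ)
  rw [LinearMap.mem_ker]
  have : algebraMap A (AdicCompletion (Ideal.span {a}) A) j = AdicCompletion.of _ _ j := rfl
  rw [this, AdicCompletion.map_of]
  have : J.mkQ j = 0 := by
    rw [Submodule.mkQ_apply, Submodule.Quotient.mk_eq_zero]; exact hj
  rw [this, _root_.map_zero]

/-- data of one step -/
theorem step_data (J : Ideal A) (r : A) (hreg : ∀ x : A, r * x ∈ J → x ∈ J) :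
    Function.Injective (LinearMap.lsmul A (A ⧸ J) r) ∧
    Function.Exact (LinearMap.lsmul A (A ⧸ J) r)
      (Submodule.factor (le_sup_left : J ≤ J ⊔ Ideal.span {r})) := by
  set J' := J ⊔ Ideal.span {r} with hJ'
  constructor
  · rw [← LinearMap.ker_eq_bot, LinearMap.ker_eq_bot']
    intro y hy
    obtain ⟨x, rfl⟩ := Submodule.Quotient.mk_surjective _ y
    change r • Submodule.Quotient.mk (p := J) x = 0 at hy
    rw [← Submodule.Quotient.mk_smul, Submodule.Quotient.mk_eq_zero, smul_eq_mul] at hy
    rw [Submodule.Quotient.mk_eq_zero]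
    exact hreg x hy
  · intro y
    obtain ⟨x, rfl⟩ := Submodule.Quotient.mk_surjective _ y
    change Submodule.Quotient.mk (p := J') x = 0 ↔ _
    rw [Submodule.Quotient.mk_eq_zero, hJ', Submodule.mem_sup]
    constructor
    · rintro ⟨j, hj, s, hs, rfl⟩
      obtain ⟨c, rfl⟩ := Ideal.mem_span_singleton'.mp hs
      refine ⟨Submodule.Quotient.mk c, ?_⟩
      change r • Submodule.Quotient.mk (p := J) c = _
      rw [← Submodule.Quotient.mk_smul, eq_comm, Submodule.Quotient.eq]
      simpa [mul_comm] using hj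
    · rintro ⟨y', hy'⟩
      obtain ⟨c, rfl⟩ := Submodule.Quotient.mk_surjective _ y'
      change r • Submodule.Quotient.mk (p := J) c = _ at hy'
      rw [← Submodule.Quotient.mk_smul, eq_comm, Submodule.Quotient.eq] at hy'
      refine ⟨x - r • c, hy', r • c, ?_, by abel⟩
      rw [smul_eq_mul, mul_comm]
      exact Ideal.mem_span_singleton'.mpr ⟨c, rfl⟩

/-- one step -/
theorem ker_step (J : Ideal A) (r : A)
    (hreg : ∀ x : A, r * x ∈ J → x ∈ J)
    (K : ℕ) (hK : ∀ x : A ⧸ (J ⊔ Ideal.span {r}), (∃ m : ℕ, a ^ m • x = 0) → a ^ K • x = 0)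
    (hJ : LinearMap.ker (AdicCompletion.map (Ideal.span {a}) J.mkQ) ≤
      J.map (algebraMap A (AdicCompletion (Ideal.span {a}) A))) :
    LinearMap.ker (AdicCompletion.map (Ideal.span {a}) (J ⊔ Ideal.span {r}).mkQ) ≤
      (J ⊔ Ideal.span {r}).map (algebraMap A (AdicCompletion (Ideal.span {a}) A)) := by
  have hle : J ≤ J ⊔ Ideal.span {r} := le_sup_left
  obtain ⟨hf, hfg⟩ := step_data A J r hreg
  have hg : Function.Surjective (Submodule.factor hle) := Submodule.factor_surjective hle
  have hshift := hasShift_of_bounded_torsion a hf hfg K hK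
  have hexact := map_exact_of_hasShift (Ideal.span {a}) hshift hfg hg
  have hcomp : (J ⊔ Ideal.span {r}).mkQ = (Submodule.factor hle) ∘ₗ J.mkQ :=
    (Submodule.factor_comp_mk hle).symm
  intro x hx
  rw [LinearMap.mem_ker, hcomp, ← AdicCompletion.map_comp_apply] at hx
  obtain ⟨y, hy⟩ := (hexact _).mp hx
  obtain ⟨x', rfl⟩ := AdicCompletion.map_surjective (Ideal.span {a}) J.mkQ_surjective y
  rw [map_lsmul] at hy
  have h1 : x - algebraMap A _ r * x' ∈
      LinearMap.ker (AdicCompletion.map (Ideal.span {a}) J.mkQ) := by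
    rw [LinearMap.mem_ker, map_sub, ← hy, ← smul_eq_mul, map_smul, algebraMap_smul, sub_self]
  have h2 := hJ h1
  have h3 : x = (x - algebraMap A _ r * x') + algebraMap A _ r * x' := by ring
  rw [h3]
  refine Ideal.add_mem _ (Ideal.map_mono hle h2) (Ideal.mul_mem_right _ _ ?_)
  exact Ideal.mem_map_of_mem _ (Ideal.mem_sup_right (Ideal.mem_span_singleton_self r))

theorem smul_injective_completion (J : Ideal A) (r : A)
    (hreg : ∀ x : A, r * x ∈ J → x ∈ J)
    (K : ℕ) (hK : ∀ x : A ⧸ (J ⊔ Ideal.span {r}), (∃ m : ℕ, a ^ m • x = 0) → a ^ K • x = 0)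
    (y : AdicCompletion (Ideal.span {a}) (A ⧸ J)) (hy : r • y = 0) : y = 0 := by
  obtain ⟨hf, hfg⟩ := step_data A J r hreg
  have hshift := hasShift_of_bounded_torsion a hf hfg K hK
  have hinj := map_injective_of_hasShift (Ideal.span {a}) hshift
  apply hinj
  rw [map_lsmul, hy, _root_.map_zero]

theorem ker_bot :
    LinearMap.ker (AdicCompletion.map (Ideal.span {a}) (⊥ : Ideal A).mkQ) ≤
      (⊥ : Ideal A).map (algebraMap A (AdicCompletion (Ideal.span {a}) A)) := by
  have hshift : HasShift (Ideal.span {a}) (⊥ : Ideal A).mkQ 0 := by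
    intro n z hz
    rw [mem_span_pow_smul_top_iff] at hz ⊢
    obtain ⟨w, hw⟩ := hz
    obtain ⟨w', rfl⟩ := Submodule.Quotient.mk_surjective _ w
    refine ⟨w', ?_⟩
    rw [add_zero, Submodule.mkQ_apply, ← Submodule.Quotient.mk_smul, Submodule.Quotient.eq,
      Submodule.mem_bot, sub_eq_zero] at hw
    exact hw
  have hinj := map_injective_of_hasShift (Ideal.span {a}) hshift
  intro x hx
  rw [LinearMap.mem_ker] at hx
  have : x = 0 := hinj (by rw [hx, _root_.map_zero])
  rw [this]
  exact Submodule.zero_mem _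

open RingTheory.Sequence in
theorem regular_of (rs : List A) (hreg : IsWeaklyRegular A rs) (i : ℕ) (hi : i < rs.length) :
    ∀ x : A, rs[i] * x ∈ Ideal.ofList (rs.take i) → x ∈ Ideal.ofList (rs.take i) := by
  have h := hreg.regular_mod_prev i hi
  rw [isSMulRegular_quotient_iff_mem_of_smul_mem] at h
  intro x hx
  have h1 := h x
  rw [smul_eq_mul, Ideal.mul_top] at h1
  exact h1 hx

open RingTheory.Sequence in
theorem ker_le (rs : List A) (hreg : IsWeaklyRegular A rs)
    (hbd : ∀ i ≤ rs.length, ∃ N : ℕ, ∀ x : A ⧸ Ideal.ofList (rs.take i),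
      (∃ m : ℕ, a ^ m • x = 0) → a ^ N • x = 0) :
    ∀ i, i ≤ rs.length →
      LinearMap.ker (AdicCompletion.map (Ideal.span {a}) (Ideal.ofList (rs.take i)).mkQ) ≤
      (Ideal.ofList (rs.take i)).map (algebraMap A (AdicCompletion (Ideal.span {a}) A)) := by
  intro i
  induction i with
  | zero =>
    intro _
    rw [List.take_zero, Ideal.ofList_nil]
    exact ker_bot A a
  | succ i ih =>
    intro hi
    have hi' : i < rs.length := hi
    obtain ⟨K, hK⟩ := hbd (i + 1) hi
    have key : Ideal.ofList (rs.take (i + 1)) = Ideal.ofList (rs.take i) ⊔ Ideal.span {rs[i]} := by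
      rw [List.take_succ_eq_append_getElem hi', Ideal.ofList_append, Ideal.ofList_singleton]
    rw [key] at hK ⊢
    exact ker_step A a _ _ (regular_of A rs hreg i hi') K hK (ih hi'.le)

open RingTheory.Sequence in
theorem main (rs : List A)
    (hreg : IsWeaklyRegular A rs)
    (hbd : ∀ i ≤ rs.length, ∃ N : ℕ, ∀ x : A ⧸ Ideal.ofList (rs.take i),
      (∃ m : ℕ, a ^ m • x = 0) → a ^ N • x = 0) :
    IsWeaklyRegular (AdicCompletion (Ideal.span {a}) A)
        (rs.map (algebraMap A (AdicCompletion (Ideal.span {a}) A))) ∧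
      Function.Surjective (AdicCompletion.map (Ideal.span {a}) (Ideal.ofList rs).mkQ) ∧
      LinearMap.ker (AdicCompletion.map (Ideal.span {a}) (Ideal.ofList rs).mkQ) =
        (Ideal.ofList rs).map (algebraMap A (AdicCompletion (Ideal.span {a}) A)) := by
  refine ⟨?_, AdicCompletion.map_surjective _ (Submodule.mkQ_surjective _), ?_⟩
  · constructor
    intro i hi
    rw [List.length_map] at hi
    rw [isSMulRegular_quotient_iff_mem_of_smul_mem]
    have hlist : Ideal.ofList ((rs.map (algebraMap A (AdicCompletion (Ideal.span {a}) A))).take i)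
        = (Ideal.ofList (rs.take i)).map (algebraMap A (AdicCompletion (Ideal.span {a}) A)) := by
      rw [Ideal.map_ofList, List.map_take]
    rw [hlist, List.getElem_map, smul_eq_mul, Ideal.mul_top]
    intro x hx
    obtain ⟨K, hK⟩ := hbd (i + 1) hi
    have key : Ideal.ofList (rs.take (i + 1)) = Ideal.ofList (rs.take i) ⊔ Ideal.span {rs[i]} := by
      rw [List.take_succ_eq_append_getElem hi, Ideal.ofList_append, Ideal.ofList_singleton]
    rw [key] at hK
    apply ker_le A a rs hreg hbd i hi.le
    rw [LinearMap.mem_ker]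
    apply smul_injective_completion A a _ _ (regular_of A rs hreg i hi) K hK
    have h1 : AdicCompletion.map (Ideal.span {a}) (Ideal.ofList (rs.take i)).mkQ
        ((algebraMap A (AdicCompletion (Ideal.span {a}) A)) rs[i] • x) = 0 :=
      map_le_ker A a _ hx
    rw [map_smul, algebraMap_smul] at h1
    exact h1
  · apply le_antisymm
    · have := ker_le A a rs hreg hbd rs.length le_rfl
      rwa [List.take_length] at this
    · exact map_le_ker A a _

end Main

end Groth.Agent.Lib.Helper26.AdicReg
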