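import Mathlib
import Groth.Agent.S10833
import Groth.Agent.Lib.Helper12.IntegralDim

namespace Groth.Agent.Lib.Helper26.ProjIntA
universe u

section dimdrop

/-- dimension drop in a finitely generated algebra over a field -/
theorem dim_drop (k : Type u) [Field k] {R : Type u} [CommRing R] [Algebra k R]
    [Algebra.FiniteType k R] (p : Ideal R) [hp : p.IsPrime] (f : R) (hfp : f ∉ p) (q : Ideal R)
    (hq : q ∈ (p ⊔ Ideal.span {f}).minimalPrimes) :
    ringKrullDim (R ⧸ p) = ringKrullDim (R ⧸ q) + 1 := by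
  haveI hqp : q.IsPrime := hq.1.1
  haveI : IsNoetherianRing R := Algebra.FiniteType.isNoetherianRing k R
  have hpq : p ≤ q := le_sup_left.trans hq.1.2
  have hfq : f ∈ q := hq.1.2 (le_sup_right (a := p) (Ideal.mem_span_singleton_self f))
  let mk := Ideal.Quotient.mk p
  have hmk : Function.Surjective mk := Ideal.Quotient.mk_surjective
  have hker : RingHom.ker mk ≤ q := by rw [Ideal.mk_ker]; exact hpq
  haveI hQ : (q.map mk).IsPrime := Ideal.map_isPrime_of_surjective hmk hker
  have hcomap : (q.map mk).comap mk = q := by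
    rw [Ideal.comap_map_of_surjective mk hmk, ← RingHom.ker_eq_comap_bot, Ideal.mk_ker]
    exact sup_eq_left.mpr hpq
  have hQ0 : q.map mk ≠ ⊥ := by
    intro h
    have h1 : mk f ∈ q.map mk := Ideal.mem_map_of_mem mk hfq
    rw [h, Ideal.mem_bot, Ideal.Quotient.eq_zero_iff_mem] at h1
    exact hfp h1
  have hmin : q.map mk ∈ (Ideal.span {mk f}).minimalPrimes := by
    refine ⟨⟨hQ, ?_⟩, ?_⟩
    · rw [Ideal.span_singleton_le_iff_mem]
      exact Ideal.mem_map_of_mem mk hfq
    · rintro Q' ⟨hQ'prime, hQ'f⟩ hQ'le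
      have h1 : p ⊔ Ideal.span {f} ≤ Q'.comap mk := by
        apply sup_le
        · intro a ha
          rw [Ideal.mem_comap]
          have : mk a = 0 := Ideal.Quotient.eq_zero_iff_mem.mpr ha
          rw [this]
          exact Q'.zero_mem
        · rw [Ideal.span_singleton_le_iff_mem, Ideal.mem_comap]
          exact hQ'f (Ideal.mem_span_singleton_self _)
      have h2 : Q'.comap mk ≤ q := by
        rw [← hcomap]
        exact Ideal.comap_mono hQ'le
      have h3 : q ≤ Q'.comap mk := hq.2 ⟨Ideal.comap_isPrime mk Q', h1⟩ h2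
      calc q.map mk ≤ (Q'.comap mk).map mk := Ideal.map_mono h3
        _ ≤ Q' := Ideal.map_comap_le
  have hht : (q.map mk).height ≤ 1 :=
    Ideal.height_le_one_of_isPrincipal_of_mem_minimalPrimes _ _ hmin
  have hcov : ∀ Q' : Ideal (R ⧸ p), Q'.IsPrime → Q' < q.map mk → Q' = ⊥ := by
    intro Q' hQ' hlt
    by_contra hne
    have hbot : (⊥ : Ideal (R ⧸ p)) < Q' := bot_lt_iff_ne_bot.mpr hne
    haveI : (⊥ : Ideal (R ⧸ p)).IsPrime := Ideal.isPrime_bot
    have h1 := Ideal.height_add_one_le_of_lt_of_isPrime hbot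
    have h2 := Ideal.height_add_one_le_of_lt_of_isPrime hlt
    rw [Ideal.height_bot, zero_add] at h1
    have h3 : (2 : ℕ∞) ≤ (q.map mk).height :=
      calc (2 : ℕ∞) = 1 + 1 := by norm_num
        _ ≤ Q'.height + 1 := by gcongr
        _ ≤ _ := h2
    have := h3.trans hht
    norm_num at this
  haveI : Algebra.FiniteType k (R ⧸ p) :=
    Algebra.FiniteType.of_surjective (Ideal.Quotient.mkₐ k p) (Ideal.Quotient.mkₐ_surjective k p)
  have key := Groth.Agent.S10833.dim_eq_dim_quot_add_one k (q.map mk) hQ0 hcov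
  rw [key]
  congr 1
  exact ringKrullDim_eq_of_ringEquiv (DoubleQuot.quotQuotEquivQuotOfLE hpq)

/-- iterated dimension drop -/
theorem dim_le_add (k : Type u) [Field k] {R : Type u} [CommRing R] [Algebra k R]
    [Algebra.FiniteType k R] : ∀ (m : ℕ) (p : Ideal R) [p.IsPrime] (d : Fin m → R) (q : Ideal R),
    q ∈ (p ⊔ Ideal.span (Set.range d)).minimalPrimes →
    ringKrullDim (R ⧸ p) ≤ ringKrullDim (R ⧸ q) + (m : WithBot ℕ∞) := by
  intro m
  induction m with
  | zero =>
    intro p hp d q hq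
    have h0 : Set.range d = ∅ := Set.range_eq_empty d
    rw [h0, Ideal.span_empty, sup_bot_eq] at hq
    have : q = p := by
      have h1 : p ≤ q := hq.1.2
      have h2 : q ≤ p := hq.2 ⟨hp, le_rfl⟩ h1
      exact le_antisymm h2 h1
    rw [this]
    simp
  | succ m ih =>
    intro p hp d q hq
    haveI hqp : q.IsPrime := hq.1.1
    set f := d 0 with hf
    set d' : Fin m → R := fun i => d i.succ with hd'
    have hrange : Ideal.span (Set.range d) = Ideal.span {f} ⊔ Ideal.span (Set.range d') := by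
      rw [← Ideal.span_union]
      congr 1
      ext x
      simp only [Set.mem_range, Set.singleton_union, Set.mem_insert_iff]
      constructor
      · rintro ⟨i, rfl⟩
        refine Fin.cases ?_ (fun j => ?_) i
        · left; rfl
        · right; exact ⟨j, rfl⟩
      · rintro (rfl | ⟨j, rfl⟩)
        · exact ⟨0, rfl⟩
        · exact ⟨j.succ, rfl⟩
    have hpf : p ⊔ Ideal.span {f} ≤ q := by
      refine le_trans ?_ hq.1.2
      rw [hrange, ← sup_assoc]
      exact le_sup_left
    obtain ⟨q₁, hq₁, hq₁q⟩ := Ideal.exists_minimalPrimes_le hpf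
    haveI : q₁.IsPrime := hq₁.1.1
    have hq' : q ∈ (q₁ ⊔ Ideal.span (Set.range d')).minimalPrimes := by
      refine ⟨⟨hqp, sup_le hq₁q ?_⟩, ?_⟩
      · refine le_trans ?_ hq.1.2
        rw [hrange, ← sup_assoc]
        exact le_sup_right
      · rintro 𝔓 ⟨h𝔓, hle⟩ h𝔓q
        apply hq.2 ⟨h𝔓, ?_⟩ h𝔓q
        rw [hrange, ← sup_assoc]
        exact sup_le (hq₁.1.2.trans (le_sup_left.trans hle)) (le_sup_right.trans hle)
    have h1 := ih q₁ d' q hq'
    have h2 : ringKrullDim (R ⧸ p) ≤ ringKrullDim (R ⧸ q₁) + 1 := by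
      by_cases hfp : f ∈ p
      · have hpp : p ⊔ Ideal.span {f} = p := by
          rw [sup_eq_left, Ideal.span_singleton_le_iff_mem]
          exact hfp
        rw [hpp] at hq₁
        have : q₁ = p := le_antisymm (hq₁.2 ⟨hp, le_rfl⟩ hq₁.1.2) hq₁.1.2
        rw [this]
        exact le_add_of_nonneg_right zero_le_one
      · exact (dim_drop k p f hfp q₁ hq₁).le
    calc ringKrullDim (R ⧸ p) ≤ ringKrullDim (R ⧸ q₁) + 1 := h2
      _ ≤ (ringKrullDim (R ⧸ q) + (m : WithBot ℕ∞)) + 1 := by gcongr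
      _ = ringKrullDim (R ⧸ q) + ((m + 1 : ℕ) : WithBot ℕ∞) := by
        push_cast
        rw [add_assoc]

end dimdrop

end Groth.Agent.Lib.Helper26.ProjIntA
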