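import Mathlib
import Groth.Agent.Lib.Helper12.IntegralDim

namespace Groth.Agent.Lib.Helper26.ProjIntB
universe u
open TensorProduct

section flat
variable (k : Type u) [Field k] (R₂ K₂ K₁ : Type u) [CommRing R₂] [Field K₂] [Field K₁]
  [Algebra k R₂] [Algebra k K₂] [Algebra k K₁] [Algebra R₂ K₂] [IsScalarTower k R₂ K₂]
  [IsDomain R₂] [FaithfulSMul R₂ K₂]

omit [IsDomain R₂] in
include k in
theorem flat_field : Module.Flat R₂ K₂ := by
  haveI : IsDomain R₂ := (FaithfulSMul.algebraMap_injective R₂ K₂).isDomain _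
  letI := FractionRing.liftAlgebra R₂ K₂
  exact Module.Flat.trans R₂ (FractionRing R₂) K₂

/-- the algebra structure -/
noncomputable abbrev mapAlg : (R₂ ⊗[k] K₁) →ₐ[k] (K₂ ⊗[k] K₁) :=
  Algebra.TensorProduct.map (IsScalarTower.toAlgHom k R₂ K₂) (AlgHom.id k K₁)

theorem flat_tensor :
    letI := (mapAlg k R₂ K₂ K₁).toRingHom.toAlgebra
    Module.Flat (R₂ ⊗[k] K₁) (K₂ ⊗[k] K₁) := by
  letI := (mapAlg k R₂ K₂ K₁).toRingHom.toAlgebra
  haveI : IsScalarTower R₂ (R₂ ⊗[k] K₁) (K₂ ⊗[k] K₁) := IsScalarTower.of_algebraMap_eq' (by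
    ext x
    simp [RingHom.algebraMap_toAlgebra, Algebra.TensorProduct.algebraMap_apply])
  have hpo : Algebra.IsPushout R₂ K₂ (R₂ ⊗[k] K₁) (K₂ ⊗[k] K₁) :=
    Algebra.IsPushout.tensorProduct_tensorProduct k K₁ R₂ K₂ (by
      ext x
      simp [RingHom.algebraMap_toAlgebra])
  have hpo' := hpo.symm
  haveI := flat_field k R₂ K₂
  exact Module.Flat.isBaseChange R₂ (R₂ ⊗[k] K₁) K₂ (K₂ ⊗[k] K₁) hpo'.out

end flat

section nzd
variable (k : Type u) [Field k] (R₁ R₂ A B : Type u) [CommRing R₁] [CommRing R₂] [CommRing A]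
  [CommRing B] [Algebra k R₁] [Algebra k R₂] [Algebra k A] [Algebra k B] [Algebra R₁ A]
  [Algebra R₂ B] [IsScalarTower k R₁ A] [IsScalarTower k R₂ B] [IsDomain A] [IsDomain B]

theorem tower_frac : IsScalarTower k R₁ (FractionRing A) := by
  refine IsScalarTower.of_algebraMap_eq' ?_
  rw [IsScalarTower.algebraMap_eq k A (FractionRing A),
    IsScalarTower.algebraMap_eq R₁ A (FractionRing A), RingHom.comp_assoc,
    ← IsScalarTower.algebraMap_eq k R₁ A]

theorem nzd (h₁ : Function.Injective (algebraMap R₁ A)) (h₂ : Function.Injective (algebraMap R₂ B))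
    (hD : IsDomain (R₂ ⊗[k] FractionRing A))
    (r : R₂ ⊗[k] R₁) (hr : r ≠ 0) (e : B ⊗[k] A)
    (he : Algebra.TensorProduct.map (IsScalarTower.toAlgHom k R₂ B)
      (IsScalarTower.toAlgHom k R₁ A) r * e = 0) : e = 0 := by
  haveI := tower_frac k R₁ A
  haveI := tower_frac k R₂ B
  haveI : FaithfulSMul R₂ (FractionRing B) := by
    rw [faithfulSMul_iff_algebraMap_injective, IsScalarTower.algebraMap_eq R₂ B (FractionRing B)]
    exact (IsFractionRing.injective B (FractionRing B)).comp h₂
  letI := (mapAlg k R₂ (FractionRing B) (FractionRing A)).toRingHom.toAlgebra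
  haveI : IsDomain R₂ := h₂.isDomain _
  haveI := flat_tensor k R₂ (FractionRing B) (FractionRing A)
  let j : B ⊗[k] A →ₐ[k] FractionRing B ⊗[k] FractionRing A :=
    Algebra.TensorProduct.map (IsScalarTower.toAlgHom k B (FractionRing B))
      (IsScalarTower.toAlgHom k A (FractionRing A))
  have hj : Function.Injective j := by
    have := TensorProduct.map_injective_of_flat_flat
      (IsScalarTower.toAlgHom k B (FractionRing B)).toLinearMap
      (IsScalarTower.toAlgHom k A (FractionRing A)).toLinearMap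
      (IsFractionRing.injective B (FractionRing B)) (IsFractionRing.injective A (FractionRing A))
    exact this
  let ψ₁ : R₂ ⊗[k] R₁ →ₐ[k] R₂ ⊗[k] FractionRing A :=
    Algebra.TensorProduct.map (AlgHom.id k R₂) (IsScalarTower.toAlgHom k R₁ (FractionRing A))
  have hψ₁ : Function.Injective ψ₁ := by
    have := TensorProduct.map_injective_of_flat_flat
      (AlgHom.id k R₂).toLinearMap
      (IsScalarTower.toAlgHom k R₁ (FractionRing A)).toLinearMap
      Function.injective_id (by
        show Function.Injective (algebraMap R₁ (FractionRing A))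
        rw [IsScalarTower.algebraMap_eq R₁ A (FractionRing A)]
        exact (IsFractionRing.injective A (FractionRing A)).comp h₁)
    exact this
  have hcomp : j (Algebra.TensorProduct.map (IsScalarTower.toAlgHom k R₂ B)
      (IsScalarTower.toAlgHom k R₁ A) r) =
      algebraMap (R₂ ⊗[k] FractionRing A) (FractionRing B ⊗[k] FractionRing A) (ψ₁ r) := by
    show _ = (mapAlg k R₂ (FractionRing B) (FractionRing A)) (ψ₁ r)
    simp only [j, ψ₁, mapAlg, ← AlgHom.comp_apply, ← Algebra.TensorProduct.map_comp]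
    congr 1
  have h0 : ψ₁ r ≠ 0 := fun h => hr (hψ₁ (by rw [h, map_zero]))
  have hreg : IsRegular (ψ₁ r) := IsRegular.of_ne_zero h0
  have hsm := Module.Flat.isSMulRegular_of_isRegular (M := FractionRing B ⊗[k] FractionRing A) hreg
  have h1 : (ψ₁ r) • j e = 0 := by
    rw [Algebra.smul_def, ← hcomp, ← map_mul, he, map_zero]
  have h2 : j e = 0 := hsm (by
    show ψ₁ r • j e = ψ₁ r • 0
    rw [h1]
    exact (smul_zero (A := FractionRing B ⊗[k] FractionRing A) (ψ₁ r)).symm)
  exact hj (by rw [h2, map_zero])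

end nzd

section equidim
variable (k : Type u) [Field k]

theorem isDomain_mvPoly_tensor (b : ℕ) (K : Type u) [Field K] [Algebra k K] :
    IsDomain (MvPolynomial (Fin b) k ⊗[k] K) :=
  ((Algebra.TensorProduct.comm k (MvPolynomial (Fin b) k) K).toRingEquiv.trans
    (MvPolynomial.algebraTensorAlgEquiv k K).toRingEquiv).toMulEquiv.isDomain _

theorem dim_mvPoly (a : ℕ) : ringKrullDim (MvPolynomial (Fin a) k) = (a : WithBot ℕ∞) := by
  rw [MvPolynomial.ringKrullDim_of_isNoetherianRing, ringKrullDim_eq_zero_of_field]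
  simp

theorem dim_mvPoly_tensor (a b : ℕ) :
    ringKrullDim (MvPolynomial (Fin b) k ⊗[k] MvPolynomial (Fin a) k) =
      (b : WithBot ℕ∞) + (a : WithBot ℕ∞) := by
  have e : MvPolynomial (Fin b) k ⊗[k] MvPolynomial (Fin a) k ≃+*
      MvPolynomial (Fin b) (MvPolynomial (Fin a) k) :=
    (Algebra.TensorProduct.comm k (MvPolynomial (Fin b) k) (MvPolynomial (Fin a) k)).toRingEquiv.trans
      (MvPolynomial.algebraTensorAlgEquiv k (MvPolynomial (Fin a) k)).toRingEquiv
  rw [ringKrullDim_eq_of_ringEquiv e, MvPolynomial.ringKrullDim_of_isNoetherianRing, dim_mvPoly,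
    add_comm]
  simp

theorem isDomain_mvPoly_tensor' (a b : ℕ) :
    IsDomain (MvPolynomial (Fin b) k ⊗[k] MvPolynomial (Fin a) k) :=
  ((Algebra.TensorProduct.comm k (MvPolynomial (Fin b) k) (MvPolynomial (Fin a) k)).toRingEquiv.trans
    (MvPolynomial.algebraTensorAlgEquiv k (MvPolynomial (Fin a) k)).toRingEquiv).toMulEquiv.isDomain _

section integral
variable {k} {R₁ R₂ A B : Type u} [CommRing R₁] [CommRing R₂] [CommRing A]
  [CommRing B] [Algebra k R₁] [Algebra k R₂] [Algebra k A] [Algebra k B] [Algebra R₁ A]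
  [Algebra R₂ B] [IsScalarTower k R₁ A] [IsScalarTower k R₂ B]

theorem isIntegral_map [Algebra.IsIntegral R₁ A] [Algebra.IsIntegral R₂ B] :
    (Algebra.TensorProduct.map (IsScalarTower.toAlgHom k R₂ B)
      (IsScalarTower.toAlgHom k R₁ A)).toRingHom.IsIntegral := by
  set φ := Algebra.TensorProduct.map (IsScalarTower.toAlgHom k R₂ B)
      (IsScalarTower.toAlgHom k R₁ A) with hφ
  have hL : ∀ y : B, φ.toRingHom.IsIntegralElem (y ⊗ₜ[k] (1 : A)) := by
    intro y
    obtain ⟨P, hPm, hP⟩ := Algebra.IsIntegral.isIntegral (R := R₂) y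
    refine ⟨P.map (Algebra.TensorProduct.includeLeft (R := k) (S := k) (A := R₂) (B := R₁)).toRingHom,
      hPm.map _, ?_⟩
    rw [Polynomial.eval₂_map]
    have hc : φ.toRingHom.comp (Algebra.TensorProduct.includeLeft (R := k) (S := k) (A := R₂)
        (B := R₁)).toRingHom =
        (Algebra.TensorProduct.includeLeft (R := k) (S := k) (A := B) (B := A)).toRingHom.comp
          (algebraMap R₂ B) := by
      ext x
      simp [hφ]
    rw [hc]
    have := Polynomial.hom_eval₂ P (algebraMap R₂ B)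
      (Algebra.TensorProduct.includeLeft (R := k) (S := k) (A := B) (B := A)).toRingHom y
    rw [hP, map_zero] at this
    rw [this]
    rfl
  have hR : ∀ x : A, φ.toRingHom.IsIntegralElem ((1 : B) ⊗ₜ[k] x) := by
    intro x
    obtain ⟨P, hPm, hP⟩ := Algebra.IsIntegral.isIntegral (R := R₁) x
    refine ⟨P.map (Algebra.TensorProduct.includeRight (R := k) (A := R₂) (B := R₁)).toRingHom,
      hPm.map _, ?_⟩
    rw [Polynomial.eval₂_map]
    have hc : φ.toRingHom.comp (Algebra.TensorProduct.includeRight (R := k) (A := R₂)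
        (B := R₁)).toRingHom =
        (Algebra.TensorProduct.includeRight (R := k) (A := B) (B := A)).toRingHom.comp
          (algebraMap R₁ A) := by
      ext x
      simp [hφ]
    rw [hc]
    have := Polynomial.hom_eval₂ P (algebraMap R₁ A)
      (Algebra.TensorProduct.includeRight (R := k) (A := B) (B := A)).toRingHom x
    rw [hP, map_zero] at this
    rw [this]
    rfl
  intro e
  induction e using TensorProduct.induction_on with
  | zero => exact φ.toRingHom.isIntegralElem_zero
  | tmul y x =>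
    have : y ⊗ₜ[k] x = (y ⊗ₜ[k] (1 : A)) * ((1 : B) ⊗ₜ[k] x) := by
      rw [Algebra.TensorProduct.tmul_mul_tmul, mul_one, one_mul]
    rw [this]
    exact RingHom.IsIntegralElem.mul _ (hL y) (hR x)
  | add x y hx hy => exact RingHom.IsIntegralElem.add _ hx hy

end integral

theorem dim_quot_minimalPrime (A B : Type u) [CommRing A] [CommRing B] [Algebra k A] [Algebra k B]
    [IsDomain A] [IsDomain B] [Algebra.FiniteType k A] [Algebra.FiniteType k B]
    (P : Ideal (B ⊗[k] A)) (hP : P ∈ minimalPrimes (B ⊗[k] A)) :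
    ringKrullDim ((B ⊗[k] A) ⧸ P) = ringKrullDim B + ringKrullDim A := by
  obtain ⟨a, gA, hAinj, hAfin⟩ := exists_finite_inj_algHom_of_fg k A
  obtain ⟨b, gB, hBinj, hBfin⟩ := exists_finite_inj_algHom_of_fg k B
  letI : Algebra (MvPolynomial (Fin a) k) A := gA.toRingHom.toAlgebra
  letI : Algebra (MvPolynomial (Fin b) k) B := gB.toRingHom.toAlgebra
  haveI : IsScalarTower k (MvPolynomial (Fin a) k) A := IsScalarTower.of_algHom gA
  haveI : IsScalarTower k (MvPolynomial (Fin b) k) B := IsScalarTower.of_algHom gB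
  haveI : Module.Finite (MvPolynomial (Fin a) k) A := hAfin
  haveI : Module.Finite (MvPolynomial (Fin b) k) B := hBfin
  haveI : Algebra.IsIntegral (MvPolynomial (Fin a) k) A := Algebra.IsIntegral.of_finite _ _
  haveI : Algebra.IsIntegral (MvPolynomial (Fin b) k) B := Algebra.IsIntegral.of_finite _ _
  have hA' : Function.Injective (algebraMap (MvPolynomial (Fin a) k) A) := hAinj
  have hB' : Function.Injective (algebraMap (MvPolynomial (Fin b) k) B) := hBinj
  haveI hP' : P.IsPrime := hP.1.1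
  set φ := Algebra.TensorProduct.map (IsScalarTower.toAlgHom k (MvPolynomial (Fin b) k) B)
      (IsScalarTower.toAlgHom k (MvPolynomial (Fin a) k) A) with hφ
  haveI hRdom := isDomain_mvPoly_tensor' k a b
  have hzero : ∀ r, φ r ∈ P → r = 0 := by
    intro r hr
    by_contra hr0
    have hnzd : φ r ∈ nonZeroDivisors (B ⊗[k] A) := by
      rw [mem_nonZeroDivisors_iff_right]
      intro e he
      rw [mul_comm] at he
      exact nzd k _ _ A B hA' hB' (isDomain_mvPoly_tensor k b (FractionRing A)) r hr0 e he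
    exact Set.disjoint_left.mp (Ideal.disjoint_nonZeroDivisors_of_mem_minimalPrimes hP) hr hnzd
  letI : Algebra (MvPolynomial (Fin b) k ⊗[k] MvPolynomial (Fin a) k) ((B ⊗[k] A) ⧸ P) :=
    ((Ideal.Quotient.mk P).comp φ.toRingHom).toAlgebra
  haveI : Algebra.IsIntegral (MvPolynomial (Fin b) k ⊗[k] MvPolynomial (Fin a) k)
      ((B ⊗[k] A) ⧸ P) :=
    ⟨RingHom.IsIntegral.trans _ _ (isIntegral_map (k := k))
      (RingHom.isIntegral_of_surjective _ Ideal.Quotient.mk_surjective)⟩
  have hinj : Function.Injective (algebraMap (MvPolynomial (Fin b) k ⊗[k] MvPolynomial (Fin a) k)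
      ((B ⊗[k] A) ⧸ P)) := by
    rw [injective_iff_map_eq_zero]
    intro r hr
    apply hzero
    exact Ideal.Quotient.eq_zero_iff_mem.mp hr
  rw [← Groth.Agent.Lib.Helper12.ringKrullDim_eq_of_isIntegral_of_injective _ _ hinj,
    ← Groth.Agent.Lib.Helper12.ringKrullDim_eq_of_isIntegral_of_injective _ _ hA',
    ← Groth.Agent.Lib.Helper12.ringKrullDim_eq_of_isIntegral_of_injective _ _ hB',
    dim_mvPoly_tensor, dim_mvPoly, dim_mvPoly]

end equidim

end Groth.Agent.Lib.Helper26.ProjIntB
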