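import Mathlib
import Groth.Agent.Lib.Helper26.ProjIntA
import Groth.Agent.Lib.Helper26.ProjIntB

namespace Groth.Agent.Lib.Helper26.ProjIntC
universe u
open TensorProduct Groth.Agent.Lib.Helper26

/-- the affine dimension theorem -/
theorem affine_dim (k : Type u) [Field k] (S : Type u) [CommRing S] [Algebra k S]
    [Algebra.FiniteType k S] (N : ℕ) (x : Fin N → S) (hx : Algebra.adjoin k (Set.range x) = ⊤)
    (p q Q : Ideal S) [hp : p.IsPrime] [hq : q.IsPrime] (hQ : Q ∈ (p ⊔ q).minimalPrimes) :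
    ringKrullDim (S ⧸ q) + ringKrullDim (S ⧸ p) ≤ ringKrullDim (S ⧸ Q) + (N : WithBot ℕ∞) := by
  haveI hQp : Q.IsPrime := hQ.1.1
  have hpQ : p ≤ Q := le_sup_left.trans hQ.1.2
  have hqQ : q ≤ Q := le_sup_right.trans hQ.1.2
  haveI : Algebra.FiniteType k (S ⧸ p) :=
    Algebra.FiniteType.of_surjective (Ideal.Quotient.mkₐ k p) (Ideal.Quotient.mkₐ_surjective k p)
  haveI : Algebra.FiniteType k (S ⧸ q) :=
    Algebra.FiniteType.of_surjective (Ideal.Quotient.mkₐ k q) (Ideal.Quotient.mkₐ_surjective k q)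
  haveI : Algebra.FiniteType k ((S ⧸ q) ⊗[k] (S ⧸ p)) :=
    Algebra.FiniteType.trans (inferInstance : Algebra.FiniteType k (S ⧸ q)) inferInstance
  let α : S ⧸ p →ₐ[k] S ⧸ Q := Ideal.Quotient.factorₐ k hpQ
  let β : S ⧸ q →ₐ[k] S ⧸ Q := Ideal.Quotient.factorₐ k hqQ
  let ν : (S ⧸ q) ⊗[k] (S ⧸ p) →ₐ[k] S ⧸ Q := Algebra.TensorProduct.productMap β α
  have hν : ∀ (s t : S), ν (Ideal.Quotient.mk q s ⊗ₜ[k] Ideal.Quotient.mk p t) =
      Ideal.Quotient.mk Q (s * t) := by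
    intro s t
    simp [ν, α, β]
  have hνsurj : Function.Surjective ν := by
    intro c
    obtain ⟨s, rfl⟩ := Ideal.Quotient.mk_surjective c
    exact ⟨Ideal.Quotient.mk q s ⊗ₜ[k] Ideal.Quotient.mk p 1, by rw [hν, mul_one]⟩
  set 𝔎 : Ideal ((S ⧸ q) ⊗[k] (S ⧸ p)) := RingHom.ker ν with h𝔎
  haveI h𝔎p : 𝔎.IsPrime := RingHom.ker_isPrime ν
  have hdim𝔎 : ringKrullDim (((S ⧸ q) ⊗[k] (S ⧸ p)) ⧸ 𝔎) = ringKrullDim (S ⧸ Q) :=
    ringKrullDim_eq_of_ringEquiv (Ideal.quotientKerAlgEquivOfSurjective hνsurj).toRingEquiv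
  obtain ⟨P', hP', hP'𝔎⟩ := Ideal.exists_minimalPrimes_le (bot_le : (⊥ : Ideal _) ≤ 𝔎)
  haveI hP'p : P'.IsPrime := hP'.1.1
  let d : Fin N → (S ⧸ q) ⊗[k] (S ⧸ p) := fun i =>
    Ideal.Quotient.mk q (x i) ⊗ₜ[k] (1 : S ⧸ p) - (1 : S ⧸ q) ⊗ₜ[k] Ideal.Quotient.mk p (x i)
  have hd𝔎 : ∀ i, d i ∈ 𝔎 := by
    intro i
    rw [h𝔎, RingHom.mem_ker]
    have h1 := hν (x i) 1
    have h2 := hν 1 (x i)
    simp only [map_one] at h1 h2
    simp only [d, map_sub, h1, h2, mul_one, one_mul, sub_self]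
  have hmin : 𝔎 ∈ (P' ⊔ Ideal.span (Set.range d)).minimalPrimes := by
    refine ⟨⟨h𝔎p, sup_le hP'𝔎 ?_⟩, ?_⟩
    · rw [Ideal.span_le]
      rintro _ ⟨i, rfl⟩
      exact hd𝔎 i
    · rintro 𝔓 ⟨h𝔓p, hle⟩ h𝔓𝔎
      let lam₁ : S →ₐ[k] ((S ⧸ q) ⊗[k] (S ⧸ p)) ⧸ 𝔓 :=
        (Ideal.Quotient.mkₐ k 𝔓).comp
          ((Algebra.TensorProduct.includeRight (R := k) (A := S ⧸ q) (B := S ⧸ p)).comp
            (Ideal.Quotient.mkₐ k p))
      let lam₂ : S →ₐ[k] ((S ⧸ q) ⊗[k] (S ⧸ p)) ⧸ 𝔓 :=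
        (Ideal.Quotient.mkₐ k 𝔓).comp
          ((Algebra.TensorProduct.includeLeft (R := k) (S := k) (A := S ⧸ q) (B := S ⧸ p)).comp
            (Ideal.Quotient.mkₐ k q))
      have hl₁ : ∀ s, lam₁ s = Ideal.Quotient.mk 𝔓 ((1 : S ⧸ q) ⊗ₜ[k] Ideal.Quotient.mk p s) :=
        fun s => rfl
      have hl₂ : ∀ s, lam₂ s = Ideal.Quotient.mk 𝔓 (Ideal.Quotient.mk q s ⊗ₜ[k] (1 : S ⧸ p)) :=
        fun s => rfl
      have heq : lam₂ = lam₁ := by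
        apply AlgHom.ext_of_adjoin_eq_top hx
        rintro _ ⟨i, rfl⟩
        rw [hl₁, hl₂, Ideal.Quotient.eq]
        exact hle (le_sup_right (a := P') (Ideal.subset_span ⟨i, rfl⟩))
      have hl₂' : ∀ s, lam₁ s = Ideal.Quotient.mk 𝔓 (Ideal.Quotient.mk q s ⊗ₜ[k] (1 : S ⧸ p)) := by
        intro s
        rw [← heq, hl₂]
      set 𝔮 : Ideal S := RingHom.ker lam₁ with h𝔮
      haveI : 𝔮.IsPrime := RingHom.ker_isPrime lam₁
      have hp𝔮 : p ≤ 𝔮 := by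
        intro s hs
        rw [h𝔮, RingHom.mem_ker, hl₁, Ideal.Quotient.eq_zero_iff_mem.mpr hs, tmul_zero, map_zero]
      have hq𝔮 : q ≤ 𝔮 := by
        intro s hs
        rw [h𝔮, RingHom.mem_ker, hl₂', Ideal.Quotient.eq_zero_iff_mem.mpr hs, zero_tmul, map_zero]
      have h𝔮Q : 𝔮 ≤ Q := by
        intro s hs
        rw [h𝔮, RingHom.mem_ker, hl₁, Ideal.Quotient.eq_zero_iff_mem] at hs
        have h1 : ν ((1 : S ⧸ q) ⊗ₜ[k] Ideal.Quotient.mk p s) = 0 := h𝔓𝔎 hs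
        have h2 := hν 1 s
        simp only [map_one, one_mul] at h2
        rw [h2] at h1
        exact Ideal.Quotient.eq_zero_iff_mem.mp h1
      have hQ𝔮 : Q ≤ 𝔮 := hQ.2 ⟨inferInstance, sup_le hp𝔮 hq𝔮⟩ h𝔮Q
      let θ : S ⧸ Q →ₐ[k] ((S ⧸ q) ⊗[k] (S ⧸ p)) ⧸ 𝔓 :=
        Ideal.Quotient.liftₐ Q lam₁ (fun s hs => (RingHom.mem_ker).mp (hQ𝔮 hs))
      have hθ : ∀ s, θ (Ideal.Quotient.mk Q s) = lam₁ s := fun s => rfl
      have hfac : Ideal.Quotient.mkₐ k 𝔓 = θ.comp ν := by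
        apply Algebra.TensorProduct.ext'
        intro b a
        obtain ⟨s, rfl⟩ := Ideal.Quotient.mk_surjective b
        obtain ⟨t, rfl⟩ := Ideal.Quotient.mk_surjective a
        rw [AlgHom.comp_apply, hν, hθ, map_mul, hl₂' s, hl₁ t, ← map_mul,
          Algebra.TensorProduct.tmul_mul_tmul, mul_one, one_mul]
        rfl
      intro e he
      rw [h𝔎, RingHom.mem_ker] at he
      have : Ideal.Quotient.mkₐ k 𝔓 e = 0 := by rw [hfac, AlgHom.comp_apply, he, map_zero]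
      exact Ideal.Quotient.eq_zero_iff_mem.mp this
  have h1 := ProjIntA.dim_le_add k N P' d 𝔎 hmin
  have h2 := ProjIntB.dim_quot_minimalPrime k (S ⧸ p) (S ⧸ q) P' hP'
  rw [h2, hdim𝔎] at h1
  exact h1

end Groth.Agent.Lib.Helper26.ProjIntC
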