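import Mathlib
import Groth.Agent.Lib.Helper26.ProjIntC
import Groth.Agent.Lib.Helper16.ConnDimSpec

namespace Groth.Agent.Lib.Helper26.AffIntA
universe u
open TopologicalSpace Topology Groth.Agent.Lib.Helper26

section top
variable {T : Type*} [TopologicalSpace T]

theorem isIrreducible_preimage_val (W Z : Set T) (hZ : IsIrreducible Z) (hZW : Z ⊆ W) :
    IsIrreducible ((Subtype.val : ↥W → T) ⁻¹' Z) := by
  obtain ⟨z, hz⟩ := hZ.nonempty
  refine ⟨⟨⟨z, hZW hz⟩, hz⟩, ?_⟩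
  intro U' V' hU' hV' hU hV
  obtain ⟨U, hUo, rfl⟩ := isOpen_induced_iff.mp hU'
  obtain ⟨V, hVo, rfl⟩ := isOpen_induced_iff.mp hV'
  obtain ⟨a, haZ, haU⟩ := hU
  obtain ⟨b, hbZ, hbV⟩ := hV
  obtain ⟨c, hcZ, hcU, hcV⟩ := hZ.isPreirreducible U V hUo hVo ⟨a.1, haZ, haU⟩ ⟨b.1, hbZ, hbV⟩
  exact ⟨⟨c, hZW hcZ⟩, hcZ, hcU, hcV⟩

theorem component_image (W : Set T) (hW : IsClosed W) (C : Set ↥W)
    (hC : C ∈ irreducibleComponents ↥W) :
    IsIrreducible (Subtype.val '' C) ∧ IsClosed (Subtype.val '' C) ∧ Subtype.val '' C ⊆ W ∧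
    (∀ D : Set T, IsIrreducible D → D ⊆ W → Subtype.val '' C ⊆ D → D ⊆ Subtype.val '' C) ∧
    topologicalKrullDim ↥C = topologicalKrullDim ↥(Subtype.val '' C : Set T) := by
  have hCc : IsClosed C := isClosed_of_mem_irreducibleComponents C hC
  have hCi : IsIrreducible C := hC.1
  refine ⟨hCi.image _ continuous_subtype_val.continuousOn,
    hW.isClosedEmbedding_subtypeVal.isClosedMap _ hCc, ?_, ?_, ?_⟩
  · rintro _ ⟨c, _, rfl⟩
    exact c.2
  · intro D hD hDW hCD
    have hD' := isIrreducible_preimage_val W D hD hDW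
    have hle : C ≤ Subtype.val ⁻¹' D := by
      intro c hc
      exact hCD ⟨c, hc, rfl⟩
    have hge : (Subtype.val ⁻¹' D : Set ↥W) ⊆ C := hC.2 hD' hle
    intro d hd
    exact ⟨⟨d, hDW hd⟩, hge hd, rfl⟩
  · exact IsHomeomorph.topologicalKrullDim_eq _
      (IsEmbedding.subtypeVal.homeomorphImage C).isHomeomorph

theorem exists_component_superset (W : Set T) (D : Set T) (hD : IsIrreducible D) (hDW : D ⊆ W) :
    ∃ C ∈ irreducibleComponents ↥W, D ⊆ Subtype.val '' C := by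
  have hD' := isIrreducible_preimage_val W D hD hDW
  obtain ⟨t, ht, hDt, hmax⟩ := exists_preirreducible _ hD'.isPreirreducible
  have htne : t.Nonempty := hD'.nonempty.mono hDt
  refine ⟨t, ⟨⟨htne, ht⟩, ?_⟩, ?_⟩
  · intro u hu htu
    exact (hmax u hu.isPreirreducible htu).le
  · intro d hd
    exact ⟨⟨d, hDW hd⟩, hDt hd, rfl⟩

end top

section spec
variable {T : Type u} [TopologicalSpace T] {R : Type u} [CommRing R] (h : T ≃ₜ PrimeSpectrum R)

theorem exists_prime_of_irreducible_closed (D : Set T) (hDi : IsIrreducible D) (hDc : IsClosed D) :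
    ∃ p : Ideal R, p.IsPrime ∧ D = h ⁻¹' (PrimeSpectrum.zeroLocus (p : Set R)) ∧
      topologicalKrullDim ↥D = ringKrullDim (R ⧸ p) := by
  have hD'i : IsIrreducible (h '' D) := hDi.image _ h.continuous.continuousOn
  have hD'c : IsClosed (h '' D) := h.isClosedMap _ hDc
  have hp : (PrimeSpectrum.vanishingIdeal (h '' D)).IsPrime :=
    PrimeSpectrum.isIrreducible_iff_vanishingIdeal_isPrime.mp hD'i
  have hz : PrimeSpectrum.zeroLocus ((PrimeSpectrum.vanishingIdeal (h '' D) : Ideal R) : Set R) =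
      h '' D := by
    rw [PrimeSpectrum.zeroLocus_vanishingIdeal_eq_closure, hD'c.closure_eq]
  refine ⟨PrimeSpectrum.vanishingIdeal (h '' D), hp, ?_, ?_⟩
  · rw [hz, Set.preimage_image_eq _ h.injective]
  · rw [← Groth.Agent.Lib.Helper16.CD.topologicalKrullDim_zeroLocus, hz]
    exact IsHomeomorph.topologicalKrullDim_eq _ (h.image D).isHomeomorph

include h in
theorem main (k : Type u) [Field k] [Algebra k R] [Algebra.FiniteType k R] (n : ℕ) (x : Fin n → R)
    (hx : Algebra.adjoin k (Set.range x) = ⊤) (r s : ℕ) (X Y : Set T) (hX : IsClosed X)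
    (hY : IsClosed Y)
    (hXr : ∀ Z ∈ irreducibleComponents X, topologicalKrullDim Z = r)
    (hYs : ∀ Z ∈ irreducibleComponents Y, topologicalKrullDim Z = s)
    (Z : Set ↥(X ∩ Y)) (hZ : Z ∈ irreducibleComponents ↥(X ∩ Y)) :
    ((r + s : ℕ) : WithBot ℕ∞) ≤ topologicalKrullDim Z + (n : WithBot ℕ∞) := by
  obtain ⟨hZi, hZc, hZsub, hZmax, hZdim⟩ := component_image (X ∩ Y) (hX.inter hY) Z hZ
  obtain ⟨C, hC, hZC⟩ := exists_component_superset X _ hZi (hZsub.trans Set.inter_subset_left)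
  obtain ⟨D, hD, hZD⟩ := exists_component_superset Y _ hZi (hZsub.trans Set.inter_subset_right)
  obtain ⟨hCi, hCc, hCsub, -, hCdim⟩ := component_image X hX C hC
  obtain ⟨hDi, hDc, hDsub, -, hDdim⟩ := component_image Y hY D hD
  obtain ⟨Q, hQp, hQeq, hQdim⟩ := exists_prime_of_irreducible_closed h _ hZi hZc
  obtain ⟨p, hpp, hpeq, hpdim⟩ := exists_prime_of_irreducible_closed h _ hCi hCc
  obtain ⟨q, hqp, hqeq, hqdim⟩ := exists_prime_of_irreducible_closed h _ hDi hDc
  -- inclusion lemma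
  have hincl : ∀ (I J : Ideal R) [J.IsPrime],
      h ⁻¹' (PrimeSpectrum.zeroLocus (J : Set R)) ⊆ h ⁻¹' (PrimeSpectrum.zeroLocus (I : Set R)) →
      I ≤ J := by
    intro I J hJ hsub
    have h1 : h.symm ⟨J, hJ⟩ ∈ h ⁻¹' (PrimeSpectrum.zeroLocus (J : Set R)) := by
      rw [Set.mem_preimage, Homeomorph.apply_symm_apply, PrimeSpectrum.mem_zeroLocus]
    have h2 := hsub h1
    rw [Set.mem_preimage, Homeomorph.apply_symm_apply, PrimeSpectrum.mem_zeroLocus] at h2
    exact h2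
  have hpQ : p ≤ Q := hincl p Q (by rw [← hQeq, ← hpeq]; exact hZC)
  have hqQ : q ≤ Q := hincl q Q (by rw [← hQeq, ← hqeq]; exact hZD)
  have hQmin : Q ∈ (p ⊔ q).minimalPrimes := by
    refine ⟨⟨hQp, sup_le hpQ hqQ⟩, ?_⟩
    rintro Q' ⟨hQ'p, hQ'le⟩ hQ'Q
    have hE : IsIrreducible (h ⁻¹' (PrimeSpectrum.zeroLocus (Q' : Set R))) := by
      rw [← Homeomorph.image_symm, ← PrimeSpectrum.closure_singleton ⟨Q', hQ'p⟩]
      exact (isIrreducible_singleton.closure).image _ h.symm.continuous.continuousOn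
    have hEsub : h ⁻¹' (PrimeSpectrum.zeroLocus (Q' : Set R)) ⊆ X ∩ Y := by
      intro t ht
      rw [Set.mem_preimage] at ht
      constructor
      · apply hCsub
        rw [hpeq, Set.mem_preimage]
        exact PrimeSpectrum.zeroLocus_anti_mono_ideal (le_sup_left.trans hQ'le) ht
      · apply hDsub
        rw [hqeq, Set.mem_preimage]
        exact PrimeSpectrum.zeroLocus_anti_mono_ideal (le_sup_right.trans hQ'le) ht
    have hZE : Subtype.val '' Z ⊆ h ⁻¹' (PrimeSpectrum.zeroLocus (Q' : Set R)) := by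
      rw [hQeq]
      intro t ht
      rw [Set.mem_preimage] at ht ⊢
      exact PrimeSpectrum.zeroLocus_anti_mono_ideal hQ'Q ht
    have hEZ := hZmax _ hE hEsub hZE
    rw [hQeq] at hEZ
    exact hincl Q Q' hEZ
  have haff := ProjIntC.affine_dim k R n x hx p q Q hQmin
  rw [← hpdim, ← hqdim, ← hQdim, ← hCdim, ← hDdim, ← hZdim, hXr C hC, hYs D hD] at haff
  calc ((r + s : ℕ) : WithBot ℕ∞) = (s : WithBot ℕ∞) + (r : WithBot ℕ∞) := by
        push_cast; rw [add_comm]
    _ ≤ _ := haff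

end spec

end Groth.Agent.Lib.Helper26.AffIntA

namespace Groth.Agent.Lib.Helper26.AffIntA
universe u
open AlgebraicGeometry

theorem main_7674 (k : Type u) [Field k] (n r s : ℕ)
    (X Y : Set ↥(𝔸(ULift.{u} (Fin n); Spec (CommRingCat.of k)))) (hX : IsClosed X) (hY : IsClosed Y)
    (hXr : ∀ Z ∈ irreducibleComponents X, topologicalKrullDim Z = r)
    (hYs : ∀ Z ∈ irreducibleComponents Y, topologicalKrullDim Z = s)
    (Z : Set ↥(X ∩ Y)) (hZ : Z ∈ irreducibleComponents ↥(X ∩ Y)) :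
    ((r + s : ℕ) : WithBot ℕ∞) ≤ topologicalKrullDim Z + (n : WithBot ℕ∞) := by
  let h : ↥(𝔸(ULift.{u} (Fin n); Spec (CommRingCat.of k))) ≃ₜ
      PrimeSpectrum (MvPolynomial (ULift.{u} (Fin n)) k) :=
    Scheme.homeoOfIso (AffineSpace.SpecIso (ULift.{u} (Fin n)) (CommRingCat.of k))
  have hx : Algebra.adjoin k (Set.range fun i : Fin n =>
      (MvPolynomial.X (ULift.up i) : MvPolynomial (ULift.{u} (Fin n)) k)) = ⊤ := by
    have : (Set.range fun i : Fin n =>
        (MvPolynomial.X (ULift.up i) : MvPolynomial (ULift.{u} (Fin n)) k)) =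
        Set.range (MvPolynomial.X : ULift.{u} (Fin n) → MvPolynomial (ULift.{u} (Fin n)) k) := by
      ext y
      constructor
      · rintro ⟨i, rfl⟩
        exact ⟨ULift.up i, rfl⟩
      · rintro ⟨⟨i⟩, rfl⟩
        exact ⟨i, rfl⟩
    rw [this]
    exact MvPolynomial.adjoin_range_X
  exact main h k n _ hx r s X Y hX hY hXr hYs Z hZ

end Groth.Agent.Lib.Helper26.AffIntA
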