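import Groth.Agent.Helper19.PullUnit
import Groth.Agent.Lib.Helper29.QCohPush
import Groth.Agent.Lib.Helper29.IsoCover
import Groth.Agent.Lib.Helper29.PullSect

set_option autoImplicit false
set_option linter.style.haveILetI false
universe u
open CategoryTheory AlgebraicGeometry Opposite TopologicalSpace
open Groth.Agent.Lib.Helper29.QCoh
open scoped TensorProduct
open Scheme.Modules

namespace Groth.Agent.Lib.Helper26.AffineBC

variable {X S X' S' : Scheme.{u}}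

noncomputable section

/-- the morphism `v : f_* F ⟶ g_* f'_* g'^* F` -/
def vMap (f : X ⟶ S) (g : S' ⟶ S) (g' : X' ⟶ X) (f' : X' ⟶ S') (w : g' ≫ f = f' ≫ g)
    (F : X.Modules) :
    (pushforward f).obj F ⟶ (pushforward g).obj ((pushforward f').obj ((pullback g').obj F)) :=
  (pushforward f).map ((pullbackPushforwardAdjunction g').unit.app F) ≫
    (pushforwardComp g' f).hom.app ((pullback g').obj F) ≫
    (pushforwardCongr w).hom.app ((pullback g').obj F) ≫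
    (pushforwardComp f' g).inv.app ((pullback g').obj F)

/-- the base change morphism `u : g^* f_* F ⟶ f'_* g'^* F` -/
def uMap (f : X ⟶ S) (g : S' ⟶ S) (g' : X' ⟶ X) (f' : X' ⟶ S') (w : g' ≫ f = f' ≫ g)
    (F : X.Modules) :
    (pullback g).obj ((pushforward f).obj F) ⟶ (pushforward f').obj ((pullback g').obj F) :=
  ((pullbackPushforwardAdjunction g).homEquiv _ _).symm (vMap f g g' f' w F)

theorem preimage_eq (f : X ⟶ S) (g : S' ⟶ S) (g' : X' ⟶ X) (f' : X' ⟶ S')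
    (w : g' ≫ f = f' ≫ g) (V : S.Opens) : f' ⁻¹ᵁ (g ⁻¹ᵁ V) = g' ⁻¹ᵁ (f ⁻¹ᵁ V) := by
  rw [← Scheme.Hom.comp_preimage, ← Scheme.Hom.comp_preimage, w]

theorem vMap_app (f : X ⟶ S) (g : S' ⟶ S) (g' : X' ⟶ X) (f' : X' ⟶ S') (w : g' ≫ f = f' ≫ g)
    (F : X.Modules) (V : S.Opens) (m : Γ(F, f ⁻¹ᵁ V)) :
    (vMap f g g' f' w F).app V m =
      res ((pullback g').obj F) (preimage_eq f g g' f' w V).le (pullSect g' F (f ⁻¹ᵁ V) m) := by
  rfl

theorem uMap_pullSect (f : X ⟶ S) (g : S' ⟶ S) (g' : X' ⟶ X) (f' : X' ⟶ S')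
    (w : g' ≫ f = f' ≫ g) (F : X.Modules) (V : S.Opens) (m : Γ(F, f ⁻¹ᵁ V)) :
    (uMap f g g' f' w F).app (g ⁻¹ᵁ V) (pullSect g ((pushforward f).obj F) V m) =
      res ((pullback g').obj F) (preimage_eq f g g' f' w V).le (pullSect g' F (f ⁻¹ᵁ V) m) := by
  rw [← vMap_app]
  have h : (pullbackPushforwardAdjunction g).homEquiv _ _ (uMap f g g' f' w F) =
      vMap f g g' f' w F := Equiv.apply_symm_apply _ _
  rw [Adjunction.homEquiv_unit] at h
  have h2 := congrArg (fun ψ => Scheme.Modules.Hom.app ψ V m) h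
  simp only [app_comp] at h2
  exact h2

/-- the key computation: `u` applied to a pulled-back section -/
theorem uMap_res_pullSect (f : X ⟶ S) (g : S' ⟶ S) (g' : X' ⟶ X) (f' : X' ⟶ S')
    (w : g' ≫ f = f' ≫ g) (F : X.Modules) {V : S.Opens} {V' : S'.Opens} (hVV : V' ≤ g ⁻¹ᵁ V)
    (hU'U : f' ⁻¹ᵁ V' ≤ g' ⁻¹ᵁ (f ⁻¹ᵁ V)) (m : Γ(F, f ⁻¹ᵁ V)) :
    (uMap f g g' f' w F).app V'
        (res ((pullback g).obj ((pushforward f).obj F)) hVV
          (pullSect g ((pushforward f).obj F) V m)) =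
      res ((pullback g').obj F) hU'U (pullSect g' F (f ⁻¹ᵁ V) m) := by
  have h1 := app_res (uMap f g g' f' w F) hVV (pullSect g ((pushforward f).obj F) V m)
  have h2 := uMap_pullSect f g g' f' w F V m
  have h3 : res ((pushforward f').obj ((pullback g').obj F)) hVV
      ((uMap f g g' f' w F).app (g ⁻¹ᵁ V) (pullSect g ((pushforward f).obj F) V m)) =
      res ((pullback g').obj F) (f'.preimage_mono hVV)
        ((uMap f g g' f' w F).app (g ⁻¹ᵁ V) (pullSect g ((pushforward f).obj F) V m)) := rfl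
  rw [h3, h2, res_res] at h1
  exact h1

set_option maxRecDepth 8000 in
theorem uMap_app_bijective (f : X ⟶ S) (g : S' ⟶ S) (g' : X' ⟶ X) (f' : X' ⟶ S')
    (hc : IsPullback g' f' f g) [IsAffineHom f] (F : X.Modules) [F.IsQuasicoherent]
    {V : S.Opens} (hV : IsAffineOpen V) {V' : S'.Opens} (hV' : IsAffineOpen V')
    (hVV : V' ≤ g ⁻¹ᵁ V) :
    Function.Bijective ((uMap f g g' f' hc.w F).app V') := by
  have hU : IsAffineOpen (f ⁻¹ᵁ V) := hV.preimage f
  have hU'U : f' ⁻¹ᵁ V' ≤ g' ⁻¹ᵁ (f ⁻¹ᵁ V) := by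
    rw [← preimage_eq f g g' f' hc.w V]
    exact f'.preimage_mono hVV
  have hU'def : f' ⁻¹ᵁ V' = g' ⁻¹ᵁ (f ⁻¹ᵁ V) ⊓ f' ⁻¹ᵁ V' := (inf_eq_right.mpr hU'U).symm
  have hiso := isIso_pushoutSection_of_isAffineOpen hc hVV (le_refl (f ⁻¹ᵁ V)) hU'def hV hV' hU
  have hpo := (isIso_pushoutSection_iff hc hVV (le_refl (f ⁻¹ᵁ V)) hU'def).mp hiso
  have hU' : IsAffineOpen (f' ⁻¹ᵁ V') := by
    have : IsAffine V.toScheme := hV
    have : IsAffine V'.toScheme := hV'
    have : IsAffine (f ⁻¹ᵁ V).toScheme := hU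
    exact .of_isIso (Scheme.Hom.isPullback_resLE hc hVV (le_refl (f ⁻¹ᵁ V)) hU'def).isoPullback.hom
  haveI hGq : ((pushforward f).obj F).IsQuasicoherent :=
    isQuasicoherent_pushforward_of_isAffineHom f F
  -- algebra structures
  letI algRA : Algebra Γ(S, V) Γ(X, f ⁻¹ᵁ V) := (f.app V).hom.toAlgebra
  letI algRR' : Algebra Γ(S, V) Γ(S', V') := (g.appLE V V' hVV).hom.toAlgebra
  letI algAA' : Algebra Γ(X, f ⁻¹ᵁ V) Γ(X', f' ⁻¹ᵁ V') :=
    (g'.appLE (f ⁻¹ᵁ V) (f' ⁻¹ᵁ V') hU'U).hom.toAlgebra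
  letI algR'A' : Algebra Γ(S', V') Γ(X', f' ⁻¹ᵁ V') := (f'.app V').hom.toAlgebra
  letI algRA' : Algebra Γ(S, V) Γ(X', f' ⁻¹ᵁ V') :=
    ((g'.appLE (f ⁻¹ᵁ V) (f' ⁻¹ᵁ V') hU'U).hom.comp (f.app V).hom).toAlgebra
  haveI : IsScalarTower Γ(S, V) Γ(X, f ⁻¹ᵁ V) Γ(X', f' ⁻¹ᵁ V') :=
    IsScalarTower.of_algebraMap_eq' rfl
  have hw : (g'.appLE (f ⁻¹ᵁ V) (f' ⁻¹ᵁ V') hU'U).hom.comp (f.app V).hom =
      (f'.app V').hom.comp (g.appLE V V' hVV).hom := by
    rw [← CommRingCat.hom_comp, ← CommRingCat.hom_comp]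
    rw [Scheme.Hom.app_eq_appLE, Scheme.Hom.app_eq_appLE]
    exact congrArg CommRingCat.Hom.hom hpo.w
  haveI : IsScalarTower Γ(S, V) Γ(S', V') Γ(X', f' ⁻¹ᵁ V') :=
    IsScalarTower.of_algebraMap_eq' hw
  have hpo' : IsPushout (f.app V) (g.appLE V V' hVV)
      (g'.appLE (f ⁻¹ᵁ V) (f' ⁻¹ᵁ V') hU'U) (f'.app V') := by
    rw [Scheme.Hom.app_eq_appLE, Scheme.Hom.app_eq_appLE]
    exact hpo
  haveI hpush : Algebra.IsPushout Γ(S, V) Γ(X, f ⁻¹ᵁ V) Γ(S', V') Γ(X', f' ⁻¹ᵁ V') :=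
    CommRingCat.isPushout_iff_isPushout.mp hpo'
  haveI hpush' : Algebra.IsPushout Γ(S, V) Γ(S', V') Γ(X, f ⁻¹ᵁ V) Γ(X', f' ⁻¹ᵁ V') :=
    hpush.symm
  -- module structures
  letI modR : Module Γ(S, V) Γ(F, f ⁻¹ᵁ V) :=
    inferInstanceAs (Module Γ(S, V) Γ((pushforward f).obj F, V))
  haveI : IsScalarTower Γ(S, V) Γ(X, f ⁻¹ᵁ V) Γ(F, f ⁻¹ᵁ V) :=
    IsScalarTower.of_algebraMap_smul fun _ _ => rfl
  let e₁ := pullbackSectionsEquiv g ((pushforward f).obj F) hV' hV hVV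
  let e₂ := pullbackSectionsEquiv g' F hU' hU hU'U
  let c := Algebra.IsPushout.cancelBaseChange Γ(S, V) Γ(S', V') Γ(X, f ⁻¹ᵁ V) Γ(X', f' ⁻¹ᵁ V')
    Γ(F, f ⁻¹ᵁ V)
  let ι : Γ((pushforward f).obj F, V) ≃ₗ[Γ(S, V)] Γ(F, f ⁻¹ᵁ V) :=
    { toFun := fun m => m
      invFun := fun m => m
      map_add' := fun _ _ => rfl
      map_smul' := fun _ _ => rfl
      left_inv := fun _ => rfl
      right_inv := fun _ => rfl }
  let T : Γ(S', V') ⊗[Γ(S, V)] Γ((pushforward f).obj F, V) ≃ₗ[Γ(S', V')]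
      Γ(X', f' ⁻¹ᵁ V') ⊗[Γ(X, f ⁻¹ᵁ V)] Γ(F, f ⁻¹ᵁ V) :=
    (TensorProduct.AlgebraTensorModule.congr (LinearEquiv.refl Γ(S', V') Γ(S', V')) ι) ≪≫ₗ c.symm
  let uF : Γ((pullback g).obj ((pushforward f).obj F), V') → Γ((pullback g').obj F, f' ⁻¹ᵁ V') :=
    fun z => (uMap f g g' f' hc.w F).app V' z
  have uadd : ∀ a b, uF (a + b) = uF a + uF b := fun a b =>
    _root_.map_add ((uMap f g g' f' hc.w F).app V').hom a b
  have uzero : uF 0 = 0 := _root_.map_zero ((uMap f g g' f' hc.w F).app V').hom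
  have usmul : ∀ (s : Γ(S', V')) a, uF (s • a) = (algebraMap Γ(S', V') Γ(X', f' ⁻¹ᵁ V') s) • uF a :=
    fun s a => app_smul' (uMap f g g' f' hc.w F) s a
  have key : ∀ w : Γ(S', V') ⊗[Γ(S, V)] Γ((pushforward f).obj F, V),
      e₂ (uF (e₁.symm w)) = T w := by
    intro w
    induction w with
    | zero => rw [_root_.map_zero, uzero, _root_.map_zero, _root_.map_zero]
    | add x y hx hy =>
      rw [_root_.map_add, uadd, _root_.map_add, _root_.map_add, hx, hy]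
    | tmul s m =>
      have h1 : e₁.symm (s ⊗ₜ[Γ(S, V)] m) =
          s • res ((pullback g).obj ((pushforward f).obj F)) hVV
            (pullSect g ((pushforward f).obj F) V m) := by
        rw [LinearEquiv.symm_apply_eq, _root_.map_smul]
        have := Groth.Agent.Helper19.PullUnit.pullbackSectionsEquiv_pullSect g
          ((pushforward f).obj F) hV' hV hVV m
        rw [this, TensorProduct.smul_tmul', smul_eq_mul, mul_one]
      rw [h1, usmul]
      have h2 : uF (res ((pullback g).obj ((pushforward f).obj F)) hVV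
            (pullSect g ((pushforward f).obj F) V m)) =
          res ((pullback g').obj F) hU'U (pullSect g' F (f ⁻¹ᵁ V) (ι m)) :=
        uMap_res_pullSect f g g' f' hc.w F hVV hU'U m
      rw [h2, _root_.map_smul]
      have h3 := Groth.Agent.Helper19.PullUnit.pullbackSectionsEquiv_pullSect g' F hU' hU hU'U (ι m)
      rw [h3]
      change _ = c.symm (s ⊗ₜ[Γ(S, V)] (ι m))
      rw [Algebra.IsPushout.cancelBaseChange_symm_tmul, TensorProduct.smul_tmul', smul_eq_mul,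
        mul_one]
  have hfun : (fun z => uF z) = (e₂.symm ∘ T) ∘ e₁ := by
    funext z
    simp only [Function.comp_apply]
    rw [← key (e₁ z), LinearEquiv.symm_apply_apply, LinearEquiv.symm_apply_apply]
  change Function.Bijective (fun z => uF z)
  rw [hfun]
  have b1 : Function.Bijective e₁ := e₁.bijective
  have b2 : Function.Bijective T := T.bijective
  have b3 : Function.Bijective e₂.symm := e₂.symm.bijective
  exact (b3.comp b2).comp b1

theorem isAffineHom_of_isPullback (f : X ⟶ S) (g : S' ⟶ S) (g' : X' ⟶ X) (f' : X' ⟶ S')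
    (hc : IsPullback g' f' f g) [IsAffineHom f] : IsAffineHom f' :=
  MorphismProperty.of_isPullback hc ‹_›

theorem main (f : X ⟶ S) (g : S' ⟶ S) (g' : X' ⟶ X) (f' : X' ⟶ S')
    (hc : IsPullback g' f' f g) [IsAffineHom f] (F : X.Modules) [F.IsQuasicoherent] :
    IsIso (uMap f g g' f' hc.w F) := by
  haveI : IsAffineHom f' := isAffineHom_of_isPullback f g g' f' hc
  haveI : ((pushforward f).obj F).IsQuasicoherent := isQuasicoherent_pushforward_of_isAffineHom f F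
  haveI : ((pullback g).obj ((pushforward f).obj F)).IsQuasicoherent := isQuasicoherent_pullback _ _
  haveI : ((pullback g').obj F).IsQuasicoherent := isQuasicoherent_pullback _ _
  haveI : ((pushforward f').obj ((pullback g').obj F)).IsQuasicoherent :=
    isQuasicoherent_pushforward_of_isAffineHom f' _
  refine isIso_of_app_bijective_of_affine_cover (uMap f g g' f' hc.w F)
    (fun p : AffinePairs g => (p.1.1 : S'.Opens)) (fun p => p.1.1.2) (fun x => ?_) (fun p => ?_)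
  · obtain ⟨U, V, hU, hV, hxU, hUV⟩ := exists_affine_pair g x
    exact ⟨⟨(⟨U, hU⟩, ⟨V, hV⟩), hUV⟩, hxU⟩
  · exact uMap_app_bijective f g g' f' hc F p.1.2.2 p.1.1.2 p.2

end

end Groth.Agent.Lib.Helper26.AffineBC
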