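import Mathlib

set_option autoImplicit false
set_option backward.isDefEq.respectTransparency.types false
set_option maxHeartbeats 1000000
set_option synthInstance.maxHeartbeats 200000

universe u

namespace Groth.Agent.Lib.Helper26.ArtA

open IsLocalRing

/-- flatness and colon ideals, elementwise -/
theorem mem_map_colon {A B : Type u} [CommRing A] [CommRing B] [Algebra A B] [Module.Flat A B]
    (I' J : Ideal A) (ε : A) (hJ : ∀ a : A, ε * a ∈ I' → a ∈ J) (b : B)
    (h : algebraMap A B ε * b ∈ Ideal.map (algebraMap A B) I') :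
    b ∈ Ideal.map (algebraMap A B) J := by
  classical
  change algebraMap A B ε * b ∈ Ideal.span (algebraMap A B '' (I' : Set A)) at h
  rw [Ideal.span, Submodule.mem_span_set'] at h
  obtain ⟨n, c, g, hsum⟩ := h
  choose i hi hig using fun k => (g k).2
  -- the relation indexed by `Option (Fin n)`
  let f : Option (Fin n) → A := fun o => o.elim ε (fun k => - i k)
  let x : Option (Fin n) → B := fun o => o.elim b (fun k => c k)
  have hrel : ∑ o, f o • x o = 0 := by
    rw [Fintype.sum_option]
    change ε • b + ∑ k, (- i k) • c k = 0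
    have h1 : ∑ k, (- i k) • c k = - ∑ k, c k • (g k : B) := by
      rw [← Finset.sum_neg_distrib]
      apply Finset.sum_congr rfl
      intro k _
      rw [← hig k, Algebra.smul_def, map_neg, smul_eq_mul]
      ring
    rw [h1, hsum, Algebra.smul_def]
    ring
  obtain ⟨k, a, y, hx, hf⟩ : Module.IsTrivialRelation f x := by
    refine Module.Flat.isTrivialRelation_of_sum_smul_eq_zero (f := f) (x := x) ?_
    convert hrel
  have hb : b = ∑ j, a none j • y j := hx none
  rw [hb]
  apply Ideal.sum_mem
  intro j _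
  rw [Algebra.smul_def]
  apply Ideal.mul_mem_right
  apply Ideal.mem_map_of_mem
  apply hJ
  have h2 := hf j
  rw [Fintype.sum_option] at h2
  change ε * a none j + ∑ k', (- i k') * a (some k') j = 0 at h2
  have h3 : ε * a none j = ∑ k', i k' * a (some k') j := by
    have : ∑ k', (- i k') * a (some k') j = - ∑ k', i k' * a (some k') j := by
      rw [← Finset.sum_neg_distrib]
      apply Finset.sum_congr rfl
      intro k' _
      ring
    rw [this] at h2
    exact eq_of_sub_eq_zero (by rw [sub_eq_add_neg]; exact h2)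
  rw [h3]
  apply Ideal.sum_mem
  intro k' _
  exact Ideal.mul_mem_right _ _ (hi k')

/-- a "simple step" below a nonzero ideal of a Noetherian local ring -/
theorem exists_step {A : Type u} [CommRing A] [IsLocalRing A] [IsNoetherianRing A]
    (I : Ideal A) (hI : I ≠ ⊥) :
    ∃ (I' : Ideal A) (ε : A), I' < I ∧ ε ∈ I ∧ I' ⊔ Ideal.span {ε} = I ∧
      (∀ μ ∈ maximalIdeal A, μ * ε ∈ I') ∧ (∀ a : A, ε * a ∈ I' → a ∈ maximalIdeal A) := by
  obtain ⟨I', hI'lt, hmax⟩ := (wellFounded_gt : WellFounded (α := Ideal A) (· > ·)).has_min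
    {J | J < I} ⟨⊥, bot_lt_iff_ne_bot.mpr hI⟩
  have hI'lt' : I' < I := hI'lt
  obtain ⟨ε, hεI, hεI'⟩ := SetLike.exists_of_lt hI'lt'
  have hmax' : ∀ J : Ideal A, J < I → I' ≤ J → J = I' := by
    intro J hJ hle
    by_contra hne
    exact hmax J hJ (lt_of_le_of_ne hle (Ne.symm hne))
  have hsup : I' ⊔ Ideal.span {ε} = I := by
    by_contra hne
    have hle : I' ⊔ Ideal.span {ε} ≤ I :=
      sup_le hI'lt'.le ((Ideal.span_singleton_le_iff_mem I).mpr hεI)
    have h1 := hmax' _ (lt_of_le_of_ne hle hne) le_sup_left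
    apply hεI'
    rw [← h1]
    exact Ideal.mem_sup_right (Ideal.mem_span_singleton_self ε)
  have hmε : ∀ μ ∈ maximalIdeal A, μ * ε ∈ I' := by
    intro μ hμ
    by_contra hcon
    let J := I' ⊔ Ideal.span {μ * ε}
    have hJle : J ≤ I := sup_le hI'lt'.le
      ((Ideal.span_singleton_le_iff_mem I).mpr (Ideal.mul_mem_left _ _ hεI))
    have hJne : J ≠ I' := by
      intro h
      apply hcon
      rw [← h]
      exact Ideal.mem_sup_right (Ideal.mem_span_singleton_self _)
    have hJI : J = I := by
      by_contra hne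
      exact hJne (hmax' J (lt_of_le_of_ne hJle hne) le_sup_left)
    have hεJ : ε ∈ J := by rw [hJI]; exact hεI
    obtain ⟨y, hy, z, hz, hyz⟩ := Submodule.mem_sup.mp hεJ
    obtain ⟨d, rfl⟩ := Ideal.mem_span_singleton'.mp hz
    -- ε = y + d μ ε  ⇒ (1 - d μ) ε ∈ I'
    have h1 : (1 - d * μ) * ε = y := by
      linear_combination (-1 : A) * hyz
    have hunit : IsUnit (1 - d * μ) := by
      have hdm : d * μ ∈ maximalIdeal A := Ideal.mul_mem_left _ _ hμ
      by_contra hnu
      have h2 : (1 - d * μ) ∈ maximalIdeal A := (IsLocalRing.mem_maximalIdeal _).mpr hnu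
      have h3 : (1 : A) ∈ maximalIdeal A := by
        have := Ideal.add_mem _ h2 hdm
        simpa using this
      exact (Ideal.ne_top_iff_one _).mp (Ideal.IsMaximal.ne_top inferInstance) h3
    obtain ⟨v, hv⟩ := hunit
    apply hεI'
    have : ε = (↑v⁻¹ : A) * y := by
      rw [← h1, ← hv, ← mul_assoc, Units.inv_mul, one_mul]
    rw [this]
    exact Ideal.mul_mem_left _ _ hy
  refine ⟨I', ε, hI'lt', hεI, hsup, hmε, ?_⟩
  · intro a ha
    by_contra hnm
    have hu : IsUnit a := by
      by_contra hnu
      exact hnm ((IsLocalRing.mem_maximalIdeal _).mpr hnu)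
    obtain ⟨v, rfl⟩ := hu
    apply hεI'
    have : ε = (↑v⁻¹ : A) * (ε * ↑v) := by
      rw [mul_comm ε, ← mul_assoc, Units.inv_mul, one_mul]
    rw [this]
    exact Ideal.mul_mem_left _ _ ha

end Groth.Agent.Lib.Helper26.ArtA
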