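import Mathlib

set_option autoImplicit false
set_option backward.isDefEq.respectTransparency.types false
set_option maxHeartbeats 1000000
set_option synthInstance.maxHeartbeats 200000

universe u
open CategoryTheory CategoryTheory.Limits Opposite TopologicalSpace AlgebraicGeometry

namespace Groth.Agent.Lib.Helper26.ArtB

/-- restriction of sections, elementwise -/
noncomputable def res {X : Scheme.{u}} {U V : X.Opens} (h : V ≤ U) (s : Γ(X, U)) : Γ(X, V) :=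
  (X.presheaf.map (homOfLE h).op).hom s

lemma res_res {X : Scheme.{u}} {U V W : X.Opens} (h : V ≤ U) (h' : W ≤ V) (s : Γ(X, U)) :
    res h' (res h s) = res (h'.trans h) s := by
  unfold res
  rw [← CommRingCat.comp_apply, ← Functor.map_comp]
  rfl

lemma res_self {X : Scheme.{u}} {U : X.Opens} (s : Γ(X, U)) : res (le_refl U) s = s := by
  unfold res
  have : (homOfLE (le_refl U)).op = 𝟙 (op U) := rfl
  rw [this, X.presheaf.map_id]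
  rfl

lemma app_res {X Y : Scheme.{u}} (f : X ⟶ Y) {U V : Y.Opens} (h : V ≤ U) (s : Γ(Y, U)) :
    (f.app V).hom (res h s) = res (show f ⁻¹ᵁ V ≤ f ⁻¹ᵁ U from fun _ hx => h hx) ((f.app U).hom s) := by
  unfold res
  have := f.naturality (homOfLE h).op
  exact (ConcreteCategory.congr_hom this s)

theorem glue {X₀ X : Scheme.{u}} (ι : X₀ ⟶ X)
    (β : ∀ U : X.affineOpens, Γ(X₀, ι ⁻¹ᵁ U.1))
    (hβ : ∀ (U U' : X.affineOpens) (h : U'.1 ≤ U.1),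
      res (show ι ⁻¹ᵁ U'.1 ≤ ι ⁻¹ᵁ U.1 from fun _ hx => h hx) (β U) = β U') :
    ∃ c : Γ(X₀, ⊤), ∀ U : X.affineOpens, res le_top c = β U := by
  have hcompat : TopCat.Presheaf.IsCompatible X₀.sheaf.1
      (fun U : X.affineOpens => ι ⁻¹ᵁ U.1) β := by
    intro U₁ U₂
    apply TopCat.Sheaf.eq_of_locally_eq' X₀.sheaf
      (fun W : {W : X.affineOpens // W.1 ≤ U₁.1 ⊓ U₂.1} => ι ⁻¹ᵁ W.1.1)
      (ι ⁻¹ᵁ U₁.1 ⊓ ι ⁻¹ᵁ U₂.1)
      (fun W => homOfLE (fun x hx => ⟨(W.2 hx).1, (W.2 hx).2⟩))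
    · intro x hx
      obtain ⟨W, hW, hxW, hWle⟩ := exists_isAffineOpen_mem_and_subset (x := ι x)
        (U := U₁.1 ⊓ U₂.1) ⟨hx.1, hx.2⟩
      exact Opens.mem_iSup.mpr ⟨⟨⟨W, hW⟩, hWle⟩, hxW⟩
    · intro W
      have h1 : res (show ι ⁻¹ᵁ W.1.1 ≤ ι ⁻¹ᵁ U₁.1 ⊓ ι ⁻¹ᵁ U₂.1 from
            fun x hx => ⟨(W.2 hx).1, (W.2 hx).2⟩)
          (res (inf_le_left : ι ⁻¹ᵁ U₁.1 ⊓ ι ⁻¹ᵁ U₂.1 ≤ ι ⁻¹ᵁ U₁.1) (β U₁)) = β W.1 := by
        rw [res_res]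
        exact hβ U₁ W.1 (W.2.trans inf_le_left)
      have h2 : res (show ι ⁻¹ᵁ W.1.1 ≤ ι ⁻¹ᵁ U₁.1 ⊓ ι ⁻¹ᵁ U₂.1 from
            fun x hx => ⟨(W.2 hx).1, (W.2 hx).2⟩)
          (res (inf_le_right : ι ⁻¹ᵁ U₁.1 ⊓ ι ⁻¹ᵁ U₂.1 ≤ ι ⁻¹ᵁ U₂.1) (β U₂)) = β W.1 := by
        rw [res_res]
        exact hβ U₂ W.1 (W.2.trans inf_le_right)
      exact h1.trans h2.symm
  obtain ⟨c, hc, -⟩ := TopCat.Sheaf.existsUnique_gluing' X₀.sheaf
    (fun U : X.affineOpens => ι ⁻¹ᵁ U.1) ⊤ (fun U => homOfLE le_top) (by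
      intro x _
      obtain ⟨W, hW, hxW, -⟩ := exists_isAffineOpen_mem_and_subset (x := ι x) (U := ⊤) trivial
      exact Opens.mem_iSup.mpr ⟨⟨W, hW⟩, hxW⟩) β hcompat
  exact ⟨c, hc⟩

end Groth.Agent.Lib.Helper26.ArtB
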