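import Groth.Agent.Lib.Helper26.ArtA
import Groth.Agent.Lib.Helper26.ArtB

set_option autoImplicit false
set_option backward.isDefEq.respectTransparency.types false
set_option maxHeartbeats 1000000
set_option synthInstance.maxHeartbeats 200000
set_option linter.unusedSectionVars false
set_option linter.unusedVariables false

universe u
open CategoryTheory CategoryTheory.Limits Opposite TopologicalSpace AlgebraicGeometry IsLocalRing

namespace Groth.Agent.Lib.Helper26.ArtC

open Groth.Agent.Lib.Helper26.ArtA Groth.Agent.Lib.Helper26.ArtB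

section basics

variable {R : Type u} [CommRing R] {X : Scheme.{u}} (s : X ⟶ Spec (CommRingCat.of R))

lemma leT (U : X.Opens) : U ≤ s ⁻¹ᵁ ⊤ := fun _ _ => trivial

/-- the structure map on sections over `U` -/
noncomputable def ρ (U : X.Opens) : R →+* Γ(X, U) :=
  ((Scheme.ΓSpecIso (CommRingCat.of R)).inv ≫ s.appLE ⊤ U (leT s U)).hom

lemma res_ρ {U V : X.Opens} (h : V ≤ U) (a : R) : res h (ρ s U a) = ρ s V a := by
  unfold res ρ
  have h1 : s.appLE ⊤ U (leT s U) ≫ X.presheaf.map (homOfLE h).op = s.appLE ⊤ V (leT s V) :=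
    Scheme.Hom.appLE_map s (leT s U) (homOfLE h).op
  rw [← h1]
  rfl

lemma res_comp_ρ {U V : X.Opens} (h : V ≤ U) :
    (X.presheaf.map (homOfLE h).op).hom.comp (ρ s U) = ρ s V := by
  ext a
  exact res_ρ s h a

lemma res_mem_map {U V : X.Opens} (h : V ≤ U) (I : Ideal R) (x : Γ(X, U))
    (hx : x ∈ Ideal.map (ρ s U) I) : res h x ∈ Ideal.map (ρ s V) I := by
  have h1 : res h x ∈ Ideal.map (X.presheaf.map (homOfLE h).op).hom (Ideal.map (ρ s U) I) :=
    Ideal.mem_map_of_mem _ hx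
  rw [Ideal.map_map, res_comp_ρ] at h1
  exact h1

lemma flat_ρ [Flat s] (U : X.Opens) (hU : IsAffineOpen U) : (ρ s U).Flat := by
  have h1 : (s.appLE ⊤ U (leT s U)).hom.Flat :=
    Flat.flat_appLE s (isAffineOpen_top _) hU (leT s U)
  have h2 : (Scheme.ΓSpecIso (CommRingCat.of R)).inv.hom.Flat :=
    RingHom.Flat.of_bijective
      (ConcreteCategory.bijective_of_isIso (Scheme.ΓSpecIso (CommRingCat.of R)).inv)
  exact RingHom.Flat.comp h2 h1

/-- `hU.fromSpec ≫ s` is `Spec` of the structure map -/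
lemma fromSpec_comp (U : X.Opens) (hU : IsAffineOpen U) :
    hU.fromSpec ≫ s = Spec.map (CommRingCat.ofHom (ρ s U)) := by
  have h1 := IsAffineOpen.SpecMap_appLE_fromSpec s (isAffineOpen_top _) hU (leT s U)
  rw [IsAffineOpen.fromSpec_top, Scheme.isoSpec_Spec_inv] at h1
  rw [← h1, ← Spec.map_comp]
  rfl

end basics

section compat

variable {A K : Type u} [CommRing A] [CommRing K] (φ : A →+* K)
  {X X₀ : Scheme.{u}} (s : X ⟶ Spec (CommRingCat.of A))
  (ι : X₀ ⟶ X) (s₀ : X₀ ⟶ Spec (CommRingCat.of K))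
  (hw : ι ≫ s = s₀ ≫ Spec.map (CommRingCat.ofHom φ))

include hw in
lemma app_ρ (U : X.Opens) (a : A) :
    (ι.app U).hom (ρ s U a) = ρ s₀ (ι ⁻¹ᵁ U) (φ a) := by
  have h1 : s.appLE ⊤ U (leT s U) ≫ ι.app U = (ι ≫ s).appLE ⊤ (ι ⁻¹ᵁ U) (leT _ _) := by
    rw [Scheme.Hom.app_eq_appLE, Scheme.Hom.appLE_comp_appLE]
  have h2 : (Spec.map (CommRingCat.ofHom φ)).appLE ⊤ ⊤ (leT _ _) ≫
      s₀.appLE ⊤ (ι ⁻¹ᵁ U) (leT _ _) =
      (s₀ ≫ Spec.map (CommRingCat.ofHom φ)).appLE ⊤ (ι ⁻¹ᵁ U) (leT _ _) := by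
    rw [Scheme.Hom.appLE_comp_appLE]
  have h3 : (Spec.map (CommRingCat.ofHom φ)).appLE ⊤ ⊤ (leT _ _) =
      (Spec.map (CommRingCat.ofHom φ)).appTop := by
    rw [Scheme.Hom.appTop, Scheme.Hom.app_eq_appLE]
    rfl
  have h4 : CommRingCat.ofHom φ ≫ (Scheme.ΓSpecIso (CommRingCat.of K)).inv =
      (Scheme.ΓSpecIso (CommRingCat.of A)).inv ≫ (Spec.map (CommRingCat.ofHom φ)).appTop :=
    Scheme.ΓSpecIso_inv_naturality (CommRingCat.ofHom φ)
  have key : ((Scheme.ΓSpecIso (CommRingCat.of A)).inv ≫ s.appLE ⊤ U (leT s U)) ≫ ι.app U =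
      CommRingCat.ofHom φ ≫ ((Scheme.ΓSpecIso (CommRingCat.of K)).inv ≫
        s₀.appLE ⊤ (ι ⁻¹ᵁ U) (leT _ _)) := by
    rw [Category.assoc, h1, ← Category.assoc (CommRingCat.ofHom φ), h4, Category.assoc, ← h3, h2]
    congr 2
  exact ConcreteCategory.congr_hom key a

end compat

section ker

variable {A K : Type u} [CommRing A] [IsLocalRing A] [Field K] (φ : A →+* K)
  (hφ : Function.Surjective φ)
  {X X₀ : Scheme.{u}} (s : X ⟶ Spec (CommRingCat.of A))
  (ι : X₀ ⟶ X) (s₀ : X₀ ⟶ Spec (CommRingCat.of K))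
  (H : IsPullback ι s₀ s (Spec.map (CommRingCat.ofHom φ)))

include hφ in
lemma ker_eq : RingHom.ker φ = maximalIdeal A := by
  haveI : (RingHom.ker φ).IsMaximal := RingHom.ker_isMaximal_of_surjective φ hφ
  exact IsLocalRing.eq_maximalIdeal inferInstance

lemma fromSpec_appLE (U : X.Opens) (hU : IsAffineOpen U) (h : ⊤ ≤ hU.fromSpec ⁻¹ᵁ U) :
    hU.fromSpec.appLE U ⊤ h = (Scheme.ΓSpecIso Γ(X, U)).inv := by
  rw [Scheme.Hom.appLE, hU.fromSpec_app_self, Category.assoc, ← Functor.map_comp]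
  have : (eqToHom hU.fromSpec_preimage_self).op ≫ (homOfLE h).op = 𝟙 _ := Subsingleton.elim _ _
  rw [this, CategoryTheory.Functor.map_id, Category.comp_id]

include hφ H in
/-- the kernel of `ι^#` on an affine open is generated by the maximal ideal -/
theorem mem_map_of_app_eq_zero (U : X.Opens) (hU : IsAffineOpen U) (b : Γ(X, U))
    (hb : (ι.app U).hom b = 0) : b ∈ Ideal.map (ρ s U) (maximalIdeal A) := by
  let 𝔪 : Ideal Γ(X, U) := Ideal.map (ρ s U) (maximalIdeal A)
  let B' : CommRingCat.{u} := CommRingCat.of (Γ(X, U) ⧸ 𝔪)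
  let mk : Γ(X, U) ⟶ B' := CommRingCat.ofHom (Ideal.Quotient.mk 𝔪)
  have hker : RingHom.ker φ ≤ RingHom.ker ((Ideal.Quotient.mk 𝔪).comp (ρ s U)) := by
    intro a ha
    rw [ker_eq φ hφ] at ha
    rw [RingHom.mem_ker, RingHom.comp_apply, Ideal.Quotient.eq_zero_iff_mem]
    exact Ideal.mem_map_of_mem _ ha
  let ψ : K →+* (Γ(X, U) ⧸ 𝔪) :=
    RingHom.liftOfSurjective φ hφ ⟨(Ideal.Quotient.mk 𝔪).comp (ρ s U), hker⟩
  have hψ : ψ.comp φ = (Ideal.Quotient.mk 𝔪).comp (ρ s U) :=
    RingHom.liftOfSurjective_comp φ hφ ⟨(Ideal.Quotient.mk 𝔪).comp (ρ s U), hker⟩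
  let α : Spec B' ⟶ X := Spec.map mk ≫ hU.fromSpec
  let β : Spec B' ⟶ Spec (CommRingCat.of K) := Spec.map (CommRingCat.ofHom ψ)
  have hw : α ≫ s = β ≫ Spec.map (CommRingCat.ofHom φ) := by
    change (Spec.map mk ≫ hU.fromSpec) ≫ s = _
    rw [Category.assoc, fromSpec_comp, ← Spec.map_comp, ← Spec.map_comp]
    congr 1
    apply CommRingCat.hom_ext
    exact hψ.symm
  let ℓ : Spec B' ⟶ X₀ := H.lift α β hw
  have hℓ : ℓ ≫ ι = α := H.lift_fst _ _ _
  have hαU : (⊤ : (Spec B').Opens) ≤ α ⁻¹ᵁ U := by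
    intro x _
    change (Spec.map mk ≫ hU.fromSpec) x ∈ U
    rw [Scheme.Hom.comp_apply]
    have : hU.fromSpec ((Spec.map mk) x) ∈ hU.fromSpec.opensRange := ⟨_, rfl⟩
    rw [hU.opensRange_fromSpec] at this
    exact this
  have hℓU : (⊤ : (Spec B').Opens) ≤ ℓ ⁻¹ᵁ (ι ⁻¹ᵁ U) := by
    intro x hx
    have := hαU hx
    rw [← hℓ] at this
    exact this
  -- two computations of `α^#` on `U`
  have e1 : α.appLE U ⊤ hαU = mk ≫ (Scheme.ΓSpecIso B').inv := by
    have h1 : hU.fromSpec.appLE U ⊤ (by rw [hU.fromSpec_preimage_self]) ≫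
        (Spec.map mk).appLE ⊤ ⊤ (leT _ _) = α.appLE U ⊤ hαU := by
      rw [Scheme.Hom.appLE_comp_appLE]
    have h3 : (Spec.map mk).appLE ⊤ ⊤ (leT _ _) = (Spec.map mk).appTop := by
      rw [Scheme.Hom.appTop, Scheme.Hom.app_eq_appLE]
      rfl
    rw [← h1, fromSpec_appLE, h3]
    exact (Scheme.ΓSpecIso_inv_naturality mk).symm
  have e2 : α.appLE U ⊤ hαU = ι.app U ≫ ℓ.appLE (ι ⁻¹ᵁ U) ⊤ hℓU := by
    rw [Scheme.Hom.app_eq_appLE, Scheme.Hom.appLE_comp_appLE]
    congr 1
    exact hℓ.symm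
  have e3 : (Scheme.ΓSpecIso B').inv.hom ((Ideal.Quotient.mk 𝔪) b) = 0 := by
    have h1 := ConcreteCategory.congr_hom (e1.symm.trans e2) b
    change (Scheme.ΓSpecIso B').inv.hom ((Ideal.Quotient.mk 𝔪) b) =
      (ℓ.appLE (ι ⁻¹ᵁ U) ⊤ hℓU).hom ((ι.app U).hom b) at h1
    rw [h1, hb, map_zero]
  have e4 : (Ideal.Quotient.mk 𝔪) b = 0 := by
    have hinj : Function.Injective (Scheme.ΓSpecIso B').inv.hom :=
      (ConcreteCategory.bijective_of_isIso (Scheme.ΓSpecIso B').inv).1
    exact hinj (e3.trans (map_zero _).symm)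
  exact Ideal.Quotient.eq_zero_iff_mem.mp e4

end ker

section main

variable {A K : Type u} [CommRing A] [IsLocalRing A] [IsArtinianRing A] [Field K] (φ : A →+* K)
  (hφ : Function.Surjective φ)
  {X X₀ : Scheme.{u}} (s : X ⟶ Spec (CommRingCat.of A)) [Flat s]
  (ι : X₀ ⟶ X) (s₀ : X₀ ⟶ Spec (CommRingCat.of K))
  (H : IsPullback ι s₀ s (Spec.map (CommRingCat.ofHom φ)))
  (h0 : Function.Surjective (ρ s₀ ⊤))

/-- sections which lie in `I · O_X` on every affine open -/
def InI (I : Ideal A) (g : Γ(X, ⊤)) : Prop :=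
  ∀ U : X.affineOpens, res le_top g ∈ Ideal.map (ρ s U.1) I

lemma eq_zero_of_res_eq_zero (g : Γ(X, ⊤)) (h : ∀ U : X.affineOpens, res (le_top : U.1 ≤ ⊤) g = 0) :
    g = 0 := by
  apply TopCat.Sheaf.eq_of_locally_eq' X.sheaf (fun U : X.affineOpens => U.1) ⊤
    (fun U => homOfLE le_top)
  · intro x _
    obtain ⟨W, hW, hxW, -⟩ := exists_isAffineOpen_mem_and_subset (x := x) (U := ⊤) trivial
    exact Opens.mem_iSup.mpr ⟨⟨W, hW⟩, hxW⟩
  · intro U
    have h1 := h U
    have h2 : res (le_top : U.1 ≤ ⊤) (0 : Γ(X, ⊤)) = 0 := map_zero _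
    exact h1.trans h2.symm

include hφ H in
lemma app_eq_zero_of_mem (U : X.Opens) (x : Γ(X, U))
    (hx : x ∈ Ideal.map (ρ s U) (maximalIdeal A)) : (ι.app U).hom x = 0 := by
  have hle : Ideal.map (ρ s U) (maximalIdeal A) ≤ RingHom.ker (ι.app U).hom := by
    rw [Ideal.map_le_iff_le_comap]
    intro μ hμ
    rw [Ideal.mem_comap, RingHom.mem_ker, app_ρ φ s ι s₀ H.w U μ]
    have : φ μ = 0 := by
      rw [← ker_eq φ hφ] at hμ
      exact hμ
    rw [this, map_zero]
  exact hle hx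

include hφ H h0 in
theorem P (I : Ideal A) : ∀ g : Γ(X, ⊤), InI s I g → ∃ a ∈ I, g = ρ s ⊤ a := by
  induction I using WellFoundedLT.induction with
  | ind I ih =>
    intro g hg
    by_cases hI : I = ⊥
    · refine ⟨0, by rw [hI]; exact Submodule.zero_mem _, ?_⟩
      rw [map_zero]
      apply eq_zero_of_res_eq_zero
      intro U
      have := hg U
      rw [hI, Ideal.map_bot] at this
      exact this
    · obtain ⟨I', ε, hlt, hεI, hsup, hmε, hcol⟩ := exists_step I hI
      -- local decomposition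
      have hloc : ∀ U : X.affineOpens, ∃ b : Γ(X, U.1),
          res le_top g - ρ s U.1 ε * b ∈ Ideal.map (ρ s U.1) I' := by
        intro U
        have h1 := hg U
        rw [← hsup, Ideal.map_sup, Ideal.map_span, Set.image_singleton] at h1
        obtain ⟨y, hy, z, hz, hyz⟩ := Submodule.mem_sup.mp h1
        obtain ⟨b, rfl⟩ := Ideal.mem_span_singleton'.mp hz
        refine ⟨b, ?_⟩
        have : res le_top g - ρ s U.1 ε * b = y := by
          rw [← hyz]; ring
        rw [this]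
        exact hy
      choose b hb using hloc
      -- flatness
      have hflat : ∀ (U : X.affineOpens) (x : Γ(X, U.1)),
          ρ s U.1 ε * x ∈ Ideal.map (ρ s U.1) I' → x ∈ Ideal.map (ρ s U.1) (maximalIdeal A) := by
        intro U x hx
        letI : Algebra A Γ(X, U.1) := (ρ s U.1).toAlgebra
        haveI : Module.Flat A Γ(X, U.1) := flat_ρ s U.1 U.2
        exact mem_map_colon I' (maximalIdeal A) ε hcol x hx
      let β : ∀ U : X.affineOpens, Γ(X₀, ι ⁻¹ᵁ U.1) := fun U => (ι.app U.1).hom (b U)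
      have hβ : ∀ (U U' : X.affineOpens) (h : U'.1 ≤ U.1),
          res (show ι ⁻¹ᵁ U'.1 ≤ ι ⁻¹ᵁ U.1 from fun _ hx => h hx) (β U) = β U' := by
        intro U U' h
        change res _ ((ι.app U.1).hom (b U)) = (ι.app U'.1).hom (b U')
        rw [← app_res ι h (b U)]
        -- `res h (b U) - b U'` lies in `m`
        have h1 : res h (res le_top g - ρ s U.1 ε * b U) ∈ Ideal.map (ρ s U'.1) I' :=
          res_mem_map s h I' _ (hb U)
        have h2 : res h (res le_top g - ρ s U.1 ε * b U) =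
            res le_top g - ρ s U'.1 ε * res h (b U) := by
          unfold res
          rw [map_sub, map_mul]
          congr 1
          · exact res_res le_top h g
          · congr 1
            exact res_ρ s h ε
        rw [h2] at h1
        have h3 : ρ s U'.1 ε * (res h (b U) - b U') ∈ Ideal.map (ρ s U'.1) I' := by
          have : ρ s U'.1 ε * (res h (b U) - b U') =
              (res le_top g - ρ s U'.1 ε * b U') - (res le_top g - ρ s U'.1 ε * res h (b U)) := by
            ring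
          rw [this]
          exact Ideal.sub_mem _ (hb U') h1
        have h4 := app_eq_zero_of_mem φ hφ s ι s₀ H U'.1 _ (hflat U' _ h3)
        rw [map_sub, sub_eq_zero] at h4
        exact h4
      obtain ⟨c₀, hc₀⟩ := glue ι β hβ
      obtain ⟨k, hk⟩ := h0 c₀
      obtain ⟨c, rfl⟩ := hφ k
      -- the corrected section
      have hg₁ : InI s I' (g - ρ s ⊤ (ε * c)) := by
        intro U
        have h1 : res (le_top : U.1 ≤ ⊤) (g - ρ s ⊤ (ε * c)) =
            (res le_top g - ρ s U.1 ε * b U) + ρ s U.1 ε * (b U - ρ s U.1 c) := by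
          have : res (le_top : U.1 ≤ ⊤) (g - ρ s ⊤ (ε * c)) =
              res le_top g - ρ s U.1 (ε * c) := by
            unfold res
            rw [map_sub]
            congr 1
            exact res_ρ s le_top (ε * c)
          rw [this, map_mul]
          ring
        rw [h1]
        apply Ideal.add_mem _ (hb U)
        -- `b U - ρ c` is killed by `ι`
        have h2 : (ι.app U.1).hom (b U - ρ s U.1 c) = 0 := by
          rw [map_sub, app_ρ φ s ι s₀ H.w U.1 c, sub_eq_zero]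
          change β U = _
          rw [← hc₀ U, ← hk]
          exact (res_ρ s₀ le_top (φ c))
        have h3 := mem_map_of_app_eq_zero φ hφ s ι s₀ H U.1 U.2 _ h2
        have h4 : ρ s U.1 ε * (b U - ρ s U.1 c) ∈
            Ideal.map (ρ s U.1) (Ideal.span {ε} * maximalIdeal A) := by
          rw [Ideal.map_mul, Ideal.map_span, Set.image_singleton]
          exact Ideal.mul_mem_mul (Ideal.mem_span_singleton_self _) h3
        have h5 : Ideal.span {ε} * maximalIdeal A ≤ I' := by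
          rw [Ideal.mul_le]
          intro r hr μ hμ
          obtain ⟨d, rfl⟩ := Ideal.mem_span_singleton'.mp hr
          have : d * ε * μ = d * (μ * ε) := by ring
          rw [this]
          exact Ideal.mul_mem_left _ _ (hmε μ hμ)
        exact Ideal.map_mono h5 h4
      obtain ⟨a', ha', hga'⟩ := ih I' hlt _ hg₁
      refine ⟨ε * c + a', Ideal.add_mem _ (Ideal.mul_mem_right _ _ hεI) (hlt.le ha'), ?_⟩
      rw [map_add, ← hga']
      ring

include hφ H h0 in
/-- **Functions on a flat family over an Artinian local ring** whose closed fibre has only constant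
functions are constant. -/
theorem surjective_ρ : Function.Surjective (ρ s ⊤) := by
  intro g
  obtain ⟨a, -, ha⟩ := P φ hφ s ι s₀ H h0 ⊤ g (fun U => by rw [Ideal.map_top]; trivial)
  exact ⟨a, ha.symm⟩

end main

end Groth.Agent.Lib.Helper26.ArtC
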