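import Mathlib
import Groth.Agent.Lib.Helper18.EP1
set_option backward.isDefEq.respectTransparency.types false
set_option autoImplicit false
set_option linter.unusedSectionVars false
set_option linter.unusedSimpArgs false

open CategoryTheory CategoryTheory.Limits AlgebraicGeometry TensorProduct

namespace Groth.Agent.Lib.Helper26.ArtLift
universe u

/-- nilpotent Nakayama -/
theorem eq_top_of_sup_smul_top {C M : Type*} [CommRing C] [AddCommGroup M] [Module C M]
    (N : Submodule C M) (J : Ideal C) (n : ℕ) (hJ : J ^ n = ⊥)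
    (h : N ⊔ J • (⊤ : Submodule C M) = ⊤) : N = ⊤ := by
  have key : ∀ m : ℕ, N ⊔ (J ^ m) • (⊤ : Submodule C M) = ⊤ := by
    intro m
    induction m with
    | zero => simp
    | succ m ih =>
      have h1 : J ^ m • (⊤ : Submodule C M) ≤ N ⊔ J ^ (m + 1) • (⊤ : Submodule C M) := by
        calc J ^ m • (⊤ : Submodule C M) = J ^ m • (N ⊔ J • (⊤ : Submodule C M)) := by rw [h]
          _ = J ^ m • N ⊔ J ^ m • (J • (⊤ : Submodule C M)) := Submodule.smul_sup _ _ _
          _ ≤ N ⊔ J ^ (m + 1) • (⊤ : Submodule C M) :=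
            sup_le_sup Submodule.smul_le_right (by rw [← mul_smul, ← pow_succ])
      refine top_le_iff.1 ?_
      calc (⊤ : Submodule C M) = N ⊔ J ^ m • (⊤ : Submodule C M) := ih.symm
        _ ≤ N ⊔ J ^ (m + 1) • (⊤ : Submodule C M) := sup_le le_sup_left h1
  have := key n
  rwa [hJ, Submodule.bot_smul, sup_bot_eq] at this

theorem exists_pow_maximalIdeal_eq_bot (A : Type u) [CommRing A] [IsArtinianRing A] [IsLocalRing A] :
    ∃ n : ℕ, IsLocalRing.maximalIdeal A ^ n = ⊥ := by
  have h := IsArtinianRing.isNilpotent_jacobson_bot (R := A)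
  rw [IsLocalRing.jacobson_eq_maximalIdeal ⊥ bot_ne_top] at h
  exact h

theorem prime_eq_maximalIdeal (A : Type u) [CommRing A] [IsArtinianRing A] [IsLocalRing A]
    (p : Ideal A) [p.IsPrime] : p = IsLocalRing.maximalIdeal A :=
  IsLocalRing.eq_maximalIdeal (IsArtinianRing.isMaximal_of_isPrime p)

theorem maximalIdeal_stalk_pow_eq_bot (A : Type u) [CommRing A] [IsArtinianRing A] [IsLocalRing A]
    (n : ℕ) (hn : IsLocalRing.maximalIdeal A ^ n = ⊥) (s : Spec (CommRingCat.of A)) :
    IsLocalRing.maximalIdeal ((Spec (CommRingCat.of A)).presheaf.stalk s) ^ n = ⊥ := by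
  let _ : Algebra A ((Spec (CommRingCat.of A)).presheaf.stalk s) :=
    StructureSheaf.stalkAlgebra A s
  have : IsLocalization.AtPrime ((Spec (CommRingCat.of A)).presheaf.stalk s) s.asIdeal :=
    StructureSheaf.IsLocalization.to_stalk A s
  rw [← IsLocalization.AtPrime.map_eq_maximalIdeal s.asIdeal, ← Ideal.map_pow,
    prime_eq_maximalIdeal A s.asIdeal, hn, Ideal.map_bot]

theorem surjectiveOnStalks_of_thickening {X Y S S0 X0 Y0 : Scheme.{u}}
    (u : X ⟶ Y) (g : Y ⟶ S) (i : S0 ⟶ S) [IsClosedImmersion i]
    (jX : X0 ⟶ X) (pX : X0 ⟶ S0) (sqX : IsPullback jX pX (u ≫ g) i)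
    (jY : Y0 ⟶ Y) (pY : Y0 ⟶ S0) (sqY : IsPullback jY pY g i)
    (u0 : X0 ⟶ Y0) (hu0 : u0 ≫ jY = jX ≫ u)
    (n : ℕ) (hnil : ∀ s : S, IsLocalRing.maximalIdeal (S.presheaf.stalk s) ^ n = ⊥)
    (hsurj : Function.Surjective jX)
    [SurjectiveOnStalks u0] : SurjectiveOnStalks u := by
  constructor
  intro x
  obtain ⟨x0, rfl⟩ := hsurj x
  have hjY : IsClosedImmersion jY := MorphismProperty.of_isPullback sqY.flip inferInstance
  have hjX : IsClosedImmersion jX := MorphismProperty.of_isPullback sqX.flip inferInstance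
  have hker := Groth.Agent.Lib.Helper18.EP1.ker_le (u ≫ g) i jX pX sqX x0
  have hsurj2 : Function.Surjective ((jX ≫ u).stalkMap x0).hom := by
    rw [Scheme.Hom.stalkMap_congr_hom _ _ hu0.symm, Scheme.Hom.stalkMap_comp]
    simp only [CommRingCat.hom_comp, RingHom.coe_comp]
    refine (u0.stalkMap_surjective x0).comp ((jY.stalkMap_surjective _).comp ?_)
    exact (ConcreteCategory.bijective_of_isIso _).2
  set φ := u.stalkMap (jX x0) with hφ
  set J : Ideal (Y.presheaf.stalk (u (jX x0))) :=
    Ideal.map (g.stalkMap (u (jX x0))).hom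
      (IsLocalRing.maximalIdeal (S.presheaf.stalk (g (u (jX x0))))) with hJ
  have hJn : J ^ n = ⊥ := by
    rw [hJ, ← Ideal.map_pow, hnil, Ideal.map_bot]
  have hker' : RingHom.ker (jX.stalkMap x0).hom ≤ Ideal.map φ.hom J := by
    refine hker.trans (le_of_eq ?_)
    rw [hJ, Ideal.map_map, hφ, ← CommRingCat.hom_comp, ← Scheme.Hom.stalkMap_comp]
    rfl
  let _ : Algebra (Y.presheaf.stalk (u (jX x0))) (X.presheaf.stalk (jX x0)) := φ.hom.toAlgebra
  have hN : LinearMap.range (Algebra.linearMap (Y.presheaf.stalk (u (jX x0)))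
      (X.presheaf.stalk (jX x0))) = ⊤ := by
    refine eq_top_of_sup_smul_top _ J n hJn ?_
    rw [eq_top_iff]
    intro b _
    obtain ⟨c, hc⟩ := hsurj2 ((jX.stalkMap x0).hom b)
    have e := Scheme.Hom.stalkMap_comp jX u x0
    have hc' : (jX.stalkMap x0).hom (φ.hom c) = (jX.stalkMap x0).hom b := by
      rw [← hc]
      exact (congrArg (fun f => (CommRingCat.Hom.hom f) c) e).symm
    have hmem : b - φ.hom c ∈ Ideal.map φ.hom J := by
      apply hker'
      rw [RingHom.mem_ker, map_sub, hc', sub_self]
    have hmem' : b - φ.hom c ∈ J • (⊤ : Submodule (Y.presheaf.stalk (u (jX x0)))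
        (X.presheaf.stalk (jX x0))) := by
      rw [Ideal.smul_top_eq_map]
      exact hmem
    have : b = φ.hom c + (b - φ.hom c) := by ring
    rw [this]
    exact Submodule.add_mem_sup ⟨c, rfl⟩ hmem'
  intro b
  have : b ∈ LinearMap.range (Algebra.linearMap (Y.presheaf.stalk (u (jX x0)))
      (X.presheaf.stalk (jX x0))) := by rw [hN]; trivial
  obtain ⟨c, hc⟩ := this
  exact ⟨c, hc⟩

/-- topological transfer along surjective closed embeddings -/
theorem isEmbedding_of_sq {α β α0 β0 : Type*} [TopologicalSpace α] [TopologicalSpace β]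
    [TopologicalSpace α0] [TopologicalSpace β0] (u : α → β) (u0 : α0 → β0) (jX : α0 → α)
    (jY : β0 → β) (hjX : Topology.IsClosedEmbedding jX) (hsX : Function.Surjective jX)
    (hjY : Topology.IsClosedEmbedding jY) (hcomm : u ∘ jX = jY ∘ u0)
    (hu0 : Topology.IsEmbedding u0) : Topology.IsEmbedding u := by
  let e : α0 ≃ₜ α := hjX.isEmbedding.toHomeomorphOfSurjective hsX
  have h1 : u = (jY ∘ u0) ∘ e.symm := by
    rw [← hcomm]
    funext x
    obtain ⟨x0, rfl⟩ := hsX x
    have : e.symm (jX x0) = x0 := e.symm_apply_apply x0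
    simp only [Function.comp_apply, this]
  rw [h1]
  exact (hjY.isEmbedding.comp hu0).comp e.symm.isEmbedding

theorem isClosedEmbedding_of_sq {α β α0 β0 : Type*} [TopologicalSpace α] [TopologicalSpace β]
    [TopologicalSpace α0] [TopologicalSpace β0] (u : α → β) (u0 : α0 → β0) (jX : α0 → α)
    (jY : β0 → β) (hjX : Topology.IsClosedEmbedding jX) (hsX : Function.Surjective jX)
    (hjY : Topology.IsClosedEmbedding jY) (hcomm : u ∘ jX = jY ∘ u0)
    (hu0 : Topology.IsClosedEmbedding u0) : Topology.IsClosedEmbedding u := by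
  let e : α0 ≃ₜ α := hjX.isEmbedding.toHomeomorphOfSurjective hsX
  have h1 : u = (jY ∘ u0) ∘ e.symm := by
    rw [← hcomm]
    funext x
    obtain ⟨x0, rfl⟩ := hsX x
    have : e.symm (jX x0) = x0 := e.symm_apply_apply x0
    simp only [Function.comp_apply, this]
  rw [h1]
  exact (hjY.comp hu0).comp e.symm.isClosedEmbedding

theorem isLocallyClosed_range_of_sq {α β α0 β0 : Type*} [TopologicalSpace α] [TopologicalSpace β]
    [TopologicalSpace α0] [TopologicalSpace β0] (u : α → β) (u0 : α0 → β0) (jX : α0 → α)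
    (jY : β0 → β) (hsX : Function.Surjective jX)
    (hjY : Topology.IsClosedEmbedding jY) (hcomm : u ∘ jX = jY ∘ u0)
    (hu0 : IsLocallyClosed (Set.range u0)) : IsLocallyClosed (Set.range u) := by
  have h1 : Set.range u = jY '' Set.range u0 := by
    rw [← Set.range_comp, ← hcomm, hsX.range_comp]
  rw [h1]
  exact hu0.image hjY.isInducing hjY.isClosed_range.isLocallyClosed

theorem finiteType_of_tensor_quotient {A R : Type u} [CommRing A] [CommRing R] [Algebra A R]
    (m : Ideal A) (n : ℕ) (hm : m ^ n = ⊥)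
    (h : (Algebra.TensorProduct.includeRight : (A ⧸ m) →ₐ[A] R ⊗[A] (A ⧸ m)).toRingHom.FiniteType) :
    Algebra.FiniteType A R := by
  classical
  let alg : Algebra (A ⧸ m) (R ⊗[A] (A ⧸ m)) :=
    (Algebra.TensorProduct.includeRight : (A ⧸ m) →ₐ[A] R ⊗[A] (A ⧸ m)).toRingHom.toAlgebra
  have hft : Algebra.FiniteType (A ⧸ m) (R ⊗[A] (A ⧸ m)) := h
  obtain ⟨s, hs⟩ := hft.out
  -- includeLeft is surjective
  have hsurj : Function.Surjective
      (Algebra.TensorProduct.includeLeft : R →ₐ[A] R ⊗[A] (A ⧸ m)) := by
    intro z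
    induction z using TensorProduct.induction_on with
    | zero => exact ⟨0, map_zero _⟩
    | tmul r c =>
      obtain ⟨a, rfl⟩ := Ideal.Quotient.mk_surjective c
      refine ⟨a • r, ?_⟩
      simp only [Algebra.TensorProduct.includeLeft_apply]
      rw [TensorProduct.smul_tmul]
      congr 1
      rw [← Ideal.Quotient.algebraMap_eq, Algebra.algebraMap_eq_smul_one]
    | add x y hx hy =>
      obtain ⟨x', rfl⟩ := hx
      obtain ⟨y', rfl⟩ := hy
      exact ⟨x' + y', map_add _ _ _⟩
  choose lift hlift using hsurj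
  let s' : Finset R := s.image lift
  refine ⟨⟨s', ?_⟩⟩
  set R' := Algebra.adjoin A (↑s' : Set R) with hR'
  -- every element agrees with an element of R' after tensoring
  have hkey : ∀ z : R ⊗[A] (A ⧸ m), ∃ r' ∈ R',
      z = (Algebra.TensorProduct.includeLeft : R →ₐ[A] R ⊗[A] (A ⧸ m)) r' := by
    intro z
    have hz : z ∈ Algebra.adjoin (A ⧸ m) (↑s : Set (R ⊗[A] (A ⧸ m))) := by rw [hs]; trivial
    induction hz using Algebra.adjoin_induction with
    | mem x hx =>
      refine ⟨lift x, Algebra.subset_adjoin ?_, (hlift x).symm⟩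
      exact Finset.mem_coe.2 (Finset.mem_image_of_mem lift hx)
    | algebraMap c =>
      obtain ⟨a, rfl⟩ := Ideal.Quotient.mk_surjective c
      refine ⟨algebraMap A R a, Subalgebra.algebraMap_mem _ a, ?_⟩
      rw [RingHom.algebraMap_toAlgebra]
      simp only [AlgHom.toRingHom_eq_coe, RingHom.coe_coe,
        Algebra.TensorProduct.includeRight_apply, Algebra.TensorProduct.includeLeft_apply]
      rw [Algebra.algebraMap_eq_smul_one, TensorProduct.smul_tmul]
      congr 1
      rw [← Ideal.Quotient.algebraMap_eq, Algebra.algebraMap_eq_smul_one]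
    | add x y _ _ hx hy =>
      obtain ⟨x', hx', rfl⟩ := hx
      obtain ⟨y', hy', rfl⟩ := hy
      exact ⟨x' + y', add_mem hx' hy', (map_add _ _ _).symm⟩
    | mul x y _ _ hx hy =>
      obtain ⟨x', hx', rfl⟩ := hx
      obtain ⟨y', hy', rfl⟩ := hy
      exact ⟨x' * y', mul_mem hx' hy', (map_mul _ _ _).symm⟩
  have hsup : Subalgebra.toSubmodule R' ⊔ m • (⊤ : Submodule A R) = ⊤ := by
    rw [eq_top_iff]
    intro r _
    obtain ⟨r', hr', he⟩ := hkey ((Algebra.TensorProduct.includeLeft : R →ₐ[A] R ⊗[A] (A ⧸ m)) r)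
    have h0 : (r - r') ⊗ₜ[A] (1 : A ⧸ m) = 0 := by
      have := congrArg (fun z => z - (Algebra.TensorProduct.includeLeft :
        R →ₐ[A] R ⊗[A] (A ⧸ m)) r') he
      simp only [sub_self, Algebra.TensorProduct.includeLeft_apply] at this
      rw [TensorProduct.sub_tmul]
      exact this
    have h1 : r - r' ∈ m • (⊤ : Submodule A R) := by
      have := congrArg (TensorProduct.tensorQuotEquivQuotSMul R m) h0
      rw [← map_one (Ideal.Quotient.mk m), TensorProduct.tensorQuotEquivQuotSMul_tmul_mk,
        map_zero, one_smul] at this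
      exact (Submodule.Quotient.mk_eq_zero _).1 this
    have : r = r' + (r - r') := by ring
    rw [this]
    exact Submodule.add_mem_sup hr' h1
  have htop := eq_top_of_sup_smul_top _ m n hm hsup
  exact Algebra.toSubmodule_eq_top.1 htop

section main
variable (A : Type u) [CommRing A] [IsArtinianRing A] [IsLocalRing A]

instance isClosedImmersion_residue :
    IsClosedImmersion (Spec.map (CommRingCat.ofHom (IsLocalRing.residue A))) :=
  IsClosedImmersion.spec_of_surjective _ IsLocalRing.residue_surjective

theorem subsingleton_spec : Subsingleton (Spec (CommRingCat.of A)) := by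
  constructor
  intro p q
  apply PrimeSpectrum.ext
  rw [prime_eq_maximalIdeal A p.asIdeal, prime_eq_maximalIdeal A q.asIdeal]

instance surjective_residue :
    Surjective (Spec.map (CommRingCat.ofHom (IsLocalRing.residue A))) := by
  constructor
  intro s
  have := subsingleton_spec A
  exact ⟨IsLocalRing.closedPoint _, Subsingleton.elim _ _⟩

variable {A}

theorem surjective_fst (X : Over (Spec (CommRingCat.of A))) :
    Function.Surjective
      (pullback.fst X.hom (Spec.map (CommRingCat.ofHom (IsLocalRing.residue A)))) := by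
  have : Surjective (pullback.fst X.hom (Spec.map (CommRingCat.ofHom (IsLocalRing.residue A)))) :=
    MorphismProperty.pullback_fst (P := @Surjective) _ _ (surjective_residue A)
  exact Scheme.Hom.surjective _

theorem quasiCompact_of_fibre (X : Over (Spec (CommRingCat.of A)))
    (h : QuasiCompact (pullback.snd X.hom (Spec.map (CommRingCat.ofHom (IsLocalRing.residue A))))) :
    QuasiCompact X.hom := by
  rw [quasiCompact_iff_compactSpace] at h ⊢
  constructor
  have h1 := (isCompact_univ (X := ↥(pullback X.hom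
    (Spec.map (CommRingCat.ofHom (IsLocalRing.residue A)))))).image
    (pullback.fst X.hom (Spec.map (CommRingCat.ofHom (IsLocalRing.residue A)))).continuous
  rwa [Set.image_univ, (surjective_fst X).range_eq] at h1

theorem surjectiveOnStalks_of_fibre {X Y : Over (Spec (CommRingCat.of A))} (u : X ⟶ Y)
    (h : SurjectiveOnStalks ((Over.pullback (Spec.map (CommRingCat.ofHom
      (IsLocalRing.residue A)))).map u).left) : SurjectiveOnStalks u.left := by
  obtain ⟨n, hn⟩ := exists_pow_maximalIdeal_eq_bot A
  have sqX : IsPullback (pullback.fst X.hom (Spec.map (CommRingCat.ofHom (IsLocalRing.residue A))))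
      (pullback.snd X.hom (Spec.map (CommRingCat.ofHom (IsLocalRing.residue A))))
      (u.left ≫ Y.hom) (Spec.map (CommRingCat.ofHom (IsLocalRing.residue A))) := by
    rw [Over.w u]
    exact IsPullback.of_hasPullback _ _
  refine surjectiveOnStalks_of_thickening u.left Y.hom
    (Spec.map (CommRingCat.ofHom (IsLocalRing.residue A))) _ _ sqX _ _
    (IsPullback.of_hasPullback Y.hom _)
    ((Over.pullback (Spec.map (CommRingCat.ofHom (IsLocalRing.residue A)))).map u).left ?_ n
    (maximalIdeal_stalk_pow_eq_bot A n hn) ?_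
  · simp only [Over.pullback_obj_left, Over.pullback_map_left]
    exact pullback.lift_fst _ _ _
  · exact surjective_fst X

theorem comm_fun {X Y : Over (Spec (CommRingCat.of A))} (u : X ⟶ Y) :
    (u.left : X.left → Y.left) ∘
      (pullback.fst X.hom (Spec.map (CommRingCat.ofHom (IsLocalRing.residue A)))) =
    (pullback.fst Y.hom (Spec.map (CommRingCat.ofHom (IsLocalRing.residue A)))) ∘
      (((Over.pullback (Spec.map (CommRingCat.ofHom (IsLocalRing.residue A)))).map u).left) := by
  have hu0 : ((Over.pullback (Spec.map (CommRingCat.ofHom (IsLocalRing.residue A)))).map u).left ≫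
      pullback.fst Y.hom (Spec.map (CommRingCat.ofHom (IsLocalRing.residue A))) =
      pullback.fst X.hom (Spec.map (CommRingCat.ofHom (IsLocalRing.residue A))) ≫ u.left := by
    simp only [Over.pullback_map_left]
    exact pullback.lift_fst _ _ _
  funext x
  have := congrArg (fun f : _ ⟶ Y.left => f x) hu0
  simpa using this.symm

theorem isClosedImmersion_of_fibre {X Y : Over (Spec (CommRingCat.of A))} (u : X ⟶ Y)
    (h : IsClosedImmersion ((Over.pullback (Spec.map (CommRingCat.ofHom
      (IsLocalRing.residue A)))).map u).left) : IsClosedImmersion u.left := by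
  have hs : SurjectiveOnStalks u.left := surjectiveOnStalks_of_fibre u inferInstance
  have hjX : IsClosedImmersion
      (pullback.fst X.hom (Spec.map (CommRingCat.ofHom (IsLocalRing.residue A)))) :=
    MorphismProperty.pullback_fst (P := @IsClosedImmersion) _ _ inferInstance
  have hjY : IsClosedImmersion
      (pullback.fst Y.hom (Spec.map (CommRingCat.ofHom (IsLocalRing.residue A)))) :=
    MorphismProperty.pullback_fst (P := @IsClosedImmersion) _ _ inferInstance
  exact
    { toSurjectiveOnStalks := hs
      isClosedEmbedding := isClosedEmbedding_of_sq _ _ _ _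
        (Scheme.Hom.isClosedEmbedding _) (surjective_fst X) (Scheme.Hom.isClosedEmbedding _)
        (comm_fun u) (Scheme.Hom.isClosedEmbedding _) }

theorem isImmersion_of_fibre {X Y : Over (Spec (CommRingCat.of A))} (u : X ⟶ Y)
    (h : IsImmersion ((Over.pullback (Spec.map (CommRingCat.ofHom
      (IsLocalRing.residue A)))).map u).left) : IsImmersion u.left := by
  have hs : SurjectiveOnStalks u.left := surjectiveOnStalks_of_fibre u inferInstance
  have hjX : IsClosedImmersion
      (pullback.fst X.hom (Spec.map (CommRingCat.ofHom (IsLocalRing.residue A)))) :=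
    MorphismProperty.pullback_fst (P := @IsClosedImmersion) _ _ inferInstance
  have hjY : IsClosedImmersion
      (pullback.fst Y.hom (Spec.map (CommRingCat.ofHom (IsLocalRing.residue A)))) :=
    MorphismProperty.pullback_fst (P := @IsClosedImmersion) _ _ inferInstance
  have hpre : IsPreimmersion u.left :=
    { toSurjectiveOnStalks := hs
      isEmbedding := isEmbedding_of_sq _ _ _ _
        (Scheme.Hom.isClosedEmbedding _) (surjective_fst X) (Scheme.Hom.isClosedEmbedding _)
        (comm_fun u) (Scheme.Hom.isEmbedding _) }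
  exact
    { toIsPreimmersion := hpre
      isLocallyClosed_range := isLocallyClosed_range_of_sq _ _ _ _ (surjective_fst X)
        (Scheme.Hom.isClosedEmbedding _) (comm_fun u) (Scheme.Hom.isLocallyClosed_range _) }

theorem lft_spec_of_fibre (R : CommRingCat.{u}) (ψ : CommRingCat.of A ⟶ R)
    (h : LocallyOfFiniteType (pullback.snd (Spec.map ψ)
      (Spec.map (CommRingCat.ofHom (IsLocalRing.residue A))))) :
    LocallyOfFiniteType (Spec.map ψ) := by
  obtain ⟨n, hn⟩ := exists_pow_maximalIdeal_eq_bot A
  algebraize [ψ.hom]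
  have hsnd := pullbackSpecIso_inv_snd A R (IsLocalRing.ResidueField A)
  have h1 : LocallyOfFiniteType (pullback.snd (Spec.map (CommRingCat.ofHom (algebraMap A R)))
      (Spec.map (CommRingCat.ofHom (algebraMap A (IsLocalRing.ResidueField A))))) := h
  have h2 : LocallyOfFiniteType ((pullbackSpecIso A R (IsLocalRing.ResidueField A)).inv ≫
      pullback.snd (Spec.map (CommRingCat.ofHom (algebraMap A R)))
      (Spec.map (CommRingCat.ofHom (algebraMap A (IsLocalRing.ResidueField A))))) := inferInstance
  rw [hsnd] at h2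
  rw [HasRingHomProperty.Spec_iff (P := @LocallyOfFiniteType)] at h2 ⊢
  have h3 := finiteType_of_tensor_quotient (A := A) (R := R) (IsLocalRing.maximalIdeal A) n hn h2
  exact RingHom.finiteType_algebraMap.2 h3

theorem lft_of_fibre (X : Over (Spec (CommRingCat.of A)))
    (h : LocallyOfFiniteType (pullback.snd X.hom
      (Spec.map (CommRingCat.ofHom (IsLocalRing.residue A))))) :
    LocallyOfFiniteType X.hom := by
  rw [IsZariskiLocalAtSource.iff_of_openCover (P := @LocallyOfFiniteType)
    X.left.affineOpenCover.openCover]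
  intro j
  obtain ⟨ψ, hψ⟩ : ∃ ψ : CommRingCat.of A ⟶ X.left.affineOpenCover.X j,
      Spec.map ψ = X.left.affineOpenCover.f j ≫ X.hom := ⟨_, Spec.map_preimage _⟩
  change LocallyOfFiniteType (X.left.affineOpenCover.f j ≫ X.hom)
  rw [← hψ]
  apply lft_spec_of_fibre
  rw [hψ]
  have e : pullback.snd (X.left.affineOpenCover.f j ≫ X.hom)
      (Spec.map (CommRingCat.ofHom (IsLocalRing.residue A))) =
      pullback.map (X.left.affineOpenCover.f j ≫ X.hom)
        (Spec.map (CommRingCat.ofHom (IsLocalRing.residue A))) X.hom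
        (Spec.map (CommRingCat.ofHom (IsLocalRing.residue A)))
        (X.left.affineOpenCover.f j) (𝟙 _) (𝟙 _) (by simp) (by simp) ≫
      pullback.snd X.hom (Spec.map (CommRingCat.ofHom (IsLocalRing.residue A))) := by
    rw [pullback.lift_snd, Category.comp_id]
  rw [e]
  infer_instance

theorem main_5346 (A : Type u) [CommRing A] [IsArtinianRing A] [IsLocalRing A]
    (X Y : Over (Spec (CommRingCat.of A))) (u : X ⟶ Y) :
    letI i : Spec (CommRingCat.of (IsLocalRing.ResidueField A)) ⟶ (Spec (CommRingCat.of A)) :=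
      Spec.map (CommRingCat.ofHom (IsLocalRing.residue A))
    (LocallyOfFiniteType (pullback.snd X.hom i) → LocallyOfFiniteType X.hom) ∧
    (LocallyOfFiniteType (pullback.snd X.hom i) → QuasiCompact (pullback.snd X.hom i) →
      QuasiCompact X.hom) ∧
    (IsImmersion ((Over.pullback i).map u).left → IsImmersion u.left) ∧
    (IsClosedImmersion ((Over.pullback i).map u).left → IsClosedImmersion u.left) :=
  ⟨lft_of_fibre X, fun _ h => quasiCompact_of_fibre X h, isImmersion_of_fibre u,
    isClosedImmersion_of_fibre u⟩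

end main

end Groth.Agent.Lib.Helper26.ArtLift
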