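import Mathlib
import Groth.Agent.Lib.Helper26.ArtLift
set_option backward.isDefEq.respectTransparency.types false
set_option autoImplicit false
set_option linter.unusedSectionVars false
universe u
open CategoryTheory AlgebraicGeometry IsLocalRing

namespace Groth.Agent.Lib.Helper26.ArtinTrick

section Alg
variable {D κ : Type u} [CommRing D] [IsLocalRing D] [IsArtinianRing D] [Field κ]
  (ρ : D →+* κ) (κ0 : Subfield κ)

/-- the subring of elements with residue in `κ0` -/
def sub : Subring D := κ0.toSubring.comap ρ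

lemma mem_sub (d : D) : d ∈ sub ρ κ0 ↔ ρ d ∈ κ0 := Iff.rfl

lemma ker_eq (hρ : Function.Surjective ρ) : RingHom.ker ρ = maximalIdeal D :=
  IsLocalRing.eq_maximalIdeal (RingHom.ker_isMaximal_of_surjective ρ hρ)

lemma maximalIdeal_le_sub (hρ : Function.Surjective ρ) (d : D) (hd : d ∈ maximalIdeal D) :
    d ∈ sub ρ κ0 := by
  rw [← ker_eq ρ hρ, RingHom.mem_ker] at hd
  rw [mem_sub, hd]; exact zero_mem _

lemma isUnit_sub_iff (hρ : Function.Surjective ρ) (x : sub ρ κ0) : IsUnit x ↔ ρ x ≠ 0 := by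
  constructor
  · intro h
    have : IsUnit (ρ x) := (h.map (sub ρ κ0).subtype).map ρ
    exact this.ne_zero
  · intro h
    have h1 : IsUnit (x : D) := by
      rw [← IsLocalRing.notMem_maximalIdeal, ← ker_eq ρ hρ, RingHom.mem_ker]
      exact h
    obtain ⟨y, hy⟩ := h1.exists_right_inv
    have hy' : ρ y = (ρ x)⁻¹ := by
      have := congrArg ρ hy
      rw [map_mul, map_one] at this
      exact eq_inv_of_mul_eq_one_right this
    have hymem : y ∈ sub ρ κ0 := by
      rw [mem_sub, hy']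
      exact κ0.inv_mem x.2
    exact IsUnit.of_mul_eq_one ⟨y, hymem⟩ (Subtype.ext hy)

instance isLocalRing_sub [hρ : Fact (Function.Surjective ρ)] : IsLocalRing (sub ρ κ0) := by
  refine IsLocalRing.of_isUnit_or_isUnit_one_sub_self fun x => ?_
  rw [isUnit_sub_iff ρ κ0 hρ.out, isUnit_sub_iff ρ κ0 hρ.out]
  by_contra h
  push_neg at h
  have : ρ ((1 - x : sub ρ κ0) : D) = 1 - ρ x := by simp
  rw [this, h.1, sub_zero] at h
  exact one_ne_zero h.2

lemma mem_maximalIdeal_sub_iff [hρ : Fact (Function.Surjective ρ)] (x : sub ρ κ0) :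
    x ∈ maximalIdeal (sub ρ κ0) ↔ ρ x = 0 := by
  rw [IsLocalRing.mem_maximalIdeal, mem_nonunits_iff, isUnit_sub_iff ρ κ0 hρ.out, not_not]

lemma mem_maximalIdeal_sub_iff' [hρ : Fact (Function.Surjective ρ)] (x : sub ρ κ0) :
    x ∈ maximalIdeal (sub ρ κ0) ↔ (x : D) ∈ maximalIdeal D := by
  rw [mem_maximalIdeal_sub_iff, ← ker_eq ρ hρ.out, RingHom.mem_ker]

instance isLocalHom_subtype [hρ : Fact (Function.Surjective ρ)] :
    IsLocalHom (sub ρ κ0).subtype := by
  constructor
  intro x hx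
  rw [isUnit_sub_iff ρ κ0 hρ.out]
  have : IsUnit (ρ ((sub ρ κ0).subtype x)) := hx.map ρ
  exact this.ne_zero

lemma isNilpotent_of_mem [hρ : Fact (Function.Surjective ρ)] (x : sub ρ κ0)
    (hx : x ∈ maximalIdeal (sub ρ κ0)) : IsNilpotent x := by
  rw [mem_maximalIdeal_sub_iff'] at hx
  obtain ⟨n, hn⟩ := Groth.Agent.Lib.Helper26.ArtLift.exists_pow_maximalIdeal_eq_bot D
  refine ⟨n, Subtype.ext ?_⟩
  have : (x : D) ^ n ∈ maximalIdeal D ^ n := Ideal.pow_mem_pow hx n
  rw [hn] at this
  simpa using this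

lemma krullDimLE [hρ : Fact (Function.Surjective ρ)] : Ring.KrullDimLE 0 (sub ρ κ0) := by
  rw [Ring.krullDimLE_zero_iff]
  intro p hp
  have : p = maximalIdeal (sub ρ κ0) := by
    refine le_antisymm (IsLocalRing.le_maximalIdeal hp.ne_top) ?_
    intro x hx
    obtain ⟨n, hn⟩ := isNilpotent_of_mem ρ κ0 x hx
    exact hp.mem_of_pow_mem n (hn ▸ p.zero_mem)
  rw [this]
  infer_instance

lemma pow_maximalIdeal_sub [hρ : Fact (Function.Surjective ρ)] (n : ℕ)
    (hn : maximalIdeal D ^ n = ⊥) : maximalIdeal (sub ρ κ0) ^ n = ⊥ := by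
  rw [eq_bot_iff]
  intro x hx
  have h1 : (sub ρ κ0).subtype x ∈ Ideal.map (sub ρ κ0).subtype (maximalIdeal (sub ρ κ0) ^ n) :=
    Ideal.mem_map_of_mem _ hx
  rw [Ideal.map_pow] at h1
  have h2 : Ideal.map (sub ρ κ0).subtype (maximalIdeal (sub ρ κ0)) ≤ maximalIdeal D := by
    rw [Ideal.map_le_iff_le_comap]
    intro y hy
    exact (mem_maximalIdeal_sub_iff' ρ κ0 y).1 hy
  have h3 := Ideal.pow_right_mono h2 n h1
  rw [hn] at h3
  exact Subtype.ext h3

lemma finite_over_sub [hρ : Fact (Function.Surjective ρ)] [Module.Finite κ0 κ] :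
    Module.Finite (sub ρ κ0) D := by
  classical
  obtain ⟨s, hs⟩ := (Module.Finite.fg_top : (⊤ : Submodule κ0 κ).FG)
  choose σ hσ using hρ.out
  obtain ⟨n, hn⟩ := Groth.Agent.Lib.Helper26.ArtLift.exists_pow_maximalIdeal_eq_bot D
  refine ⟨⟨s.image σ, ?_⟩⟩
  refine Groth.Agent.Lib.Helper26.ArtLift.eq_top_of_sup_smul_top _ (maximalIdeal (sub ρ κ0)) n
    (pow_maximalIdeal_sub ρ κ0 n hn) ?_
  rw [eq_top_iff]
  intro d _
  have hd : ρ d ∈ Submodule.span κ0 (s : Set κ) := by rw [hs]; trivial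
  rw [Submodule.mem_span_finset] at hd
  obtain ⟨f, -, hf⟩ := hd
  -- lift coefficients
  let l : κ → sub ρ κ0 := fun k => ⟨σ (f k : κ), by rw [mem_sub, hσ]; exact (f k).2⟩
  set d' : D := ∑ k ∈ s, l k • σ k with hd'
  have h1 : d' ∈ Submodule.span (sub ρ κ0) ((s.image σ : Finset D) : Set D) := by
    refine Submodule.sum_mem _ fun k hk => Submodule.smul_mem _ _ (Submodule.subset_span ?_)
    simp only [Finset.coe_image, Set.mem_image, Finset.mem_coe]
    exact ⟨k, hk, rfl⟩
  have h2 : ρ (d - d') = 0 := by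
    rw [map_sub, hd', map_sum, ← hf, sub_eq_zero]
    refine Finset.sum_congr rfl fun k _ => ?_
    change f k • k = ρ ((l k : D) * σ k)
    rw [map_mul, hσ, hσ]
    rfl
  have h3 : d - d' ∈ maximalIdeal (sub ρ κ0) • (⊤ : Submodule (sub ρ κ0) D) := by
    have hm : d - d' ∈ maximalIdeal D := by rw [← ker_eq ρ hρ.out, RingHom.mem_ker]; exact h2
    have hmem : d - d' ∈ sub ρ κ0 := maximalIdeal_le_sub ρ κ0 hρ.out _ hm
    have : d - d' = (⟨d - d', hmem⟩ : sub ρ κ0) • (1 : D) := by
      change d - d' = (d - d') * 1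
      rw [mul_one]
    rw [this]
    exact Submodule.smul_mem_smul ((mem_maximalIdeal_sub_iff' ρ κ0 _).2 hm) trivial
  have : d = d' + (d - d') := by ring
  rw [this]
  exact Submodule.add_mem_sup h1 h3

lemma maximalIdeal_sub_fg [hρ : Fact (Function.Surjective ρ)] [Module.Finite κ0 κ] :
    (maximalIdeal (sub ρ κ0)).FG := by
  haveI := finite_over_sub ρ κ0
  haveI : Module.Finite D (maximalIdeal D) :=
    Module.Finite.iff_fg.2 (IsNoetherian.noetherian (maximalIdeal D))
  haveI : Module.Finite (sub ρ κ0) (maximalIdeal D) := Module.Finite.trans D _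
  let F : (maximalIdeal D) →ₗ[sub ρ κ0] (maximalIdeal (sub ρ κ0)) :=
    { toFun := fun d => ⟨⟨d.1, maximalIdeal_le_sub ρ κ0 hρ.out _ d.2⟩,
        (mem_maximalIdeal_sub_iff' ρ κ0 _).2 d.2⟩
      map_add' := fun _ _ => rfl
      map_smul' := fun _ _ => rfl }
  have hF : Function.Surjective F := by
    rintro ⟨x, hx⟩
    exact ⟨⟨x.1, (mem_maximalIdeal_sub_iff' ρ κ0 _).1 hx⟩, rfl⟩
  have : Module.Finite (sub ρ κ0) (maximalIdeal (sub ρ κ0)) := Module.Finite.of_surjective F hF
  exact Module.Finite.iff_fg.1 this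

instance isArtinianRing_sub [hρ : Fact (Function.Surjective ρ)] [Module.Finite κ0 κ] :
    IsArtinianRing (sub ρ κ0) := by
  rw [isArtinianRing_iff_isNoetherianRing_krullDimLE_zero]
  refine ⟨IsNoetherianRing.of_prime fun p hp => ?_, krullDimLE ρ κ0⟩
  have : p = maximalIdeal (sub ρ κ0) := by
    haveI := krullDimLE ρ κ0
    haveI : p.IsMaximal := Ideal.IsPrime.isMaximal' (R := sub ρ κ0) (I := p) hp
    exact IsLocalRing.eq_maximalIdeal this
  rw [this]
  exact maximalIdeal_sub_fg ρ κ0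

end Alg

section Sch
variable (R : Type u) [CommRing R] [IsLocalRing R]

/-- residue map `R → κ(closed point)` -/
noncomputable def rho : R →+* (Spec (CommRingCat.of R)).residueField (closedPoint R) :=
  ((Spec (CommRingCat.of R)).residue (closedPoint R)).hom.comp
    (stalkClosedPointIso (CommRingCat.of R)).inv.hom

lemma rho_surjective : Function.Surjective (rho R) :=
  (Scheme.residue_surjective _ _).comp
    (ConcreteCategory.bijective_of_isIso (stalkClosedPointIso (CommRingCat.of R)).inv).2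

variable {R}

lemma rho_stalkClosedPointTo {X : Scheme.{u}} (f : Spec (CommRingCat.of R) ⟶ X)
    (y : X.presheaf.stalk (f (closedPoint R))) :
    rho R ((Scheme.stalkClosedPointTo f).hom y) =
      (f.residueFieldMap (closedPoint R)).hom ((X.residue _).hom y) := by
  have h1 := congrArg (fun k => (CommRingCat.Hom.hom k) y)
    (Scheme.residue_residueFieldMap f (closedPoint R))
  simp only [CommRingCat.hom_comp, RingHom.coe_comp, Function.comp_apply] at h1
  rw [h1]
  unfold rho Scheme.stalkClosedPointTo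
  simp only [CommRingCat.hom_comp, RingHom.coe_comp, Function.comp_apply]
  congr 1
  exact congrArg (fun k => (CommRingCat.Hom.hom k) ((f.stalkMap (closedPoint R)).hom y))
    (stalkClosedPointIso (CommRingCat.of R)).hom_inv_id

lemma rho_eq_zero_iff (r : R) : rho R r = 0 ↔ r ∈ maximalIdeal R := by
  have : RingHom.ker (rho R) = maximalIdeal R :=
    IsLocalRing.eq_maximalIdeal (RingHom.ker_isMaximal_of_surjective _ (rho_surjective R))
  rw [← this, RingHom.mem_ker]

/-- surjectivity criterion for the residue field map -/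
lemma residueFieldMap_surjective_of {X : Scheme.{u}} (f : Spec (CommRingCat.of R) ⟶ X)
    (h : ∀ r : R, ∃ y : X.presheaf.stalk (f (closedPoint R)),
      r - (Scheme.stalkClosedPointTo f).hom y ∈ maximalIdeal R) :
    Function.Surjective (f.residueFieldMap (closedPoint R)).hom := by
  intro z
  obtain ⟨r, rfl⟩ := rho_surjective R z
  obtain ⟨y, hy⟩ := h r
  refine ⟨(X.residue _).hom y, ?_⟩
  rw [← rho_stalkClosedPointTo, eq_comm, ← sub_eq_zero, ← map_sub, rho_eq_zero_iff]
  exact hy

end Sch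

section Sch2
variable {R : Type u} [CommRing R] [IsLocalRing R]

lemma fromStalk_props {X : Scheme.{u}} (x : X) (ψ : X.presheaf.stalk x ⟶ CommRingCat.of R)
    [hψ : IsLocalHom ψ.hom] :
    (Spec.map ψ ≫ X.fromSpecStalk x) (closedPoint R) = x ∧
    ((∀ r : R, ∃ y : X.presheaf.stalk x, r - ψ.hom y ∈ maximalIdeal R) →
      ∀ r : R, ∃ y : X.presheaf.stalk ((Spec.map ψ ≫ X.fromSpecStalk x) (closedPoint R)),
        r - (Scheme.stalkClosedPointTo (Spec.map ψ ≫ X.fromSpecStalk x)).hom y ∈ maximalIdeal R) := by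
  have h := (SpecToEquivOfLocalRing X (CommRingCat.of R)).right_inv ⟨x, ψ, hψ⟩
  obtain ⟨h1, h2⟩ := SpecToEquivOfLocalRing_eq_iff.1 h
  refine ⟨h1, fun H r => ?_⟩
  obtain ⟨y, hy⟩ := H r
  refine ⟨(X.presheaf.stalkCongr (.of_eq h1)).inv.hom y, ?_⟩
  have h3 : (Scheme.stalkClosedPointTo (Spec.map ψ ≫ X.fromSpecStalk x)).hom
      ((X.presheaf.stalkCongr (.of_eq h1)).inv.hom y) = ψ.hom y := by
    have h2' : Scheme.stalkClosedPointTo (Spec.map ψ ≫ X.fromSpecStalk x) =
        (X.presheaf.stalkCongr (.of_eq h1)).hom ≫ ψ := h2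
    rw [h2']
    change ψ.hom ((X.presheaf.stalkCongr (.of_eq h1)).hom.hom
      ((X.presheaf.stalkCongr (.of_eq h1)).inv.hom y)) = ψ.hom y
    congr 1
    exact congrArg (fun k => (CommRingCat.Hom.hom k) y)
      (X.presheaf.stalkCongr (.of_eq h1)).inv_hom_id
  rw [h3]
  exact hy

/-- the pushout property of `Spec` of the fibre product of local rings -/
lemma pushout_desc {R' R : Type u} [CommRing R'] [CommRing R] [IsLocalRing R'] [IsLocalRing R]
    (π : R' →+* R) (hπ : Function.Surjective π) (R0 : Subring R) [IsLocalRing R0]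
    [IsLocalHom R0.subtype] (R0' : Subring R') (hR0' : ∀ x, x ∈ R0' ↔ π x ∈ R0)
    (π0 : R0' →+* R0) (hπ0 : ∀ x, (π0 x : R) = π x)
    {S : Scheme.{u}} (b : Spec (CommRingCat.of R') ⟶ S) (a0 : Spec (CommRingCat.of R0) ⟶ S)
    (h : Spec.map (CommRingCat.ofHom π) ≫ b = Spec.map (CommRingCat.ofHom R0.subtype) ≫ a0) :
    ∃ b0 : Spec (CommRingCat.of R0') ⟶ S,
      Spec.map (CommRingCat.ofHom R0'.subtype) ≫ b0 = b ∧
      Spec.map (CommRingCat.ofHom π0) ≫ b0 = a0 := by
  haveI : IsLocalHom π := IsLocalHom.of_surjective π hπ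
  obtain ⟨_, ⟨W, hW, rfl⟩, hsW, -⟩ := S.isBasis_affineOpens.exists_subset_of_mem_open
    (Set.mem_univ (a0 (closedPoint R0))) isOpen_univ
  have hW : IsAffineOpen W := hW
  have ha0 : Set.range a0 ⊆ Set.range hW.fromSpec := by
    rw [hW.range_fromSpec]
    rintro _ ⟨z, rfl⟩
    have := Scheme.preimage_eq_top_of_closedPoint_mem a0 (U := W) hsW
    have hz : z ∈ a0 ⁻¹ᵁ W := by rw [this]; trivial
    exact hz
  have hbW : b (closedPoint R') ∈ W := by
    have e1 : (Spec.map (CommRingCat.ofHom π)) (closedPoint R) = closedPoint R' :=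
      IsLocalRing.comap_closedPoint π
    have e2 : (Spec.map (CommRingCat.ofHom R0.subtype)) (closedPoint R) = closedPoint R0 :=
      IsLocalRing.comap_closedPoint R0.subtype
    have e3 := congrArg (fun k : Spec (CommRingCat.of R) ⟶ S => k (closedPoint R)) h
    simp only [Scheme.Hom.comp_apply] at e3
    rw [e1, e2] at e3
    rw [e3]
    exact hsW
  have hb : Set.range b ⊆ Set.range hW.fromSpec := by
    rw [hW.range_fromSpec]
    rintro _ ⟨z, rfl⟩
    have := Scheme.preimage_eq_top_of_closedPoint_mem b (U := W) hbW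
    have hz : z ∈ b ⁻¹ᵁ W := by rw [this]; trivial
    exact hz
  set a0' := IsOpenImmersion.lift hW.fromSpec a0 ha0 with ha0'
  set b' := IsOpenImmersion.lift hW.fromSpec b hb with hb'
  have ea : a0' ≫ hW.fromSpec = a0 := IsOpenImmersion.lift_fac _ _ _
  have eb : b' ≫ hW.fromSpec = b := IsOpenImmersion.lift_fac _ _ _
  set α := Spec.preimage a0' with hα
  set β := Spec.preimage b' with hβ
  have eα : Spec.map α = a0' := Spec.map_preimage _
  have eβ : Spec.map β = b' := Spec.map_preimage _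
  have hcomp : β ≫ CommRingCat.ofHom π = α ≫ CommRingCat.ofHom R0.subtype := by
    apply Spec.map_injective
    rw [Spec.map_comp, Spec.map_comp, eα, eβ, ← cancel_mono hW.fromSpec, Category.assoc,
      Category.assoc, ea, eb, h]
  have hmem : ∀ y, β.hom y ∈ R0' := by
    intro y
    rw [hR0']
    have := congrArg (fun k => (CommRingCat.Hom.hom k) y) hcomp
    simp only [CommRingCat.hom_comp, RingHom.coe_comp, Function.comp_apply,
      CommRingCat.hom_ofHom] at this
    rw [this]
    exact (α.hom y).2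
  let β0 : Γ(S, W) →+* R0' := β.hom.codRestrict R0' hmem
  refine ⟨Spec.map (CommRingCat.ofHom β0) ≫ hW.fromSpec, ?_, ?_⟩
  · rw [← Spec.map_comp_assoc, ← eb, ← eβ]
    rfl
  · rw [← Spec.map_comp_assoc, ← ea, ← eα]
    congr 2
    ext y
    have := congrArg (fun k => (CommRingCat.Hom.hom k) y) hcomp
    simp only [CommRingCat.hom_comp, RingHom.coe_comp, Function.comp_apply,
      CommRingCat.hom_ofHom] at this
    change (π0 (β0 y) : R) = (α.hom y : R)
    rw [hπ0]
    exact this

end Sch2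

section Core

lemma finite_fieldRange {K L : Type u} [Field K] [Field L] (F : K →+* L) (hF : F.Finite) :
    Module.Finite F.fieldRange L := by
  letI := F.toAlgebra
  letI : Algebra K F.fieldRange := F.rangeRestrictField.toAlgebra
  haveI : IsScalarTower K F.fieldRange L := IsScalarTower.of_algebraMap_eq (fun x => rfl)
  haveI : Module.Finite K L := hF
  exact Module.Finite.of_restrictScalars_finite K F.fieldRange L

/-- **Artin's trick**: formal versality at `t` gives liftings for all finite residue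
field extensions. -/
theorem core {S T : Scheme.{u}} (g : T ⟶ S) (t : T)
    (hT : ∀ (C C' : Type u) [CommRing C] [CommRing C'] [IsLocalRing C] [IsLocalRing C'] [IsArtinianRing C]
        [IsArtinianRing C'] (π : C' →+* C), Function.Surjective π →
        ∀ (a : Spec (CommRingCat.of C) ⟶ T) (b : Spec (CommRingCat.of C') ⟶ S),
          a (IsLocalRing.closedPoint C) = t →
          Function.Surjective (a.residueFieldMap (IsLocalRing.closedPoint C)).hom →
          Spec.map (CommRingCat.ofHom π) ≫ b = a ≫ g →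
          ∃ c : Spec (CommRingCat.of C') ⟶ T, Spec.map (CommRingCat.ofHom π) ≫ c = a ∧ c ≫ g = b) :
    ∀ (C C' : Type u) [CommRing C] [CommRing C'] [IsLocalRing C] [IsLocalRing C'] [IsArtinianRing C]
        [IsArtinianRing C'] (π : C' →+* C), Function.Surjective π →
        ∀ (a : Spec (CommRingCat.of C) ⟶ T) (b : Spec (CommRingCat.of C') ⟶ S),
          a (IsLocalRing.closedPoint C) = t →
          (a.residueFieldMap (IsLocalRing.closedPoint C)).hom.Finite →
          Spec.map (CommRingCat.ofHom π) ≫ b = a ≫ g →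
          ∃ c : Spec (CommRingCat.of C') ⟶ T, Spec.map (CommRingCat.ofHom π) ≫ c = a ∧ c ≫ g = b := by
  intro C C' _ _ _ _ _ _ π hπ a b hat hfin hcomm
  subst hat
  set F := (a.residueFieldMap (closedPoint C)).hom with hF
  set κ0 : Subfield ((Spec (CommRingCat.of C)).residueField (closedPoint C)) := F.fieldRange with hκ0
  haveI : Module.Finite κ0 ((Spec (CommRingCat.of C)).residueField (closedPoint C)) :=
    finite_fieldRange F hfin
  haveI hρ : Fact (Function.Surjective (rho C)) := ⟨rho_surjective C⟩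
  haveI hρ' : Fact (Function.Surjective ((rho C).comp π)) := ⟨(rho_surjective C).comp hπ⟩
  -- the subrings
  let C0 : Subring C := sub (rho C) κ0
  let C0' : Subring C' := sub ((rho C).comp π) κ0
  let π0 : C0' →+* C0 := (π.comp C0'.subtype).codRestrict C0 (fun x => x.2)
  have hπ0 : Function.Surjective π0 := by
    rintro ⟨c, hc⟩
    obtain ⟨c', rfl⟩ := hπ c
    exact ⟨⟨c', hc⟩, rfl⟩
  -- the local hom `φ0`
  set φ := Scheme.stalkClosedPointTo a with hφ
  have hφmem : ∀ y, φ.hom y ∈ C0 := by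
    intro y
    change rho C (φ.hom y) ∈ κ0
    rw [hφ, rho_stalkClosedPointTo]
    exact ⟨_, rfl⟩
  let φ0 : T.presheaf.stalk (a (closedPoint C)) ⟶ CommRingCat.of C0 :=
    CommRingCat.ofHom (φ.hom.codRestrict C0 hφmem)
  have hφ0 : φ0 ≫ CommRingCat.ofHom C0.subtype = φ := rfl
  haveI : IsLocalHom φ0.hom := by
    constructor
    intro y hy
    have h1 : IsUnit (C0.subtype (φ0.hom y)) := hy.map C0.subtype
    exact isUnit_of_map_unit φ.hom y h1
  set a0 : Spec (CommRingCat.of C0) ⟶ T := Spec.map φ0 ≫ T.fromSpecStalk _ with ha0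
  obtain ⟨ha0pt, ha0surj⟩ := fromStalk_props (R := C0) (a (closedPoint C)) φ0
  have ea0 : Spec.map (CommRingCat.ofHom C0.subtype) ≫ a0 = a := by
    rw [ha0, ← Spec.map_comp_assoc, hφ0, hφ]
    exact Scheme.Spec_stalkClosedPointTo_fromSpecStalk a
  have hsurj0 : Function.Surjective (a0.residueFieldMap (closedPoint C0)).hom := by
    refine residueFieldMap_surjective_of a0 (ha0surj fun r => ?_)
    obtain ⟨z, hz⟩ : rho C (r : C) ∈ κ0 := r.2
    obtain ⟨y, rfl⟩ := Scheme.residue_surjective T _ z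
    refine ⟨y, ?_⟩
    rw [mem_maximalIdeal_sub_iff]
    change rho C ((r : C) - φ.hom y) = 0
    rw [map_sub, hφ, rho_stalkClosedPointTo, sub_eq_zero]
    exact hz.symm
  -- the morphism `b0`
  obtain ⟨b0, hb0, hb0'⟩ := pushout_desc π hπ C0 C0' (fun x => Iff.rfl) π0 (fun x => rfl) b
    (a0 ≫ g) (by rw [hcomm, ← ea0, Category.assoc])
  obtain ⟨c0, hc0, hc0'⟩ := hT C0 C0' π0 hπ0 a0 b0 ha0pt hsurj0 hb0'
  refine ⟨Spec.map (CommRingCat.ofHom C0'.subtype) ≫ c0, ?_, ?_⟩
  · rw [← Spec.map_comp_assoc]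
    have : CommRingCat.ofHom C0'.subtype ≫ CommRingCat.ofHom π =
        CommRingCat.ofHom π0 ≫ CommRingCat.ofHom C0.subtype := rfl
    rw [this, Spec.map_comp_assoc, hc0, ea0]
  · rw [Category.assoc, hc0', hb0]

end Core

end Groth.Agent.Lib.Helper26.ArtinTrick
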