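import Mathlib
import Groth.Agent.Lib.Helper26.ArtinTrick
import Groth.Agent.Lib.Helper18.FlU
set_option backward.isDefEq.respectTransparency.types false
set_option autoImplicit false
set_option linter.unusedSectionVars false
universe u
open CategoryTheory AlgebraicGeometry IsLocalRing

namespace Groth.Agent.Lib.Helper26.ArtinTrick2

lemma finite_residueFieldMap_of_etale {V' V : Scheme.{u}} (b : V' ⟶ V) [Etale b] (v' : V') :
    (b.residueFieldMap v').hom.Finite := by
  let _ : Algebra (V.residueField (b v')) (V'.residueField v') :=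
    (b.residueFieldMap v').hom.toAlgebra
  have sep : Algebra.IsSeparable (V.residueField (b v')) (V'.residueField v') := inferInstance
  have ess : Algebra.EssFiniteType (V.residueField (b v')) (V'.residueField v') := by
    have h1 : (b.stalkMap v').hom.EssFiniteType := LocallyOfFiniteType.stalkMap b v'
    have : IsLocalHom (b.stalkMap v').hom := inferInstance
    exact RingHom.EssFiniteType.residueFieldMap h1
  have fe : Algebra.FormallyEtale (V.residueField (b v')) (V'.residueField v') :=
    Algebra.FormallyEtale.of_isSeparable _ _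
  have fin : Module.Finite (V.residueField (b v')) (V'.residueField v') :=
    Algebra.FormallyUnramified.finite_of_free _ _
  exact fin

lemma surjective_SpecMap {C C' : Type u} [CommRing C] [CommRing C'] [IsLocalRing C]
    [IsLocalRing C'] [IsArtinianRing C'] (π : C' →+* C) (hπ : Function.Surjective π) :
    Surjective (Spec.map (CommRingCat.ofHom π)) := by
  haveI : IsLocalHom π := IsLocalHom.of_surjective π hπ
  constructor
  intro p
  refine ⟨closedPoint C, ?_⟩
  have e1 : (Spec.map (CommRingCat.ofHom π)) (closedPoint C) = closedPoint C' :=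
    IsLocalRing.comap_closedPoint π
  rw [e1]
  apply PrimeSpectrum.ext
  exact (Groth.Agent.Lib.Helper26.ArtLift.prime_eq_maximalIdeal C' p.asIdeal).symm

theorem etale_versal {S T U : Scheme.{u}} (g : T ⟶ S) (e : U ⟶ T) [Etale e] (u : U)
    (hT : ∀ (C C' : Type u) [CommRing C] [CommRing C'] [IsLocalRing C] [IsLocalRing C'] [IsArtinianRing C]
        [IsArtinianRing C'] (π : C' →+* C), Function.Surjective π →
        ∀ (a : Spec (CommRingCat.of C) ⟶ T) (b : Spec (CommRingCat.of C') ⟶ S),
          a (IsLocalRing.closedPoint C) = e u →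
          Function.Surjective (a.residueFieldMap (IsLocalRing.closedPoint C)).hom →
          Spec.map (CommRingCat.ofHom π) ≫ b = a ≫ g →
          ∃ c : Spec (CommRingCat.of C') ⟶ T, Spec.map (CommRingCat.ofHom π) ≫ c = a ∧ c ≫ g = b) :
    ∀ (C C' : Type u) [CommRing C] [CommRing C'] [IsLocalRing C] [IsLocalRing C'] [IsArtinianRing C]
        [IsArtinianRing C'] (π : C' →+* C), Function.Surjective π →
        ∀ (a : Spec (CommRingCat.of C) ⟶ U) (b : Spec (CommRingCat.of C') ⟶ S),
          a (IsLocalRing.closedPoint C) = u →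
          Function.Surjective (a.residueFieldMap (IsLocalRing.closedPoint C)).hom →
          Spec.map (CommRingCat.ofHom π) ≫ b = a ≫ (e ≫ g) →
          ∃ c : Spec (CommRingCat.of C') ⟶ U, Spec.map (CommRingCat.ofHom π) ≫ c = a ∧ c ≫ (e ≫ g) = b := by
  intro C C' _ _ _ _ _ _ π hπ a b hau hsurj hcomm
  subst hau
  have hfin : ((a ≫ e).residueFieldMap (closedPoint C)).hom.Finite := by
    have h1 : ((a ≫ e).residueFieldMap (closedPoint C)).hom =
        (a.residueFieldMap (closedPoint C)).hom.comp (e.residueFieldMap (a (closedPoint C))).hom := by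
      exact congrArg CommRingCat.Hom.hom (Scheme.residueFieldMap_comp a e (closedPoint C))
    rw [h1]
    exact RingHom.Finite.comp (RingHom.Finite.of_surjective _ hsurj)
      (finite_residueFieldMap_of_etale e _)
  obtain ⟨c', hc', hc'g⟩ := Groth.Agent.Lib.Helper26.ArtinTrick.core g (e (a (closedPoint C))) hT
    C C' π hπ (a ≫ e) b rfl hfin (by rw [hcomm, Category.assoc])
  haveI : IsClosedImmersion (Spec.map (CommRingCat.ofHom π)) :=
    IsClosedImmersion.spec_of_surjective _ hπ
  haveI := surjective_SpecMap π hπ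
  obtain ⟨A, ℓ, hA, hℓ1, hℓ2⟩ := Groth.Agent.Lib.Helper18.SmLift.exists_local_lift_of_smooth e
    (Spec.map (CommRingCat.ofHom π)) a c' hc'.symm (closedPoint C')
  have hAtop : A = ⊤ := IsLocalRing.closed_point_mem_iff.1 hA
  subst hAtop
  set α := Spec.map (CommRingCat.ofHom π) with hα
  have topI : ∀ (X : Scheme.{u}), IsIso (⊤ : X.Opens).ι := fun X => by
    rw [← Scheme.topIso_hom]; infer_instance
  haveI : IsIso (⊤ : (Spec (CommRingCat.of C')).Opens).ι := topI _
  have hι : IsIso (α ⁻¹ᵁ ⊤).ι := by
    have : α ⁻¹ᵁ (⊤ : (Spec (CommRingCat.of C')).Opens) = ⊤ := rfl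
    rw [this]; exact topI _
  refine ⟨inv (⊤ : (Spec (CommRingCat.of C')).Opens).ι ≫ ℓ, ?_, ?_⟩
  · rw [← cancel_epi (α ⁻¹ᵁ ⊤).ι, ← hℓ2]
    have := morphismRestrict_ι α ⊤
    rw [← Category.assoc, ← Category.assoc, ← this]
    simp
  · rw [Category.assoc, ← Category.assoc ℓ, hℓ1, Category.assoc, hc'g]
    simp

end Groth.Agent.Lib.Helper26.ArtinTrick2
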