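import Groth.Prelude.Def_Disc
import Mathlib

/-!
# Associated primes of `ω = Hom_A(B, A)` for a finite map of Noetherian rings
-/

set_option autoImplicit false
set_option linter.style.haveILetI false
universe u v
open Disc TensorProduct

namespace Groth.Agent.Lib.Helper26.AssOmega

/-- A finite torsion-free module over a Noetherian domain has a functional not vanishing at a
given nonzero vector. -/
theorem exists_functional {R D : Type*} [CommRing R] [IsDomain R] [IsNoetherianRing R]
    [AddCommGroup D] [Module R D] [Module.Finite R D] [Module.IsTorsionFree R D]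
    (v : D) (hv : v ≠ 0) : ∃ θ : D →ₗ[R] R, θ v ≠ 0 := by
  let S := nonZeroDivisors R
  let K := FractionRing R
  let V := LocalizedModule S D
  let f : D →ₗ[R] V := LocalizedModule.mkLinearMap S D
  have hfv : f v ≠ 0 := by
    intro h
    rw [IsLocalizedModule.eq_zero_iff S f] at h
    obtain ⟨s, hs⟩ := h
    have hs0 : (s : R) ≠ 0 := nonZeroDivisors.ne_zero s.2
    rcases smul_eq_zero.mp hs with h1 | h1
    · exact hs0 h1
    · exact hv h1
  obtain ⟨φ, hφ⟩ : ∃ φ : Module.Dual K V, φ (f v) ≠ 0 := by
    by_contra hcon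
    push Not at hcon
    exact hfv ((Module.forall_dual_apply_eq_zero_iff K (f v)).mp hcon)
  have hfp : Module.FinitePresentation R D := Module.finitePresentation_of_finite R D
  obtain ⟨θ, s, hθ⟩ := Module.FinitePresentation.exists_lift_of_isLocalizedModule S
    (Algebra.linearMap R K) ((φ.restrictScalars R) ∘ₗ f)
  refine ⟨θ, fun h0 => ?_⟩
  have h1 := LinearMap.congr_fun hθ v
  simp only [LinearMap.comp_apply, h0, map_zero, LinearMap.smul_apply,
    LinearMap.restrictScalars_apply] at h1
  have hs0 : (s : R) ≠ 0 := nonZeroDivisors.ne_zero s.2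
  rw [eq_comm, Submonoid.smul_def, Algebra.smul_def, mul_eq_zero] at h1
  rcases h1 with h1 | h1
  · exact hs0 ((FaithfulSMul.algebraMap_eq_zero_iff R K).mp h1)
  · exact hφ h1

variable {A : Type u} {B : Type v} [CommRing A] [CommRing B] [Algebra A B]

theorem subset_part [IsNoetherianRing A] [IsNoetherianRing B] [Module.Finite A B]
    (q : Ideal B) (hq : q ∈ associatedPrimes B (Disc.Omega A B)) :
    q.IsPrime ∧ q.comap (algebraMap A B) ∈ associatedPrimes A A := by
  have hq' : IsAssociatedPrime q (Disc.Omega A B) := hq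
  rw [isAssociatedPrime_iff] at hq'
  obtain ⟨hqp, l, hl⟩ := hq'
  refine ⟨hqp, ?_⟩
  change IsAssociatedPrime _ A
  rw [isAssociatedPrime_iff]
  have hpp : (q.comap (algebraMap A B)).IsPrime := inferInstance
  refine ⟨hpp, ?_⟩
  obtain ⟨σ, hσ⟩ := (inferInstance : Module.Finite A B).fg_top
  -- membership in p
  have hmem : ∀ a' : A, a' ∈ q.comap (algebraMap A B) ↔ ∀ x ∈ σ, a' * l.toLinearMap x = 0 := by
    intro a'
    rw [Ideal.mem_comap, hl, Submodule.mem_colon_singleton, Submodule.mem_bot]
    constructor
    · intro h x _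
      have := congrArg (fun m : Disc.Omega A B => m.toLinearMap x) h
      simp only [Disc.Omega.smul_toLinearMap_apply, Disc.Omega.zero_toLinearMap,
        LinearMap.zero_apply] at this
      rw [← Algebra.smul_def, map_smul, smul_eq_mul] at this
      exact this
    · intro h
      apply Disc.Omega.ext
      apply LinearMap.ext
      intro x
      simp only [Disc.Omega.smul_toLinearMap_apply, Disc.Omega.zero_toLinearMap,
        LinearMap.zero_apply]
      rw [← Algebra.smul_def, map_smul, smul_eq_mul]
      have hx : x ∈ Submodule.span A (σ : Set B) := by rw [hσ]; trivial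
      induction hx using Submodule.span_induction with
      | mem x hx => exact h x hx
      | zero => simp
      | add x y _ _ hx hy => rw [map_add, mul_add, hx, hy, add_zero]
      | smul c x _ hx => rw [map_smul, smul_eq_mul, mul_left_comm, hx, mul_zero]
  have hp_eq : q.comap (algebraMap A B) =
      σ.inf (fun x => (Submodule.colon (⊥ : Submodule A A) {l.toLinearMap x} : Ideal A)) := by
    ext a'
    rw [hmem, Submodule.mem_finsetInf]
    simp only [Submodule.mem_colon_singleton, Submodule.mem_bot, smul_eq_mul]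
  have hle : σ.inf (fun x => (Submodule.colon (⊥ : Submodule A A) {l.toLinearMap x} : Ideal A))
      ≤ q.comap (algebraMap A B) := hp_eq.ge
  rw [Ideal.IsPrime.inf_le' hpp] at hle
  obtain ⟨x, hxσ, hx⟩ := hle
  refine ⟨l.toLinearMap x, le_antisymm ?_ hx⟩
  intro a' ha'
  rw [Submodule.mem_colon_singleton, Submodule.mem_bot, smul_eq_mul]
  exact (hmem a').mp ha' x hxσ

theorem supset_part [IsNoetherianRing A] [IsNoetherianRing B] [Module.Finite A B]
    (q : Ideal B) [hqp : q.IsPrime] (hq : q.comap (algebraMap A B) ∈ associatedPrimes A A) :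
    q ∈ associatedPrimes B (Disc.Omega A B) := by
  have hq' : IsAssociatedPrime (q.comap (algebraMap A B)) A := hq
  rw [isAssociatedPrime_iff] at hq'
  obtain ⟨hpp, a, ha⟩ := hq'
  change IsAssociatedPrime q _
  rw [isAssociatedPrime_iff]
  refine ⟨hqp, ?_⟩
  have hmem : ∀ a' : A, a' ∈ q.comap (algebraMap A B) ↔ a' * a = 0 := by
    intro a'
    rw [ha, Submodule.mem_colon_singleton, Submodule.mem_bot, smul_eq_mul]
  let R := A ⧸ q.comap (algebraMap A B)
  let D := B ⧸ q
  have : IsScalarTower A R D := IsScalarTower.of_algebraMap_eq (fun x => rfl)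
  have : Module.Finite R D := Module.Finite.of_restrictScalars_finite A R D
  have hinj : Function.Injective (algebraMap R D) := Ideal.algebraMap_quotient_injective
  have : Module.IsTorsionFree R D := Module.isTorsionFree_iff_algebraMap_injective.mpr hinj
  obtain ⟨θ, hθ⟩ := exists_functional (R := R) (D := D) 1 one_ne_zero
  -- multiplication by `a`
  let mulA : R →ₗ[A] A := Submodule.liftQ (q.comap (algebraMap A B))
    (LinearMap.toSpanSingleton A A a) (by
      intro a' ha'
      rw [LinearMap.mem_ker, LinearMap.toSpanSingleton_apply, smul_eq_mul]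
      exact (hmem a').mp ha')
  have hmulA : ∀ a' : A, mulA (Ideal.Quotient.mk _ a') = a' * a := fun a' => rfl
  have hmulA_inj : ∀ r : R, mulA r = 0 → r = 0 := by
    intro r hr
    obtain ⟨a', rfl⟩ := Ideal.Quotient.mk_surjective r
    rw [hmulA] at hr
    exact Ideal.Quotient.eq_zero_iff_mem.mpr ((hmem a').mpr hr)
  let lam : B →ₗ[A] A := mulA ∘ₗ (θ.restrictScalars A) ∘ₗ (Ideal.Quotient.mkₐ A q).toLinearMap
  have hlam : ∀ x, lam x = mulA (θ (Ideal.Quotient.mk q x)) := fun x => rfl
  refine ⟨⟨lam⟩, ?_⟩
  ext b
  rw [Submodule.mem_colon_singleton, Submodule.mem_bot]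
  constructor
  · intro hb
    apply Disc.Omega.ext
    apply LinearMap.ext
    intro x
    simp only [Disc.Omega.smul_toLinearMap_apply, Disc.Omega.zero_toLinearMap,
      LinearMap.zero_apply]
    rw [hlam, Ideal.Quotient.eq_zero_iff_mem.mpr (Ideal.mul_mem_right x q hb), map_zero, map_zero]
  · intro hb
    by_contra hbq
    have hb0 : Ideal.Quotient.mk q b ≠ 0 := fun h => hbq (Ideal.Quotient.eq_zero_iff_mem.mp h)
    have halg : IsAlgebraic R (Ideal.Quotient.mk q b : D) :=
      (Algebra.IsIntegral.isIntegral (R := R) _).isAlgebraic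
    obtain ⟨r, hr0, d, hd⟩ := halg.exists_nonzero_dvd (mem_nonZeroDivisors_of_ne_zero hb0)
    obtain ⟨x, rfl⟩ := Ideal.Quotient.mk_surjective d
    have h1 := congrArg (fun m : Disc.Omega A B => m.toLinearMap x) hb
    simp only [Disc.Omega.smul_toLinearMap_apply, Disc.Omega.zero_toLinearMap,
      LinearMap.zero_apply] at h1
    rw [hlam, map_mul, ← hd, Algebra.algebraMap_eq_smul_one, map_smul, smul_eq_mul] at h1
    exact mul_ne_zero hr0 hθ (hmulA_inj _ h1)


end Groth.Agent.Lib.Helper26.AssOmega
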