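import Groth.Agent.Lib.Helper29.SerreA
import Groth.Agent.Lib.Helper29.Res2
import Groth.Agent.Lib.Helper29.IntegInv
import Groth.Agent.Lib.Helper29.Twist6
import Groth.Agent.Lib.Helper29.Pic2
import Groth.Agent.Lib.Helper21.CDeg5

/-!
# The exponent of a big invertible module is one

On an integral scheme with an ample module `H`, if every ample `A` embeds into a positive power of
`L`, then `H^0(L^m) ≠ 0` for all large `m`: the semigroup of `m` with `H^0(L^m) ≠ 0` contains two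
consecutive integers.
-/

set_option autoImplicit false
universe u
open CategoryTheory CategoryTheory.Limits AlgebraicGeometry TopologicalSpace Opposite

namespace Groth.Agent.Lib.Helper26.BigExp
open Groth.Agent.Lib.Helper29.QCoh Groth.Agent.Lib.Helper29.QCoh.Res

variable {X : Scheme.{u}}

/-- `L^m` has a nonzero global section. -/
def HasSec (L : X.Modules) (m : ℕ) : Prop := ∃ s : unitM X ⟶ CohB1.tensorPow L m, s ≠ 0

theorem hasSec_mul [IsIntegral X] {L : X.Modules} (hL : PicF.IsInvertible L) {a : ℕ}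
    (h : HasSec L a) (b : ℕ) (hb : 0 < b) : HasSec L (a * b) := by
  obtain ⟨s, hs⟩ := h
  obtain ⟨s', hs'⟩ := exists_pow_section hL s b (a * b) hb rfl
  refine ⟨s', Groth.Agent.Lib.Helper29.Pic.ne_zero_of_mem_genLocus (isInvertible_tensorPow hL _) s' (genericPoint X) ?_⟩
  rw [hs']
  exact Groth.Agent.Lib.Helper21.CDeg.genericPoint_mem_genLocus (isInvertible_tensorPow hL a) s hs

theorem hasSec_add [IsIntegral X] {L : X.Modules} (hL : PicF.IsInvertible L) {a b : ℕ}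
    (ha : HasSec L a) (hb : HasSec L b) : HasSec L (a + b) := by
  obtain ⟨s, hs⟩ := ha
  obtain ⟨t, ht⟩ := hb
  obtain ⟨s', hs'⟩ := exists_mul_section hL s t (a + b) rfl
  refine ⟨s', Groth.Agent.Lib.Helper29.Pic.ne_zero_of_mem_genLocus (isInvertible_tensorPow hL _) s' (genericPoint X) ?_⟩
  rw [hs']
  exact ⟨Groth.Agent.Lib.Helper21.CDeg.genericPoint_mem_genLocus (isInvertible_tensorPow hL a) s hs,
    Groth.Agent.Lib.Helper21.CDeg.genericPoint_mem_genLocus (isInvertible_tensorPow hL b) t ht⟩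

theorem hasSec_large [IsIntegral X] {L : X.Modules} (hL : PicF.IsInvertible L) {m : ℕ}
    (hm : 0 < m) (h1 : HasSec L m) (h2 : HasSec L (m + 1)) :
    ∀ n, m * m ≤ n → HasSec L n := by
  intro n hn
  have hq : m ≤ n / m := (Nat.le_div_iff_mul_le hm).mpr hn
  have hr : n % m < m := Nat.mod_lt _ hm
  have h := Nat.div_add_mod n m
  generalize n % m = r at hr h
  obtain ⟨d, hd⟩ : ∃ d, n / m = d + r := ⟨n / m - r, by omega⟩
  have hd0 : 0 < d := by omega
  have hn' : n = m * d + (m + 1) * r := by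
    rw [hd] at h
    rw [← h]
    ring
  rw [hn']
  by_cases hr0 : r = 0
  · rw [hr0, Nat.mul_zero, Nat.add_zero]
    exact hasSec_mul hL h1 d hd0
  · exact hasSec_add hL (hasSec_mul hL h1 d hd0) (hasSec_mul hL h2 r (Nat.pos_of_ne_zero hr0))

theorem nontrivial_of_ne_zero {M : X.Modules} (s : unitM X ⟶ M) (hs : s ≠ 0) :
    Nontrivial (Coh.HH X M 0) := by
  have h1 : sval s ⊤ ≠ 0 := by
    intro h0
    apply hs
    apply hom_ext_of_sval
    rw [h0]
    rfl
  refine ⟨⟨(hh0 M).symm (sval s ⊤), 0, fun h => h1 ?_⟩⟩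
  have := congrArg (hh0 M) h
  rwa [AddEquiv.apply_symm_apply, map_zero] at this

theorem comp_tensorMapRight_ne_zero [IsIntegral X] {P Q L : X.Modules} (hP : PicF.IsInvertible P)
    (hQ : PicF.IsInvertible Q) (hL : PicF.IsInvertible L) (φ : P ⟶ Q) (hφ : φ ≠ 0)
    (τ : unitM X ⟶ CohB1.tensorMod P L) (hτ : τ ≠ 0) : τ ≫ tensorMapRight φ L ≠ 0 := by
  intro h0
  have hqP := isQuasicoherent_of_isInvertible hP
  have hqQ := isQuasicoherent_of_isInvertible hQ
  have hqL := isQuasicoherent_of_isInvertible hL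
  obtain ⟨x⟩ : Nonempty X := inferInstance
  obtain ⟨V₁, e, e', -, hxV₁, -, he, he'⟩ := exists_affine_isTriv₂ hP hL (W := ⊤) x trivial
  obtain ⟨V, e'', -, hxV, hVV₁, he''⟩ := exists_affine_isTriv hQ (W := V₁) x hxV₁
  have heV := he.restrict hVV₁
  have he'V := he'.restrict hVV₁
  have hV : (V : Set X).Nonempty := ⟨x, hxV⟩
  have hdom := isDomain_sections_of_isIntegral hV
  obtain ⟨b, hb⟩ := (heV.tensor he'V).exists_eq_smul (sval τ V)
  have hb0 : b ≠ 0 := coeff_ne_zero_of_ne_zero (isInvertible_tensorMod hP hL) τ hτ hV b hb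
  obtain ⟨c, hc⟩ := he''.exists_eq_smul (φ.app V (Groth.Agent.Lib.Helper29.QCoh.res P hVV₁ e))
  have hc0 : c ≠ 0 := by
    rintro rfl
    rw [zero_smul] at hc
    exact hφ (Groth.Agent.Lib.Helper21.CDeg.hom_eq_zero_of_app_eq_zero hQ φ heV hV hc)
  have h1 : sval (τ ≫ tensorMapRight φ L) V =
      (b * c) • tmulSec Q L e'' (Groth.Agent.Lib.Helper29.QCoh.res L hVV₁ e') := by
    rw [sval_comp, hb, Scheme.Modules.Hom.app_smul, tensorMapRight_tmulSec, hc,
      tmulSec_smul_left, smul_smul]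
  rw [h0] at h1
  have h2 : (0 : Γ(X, V)) • tmulSec Q L e'' (Groth.Agent.Lib.Helper29.QCoh.res L hVV₁ e') =
      (b * c) • tmulSec Q L e'' (Groth.Agent.Lib.Helper29.QCoh.res L hVV₁ e') := by
    rw [zero_smul]; exact h1
  exact mul_ne_zero hb0 hc0 ((he''.tensor he'V).smul_left_cancel h2).symm

theorem main [IsIntegral X] (H : X.Modules) (hH : CohB1.IsAmple H) (L : X.Modules)
    (hL : PicF.IsInvertible L)
    (hbig : ∀ A : X.Modules, CohB1.IsAmple A →
      ∃ (m : ℕ) (φ : A ⟶ CohB1.tensorPow L m), 0 < m ∧ Mono φ) :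
    ∃ m₁ : ℕ, ∀ m : ℕ, m₁ ≤ m → Nontrivial (Coh.HH X (CohB1.tensorPow L m) 0) := by
  obtain ⟨n₁, hn₁pos, hn₁⟩ := exists_isAmple_isGloballyGenerated_twist hH (isInvertible_unit X)
  obtain ⟨n₂, hn₂pos, hn₂⟩ := exists_isAmple_isGloballyGenerated_twist hH hL
  have hnpos : 0 < max n₁ n₂ := lt_of_lt_of_le hn₁pos (le_max_left _ _)
  have hHn : PicF.IsInvertible (CohB1.tensorPow H (max n₁ n₂)) := isInvertible_tensorPow hH.1 _
  have hA : CohB1.IsAmple (CohB1.tensorPow H (max n₁ n₂)) :=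
    (isAmple_iff_tensorPow hH.1 _ hnpos).mp hH
  have hggA : Curv2.IsGloballyGenerated (CohB1.tensorPow H (max n₁ n₂)) :=
    isGloballyGenerated_of_iso (tensorUnitR _) (hn₁ _ (le_max_left _ _)).2
  have hggB := (hn₂ _ (le_max_right n₁ n₂)).2
  obtain ⟨m, φ, hm, hφ⟩ := hbig _ hA
  obtain ⟨σ, hσ⟩ := exists_mem_genLocus_of_isGloballyGenerated hHn hggA (genericPoint X)
  have hσ0 : σ ≠ 0 := Groth.Agent.Lib.Helper29.Pic.ne_zero_of_mem_genLocus hHn σ _ hσ
  have hB : PicF.IsInvertible (CohB1.tensorMod (CohB1.tensorPow H (max n₁ n₂)) L) :=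
    isInvertible_tensorMod hHn hL
  obtain ⟨τ, hτ⟩ := exists_mem_genLocus_of_isGloballyGenerated hB hggB (genericPoint X)
  have hτ0 : τ ≠ 0 := Groth.Agent.Lib.Helper29.Pic.ne_zero_of_mem_genLocus hB τ _ hτ
  have hσφ : σ ≫ φ ≠ 0 := fun h0 => hσ0 ((cancel_mono φ).mp (by rw [h0, zero_comp]))
  have hφ0 : φ ≠ 0 := by
    rintro rfl
    exact hσφ comp_zero
  have h1 : HasSec L m := ⟨σ ≫ φ, hσφ⟩
  have h2 : HasSec L (m + 1) := ⟨τ ≫ tensorMapRight φ L,
    comp_tensorMapRight_ne_zero hHn (isInvertible_tensorPow hL m) hL φ hφ0 τ hτ0⟩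
  refine ⟨m * m, fun k hk => ?_⟩
  obtain ⟨s, hs⟩ := hasSec_large hL hm h1 h2 k hk
  exact nontrivial_of_ne_zero s hs

end Groth.Agent.Lib.Helper26.BigExp
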