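import Mathlib
import Groth.Prelude.Def_W4c2gerbepatchBitors

/-!
# Bitorsor structures vs isomorphism families
-/

set_option autoImplicit false
universe w v u
open CategoryTheory Opposite
open Bitors

namespace Groth.Agent.Lib.Helper26.BitorsLib

variable {C : Type u} [Category.{v} C] {J : GrothendieckTopology C}
  {G H : Sheaf J GrpCat.{w}} {P : NonAbH1.GSheaf G}

theorem IsomFamily.ext' {φ ψ : Bitors.IsomFamily P H}
    (h : ∀ (U : Cᵒᵖ) (p : P.P.obj.obj U) (x : H.obj.obj U), φ.φ p x = ψ.φ p x) : φ = ψ := by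
  cases φ with | mk a a1 a2 =>
  cases ψ with | mk b b1 b2 =>
  have : @a = @b := by
    funext U p
    exact MulEquiv.ext (h U p)
  subst this
  rfl

theorem RightStr.ext' {ρ ρ' : Bitors.RightStr P H}
    (h : ∀ (U : Cᵒᵖ) (p : P.P.obj.obj U) (x : H.obj.obj U), ρ.rsmul p x = ρ'.rsmul p x) :
    ρ = ρ' := by
  cases ρ with | mk a a1 a2 a3 a4 a5 =>
  cases ρ' with | mk b b1 b2 b3 b4 b5 =>
  have : @a = @b := by
    funext U p x
    exact h U p x
  subst this
  rfl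

theorem smul_cancel (hP : P.IsPseudoTorsor) {U : Cᵒᵖ} {g g' : G.obj.obj U} (p : P.P.obj.obj U)
    (h : P.smul g p = P.smul g' p) : g = g' := by
  obtain ⟨x, -, hx⟩ := hP U p (P.smul g p)
  exact (hx g rfl).trans (hx g' h.symm).symm

/-- the element `ψ_p(h)` with `ψ_p(h) • p = p · h` -/
noncomputable def psi (hP : P.IsPseudoTorsor) (ρ : Bitors.RightStr P H) (U : Cᵒᵖ)
    (p : P.P.obj.obj U) (h : H.obj.obj U) : G.obj.obj U :=
  (hP U p (ρ.rsmul p h)).exists.choose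

theorem psi_spec (hP : P.IsPseudoTorsor) (ρ : Bitors.RightStr P H) (U : Cᵒᵖ)
    (p : P.P.obj.obj U) (h : H.obj.obj U) : P.smul (psi hP ρ U p h) p = ρ.rsmul p h :=
  (hP U p (ρ.rsmul p h)).exists.choose_spec

theorem psi_mul (hP : P.IsPseudoTorsor) (ρ : Bitors.RightStr P H) (U : Cᵒᵖ)
    (p : P.P.obj.obj U) (h h' : H.obj.obj U) :
    psi hP ρ U p (h * h') = psi hP ρ U p h * psi hP ρ U p h' := by
  apply smul_cancel hP p
  rw [psi_spec, ρ.rsmul_mul, ← psi_spec hP ρ U p h, ρ.smul_rsmul, ← psi_spec hP ρ U p h',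
    P.mul_smul]

theorem psi_bijective (hP : P.IsPseudoTorsor) (ρ : Bitors.RightStr P H) (U : Cᵒᵖ)
    (p : P.P.obj.obj U) : Function.Bijective (psi hP ρ U p) := by
  constructor
  · intro h h' e
    obtain ⟨x, -, hx⟩ := ρ.existsUnique_rsmul p (ρ.rsmul p h)
    refine (hx h rfl).trans (hx h' ?_).symm
    change ρ.rsmul p h' = ρ.rsmul p h
    rw [← psi_spec hP, ← psi_spec hP, e]
  · intro g
    obtain ⟨h, hh, -⟩ := ρ.existsUnique_rsmul p (P.smul g p)
    refine ⟨h, ?_⟩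
    apply smul_cancel hP p
    rw [psi_spec, hh]

/-- the isomorphism family attached to a right structure -/
noncomputable def isomFamilyOf (hP : P.IsPseudoTorsor) (ρ : Bitors.RightStr P H) :
    Bitors.IsomFamily P H where
  φ {U} p := MulEquiv.ofBijective (MonoidHom.mk' (psi hP ρ U p) (psi_mul hP ρ U p))
    (psi_bijective hP ρ U p)
  map_φ {U V} f p h := by
    apply smul_cancel hP (P.P.obj.map f p)
    change P.smul (G.obj.map f (psi hP ρ U p h)) _ = P.smul (psi hP ρ V _ _) _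
    rw [← P.map_smul, psi_spec, psi_spec, ρ.map_rsmul]
  φ_smul {U} g p h := by
    apply smul_cancel hP (P.smul g p)
    change P.smul (psi hP ρ U _ h) _ = P.smul (g * psi hP ρ U p h * g⁻¹) _
    rw [psi_spec, ρ.smul_rsmul, ← psi_spec hP, ← P.mul_smul, ← P.mul_smul, mul_assoc,
      inv_mul_cancel, mul_one]

theorem isomFamilyOf_spec (hP : P.IsPseudoTorsor) (ρ : Bitors.RightStr P H)
    (U : Cᵒᵖ) (p : P.P.obj.obj U) (h : H.obj.obj U) :
    ρ.rsmul p h = P.smul ((isomFamilyOf hP ρ).φ p h) p :=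
  (psi_spec hP ρ U p h).symm

/-- the right structure attached to an isomorphism family -/
def rightStrOf (hP : P.IsPseudoTorsor) (φ : Bitors.IsomFamily P H) : Bitors.RightStr P H where
  rsmul {U} p h := P.smul (φ.φ p h) p
  rsmul_one p := by rw [map_one, P.one_smul]
  rsmul_mul p h h' := by
    rw [φ.φ_smul, ← P.mul_smul, map_mul, mul_assoc, inv_mul_cancel, mul_one]
  map_rsmul f p h := by rw [P.map_smul, φ.map_φ]
  smul_rsmul g p h := by
    rw [φ.φ_smul, ← P.mul_smul, ← P.mul_smul, mul_assoc, inv_mul_cancel, mul_one]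
  existsUnique_rsmul {U} p q := by
    obtain ⟨g, hg, hu⟩ := hP U p q
    refine ⟨(φ.φ p).symm g, ?_, ?_⟩
    · change P.smul (φ.φ p ((φ.φ p).symm g)) p = q
      rw [MulEquiv.apply_symm_apply, hg]
    · intro h hh
      rw [MulEquiv.eq_symm_apply]
      exact hu _ hh

theorem main12 (G H : Sheaf J GrpCat.{w}) (P : NonAbH1.GSheaf G) (hP : P.IsPseudoTorsor) :
    (∀ ρ : Bitors.RightStr P H, ∃! φ : Bitors.IsomFamily P H,
        ∀ (U : Cᵒᵖ) (p : P.P.obj.obj U) (h : H.obj.obj U), ρ.rsmul p h = P.smul (φ.φ p h) p) ∧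
    (∀ φ : Bitors.IsomFamily P H, ∃! ρ : Bitors.RightStr P H,
        ∀ (U : Cᵒᵖ) (p : P.P.obj.obj U) (h : H.obj.obj U), ρ.rsmul p h = P.smul (φ.φ p h) p) := by
  constructor
  · intro ρ
    refine ⟨isomFamilyOf hP ρ, isomFamilyOf_spec hP ρ, ?_⟩
    intro ψ hψ
    apply IsomFamily.ext'
    intro U p x
    apply smul_cancel hP p
    rw [← hψ, ← isomFamilyOf_spec hP ρ]
  · intro φ
    refine ⟨rightStrOf hP φ, fun _ _ _ => rfl, ?_⟩
    intro ρ' hρ'
    apply RightStr.ext'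
    intro U p x
    rw [hρ']
    rfl

theorem main13 (G H : Sheaf J GrpCat.{w}) (P P' : NonAbH1.GSheaf G) (hP' : P'.IsPseudoTorsor)
    (ρ : Bitors.RightStr P H) (ρ' : Bitors.RightStr P' H)
    (φ : Bitors.IsomFamily P H) (φ' : Bitors.IsomFamily P' H)
    (hρ : ∀ (U : Cᵒᵖ) (p : P.P.obj.obj U) (h : H.obj.obj U), ρ.rsmul p h = P.smul (φ.φ p h) p)
    (hρ' : ∀ (U : Cᵒᵖ) (p : P'.P.obj.obj U) (h : H.obj.obj U), ρ'.rsmul p h = P'.smul (φ'.φ p h) p)
    (f : P ⟶ P') :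
    (∀ (U : Cᵒᵖ) (p : P.P.obj.obj U) (h : H.obj.obj U),
        f.hom.hom.app U (ρ.rsmul p h) = ρ'.rsmul (f.hom.hom.app U p) h) ↔
      ∀ (U : Cᵒᵖ) (p : P.P.obj.obj U) (h : H.obj.obj U),
        φ.φ p h = φ'.φ (f.hom.hom.app U p) h := by
  constructor
  · intro hf U p h
    apply smul_cancel hP' (f.hom.hom.app U p)
    rw [← f.map_smul, ← hρ, hf, hρ']
  · intro hf U p h
    rw [hρ, f.map_smul, hρ', hf]

theorem sheaf_grp_ext (G : Sheaf J GrpCat.{w}) {X : C} {S : Sieve X} (hS : S ∈ J X)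
    {x y : G.obj.obj (op X)}
    (h : ∀ ⦃V : C⦄ (s : V ⟶ X), S s → G.obj.map s.op x = G.obj.map s.op y) : x = y := by
  let E : GrpCat.{w} := GrpCat.of (FreeGroup PUnit.{w + 1})
  have h2 : Presieve.IsSheaf J (G.obj ⋙ coyoneda.obj (op E)) := G.property E
  let hx : E ⟶ G.obj.obj (op X) := GrpCat.ofHom (FreeGroup.lift (fun _ => x))
  let hy : E ⟶ G.obj.obj (op X) := GrpCat.ofHom (FreeGroup.lift (fun _ => y))
  have key : hx = hy := by
    refine ((h2 S hS).isSeparatedFor).ext (fun V s hs => ?_)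
    change hx ≫ G.obj.map s.op = hy ≫ G.obj.map s.op
    apply GrpCat.hom_ext
    apply FreeGroup.ext_hom
    intro a
    change G.obj.map s.op (FreeGroup.lift (fun _ => x) (FreeGroup.of a)) =
      G.obj.map s.op (FreeGroup.lift (fun _ => y) (FreeGroup.of a))
    rw [FreeGroup.lift_apply_of, FreeGroup.lift_apply_of]
    exact h s hs
  have := congrArg (fun m : E ⟶ G.obj.obj (op X) => m.hom (FreeGroup.of PUnit.unit)) key
  have e1 : (FreeGroup.lift fun _ : PUnit.{w + 1} => x) (FreeGroup.of PUnit.unit) = x :=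
    FreeGroup.lift_apply_of
  have e2 : (FreeGroup.lift fun _ : PUnit.{w + 1} => y) (FreeGroup.of PUnit.unit) = y :=
    FreeGroup.lift_apply_of
  rw [← e1, ← e2]
  exact this

theorem main14 (G H : Sheaf J GrpCat.{w}) (P P' : NonAbH1.GSheaf G)
    (hP : P.IsPseudoTorsor) (hP' : P'.IsPseudoTorsor)
    (ρ : Bitors.RightStr P H) (ρ' : Bitors.RightStr P' H)
    (φ : Bitors.IsomFamily P H) (φ' : Bitors.IsomFamily P' H)
    (hρ : ∀ (U : Cᵒᵖ) (q : P.P.obj.obj U) (h : H.obj.obj U), ρ.rsmul q h = P.smul (φ.φ q h) q)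
    (hρ' : ∀ (U : Cᵒᵖ) (q : P'.P.obj.obj U) (h : H.obj.obj U), ρ'.rsmul q h = P'.smul (φ'.φ q h) q)
    (Y : C) (hY : J.CoversTop (fun _ : PUnit.{w + 1} => Y))
    (p : P.P.obj.obj (op Y)) (p' : P'.P.obj.obj (op Y)) (f : P ⟶ P') (g : G.obj.obj (op Y))
    (hg : f.hom.hom.app (op Y) p = P'.smul g p') :
    (∀ (U : Cᵒᵖ) (q : P.P.obj.obj U) (h : H.obj.obj U),
        f.hom.hom.app U (ρ.rsmul q h) = ρ'.rsmul (f.hom.hom.app U q) h) ↔
      ∀ (V : C) (t : V ⟶ Y) (h : H.obj.obj (op V)),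
        φ.φ (P.P.obj.map t.op p) h =
          G.obj.map t.op g * φ'.φ (P'.P.obj.map t.op p') h * (G.obj.map t.op g)⁻¹ := by
  rw [main13 G H P P' hP' ρ ρ' φ φ' hρ hρ' f]
  have nat : ∀ {A B : Cᵒᵖ} (m : A ⟶ B) (q : P.P.obj.obj A),
      f.hom.hom.app B (P.P.obj.map m q) = P'.P.obj.map m (f.hom.hom.app A q) := fun m q =>
    NatTrans.naturality_apply f.hom.hom m q
  constructor
  · intro hf V t h
    rw [hf, nat, hg, P'.map_smul, φ'.φ_smul]
  · intro hc U q h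
    induction U using Opposite.rec with | op U => ?_
    apply sheaf_grp_ext G (hY U)
    rintro V s ⟨_, ⟨t⟩⟩
    rw [φ.map_φ, φ'.map_φ, ← nat]
    obtain ⟨a, ha, -⟩ := hP (op V) (P.P.obj.map t.op p) (P.P.obj.map s.op q)
    rw [← ha, f.map_smul, φ.φ_smul, φ'.φ_smul, hc V t, nat, hg, P'.map_smul, φ'.φ_smul]


end Groth.Agent.Lib.Helper26.BitorsLib
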