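import Mathlib

/-!
# Cartier–Manin matrices under translation
-/

set_option autoImplicit false
set_option linter.unusedVariables false
universe u

namespace Groth.Agent.Lib.Helper26.CartierManin
open Polynomial Finset

variable {k : Type u} [Field k]

theorem coeff_comp_X_add_C (F : k[X]) (α : k) (l N : ℕ) (hN : F.natDegree < N) :
    (F.comp (X + C α)).coeff l =
      ∑ L ∈ range N, ((L.choose l : ℕ) : k) * F.coeff L * α ^ (L - l) := by
  rw [← taylor_apply, taylor_coeff, hasseDeriv_apply, sum_over_range' _ _ N hN, eval_finsetSum]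
  · apply sum_congr rfl
    intro L _
    rw [eval_monomial]
  · intro n; simp

theorem lucas_cast (p : ℕ) [Fact p.Prime] [CharP k p] (a b c d : ℕ) (hb : b < p) (hd : d < p) :
    (((a * p + b).choose (c * p + d) : ℕ) : k) = ((a.choose c : ℕ) : k) * ((b.choose d : ℕ) : k) := by
  have h := Choose.choose_modEq_choose_mod_mul_choose_div_nat (n := a * p + b) (k := c * p + d)
    (p := p)
  have hp : 0 < p := (Fact.out : p.Prime).pos
  rw [Nat.mul_add_mod_of_lt hb, Nat.mul_add_mod_of_lt hd] at h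
  have h1 : (a * p + b) / p = a := by
    rw [mul_comm, Nat.mul_add_div hp, Nat.div_eq_of_lt hb, add_zero]
  have h2 : (c * p + d) / p = c := by
    rw [mul_comm, Nat.mul_add_div hp, Nat.div_eq_of_lt hd, add_zero]
  rw [h1, h2] at h
  have h3 := (CharP.natCast_eq_natCast k p).mpr h
  rw [h3]; push_cast; ring

theorem sum_range_mul {M : Type*} [AddCommMonoid M] (a b : ℕ) (h : ℕ → M) :
    ∑ L ∈ range (a * b), h L = ∑ I ∈ range a, ∑ r ∈ range b, h (I * b + r) := by
  induction a with
  | zero => simp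
  | succ a ih =>
    rw [Nat.succ_mul, sum_range_add, ih, sum_range_succ]

/-- the canonical term -/
def T (p : ℕ) (F : k[X]) (α : k) (i j I J : ℕ) : k :=
  ((I.choose i : ℕ) : k) * (((p - 1 - J).choose (p - 1 - j) : ℕ) : k) *
    F.coeff (I * p + (p - 1 - J)) * α ^ ((I - i) * p) * α ^ (j - J)

theorem term_eq (p : ℕ) [Fact p.Prime] [CharP k p] (F : k[X]) (α : k) (i j I J : ℕ)
    (hj : j < p) (hJ : J < p) :
    (((I * p + (p - 1 - J)).choose (i * p + (p - 1 - j)) : ℕ) : k) * F.coeff (I * p + (p - 1 - J)) *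
      α ^ (I * p + (p - 1 - J) - (i * p + (p - 1 - j))) = T p F α i j I J := by
  have hp : 0 < p := (Fact.out : p.Prime).pos
  rw [lucas_cast p I (p - 1 - J) i (p - 1 - j) (by omega) (by omega), T]
  by_cases hI : I < i
  · rw [Nat.choose_eq_zero_of_lt hI]; simp
  by_cases hJj : j < J
  · rw [Nat.choose_eq_zero_of_lt (show p - 1 - J < p - 1 - j by omega)]; simp
  push Not at hI hJj
  have hexp : I * p + (p - 1 - J) - (i * p + (p - 1 - j)) = (I - i) * p + (j - J) := by
    obtain ⟨t, rfl⟩ := Nat.exists_eq_add_of_le hI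
    obtain ⟨s, rfl⟩ := Nat.exists_eq_add_of_le hJj
    have h1 : (i + t) * p = i * p + t * p := by ring
    have h2 : i + t - i = t := by omega
    rw [h1, h2]
    omega
  rw [hexp, pow_add]
  ring

theorem entry_eq (p : ℕ) [Fact p.Prime] [CharP k p] (g : ℕ) (hg : g ≤ p) (F : k[X])
    (hF : F.natDegree ≤ (g + 1) * (p - 1)) (α : k) (i j : ℕ) (hi : i < g) (hj : j < g) :
    (F.comp (X + C α)).coeff ((i + 1) * p - (j + 1)) =
      ∑ I ∈ range g, ∑ J ∈ range g, T p F α i j I J := by
  have hp : 0 < p := (Fact.out : p.Prime).pos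
  have hl : (i + 1) * p - (j + 1) = i * p + (p - 1 - j) := by
    have : (i + 1) * p = i * p + p := by ring
    rw [this]; omega
  have hN : F.natDegree < (g + 1) * p := by
    have : (g + 1) * (p - 1) < (g + 1) * p := by
      apply Nat.mul_lt_mul_of_pos_left <;> omega
    omega
  rw [hl, coeff_comp_X_add_C F α _ _ hN, sum_range_mul]
  have h1 : ∀ I ∈ range (g + 1),
      ∑ r ∈ range p, (((I * p + r).choose (i * p + (p - 1 - j)) : ℕ) : k) * F.coeff (I * p + r) *
        α ^ (I * p + r - (i * p + (p - 1 - j))) = ∑ J ∈ range p, T p F α i j I J := by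
    intro I _
    rw [← sum_range_reflect]
    apply sum_congr rfl
    intro J hJ
    rw [mem_range] at hJ
    exact term_eq p F α i j I J (by omega) hJ
  rw [sum_congr rfl h1]
  -- restrict J
  have h2 : ∀ I, ∑ J ∈ range p, T p F α i j I J = ∑ J ∈ range g, T p F α i j I J := by
    intro I
    symm
    apply sum_subset
    · intro x hx; rw [mem_range] at hx ⊢; omega
    · intro J hJ hJ'
      rw [mem_range] at hJ hJ'
      rw [T, Nat.choose_eq_zero_of_lt (show p - 1 - J < p - 1 - j by omega)]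
      simp
  simp only [h2]
  rw [sum_range_succ]
  have h3 : ∑ J ∈ range g, T p F α i j g J = 0 := by
    apply sum_eq_zero
    intro J hJ
    rw [mem_range] at hJ
    have : F.coeff (g * p + (p - 1 - J)) = 0 := by
      apply coeff_eq_zero_of_natDegree_lt
      have h4 : (g + 1) * (p - 1) + (g + 1) = g * p + p := by
        have : p - 1 + 1 = p := by omega
        calc (g + 1) * (p - 1) + (g + 1) = (g + 1) * (p - 1 + 1) := by ring
          _ = (g + 1) * p := by rw [this]
          _ = g * p + p := by ring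
      omega
    rw [T, this]; simp
  rw [h3, add_zero]

theorem main16498 (p : ℕ) [Fact p.Prime] (hp : p ≠ 2) [CharP k p]
    (g : ℕ) (hg : g ≤ p) (f : Polynomial k) (hf : f.natDegree ≤ 2 * g + 2) (α : k) :
    (Matrix.of fun i j : Fin g =>
        ((f.comp (Polynomial.X + Polynomial.C α)) ^ ((p - 1) / 2)).coeff (((i : ℕ) + 1) * p - ((j : ℕ) + 1))) =
      (Matrix.of fun i I : Fin g => (((I : ℕ).choose (i : ℕ) : ℕ) : k) * α ^ (((I : ℕ) - (i : ℕ)) * p)) *
        (Matrix.of fun i j : Fin g => (f ^ ((p - 1) / 2)).coeff (((i : ℕ) + 1) * p - ((j : ℕ) + 1))) *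
        (Matrix.of fun J j : Fin g => (((p - ((J : ℕ) + 1)).choose (p - ((j : ℕ) + 1)) : ℕ) : k) * α ^ ((j : ℕ) - (J : ℕ))) := by
  have hpp : p.Prime := Fact.out
  have hodd : (p - 1) / 2 * 2 = p - 1 := by
    have := hpp.eq_two_or_odd
    omega
  have hF : (f ^ ((p - 1) / 2)).natDegree ≤ (g + 1) * (p - 1) := by
    calc (f ^ ((p - 1) / 2)).natDegree ≤ (p - 1) / 2 * f.natDegree := natDegree_pow_le
      _ ≤ (p - 1) / 2 * (2 * g + 2) := Nat.mul_le_mul_left _ hf
      _ = (g + 1) * ((p - 1) / 2 * 2) := by ring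
      _ = (g + 1) * (p - 1) := by rw [hodd]
  ext i j
  rw [Matrix.of_apply, ← pow_comp, entry_eq p g hg _ hF α i j i.2 j.2]
  rw [Finset.sum_range]
  simp only [Finset.sum_range (fun J => T p (f ^ ((p - 1) / 2)) α i j _ J)]
  rw [Finset.sum_comm]
  simp only [Matrix.mul_apply, Matrix.of_apply]
  apply sum_congr rfl
  intro J _
  rw [Finset.sum_mul]
  apply sum_congr rfl
  intro I _
  have h1 : ((I : ℕ) + 1) * p - ((J : ℕ) + 1) = (I : ℕ) * p + (p - 1 - (J : ℕ)) := by
    have h2 : ((I : ℕ) + 1) * p = (I : ℕ) * p + p := by ring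
    have h3 : (J : ℕ) < p := lt_of_lt_of_le J.2 hg
    rw [h2]; omega
  have h4 : p - ((J : ℕ) + 1) = p - 1 - (J : ℕ) := by omega
  have h5 : p - ((j : ℕ) + 1) = p - 1 - (j : ℕ) := by omega
  rw [T, h1, h4, h5]
  ring

theorem main16499 (p : ℕ) [Fact p.Prime] (hp : p ≠ 2) [CharP k p]
    (g : ℕ) (hg : g ≤ p) (f : Polynomial k) (hf : f.natDegree ≤ 2 * g + 2) (α : k) :
    (Matrix.of fun i j : Fin g =>
        ((f.comp (Polynomial.X + Polynomial.C α)) ^ ((p - 1) / 2)).coeff (((i : ℕ) + 1) * p - ((j : ℕ) + 1))).det =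
      (Matrix.of fun i j : Fin g => (f ^ ((p - 1) / 2)).coeff (((i : ℕ) + 1) * p - ((j : ℕ) + 1))).det := by
  rw [main16498 p hp g hg f hf α, Matrix.det_mul, Matrix.det_mul]
  have hL : (Matrix.of fun i I : Fin g =>
      (((I : ℕ).choose (i : ℕ) : ℕ) : k) * α ^ (((I : ℕ) - (i : ℕ)) * p)).det = 1 := by
    rw [Matrix.det_of_isUpperTriangular]
    · apply Finset.prod_eq_one
      intro i _
      simp
    · intro i I hiI
      simp only [id] at hiI
      rw [Matrix.of_apply, Nat.choose_eq_zero_of_lt (Fin.lt_def.mp hiI)]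
      simp
  have hU : (Matrix.of fun J j : Fin g =>
      (((p - ((J : ℕ) + 1)).choose (p - ((j : ℕ) + 1)) : ℕ) : k) * α ^ ((j : ℕ) - (J : ℕ))).det = 1 := by
    rw [Matrix.det_of_isUpperTriangular]
    · apply Finset.prod_eq_one
      intro i _
      simp
    · intro J j hjJ
      simp only [id] at hjJ
      have h1 : (j : ℕ) < (J : ℕ) := Fin.lt_def.mp hjJ
      have h2 : (J : ℕ) < p := lt_of_lt_of_le J.2 hg
      rw [Matrix.of_apply, Nat.choose_eq_zero_of_lt (show p - ((J : ℕ) + 1) < p - ((j : ℕ) + 1) by omega)]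
      simp
  rw [hL, hU, one_mul, mul_one]

end Groth.Agent.Lib.Helper26.CartierManin
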