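import Mathlib

set_option autoImplicit false
universe u

open MvPowerSeries

namespace Groth.Agent.Lib.Helper26.MvPSDecomp

variable {σ : Type*} {R : Type*} [CommRing R]

/-- a choice of a variable occurring in a nonzero exponent. -/
noncomputable def pick [Nonempty σ] (d : σ →₀ ℕ) : σ :=
  open Classical in if h : d.support.Nonempty then h.choose else Classical.arbitrary σ

lemma pick_spec [Nonempty σ] (d : σ →₀ ℕ) (hd : d ≠ 0) : d (pick d) ≠ 0 := by
  have h : d.support.Nonempty := Finsupp.support_nonempty_iff.mpr hd
  unfold pick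
  rw [dif_pos h]
  exact Finsupp.mem_support_iff.mp h.choose_spec

/-- the `i`-th quotient in the decomposition `f = ∑ X i * quot f i`. -/
noncomputable def quot [Nonempty σ] (f : MvPowerSeries σ R) (i : σ) : MvPowerSeries σ R :=
  open Classical in
  fun e => if pick (e + Finsupp.single i 1) = i then coeff (e + Finsupp.single i 1) f else 0

lemma coeff_quot [Nonempty σ] (f : MvPowerSeries σ R) (i : σ) (e : σ →₀ ℕ) :
    coeff e (quot f i) = open Classical in
      if pick (e + Finsupp.single i 1) = i then coeff (e + Finsupp.single i 1) f else 0 := rfl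

lemma coeff_X_mul' [DecidableEq σ] (i : σ) (g : MvPowerSeries σ R) (d : σ →₀ ℕ) :
    coeff d (X i * g) = if Finsupp.single i 1 ≤ d then coeff (d - Finsupp.single i 1) g else 0 := by
  rw [X_def, coeff_monomial_mul, one_mul]

theorem eq_sum_X_mul_quot [Fintype σ] [Nonempty σ] (f : MvPowerSeries σ R)
    (h0 : coeff (0 : σ →₀ ℕ) f = 0) : f = ∑ i, X i * quot f i := by
  classical
  ext d
  rw [map_sum]
  simp only [coeff_X_mul', coeff_quot]
  by_cases hd : d = 0
  · subst hd
    rw [h0]
    symm
    apply Finset.sum_eq_zero
    intro i _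
    rw [if_neg]
    intro h
    have := h i
    simp at this
  · have hp := pick_spec d hd
    have hle : Finsupp.single (pick d) 1 ≤ d := by
      intro j
      by_cases hj : j = pick d
      · subst hj
        rw [Finsupp.single_eq_same]
        exact Nat.one_le_iff_ne_zero.mpr hp
      · rw [Finsupp.single_eq_of_ne hj]
        exact Nat.zero_le _
    rw [Finset.sum_eq_single (pick d)]
    · rw [if_pos hle, tsub_add_cancel_of_le hle, if_pos rfl]
    · intro i _ hi
      by_cases hle' : Finsupp.single i 1 ≤ d
      · rw [if_pos hle', tsub_add_cancel_of_le hle', if_neg (Ne.symm hi)]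
      · rw [if_neg hle']
    · intro h; exact absurd (Finset.mem_univ _) h

lemma coeff_quot_eq_zero [Nonempty σ] (f : MvPowerSeries σ R) (i : σ) (n : ℕ)
    (hf : ∀ d : σ →₀ ℕ, d.degree < n + 1 → coeff d f = 0) (e : σ →₀ ℕ) (he : e.degree < n) :
    coeff e (quot f i) = 0 := by
  classical
  rw [coeff_quot]
  split_ifs
  · apply hf
    rw [map_add, Finsupp.degree_single]
    omega
  · rfl

end Groth.Agent.Lib.Helper26.MvPSDecomp
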