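import Mathlib
import Groth.Agent.Lib.Helper26.MvPSDecomp

set_option autoImplicit false
set_option linter.unusedSectionVars false
universe u

open MvPowerSeries

namespace Groth.Agent.Lib.Helper26.Char2Jac

open Groth.Agent.Lib.Helper26.MvPSDecomp

section general

variable {σ : Type*} [Fintype σ] [Nonempty σ] {R : Type*} [CommRing R]

/-- the ideal generated by the variables. -/
noncomputable abbrev mI (σ : Type*) (R : Type*) [CommRing R] : Ideal (MvPowerSeries σ R) :=
  Ideal.span (Set.range (X : σ → MvPowerSeries σ R))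

lemma X_mem_mI (i : σ) : (X i : MvPowerSeries σ R) ∈ mI σ R := Ideal.subset_span ⟨i, rfl⟩

/-- `ordGE n g`: all coefficients of degree `< n` vanish. -/
def ordGE (n : ℕ) (g : MvPowerSeries σ R) : Prop :=
  ∀ d : σ →₀ ℕ, d.degree < n → coeff d g = 0

lemma mem_pow_of_ordGE : ∀ (n : ℕ) (g : MvPowerSeries σ R), ordGE n g → g ∈ mI σ R ^ n
  | 0, g, _ => by rw [pow_zero, Ideal.one_eq_top]; trivial
  | n + 1, g, hg => by
    have h0 : coeff (0 : σ →₀ ℕ) g = 0 := hg 0 (by simp)
    rw [eq_sum_X_mul_quot g h0]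
    apply Ideal.sum_mem
    intro i _
    rw [pow_succ']
    exact Ideal.mul_mem_mul (X_mem_mI i)
      (mem_pow_of_ordGE n _ (fun e he => coeff_quot_eq_zero g i n hg e he))

end general


section specific

variable (k : Type u) [Field k] (m : ℕ)

/-- index type -/
abbrev Ix (m : ℕ) := Option (Fin m ⊕ Fin m)

/-- the quadratic part. -/
noncomputable def qq : MvPowerSeries (Ix m) k :=
  X none ^ 2 + ∑ i : Fin m, X (some (Sum.inl i)) * X (some (Sum.inr i))

/-- the target ideal. -/
noncomputable abbrev J' : Ideal (MvPowerSeries (Ix m) k) :=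
  Ideal.span ({X none ^ 2} ∪ Set.range fun j : Fin m ⊕ Fin m => (X (some j) : MvPowerSeries (Ix m) k))

lemma sq_mem_J' : (X none ^ 2 : MvPowerSeries (Ix m) k) ∈ J' k m :=
  Ideal.subset_span (Or.inl rfl)

lemma X_some_mem_J' (j : Fin m ⊕ Fin m) : (X (some j) : MvPowerSeries (Ix m) k) ∈ J' k m :=
  Ideal.subset_span (Or.inr ⟨j, rfl⟩)

lemma X_mul_X_mem (a b : Ix m) :
    (X a * X b : MvPowerSeries (Ix m) k) ∈ Ideal.span {X none ^ 2} ⊔ mI (Ix m) k * J' k m := by
  cases b with
  | some j => exact Ideal.mem_sup_right (Ideal.mul_mem_mul (X_mem_mI a) (X_some_mem_J' k m j))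
  | none =>
    cases a with
    | some j =>
      rw [mul_comm (X (some j)) (X none)]
      exact Ideal.mem_sup_right (Ideal.mul_mem_mul (X_mem_mI none) (X_some_mem_J' k m j))
    | none =>
      rw [← pow_two]
      exact Ideal.mem_sup_left (Ideal.mem_span_singleton_self _)

lemma mI_sq_le : mI (Ix m) k ^ 2 ≤ Ideal.span {X none ^ 2} ⊔ mI (Ix m) k * J' k m := by
  rw [pow_two, Ideal.span_mul_span]
  rw [Ideal.span_le]
  rintro _ ⟨_, ⟨a, rfl⟩, _, ⟨b, rfl⟩, rfl⟩
  exact X_mul_X_mem k m a b

lemma sup_le_J' : Ideal.span {X none ^ 2} ⊔ mI (Ix m) k * J' k m ≤ J' k m :=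
  sup_le ((Ideal.span_singleton_le_iff_mem _).mpr (sq_mem_J' k m)) Ideal.mul_le_right

lemma mI_sq_le_J' : mI (Ix m) k ^ 2 ≤ J' k m := (mI_sq_le k m).trans (sup_le_J' k m)

lemma mI_cube_le : mI (Ix m) k ^ 3 ≤ mI (Ix m) k * J' k m := by
  rw [pow_succ']
  exact Ideal.mul_mono_right (mI_sq_le_J' k m)

lemma qq_sub_sq_mem : qq k m - X none ^ 2 ∈ mI (Ix m) k * J' k m := by
  have h : qq k m - X none ^ 2 =
      ∑ i : Fin m, (X (some (Sum.inl i)) * X (some (Sum.inr i)) : MvPowerSeries (Ix m) k) := by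
    unfold qq
    exact add_sub_cancel_left _ _
  rw [h]
  refine Ideal.sum_mem _ (fun i _ => ?_)
  exact Ideal.mul_mem_mul (X_mem_mI _) (X_some_mem_J' k m _)

lemma qq_mem_J' : qq k m ∈ J' k m := by
  have h := qq_sub_sq_mem k m
  have h2 : qq k m = (qq k m - X none ^ 2) + X none ^ 2 := by ring
  rw [h2]
  exact add_mem (Ideal.mul_le_right h) (sq_mem_J' k m)



variable [CharP k 2]

lemma two_eq_zero' : (2 : MvPowerSeries (Ix m) k) = 0 := by
  have h : (2 : k) = 0 := by
    have := CharP.cast_eq_zero k 2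
    exact_mod_cast this
  have : (2 : MvPowerSeries (Ix m) k) = C (2 : k) := (map_ofNat C 2).symm
  rw [this, h, map_zero]

lemma pderiv_prod (i : Ix m) (a b : Ix m) :
    pderiv k i (X a * X b : MvPowerSeries (Ix m) k) =
      X a * pderiv k i (X b) + X b * pderiv k i (X a) := by
  rw [Derivation.leibniz, smul_eq_mul, smul_eq_mul]

lemma pderiv_none_qq : pderiv k (none : Ix m) (qq k m) = 0 := by
  unfold qq
  rw [map_add, map_sum, pderiv_pow]
  have h2 : ((2 : ℕ) : MvPowerSeries (Ix m) k) = 0 := by exact_mod_cast two_eq_zero' k m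
  rw [h2, zero_mul, zero_mul, zero_add]
  apply Finset.sum_eq_zero
  intro i _
  rw [pderiv_prod, pderiv_X_of_ne (by simp), pderiv_X_of_ne (by simp), mul_zero, mul_zero, add_zero]

lemma pderiv_inl_qq (j : Fin m) :
    pderiv k (some (Sum.inl j) : Ix m) (qq k m) = X (some (Sum.inr j)) := by
  classical
  unfold qq
  rw [map_add, map_sum, pderiv_pow, pderiv_X_of_ne (by simp), mul_zero, zero_add]
  rw [Finset.sum_eq_single j]
  · rw [pderiv_prod, pderiv_X_self, pderiv_X_of_ne (by simp), mul_zero, zero_add, mul_one]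
  · intro i _ hi
    rw [pderiv_prod, pderiv_X_of_ne (by simp), pderiv_X_of_ne, mul_zero, mul_zero, add_zero]
    intro h
    apply hi
    simpa using h
  · intro h; exact absurd (Finset.mem_univ _) h

lemma pderiv_inr_qq (j : Fin m) :
    pderiv k (some (Sum.inr j) : Ix m) (qq k m) = X (some (Sum.inl j)) := by
  classical
  unfold qq
  rw [map_add, map_sum, pderiv_pow, pderiv_X_of_ne (by simp), mul_zero, zero_add]
  rw [Finset.sum_eq_single j]
  · rw [pderiv_prod, pderiv_X_self, pderiv_X_of_ne (by simp), mul_zero, add_zero, mul_one]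
  · intro i _ hi
    rw [pderiv_prod, pderiv_X_of_ne, pderiv_X_of_ne (by simp), mul_zero, mul_zero, add_zero]
    intro h
    apply hi
    simpa using h
  · intro h; exact absurd (Finset.mem_univ _) h

lemma pderiv_qq_mem (i : Ix m) : pderiv k i (qq k m) ∈ J' k m := by
  cases i with
  | none => rw [pderiv_none_qq]; exact zero_mem _
  | some j =>
    cases j with
    | inl j => rw [pderiv_inl_qq]; exact X_some_mem_J' k m _
    | inr j => rw [pderiv_inr_qq]; exact X_some_mem_J' k m _

lemma ordGE_pderiv (i : Ix m) (r : MvPowerSeries (Ix m) k) (n : ℕ) (hr : ordGE (n + 1) r) :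
    ordGE n (pderiv k i r) := by
  intro d hd
  rw [coeff_pderiv, hr _ (by rw [map_add, Finsupp.degree_single]; omega), zero_mul]



lemma mI_le_jacobson : mI (Ix m) k ≤ Ideal.jacobson ⊥ := by
  refine le_trans ?_ (IsLocalRing.maximalIdeal_le_jacobson _)
  rw [Ideal.span_le]
  rintro _ ⟨i, rfl⟩
  rw [SetLike.mem_coe, IsLocalRing.mem_maximalIdeal, mem_nonunits_iff]
  intro hu
  have := MvPowerSeries.isUnit_iff_constantCoeff.mp hu
  rw [constantCoeff_X] at this
  exact not_isUnit_zero this

theorem ideal_eq (f : MvPowerSeries (Ix m) k)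
    (hf : ∀ d : Ix m →₀ ℕ, d.degree < 3 → coeff d f = coeff d (qq k m)) :
    Ideal.span ({f} ∪ Set.range fun i : Ix m => pderiv k i f) = J' k m := by
  set J := Ideal.span ({f} ∪ Set.range fun i : Ix m => pderiv k i f) with hJ
  have hr : ordGE 3 (f - qq k m) := by
    intro d hd
    rw [map_sub, hf d hd, sub_self]
  have hr3 : f - qq k m ∈ mI (Ix m) k ^ 3 := mem_pow_of_ordGE 3 _ hr
  have hdr : ∀ i : Ix m, pderiv k i (f - qq k m) ∈ mI (Ix m) k ^ 2 :=
    fun i => mem_pow_of_ordGE 2 _ (ordGE_pderiv k m i _ 2 hr)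
  have hf_eq : f = qq k m + (f - qq k m) := by ring
  have hdf_eq : ∀ i : Ix m, pderiv k i f = pderiv k i (qq k m) + pderiv k i (f - qq k m) := by
    intro i
    rw [← map_add, add_sub_cancel]
  have hfJ : f ∈ J := Ideal.subset_span (Or.inl rfl)
  have hdfJ : ∀ i : Ix m, pderiv k i f ∈ J := fun i => Ideal.subset_span (Or.inr ⟨i, rfl⟩)
  apply le_antisymm
  · rw [hJ, Ideal.span_le]
    rintro g (rfl | ⟨i, rfl⟩)
    · rw [SetLike.mem_coe, hf_eq]
      refine add_mem (qq_mem_J' k m) ?_
      exact mI_sq_le_J' k m (Ideal.pow_le_pow_right (by norm_num) hr3)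
    · show pderiv k i f ∈ J' k m
      rw [hdf_eq]
      exact add_mem (pderiv_qq_mem k m i) (mI_sq_le_J' k m (hdr i))
  · -- Nakayama
    apply Submodule.le_of_le_smul_of_le_jacobson_bot (I := mI (Ix m) k)
    · exact Submodule.fg_span ((Set.finite_singleton _).union (Set.finite_range _))
    · exact mI_le_jacobson k m
    · -- generators
      have hsq : (X none ^ 2 : MvPowerSeries (Ix m) k) ∈ J ⊔ mI (Ix m) k • J' k m := by
        have h1 : (X none ^ 2 : MvPowerSeries (Ix m) k) =
            f - (qq k m - X none ^ 2) - (f - qq k m) := by ring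
        rw [h1]
        refine Submodule.sub_mem _ (Submodule.sub_mem _ (Submodule.mem_sup_left hfJ) ?_) ?_
        · exact Submodule.mem_sup_right (qq_sub_sq_mem k m)
        · exact Submodule.mem_sup_right (mI_cube_le k m hr3)
      have hsq' : Ideal.span {(X none ^ 2 : MvPowerSeries (Ix m) k)} ⊔ mI (Ix m) k * J' k m ≤
          J ⊔ mI (Ix m) k • J' k m :=
        sup_le ((Ideal.span_singleton_le_iff_mem _).mpr hsq) le_sup_right
      rw [Ideal.span_le]
      rintro g (rfl | ⟨j, rfl⟩)
      · exact hsq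
      · cases j with
        | inl j =>
          have h1 : (X (some (Sum.inl j)) : MvPowerSeries (Ix m) k) =
              pderiv k (some (Sum.inr j)) f - pderiv k (some (Sum.inr j)) (f - qq k m) := by
            rw [hdf_eq (some (Sum.inr j)), pderiv_inr_qq]; ring
          show (X (some (Sum.inl j)) : MvPowerSeries (Ix m) k) ∈ J ⊔ mI (Ix m) k • J' k m
          rw [h1]
          exact Submodule.sub_mem _ (Submodule.mem_sup_left (hdfJ _))
            (hsq' (mI_sq_le k m (hdr _)))
        | inr j =>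
          have h1 : (X (some (Sum.inr j)) : MvPowerSeries (Ix m) k) =
              pderiv k (some (Sum.inl j)) f - pderiv k (some (Sum.inl j)) (f - qq k m) := by
            rw [hdf_eq (some (Sum.inl j)), pderiv_inl_qq]; ring
          show (X (some (Sum.inr j)) : MvPowerSeries (Ix m) k) ∈ J ⊔ mI (Ix m) k • J' k m
          rw [h1]
          exact Submodule.sub_mem _ (Submodule.mem_sup_left (hdfJ _))
            (hsq' (mI_sq_le k m (hdr _)))



omit [CharP k 2] in
lemma coeff_single_mul (a g : MvPowerSeries (Ix m) k) :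
    coeff (Finsupp.single (none : Ix m) 1) (a * g) =
      coeff 0 a * coeff (Finsupp.single (none : Ix m) 1) g +
        coeff (Finsupp.single (none : Ix m) 1) a * coeff 0 g := by
  classical
  rw [coeff_mul, Finsupp.antidiagonal_single, Finset.sum_map]
  have : (Finset.HasAntidiagonal.antidiagonal (1 : ℕ) : Finset (ℕ × ℕ)) = {((0 : ℕ), 1), (1, 0)} := by decide
  rw [this, Finset.sum_pair (by decide)]
  simp

omit [CharP k 2] in
lemma coeff_zero_mul' (a g : MvPowerSeries (Ix m) k) :
    coeff (0 : Ix m →₀ ℕ) (a * g) = coeff 0 a * coeff 0 g := by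
  classical
  have : (Finset.HasAntidiagonal.antidiagonal (0 : Ix m →₀ ℕ)) = {((0 : Ix m →₀ ℕ), (0 : Ix m →₀ ℕ))} := by
    ext ⟨p, q⟩
    simp
  rw [coeff_mul, this, Finset.sum_singleton]

/-- the two coordinates. -/
noncomputable def LL : MvPowerSeries (Ix m) k →ₗ[k] k × k :=
  (coeff (R := k) (0 : Ix m →₀ ℕ)).prod (coeff (R := k) (Finsupp.single (none : Ix m) 1))

omit [CharP k 2] in
lemma LL_apply (g : MvPowerSeries (Ix m) k) :
    LL k m g = (coeff 0 g, coeff (Finsupp.single (none : Ix m) 1) g) := rfl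

omit [CharP k 2] in
lemma J'_le_ker (g : MvPowerSeries (Ix m) k) (hg : g ∈ J' k m) : LL k m g = 0 := by
  classical
  induction hg using Submodule.span_induction with
  | mem x hx =>
    rcases hx with rfl | ⟨j, rfl⟩
    · rw [LL_apply]
      have h1 : coeff (0 : Ix m →₀ ℕ) (X none ^ 2 : MvPowerSeries (Ix m) k) = 0 := by
        rw [coeff_X_pow, if_neg]
        intro h
        have := congrArg (fun d : Ix m →₀ ℕ => d none) h
        simp at this
      have h2 : coeff (Finsupp.single (none : Ix m) 1) (X none ^ 2 : MvPowerSeries (Ix m) k) = 0 := by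
        rw [coeff_X_pow, if_neg]
        intro h
        have := congrArg (fun d : Ix m →₀ ℕ => d none) h
        simp at this
      rw [h1, h2]; rfl
    · rw [LL_apply]
      have h1 : coeff (0 : Ix m →₀ ℕ) (X (some j) : MvPowerSeries (Ix m) k) = 0 := by
        rw [coeff_X, if_neg]
        intro h
        have := congrArg (fun d : Ix m →₀ ℕ => d (some j)) h
        simp at this
      have h2 : coeff (Finsupp.single (none : Ix m) 1) (X (some j) : MvPowerSeries (Ix m) k) = 0 := by
        rw [coeff_X, if_neg]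
        intro h
        have := congrArg (fun d : Ix m →₀ ℕ => d none) h
        simp at this
      rw [h1, h2]; rfl
  | zero => exact map_zero _
  | add x y _ _ hx hy => rw [map_add, hx, hy, add_zero]
  | smul a x _ hx =>
    rw [LL_apply] at hx ⊢
    have h1 : coeff (0 : Ix m →₀ ℕ) x = 0 := congrArg Prod.fst hx
    have h2 : coeff (Finsupp.single (none : Ix m) 1) x = 0 := congrArg Prod.snd hx
    rw [smul_eq_mul, coeff_single_mul, coeff_zero_mul', h1, h2]
    simp

omit [CharP k 2] in
lemma ker_le_J' (g : MvPowerSeries (Ix m) k) (hg : LL k m g = 0) : g ∈ J' k m := by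
  classical
  rw [LL_apply] at hg
  have h1 : coeff (0 : Ix m →₀ ℕ) g = 0 := congrArg Prod.fst hg
  have h2 : coeff (Finsupp.single (none : Ix m) 1) g = 0 := congrArg Prod.snd hg
  rw [eq_sum_X_mul_quot g h1]
  apply Ideal.sum_mem
  intro i _
  cases i with
  | some j => exact Ideal.mul_mem_right _ _ (X_some_mem_J' k m j)
  | none =>
    -- `quot g none` has zero constant coefficient
    have h3 : coeff (0 : Ix m →₀ ℕ) (quot g none) = 0 := by
      rw [coeff_quot, zero_add, h2]
      split_ifs <;> rfl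
    have h4 : quot g none ∈ mI (Ix m) k := by
      have := mem_pow_of_ordGE (σ := Ix m) (R := k) 1 (quot g none) (fun d hd => by
        have : d = 0 := by
          rw [← Finsupp.degree_eq_zero_iff]; omega
        rw [this, h3])
      rwa [pow_one] at this
    apply mI_sq_le_J' k m
    rw [pow_two]
    exact Ideal.mul_mem_mul (X_mem_mI none) h4

omit [CharP k 2] in
theorem finrank_quot : Module.finrank k (MvPowerSeries (Ix m) k ⧸ J' k m) = 2 := by
  have hsurj : Function.Surjective (LL k m) := by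
    rintro ⟨a, b⟩
    refine ⟨C a + b • X none, ?_⟩
    rw [LL_apply]
    classical
    have h0 : (Finsupp.single (none : Ix m) 1) ≠ 0 := by
      intro h
      have := congrArg (fun d : Ix m →₀ ℕ => d none) h
      simp at this
    have h0' : (0 : Ix m →₀ ℕ) ≠ Finsupp.single (none : Ix m) 1 := fun h => h0 h.symm
    simp [coeff_X, coeff_C, h0]
  have hker : (J' k m).restrictScalars k = LinearMap.ker (LL k m) := by
    ext g
    rw [Submodule.restrictScalars_mem, LinearMap.mem_ker]
    exact ⟨J'_le_ker k m g, ker_le_J' k m g⟩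
  let e : (MvPowerSeries (Ix m) k ⧸ J' k m) ≃ₗ[k] (k × k) :=
    (Submodule.Quotient.restrictScalarsEquiv k (J' k m)).symm ≪≫ₗ
      (Submodule.quotEquivOfEq _ _ hker) ≪≫ₗ (LL k m).quotKerEquivOfSurjective hsurj
  rw [e.finrank_eq, Module.finrank_prod, Module.finrank_self]

theorem main (f : MvPowerSeries (Ix m) k)
    (hf : ∀ d : Ix m →₀ ℕ, d.degree < 3 → coeff d f = coeff d (qq k m)) :
    Ideal.span ({f} ∪ Set.range fun i : Ix m => pderiv k i f) = J' k m ∧
    Module.finrank k (MvPowerSeries (Ix m) k ⧸ J' k m) = 2 :=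
  ⟨ideal_eq k m f hf, finrank_quot k m⟩

end specific

end Groth.Agent.Lib.Helper26.Char2Jac
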