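import Mathlib

set_option autoImplicit false
set_option linter.unusedVariables false

open Polynomial Matrix

namespace Groth.Agent.Lib.Helper26.CharCoeff

universe u

section expansion
variable {R : Type*} [CommRing R] {n : Type*} [Fintype n] [DecidableEq n]

theorem prod_sign (s : Finset n) (a b : R) :
    ∏ i, (if i ∈ s then a else b) = a ^ s.card * b ^ (Fintype.card n - s.card) := by
  have := Finset.prod_piecewise (Finset.univ : Finset n) s (fun _ => a) (fun _ => b)
  simp only [Finset.piecewise] at this
  rw [this]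
  simp [Finset.prod_const, Finset.card_sdiff, Finset.card_univ]

/-- expansion of det(X U - N) row-wise -/
theorem det_X_smul_sub (U N : Matrix n n R) :
    Matrix.det (Matrix.of fun i k => (X : R[X]) * C (U i k) - C (N i k)) =
      ∑ s : Finset n, (X : R[X]) ^ s.card * (-1) ^ (Fintype.card n - s.card) *
        C (Matrix.det (Matrix.of fun i => if i ∈ s then U i else N i)) := by
  have h1 : (Matrix.of fun i k => (X : R[X]) * C (U i k) - C (N i k)) =
      (fun i => (X : R[X]) • (U.map C) i) + (fun i => (-1 : R[X]) • (N.map C) i) := by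
    ext i k
    simp [sub_eq_add_neg]
  have h2 : Matrix.det (Matrix.of fun i k => (X : R[X]) * C (U i k) - C (N i k)) =
      (Matrix.detRowAlternating (R := R[X]) (n := n)).toMultilinearMap
        ((fun i => (X : R[X]) • (U.map C) i) + (fun i => (-1 : R[X]) • (N.map C) i)) := by
    rw [← h1]; rfl
  rw [h2, MultilinearMap.map_add_univ]
  refine Finset.sum_congr rfl (fun s _ => ?_)
  have h3 : (s.piecewise (fun i => (X : R[X]) • (U.map C) i)
      (fun i => (-1 : R[X]) • (N.map C) i)) =
      fun i => (if i ∈ s then (X : R[X]) else -1) •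
        ((Matrix.of fun i => if i ∈ s then U i else N i).map C) i := by
    ext i k
    by_cases hi : i ∈ s <;> simp [Finset.piecewise, hi]
  rw [h3]
  refine (MultilinearMap.map_smul_univ _ (fun i => if i ∈ s then (X : R[X]) else -1)
    (fun i => ((Matrix.of fun i => if i ∈ s then U i else N i).map C) i)).trans ?_
  rw [prod_sign, smul_eq_mul]
  congr 1
  change Matrix.det _ = _
  rw [← RingHom.mapMatrix_apply, ← RingHom.map_det]

theorem coeff_charpoly_mul_det (M W : Matrix n n R) (j : ℕ) :
    M.charpoly.coeff j * W.det = ∑ s : Finset n, if s.card = j then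
      (-1) ^ (Fintype.card n - s.card) *
        Matrix.det (Matrix.of fun i => if i ∈ s then Wᵀ i else (M * W)ᵀ i) else 0 := by
  have h1 : M.charpoly * C W.det =
      Matrix.det (Matrix.of fun i k => (X : R[X]) * C (Wᵀ i k) - C ((M * W)ᵀ i k)) := by
    have : (Matrix.of fun i k => (X : R[X]) * C (Wᵀ i k) - C ((M * W)ᵀ i k)) =
        (charmatrix M * W.map C)ᵀ := by
      ext i k
      simp only [Matrix.of_apply, Matrix.transpose_apply, charmatrix, Matrix.sub_mul]
      simp only [RingHom.mapMatrix_apply, ← Matrix.map_mul, Matrix.sub_apply, Matrix.map_apply]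
      congr 1
      simp [Matrix.scalar_apply, Matrix.mul_apply, Matrix.diagonal_apply]
    rw [this, Matrix.det_transpose, Matrix.det_mul, Matrix.charpoly,
      ← RingHom.mapMatrix_apply, ← RingHom.map_det]
  have h2 := congrArg (fun p => p.coeff j) h1
  simp only [Polynomial.coeff_mul_C] at h2
  rw [h2, det_X_smul_sub, Polynomial.finsetSum_coeff]
  refine Finset.sum_congr rfl (fun s _ => ?_)
  have : (X : R[X]) ^ s.card * (-1) ^ (Fintype.card n - s.card) *
        C (Matrix.det (Matrix.of fun i => if i ∈ s then Wᵀ i else (M * W)ᵀ i)) =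
      C ((-1) ^ (Fintype.card n - s.card) *
        Matrix.det (Matrix.of fun i => if i ∈ s then Wᵀ i else (M * W)ᵀ i)) * X ^ s.card := by
    simp only [map_mul, map_pow, map_neg, map_one]
    ring
  rw [this, Polynomial.coeff_C_mul_X_pow]
  by_cases h : s.card = j
  · simp [h]
  · rw [if_neg h, if_neg (fun h' => h h'.symm)]

end expansion

section main
open TensorProduct

variable (A : Type u) [CommRing A] (E : Type u) [AddCommGroup E] [Module A E]

local notation "K" => FractionRing A
local notation "V" => TensorProduct A (FractionRing A) E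

/-- the canonical map E → K ⊗ E -/
noncomputable def phi : E →ₗ[A] V := TensorProduct.mk A K E 1

variable {A E}

theorem baseChange_phi (v : E →ₗ[A] E) (e : E) :
    (v.baseChange K) (phi A E e) = phi A E (v e) := by
  simp [phi]

theorem toMatrix_mul {ι : Type*} [Fintype ι] [DecidableEq ι] (b : Module.Basis ι K V)
    (f : V →ₗ[K] V) (w : ι → V) :
    LinearMap.toMatrix b b f * b.toMatrix w = b.toMatrix (fun i => f (w i)) := by
  ext i j
  have := congrFun (LinearMap.toMatrix_mulVec_repr b b f (w j)) i
  simpa [Matrix.mul_apply, Matrix.mulVec, dotProduct, Module.Basis.toMatrix_apply] using this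

theorem coeff_mul_det {ι : Type*} [Fintype ι] [DecidableEq ι] (b : Module.Basis ι K V)
    [Module.Free K V] [Module.Finite K V]
    (v : E →ₗ[A] E) (x : ι → E) (j : ℕ) :
    ((v.baseChange K).charpoly).coeff j * b.det (fun i => phi A E (x i)) =
      ∑ s : Finset ι, if s.card = j then (-1) ^ (Fintype.card ι - s.card) *
        b.det (fun i => phi A E (if i ∈ s then x i else v (x i))) else 0 := by
  rw [← LinearMap.charpoly_toMatrix (v.baseChange K) b, Module.Basis.det_apply,
    coeff_charpoly_mul_det]
  refine Finset.sum_congr rfl (fun s _ => ?_)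
  by_cases h : s.card = j
  · rw [if_pos h, if_pos h, Module.Basis.det_apply, ← Matrix.det_transpose
      (b.toMatrix fun i => phi A E (if i ∈ s then x i else v (x i)))]
    congr 2
    rw [toMatrix_mul]
    ext i k
    by_cases hi : i ∈ s
    · simp [hi, Module.Basis.toMatrix_apply]
    · simp [hi, Module.Basis.toMatrix_apply, baseChange_phi]
  · rw [if_neg h, if_neg h]

/-- the lattice D spanned by determinants of generator tuples -/
noncomputable def DD {ι : Type*} [Fintype ι] [DecidableEq ι] (b : Module.Basis ι K V)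
    {k : ℕ} (g : Fin k → E) : Submodule A K :=
  Submodule.span A (Set.range fun r : ι → Fin k => b.det (fun i => phi A E (g (r i))))

theorem DD_fg {ι : Type*} [Fintype ι] [DecidableEq ι] (b : Module.Basis ι K V)
    {k : ℕ} (g : Fin k → E) : (DD b g).FG :=
  Submodule.fg_span (Set.finite_range _)

theorem det_mem_DD {ι : Type*} [Fintype ι] [DecidableEq ι] (b : Module.Basis ι K V)
    {k : ℕ} (g : Fin k → E) (hg : Submodule.span A (Set.range g) = ⊤)
    (y : ι → E) : b.det (fun i => phi A E (y i)) ∈ DD b g := by
  have hy : ∀ i, ∃ a : Fin k → A, ∑ l, a l • g l = y i := fun i =>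
    (Submodule.mem_span_range_iff_exists_fun A).mp (hg ▸ Submodule.mem_top)
  choose a ha using hy
  have h1 : (fun i => phi A E (y i)) =
      fun i => ∑ l, (algebraMap A K (a i l)) • phi A E (g l) := by
    ext i
    rw [← ha i, map_sum]
    refine Finset.sum_congr rfl (fun l _ => ?_)
    rw [map_smul, algebraMap_smul]
  rw [h1]
  have h3 : b.det (fun i => ∑ l, (algebraMap A K (a i l)) • phi A E (g l)) =
      ∑ r : ι → Fin k, b.det (fun i => (algebraMap A K (a i (r i))) • phi A E (g (r i))) :=
    b.det.toMultilinearMap.map_sum (fun i l => (algebraMap A K (a i l)) • phi A E (g l))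
  rw [h3]
  refine Submodule.sum_mem _ (fun r _ => ?_)
  have h2 : b.det (fun i => (algebraMap A K (a i (r i))) • phi A E (g (r i))) =
      (∏ i, algebraMap A K (a i (r i))) • b.det (fun i => phi A E (g (r i))) :=
    b.det.toMultilinearMap.map_smul_univ (fun i => algebraMap A K (a i (r i)))
      (fun i => phi A E (g (r i)))
  rw [h2, ← map_prod, algebraMap_smul]
  exact Submodule.smul_mem _ _ (Submodule.subset_span ⟨r, rfl⟩)

theorem coeff_mul_mem_DD {ι : Type*} [Fintype ι] [DecidableEq ι] (b : Module.Basis ι K V)
    [Module.Free K V] [Module.Finite K V] {k : ℕ} (g : Fin k → E)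
    (hg : Submodule.span A (Set.range g) = ⊤)
    (v : E →ₗ[A] E) (j : ℕ) (d : K) (hd : d ∈ DD b g) :
    ((v.baseChange K).charpoly).coeff j * d ∈ DD b g := by
  induction hd using Submodule.span_induction with
  | mem d hd =>
    obtain ⟨r, rfl⟩ := hd
    rw [coeff_mul_det b v (fun i => g (r i)) j]
    refine Submodule.sum_mem _ (fun s _ => ?_)
    by_cases h : s.card = j
    · rw [if_pos h]
      have := det_mem_DD b g hg (fun i => if i ∈ s then g (r i) else v (g (r i)))
      have h2 := Submodule.smul_mem (DD b g) ((-1 : A) ^ (Fintype.card ι - s.card)) this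
      convert h2 using 1
      rw [Algebra.smul_def]
      simp
    · rw [if_neg h]; exact Submodule.zero_mem _
  | zero => simp
  | add x y _ _ hx hy => rw [mul_add]; exact Submodule.add_mem _ hx hy
  | smul a x _ hx => rw [mul_smul_comm]; exact Submodule.smul_mem _ _ hx

/-- the stabiliser subalgebra -/
def NN (D : Submodule A K) : Subalgebra A K where
  carrier := {c | ∀ d ∈ D, c * d ∈ D}
  mul_mem' := fun {a c} ha hc d hd => by rw [mul_assoc]; exact ha _ (hc _ hd)
  one_mem' := fun d hd => by simpa using hd
  add_mem' := fun {a c} ha hc d hd => by rw [add_mul]; exact D.add_mem (ha _ hd) (hc _ hd)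
  zero_mem' := fun d hd => by simp
  algebraMap_mem' := fun a d hd => by
    rw [← Algebra.smul_def]; exact D.smul_mem _ hd

theorem exists_unit_mem_DD {ι : Type*} [Fintype ι] [DecidableEq ι] (b : Module.Basis ι K V)
    {k : ℕ} (g : Fin k → E)
    (hg : Submodule.span A (Set.range g) = ⊤) :
    ∃ σ : K, IsUnit σ ∧ σ ∈ DD b g := by
  have : IsLocalizedModule (nonZeroDivisors A) (TensorProduct.mk A K E 1) :=
    (isLocalizedModule_iff_isBaseChange (nonZeroDivisors A) K _).mpr
      (TensorProduct.isBaseChange A E K)
  have h : ∀ i, ∃ x : E × (nonZeroDivisors A), x.2 • b i = TensorProduct.mk A K E 1 x.1 :=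
    fun i => IsLocalizedModule.surj (nonZeroDivisors A) (TensorProduct.mk A K E 1) (b i)
  choose x hx using h
  refine ⟨∏ i, algebraMap A K ((x i).2 : A), ?_, ?_⟩
  · rw [IsUnit.prod_univ_iff]
    exact fun i => IsLocalization.map_units K (x i).2
  · have h1 := det_mem_DD b g hg (fun i => (x i).1)
    have h2 : (fun i => phi A E ((x i).1)) =
        fun i => (algebraMap A K ((x i).2 : A)) • b i := by
      ext i
      rw [algebraMap_smul]
      exact (hx i).symm
    rw [h2] at h1
    have h3 : b.det (fun i => (algebraMap A K ((x i).2 : A)) • b i) =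
        (∏ i, algebraMap A K ((x i).2 : A)) • b.det (fun i => b i) :=
      b.det.toMultilinearMap.map_smul_univ (fun i => algebraMap A K ((x i).2 : A))
        (fun i => b i)
    have h4 : b.det (fun i => b i) = 1 := b.det_self
    rw [h3, h4, smul_eq_mul, mul_one] at h1
    exact h1

theorem main [IsNoetherianRing A] [Module.Finite A E] [Module.Free K V] :
    (Algebra.adjoin A {c : FractionRing A | ∃ (v : E →ₗ[A] E) (j : ℕ),
        c = ((v.baseChange (FractionRing A)).charpoly).coeff j}).toSubmodule.FG := by
  classical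
  obtain ⟨k, g, hg⟩ := Module.Finite.exists_fin (R := A) (M := E)
  let b := Module.Free.chooseBasis K V
  obtain ⟨σ, hσu, hσ⟩ := exists_unit_mem_DD b g hg
  obtain ⟨σ', rfl⟩ := hσu
  have hle : Algebra.adjoin A {c : FractionRing A | ∃ (v : E →ₗ[A] E) (j : ℕ),
        c = ((v.baseChange (FractionRing A)).charpoly).coeff j} ≤ NN (DD b g) := by
    refine Algebra.adjoin_le ?_
    rintro c ⟨v, j, rfl⟩
    exact fun d hd => coeff_mul_mem_DD b g hg v j d hd
  let T : Submodule A K := (DD b g).map (LinearMap.mulLeft A ((σ'⁻¹ : Kˣ) : K))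
  have hT : T.FG := (DD_fg b g).map _
  have : IsNoetherian A T := isNoetherian_of_fg_of_noetherian T hT
  refine Submodule.FG.of_le_of_isNoetherian (T := T) ?_
  intro c hc
  have hc' : c ∈ NN (DD b g) := hle hc
  have h1 : c * (σ' : K) ∈ DD b g := hc' _ hσ
  refine ⟨c * (σ' : K), h1, ?_⟩
  simp [LinearMap.mulLeft_apply, mul_comm c, ← mul_assoc]

end main

end Groth.Agent.Lib.Helper26.CharCoeff
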