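import Mathlib
import Groth.Agent.S2535
import Groth.Agent.Lib.Helper21.SCmp22
import Groth.Agent.Lib.Helper24.GeomRedPt
import Groth.Agent.Lib.Helper10.AMonPts

set_option autoImplicit false
set_option backward.isDefEq.respectTransparency.types false
universe u v
open AlgebraicGeometry CategoryTheory CategoryTheory.Limits MonoidalCategory
  CartesianMonoidalCategory MonObj GrpObj Topology

namespace Groth.Agent.Lib.Helper26.RedSm

section AlgClosed

variable (Ω : Type u) [Field Ω] [IsAlgClosed Ω] (H : Over (Spec (CommRingCat.of Ω))) [GrpObj H]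
  [LocallyOfFiniteType H.hom]

theorem isReduced_stalk_of_isClosed (pt : ↥(𝟙_ (Over (Spec (CommRingCat.of Ω)))).left)
    (hred : _root_.IsReduced (H.left.presheaf.stalk (η[H].left.base pt)))
    (x : H.left) (hx : IsClosed ({x} : Set H.left)) :
    _root_.IsReduced (H.left.presheaf.stalk x) := by
  let p : Spec (CommRingCat.of Ω) ⟶ H.left := pointOfClosedPoint H.hom x hx
  have hp : p ≫ H.hom = 𝟙 _ := pointOfClosedPoint_comp H.hom x hx
  let x' : 𝟙_ (Over (Spec (CommRingCat.of Ω))) ⟶ H := Over.homMk p (by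
    rw [Over.tensorUnit_hom]; exact hp)
  let α : H ≅ H := GrpObj.mulRight x'
  have hα : η[H] ≫ α.hom = x' := by
    change η[H] ≫ (lift (𝟙 _) (toUnit _ ≫ x') ≫ μ[H]) = x'
    rw [← Category.assoc, comp_lift, Category.comp_id, ← Category.assoc,
      toUnit_unique (η[H] ≫ toUnit H) (𝟙 _), Category.id_comp]
    have h1 : lift η[H] x' ≫ μ[H] = (1 : 𝟙_ _ ⟶ H) * x' := by
      rw [Hom.mul_def, Hom.one_def, toUnit_unique (toUnit _) (𝟙 _), Category.id_comp]
    rw [h1, _root_.one_mul]
  have hαx : α.hom.left.base (η[H].left.base pt) = x := by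
    have h1 : (η[H] ≫ α.hom).left.base pt = x'.left.base pt := by rw [hα]
    have h2 : x'.left.base pt = x := pointOfClosedPoint_apply H.hom x hx pt
    exact h1.trans h2
  haveI : IsIso α.hom.left := (inferInstance : IsIso ((Over.forget _).map α.hom))
  have hinj : Function.Injective (α.hom.left.stalkMap (η[H].left.base pt)).hom :=
    ((ConcreteCategory.isIso_iff_bijective _).1 inferInstance).1
  rw [← hαx]
  exact isReduced_of_injective _ hinj

theorem isReduced_of_unit (pt : ↥(𝟙_ (Over (Spec (CommRingCat.of Ω)))).left)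
    (hred : _root_.IsReduced (H.left.presheaf.stalk (η[H].left.base pt))) :
    IsReduced H.left := by
  haveI : JacobsonSpace ↥H.left := LocallyOfFiniteType.jacobsonSpace H.hom
  haveI : ∀ y : H.left, _root_.IsReduced (H.left.presheaf.stalk y) := by
    intro y
    obtain ⟨x, hxy, hxc⟩ := nonempty_inter_closedPoints (Z := closure ({y} : Set H.left))
      ⟨y, subset_closure rfl⟩ isClosed_closure.isLocallyClosed
    have hspec : y ⤳ x := specializes_iff_mem_closure.2 hxy
    exact Groth.Agent.Lib.Helper21.SCmp.isReduced_stalk_of_specializes hspec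
      (isReduced_stalk_of_isClosed Ω H pt hred x hxc)
  exact isReduced_of_isReduced_stalk H.left

theorem smooth_of_unit (pt : ↥(𝟙_ (Over (Spec (CommRingCat.of Ω)))).left)
    (hred : _root_.IsReduced (H.left.presheaf.stalk (η[H].left.base pt))) :
    Smooth H.hom := by
  haveI : IsReduced H.left := isReduced_of_unit Ω H pt hred
  have hiso : IsIso (Spec.map (CommRingCat.ofHom (algebraMap Ω Ω))) := by
    have : CommRingCat.ofHom (algebraMap Ω Ω) = 𝟙 (CommRingCat.of Ω) := rfl
    rw [this]
    infer_instance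
  haveI : IsIso (FBase.bcπ H.hom Ω) := by
    unfold FBase.bcπ
    haveI := hiso
    exact pullback_fst_iso_of_right_iso H.hom _
  haveI : IsReduced (FBase.bc H.hom Ω) := isReduced_of_isOpenImmersion (FBase.bcπ H.hom Ω)
  haveI hG : GeometricallyReduced H.hom := Groth.Agent.S2535.result (Ω := Ω) H.hom
  haveI : GrpObj (Over.mk H.hom) := inferInstanceAs (GrpObj H)
  exact smooth_of_grpObj H.hom

end AlgClosed

theorem smooth_of_bc {k L : Type u} [Field k] [Field L] [Algebra k L]
    (G : Over (Spec (CommRingCat.of k)))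
    (h : Smooth (Red.bc (Spec.map (CommRingCat.ofHom (algebraMap k L))) G).hom) :
    Smooth G.hom := by
  apply MorphismProperty.of_pullback_snd_of_descendsAlong
    (Q := @Surjective ⊓ @Flat ⊓ @QuasiCompact)
    (g := Spec.map (CommRingCat.ofHom (algebraMap k L)))
  · exact ⟨⟨inferInstance, inferInstance⟩, inferInstance⟩
  · exact h

theorem fst_unit {k L : Type u} [Field k] [Field L] [Algebra k L]
    (G : Over (Spec (CommRingCat.of k))) [GrpObj G]
    (pt : ↥(𝟙_ (Over (Spec (CommRingCat.of k)))).left)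
    (ptL : ↥(𝟙_ (Over (Spec (CommRingCat.of L)))).left) :
    (pullback.fst G.hom (Spec.map (CommRingCat.ofHom (algebraMap k L)))).base
      (η[Red.bc (Spec.map (CommRingCat.ofHom (algebraMap k L))) G].left.base ptL) =
      η[G].left.base pt := by
  have h := Groth.Agent.Lib.Helper10.AMonPts.bc_one_left_fst
    (Spec.map (CommRingCat.ofHom (algebraMap k L))) G
    (X := 𝟙_ (Over (Spec (CommRingCat.of L))))
  have h1 : (1 : 𝟙_ (Over (Spec (CommRingCat.of L))) ⟶
      Red.bc (Spec.map (CommRingCat.ofHom (algebraMap k L))) G) =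
      η[Red.bc (Spec.map (CommRingCat.ofHom (algebraMap k L))) G] := by
    rw [Hom.one_def, toUnit_unique (toUnit _) (𝟙 _), Category.id_comp]
  rw [h1] at h
  have h2 := congrArg (fun ψ => ψ ptL) (congrArg (fun ψ : _ ⟶ G.left => ψ.base) h)
  simp only [Scheme.Hom.comp_base, TopCat.comp_app] at h2
  refine h2.trans ?_
  congr 1
  exact Subsingleton.elim (α := PrimeSpectrum k) _ _

theorem fromSpecStalk_comp {k : Type u} [Field k] {X : Scheme.{u}}
    (f : X ⟶ Spec (CommRingCat.of k)) (x : X) :
    X.fromSpecStalk x ≫ f = Spec.map ((Scheme.ΓSpecIso (CommRingCat.of k)).inv ≫ f.appTop ≫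
      X.presheaf.germ ⊤ x trivial) := by
  have h1 : X.fromSpecStalk x ≫ f ≫ (Spec (CommRingCat.of k)).toSpecΓ =
      Spec.map (f.appTop ≫ X.presheaf.germ ⊤ x trivial) := by
    rw [Scheme.toSpecΓ_naturality, Scheme.fromSpecStalk_toSpecΓ_assoc, ← Spec.map_comp]
  have h2 : (Spec (CommRingCat.of k)).toSpecΓ =
      Spec.map (Scheme.ΓSpecIso (CommRingCat.of k)).hom := (SpecMap_ΓSpecIso_hom _).symm
  rw [Spec.map_comp, ← h1, h2, Category.assoc, Category.assoc, ← Spec.map_comp,
    Iso.inv_hom_id, Spec.map_id, Category.comp_id]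

theorem main_aux (k : Type u) [Field k] (G : Over (Spec (CommRingCat.of k))) [GrpObj G]
    [LocallyOfFiniteType G.hom] (pt : ↥(𝟙_ (Over (Spec (CommRingCat.of k)))).left) (K : Type u)
    [Field K] [Algebra k K] [PerfectField K] (e : G.left) (he : η[G].left.base pt = e)
    (alg : Algebra k (G.left.presheaf.stalk e))
    (halg : algebraMap k (G.left.presheaf.stalk e) =
      ((Scheme.ΓSpecIso (CommRingCat.of k)).inv ≫ G.hom.appTop ≫
        G.left.presheaf.germ ⊤ e trivial).hom)
    (hred : _root_.IsReduced (TensorProduct k K (G.left.presheaf.stalk e))) :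
    Smooth G.hom := by
  let gK := Spec.map (CommRingCat.ofHom (algebraMap k K))
  let GK := Red.bc gK G
  let ptK : ↥(𝟙_ (Over (Spec (CommRingCat.of K)))).left :=
    Classical.choice (inferInstanceAs (Nonempty (PrimeSpectrum K)))
  let eK := η[GK].left.base ptK
  have heK : (pullback.fst G.hom gK).base eK = e := (fst_unit G pt ptK).trans he
  have hψ : G.left.fromSpecStalk e ≫ G.hom =
      Spec.map (CommRingCat.ofHom (algebraMap k (G.left.presheaf.stalk e))) := by
    rw [halg, CommRingCat.ofHom_hom]
    exact fromSpecStalk_comp G.hom e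
  have hY : IsReduced (pullback (G.left.fromSpecStalk e ≫ G.hom) gK) := by
    rw [hψ]
    haveI : _root_.IsReduced (TensorProduct k (G.left.presheaf.stalk e) K) :=
      isReduced_of_injective
        (Algebra.TensorProduct.comm k (G.left.presheaf.stalk e) K).toRingEquiv.toRingHom
        (Algebra.TensorProduct.comm k (G.left.presheaf.stalk e) K).injective
    haveI : IsReduced (Spec (CommRingCat.of (TensorProduct k (G.left.presheaf.stalk e) K))) :=
      (affine_isReduced_iff _).mpr inferInstance
    exact isReduced_of_isOpenImmersion (pullbackSpecIso k (G.left.presheaf.stalk e) K).hom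
  have hstalkK : _root_.IsReduced (GK.left.presheaf.stalk eK) :=
    Groth.Agent.Lib.Helper24.GeomRedPt.isReduced_stalk_pullback_of_local G.hom gK e hY eK heK
  have hgeo : FBase.IsGeomReducedAt GK.hom eK :=
    Groth.Agent.Lib.Helper24.GeomRedPt.isGeomReducedAt_of_isReduced_stalk_perfect GK.hom eK
      hstalkK
  let Ω := AlgebraicClosure K
  let gΩ := Spec.map (CommRingCat.ofHom (algebraMap K Ω))
  let H := Red.bc gΩ GK
  let ptΩ : ↥(𝟙_ (Over (Spec (CommRingCat.of Ω)))).left :=
    Classical.choice (inferInstanceAs (Nonempty (PrimeSpectrum Ω)))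
  let eΩ := η[H].left.base ptΩ
  have heΩ : (pullback.fst GK.hom gΩ).base eΩ = eK := fst_unit GK ptK ptΩ
  have hstalkΩ : _root_.IsReduced (H.left.presheaf.stalk eΩ) := hgeo Ω eΩ heΩ
  haveI : LocallyOfFiniteType GK.hom :=
    inferInstanceAs (LocallyOfFiniteType (pullback.snd G.hom gK))
  haveI : LocallyOfFiniteType H.hom :=
    inferInstanceAs (LocallyOfFiniteType (pullback.snd GK.hom gΩ))
  have hsmΩ : Smooth H.hom := smooth_of_unit Ω H ptΩ hstalkΩ
  have hsmK : Smooth GK.hom := smooth_of_bc GK hsmΩ
  exact smooth_of_bc G hsmK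

theorem main_5388 (k : Type u) [Field k] (G : Over (Spec (CommRingCat.of k))) [GrpObj G]
    [LocallyOfFiniteType G.hom] (pt : ↥(𝟙_ (Over (Spec (CommRingCat.of k)))).left) (K : Type u)
    [Field K] [Algebra k K] [PerfectField K] :
    letI := ((Scheme.ΓSpecIso (CommRingCat.of k)).inv ≫ G.hom.appTop ≫
      G.left.presheaf.germ ⊤ (η[G].left.base pt) trivial).hom.toAlgebra
    _root_.IsReduced (TensorProduct k K (G.left.presheaf.stalk (η[G].left.base pt))) →
      Smooth G.hom := by
  intro hred
  exact main_aux k G pt K (η[G].left.base pt) rfl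
    ((Scheme.ΓSpecIso (CommRingCat.of k)).inv ≫ G.hom.appTop ≫
      G.left.presheaf.germ ⊤ (η[G].left.base pt) trivial).hom.toAlgebra rfl hred

end Groth.Agent.Lib.Helper26.RedSm
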