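import Mathlib
import Groth.Agent.Lib.Helper26.ImgSm
import Groth.Agent.Lib.Helper14.UnivOpenAt
import Groth.Agent.Lib.Helper16.ReducedSub

set_option autoImplicit false
set_option backward.isDefEq.respectTransparency.types false
universe u v
open AlgebraicGeometry CategoryTheory CategoryTheory.Limits MonoidalCategory
  CartesianMonoidalCategory MonObj GrpObj Topology TensorProduct

namespace Groth.Agent.Lib.Helper26.ClsGrp

section Alg

variable {k A K : Type u} [Field k] [CommRing A] [Algebra k A] [Field K] [Algebra k K]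

/-- evaluation at a rational point, extended to `A ⊗ K` -/
noncomputable def evalK (e : A →ₐ[k] k) : A ⊗[k] K →ₐ[k] K :=
  Algebra.TensorProduct.lift ((Algebra.ofId k K).comp e) (AlgHom.id k K) (fun _ _ => Commute.all _ _)

theorem evalK_tmul (e : A →ₐ[k] k) (a : A) (c : K) : evalK e (a ⊗ₜ c) = algebraMap k K (e a) * c := by
  simp [evalK]

theorem eq_zero_of_forall_evalK (E : Set (A →ₐ[k] k)) (hE : ∀ a : A, (∀ e ∈ E, e a = 0) → a = 0)
    (x : A ⊗[k] K) (hx : ∀ e ∈ E, evalK e x = 0) : x = 0 := by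
  classical
  let 𝒞 := Module.Basis.ofVectorSpace k K
  obtain ⟨b, rfl⟩ := TensorProduct.eq_repr_basis_right 𝒞 x
  suffices hb : b = 0 by simp [hb]
  ext j
  apply hE
  intro e he
  have h1 := hx e he
  rw [Finsupp.sum, map_sum] at h1
  simp only [evalK_tmul] at h1
  have h2 : ∑ i ∈ b.support, (e (b i)) • (𝒞 i) = 0 := by
    simpa [Algebra.smul_def] using h1
  have h3 := linearIndependent_iff'.mp 𝒞.linearIndependent b.support (fun i => e (b i)) h2
  by_cases hj : j ∈ b.support
  · simpa using h3 j hj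
  · rw [Finsupp.notMem_support_iff] at hj
    simp [hj]

theorem isReduced_tensor_of_points (E : Set (A →ₐ[k] k))
    (hE : ∀ a : A, (∀ e ∈ E, e a = 0) → a = 0) : IsReduced (A ⊗[k] K) := by
  refine ⟨fun x hx => ?_⟩
  apply eq_zero_of_forall_evalK E hE
  intro e he
  exact (hx.map (evalK e)).eq_zero

end Alg

section Aff

variable {k : Type u} [Field k]

theorem isReduced_pullback_affine (U : Scheme.{u}) [IsAffine U] [IsReduced U]
    (φ : U ⟶ Spec (CommRingCat.of k)) (P : Set (Spec (CommRingCat.of k) ⟶ U))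
    (hP : ∀ s ∈ P, s ≫ φ = 𝟙 _)
    (hdense : Dense {y : U | ∃ s ∈ P, s (IsLocalRing.closedPoint k) = y})
    (K : Type u) [Field K] [Algebra k K] :
    IsReduced (pullback φ (Spec.map (CommRingCat.ofHom (algebraMap k K)))) := by
  let a : CommRingCat.of k ⟶ Γ(U, ⊤) := Spec.preimage (U.isoSpec.inv ≫ φ)
  letI : Algebra k Γ(U, ⊤) := a.hom.toAlgebra
  have hφ : Spec.map (CommRingCat.ofHom (algebraMap k Γ(U, ⊤))) = U.isoSpec.inv ≫ φ :=
    Spec.map_preimage _
  have w1 : φ ≫ 𝟙 _ = U.isoSpec.hom ≫ Spec.map (CommRingCat.ofHom (algebraMap k Γ(U, ⊤))) := by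
    rw [hφ]; simp
  have w2 : Spec.map (CommRingCat.ofHom (algebraMap k K)) ≫ 𝟙 _ =
      𝟙 _ ≫ Spec.map (CommRingCat.ofHom (algebraMap k K)) := by simp
  have hiso : IsIso (pullback.map φ (Spec.map (CommRingCat.ofHom (algebraMap k K)))
      (Spec.map (CommRingCat.ofHom (algebraMap k Γ(U, ⊤))))
      (Spec.map (CommRingCat.ofHom (algebraMap k K))) U.isoSpec.hom (𝟙 _) (𝟙 _) w1 w2) :=
    inferInstance
  let e₁ := asIso (pullback.map φ (Spec.map (CommRingCat.ofHom (algebraMap k K)))
      (Spec.map (CommRingCat.ofHom (algebraMap k Γ(U, ⊤))))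
      (Spec.map (CommRingCat.ofHom (algebraMap k K))) U.isoSpec.hom (𝟙 _) (𝟙 _) w1 w2)
  let e := e₁ ≪≫ pullbackSpecIso k Γ(U, ⊤) K
  suffices h : _root_.IsReduced (Γ(U, ⊤) ⊗[k] K) by
    have : IsReduced (Spec (.of (Γ(U, ⊤) ⊗[k] K))) := (affine_isReduced_iff (.of _)).mpr h
    exact isReduced_of_isOpenImmersion e.hom
  -- the evaluation maps
  have hcomm : ∀ s ∈ P, a ≫ s.appTop ≫ (Scheme.ΓSpecIso (CommRingCat.of k)).hom = 𝟙 _ := by
    intro s hs
    apply Spec.map_injective
    rw [Spec.map_comp, Spec.map_comp, Spec.map_id]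
    have h1 : Spec.map a = U.isoSpec.inv ≫ φ := Spec.map_preimage _
    rw [h1, Category.assoc, Scheme.isoSpec_inv_naturality_assoc, hP s hs, Category.comp_id,
      Scheme.isoSpec_Spec_inv, ← Spec.map_comp, Iso.inv_hom_id, Spec.map_id]
  let ev : ∀ s ∈ P, Γ(U, ⊤) →ₐ[k] k := fun s hs =>
    { toRingHom := (Scheme.ΓSpecIso (CommRingCat.of k)).hom.hom.comp s.appTop.hom
      commutes' := fun c => by
        have := congrArg (fun t => t.hom c) (hcomm s hs)
        exact this }
  refine isReduced_tensor_of_points {e' | ∃ s, ∃ hs : s ∈ P, e' = ev s hs} ?_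
  intro f hf
  by_contra hne
  have hne' : U.basicOpen f ≠ ⊥ := fun h => hne ((basicOpen_eq_bot_iff f).mp h)
  have hne2 : ((U.basicOpen f : U.Opens) : Set U).Nonempty := by
    rw [Set.nonempty_iff_ne_empty]
    intro h
    exact hne' (TopologicalSpace.Opens.ext h)
  obtain ⟨y, hy1, s, hs, rfl⟩ := hdense.inter_open_nonempty _ (U.basicOpen f).isOpen hne2
  have h0 := hf (ev s hs) ⟨s, hs, rfl⟩
  have h1 : s.appTop.hom f = 0 := by
    have h2 : (Scheme.ΓSpecIso (CommRingCat.of k)).hom.hom (s.appTop.hom f) = 0 := h0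
    have hinj : Function.Injective (Scheme.ΓSpecIso (CommRingCat.of k)).hom.hom :=
      (ConcreteCategory.bijective_of_isIso (Scheme.ΓSpecIso (CommRingCat.of k)).hom).1
    exact hinj (by rw [h2, map_zero])
  have h3 : IsLocalRing.closedPoint k ∈ s ⁻¹ᵁ (U.basicOpen f) := hy1
  rw [Scheme.preimage_basicOpen] at h3
  have h4 : s.app ⊤ f = 0 := h1
  rw [h4, Scheme.basicOpen_zero] at h3
  exact h3

theorem geometricallyReduced_of_dense_points {Z : Scheme.{u}}
    (hZ : Z ⟶ Spec (CommRingCat.of k)) [IsReduced Z]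
    (P : Set (Spec (CommRingCat.of k) ⟶ Z)) (hP : ∀ s ∈ P, s ≫ hZ = 𝟙 _)
    (hdense : Dense {y : Z | ∃ s ∈ P, s (IsLocalRing.closedPoint k) = y}) :
    GeometricallyReduced hZ := by
  haveI : Subsingleton ↥(Spec (CommRingCat.of k)) :=
    inferInstanceAs (Subsingleton (PrimeSpectrum k))
  rw [geometricallyReduced_iff, geometrically_iff_of_commRing_of_isClosedUnderIsomorphisms]
  intro K _ _
  refine @IsReduced.of_openCover _ (Scheme.Pullback.openCoverOfLeft Z.affineCover hZ
    (Spec.map (CommRingCat.ofHom (algebraMap k K)))) fun i => ?_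
  show IsReduced (pullback (Z.affineCover.f i ≫ hZ)
    (Spec.map (CommRingCat.ofHom (algebraMap k K))))
  haveI : IsReduced (Z.affineCover.X i) := isReduced_of_isOpenImmersion (Z.affineCover.f i)
  refine isReduced_pullback_affine _ _ {s' | s' ≫ Z.affineCover.f i ∈ P} ?_ ?_ K
  · intro s' hs'
    rw [← Category.assoc, hP _ hs']
  · rw [dense_iff_inter_open]
    intro V hV hVne
    have hopen : IsOpen ((Z.affineCover.f i) '' V) :=
      (Z.affineCover.f i).isOpenEmbedding.isOpenMap V hV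
    obtain ⟨y, ⟨v, hvV, rfl⟩, s, hs, hsy⟩ :=
      hdense.inter_open_nonempty _ hopen (hVne.image _)
    have hrange : Set.range s ⊆ Set.range (Z.affineCover.f i) := by
      rintro _ ⟨t, rfl⟩
      have : t = IsLocalRing.closedPoint k := Subsingleton.elim _ _
      rw [this, hsy]
      exact ⟨v, rfl⟩
    let s' := IsOpenImmersion.lift (Z.affineCover.f i) s hrange
    have hs' : s' ≫ Z.affineCover.f i = s := IsOpenImmersion.lift_fac _ _ _
    refine ⟨v, hvV, s', by rw [Set.mem_setOf_eq, hs']; exact hs, ?_⟩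
    apply (Z.affineCover.f i).isOpenEmbedding.injective
    rw [← Scheme.Hom.comp_apply, hs', hsy]

end Aff

section Main

variable {k : Type u} [Field k]

/-- points of `Z ⊗ Z` whose first coordinate is a rational point lie on the corresponding slice -/
theorem exists_slice (Z : Over (Spec (CommRingCat.of k)))
    (σ : 𝟙_ (Over (Spec (CommRingCat.of k))) ⟶ Z) (w : (Z ⊗ Z).left)
    (hw : (fst Z Z).left w = σ.left (IsLocalRing.closedPoint k)) :
    ∃ c : Z.left, (lift (toUnit Z ≫ σ) (𝟙 Z)).left c = w := by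
  have hσ : σ.left ≫ Z.hom = 𝟙 _ := Over.w σ
  have hsq : IsPullback (lift (toUnit Z ≫ σ) (𝟙 Z)).left Z.hom (pullback.fst Z.hom Z.hom)
      σ.left := by
    refine IsPullback.of_right (h₁₂ := pullback.snd Z.hom Z.hom) (v₁₃ := Z.hom) (h₂₂ := Z.hom)
      ?_ ?_ (IsPullback.of_hasPullback Z.hom Z.hom).flip
    · have h1 : (lift (toUnit Z ≫ σ) (𝟙 Z)).left ≫ pullback.snd Z.hom Z.hom = 𝟙 _ := by
        have := congrArg (fun t => t.left) (lift_snd (toUnit Z ≫ σ) (𝟙 Z))
        exact this
      rw [h1, hσ]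
      haveI : IsIso (𝟙 Z.left) := IsIso.id _
      haveI : IsIso (𝟙 (𝟙_ (Over (Spec (CommRingCat.of k)))).left) := IsIso.id _
      exact IsPullback.of_horiz_isIso ⟨by simp⟩
    · have h1 : (lift (toUnit Z ≫ σ) (𝟙 Z)).left ≫ pullback.fst Z.hom Z.hom =
          (toUnit Z ≫ σ).left := by
        have := congrArg (fun t => t.left) (lift_fst (toUnit Z ≫ σ) (𝟙 Z))
        exact this
      rw [h1]
      rfl
  obtain ⟨c, hc, -⟩ := Groth.Agent.Lib.Helper14.UOA.exists_preimage_of_isPullback hsq w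
    (IsLocalRing.closedPoint k) hw
  exact ⟨c, hc⟩

theorem main_15608 (G : Over (Spec (CommRingCat.of k))) [GrpObj G] [LocallyOfFiniteType G.hom]
    (S : Subgroup (𝟙_ (Over (Spec (CommRingCat.of k))) ⟶ G)) :
    ∃ (H : Over (Spec (CommRingCat.of k))) (_ : GrpObj H) (i : H ⟶ G), IsMonHom i ∧
      IsClosedImmersion i.left ∧ Smooth H.hom ∧
      Set.range i.left.base =
        closure ((fun s : (𝟙_ (Over (Spec (CommRingCat.of k))) ⟶ G) =>
          s.left.base (IsLocalRing.closedPoint k)) '' (S : Set _)) := by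
  haveI : Subsingleton ↥(Spec (CommRingCat.of k)) :=
    inferInstanceAs (Subsingleton (PrimeSpectrum k))
  haveI : Subsingleton ↥(𝟙_ (Over (Spec (CommRingCat.of k)))).left :=
    inferInstanceAs (Subsingleton (PrimeSpectrum k))
  set D : Set G.left := (fun s : (𝟙_ (Over (Spec (CommRingCat.of k))) ⟶ G) =>
          s.left.base (IsLocalRing.closedPoint k)) '' (S : Set _) with hD
  have hC : IsClosed (closure D) := isClosed_closure
  let I := Scheme.IdealSheafData.vanishingIdeal (X := G.left) ⟨closure D, hC⟩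
  let Z : Over (Spec (CommRingCat.of k)) := Over.mk (I.subschemeι ≫ G.hom)
  let z : Z ⟶ G := Over.homMk I.subschemeι rfl
  haveI hi : IsClosedImmersion z.left := inferInstanceAs (IsClosedImmersion I.subschemeι)
  have hrange : Set.range z.left = closure D := by
    change Set.range I.subschemeι = _
    rw [Scheme.IdealSheafData.range_subschemeι]
    simp [I]
  haveI : IsReduced Z.left :=
    Groth.Agent.Lib.Helper16.isReduced_subscheme_vanishingIdeal (X := G.left) ⟨closure D, hC⟩
  haveI : Mono z := by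
    haveI : Mono z.left := inferInstanceAs (Mono I.subschemeι)
    exact (Over.forget _).mono_of_mono_map ‹_›
  haveI : LocallyOfFiniteType Z.hom := by
    change LocallyOfFiniteType (I.subschemeι ≫ G.hom); infer_instance
  haveI : IsReduced (𝟙_ (Over (Spec (CommRingCat.of k)))).left := by
    change IsReduced (Spec (CommRingCat.of k))
    infer_instance
  -- lifting the sections
  have hlift : ∀ s ∈ S, ∃ s' : 𝟙_ (Over (Spec (CommRingCat.of k))) ⟶ Z, s' ≫ z = s := by
    intro s hs
    refine Groth.Agent.Lib.Helper10.RigidAA.exists_factor_of_reduced z s ?_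
    intro c
    rw [hrange]
    apply subset_closure
    refine ⟨s, hs, ?_⟩
    have : c = IsLocalRing.closedPoint k := Subsingleton.elim _ _
    rw [this]
  -- density of the lifted points
  have hdense0 : Dense (z.left ⁻¹' D) := by
    rw [z.left.isEmbedding.isInducing.dense_iff]
    intro c
    have h1 : z.left '' (z.left ⁻¹' D) = D := by
      rw [Set.image_preimage_eq_inter_range, hrange]
      exact Set.inter_eq_left.mpr subset_closure
    rw [h1, ← hrange]
    exact ⟨c, rfl⟩
  have hpt : ∀ c ∈ z.left ⁻¹' D, ∃ s ∈ S, ∃ s' : 𝟙_ (Over (Spec (CommRingCat.of k))) ⟶ Z,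
      s' ≫ z = s ∧ s'.left (IsLocalRing.closedPoint k) = c := by
    rintro c ⟨s, hs, hsc⟩
    obtain ⟨s', hs'⟩ := hlift s hs
    refine ⟨s, hs, s', hs', z.left.isEmbedding.injective ?_⟩
    rw [← hsc, ← hs']
    rfl
  -- a closed condition that holds on the lifted points holds everywhere
  have hall : ∀ v : Z ⟶ G, (∀ s' : 𝟙_ (Over (Spec (CommRingCat.of k))) ⟶ Z, s' ≫ z ∈ S →
      s' ≫ v ∈ S) → ∀ c : Z.left, v.left c ∈ Set.range z.left := by
    intro v hv c
    have hcl : IsClosed (v.left ⁻¹' closure D) := hC.preimage v.left.continuous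
    have hsub : z.left ⁻¹' D ⊆ v.left ⁻¹' closure D := by
      intro y hy
      obtain ⟨s, hs, s', hs', rfl⟩ := hpt y hy
      apply subset_closure
      exact ⟨s' ≫ v, hv s' (hs' ▸ hs), rfl⟩
    have := hcl.closure_subset_iff.mpr hsub
    rw [hdense0.closure_eq] at this
    rw [hrange]
    exact this (Set.mem_univ c)
  -- geometric reducedness
  haveI hZ : GeometricallyReduced Z.hom := by
    refine geometricallyReduced_of_dense_points Z.hom
      {t | t ≫ Z.hom = 𝟙 _ ∧ ∃ s' : 𝟙_ (Over (Spec (CommRingCat.of k))) ⟶ Z, s'.left = t ∧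
        s' ≫ z ∈ S} (fun t ht => ht.1) ?_
    refine hdense0.mono ?_
    intro y hy
    obtain ⟨s, hs, s', hs', rfl⟩ := hpt y hy
    exact ⟨s'.left, ⟨Over.w s', s', rfl, hs' ▸ hs⟩, rfl⟩
  haveI : GeometricallyReduced (Z ⊗ Z).hom := by
    rw [Over.tensorObj_hom]
    exact Groth.Agent.Lib.Helper26.SepGrp.geometricallyReduced_comp _ _
  haveI : IsReduced (Z ⊗ Z).left :=
    Groth.Agent.Lib.Helper26.SepGrp.isReduced_of_geometricallyReduced (Z ⊗ Z).hom
  -- inverse
  obtain ⟨vM, hvM⟩ := Groth.Agent.Lib.Helper10.RigidAA.exists_factor_of_reduced z (z ≫ ι[G])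
    (hall _ (by
      intro s' hs'
      rw [← Category.assoc, ← Hom.inv_def]
      exact S.inv_mem hs'))
  -- left translations
  have htrans : ∀ σ ∈ S, ∀ c : Z.left, ((toUnit Z ≫ σ) * z).left c ∈ Set.range z.left := by
    intro σ hσ
    refine hall _ ?_
    intro s' hs'
    rw [MonObj.comp_mul, ← Category.assoc]
    have : s' ≫ toUnit Z = 𝟙 _ := toUnit_unique _ _
    rw [this, Category.id_comp]
    exact S.mul_mem hσ hs'
  -- multiplication
  obtain ⟨mm, hmm⟩ := Groth.Agent.Lib.Helper10.RigidAA.exists_factor_of_reduced z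
      ((fst Z Z ≫ z) * (snd Z Z ≫ z)) (by
    set m : Z ⊗ Z ⟶ G := (fst Z Z ≫ z) * (snd Z Z ≫ z) with hm
    have hcl : IsClosed (m.left ⁻¹' closure D) := hC.preimage m.left.continuous
    by_contra hcon
    push_neg at hcon
    obtain ⟨w0, hw0⟩ := hcon
    rw [hrange] at hw0
    have hopen : IsOpen ((fst Z Z).left '' (m.left ⁻¹' closure D)ᶜ) := by
      haveI : UniversallyOpen Z.hom := inferInstance
      have : IsOpenMap (pullback.fst Z.hom Z.hom) := (pullback.fst Z.hom Z.hom).isOpenMap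
      exact this _ hcl.isOpen_compl
    obtain ⟨y, ⟨w, hw, rfl⟩, hy⟩ := hdense0.inter_open_nonempty _ hopen ⟨_, w0, hw0, rfl⟩
    obtain ⟨σ, hσ, σ', hσ', hσw⟩ := hpt _ hy
    obtain ⟨c, rfl⟩ := exists_slice Z σ' w hσw.symm
    apply hw
    have h1 : lift (toUnit Z ≫ σ') (𝟙 Z) ≫ m = (toUnit Z ≫ σ) * z := by
      rw [hm, MonObj.comp_mul, ← Category.assoc, ← Category.assoc, lift_fst, lift_snd,
        Category.assoc, hσ', Category.id_comp]
    have h2 : m.left ((lift (toUnit Z ≫ σ') (𝟙 Z)).left c) = ((toUnit Z ≫ σ) * z).left c := by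
      have := congrArg (fun t => t.left c) h1
      simpa only [Over.comp_left, Scheme.Hom.comp_apply] using this
    change m.left _ ∈ closure D
    rw [h2, ← hrange]
    exact htrans σ hσ c)
  -- unit
  obtain ⟨e, he⟩ := hlift (1 : 𝟙_ (Over (Spec (CommRingCat.of k))) ⟶ G) S.one_mem
  have he' : e ≫ z = η[G] := by
    rw [he, Hom.one_def]
    have : toUnit (𝟙_ (Over (Spec (CommRingCat.of k)))) = 𝟙 _ := toUnit_unique _ _
    rw [this, Category.id_comp]
  letI inst := Groth.Agent.Lib.Helper10.IdComp.grpObjOfMono z mm hmm e he' vM hvM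
  refine ⟨Z, inst, z, Groth.Agent.Lib.Helper10.IdComp.isMonHom_ofMono z mm hmm e he' vM hvM, hi,
    ?_, hrange⟩
  haveI : GrpObj (Over.mk Z.hom) := inst
  exact smooth_of_grpObj Z.hom

end Main

end Groth.Agent.Lib.Helper26.ClsGrp
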