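import Mathlib
import Groth.Prelude.Def_Cyc
set_option autoImplicit false
set_option linter.style.haveILetI false
universe u
open AlgebraicGeometry CategoryTheory

namespace Groth.Agent.Lib.Helper26.CodimOne

/-- For a local domain, dimension one means: the maximal ideal is nonzero and every prime
is zero or maximal. -/
theorem ringKrullDim_eq_one_iff {R : Type*} [CommRing R] [IsDomain R] [IsLocalRing R] :
    ringKrullDim R = 1 ↔ IsLocalRing.maximalIdeal R ≠ ⊥ ∧
      ∀ p : Ideal R, p.IsPrime → p = ⊥ ∨ p = IsLocalRing.maximalIdeal R := by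
  rw [← IsLocalRing.maximalIdeal_height_eq_ringKrullDim]
  have hcast : ((IsLocalRing.maximalIdeal R).height : WithBot ℕ∞) = 1 ↔
      (IsLocalRing.maximalIdeal R).height = 1 := by
    exact_mod_cast Iff.rfl
  rw [hcast]
  constructor
  · intro h
    refine ⟨fun hbot => ?_, fun p hp => ?_⟩
    · rw [hbot] at h
      have : (⊥ : Ideal R).height = 0 := Ideal.height_bot
      rw [this] at h
      exact zero_ne_one h
    · by_cases hpm : p = IsLocalRing.maximalIdeal R
      · exact Or.inr hpm
      · left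
        have hlt : p < IsLocalRing.maximalIdeal R :=
          lt_of_le_of_ne (IsLocalRing.le_maximalIdeal hp.ne_top) hpm
        haveI : (IsLocalRing.maximalIdeal R).FiniteHeight :=
          (Ideal.finiteHeight_iff _).mpr (Or.inr (by rw [h]; exact ENat.one_ne_top))
        have h2 : p.height < (IsLocalRing.maximalIdeal R).height :=
          Ideal.height_strict_mono_of_isPrime_of_isPrime hlt
        rw [h] at h2
        have h3 : p.height = 0 := Order.lt_one_iff.mp h2
        exact Ideal.height_eq_zero_iff_eq_bot.mp h3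
  · rintro ⟨hne, hall⟩
    apply le_antisymm
    · rw [← Nat.cast_one, Ideal.height_le_iff]
      intro q hq hlt
      rcases hall q hq with h | h
      · rw [h, Ideal.height_bot, Nat.cast_one]; exact zero_lt_one
      · exact absurd h hlt.ne
    · rw [Order.one_le_iff_pos, pos_iff_ne_zero]
      intro h0
      exact hne (Ideal.height_eq_zero_iff_eq_bot.mp h0)

variable {X : Scheme.{u}} [IsIntegral X]

/-- the zero ideal of the stalk maps to the generic point -/
theorem fromSpecStalk_bot (ξ : X) :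
    (X.fromSpecStalk ξ) (⟨⊥, Ideal.isPrime_bot⟩ : PrimeSpectrum (X.presheaf.stalk ξ)) =
      genericPoint X := by
  have hη : genericPoint X ∈ Set.range (X.fromSpecStalk ξ) := by
    rw [Scheme.range_fromSpecStalk]
    exact genericPoint_specializes ξ
  obtain ⟨p₀, hp₀⟩ := hη
  have h1 : (⟨⊥, Ideal.isPrime_bot⟩ : PrimeSpectrum (X.presheaf.stalk ξ)) ⤳
      (p₀ : PrimeSpectrum (X.presheaf.stalk ξ)) :=
    (PrimeSpectrum.le_iff_specializes _ _).mp (bot_le (a := p₀.asIdeal))
  have h2 := h1.map (X.fromSpecStalk ξ).continuous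
  rw [hp₀] at h2
  exact (h2.antisymm (genericPoint_specializes _)).eq

/-- The stalk at `ξ` has dimension one iff `ξ` is not the generic point and has no intermediate
generizations. -/
theorem ringKrullDim_stalk_eq_one_iff (ξ : X) :
    ringKrullDim (X.presheaf.stalk ξ) = 1 ↔ (ξ ≠ genericPoint X ∧
      ∀ z : X, genericPoint X ⤳ z → z ⤳ ξ → z = genericPoint X ∨ z = ξ) := by
  rw [ringKrullDim_eq_one_iff]
  have hinj : Function.Injective (X.fromSpecStalk ξ) := (X.fromSpecStalk ξ).isEmbedding.injective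
  have hcl : (X.fromSpecStalk ξ) (IsLocalRing.closedPoint (X.presheaf.stalk ξ)) = ξ :=
    Scheme.fromSpecStalk_closedPoint
  have hbot := fromSpecStalk_bot ξ
  constructor
  · rintro ⟨hne, hall⟩
    refine ⟨fun h => hne ?_, fun z _ hzξ => ?_⟩
    · have : IsLocalRing.closedPoint (X.presheaf.stalk ξ) =
          (⟨⊥, Ideal.isPrime_bot⟩ : PrimeSpectrum (X.presheaf.stalk ξ)) := by
        apply hinj
        rw [hcl, hbot, h]
      exact congrArg PrimeSpectrum.asIdeal this
    · have hz : z ∈ Set.range (X.fromSpecStalk ξ) := by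
        rw [Scheme.range_fromSpecStalk]; exact hzξ
      obtain ⟨p, rfl⟩ := hz
      rcases hall (p : PrimeSpectrum (X.presheaf.stalk ξ)).asIdeal
        (p : PrimeSpectrum (X.presheaf.stalk ξ)).2 with h | h
      · left
        exact (congrArg (X.fromSpecStalk ξ) (PrimeSpectrum.ext h)).trans hbot
      · right
        exact (congrArg (X.fromSpecStalk ξ) (PrimeSpectrum.ext h)).trans hcl
  · rintro ⟨hne, hall⟩
    refine ⟨fun h => hne ?_, fun p hp => ?_⟩
    · exact hcl.symm.trans ((congrArg (X.fromSpecStalk ξ) (PrimeSpectrum.ext h)).trans hbot)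
    · have hz : (X.fromSpecStalk ξ) (⟨p, hp⟩ : PrimeSpectrum (X.presheaf.stalk ξ)) ∈
          Set.range (X.fromSpecStalk ξ) := ⟨_, rfl⟩
      rw [Scheme.range_fromSpecStalk] at hz
      rcases hall _ (genericPoint_specializes _) hz with h | h
      · left
        exact congrArg PrimeSpectrum.asIdeal (hinj (h.trans hbot.symm))
      · right
        exact congrArg PrimeSpectrum.asIdeal (hinj (h.trans hcl.symm))

theorem main6459 (X : Scheme.{u}) [IsIntegral X] (δ : X → ℤ) (hX : Cyc.IsSetup X δ) (ξ : X) :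
    ringKrullDim ↑(X.presheaf.stalk ξ) = 1 ↔ δ ξ = δ (genericPoint X) - 1 := by
  rw [ringKrullDim_stalk_eq_one_iff]
  have hdim := hX.2.2
  constructor
  · rintro ⟨hne, hall⟩
    have := (hdim (genericPoint X) ξ (genericPoint_specializes ξ) (Ne.symm hne)).2
      (fun z hz1 hz2 => hall z hz1 hz2)
    omega
  · intro h
    have hne : ξ ≠ genericPoint X := by
      intro h'
      rw [h'] at h
      omega
    refine ⟨hne, fun z hz1 hz2 => ?_⟩
    by_contra hcon
    push Not at hcon
    have h1 := (hdim (genericPoint X) z hz1 (Ne.symm hcon.1)).1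
    have h2 := (hdim z ξ hz2 hcon.2).1
    omega

theorem main6458 (X : Scheme.{u}) [IsIntegral X] (δ : X → ℤ) (hX : Cyc.IsSetup X δ) (ξ : X)
    (g : ↑(X.presheaf.stalk ξ)) (hg0 : g ≠ 0)
    (hgm : g ∈ IsLocalRing.maximalIdeal (X.presheaf.stalk ξ))
    (hdim : ringKrullDim (↑(X.presheaf.stalk ξ) ⧸ Ideal.span {g}) = 0) :
    δ ξ = δ (genericPoint X) - 1 := by
  rw [← main6459 X δ hX ξ]
  haveI := hX.1
  have hK0 : Ring.KrullDimLE 0 ((X.presheaf.stalk ξ) ⧸ Ideal.span {g}) := Ring.krullDimLE_iff.mpr (by rw [hdim]; rfl)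
  have hle : Ideal.span {g} ≤ IsLocalRing.maximalIdeal (X.presheaf.stalk ξ) :=
    (Ideal.span_singleton_le_iff_mem _).mpr hgm
  obtain ⟨J, hJ, hJm⟩ := Ideal.exists_minimalPrimes_le hle
  have hJmax : J.IsMaximal :=
    Ideal.krullDimLE_zero_quotient_iff_forall_minimalPrimes_isMaximal.mp hK0 J hJ
  have hJeq : J = IsLocalRing.maximalIdeal (X.presheaf.stalk ξ) := IsLocalRing.eq_maximalIdeal hJmax
  rw [hJeq] at hJ
  have h1 : (IsLocalRing.maximalIdeal (X.presheaf.stalk ξ)).height ≤ 1 :=
    Ideal.height_le_one_of_isPrincipal_of_mem_minimalPrimes _ _ hJ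
  have h2 : (IsLocalRing.maximalIdeal (X.presheaf.stalk ξ)).height ≠ 0 := by
    intro h0
    have := Ideal.height_eq_zero_iff_eq_bot.mp h0
    rw [this] at hgm
    exact hg0 hgm
  rw [← IsLocalRing.maximalIdeal_height_eq_ringKrullDim]
  have h3 : (IsLocalRing.maximalIdeal (X.presheaf.stalk ξ)).height = 1 :=
    le_antisymm h1 (Order.one_le_iff_pos.mpr (pos_iff_ne_zero.mpr h2))
  rw [h3]
  rfl

end Groth.Agent.Lib.Helper26.CodimOne
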