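import Mathlib
import Groth.Prelude.Def_AlgGrp
import Groth.Agent.Lib.Helper10.IdComp8
import Groth.Agent.Lib.Helper26.TrivAct

set_option autoImplicit false
set_option backward.isDefEq.respectTransparency.types false
set_option maxHeartbeats 1000000
set_option synthInstance.maxHeartbeats 200000

universe u

open CategoryTheory CategoryTheory.Limits MonoidalCategory CartesianMonoidalCategory MonObj GrpObj
  AlgebraicGeometry
open Groth.Agent.Lib.Helper10.IdComp

namespace Groth.Agent.Lib.Helper26.CommSub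

variable (k : Type u) [Field k]

/-- a morphism `A × B → H` which is trivial on `1 × B`, with `A` connected, lands in the identity
component of `H`. -/
theorem range_subset_Z0 (A B H : Over (Spec (CommRingCat.of k))) [GrpObj A] [GrpObj H]
    [ConnectedSpace A.left]
    (c : A ⊗ B ⟶ H) (hc : lift (toUnit B ≫ η[A]) (𝟙 B) ≫ c = 1)
    (pt : ↥(𝟙_ (Over (Spec (CommRingCat.of k)))).left) :
    Set.range c.left ⊆ Z0 k H pt := by
  rw [← connectedComponent_unit_eq_Z0 k H pt]
  haveI : GeometricallyConnected A.hom :=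
    Groth.Agent.Lib.Helper26.TrivAct.geometricallyConnected_of_section A.hom η[A].left (Over.w η[A])
  haveI : GeometricallyConnected (snd A B).left := by
    change GeometricallyConnected (pullback.snd A.hom B.hom)
    infer_instance
  rintro _ ⟨w, rfl⟩
  set s : B ⟶ A ⊗ B := lift (toUnit B ≫ η[A]) (𝟙 B) with hs
  set y : ↥B.left := (snd A B).left w with hy
  have hconn : _root_.IsConnected ((snd A B).left ⁻¹' {y}) :=
    Scheme.Hom.isConnected_preimage_singleton (snd A B).left y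
  have hsy : s.left y ∈ (snd A B).left ⁻¹' {y} := by
    change (snd A B).left (s.left y) = y
    rw [← Scheme.Hom.comp_apply, ← Over.comp_left, hs, lift_snd]
    rfl
  have hw : w ∈ (snd A B).left ⁻¹' {y} := rfl
  have himg : _root_.IsPreconnected (c.left '' ((snd A B).left ⁻¹' {y})) :=
    hconn.isPreconnected.image _ c.left.continuous.continuousOn
  have hunit : c.left (s.left y) = η[H].left pt := by
    rw [← Scheme.Hom.comp_apply, ← Over.comp_left, hc]
    exact one_left k H pt y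
  have := himg.subset_connectedComponent (x := c.left (s.left y)) ⟨_, hsy, rfl⟩
  rw [hunit] at this
  exact this ⟨w, hw, rfl⟩

section General

variable {C : Type*} [Category C] [CartesianMonoidalCategory C] {G A B : C} [GrpObj G] [GrpObj A]

theorem unit_section_comm (a : A ⟶ G) [IsMonHom a] (b : B ⟶ G) :
    lift (toUnit B ≫ η[A]) (𝟙 B) ≫ (((fst A B) ≫ a) * ((snd A B) ≫ b) * ((fst A B) ≫ a)⁻¹ *
      ((snd A B) ≫ b)⁻¹) = 1 := by
  rw [MonObj.comp_mul, MonObj.comp_mul, MonObj.comp_mul, GrpObj.comp_inv, GrpObj.comp_inv,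
    ← Category.assoc, ← Category.assoc, lift_fst, lift_snd, Category.assoc, IsMonHom.one_hom,
    ← Hom.one_def]
  simp

end General

theorem comm_factor_of_normal {G A B : Over (Spec (CommRingCat.of k))} [GrpObj G] [GrpObj A]
    (a : A ⟶ G) [IsMonHom a] (b : B ⟶ G) (ha : AlgGrp.IsNormalHom a) :
    ∃ f'' : A ⊗ B ⟶ A, f'' ≫ a = (((fst A B) ≫ a) * ((snd A B) ≫ b) * ((fst A B) ≫ a)⁻¹ *
      ((snd A B) ≫ b)⁻¹) := by
  obtain ⟨n', hn'⟩ := ha (A ⊗ B) (snd A B ≫ b) ((fst A B)⁻¹)
  refine ⟨fst A B * n', ?_⟩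
  rw [MonObj.mul_comp, ← hn', GrpObj.inv_comp]
  simp only [_root_.mul_assoc]

theorem main (G A B : Over (Spec (CommRingCat.of k))) [GrpObj G] [GrpObj A] [GrpObj B]
    (a : A ⟶ G) [IsMonHom a] [IsClosedImmersion a.left] (b : B ⟶ G) [IsMonHom b]
    (hcase : (AlgGrp.IsNormalHom a ∧ AlgGrp.IsNormalHom b ∧ QuasiCompact A.hom) ∨
      ConnectedSpace A.left)
    (Γ : Over (Spec (CommRingCat.of k))) [GrpObj Γ] (i : Γ ⟶ G) [IsMonHom i]
    [IsClosedImmersion i.left]
    (hf : ∃ f' : A ⊗ B ⟶ Γ, f' ≫ i = (((fst A B) ≫ a) * ((snd A B) ≫ b) * ((fst A B) ≫ a)⁻¹ *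
      ((snd A B) ≫ b)⁻¹))
    (hmin : ∀ (Γ' : Over (Spec (CommRingCat.of k))) (_ : GrpObj Γ') (i' : Γ' ⟶ G), IsMonHom i' →
        IsClosedImmersion i'.left →
        (∃ f'' : A ⊗ B ⟶ Γ', f'' ≫ i' = (((fst A B) ≫ a) * ((snd A B) ≫ b) * ((fst A B) ≫ a)⁻¹ *
          ((snd A B) ≫ b)⁻¹)) → ∃ j : Γ ⟶ Γ', j ≫ i' = i) :
    QuasiCompact Γ.hom ∧ (ConnectedSpace A.left → ConnectedSpace Γ.left) := by
  let pt : ↥(𝟙_ (Over (Spec (CommRingCat.of k)))).left :=
    (IsLocalRing.closedPoint k : ↥(Spec (CommRingCat.of k)))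
  haveI hmono_i : Mono i := by
    haveI : Mono i.left := inferInstance
    exact (Over.forget _).mono_of_mono_map ‹_›
  have key : ∀ (Γ' : Over (Spec (CommRingCat.of k))) (_ : GrpObj Γ') (i' : Γ' ⟶ G), IsMonHom i' →
      IsClosedImmersion i'.left →
      (∃ f'' : A ⊗ B ⟶ Γ', f'' ≫ i' = (((fst A B) ≫ a) * ((snd A B) ≫ b) * ((fst A B) ≫ a)⁻¹ *
          ((snd A B) ≫ b)⁻¹)) → QuasiCompact Γ'.hom → QuasiCompact Γ.hom := by
    intro Γ' _ i' h1 h2 h3 h4
    obtain ⟨j, hj⟩ := hmin Γ' _ i' h1 h2 h3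
    haveI : IsClosedImmersion j.left := by
      have : j.left ≫ i'.left = i.left := by rw [← Over.comp_left, hj]
      haveI : IsClosedImmersion (j.left ≫ i'.left) := by rw [this]; infer_instance
      exact IsClosedImmersion.of_comp j.left i'.left
    have : Γ.hom = j.left ≫ Γ'.hom := (Over.w j).symm
    rw [this]; infer_instance
  refine ⟨?_, ?_⟩
  · rcases hcase with ⟨ha, hb, hqc⟩ | hconn
    · obtain ⟨f'', hf''⟩ := comm_factor_of_normal k a b ha
      exact key A _ a inferInstance inferInstance ⟨f'', hf''⟩ hqc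
    · obtain ⟨hgrp, hmon⟩ := exists_grpObj_idObj k G pt
      have hrange := range_subset_Z0 k A B G _ (unit_section_comm a b) pt
      obtain ⟨f'', hf''⟩ := exists_lift_idIncl k G pt _ hrange
      refine key (idObj k G pt) hgrp (idIncl k G pt) hmon inferInstance ⟨f'', hf''⟩ ?_
      haveI := compactSpace_idObj k G pt
      exact (HasAffineProperty.iff_of_isAffine (P := @QuasiCompact)).mpr (compactSpace_idObj k G pt)
  · intro hconn
    obtain ⟨f', hf'⟩ := hf
    have h1 : lift (toUnit B ≫ η[A]) (𝟙 B) ≫ f' = 1 := by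
      rw [← cancel_mono i, Category.assoc, hf', unit_section_comm, MonObj.one_comp]
    have hrange := range_subset_Z0 k A B Γ f' h1 pt
    obtain ⟨f'', hf''⟩ := exists_lift_idIncl k Γ pt f' hrange
    obtain ⟨hgrp, hmon⟩ := exists_grpObj_idObj k Γ pt
    letI := hgrp
    haveI := hmon
    obtain ⟨j, hj⟩ := hmin (idObj k Γ pt) hgrp (idIncl k Γ pt ≫ i) inferInstance
      (by rw [Over.comp_left]; infer_instance) ⟨f'', by rw [← Category.assoc, hf'', hf']⟩
    have hj' : j ≫ idIncl k Γ pt = 𝟙 Γ := by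
      rw [← cancel_mono i, Category.assoc, hj, Category.id_comp]
    have hsurj : Set.univ ⊆ Z0 k Γ pt := by
      intro x _
      rw [← range_idIncl k Γ pt]
      refine ⟨j.left x, ?_⟩
      rw [← Scheme.Hom.comp_apply, ← Over.comp_left, hj']
      rfl
    rw [← connectedComponent_unit_eq_Z0] at hsurj
    exact connectedSpace_iff_connectedComponent.mpr ⟨_, Set.eq_univ_of_univ_subset hsurj⟩

end Groth.Agent.Lib.Helper26.CommSub
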