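import Groth.Statements.S16206
set_option autoImplicit false
open RatCurv W4c3cyccovratcurv SimpleGraph

namespace Groth.Agent.Lib.Helper26.CT

variable {n k : ℕ}

/-- slide graph: delete edge w–x and add edge u–x. -/
def slide (G : SimpleGraph (Fin n)) (u w x : Fin n) : SimpleGraph (Fin n) :=
  G.deleteEdges {s(w, x)} ⊔ edge u x

theorem slide_adj (G : SimpleGraph (Fin n)) (u w x a b : Fin n) :
    (slide G u w x).Adj a b ↔ (G.Adj a b ∧ s(a, b) ≠ s(w, x)) ∨
      ((a = u ∧ b = x ∨ a = x ∧ b = u) ∧ a ≠ b) := by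
  simp only [slide, sup_adj, deleteEdges_adj, edge_adj, Set.mem_singleton_iff, ne_eq]

theorem slide_isTree (G : SimpleGraph (Fin n)) (hG : G.IsTree) (u w x : Fin n)
    (huw : G.Adj u w) (hwx : G.Adj w x) (hxu : x ≠ u) : (slide G u w x).IsTree := by
  have hbr : G.IsBridge s(w, x) := (isAcyclic_iff_forall_adj_isBridge.1 hG.isAcyclic) hwx
  rw [isBridge_iff] at hbr
  have hwu' : (G.deleteEdges {s(w, x)}).Adj w u := by
    rw [deleteEdges_adj]
    refine ⟨huw.symm, ?_⟩
    simp only [Set.mem_singleton_iff, Sym2.eq_iff, not_or, not_and]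
    exact ⟨fun _ => Ne.symm hxu, fun _ => huw.ne⟩
  refine ⟨?_, ?_⟩
  · -- connected
    have : Nonempty (Fin n) := hG.connected.nonempty
    refine ⟨fun a b => ?_⟩
    obtain ⟨p⟩ := hG.connected.preconnected a b
    induction p with
    | nil => exact Reachable.refl _
    | cons h p ih =>
      rename_i a' b' c'
      refine Reachable.trans ?_ ih
      by_cases he : s(a', b') = s(w, x)
      · have hwu : (slide G u w x).Adj w u := by
          rw [slide_adj]; left
          have := hwu'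
          rw [deleteEdges_adj] at this
          exact ⟨this.1, by simpa using this.2⟩
        have hux : (slide G u w x).Adj u x := by
          rw [slide_adj]; right
          exact ⟨Or.inl ⟨rfl, rfl⟩, Ne.symm hxu⟩
        have hwx' : (slide G u w x).Reachable w x := hwu.reachable.trans hux.reachable
        rw [Sym2.eq_iff] at he
        rcases he with ⟨rfl, rfl⟩ | ⟨rfl, rfl⟩
        · exact hwx'
        · exact hwx'.symm
      · exact Adj.reachable ((slide_adj _ _ _ _ _ _).2 (Or.inl ⟨h, he⟩))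
  · -- acyclic
    refine IsAcyclic.sup_edge_of_not_reachable ?_ (hG.isAcyclic.anti (deleteEdges_le _))
    intro hr
    exact hbr (hwu'.reachable.trans hr)


theorem contract_adj (G : SimpleGraph (Fin n)) (u w : Fin n) (a b : {v : Fin n // v ≠ w}) :
    (contract G u w).Adj a b ↔ a ≠ b ∧ ((G.Adj a.1 b.1 ∨ (a.1 = u ∧ G.Adj w b.1)) ∨
      (G.Adj b.1 a.1 ∨ (b.1 = u ∧ G.Adj w a.1))) := by
  simp only [contract, fromRel_adj]

theorem conicAdj_symm (T₁ T₂ : MarkedTree k) : ConicAdj T₁ T₂ → ConicAdj T₂ T₁ := by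
  rintro ⟨u₁, w₁, u₂, w₂, h₁, h₂, φ, hφ, hm⟩
  refine ⟨u₂, w₂, u₁, w₁, h₂, h₁, φ.symm, ?_, fun i => ?_⟩
  · rw [← hφ]; exact φ.symm_apply_apply _
  · rw [← hm i]; exact φ.symm_apply_apply _

theorem conicAdj_slide (G : SimpleGraph (Fin n)) (hG : G.IsTree) (m : Fin k → Fin n)
    (u w x : Fin n) (huw : G.Adj u w) (hwx : G.Adj w x) (hxu : x ≠ u) :
    ConicAdj ⟨n, G, hG, m⟩ ⟨n, slide G u w x, slide_isTree G hG u w x huw hwx hxu, m⟩ := by
  have huw' : (slide G u w x).Adj u w := by
    rw [slide_adj]; left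
    refine ⟨huw, ?_⟩
    simp only [ne_eq, Sym2.eq_iff, not_or, not_and]
    exact ⟨fun h => absurd h huw.ne, fun h _ => hxu h.symm⟩
  have key : ∀ a b : {v : Fin n // v ≠ w},
      (contract G u w).Adj a b ↔ (contract (slide G u w x) u w).Adj a b := by
    intro a b
    rw [contract_adj, contract_adj]
    refine and_congr_right (fun hab => ?_)
    have hab' : a.1 ≠ b.1 := fun h => hab (Subtype.ext h)
    have ha := a.2
    have hb := b.2
    have e1 : (slide G u w x).Adj a.1 b.1 ↔ G.Adj a.1 b.1 ∨ (a.1 = u ∧ b.1 = x ∨ a.1 = x ∧ b.1 = u) := by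
      rw [slide_adj]
      simp only [ne_eq, Sym2.eq_iff, not_or, not_and]
      constructor
      · rintro (h | h)
        · exact Or.inl h.1
        · exact Or.inr h.1
      · rintro (h | h)
        · exact Or.inl ⟨h, fun h' => absurd h' ha, fun _ h' => absurd h' hb⟩
        · exact Or.inr ⟨h, hab'⟩
    have e2 : (slide G u w x).Adj b.1 a.1 ↔ G.Adj b.1 a.1 ∨ (b.1 = u ∧ a.1 = x ∨ b.1 = x ∧ a.1 = u) := by
      rw [slide_adj]
      simp only [ne_eq, Sym2.eq_iff, not_or, not_and]
      constructor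
      · rintro (h | h)
        · exact Or.inl h.1
        · exact Or.inr h.1
      · rintro (h | h)
        · exact Or.inl ⟨h, fun h' => absurd h' hb, fun _ h' => absurd h' ha⟩
        · exact Or.inr ⟨h, Ne.symm hab'⟩
    have e3 : ∀ c : Fin n, c ≠ w → ((slide G u w x).Adj w c ↔ G.Adj w c ∧ c ≠ x) := by
      intro c hc
      rw [slide_adj]
      simp only [ne_eq, Sym2.eq_iff, not_or, not_and]
      constructor
      · rintro (h | h)
        · exact ⟨h.1, h.2.1 trivial⟩
        · rcases h.1 with h | h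
          · exact absurd h.1 huw.ne.symm
          · exact absurd h.1 hwx.ne
      · rintro ⟨h1, h2⟩
        exact Or.inl ⟨h1, fun _ => h2, fun _ h' => absurd h' hc⟩
    rw [e1, e2, e3 _ ha, e3 _ hb]
    have hxw : G.Adj w x := hwx
    constructor
    · rintro ((h | ⟨h1, h2⟩) | (h | ⟨h1, h2⟩))
      · exact Or.inl (Or.inl (Or.inl h))
      · by_cases hbx : b.1 = x
        · exact Or.inl (Or.inl (Or.inr (Or.inl ⟨h1, hbx⟩)))
        · exact Or.inl (Or.inr ⟨h1, h2, hbx⟩)
      · exact Or.inr (Or.inl (Or.inl h))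
      · by_cases hax : a.1 = x
        · exact Or.inr (Or.inl (Or.inr (Or.inl ⟨h1, hax⟩)))
        · exact Or.inr (Or.inr ⟨h1, h2, hax⟩)
    · rintro (((h | h | h) | ⟨h1, h2, -⟩) | ((h | h | h) | ⟨h1, h2, -⟩))
      · exact Or.inl (Or.inl h)
      · exact Or.inl (Or.inr ⟨h.1, h.2 ▸ hwx⟩)
      · exact Or.inr (Or.inr ⟨h.2, h.1 ▸ hwx⟩)
      · exact Or.inl (Or.inr ⟨h1, h2⟩)
      · exact Or.inr (Or.inl h)
      · exact Or.inr (Or.inr ⟨h.1, h.2 ▸ hwx⟩)
      · exact Or.inl (Or.inr ⟨h.2, h.1 ▸ hwx⟩)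
      · exact Or.inr (Or.inr ⟨h1, h2⟩)
  refine ⟨u, w, u, w, huw, huw', ⟨Equiv.refl _, fun {a b} => (key a b).symm⟩, rfl, fun i => rfl⟩

theorem conicAdj_mark (G : SimpleGraph (Fin n)) (hG : G.IsTree) (m : Fin k → Fin n)
    (u : Fin n) (i : Fin k) (huw : G.Adj u (m i)) :
    ConicAdj ⟨n, G, hG, m⟩ ⟨n, G, hG, Function.update m i u⟩ := by
  refine ⟨u, m i, u, m i, huw, huw, Iso.refl, rfl, fun j => ?_⟩
  show contractMark m u (m i) huw.ne j = contractMark (Function.update m i u) u (m i) huw.ne j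
  unfold contractMark
  by_cases hj : j = i
  · subst hj
    simp [huw.ne]
  · rw [Function.update_of_ne hj]


open Classical in
/-- number of vertices other than `c` not adjacent to `c`. -/
noncomputable def measA (G : SimpleGraph (Fin n)) (c : Fin n) : ℕ :=
  (Finset.univ.filter (fun v => v ≠ c ∧ ¬G.Adj c v)).card

open Classical in
/-- number of marks not at `c`. -/
noncomputable def measB (m : Fin k → Fin n) (c : Fin n) : ℕ :=
  (Finset.univ.filter (fun i => m i ≠ c)).card

theorem exists_slide (G : SimpleGraph (Fin n)) (hG : G.IsTree) (c : Fin n) (h : 0 < measA G c) :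
    ∃ w x, G.Adj c w ∧ G.Adj w x ∧ x ≠ c ∧ ¬G.Adj c x := by
  classical
  unfold measA at h
  obtain ⟨v, hv⟩ := Finset.card_pos.1 h
  rw [Finset.mem_filter] at hv
  obtain ⟨p⟩ := hG.connected.preconnected c v
  obtain ⟨d, -, hd1, hd2⟩ := p.exists_boundary_dart {y | y = c ∨ G.Adj c y} (Or.inl rfl)
    (by simp only [Set.mem_ofPred_eq, not_or]; exact hv.2)
  simp only [Set.mem_ofPred_eq, not_or] at hd1 hd2
  rcases hd1 with hd1 | hd1
  · exact absurd (hd1 ▸ d.adj) hd2.2
  · exact ⟨d.fst, d.snd, hd1, d.adj, hd2.1, hd2.2⟩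

theorem measA_slide_lt (G : SimpleGraph (Fin n)) (c w x : Fin n) (hcw : G.Adj c w)
    (hwx : G.Adj w x) (hxc : x ≠ c) (hcx : ¬G.Adj c x) :
    measA (slide G c w x) c < measA G c := by
  classical
  unfold measA
  apply Finset.card_lt_card
  rw [Finset.ssubset_iff_of_subset]
  · refine ⟨x, ?_, ?_⟩
    · rw [Finset.mem_filter]; exact ⟨Finset.mem_univ _, hxc, hcx⟩
    · rw [Finset.mem_filter, slide_adj]
      intro h
      exact h.2.2 (Or.inr ⟨Or.inl ⟨rfl, rfl⟩, Ne.symm hxc⟩)
  · intro v hv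
    rw [Finset.mem_filter] at hv ⊢
    refine ⟨Finset.mem_univ _, hv.2.1, fun h => hv.2.2 ?_⟩
    rw [slide_adj]; left
    refine ⟨h, ?_⟩
    simp only [ne_eq, Sym2.eq_iff, not_or, not_and]
    exact ⟨fun h' => absurd h' hcw.ne, fun h' => absurd h'.symm hxc⟩

open Relation

theorem chainA (c : Fin n) : ∀ N, ∀ (G : SimpleGraph (Fin n)) (hG : G.IsTree) (m : Fin k → Fin n),
    measA G c = N → ∃ (G' : SimpleGraph (Fin n)) (hG' : G'.IsTree), measA G' c = 0 ∧
      ReflTransGen ConicAdj (⟨n, G, hG, m⟩ : MarkedTree k) ⟨n, G', hG', m⟩ := by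
  intro N
  induction N using Nat.strong_induction_on with
  | _ N ih =>
    intro G hG m hN
    rcases Nat.eq_zero_or_pos N with h0 | hpos
    · exact ⟨G, hG, hN.trans h0, ReflTransGen.refl⟩
    · obtain ⟨w, x, hcw, hwx, hxc, hcx⟩ := exists_slide G hG c (hN ▸ hpos)
      have hlt := measA_slide_lt G c w x hcw hwx hxc hcx
      obtain ⟨G', hG', h0, hch⟩ := ih _ (hN ▸ hlt) (slide G c w x)
        (slide_isTree G hG c w x hcw hwx hxc) m rfl
      exact ⟨G', hG', h0, ReflTransGen.head (conicAdj_slide G hG m c w x hcw hwx hxc) hch⟩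

theorem adj_of_measA_zero (G : SimpleGraph (Fin n)) (c : Fin n) (h : measA G c = 0)
    (v : Fin n) (hv : v ≠ c) : G.Adj c v := by
  classical
  unfold measA at h
  rw [Finset.card_eq_zero] at h
  by_contra hcv
  have : v ∈ Finset.univ.filter (fun v => v ≠ c ∧ ¬G.Adj c v) := by
    rw [Finset.mem_filter]; exact ⟨Finset.mem_univ _, hv, hcv⟩
  rw [h] at this
  exact absurd this (Finset.notMem_empty _)

theorem chainB (c : Fin n) (G : SimpleGraph (Fin n)) (hG : G.IsTree) (hA : measA G c = 0) :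
    ∀ N, ∀ (m : Fin k → Fin n), measB m c = N →
      ReflTransGen ConicAdj (⟨n, G, hG, m⟩ : MarkedTree k) ⟨n, G, hG, fun _ => c⟩ := by
  classical
  intro N
  induction N using Nat.strong_induction_on with
  | _ N ih =>
    intro m hN
    rcases Nat.eq_zero_or_pos N with h0 | hpos
    · have hm : m = fun _ => c := by
        funext i
        by_contra hi
        have hmem : i ∈ Finset.univ.filter (fun i => m i ≠ c) := by
          rw [Finset.mem_filter]; exact ⟨Finset.mem_univ _, hi⟩
        have : measB m c = 0 := hN.trans h0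
        unfold measB at this
        rw [Finset.card_eq_zero] at this
        rw [this] at hmem
        exact absurd hmem (Finset.notMem_empty _)
      subst hm
      exact ReflTransGen.refl
    · have hpos' : 0 < measB m c := hN ▸ hpos
      unfold measB at hpos'
      obtain ⟨i, hi⟩ := Finset.card_pos.1 hpos'
      rw [Finset.mem_filter] at hi
      have hadj := adj_of_measA_zero G c hA (m i) hi.2
      have hlt : measB (Function.update m i c) c < measB m c := by
        unfold measB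
        apply Finset.card_lt_card
        rw [Finset.ssubset_iff_of_subset]
        · refine ⟨i, ?_, ?_⟩
          · rw [Finset.mem_filter]; exact ⟨Finset.mem_univ _, hi.2⟩
          · rw [Finset.mem_filter]
            intro h
            exact h.2 (Function.update_self _ _ _)
        · intro j hj
          rw [Finset.mem_filter] at hj ⊢
          refine ⟨Finset.mem_univ _, ?_⟩
          by_cases hji : j = i
          · subst hji; exact hi.2
          · have := hj.2
            rwa [Function.update_of_ne hji] at this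
      exact ReflTransGen.head (conicAdj_mark G hG m c i hadj) (ih _ (hN ▸ hlt) _ rfl)

theorem star_adj (G : SimpleGraph (Fin n)) (hG : G.IsTree) (c : Fin n) (hA : measA G c = 0)
    (a b : Fin n) : G.Adj a b ↔ (a = c ∧ b ≠ c) ∨ (b = c ∧ a ≠ c) := by
  constructor
  · intro hab
    by_cases hac : a = c
    · exact Or.inl ⟨hac, fun hbc => hab.ne (hac.trans hbc.symm)⟩
    · by_cases hbc : b = c
      · exact Or.inr ⟨hbc, hac⟩
      · exfalso
        have hbr : G.IsBridge s(a, b) := (isAcyclic_iff_forall_adj_isBridge.1 hG.isAcyclic) hab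
        rw [isBridge_iff] at hbr
        apply hbr
        have h1 : (G.deleteEdges {s(a, b)}).Adj a c := by
          rw [deleteEdges_adj]
          refine ⟨(adj_of_measA_zero G c hA a hac).symm, ?_⟩
          simp only [Set.mem_singleton_iff, Sym2.eq_iff, not_or, not_and]
          exact ⟨fun _ h => hbc h.symm, fun _ h => hac h.symm⟩
        have h2 : (G.deleteEdges {s(a, b)}).Adj c b := by
          rw [deleteEdges_adj]
          refine ⟨adj_of_measA_zero G c hA b hbc, ?_⟩
          simp only [Set.mem_singleton_iff, Sym2.eq_iff, not_or, not_and]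
          exact ⟨fun h _ => hac h.symm, fun h _ => hbc h.symm⟩
        exact h1.reachable.trans h2.reachable
  · rintro (⟨rfl, h⟩ | ⟨rfl, h⟩)
    · exact adj_of_measA_zero G a hA b h
    · exact (adj_of_measA_zero G b hA a h).symm

theorem rtg_symm {T₁ T₂ : MarkedTree k} (h : ReflTransGen ConicAdj T₁ T₂) :
    ReflTransGen ConicAdj T₂ T₁ := by
  induction h with
  | refl => exact .refl
  | tail _ hbc ih => exact .head (conicAdj_symm _ _ hbc) ih

theorem main (c : Fin n) (G₁ : SimpleGraph (Fin n)) (hG₁ : G₁.IsTree) (m₁ : Fin k → Fin n)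
    (G₂ : SimpleGraph (Fin n)) (hG₂ : G₂.IsTree) (m₂ : Fin k → Fin n) :
    ReflTransGen ConicAdj (⟨n, G₁, hG₁, m₁⟩ : MarkedTree k) ⟨n, G₂, hG₂, m₂⟩ := by
  obtain ⟨G₁', hG₁', hA₁, ch₁⟩ := chainA (k := k) c _ G₁ hG₁ m₁ rfl
  obtain ⟨G₂', hG₂', hA₂, ch₂⟩ := chainA (k := k) c _ G₂ hG₂ m₂ rfl
  have ch₁' := chainB c G₁' hG₁' hA₁ _ m₁ rfl
  have ch₂' := chainB c G₂' hG₂' hA₂ _ m₂ rfl
  have hG : G₁' = G₂' := by
    ext a b
    rw [star_adj G₁' hG₁' c hA₁, star_adj G₂' hG₂' c hA₂]
  subst hG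
  exact (ch₁.trans ch₁').trans (rtg_symm (ch₂.trans ch₂'))

theorem final (T₁ T₂ : MarkedTree k) (h : T₁.n = T₂.n) :
    ReflTransGen ConicAdj T₁ T₂ := by
  obtain ⟨n₁, G₁, hG₁, m₁⟩ := T₁
  obtain ⟨n₂, G₂, hG₂, m₂⟩ := T₂
  simp only at h
  subst h
  obtain ⟨c⟩ := hG₁.connected.nonempty
  exact main c G₁ hG₁ m₁ G₂ hG₂ m₂

end Groth.Agent.Lib.Helper26.CT
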