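import Mathlib

set_option autoImplicit false
set_option linter.style.haveILetI false
universe u

namespace Groth.Agent.Lib.Helper26.CopA

open TensorProduct IsLocalRing

/-- over a local ring, if `M ⊗ N` is free and nonzero (with `M`, `N` finite) then `M` is free -/
theorem free_of_tensor_free {R M N : Type*} [CommRing R] [IsLocalRing R] [AddCommGroup M]
    [Module R M] [Module.Finite R M] [AddCommGroup N] [Module R N] [Module.Finite R N]
    [Module.Free R (M ⊗[R] N)] [Nontrivial (M ⊗[R] N)] : Module.Free R M := by
  classical
  let k := ResidueField R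
  let w := Module.Free.chooseBasis k (k ⊗[R] M)
  let w' := Module.Free.chooseBasis k (k ⊗[R] N)
  obtain ⟨v, hv⟩ := (TensorProduct.mk_surjective R M k Ideal.Quotient.mk_surjective).comp_left w
  obtain ⟨v', hv'⟩ := (TensorProduct.mk_surjective R N k Ideal.Quotient.mk_surjective).comp_left w'
  have hvi : ∀ i, (1 : k) ⊗ₜ[R] v i = w i := fun i => congrFun hv i
  have hvj : ∀ j, (1 : k) ⊗ₜ[R] v' j = w' j := fun j => congrFun hv' j
  -- the index set of N is nonempty
  have hJ : Nonempty (Module.Free.ChooseBasisIndex k (k ⊗[R] N)) := by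
    by_contra hempty
    rw [not_nonempty_iff] at hempty
    have h1 : Subsingleton (k ⊗[R] N) := (w'.repr.toEquiv.subsingleton_congr).mpr inferInstance
    have h2 : Subsingleton N := (IsLocalRing.subsingleton_tensorProduct (R := R)).mp h1
    have h3 : Subsingleton (M ⊗[R] N) := inferInstance
    exact not_subsingleton _ h3
  obtain ⟨j₀⟩ := hJ
  -- the product family
  let V : Module.Free.ChooseBasisIndex k (k ⊗[R] M) × Module.Free.ChooseBasisIndex k (k ⊗[R] N) →
      M ⊗[R] N := fun ij => v ij.1 ⊗ₜ[R] v' ij.2
  let e := TensorProduct.AlgebraTensorModule.distribBaseChange R k M N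
  have hV : LinearIndependent k (TensorProduct.mk R k (M ⊗[R] N) 1 ∘ V) := by
    have h1 : (e.toLinearMap ∘ (TensorProduct.mk R k (M ⊗[R] N) 1 ∘ V)) =
        (w.tensorProduct w') := by
      funext ij
      simp only [Function.comp_apply, V, TensorProduct.mk_apply, LinearEquiv.coe_coe, e,
        TensorProduct.AlgebraTensorModule.distribBaseChange_tmul, Module.Basis.tensorProduct_apply',
        hvi, hvj]
    apply LinearIndependent.of_comp e.toLinearMap
    rw [h1]
    exact (w.tensorProduct w').linearIndependent
  have hVR : LinearIndependent R V := Module.IsLocalRing.linearIndependent_of_flat V hV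
  have hvR : LinearIndependent R v := by
    have h1 : LinearIndependent R (V ∘ fun i => (i, j₀)) :=
      hVR.comp _ (fun i i' h => (Prod.mk.inj h).1)
    have h2 : (V ∘ fun i => (i, j₀)) = ((TensorProduct.mk R M N).flip (v' j₀)) ∘ v := by
      funext i
      rfl
    rw [h2] at h1
    exact LinearIndependent.of_comp _ h1
  have hspan : Submodule.span R (Set.range v) = ⊤ :=
    IsLocalRing.span_eq_top_of_tmul_eq_basis v w hvi
  exact Module.Free.of_basis (Module.Basis.mk hvR hspan.ge)

end Groth.Agent.Lib.Helper26.CopA
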