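import Mathlib
import Groth.Agent.Lib.Helper12.IntegralDim
import Groth.Agent.Lib.Helper18.MCMFree
import Groth.Agent.Lib.Helper18.CM9

set_option autoImplicit false
set_option linter.style.haveILetI false
universe u v

namespace Groth.Agent.Lib.Helper26.CopB

open IsLocalRing

/-- single universe: a regular local ring finite and injective over a regular local ring is free -/
theorem free_of_regular_finite' {R A : Type u} [CommRing R] [IsRegularLocalRing R] [CommRing A]
    [IsRegularLocalRing A] [Algebra R A] [Module.Finite R A]
    (hinj : Function.Injective (algebraMap R A)) : Module.Free R A := by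
  haveI : FaithfulSMul R A := (faithfulSMul_iff_algebraMap_injective R A).mpr hinj
  haveI : Algebra.IsIntegral R A := inferInstance
  haveI hloc : IsLocalHom (algebraMap R A) := inferInstance
  have hdepth : LocCoh.depth R A = LocCoh.depth A A :=
    Groth.Agent.Lib.Helper18.CM.depth_eq_of_finite (A := R) (B := A) A
  have h1 : ringKrullDim A ≤ ((LocCoh.depth A A : ℕ∞) : WithBot ℕ∞) :=
    Groth.Agent.Lib.Helper18.CM.ringKrullDim_le_depth_of_free A A
  have hdim : ringKrullDim R = ringKrullDim A :=
    Groth.Agent.Lib.Helper12.ringKrullDim_eq_of_isIntegral_of_injective R A hinj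
  have h2 : ringKrullDim R ≤ ((LocCoh.depth R A : ℕ∞) : WithBot ℕ∞) := by
    rw [hdim, hdepth]; exact h1
  exact Groth.Agent.Lib.Helper18.CM.free_of_le_depth R A h2

attribute [local instance] ULift.algebra' in
/-- two universes -/
theorem free_of_regular_finite (R : Type u) (A : Type v) [CommRing R] [IsRegularLocalRing R]
    [CommRing A] [IsRegularLocalRing A] [Algebra R A] [Module.Finite R A]
    (hinj : Function.Injective (algebraMap R A)) : Module.Free R A := by
  classical
  haveI : IsRegularLocalRing (ULift.{v} R) :=
    IsRegularLocalRing.of_ringEquiv (ULift.ringEquiv.symm : R ≃+* ULift.{v} R)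
  haveI : IsRegularLocalRing (ULift.{u} A) :=
    IsRegularLocalRing.of_ringEquiv (ULift.ringEquiv.symm : A ≃+* ULift.{u} A)
  let σ : ULift.{v} R →+* R := (ULift.ringEquiv : ULift.{v} R ≃+* R).toRingHom
  let σ' : R →+* ULift.{v} R := (ULift.ringEquiv : ULift.{v} R ≃+* R).symm.toRingHom
  letI : RingHomInvPair σ σ' := ⟨by ext; rfl, by ext; rfl⟩
  letI : RingHomInvPair σ' σ := ⟨by ext; rfl, by ext; rfl⟩
  let e₂ : ULift.{u} A ≃ₛₗ[σ] A :=
    { toFun := ULift.down
      map_add' := fun _ _ => rfl
      map_smul' := fun _ _ => rfl
      invFun := ULift.up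
      left_inv := fun _ => rfl
      right_inv := fun _ => rfl }
  haveI : Module.Finite (ULift.{v} R) (ULift.{u} A) := by
    obtain ⟨s, hs⟩ := (Module.Finite.fg_top : (⊤ : Submodule R A).FG)
    refine ⟨⟨s.image ULift.up, ?_⟩⟩
    rw [eq_top_iff]
    intro a _
    have ha : a.down ∈ Submodule.span R (s : Set A) := by rw [hs]; trivial
    have key : ∀ x ∈ Submodule.span R (s : Set A),
        (ULift.up x : ULift.{u} A) ∈ Submodule.span (ULift.{v} R)
          ((s.image ULift.up : Finset (ULift.{u} A)) : Set (ULift.{u} A)) := by
      intro x hx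
      induction hx using Submodule.span_induction with
      | mem x hx =>
        apply Submodule.subset_span
        rw [Finset.coe_image]
        exact ⟨x, hx, rfl⟩
      | zero => exact Submodule.zero_mem _
      | add x y _ _ hx hy => exact Submodule.add_mem _ hx hy
      | smul r x _ hx => exact Submodule.smul_mem _ (ULift.up r) hx
    exact key _ ha
  have hinj' : Function.Injective (algebraMap (ULift.{v} R) (ULift.{u} A)) := by
    intro x y h
    have h1 : algebraMap R A x.down = algebraMap R A y.down := congrArg ULift.down h
    exact ULift.down_injective (hinj h1)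
  haveI := free_of_regular_finite' (R := ULift.{v} R) (A := ULift.{u} A) hinj'
  exact Module.Free.of_equiv e₂

end Groth.Agent.Lib.Helper26.CopB
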