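import Mathlib

set_option autoImplicit false
set_option linter.style.haveILetI false
universe u v

namespace Groth.Agent.Lib.Helper26.CopC

open TensorProduct PiTensorProduct

variable {R : Type u} {A : Type v} [CommRing R] [CommRing A] [Algebra R A] {n : ℕ}
  (B : Fin n → Subalgebra R A)

/-- the coproduct property -/
def IsCoprod : Prop :=
  ∀ (C : Type (max u v)) [CommRing C] [Algebra R C] (φ : ∀ i, ↥(B i) →ₐ[R] C),
    ∃! ψ : A →ₐ[R] C, ∀ i (x : ↥(B i)), ψ x = φ i x

/-- the product multilinear map -/
noncomputable def prodML : MultilinearMap R (fun i => ↥(B i)) A :=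
  (MultilinearMap.mkPiAlgebra R (Fin n) A).compLinearMap (fun i => (B i).val.toLinearMap)

theorem prodML_apply (f : ∀ i, ↥(B i)) : prodML B f = ∏ i, (f i : A) := by
  simp [prodML]

/-- the multiplication map -/
noncomputable def mulMap : (⨂[R] i, ↥(B i)) →ₐ[R] A :=
  PiTensorProduct.liftAlgHom (prodML B)
    (by rw [prodML_apply]; simp)
    (fun x y => by
      rw [prodML_apply, prodML_apply, prodML_apply, ← Finset.prod_mul_distrib]
      rfl)

theorem mulMap_tprod (f : ∀ i, ↥(B i)) : mulMap B (tprod R f) = ∏ i, (f i : A) := by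
  unfold mulMap
  rw [PiTensorProduct.liftAlgHom_apply, PiTensorProduct.lift.tprod, prodML_apply]

theorem mulMap_single (i : Fin n) (b : ↥(B i)) :
    mulMap B (PiTensorProduct.singleAlgHom (R := R) (A := fun i => ↥(B i)) i b) = b := by
  rw [PiTensorProduct.singleAlgHom_apply, mulMap_tprod, Finset.prod_eq_single i]
  · simp
  · intro j _ hj
    simp [hj]
  · intro h
    exact absurd (Finset.mem_univ i) h

theorem mulMap_bijective (h : IsCoprod B) : Function.Bijective (mulMap B) := by
  obtain ⟨ψ, hψ, -⟩ := h (⨂[R] i, ↥(B i))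
    (fun i => PiTensorProduct.singleAlgHom (R := R) (A := fun i => ↥(B i)) i)
  have h1 : ψ.comp (mulMap B) = AlgHom.id R _ := by
    apply PiTensorProduct.algHom_ext
    intro i
    ext b
    simp only [AlgHom.comp_apply, AlgHom.id_apply]
    rw [mulMap_single, hψ]
  have h2 : (mulMap B).comp ψ = AlgHom.id R A := by
    obtain ⟨θ, -, hθ⟩ := h (ULift.{u} A)
      (fun i => (ULift.algEquiv (R := R) (A := A)).symm.toAlgHom.comp (B i).val)
    have e1 : (ULift.algEquiv (R := R) (A := A)).symm.toAlgHom = θ := by
      apply hθ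
      intro i x
      rfl
    have e2 : (ULift.algEquiv (R := R) (A := A)).symm.toAlgHom.comp ((mulMap B).comp ψ) = θ := by
      apply hθ
      intro i x
      simp only [AlgHom.comp_apply]
      rw [hψ, mulMap_single]
      rfl
    ext a
    have e3 := DFunLike.congr_fun (e2.trans e1.symm) a
    simp only [AlgHom.comp_apply] at e3
    have e4 := congrArg ULift.down e3
    exact e4
  constructor
  · intro x y hxy
    have := congrArg ψ hxy
    have hx := DFunLike.congr_fun h1 x
    have hy := DFunLike.congr_fun h1 y
    simp only [AlgHom.comp_apply, AlgHom.id_apply] at hx hy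
    rw [hx, hy] at this
    exact this
  · intro a
    exact ⟨ψ a, DFunLike.congr_fun h2 a⟩

end Groth.Agent.Lib.Helper26.CopC
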