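import Mathlib
import Groth.Agent.Lib.Helper26.CopC

set_option autoImplicit false
set_option linter.style.haveILetI false
universe u v

namespace Groth.Agent.Lib.Helper26.CopD

open TensorProduct PiTensorProduct Groth.Agent.Lib.Helper26.CopC

variable {R : Type u} {A : Type v} [CommRing R] [CommRing A] [Algebra R A] {n : ℕ}
  (B : Fin n → Subalgebra R A) (i₀ : Fin n)

/-- the complementary tensor product -/
abbrev T' : Type _ := ⨂[R] (j : (({i₀}ᶜ : Set (Fin n)))), ↥(B j)

noncomputable instance : Fintype (({i₀}ᶜ : Set (Fin n))) := Fintype.ofFinite _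

/-- the complementary product multilinear map -/
noncomputable def prodML' : MultilinearMap R (fun j : (({i₀}ᶜ : Set (Fin n))) => ↥(B j)) A :=
  (MultilinearMap.mkPiAlgebra R (({i₀}ᶜ : Set (Fin n))) A).compLinearMap
    (fun j => (B j).val.toLinearMap)

theorem prodML'_apply (f : ∀ j : (({i₀}ᶜ : Set (Fin n))), ↥(B j)) :
    prodML' B i₀ f = ∏ j, (f j : A) := by
  simp [prodML']

/-- the complementary multiplication map -/
noncomputable def mulMap' : T' B i₀ →ₗ[R] A := PiTensorProduct.lift (prodML' B i₀)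

theorem mulMap'_tprod (f : ∀ j : (({i₀}ᶜ : Set (Fin n))), ↥(B j)) :
    mulMap' B i₀ (tprod R f) = ∏ j, (f j : A) := by
  unfold mulMap'
  rw [PiTensorProduct.lift.tprod, prodML'_apply]

/-- the base change map -/
noncomputable def FF : ↥(B i₀) ⊗[R] T' B i₀ →ₗ[↥(B i₀)] A :=
  LinearMap.liftBaseChange ↥(B i₀) (mulMap' B i₀)

theorem FF_tmul (b : ↥(B i₀)) (t : T' B i₀) : FF B i₀ (b ⊗ₜ t) = (b : A) * mulMap' B i₀ t := by
  unfold FF
  rw [LinearMap.liftBaseChange_tmul]
  rfl

set_option backward.isDefEq.respectTransparency.types false in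
theorem prod_subtypeNeLift (mm : ∀ j : (({i₀}ᶜ : Set (Fin n))), ↥(B j)) (b : ↥(B i₀)) :
    ∏ i, ((Function.subtypeNeLift (M := fun i => ↥(B i)) i₀ mm b i : ↥(B i)) : A) =
      (b : A) * ∏ j, (mm j : A) := by
  rw [Fintype.prod_eq_mul_prod_subtype_ne _ i₀, Function.subtypeNeLift_self]
  congr 1
  let e : {i // i ≠ i₀} ≃ (({i₀}ᶜ : Set (Fin n))) :=
    Equiv.subtypeEquivRight (fun i => by simp)
  refine Fintype.prod_equiv e _ _ ?_
  intro j
  rw [Function.subtypeNeLift_of_neq _ _ _ _ j.2]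
  rfl

set_option backward.isDefEq.respectTransparency.types false in
theorem FF_comm_tmul (mm : ∀ j : (({i₀}ᶜ : Set (Fin n))), ↥(B j)) (b : ↥(B i₀)) :
    FF B i₀ (b ⊗ₜ[R] (tprod R mm)) =
      mulMap B ((PiTensorProduct.equivPiTensorComplSingletonTensor R (fun i => ↥(B i)) i₀).symm
        ((tprod R mm) ⊗ₜ[R] b)) := by
  have h := PiTensorProduct.equivPiTensorComplSingletonTensor_symm_tmul R (fun i => ↥(B i)) i₀ mm b
  rw [FF_tmul, mulMap'_tprod]
  erw [h]
  rw [mulMap_tprod]
  exact (prod_subtypeNeLift B i₀ mm b).symm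

theorem FF_comm_linear :
    ((FF B i₀).restrictScalars R) ∘ₗ (TensorProduct.comm R (T' B i₀) ↥(B i₀)).toLinearMap =
      (mulMap B).toLinearMap ∘ₗ
        (PiTensorProduct.equivPiTensorComplSingletonTensor R (fun i => ↥(B i)) i₀).symm.toLinearMap := by
  apply TensorProduct.ext
  apply PiTensorProduct.ext
  ext mm b
  exact FF_comm_tmul B i₀ mm b

theorem FF_bijective (hm : Function.Bijective (mulMap B)) : Function.Bijective (FF B i₀) := by
  have h := FF_comm_linear B i₀
  have h1 : ∀ y : ↥(B i₀) ⊗[R] T' B i₀, FF B i₀ y =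
      mulMap B ((PiTensorProduct.equivPiTensorComplSingletonTensor R (fun i => ↥(B i)) i₀).symm
        ((TensorProduct.comm R (T' B i₀) ↥(B i₀)).symm y)) := by
    intro y
    have h2 := LinearMap.congr_fun h ((TensorProduct.comm R (T' B i₀) ↥(B i₀)).symm y)
    simp only [LinearMap.comp_apply, LinearEquiv.coe_coe, LinearEquiv.apply_symm_apply] at h2
    exact h2
  have h3 : (FF B i₀ : ↥(B i₀) ⊗[R] T' B i₀ → A) =
      (mulMap B) ∘ (PiTensorProduct.equivPiTensorComplSingletonTensor R (fun i => ↥(B i)) i₀).symm ∘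
        (TensorProduct.comm R (T' B i₀) ↥(B i₀)).symm := funext h1
  rw [h3]
  exact hm.comp ((LinearEquiv.bijective _).comp (LinearEquiv.bijective _))

end Groth.Agent.Lib.Helper26.CopD
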