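import Mathlib
import Groth.Agent.Lib.Helper18.SerreReg2
import Groth.Agent.Lib.Helper26.CopA
import Groth.Agent.Lib.Helper26.CopB
import Groth.Agent.Lib.Helper26.CopC
import Groth.Agent.Lib.Helper26.CopD

set_option autoImplicit false
set_option linter.style.haveILetI false
universe u v

namespace Groth.Agent.Lib.Helper26.CopE

open TensorProduct PiTensorProduct Groth.Agent.Lib.Helper26.CopA Groth.Agent.Lib.Helper26.CopB
  Groth.Agent.Lib.Helper26.CopC Groth.Agent.Lib.Helper26.CopD

theorem main_generic (R : Type u) [CommRing R] [IsRegularLocalRing R] (A : Type v) [CommRing A]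
    [IsRegularLocalRing A] [Algebra R A] [Module.Finite R A]
    (hinj : Function.Injective (algebraMap R A)) {n : ℕ} (B : Fin n → Subalgebra R A)
    (h : IsCoprod B) (i₀ : Fin n) :
    Module.Free R ↥(B i₀) ∧ IsRegularLocalRing ↥(B i₀) := by
  classical
  haveI hAfree : Module.Free R A := free_of_regular_finite R A hinj
  have hm : Function.Bijective (mulMap B) := mulMap_bijective B h
  let em : (⨂[R] i, ↥(B i)) ≃ₗ[R] A := LinearEquiv.ofBijective (mulMap B).toLinearMap hm
  let e₀ := PiTensorProduct.equivPiTensorComplSingletonTensor R (fun i => ↥(B i)) i₀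
  haveI hTfree : Module.Free R (⨂[R] i, ↥(B i)) := Module.Free.of_equiv em.symm
  haveI h1 : Module.Free R (T' B i₀ ⊗[R] ↥(B i₀)) := Module.Free.of_equiv e₀
  haveI h1' : Module.Free R (↥(B i₀) ⊗[R] T' B i₀) :=
    Module.Free.of_equiv (TensorProduct.comm R (T' B i₀) ↥(B i₀))
  haveI h2 : Nontrivial (T' B i₀ ⊗[R] ↥(B i₀)) := (e₀.symm.trans em).toEquiv.nontrivial
  haveI h2' : Nontrivial (↥(B i₀) ⊗[R] T' B i₀) :=
    (TensorProduct.comm R (T' B i₀) ↥(B i₀)).symm.toEquiv.nontrivial
  haveI hnoeth : IsNoetherian R A := isNoetherian_of_isNoetherianRing_of_finite R A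
  haveI hBfin : ∀ j, Module.Finite R ↥(B j) := fun j =>
    Module.Finite.of_injective (B j).val.toLinearMap Subtype.val_injective
  haveI hT'fin : Module.Finite R (T' B i₀) := inferInstance
  haveI hBfree : Module.Free R ↥(B i₀) := free_of_tensor_free (R := R) (M := ↥(B i₀)) (N := T' B i₀)
  haveI hT'free : Module.Free R (T' B i₀) :=
    free_of_tensor_free (R := R) (M := T' B i₀) (N := ↥(B i₀))
  refine ⟨hBfree, ?_⟩
  -- freeness of A over B i₀
  have hF := FF_bijective B i₀ hm
  let eF : (↥(B i₀) ⊗[R] T' B i₀) ≃ₗ[↥(B i₀)] A := LinearEquiv.ofBijective (FF B i₀) hF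
  haveI hAB : Module.Free ↥(B i₀) A := Module.Free.of_equiv eF
  haveI hflat : Module.Flat ↥(B i₀) A := inferInstance
  haveI : Algebra.IsIntegral R A := inferInstance
  haveI : Algebra.IsIntegral ↥(B i₀) A := Algebra.IsIntegral.tower_top (R := R)
  haveI hloc : IsLocalHom (algebraMap ↥(B i₀) A) := inferInstance
  haveI hBloc : IsLocalRing ↥(B i₀) := RingHom.domain_isLocalRing (algebraMap ↥(B i₀) A)
  haveI hBnoeth : IsNoetherianRing ↥(B i₀) := IsNoetherianRing.of_finite R ↥(B i₀)
  exact Groth.Agent.Lib.Helper18.SerreReg.isRegularLocalRing_of_flat_of_isLocalHom ↥(B i₀) A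

end Groth.Agent.Lib.Helper26.CopE
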