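import Mathlib

/-!
# Contractions of augmented cosimplicial objects / cochain complexes

`Groth.Agent.Lib.Helper26.Cosimp.homotopyEquivOfContraction`: a contraction of an augmented
cochain complex gives a homotopy equivalence with the augmentation object in degree `0`.
`Groth.Agent.Lib.Helper26.Cosimp.homotopyEquiv`: an extra codegeneracy on an augmented cosimplicial
object gives such a homotopy equivalence for the alternating coface map complex
(dual of `SimplicialObject.Augmented.ExtraDegeneracy.homotopyEquiv`).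
-/

set_option autoImplicit false
universe u v
open CategoryTheory CategoryTheory.Limits Simplicial

namespace Groth.Agent.Lib.Helper26
namespace Cosimp

variable {A : Type u} [Category.{v} A] [Preadditive A] [HasZeroObject A]

/-- A contraction of an augmented cochain complex gives a homotopy equivalence. -/
noncomputable def homotopyEquivOfContraction (K : CochainComplex A ℕ) (Z : A)
    (ε : Z ⟶ K.X 0) (hε : ε ≫ K.d 0 1 = 0)
    (s' : K.X 0 ⟶ Z) (s : ∀ n : ℕ, K.X (n + 1) ⟶ K.X n)
    (h1 : ε ≫ s' = 𝟙 Z)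
    (h2 : K.d 0 1 ≫ s 0 + s' ≫ ε = 𝟙 _)
    (h3 : ∀ n : ℕ, K.d (n + 1) (n + 2) ≫ s (n + 1) + s n ≫ K.d n (n + 1) = 𝟙 _) :
    HomotopyEquiv ((CochainComplex.single₀ A).obj Z) K where
  hom := (CochainComplex.fromSingle₀Equiv K Z).symm ⟨ε, hε⟩
  inv := (CochainComplex.toSingle₀Equiv K Z).symm s'
  homotopyHomInvId := Homotopy.ofEq (by
    ext
    rw [HomologicalComplex.comp_f, CochainComplex.fromSingle₀Equiv_symm_apply_f_zero,
      CochainComplex.toSingle₀Equiv_symm_apply_f_zero]
    simpa using h1)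
  homotopyInvHomId :=
    { hom i j := (Pi.single (M := fun i => K.X i ⟶ K.X j) (j + 1) (-s j)) i
      zero i j hij := Pi.single_eq_of_ne (Ne.symm hij) _
      comm i := by
        cases i with
        | zero =>
          rw [Homotopy.prevD_zero_cochainComplex, Homotopy.dNext_cochainComplex,
            HomologicalComplex.comp_f, CochainComplex.fromSingle₀Equiv_symm_apply_f_zero,
            CochainComplex.toSingle₀Equiv_symm_apply_f_zero, Pi.single_eq_same]
          rw [HomologicalComplex.id_f, ← h2]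
          simp
        | succ i =>
          rw [Homotopy.prevD_succ_cochainComplex, Homotopy.dNext_cochainComplex,
            HomologicalComplex.comp_f, Pi.single_eq_same, Pi.single_eq_same,
            CochainComplex.toSingle₀Equiv_symm_apply_f_succ, zero_comp]
          rw [HomologicalComplex.id_f, ← h3 i]
          simp only [Preadditive.comp_neg, Preadditive.neg_comp]
          abel }

omit [HasZeroObject A] in
lemma d_eq (Y : CosimplicialObject A) (n : ℕ) :
    ((AlgebraicTopology.alternatingCofaceMapComplex A).obj Y).d n (n + 1) =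
      ∑ i : Fin (n + 2), (-1 : ℤ) ^ (i : ℕ) • Y.δ i :=
  CochainComplex.of_d (fun n => Y.obj ⦋n⦌) (AlgebraicTopology.AlternatingCofaceMapComplex.objD Y) n

/-- An extra codegeneracy on an augmented cosimplicial object gives a homotopy equivalence between
the augmentation object in degree 0 and the alternating coface map complex. -/
noncomputable def homotopyEquiv (Y : CosimplicialObject A) (Z : A)
    (ε : Z ⟶ Y.obj ⦋0⦌) (hε : ε ≫ Y.δ 0 = ε ≫ Y.δ 1)
    (s' : Y.obj ⦋0⦌ ⟶ Z) (s : ∀ n : ℕ, Y.obj ⦋n + 1⦌ ⟶ Y.obj ⦋n⦌)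
    (h1 : ε ≫ s' = 𝟙 Z)
    (h2 : Y.δ 1 ≫ s 0 = s' ≫ ε)
    (h3 : ∀ n : ℕ, Y.δ 0 ≫ s n = 𝟙 _)
    (h4 : ∀ (n : ℕ) (i : Fin (n + 2)), Y.δ i.succ ≫ s (n + 1) = s n ≫ Y.δ i) :
    HomotopyEquiv ((CochainComplex.single₀ A).obj Z)
      ((AlgebraicTopology.alternatingCofaceMapComplex A).obj Y) := by
  refine homotopyEquivOfContraction _ Z ε ?_ s' s h1 ?_ ?_
  · rw [d_eq]
    change ε ≫ (∑ i : Fin 2, (-1 : ℤ) ^ (i : ℕ) • Y.δ i) = 0
    simp [Fin.sum_univ_succ, hε]
  · rw [d_eq]
    change (∑ i : Fin 2, (-1 : ℤ) ^ (i : ℕ) • Y.δ i) ≫ s 0 + s' ≫ ε = 𝟙 (Y.obj ⦋0⦌)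
    simp [Fin.sum_univ_succ, h2, h3]
  · intro n
    rw [d_eq, d_eq]
    change (∑ i : Fin (n + 3), (-1 : ℤ) ^ (i : ℕ) • Y.δ i) ≫ s (n + 1) +
      s n ≫ (∑ i : Fin (n + 2), (-1 : ℤ) ^ (i : ℕ) • Y.δ i) = 𝟙 (Y.obj ⦋n + 1⦌)
    simp [Fin.sum_univ_succ (n := n + 2), h3, Preadditive.sum_comp,
            Preadditive.comp_sum, h4, pow_succ]

end Cosimp

end Groth.Agent.Lib.Helper26
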