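import Mathlib
set_option linter.style.haveILetI false
set_option linter.unusedSectionVars false

namespace Groth.Agent.Lib.Helper26.Crimp
open Module

variable {R : Type*} [CommRing R] [IsDomain R] {T : Type*} [CommRing T] [Algebra R T]
  {ι : Type*} [Fintype ι] [DecidableEq ι] (S : Subalgebra R T)

lemma repr_coe (b' : Basis ι R T) (a : ι → R) (abS : Basis ι R S)
    (hab : ∀ i, (abS i : T) = a i • b' i) (y : S) (i : ι) :
    b'.repr (y : T) i = abS.repr y i * a i := by
  have h1 : (y : T) = ∑ j, (abS.repr y j * a j) • b' j := by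
    conv_lhs => rw [← abS.sum_repr y]
    rw [AddSubmonoidClass.coe_finsetSum]
    refine Finset.sum_congr rfl fun j _ => ?_
    rw [Subalgebra.coe_smul, hab j, mul_smul]
  rw [h1, b'.repr_sum_self]

lemma trace_eq (b' : Basis ι R T) (a : ι → R) (ha : ∀ i, a i ≠ 0) (abS : Basis ι R S)
    (hab : ∀ i, (abS i : T) = a i • b' i) (x : S) :
    Algebra.trace R S x = Algebra.trace R T (x : T) := by
  rw [Algebra.trace_eq_matrix_trace abS, Algebra.trace_eq_matrix_trace b', Matrix.trace,
    Matrix.trace]
  refine Finset.sum_congr rfl fun i _ => ?_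
  rw [Matrix.diag_apply, Matrix.diag_apply, Algebra.leftMulMatrix_eq_repr_mul,
    Algebra.leftMulMatrix_eq_repr_mul]
  have h1 := repr_coe S b' a abS hab (x * abS i) i
  have h2 : ((x * abS i : S) : T) = a i • ((x : T) * b' i) := by
    rw [Subalgebra.coe_mul, hab i, mul_smul_comm]
  rw [h2, map_smul, Finsupp.smul_apply, smul_eq_mul] at h1
  have h3 : a i * (abS.repr (x * abS i) i - b'.repr ((x : T) * b' i) i) = 0 := by
    rw [mul_sub, h1]; ring
  rcases mul_eq_zero.mp h3 with h4 | h4
  · exact absurd h4 (ha i)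
  · exact sub_eq_zero.mp h4

/-- discriminant of a family in `S` equals that of its image in `T`. -/
lemma discr_eq (b' : Basis ι R T) (a : ι → R) (ha : ∀ i, a i ≠ 0) (abS : Basis ι R S)
    (hab : ∀ i, (abS i : T) = a i • b' i) {κ : Type*} [Fintype κ] [DecidableEq κ] (v : κ → S) :
    Algebra.discr R v = Algebra.discr R (fun i => (v i : T)) := by
  rw [Algebra.discr_def, Algebra.discr_def]
  congr 1
  ext i j
  rw [Algebra.traceMatrix_apply, Algebra.traceMatrix_apply, Algebra.traceForm_apply,
    Algebra.traceForm_apply, trace_eq S b' a ha abS hab, Subalgebra.coe_mul]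

section Generic
variable {R : Type*} [CommRing R] [IsDomain R]

lemma ord_prod {ι : Type*} (s : Finset ι) (a : ι → R) (ha : ∀ i ∈ s, a i ≠ 0) :
    Ring.ord R (∏ i ∈ s, a i) = ∑ i ∈ s, Ring.ord R (a i) := by
  classical
  induction s using Finset.induction_on with
  | empty => simp
  | insert j s hj ih =>
    rw [Finset.prod_insert hj, Finset.sum_insert hj,
      Ring.ord_mul R (mem_nonZeroDivisors_of_ne_zero
        (Finset.prod_ne_zero_iff.mpr fun i hi => ha i (Finset.mem_insert_of_mem hi))),
      ih fun i hi => ha i (Finset.mem_insert_of_mem hi)]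

/-- discriminant under a change of family by a matrix, written with `smul` sums. -/
lemma discr_of_sum_smul {T : Type*} [CommRing T] [Algebra R T] {ι : Type*} [Fintype ι]
    [DecidableEq ι] (b w : ι → T) (Q : Matrix ι ι R) (h : ∀ i, w i = ∑ j, Q j i • b j) :
    Algebra.discr R w = Q.det ^ 2 * Algebra.discr R b := by
  rw [← Algebra.discr_of_matrix_vecMul]
  congr 1
  funext i
  rw [h i, Matrix.vecMul, dotProduct]
  refine Finset.sum_congr rfl fun j _ => ?_
  rw [Matrix.map_apply, Algebra.smul_def, mul_comm]

variable [IsPrincipalIdealRing R] {T : Type*} [CommRing T] [Algebra R T]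
  {ι : Type*} [Fintype ι] [DecidableEq ι] (S : Subalgebra R T)

theorem crimp_generic (bt : Basis ι R T) (bS : Basis ι R S) :
    ∃ c : R, c ≠ 0 ∧ (∀ q : T ⧸ Subalgebra.toSubmodule S, c • q = 0) ∧
      Module.length R (T ⧸ Subalgebra.toSubmodule S) = Ring.ord R c ∧
      ∃ u : Rˣ, Algebra.discr R bS = u * c ^ 2 * Algebra.discr R bt := by
  set N := Subalgebra.toSubmodule S with hN
  have h : finrank R N = finrank R T := by
    rw [(Subalgebra.toSubmoduleEquiv S).finrank_eq, finrank_eq_card_basis bS,
      finrank_eq_card_basis bt]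
  set a := N.smithNormalFormCoeffs bt h with ha_def
  set b' := N.smithNormalFormTopBasis bt h with hb'_def
  set ab := N.smithNormalFormBotBasis bt h with hab_def
  have ha : ∀ i, a i ≠ 0 := N.smithNormalFormCoeffs_ne_zero bt h
  have hab : ∀ i, (ab i : T) = a i • b' i := N.smithNormalFormBotBasis_def bt h
  let abS : Basis ι R S := ab.map (Subalgebra.toSubmoduleEquiv S)
  have habS : ∀ i, (abS i : T) = a i • b' i := fun i => by
    rw [← hab i]; rfl
  let e := N.quotientEquivPiSpan bt h
  set c := ∏ i, a i with hc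
  have hc0 : c ≠ 0 := Finset.prod_ne_zero_iff.mpr fun i _ => ha i
  refine ⟨c, hc0, ?_, ?_, ?_⟩
  · intro q
    apply e.injective
    rw [map_smul, map_zero]
    funext i
    rw [Pi.smul_apply, Pi.zero_apply]
    obtain ⟨r, hr⟩ := Ideal.Quotient.mk_surjective (e q i)
    rw [← hr, ← Ideal.Quotient.mk_eq_mk, ← Submodule.Quotient.mk_smul,
      Submodule.Quotient.mk_eq_zero, smul_eq_mul, Ideal.mem_span_singleton]
    exact Dvd.dvd.mul_right (Finset.dvd_prod_of_mem a (Finset.mem_univ i)) r
  · rw [e.length_eq, Module.length_pi_of_fintype, hc, ord_prod _ _ fun i _ => ha i]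
    rfl
  · -- discriminants
    have h1 : Algebra.discr R bS = Algebra.discr R (fun i => (bS i : T)) :=
      discr_eq S b' a ha abS habS bS
    let P : Matrix ι ι R := abS.toMatrix bS
    have hP : IsUnit P.det := by
      have : P * bS.toMatrix abS = 1 := Basis.toMatrix_mul_toMatrix_flip abS bS
      exact Matrix.isUnit_det_of_right_inverse this
    let P' : Matrix ι ι R := bt.toMatrix b'
    have hP' : IsUnit P'.det := by
      have : P' * b'.toMatrix bt = 1 := Basis.toMatrix_mul_toMatrix_flip bt b'
      exact Matrix.isUnit_det_of_right_inverse this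
    have h2 : Algebra.discr R (fun i => (bS i : T)) =
        (Matrix.diagonal a * P).det ^ 2 * Algebra.discr R b' := by
      apply discr_of_sum_smul
      intro i
      have h3 : bS i = ∑ j, P j i • abS j := (Basis.sum_toMatrix_smul_self abS bS i).symm
      conv_lhs => rw [h3]
      rw [AddSubmonoidClass.coe_finsetSum]
      refine Finset.sum_congr rfl fun j _ => ?_
      rw [Subalgebra.coe_smul, habS j, Matrix.diagonal_mul, mul_smul, smul_comm]
    have h3 : Algebra.discr R b' = P'.det ^ 2 * Algebra.discr R bt := by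
      apply discr_of_sum_smul
      intro i
      exact (Basis.sum_toMatrix_smul_self bt b' i).symm
    refine ⟨(hP.unit * hP'.unit) ^ 2, ?_⟩
    rw [h1, h2, h3, Matrix.det_mul, Matrix.det_diagonal]
    push_cast
    rw [IsUnit.unit_spec, IsUnit.unit_spec]
    ring


end Generic

end Groth.Agent.Lib.Helper26.Crimp
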