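import Mathlib
import Groth.Prelude
import Groth.Agent.Lib.Helper12.CycDet4

set_option autoImplicit false
set_option linter.style.haveILetI false
set_option linter.unusedSectionVars false
universe u v

namespace Groth.Agent.Lib.Helper26.CycDetA

open CycDet IsLocalRing H12CycDet

variable {R : Type u} [CommRing R] [IsLocalRing R] {M : Type v} [AddCommGroup M] [Module R M]
  {N : Type v} [AddCommGroup N] [Module R N] {l : ℕ}

/-- remove the `i`-th entry -/
def rem (t : Fin (l + 1) → M) (i : Fin (l + 1)) : Fin l → M := fun k => t (i.succAbove k)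

theorem val_succAbove (i : Fin (l + 1)) (k : Fin l) :
    ((i.succAbove k : Fin (l + 1)) : ℕ) = if (k : ℕ) < i then (k : ℕ) else k + 1 := by
  unfold Fin.succAbove
  split_ifs with h1 h2 h2
  · rfl
  · exact absurd (Fin.lt_def.mp h1) h2
  · exact absurd (Fin.lt_def.mpr h2) h1
  · rfl

theorem sB_map (π : M →ₗ[R] N) (e : Fin l → M) (j : ℕ) :
    spanBefore R N (π ∘ e) j = (spanBefore R M e j).map π := by
  unfold spanBefore
  rw [Submodule.map_span, Set.image_comp]

theorem sB_rem_le (t : Fin (l + 1) → M) (i : Fin (l + 1)) (j : ℕ) (hj : j ≤ i) :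
    spanBefore R M (rem t i) j = spanBefore R M t j := by
  unfold spanBefore
  congr 1
  ext z
  constructor
  · rintro ⟨k, hk, rfl⟩
    have hk' : (k : ℕ) < j := hk
    refine ⟨i.succAbove k, ?_, rfl⟩
    show ((i.succAbove k : Fin (l + 1)) : ℕ) < j
    rw [val_succAbove, if_pos (by omega)]
    exact hk'
  · rintro ⟨k', hk', rfl⟩
    have hk'' : (k' : ℕ) < j := hk'
    have hil := i.2
    refine ⟨⟨k', by omega⟩, hk'', ?_⟩
    show t (i.succAbove ⟨k', _⟩) = t k'
    congr 1
    apply Fin.ext
    rw [val_succAbove, if_pos (by simp; omega)]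

theorem sB_rem_ge (t : Fin (l + 1) → M) (i : Fin (l + 1)) (hi : t i ∈ spanBefore R M t i)
    (j : ℕ) (hj : (i : ℕ) ≤ j) :
    spanBefore R M (rem t i) j = spanBefore R M t (j + 1) := by
  apply le_antisymm
  · apply Submodule.span_le.mpr
    rintro _ ⟨k, hk, rfl⟩
    have hk' : (k : ℕ) < j := hk
    apply mem_spanBefore
    rw [val_succAbove]
    split_ifs <;> omega
  · apply Submodule.span_le.mpr
    rintro _ ⟨k', hk', rfl⟩
    have hk'' : (k' : ℕ) < j + 1 := hk'
    by_cases hki : k' = i
    · rw [hki]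
      have := sB_rem_le (R := R) t i i le_rfl
      rw [← this] at hi
      exact spanBefore_mono _ hj hi
    · obtain ⟨k, rfl⟩ := Fin.exists_succAbove_eq hki
      apply mem_spanBefore (R := R) (rem t i)
      rw [val_succAbove] at hk''
      split_ifs at hk'' with h <;> omega

theorem sB_rem (t : Fin (l + 1) → M) (i : Fin (l + 1)) (hi : t i ∈ spanBefore R M t i)
    (k : Fin l) :
    spanBefore R M (rem t i) k = spanBefore R M t (i.succAbove k) := by
  rw [val_succAbove]
  split_ifs with h
  · exact sB_rem_le t i k (by omega)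
  · exact sB_rem_ge t i hi k (by omega)

theorem adm_rem (t : Fin (l + 1) → M) (ht : IsAdmissible R M t) (i : Fin (l + 1))
    (hi : t i ∈ spanBefore R M t i) : IsAdmissible R M (rem t i) := by
  intro k r hr
  rw [sB_rem t i hi k]
  exact ht (i.succAbove k) r hr

theorem adm_map (π : M →ₗ[R] N) (e : Fin l → M) (he : IsAdmissible R M e) :
    IsAdmissible R N (π ∘ e) := by
  intro k r hr
  rw [sB_map]
  refine ⟨r • e k, he k r hr, ?_⟩
  simp

end Groth.Agent.Lib.Helper26.CycDetA
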