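import Mathlib
import Groth.Prelude
import Groth.Agent.Lib.Helper26.CycDetA

set_option autoImplicit false
set_option linter.style.haveILetI false
set_option linter.unusedSectionVars false
universe u v

namespace Groth.Agent.Lib.Helper26.CycDetB

open CycDet IsLocalRing H12CycDet Groth.Agent.Lib.Helper26.CycDetA

variable {R : Type u} [CommRing R] [IsLocalRing R] {M : Type v} [AddCommGroup M] [Module R M]
  {N : Type v} [AddCommGroup N] [Module R N] {l : ℕ}

/-- abstract determinant functions on `l`-tuples. -/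
structure IsDetFun (D : (Fin l → M) → ResidueField R) : Prop where
  dep : ∀ t, IsAdmissible R M t → ∀ a : Fin l, t a ∈ spanBefore R M t a → D t = 0
  repl : ∀ t t', IsAdmissible R M t → IsAdmissible R M t' → ∀ (a : Fin l) (c : Rˣ),
      (∀ j, j ≠ a → t j = t' j) → t a - (c : R) • t' a ∈ spanBefore R M t a →
      D t = residue R c * D t'
  swap : ∀ t, IsAdmissible R M t → ∀ a b : Fin l, (b : ℕ) + 1 = a →
      (∀ r ∈ maximalIdeal R, r • t a ∈ spanBefore R M t b) → D (t ∘ Equiv.swap a b) = - D t

section piv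

variable (f : M)

/-- `i` is the pivot index of `f` in `e` with coefficient `c`. -/
def Piv (e : Fin l → M) (i : Fin l) (c : Rˣ) : Prop :=
  f ∉ spanBefore R M e i ∧ f - (c : R) • e i ∈ spanBefore R M e i

variable {f}

theorem Piv.mem_succ {e : Fin l → M} {i : Fin l} {c : Rˣ} (h : Piv f e i c) :
    f ∈ spanBefore R M e ((i : ℕ) + 1) := by
  have h1 : f = (f - (c : R) • e i) + (c : R) • e i := by abel
  rw [h1]
  exact Submodule.add_mem _ (spanBefore_mono e (Nat.le_succ _) h.2)
    (Submodule.smul_mem _ _ (mem_spanBefore e (Nat.lt_succ_self _)))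

theorem Piv.not_dep {e : Fin l → M} {i : Fin l} {c : Rˣ} (h : Piv f e i c) :
    e i ∉ spanBefore R M e i := by
  intro hi
  apply h.1
  have h1 : f = (f - (c : R) • e i) + (c : R) • e i := by abel
  rw [h1]
  exact Submodule.add_mem _ h.2 (Submodule.smul_mem _ _ hi)

theorem Piv.idx_eq {e : Fin l → M} {i i' : Fin l} {c c' : Rˣ} (h : Piv f e i c)
    (h' : Piv f e i' c') : i = i' := by
  rcases lt_trichotomy (i : ℕ) i' with h1 | h1 | h1
  · exact absurd (spanBefore_mono e (by omega) h.mem_succ) h'.1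
  · exact Fin.ext h1
  · exact absurd (spanBefore_mono e (by omega) h'.mem_succ) h.1

theorem Piv.res_eq {e : Fin l → M} {i : Fin l} {c c' : Rˣ} (h : Piv f e i c)
    (h' : Piv f e i c') : residue R (c : R) = residue R (c' : R) := by
  by_contra hne
  have h1 : ((c : R) - c') • e i ∈ spanBefore R M e i := by
    have : ((c : R) - c') • e i = (f - (c' : R) • e i) - (f - (c : R) • e i) := by
      rw [sub_smul]; abel
    rw [this]
    exact Submodule.sub_mem _ h'.2 h.2
  have h2 : IsUnit ((c : R) - c') := by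
    by_contra hu
    apply hne
    rw [← sub_eq_zero, ← map_sub, residue_eq_zero_iff]
    exact (IsLocalRing.mem_maximalIdeal _).mpr hu
  apply h.not_dep
  obtain ⟨u, hu⟩ := h2
  rw [← hu] at h1
  have := Submodule.smul_mem _ ((u⁻¹ : Rˣ) : R) h1
  rwa [smul_smul, Units.inv_mul, one_smul] at this

theorem piv_exists (e : Fin l → M) (he : IsAdmissible R M e) (hf0 : f ≠ 0)
    (hf : f ∈ Submodule.span R (Set.range e)) : ∃ (i : Fin l) (c : Rˣ), Piv f e i c := by
  classical
  rw [← spanBefore_len] at hf
  have hex : ∃ n : ℕ, f ∈ spanBefore R M e n := ⟨l, hf⟩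
  have hn0 : Nat.find hex ≠ 0 := by
    intro h0
    have := Nat.find_spec hex
    rw [h0, spanBefore_zero] at this
    exact hf0 ((Submodule.mem_bot R).mp this)
  have hnl : Nat.find hex ≤ l := Nat.find_min' hex hf
  obtain ⟨i, hi⟩ : ∃ i, Nat.find hex = i + 1 := ⟨Nat.find hex - 1, by omega⟩
  have h1 : f ∈ spanBefore R M e (i + 1) := by rw [← hi]; exact Nat.find_spec hex
  have h2 : f ∉ spanBefore R M e i := Nat.find_min hex (by omega)
  obtain ⟨c, hc⟩ := exists_unit_of_mem e he ⟨i, by omega⟩ f h1 h2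
  exact ⟨⟨i, by omega⟩, c, h2, hc⟩

theorem Piv.mem_span {e : Fin l → M} {i : Fin l} {c : Rˣ} (h : Piv f e i c) :
    f ∈ Submodule.span R (Set.range e) := by
  rw [← spanBefore_len]
  exact spanBefore_mono e (by have := i.2; omega) h.mem_succ

end piv

end Groth.Agent.Lib.Helper26.CycDetB
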