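import Mathlib
import Groth.Prelude
import Groth.Agent.Lib.Helper26.CycDetB

set_option autoImplicit false
set_option linter.style.haveILetI false
set_option linter.unusedSectionVars false
universe u v

namespace Groth.Agent.Lib.Helper26.CycDetC

open CycDet IsLocalRing H12CycDet Groth.Agent.Lib.Helper26.CycDetA Groth.Agent.Lib.Helper26.CycDetB

variable {R : Type u} [CommRing R] [IsLocalRing R] {M : Type v} [AddCommGroup M] [Module R M]
  {N : Type v} [AddCommGroup N] [Module R N] {l : ℕ}

variable (π : M →ₗ[R] N) (f : M) (D : (Fin l → N) → ResidueField R)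

open Classical in
/-- the extended determinant function. -/
noncomputable def Dp (e : Fin (l + 1) → M) : ResidueField R :=
  if h : ∃ (i : Fin (l + 1)) (c : Rˣ), Piv f e i c then
    (-1) ^ (h.choose : ℕ) * (residue R (h.choose_spec.choose : R))⁻¹ * D (rem (π ∘ e) h.choose)
  else 0

variable {π f D}

theorem Dp_eq {e : Fin (l + 1) → M} {i : Fin (l + 1)} {c : Rˣ} (h : Piv f e i c) :
    Dp π f D e = (-1) ^ (i : ℕ) * (residue R (c : R))⁻¹ * D (rem (π ∘ e) i) := by
  have hex : ∃ (i : Fin (l + 1)) (c : Rˣ), Piv f e i c := ⟨i, c, h⟩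
  unfold Dp
  rw [dif_pos hex]
  have h1 := hex.choose_spec.choose_spec
  have h2 : hex.choose = i := h1.idx_eq h
  have h3 : residue R (hex.choose_spec.choose : R) = residue R (c : R) := by
    have h4 : Piv f e hex.choose c := by rw [h2]; exact h
    exact h1.res_eq h4
  rw [h3, h2]

theorem Dp_zero {e : Fin (l + 1) → M} (h : ¬ ∃ (i : Fin (l + 1)) (c : Rˣ), Piv f e i c) :
    Dp π f D e = 0 := by
  unfold Dp
  rw [dif_neg h]

theorem mem_map_of_unit_smul (hπf : π f = 0) (c : Rˣ) (S : Submodule R M) (x : M)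
    (h : f - (c : R) • x ∈ S) : π x ∈ S.map π := by
  refine ⟨((c⁻¹ : Rˣ) : R) • (-(f - (c : R) • x)), Submodule.smul_mem _ _ (Submodule.neg_mem _ h), ?_⟩
  rw [map_smul, map_neg, map_sub, hπf, zero_sub, neg_neg, map_smul, smul_smul, Units.inv_mul,
    one_smul]

theorem piv_dep (hπf : π f = 0) {e : Fin (l + 1) → M} {i : Fin (l + 1)} {c : Rˣ}
    (h : Piv f e i c) : (π ∘ e) i ∈ spanBefore R N (π ∘ e) i := by
  rw [sB_map]
  exact mem_map_of_unit_smul hπf c _ _ h.2

theorem res_ne_zero (c : Rˣ) : residue R (c : R) ≠ 0 :=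
  (c.isUnit.map (residue R)).ne_zero

theorem Dp_dep (hD : IsDetFun D) (hπf : π f = 0) (e : Fin (l + 1) → M)
    (he : IsAdmissible R M e) (a : Fin (l + 1)) (ha : e a ∈ spanBefore R M e a) :
    Dp π f D e = 0 := by
  by_cases h : ∃ (i : Fin (l + 1)) (c : Rˣ), Piv f e i c
  · obtain ⟨i, c, hp⟩ := h
    rw [Dp_eq hp]
    have hai : a ≠ i := by
      rintro rfl
      exact hp.not_dep ha
    obtain ⟨a', rfl⟩ := Fin.exists_succAbove_eq hai
    have hdep := piv_dep hπf hp
    have : D (rem (π ∘ e) i) = 0 := by
      apply hD.dep _ (adm_rem _ (adm_map π e he) i hdep) a'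
      rw [sB_rem _ i hdep a', sB_map]
      exact ⟨_, ha, rfl⟩
    rw [this, mul_zero]
  · exact Dp_zero h

theorem sB_eq_of_repl (e e' : Fin l → M) (a : Fin l) (u : Rˣ) (h1 : ∀ j, j ≠ a → e j = e' j)
    (h2 : e a - (u : R) • e' a ∈ spanBefore R M e a) (j : ℕ) :
    spanBefore R M e j = spanBefore R M e' j := by
  have h3 : spanBefore R M e a = spanBefore R M e' a :=
    spanBefore_congr e e' a (fun j hj => h1 j (fun h => by rw [h] at hj; omega))
  rw [h3] at h2
  have h4 : Function.update e' a (e a) = e := by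
    funext j
    by_cases hj : j = a
    · rw [hj, Function.update_self]
    · rw [Function.update_of_ne hj, h1 j hj]
  rw [← spanBefore_update e' a (e a) u h2 j, h4]

theorem Dp_repl (hD : IsDetFun D) (hπf : π f = 0) (hf0 : f ≠ 0) (e e' : Fin (l + 1) → M)
    (he : IsAdmissible R M e) (he' : IsAdmissible R M e') (a : Fin (l + 1)) (u : Rˣ)
    (h1 : ∀ j, j ≠ a → e j = e' j)
    (h2 : e a - (u : R) • e' a ∈ spanBefore R M e a) :
    Dp π f D e = residue R (u : R) * Dp π f D e' := by
  have hsB := sB_eq_of_repl e e' a u h1 h2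
  by_cases hf : f ∈ Submodule.span R (Set.range e)
  · obtain ⟨i, c, hp⟩ := piv_exists e he hf0 hf
    by_cases hia : i = a
    · subst hia
      have hp' : Piv f e' i (c * u) := by
        refine ⟨by rw [← hsB]; exact hp.1, ?_⟩
        have : f - ((c * u : Rˣ) : R) • e' i =
            (f - (c : R) • e i) + (c : R) • (e i - (u : R) • e' i) := by
          rw [Units.val_mul, smul_sub, smul_smul]; abel
        rw [this, ← hsB]
        exact Submodule.add_mem _ hp.2 (Submodule.smul_mem _ _ h2)
      rw [Dp_eq hp, Dp_eq hp']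
      have hrem : rem (π ∘ e) i = rem (π ∘ e') i := by
        funext k
        simp only [rem, Function.comp_apply]
        rw [h1 _ (Fin.succAbove_ne i k)]
      rw [hrem, Units.val_mul, map_mul]
      have hc := res_ne_zero c
      have hu := res_ne_zero u
      field_simp
    · have hp' : Piv f e' i c := by
        refine ⟨by rw [← hsB]; exact hp.1, ?_⟩
        rw [← h1 i hia, ← hsB]
        exact hp.2
      rw [Dp_eq hp, Dp_eq hp']
      obtain ⟨a', rfl⟩ := Fin.exists_succAbove_eq (Ne.symm hia)
      have hdep := piv_dep hπf hp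
      have hdep' := piv_dep hπf hp'
      have : D (rem (π ∘ e) i) = residue R (u : R) * D (rem (π ∘ e') i) := by
        apply hD.repl _ _ (adm_rem _ (adm_map π e he) i hdep)
          (adm_rem _ (adm_map π e' he') i hdep') a' u
        · intro k hk
          simp only [rem, Function.comp_apply]
          rw [h1]
          intro h
          exact hk (Fin.succAbove_right_injective h)
        · rw [sB_rem _ i hdep a', sB_map]
          refine ⟨_, h2, ?_⟩
          simp only [rem, Function.comp_apply, map_sub, map_smul]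
      rw [this]
      ring
  · have hf' : f ∉ Submodule.span R (Set.range e') := by
      rw [← spanBefore_len, ← hsB, spanBefore_len]
      exact hf
    rw [Dp_zero (fun ⟨i, c, hp⟩ => hf hp.mem_span), Dp_zero (fun ⟨i, c, hp⟩ => hf' hp.mem_span),
      mul_zero]

end Groth.Agent.Lib.Helper26.CycDetC
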