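import Mathlib
import Groth.Prelude
import Groth.Agent.Lib.Helper26.CycDetC

set_option autoImplicit false
set_option linter.style.haveILetI false
set_option linter.unusedSectionVars false
universe u v

namespace Groth.Agent.Lib.Helper26.CycDetD

open CycDet IsLocalRing H12CycDet Groth.Agent.Lib.Helper26.CycDetA Groth.Agent.Lib.Helper26.CycDetB
  Groth.Agent.Lib.Helper26.CycDetC

variable {R : Type u} [CommRing R] [IsLocalRing R] {M : Type v} [AddCommGroup M] [Module R M]
  {N : Type v} [AddCommGroup N] [Module R N] {l : ℕ}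

/-- combinatorial lemma: removing position `a` after the swap equals removing position `b`. -/
theorem rem_swap (t : Fin (l + 1) → N) (a b : Fin (l + 1)) (hab : (b : ℕ) + 1 = a) :
    rem (t ∘ Equiv.swap a b) a = rem t b := by
  funext k
  simp only [rem, Function.comp_apply]
  congr 1
  apply Fin.ext
  rw [Equiv.swap_apply_def]
  split_ifs with h1 h2
  · exact absurd h1 (Fin.succAbove_ne a k)
  · have h3 := congrArg Fin.val h2
    rw [val_succAbove] at h3 ⊢
    split_ifs at h3 ⊢ <;> omega
  · have h3 : ((a.succAbove k : Fin (l + 1)) : ℕ) ≠ b := fun h => h2 (Fin.ext h)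
    rw [val_succAbove] at h3 ⊢
    rw [val_succAbove]
    split_ifs at h3 ⊢ <;> omega

variable {π : M →ₗ[R] N} {f : M} {D : (Fin l → N) → ResidueField R}

theorem neg_one_pow_succ' (a b : ℕ) (hab : b + 1 = a) :
    ((-1 : ResidueField R)) ^ a = - (-1) ^ b := by
  rw [← hab, pow_succ]; ring

/-- Case X: pivot of `e` at `b`, `f` not in the span of the swapped tuple up to `b`. -/
theorem Dp_swap_X (e : Fin (l + 1) → M) (a b : Fin (l + 1)) (hab : (b : ℕ) + 1 = a) (c : Rˣ)
    (hp : Piv f e b c) (hn : f ∉ spanBefore R M (e ∘ Equiv.swap a b) ((b : ℕ) + 1)) :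
    Dp π f D (e ∘ Equiv.swap a b) = - Dp π f D e := by
  have hp' : Piv f (e ∘ Equiv.swap a b) a c := by
    refine ⟨by rw [← hab]; exact hn, ?_⟩
    simp only [Function.comp_apply, Equiv.swap_apply_left]
    have h1 := hp.2
    rw [← spanBefore_swap e a b hab b (Or.inl le_rfl)] at h1
    exact spanBefore_mono _ (by omega) h1
  rw [Dp_eq hp, Dp_eq hp']
  have : rem (π ∘ e ∘ Equiv.swap a b) a = rem (π ∘ e) b := rem_swap (π ∘ e) a b hab
  rw [this, neg_one_pow_succ' (a : ℕ) b hab]
  ring

/-- Case Z: pivot of `e` at `b` and `f` also in `P + R e_a`: the value is zero. -/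
theorem Dp_swap_Z (hD : IsDetFun D) (hπf : π f = 0) (e : Fin (l + 1) → M)
    (he : IsAdmissible R M e) (a b : Fin (l + 1)) (hab : (b : ℕ) + 1 = a) (c c' : Rˣ)
    (hp : Piv f e b c) (h : f - (c' : R) • e a ∈ spanBefore R M e b) :
    Dp π f D e = 0 := by
  rw [Dp_eq hp]
  have hdep := piv_dep hπf hp
  have hbl : (b : ℕ) < l := by have := a.2; omega
  have hsa : b.succAbove ⟨b, hbl⟩ = a := by
    apply Fin.ext
    rw [val_succAbove]
    simp [hab]
  have : D (rem (π ∘ e) b) = 0 := by
    apply hD.dep _ (adm_rem _ (adm_map π e he) b hdep) ⟨b, hbl⟩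
    rw [sB_rem _ b hdep, hsa]
    simp only [rem, hsa]
    have h1 : π (e a) ∈ (spanBefore R M e b).map π := mem_map_of_unit_smul hπf c' _ _ h
    rw [← sB_map] at h1
    exact spanBefore_mono _ (by omega) h1
  rw [this, mul_zero]

/-- Case W: pivot away from the swapped positions. -/
theorem Dp_swap_W (hD : IsDetFun D) (hπf : π f = 0) (e : Fin (l + 1) → M)
    (he : IsAdmissible R M e) (a b : Fin (l + 1)) (hab : (b : ℕ) + 1 = a)
    (hcond : ∀ r ∈ maximalIdeal R, r • e a ∈ spanBefore R M e b)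
    (i : Fin (l + 1)) (c : Rˣ) (hp : Piv f e i c) (hia : i ≠ a) (hib : i ≠ b) :
    Dp π f D (e ∘ Equiv.swap a b) = - Dp π f D e := by
  have hia' : (i : ℕ) ≠ a := fun h => hia (Fin.ext h)
  have hib' : (i : ℕ) ≠ b := fun h => hib (Fin.ext h)
  have hp' : Piv f (e ∘ Equiv.swap a b) i c := by
    have h1 : spanBefore R M (e ∘ Equiv.swap a b) i = spanBefore R M e i :=
      spanBefore_swap e a b hab i (by omega)
    refine ⟨by rw [h1]; exact hp.1, ?_⟩
    rw [h1]
    simp only [Function.comp_apply, Equiv.swap_apply_of_ne_of_ne hia hib]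
    exact hp.2
  rw [Dp_eq hp, Dp_eq hp']
  obtain ⟨a', ha'⟩ := Fin.exists_succAbove_eq (Ne.symm hia)
  obtain ⟨b', hb'⟩ := Fin.exists_succAbove_eq (Ne.symm hib)
  have hab' : (b' : ℕ) + 1 = a' := by
    have h1 := congrArg Fin.val ha'
    have h2 := congrArg Fin.val hb'
    rw [val_succAbove] at h1 h2
    split_ifs at h1 h2 <;> omega
  have hdep := piv_dep hπf hp
  have hrem : rem (π ∘ e ∘ Equiv.swap a b) i = rem (π ∘ e) i ∘ Equiv.swap a' b' := by
    funext k
    simp only [rem, Function.comp_apply]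
    have := Function.Injective.swap_apply (Fin.succAbove_right_injective (p := i)) a' b' k
    rw [ha', hb'] at this
    rw [this]
  have : D (rem (π ∘ e) i ∘ Equiv.swap a' b') = - D (rem (π ∘ e) i) := by
    apply hD.swap _ (adm_rem _ (adm_map π e he) i hdep) a' b' hab'
    intro r hr
    rw [sB_rem _ i hdep b', hb', sB_map]
    refine ⟨_, hcond r hr, ?_⟩
    simp only [rem, ha', Function.comp_apply, map_smul]
  rw [hrem, this]
  ring

end Groth.Agent.Lib.Helper26.CycDetD
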