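import Mathlib
import Groth.Prelude
import Groth.Agent.Lib.Helper26.CycDetD

set_option autoImplicit false
set_option linter.style.haveILetI false
set_option linter.unusedSectionVars false
universe u v

namespace Groth.Agent.Lib.Helper26.CycDetE

open CycDet IsLocalRing H12CycDet Groth.Agent.Lib.Helper26.CycDetA Groth.Agent.Lib.Helper26.CycDetB
  Groth.Agent.Lib.Helper26.CycDetC Groth.Agent.Lib.Helper26.CycDetD

variable {R : Type u} [CommRing R] [IsLocalRing R] {M : Type v} [AddCommGroup M] [Module R M]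
  {N : Type v} [AddCommGroup N] [Module R N] {l : ℕ}

variable {π : M →ₗ[R] N} {f : M} {D : (Fin l → N) → ResidueField R}

/-- Case Y: pivot at `a` for both `e` and the swapped tuple. -/
theorem Dp_swap_Y (hD : IsDetFun D) (hπf : π f = 0) (e : Fin (l + 1) → M)
    (he : IsAdmissible R M e) (a b : Fin (l + 1)) (hab : (b : ℕ) + 1 = a)
    (hcond : ∀ r ∈ maximalIdeal R, r • e a ∈ spanBefore R M e b)
    (c : Rˣ) (hp : Piv f e a c)
    (hn : f ∉ spanBefore R M (e ∘ Equiv.swap a b) ((b : ℕ) + 1)) :
    Dp π f D (e ∘ Equiv.swap a b) = - Dp π f D e := by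
  have he' : IsAdmissible R M (e ∘ Equiv.swap a b) := isAdmissible_swap e he a b hab hcond
  have hsBb : spanBefore R M (e ∘ Equiv.swap a b) b = spanBefore R M e b :=
    spanBefore_swap e a b hab b (Or.inl le_rfl)
  have h1 := hp.2
  rw [← hab, spanBefore_succ, Submodule.mem_sup] at h1
  obtain ⟨p, hpP, z, hz, hpz⟩ := h1
  obtain ⟨β, rfl⟩ := Submodule.mem_span_singleton.mp hz
  have hea : e a ∈ spanBefore R M (e ∘ Equiv.swap a b) ((b : ℕ) + 1) := by
    have := mem_spanBefore (R := R) (e ∘ Equiv.swap a b) (j := b) (i := (b : ℕ) + 1) (by omega)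
    simpa using this
  have hβ : IsUnit β := by
    by_contra hβ
    apply hn
    have h2 : β • e b ∈ spanBefore R M e b := he b β ((IsLocalRing.mem_maximalIdeal _).mpr hβ)
    have h3 : f = (p + β • e b) + (c : R) • e a := by rw [hpz]; abel
    rw [h3]
    refine Submodule.add_mem _ ?_ (Submodule.smul_mem _ _ hea)
    apply spanBefore_mono _ (Nat.le_succ _)
    rw [hsBb]
    exact Submodule.add_mem _ hpP h2
  obtain ⟨β', rfl⟩ := hβ
  have hp' : Piv f (e ∘ Equiv.swap a b) a β' := by
    refine ⟨by rw [← hab]; exact hn, ?_⟩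
    simp only [Function.comp_apply, Equiv.swap_apply_left]
    have h3 : f - (β' : R) • e b = p + (c : R) • e a := by
      have : f = (p + (β' : R) • e b) + (c : R) • e a := by rw [hpz]; abel
      rw [this]; abel
    rw [h3, ← hab]
    refine Submodule.add_mem _ ?_ (Submodule.smul_mem _ _ hea)
    apply spanBefore_mono _ (Nat.le_succ _)
    rw [hsBb]
    exact hpP
  rw [Dp_eq hp, Dp_eq hp']
  have hdep := piv_dep hπf hp
  have hdep' := piv_dep hπf hp'
  have hbl : (b : ℕ) < l := by have := a.2; omega
  have hsa : a.succAbove ⟨b, hbl⟩ = b := by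
    apply Fin.ext
    rw [val_succAbove]
    simp [← hab]
  let u : Rˣ := -(c⁻¹ * β')
  have hu : residue R (u : R) = - ((residue R (c : R))⁻¹ * residue R (β' : R)) := by
    simp only [u, Units.val_neg, Units.val_mul, map_neg, map_mul, map_units_inv]
  have key : D (rem (π ∘ e ∘ Equiv.swap a b) a) = residue R (u : R) * D (rem (π ∘ e) a) := by
    apply hD.repl _ _ (adm_rem _ (adm_map π _ he') a hdep') (adm_rem _ (adm_map π e he) a hdep)
      ⟨b, hbl⟩ u
    · intro k hk
      simp only [rem, Function.comp_apply]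
      have h4 : a.succAbove k ≠ a := Fin.succAbove_ne a k
      have h5 : a.succAbove k ≠ b := by
        intro h
        rw [← hsa] at h
        exact hk (Fin.succAbove_right_injective h)
      rw [Equiv.swap_apply_of_ne_of_ne h4 h5]
    · rw [sB_rem _ a hdep', hsa]
      simp only [rem, hsa, Function.comp_apply, Equiv.swap_apply_right]
      have h6 : spanBefore R N (π ∘ e ∘ Equiv.swap a b) b = (spanBefore R M e b).map π := by
        have : π ∘ e ∘ Equiv.swap a b = π ∘ (e ∘ Equiv.swap a b) := rfl
        rw [this, sB_map, hsBb]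
      rw [h6]
      refine ⟨-(((c⁻¹ : Rˣ) : R) • p), Submodule.neg_mem _ (Submodule.smul_mem _ _ hpP), ?_⟩
      have h7 : p = f - (c : R) • e a - (β' : R) • e b := by rw [← hpz]; abel
      rw [h7]
      simp only [map_neg, map_smul, map_sub, hπf, u, Units.val_neg, Units.val_mul,
        smul_sub, smul_smul, neg_smul, Units.inv_mul, one_smul, smul_zero]
      abel
  rw [key, hu]
  have hc := res_ne_zero c
  have hb := res_ne_zero β'
  field_simp

theorem Dp_swap (hD : IsDetFun D) (hπf : π f = 0) (hf0 : f ≠ 0) (e : Fin (l + 1) → M)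
    (he : IsAdmissible R M e) (a b : Fin (l + 1)) (hab : (b : ℕ) + 1 = a)
    (hcond : ∀ r ∈ maximalIdeal R, r • e a ∈ spanBefore R M e b) :
    Dp π f D (e ∘ Equiv.swap a b) = - Dp π f D e := by
  have he' : IsAdmissible R M (e ∘ Equiv.swap a b) := isAdmissible_swap e he a b hab hcond
  have hsBb : spanBefore R M (e ∘ Equiv.swap a b) b = spanBefore R M e b :=
    spanBefore_swap e a b hab b (Or.inl le_rfl)
  have hee : (e ∘ Equiv.swap a b) ∘ Equiv.swap a b = e := by
    funext k
    simp
  by_cases hf : f ∈ Submodule.span R (Set.range e)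
  · obtain ⟨i, c, hp⟩ := piv_exists e he hf0 hf
    by_cases hia : i = a
    · subst hia
      by_cases hn : f ∈ spanBefore R M (e ∘ Equiv.swap i b) ((b : ℕ) + 1)
      · have hnb : f ∉ spanBefore R M (e ∘ Equiv.swap i b) b := by
          rw [hsBb]
          intro h
          exact hp.1 (spanBefore_mono e (by omega) h)
        obtain ⟨c', hc'⟩ := exists_unit_of_mem _ he' b f hn hnb
        have hp' : Piv f (e ∘ Equiv.swap i b) b c' := ⟨hnb, hc'⟩
        have hX := Dp_swap_X (π := π) (D := D) (e ∘ Equiv.swap i b) i b hab c' hp'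
          (by rw [hee, hab]; exact hp.1)
        rw [hee] at hX
        rw [hX, neg_neg]
      · exact Dp_swap_Y hD hπf e he i b hab hcond c hp hn
    · by_cases hib : i = b
      · subst hib
        by_cases hn : f ∈ spanBefore R M (e ∘ Equiv.swap a i) ((i : ℕ) + 1)
        · have hnb : f ∉ spanBefore R M (e ∘ Equiv.swap a i) i := by
            rw [hsBb]; exact hp.1
          obtain ⟨c', hc'⟩ := exists_unit_of_mem _ he' i f hn hnb
          have hp' : Piv f (e ∘ Equiv.swap a i) i c' := ⟨hnb, hc'⟩
          have hc'' : f - (c' : R) • e a ∈ spanBefore R M e i := by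
            rw [hsBb] at hc'
            simpa using hc'
          have h1 : Dp π f D e = 0 := Dp_swap_Z hD hπf e he a i hab c c' hp hc''
          have h2 : Dp π f D (e ∘ Equiv.swap a i) = 0 := by
            apply Dp_swap_Z hD hπf _ he' a i hab c' c hp'
            rw [hsBb]
            simpa using hp.2
          rw [h1, h2, neg_zero]
        · exact Dp_swap_X e a i hab c hp hn
      · exact Dp_swap_W hD hπf e he a b hab hcond i c hp hia hib
  · have hf' : f ∉ Submodule.span R (Set.range (e ∘ Equiv.swap a b)) := by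
      rw [← spanBefore_len, spanBefore_swap e a b hab (l + 1) (Or.inr a.2), spanBefore_len]
      exact hf
    rw [Dp_zero (fun ⟨i, c, hp⟩ => hf hp.mem_span), Dp_zero (fun ⟨i, c, hp⟩ => hf' hp.mem_span),
      neg_zero]

theorem isDetFun_Dp (hD : IsDetFun D) (hπf : π f = 0) (hf0 : f ≠ 0) :
    IsDetFun (R := R) (Dp π f D) where
  dep := fun e he a ha => Dp_dep hD hπf e he a ha
  repl := fun e e' he he' a u h1 h2 => Dp_repl hD hπf hf0 e e' he he' a u h1 h2
  swap := fun e he a b hab hcond => Dp_swap hD hπf hf0 e he a b hab hcond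

theorem Dp_gen (hπ : Function.Surjective π) (hπf : π f = 0) (hf0 : f ≠ 0)
    (hgen : ∀ t : Fin l → N, IsAdmissible R N t → Submodule.span R (Set.range t) = ⊤ → D t ≠ 0)
    (e : Fin (l + 1) → M) (he : IsAdmissible R M e)
    (hspan : Submodule.span R (Set.range e) = ⊤) : Dp π f D e ≠ 0 := by
  obtain ⟨i, c, hp⟩ := piv_exists e he hf0 (by rw [hspan]; trivial)
  rw [Dp_eq hp]
  have hdep := piv_dep hπf hp
  have h1 : D (rem (π ∘ e) i) ≠ 0 := by
    apply hgen _ (adm_rem _ (adm_map π e he) i hdep)
    rw [← spanBefore_len, sB_rem_ge _ i hdep l (by have := i.2; omega), sB_map, spanBefore_len,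
      hspan, Submodule.map_top, LinearMap.range_eq_top]
    exact hπ
  have h2 := res_ne_zero c
  have h3 : ((-1 : ResidueField R)) ^ (i : ℕ) ≠ 0 := pow_ne_zero _ (neg_ne_zero.mpr one_ne_zero)
  exact mul_ne_zero (mul_ne_zero h3 (inv_ne_zero h2)) h1

end Groth.Agent.Lib.Helper26.CycDetE
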