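import Mathlib
import Groth.Prelude
import Groth.Agent.Lib.Helper26.CycDetE

set_option autoImplicit false
set_option linter.style.haveILetI false
set_option linter.unusedSectionVars false
universe u v

namespace Groth.Agent.Lib.Helper26.CycDetF

open CycDet IsLocalRing H12CycDet Groth.Agent.Lib.Helper26.CycDetA Groth.Agent.Lib.Helper26.CycDetB
  Groth.Agent.Lib.Helper26.CycDetC Groth.Agent.Lib.Helper26.CycDetD
  Groth.Agent.Lib.Helper26.CycDetE

variable {R : Type u} [CommRing R] [IsLocalRing R]

/-- a nonzero socle element generating an atom, for nonzero modules of finite length. -/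
theorem exists_socle (M : Type v) [AddCommGroup M] [Module R M] (l : ℕ)
    (hlen : Module.length R M = (l + 1 : ℕ)) :
    ∃ f : M, f ≠ 0 ∧ (∀ r ∈ maximalIdeal R, r • f = 0) ∧
      Module.length R (M ⧸ Submodule.span R {f}) = l := by
  have hfin : IsFiniteLength R M := by
    rw [← Module.length_ne_top_iff, hlen]; exact ENat.natCast_ne_top _
  obtain ⟨_, hA⟩ := isFiniteLength_iff_isNoetherian_isArtinian.mp hfin
  haveI : Nontrivial M := by
    by_contra h
    rw [not_nontrivial_iff_subsingleton] at h
    have := (Module.length_eq_zero_iff (R := R) (M := M)).mpr h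
    rw [hlen] at this
    exact absurd this (by simp)
  obtain ⟨K, hK⟩ := IsAtomic.exists_atom (Submodule R M)
  obtain ⟨f, hfK, hf0⟩ := Submodule.exists_mem_ne_zero_of_ne_bot hK.1
  have hspan : Submodule.span R {f} = K := by
    have h1 : Submodule.span R {f} ≤ K := (Submodule.span_singleton_le_iff_mem f K).mpr hfK
    rcases hK.le_iff.mp h1 with h | h
    · exact absurd ((Submodule.span_singleton_eq_bot).mp h) hf0
    · exact h
  refine ⟨f, hf0, ?_, ?_⟩
  · intro r hr
    by_contra hrf
    have h1 : Submodule.span R {r • f} ≤ K :=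
      (Submodule.span_singleton_le_iff_mem _ K).mpr (K.smul_mem r hfK)
    rcases hK.le_iff.mp h1 with h | h
    · exact hrf ((Submodule.span_singleton_eq_bot).mp h)
    · have h2 : f ∈ Submodule.span R {r • f} := by rw [h]; exact hfK
      obtain ⟨s, hs⟩ := Submodule.mem_span_singleton.mp h2
      have h3 : (1 - s * r) • f = 0 := by
        rw [sub_smul, one_smul, mul_smul, hs, sub_self]
      have h4 : IsUnit (1 - s * r) := by
        have : s * r ∈ maximalIdeal R := Ideal.mul_mem_left _ s hr
        by_contra hu
        have h5 : 1 - s * r ∈ maximalIdeal R := (IsLocalRing.mem_maximalIdeal _).mpr hu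
        have h6 : (1 : R) ∈ maximalIdeal R := by
          have := Ideal.add_mem _ h5 this
          simp at this
        exact (Ideal.ne_top_iff_one _).mp (IsLocalRing.maximalIdeal.isMaximal R).ne_top h6
      obtain ⟨w, hw⟩ := h4
      apply hf0
      have := congrArg (fun x => ((w⁻¹ : Rˣ) : R) • x) h3
      simp only [smul_zero, ← hw, smul_smul, Units.inv_mul, one_smul] at this
      exact this
  · rw [hspan]
    have h1 := Module.length_eq_add_of_exact K.subtype K.mkQ K.subtype_injective
      (Submodule.mkQ_surjective K) (by rw [LinearMap.exact_iff, Submodule.ker_mkQ,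
        Submodule.range_subtype])
    have h2 : Module.length R K = 1 := by
      rw [Module.length_eq_one_iff]
      exact isSimpleModule_iff_isAtom.mpr hK
    rw [hlen, h2] at h1
    have h3 : ((l + 1 : ℕ) : ℕ∞) = 1 + (l : ℕ∞) := by push_cast; rw [add_comm]
    rw [h3] at h1
    exact (ENat.add_right_injective_of_ne_top ENat.one_ne_top h1).symm

theorem exists_detFun : ∀ (l : ℕ) (M : Type v) [AddCommGroup M] [Module R M],
    Module.length R M = l →
    ∃ D : (Fin l → M) → ResidueField R, IsDetFun D ∧
      ∀ t, IsAdmissible R M t → Submodule.span R (Set.range t) = ⊤ → D t ≠ 0 := by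
  intro l
  induction l with
  | zero =>
    intro M _ _ _
    refine ⟨fun _ => 1, ⟨fun _ _ a => a.elim0, fun _ _ _ _ a => a.elim0,
      fun _ _ a => a.elim0⟩, fun _ _ _ => one_ne_zero⟩
  | succ l ih =>
    intro M _ _ hlen
    obtain ⟨f, hf0, hfm, hl⟩ := exists_socle M l hlen
    obtain ⟨D, hD, hgen⟩ := ih (M ⧸ Submodule.span R {f}) hl
    have hπf : (Submodule.span R {f}).mkQ f = 0 := by
      rw [Submodule.mkQ_apply, Submodule.Quotient.mk_eq_zero]
      exact Submodule.mem_span_singleton_self f
    refine ⟨Dp (Submodule.span R {f}).mkQ f D, isDetFun_Dp hD hπf hf0, ?_⟩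
    intro t ht hspan
    exact Dp_gen (Submodule.mkQ_surjective _) hπf hf0 hgen t ht hspan

theorem main_1839 (R : Type u) [CommRing R] [IsLocalRing R] (M : Type v) [AddCommGroup M]
    [Module R M] (hM : IsFiniteLength R M) (e : CycDet.Adm R M (Module.length R M).toNat)
    (he : Submodule.span R (Set.range e.1) = ⊤) : CycDet.symbol R M e ≠ 0 := by
  have hlen : Module.length R M = ((Module.length R M).toNat : ℕ∞) :=
    (ENat.natCast_toNat (Module.length_ne_top_iff.mpr hM)).symm
  obtain ⟨D, hD, hgen⟩ := exists_detFun _ M hlen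
  let ψ : Free R M (Module.length R M).toNat →ₗ[ResidueField R] ResidueField R :=
    Finsupp.linearCombination (ResidueField R) (fun e : Adm R M (Module.length R M).toNat => D e.1)
  have hψ : ∀ e : Adm R M (Module.length R M).toNat, ψ (sym R M e) = D e.1 := by
    intro e
    simp [ψ, sym, Finsupp.linearCombination_single]
  have hker : Submodule.span (ResidueField R) (relSet R M (Module.length R M).toNat) ≤
      LinearMap.ker ψ := by
    rw [Submodule.span_le]
    rintro x ((⟨e, a, ha, rfl⟩ | ⟨e, e', a, c, h1, h2, rfl⟩) | ⟨e, e', a, b, hab, hcond, h', rfl⟩)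
    · rw [SetLike.mem_coe, LinearMap.mem_ker, hψ]
      exact hD.dep e.1 e.2 a ha
    · rw [SetLike.mem_coe, LinearMap.mem_ker, map_sub, map_smul, hψ, hψ,
        hD.repl e.1 e'.1 e.2 e'.2 a c h1 h2, smul_eq_mul, sub_self]
    · rw [SetLike.mem_coe, LinearMap.mem_ker, map_add, hψ, hψ, h',
        hD.swap e.1 e.2 a b hab hcond, add_neg_cancel]
  intro h0
  have h1 : sym R M e ∈ Submodule.span (ResidueField R) (relSet R M (Module.length R M).toNat) :=
    (Submodule.Quotient.mk_eq_zero _).mp h0
  have h2 := hker h1
  rw [LinearMap.mem_ker, hψ] at h2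
  exact hgen e.1 e.2 he h2

end Groth.Agent.Lib.Helper26.CycDetF
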