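import Mathlib
import Groth.Prelude
import Groth.Agent.Lib.Helper26.CycDetF

set_option autoImplicit false
set_option linter.style.haveILetI false
set_option linter.unusedSectionVars false
universe u v

namespace Groth.Agent.Lib.Helper26.CycDetG

open CycDet IsLocalRing H12CycDet Groth.Agent.Lib.Helper26.CycDetA Groth.Agent.Lib.Helper26.CycDetB
  Groth.Agent.Lib.Helper26.CycDetC Groth.Agent.Lib.Helper26.CycDetD
  Groth.Agent.Lib.Helper26.CycDetE Groth.Agent.Lib.Helper26.CycDetF

variable {R : Type u} [CommRing R] [IsLocalRing R] {M : Type v} [AddCommGroup M] [Module R M]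
  {l : ℕ}

/-- the functional on `DetOfLen` induced by a determinant function. -/
noncomputable def detFunctional {D : (Fin l → M) → ResidueField R} (hD : IsDetFun D) :
    DetOfLen R M l →ₗ[ResidueField R] ResidueField R :=
  Submodule.liftQ _ (Finsupp.linearCombination (ResidueField R) (fun e : Adm R M l => D e.1)) (by
    rw [Submodule.span_le]
    rintro x ((⟨e, a, ha, rfl⟩ | ⟨e, e', a, c, h1, h2, rfl⟩) | ⟨e, e', a, b, hab, hcond, h', rfl⟩)
    · rw [SetLike.mem_coe, LinearMap.mem_ker, sym, Finsupp.linearCombination_single, one_smul]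
      exact hD.dep e.1 e.2 a ha
    · rw [SetLike.mem_coe, LinearMap.mem_ker, map_sub, map_smul, sym, sym,
        Finsupp.linearCombination_single, Finsupp.linearCombination_single, one_smul, one_smul,
        hD.repl e.1 e'.1 e.2 e'.2 a c h1 h2, smul_eq_mul, sub_self]
    · rw [SetLike.mem_coe, LinearMap.mem_ker, map_add, sym, sym,
        Finsupp.linearCombination_single, Finsupp.linearCombination_single, one_smul, one_smul, h',
        hD.swap e.1 e.2 a b hab hcond, add_neg_cancel])

theorem detFunctional_symb {D : (Fin l → M) → ResidueField R} (hD : IsDetFun D) (e : Adm R M l) :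
    detFunctional hD (symb e) = D e.1 := by
  unfold detFunctional symb
  rw [Submodule.liftQ_apply, sym, Finsupp.linearCombination_single, one_smul]

/-- two determinant functions are proportional. -/
theorem proportional (hM : IsFiniteLength R M) (hl : (l : ℕ∞) = Module.length R M)
    {D D' : (Fin l → M) → ResidueField R} (hD : IsDetFun D) (hD' : IsDetFun D')
    (t₀ : Fin l → M) (ht₀ : IsAdmissible R M t₀) (hne : D t₀ ≠ 0) :
    ∀ t, IsAdmissible R M t → D' t = (D' t₀ / D t₀) * D t := by
  intro t ht
  by_cases hdep : ∃ a : Fin l, t a ∈ spanBefore R M t a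
  · obtain ⟨a, ha⟩ := hdep
    rw [hD.dep t ht a ha, hD'.dep t ht a ha, mul_zero]
  · push Not at hdep
    let e : Adm R M l := ⟨t, ht⟩
    let e₀ : Adm R M l := ⟨t₀, ht₀⟩
    have hgen := span_eq_top_of_good hM hl e hdep
    have hfg : ∀ a : Fin l, e₀.1 a ∉ spanBefore R M e₀.1 a := by
      intro a ha
      exact hne (hD.dep t₀ ht₀ a ha)
    obtain ⟨r, hr⟩ := elim e₀ hfg l 0 (by omega) e hgen (fun j hj => by omega)
    have h1 : detFunctional hD (symb e) = r • detFunctional hD (symb e₀) := by
      rw [hr, map_smul]
    have h2 : detFunctional hD' (symb e) = r • detFunctional hD' (symb e₀) := by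
      rw [hr, map_smul]
    rw [detFunctional_symb, detFunctional_symb, smul_eq_mul] at h1 h2
    change D t = r * D t₀ at h1
    change D' t = r * D' t₀ at h2
    rw [h1, h2]
    field_simp

theorem sB_cons (f : M) (u : Fin l → M) (j : ℕ) :
    spanBefore R M (Fin.cons f u : Fin (l + 1) → M) (j + 1) =
      Submodule.span R {f} ⊔ spanBefore R M u j := by
  unfold spanBefore
  rw [← Submodule.span_union]
  congr 1
  ext z
  constructor
  · rintro ⟨c, hc, rfl⟩
    have hc' : (c : ℕ) < j + 1 := hc
    induction c using Fin.cases with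
    | zero => left; simp
    | succ k =>
      right
      refine ⟨k, ?_, by simp⟩
      show (k : ℕ) < j
      simp at hc'
      exact hc'
  · rintro (h | ⟨k, hk, rfl⟩)
    · rw [Set.mem_singleton_iff] at h
      exact ⟨0, by show ((0 : Fin (l + 1)) : ℕ) < j + 1; simp, by simp [h]⟩
    · have hk' : (k : ℕ) < j := hk
      exact ⟨k.succ, by show ((k.succ : Fin (l + 1)) : ℕ) < j + 1; simp; exact hk', by simp⟩

/-- existence of a generating admissible tuple of length `length M`. -/
theorem exists_gen : ∀ (l : ℕ) (M : Type v) [AddCommGroup M] [Module R M],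
    Module.length R M = l →
    ∃ t : Fin l → M, IsAdmissible R M t ∧ Submodule.span R (Set.range t) = ⊤ := by
  intro l
  induction l with
  | zero =>
    intro M _ _ hlen
    have : Subsingleton M := Module.length_eq_zero_iff.mp (by rw [hlen]; rfl)
    exact ⟨fun i => i.elim0, fun i => i.elim0, Subsingleton.elim _ _⟩
  | succ l ih =>
    intro M _ _ hlen
    obtain ⟨f, hf0, hfm, hl⟩ := exists_socle M l hlen
    obtain ⟨t, ht, hgen⟩ := ih (M ⧸ Submodule.span R {f}) hl
    let s : (M ⧸ Submodule.span R {f}) → M := Function.surjInv (Submodule.mkQ_surjective _)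
    have hs : ∀ x, (Submodule.span R {f}).mkQ (s x) = x :=
      Function.surjInv_eq (Submodule.mkQ_surjective _)
    have hπu : (Submodule.span R {f}).mkQ ∘ (s ∘ t) = t := by
      funext k; exact hs _
    have key : ∀ (j : ℕ) (z : M), (Submodule.span R {f}).mkQ z ∈
        spanBefore R (M ⧸ Submodule.span R {f}) t j →
        z ∈ Submodule.span R {f} ⊔ spanBefore R M (s ∘ t) j := by
      intro j z hz
      rw [← hπu, sB_map, ← Submodule.mem_comap, Submodule.comap_map_eq, Submodule.ker_mkQ] at hz
      rwa [sup_comm]
    refine ⟨Fin.cons f (s ∘ t), ?_, ?_⟩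
    · intro c r hr
      induction c using Fin.cases with
      | zero =>
        simp only [Fin.cons_zero, Fin.val_zero]
        rw [hfm r hr]
        exact Submodule.zero_mem _
      | succ k =>
        simp only [Fin.cons_succ, Fin.val_succ]
        rw [sB_cons]
        apply key
        rw [map_smul]
        have := ht k r hr
        rwa [Function.comp_apply, hs]
    · rw [← spanBefore_len, sB_cons, eq_top_iff]
      intro z _
      apply key
      rw [spanBefore_len, hgen]
      trivial

theorem detFunctional_bijective (hM : IsFiniteLength R M)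
    {D : (Fin (Module.length R M).toNat → M) → ResidueField R} (hD : IsDetFun D)
    (hgen : ∀ t, IsAdmissible R M t → Submodule.span R (Set.range t) = ⊤ → D t ≠ 0) :
    Function.Bijective (detFunctional hD) := by
  have hlen : Module.length R M = ((Module.length R M).toNat : ℕ∞) :=
    (ENat.natCast_toNat (Module.length_ne_top_iff.mpr hM)).symm
  obtain ⟨t₀, ht₀, hg₀⟩ := exists_gen _ M hlen
  obtain ⟨v₀, hv₀⟩ := rank_le_one_iff.mp (H12CycDet.main (R := R) (M := M) hM)
  have hψ0 : detFunctional hD v₀ ≠ 0 := by
    intro h0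
    obtain ⟨r, hr⟩ := hv₀ (symb (⟨t₀, ht₀⟩ : Adm R M (Module.length R M).toNat))
    have h1 := detFunctional_symb hD (⟨t₀, ht₀⟩ : Adm R M (Module.length R M).toNat)
    rw [← hr, map_smul, h0, smul_zero] at h1
    exact hgen t₀ ht₀ hg₀ h1.symm
  constructor
  · rw [injective_iff_map_eq_zero]
    intro v hv
    obtain ⟨r, rfl⟩ := hv₀ v
    rw [map_smul, smul_eq_mul, mul_eq_zero] at hv
    rcases hv with h | h
    · rw [h, zero_smul]
    · exact absurd h hψ0
  · intro c
    refine ⟨(c / detFunctional hD v₀) • v₀, ?_⟩
    rw [map_smul, smul_eq_mul]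
    field_simp

end Groth.Agent.Lib.Helper26.CycDetG
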