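import Mathlib
import Groth.Prelude
import Groth.Agent.Lib.Helper26.CycDetG

set_option autoImplicit false
set_option linter.style.haveILetI false
set_option linter.unusedSectionVars false
universe u v

namespace Groth.Agent.Lib.Helper26.CycDetH

open CycDet IsLocalRing H12CycDet Groth.Agent.Lib.Helper26.CycDetA Groth.Agent.Lib.Helper26.CycDetB
  Groth.Agent.Lib.Helper26.CycDetC Groth.Agent.Lib.Helper26.CycDetG

variable {R : Type u} [CommRing R] [IsLocalRing R] {L : Type v} [AddCommGroup L] [Module R L]
  {M : Type v} [AddCommGroup M] [Module R M] {a b : ℕ}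

theorem sB_append_le (x : Fin a → L) (y : Fin b → L) (j : ℕ) (hj : j ≤ a) :
    spanBefore R L (Fin.append x y) j = spanBefore R L x j := by
  unfold spanBefore
  congr 1
  ext z
  constructor
  · rintro ⟨c, hc, rfl⟩
    have hc' : (c : ℕ) < j := hc
    induction c using Fin.addCases with
    | left i => exact ⟨i, hc', by rw [Fin.append_left]⟩
    | right k => simp at hc'; omega
  · rintro ⟨i, hi, rfl⟩
    exact ⟨Fin.castAdd b i, hi, by rw [Fin.append_left]⟩

theorem sB_append_ge (x : Fin a → L) (y : Fin b → L) (j : ℕ) :
    spanBefore R L (Fin.append x y) (a + j) =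
      Submodule.span R (Set.range x) ⊔ spanBefore R L y j := by
  unfold spanBefore
  rw [← Submodule.span_union]
  congr 1
  ext z
  constructor
  · rintro ⟨c, hc, rfl⟩
    have hc' : (c : ℕ) < a + j := hc
    induction c using Fin.addCases with
    | left i => left; exact ⟨i, by rw [Fin.append_left]⟩
    | right k =>
      right
      refine ⟨k, ?_, by rw [Fin.append_right]⟩
      show (k : ℕ) < j
      simp at hc'
      exact hc'
  · rintro (⟨i, rfl⟩ | ⟨k, hk, rfl⟩)
    · refine ⟨Fin.castAdd b i, ?_, by rw [Fin.append_left]⟩
      show ((Fin.castAdd b i : Fin (a + b)) : ℕ) < a + j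
      simp; omega
    · have hk' : (k : ℕ) < j := hk
      refine ⟨Fin.natAdd a k, ?_, by rw [Fin.append_right]⟩
      show ((Fin.natAdd a k : Fin (a + b)) : ℕ) < a + j
      simp; exact hk'

variable (g : L →ₗ[R] M)

theorem mem_of_map_mem (y : Fin b → L) (z : L) (j : ℕ)
    (h : g z ∈ spanBefore R M (g ∘ y) j) : z ∈ LinearMap.ker g ⊔ spanBefore R L y j := by
  rw [sB_map, ← Submodule.mem_comap, Submodule.comap_map_eq] at h
  rwa [sup_comm]

variable {g}

theorem adm_append (x : Fin a → L) (hx : IsAdmissible R L x)
    (hX : Submodule.span R (Set.range x) = LinearMap.ker g) (y : Fin b → L)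
    (hy : IsAdmissible R M (g ∘ y)) : IsAdmissible R L (Fin.append x y) := by
  intro c r hr
  induction c using Fin.addCases with
  | left i =>
    rw [Fin.append_left]
    show r • x i ∈ spanBefore R L (Fin.append x y) (i : ℕ)
    rw [sB_append_le x y i (by have := i.2; omega)]
    exact hx i r hr
  | right k =>
    rw [Fin.append_right]
    show r • y k ∈ spanBefore R L (Fin.append x y) (a + (k : ℕ))
    rw [sB_append_ge, hX]
    apply mem_of_map_mem g
    rw [map_smul]
    exact hy k r hr

variable {D : (Fin (a + b) → L) → ResidueField R}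

theorem F_dep (hD : IsDetFun D) (x : Fin a → L) (hx : IsAdmissible R L x)
    (hX : Submodule.span R (Set.range x) = LinearMap.ker g) (y : Fin b → L)
    (hy : IsAdmissible R M (g ∘ y)) (k : Fin b)
    (hk : (g ∘ y) k ∈ spanBefore R M (g ∘ y) k) : D (Fin.append x y) = 0 := by
  apply hD.dep _ (adm_append x hx hX y hy) (Fin.natAdd a k)
  rw [Fin.append_right]
  show y k ∈ spanBefore R L (Fin.append x y) (a + (k : ℕ))
  rw [sB_append_ge, hX]
  exact mem_of_map_mem g y _ _ hk

theorem F_repl (hD : IsDetFun D) (x : Fin a → L) (hx : IsAdmissible R L x)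
    (hX : Submodule.span R (Set.range x) = LinearMap.ker g) (y y' : Fin b → L)
    (hy : IsAdmissible R M (g ∘ y)) (hy' : IsAdmissible R M (g ∘ y')) (k : Fin b) (c : Rˣ)
    (h1 : ∀ j, j ≠ k → y j = y' j)
    (h2 : g (y k) - (c : R) • g (y' k) ∈ spanBefore R M (g ∘ y) k) :
    D (Fin.append x y) = residue R (c : R) * D (Fin.append x y') := by
  apply hD.repl _ _ (adm_append x hx hX y hy) (adm_append x hx hX y' hy') (Fin.natAdd a k) c
  · intro c' hc'
    induction c' using Fin.addCases with
    | left i => rw [Fin.append_left, Fin.append_left]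
    | right j =>
      rw [Fin.append_right, Fin.append_right]
      apply h1
      intro h
      exact hc' (by rw [h])
  · rw [Fin.append_right, Fin.append_right]
    show y k - (c : R) • y' k ∈ spanBefore R L (Fin.append x y) (a + (k : ℕ))
    rw [sB_append_ge, hX]
    apply mem_of_map_mem g
    rw [map_sub, map_smul]
    exact h2

theorem append_swap (x : Fin a → L) (y : Fin b → L) (k k' : Fin b) :
    Fin.append x (y ∘ Equiv.swap k k') =
      Fin.append x y ∘ Equiv.swap (Fin.natAdd a k) (Fin.natAdd a k') := by
  funext c
  induction c using Fin.addCases with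
  | left i =>
    have h1 : Fin.castAdd b i ≠ Fin.natAdd a k := by
      intro h
      have := congrArg Fin.val h
      simp at this
      have := i.2
      omega
    have h2 : Fin.castAdd b i ≠ Fin.natAdd a k' := by
      intro h
      have := congrArg Fin.val h
      simp at this
      have := i.2
      omega
    rw [Function.comp_apply, Equiv.swap_apply_of_ne_of_ne h1 h2, Fin.append_left, Fin.append_left]
  | right j =>
    have hinj : Function.Injective (Fin.natAdd a : Fin b → Fin (a + b)) := by
      intro p q h
      have := congrArg Fin.val h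
      simp at this
      exact Fin.ext this
    have h3 := Function.Injective.swap_apply hinj k k' j
    rw [Function.comp_apply, h3, Fin.append_right, Fin.append_right, Function.comp_apply]

theorem F_swap (hD : IsDetFun D) (x : Fin a → L) (hx : IsAdmissible R L x)
    (hX : Submodule.span R (Set.range x) = LinearMap.ker g) (y : Fin b → L)
    (hy : IsAdmissible R M (g ∘ y)) (k k' : Fin b) (hkk : (k' : ℕ) + 1 = k)
    (hcond : ∀ r ∈ maximalIdeal R, r • (g ∘ y) k ∈ spanBefore R M (g ∘ y) k') :
    D (Fin.append x (y ∘ Equiv.swap k k')) = - D (Fin.append x y) := by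
  rw [append_swap]
  apply hD.swap _ (adm_append x hx hX y hy) (Fin.natAdd a k) (Fin.natAdd a k')
  · simp; omega
  · intro r hr
    rw [Fin.append_right]
    show r • y k ∈ spanBefore R L (Fin.append x y) (a + (k' : ℕ))
    rw [sB_append_ge, hX]
    apply mem_of_map_mem g
    rw [map_smul]
    exact hcond r hr

/-- `F` depends only on the image tuple. -/
theorem F_congr (hD : IsDetFun D) (x : Fin a → L) (hx : IsAdmissible R L x)
    (hX : Submodule.span R (Set.range x) = LinearMap.ker g) (y y' : Fin b → L)
    (hy : IsAdmissible R M (g ∘ y)) (hyy : g ∘ y' = g ∘ y) :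
    D (Fin.append x y') = D (Fin.append x y) := by
  have key : ∀ n : ℕ, n ≤ b →
      D (Fin.append x (fun j : Fin b => if (j : ℕ) < n then y' j else y j)) =
        D (Fin.append x y) := by
    intro n
    induction n with
    | zero =>
      intro _
      simp
    | succ n ih =>
      intro hn
      rw [← ih (by omega)]
      have hg1 : ∀ m : ℕ, g ∘ (fun j : Fin b => if (j : ℕ) < m then y' j else y j) = g ∘ y := by
        intro m
        funext j
        simp only [Function.comp_apply]
        split_ifs
        · exact congrFun hyy j
        · rfl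
      have := F_repl hD x hx hX (fun j : Fin b => if (j : ℕ) < n + 1 then y' j else y j)
        (fun j : Fin b => if (j : ℕ) < n then y' j else y j)
        (by rw [hg1]; exact hy) (by rw [hg1]; exact hy) ⟨n, by omega⟩ 1
        (by
          intro j hj
          have hj' : (j : ℕ) ≠ n := fun h => hj (Fin.ext h)
          by_cases h : (j : ℕ) < n
          · rw [if_pos h, if_pos (by omega)]
          · rw [if_neg h, if_neg (by omega)])
        (by
          simp only [lt_add_iff_pos_right, zero_lt_one, if_true, lt_self_iff_false, if_false,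
            Units.val_one, one_smul]
          have : g (y' ⟨n, by omega⟩) = g (y ⟨n, by omega⟩) := congrFun hyy _
          rw [this, sub_self]
          exact Submodule.zero_mem _)
      rw [this, Units.val_one, map_one, one_mul]
  have := key b le_rfl
  have h1 : (fun j : Fin b => if (j : ℕ) < b then y' j else y j) = y' := by
    funext j
    rw [if_pos j.2]
  rwa [h1] at this

theorem gen_append (x : Fin a → L)
    (hX : Submodule.span R (Set.range x) = LinearMap.ker g) (y : Fin b → L)
    (hy : Submodule.span R (Set.range (g ∘ y)) = ⊤) :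
    Submodule.span R (Set.range (Fin.append x y)) = ⊤ := by
  rw [← spanBefore_len, sB_append_ge, hX, eq_top_iff]
  intro z _
  apply mem_of_map_mem g
  rw [spanBefore_len, hy]
  trivial

end Groth.Agent.Lib.Helper26.CycDetH
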