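import Mathlib
import Groth.Prelude
import Groth.Agent.Lib.Helper26.CycDetH

set_option autoImplicit false
set_option linter.style.haveILetI false
set_option linter.unusedSectionVars false
universe u v

namespace Groth.Agent.Lib.Helper26.CycDetI

open CycDet IsLocalRing H12CycDet Groth.Agent.Lib.Helper26.CycDetA Groth.Agent.Lib.Helper26.CycDetB
  Groth.Agent.Lib.Helper26.CycDetC Groth.Agent.Lib.Helper26.CycDetG
  Groth.Agent.Lib.Helper26.CycDetH Groth.Agent.Lib.Helper26.CycDetF

variable {R : Type u} [CommRing R] [IsLocalRing R] {K : Type v} [AddCommGroup K] [Module R K]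
  {L : Type v} [AddCommGroup L] [Module R L]
  {M : Type v} [AddCommGroup M] [Module R M] {a b : ℕ}

variable {f : K →ₗ[R] L} {g : L →ₗ[R] M} {D : (Fin (a + b) → L) → ResidueField R}

theorem isDetFun_E (hD : IsDetFun D) (x : Fin a → L) (hx : IsAdmissible R L x)
    (hX : Submodule.span R (Set.range x) = LinearMap.ker g) (s : M → L)
    (hs : ∀ m, g (s m) = m) :
    IsDetFun (R := R) (fun eM : Fin b → M => D (Fin.append x (s ∘ eM))) := by
  have hgs : ∀ eM : Fin b → M, g ∘ (s ∘ eM) = eM := by
    intro eM; funext j; exact hs _
  refine ⟨?_, ?_, ?_⟩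
  · intro t ht k hk
    exact F_dep hD x hx hX (s ∘ t) (by rw [hgs]; exact ht) k (by rw [hgs]; exact hk)
  · intro t t' ht ht' k c h1 h2
    apply F_repl hD x hx hX (s ∘ t) (s ∘ t') (by rw [hgs]; exact ht) (by rw [hgs]; exact ht') k c
    · intro j hj
      simp only [Function.comp_apply, h1 j hj]
    · rw [hgs]
      simp only [Function.comp_apply, hs]
      exact h2
  · intro t ht k k' hkk hcond
    have : s ∘ (t ∘ Equiv.swap k k') = (s ∘ t) ∘ Equiv.swap k k' := rfl
    show D (Fin.append x (s ∘ (t ∘ Equiv.swap k k'))) = - D (Fin.append x (s ∘ t))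
    rw [this]
    apply F_swap hD x hx hX (s ∘ t) (by rw [hgs]; exact ht) k k' hkk
    rw [hgs]
    exact hcond

theorem span_range_comp (hfg : LinearMap.range f = LinearMap.ker g) (t : Fin a → K)
    (ht : Submodule.span R (Set.range t) = ⊤) :
    Submodule.span R (Set.range (f ∘ t)) = LinearMap.ker g := by
  rw [Set.range_comp, ← Submodule.map_span, ht, Submodule.map_top, hfg]

theorem append_swap_left (x : Fin a → L) (y : Fin b → L) (k k' : Fin a) :
    Fin.append (x ∘ Equiv.swap k k') y =
      Fin.append x y ∘ Equiv.swap (Fin.castAdd b k) (Fin.castAdd b k') := by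
  funext c
  induction c using Fin.addCases with
  | left j =>
    have hinj : Function.Injective (Fin.castAdd b : Fin a → Fin (a + b)) := by
      intro p q h
      have := congrArg Fin.val h
      simp at this
      exact Fin.ext this
    have h3 := Function.Injective.swap_apply hinj k k' j
    rw [Function.comp_apply, h3, Fin.append_left, Fin.append_left, Function.comp_apply]
  | right i =>
    have h1 : Fin.natAdd a i ≠ Fin.castAdd b k := by
      intro h
      have := congrArg Fin.val h
      simp at this
      have := k.2
      omega
    have h2 : Fin.natAdd a i ≠ Fin.castAdd b k' := by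
      intro h
      have := congrArg Fin.val h
      simp at this
      have := k'.2
      omega
    rw [Function.comp_apply, Equiv.swap_apply_of_ne_of_ne h1 h2, Fin.append_right,
      Fin.append_right]

open Classical in
theorem isDetFun_G (hD : IsDetFun D) (hfg : LinearMap.range f = LinearMap.ker g)
    (y : Fin b → L) (hy : IsAdmissible R M (g ∘ y)) :
    IsDetFun (R := R) (fun eK : Fin a → K =>
      if Submodule.span R (Set.range eK) = ⊤ then D (Fin.append (f ∘ eK) y) else 0) := by
  refine ⟨?_, ?_, ?_⟩
  · intro t ht i hi
    by_cases hgen : Submodule.span R (Set.range t) = ⊤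
    · simp only [if_pos hgen]
      have hX := span_range_comp hfg t hgen
      apply hD.dep _ (adm_append (f ∘ t) (adm_map f t ht) hX y hy) (Fin.castAdd b i)
      rw [Fin.append_left]
      show f (t i) ∈ spanBefore R L (Fin.append (f ∘ t) y) (i : ℕ)
      rw [sB_append_le _ _ i (by have := i.2; omega), sB_map]
      exact ⟨_, hi, rfl⟩
    · simp only [if_neg hgen]
  · intro t t' ht ht' i c h1 h2
    have hsB := sB_eq_of_repl t t' i c h1 h2 a
    rw [spanBefore_len, spanBefore_len] at hsB
    by_cases hgen : Submodule.span R (Set.range t) = ⊤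
    · have hgen' : Submodule.span R (Set.range t') = ⊤ := by rw [← hsB]; exact hgen
      simp only [if_pos hgen, if_pos hgen']
      have hX := span_range_comp hfg t hgen
      have hX' := span_range_comp hfg t' hgen'
      apply hD.repl _ _ (adm_append (f ∘ t) (adm_map f t ht) hX y hy)
        (adm_append (f ∘ t') (adm_map f t' ht') hX' y hy) (Fin.castAdd b i) c
      · intro c' hc'
        induction c' using Fin.addCases with
        | left j =>
          rw [Fin.append_left, Fin.append_left, Function.comp_apply, Function.comp_apply, h1]
          intro h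
          exact hc' (by rw [h])
        | right k => rw [Fin.append_right, Fin.append_right]
      · rw [Fin.append_left, Fin.append_left]
        show f (t i) - (c : R) • f (t' i) ∈ spanBefore R L (Fin.append (f ∘ t) y) (i : ℕ)
        rw [sB_append_le _ _ i (by have := i.2; omega), sB_map]
        exact ⟨_, h2, by simp⟩
    · have hgen' : ¬ Submodule.span R (Set.range t') = ⊤ := by rw [← hsB]; exact hgen
      simp only [if_neg hgen, if_neg hgen', mul_zero]
  · intro t ht i i' hii hcond
    have hr : Set.range (t ∘ Equiv.swap i i') = Set.range t :=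
      (Equiv.swap i i').surjective.range_comp t
    by_cases hgen : Submodule.span R (Set.range t) = ⊤
    · have hgen' : Submodule.span R (Set.range (t ∘ Equiv.swap i i')) = ⊤ := by rw [hr]; exact hgen
      simp only [if_pos hgen, if_pos hgen']
      have hX := span_range_comp hfg t hgen
      have : f ∘ t ∘ Equiv.swap i i' = (f ∘ t) ∘ Equiv.swap i i' := rfl
      rw [this, append_swap_left]
      apply hD.swap _ (adm_append (f ∘ t) (adm_map f t ht) hX y hy) (Fin.castAdd b i)
        (Fin.castAdd b i')
      · simp; exact hii
      · intro r hr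
        rw [Fin.append_left]
        show r • f (t i) ∈ spanBefore R L (Fin.append (f ∘ t) y) (i' : ℕ)
        rw [sB_append_le _ _ i' (by have := i'.2; omega), sB_map]
        exact ⟨_, hcond r hr, by simp⟩
    · have hgen' : ¬ Submodule.span R (Set.range (t ∘ Equiv.swap i i')) = ⊤ := by
        rw [hr]; exact hgen
      simp only [if_neg hgen, if_neg hgen', neg_zero]

end Groth.Agent.Lib.Helper26.CycDetI
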