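import Mathlib
import Groth.Prelude
import Groth.Agent.Lib.Helper26.CycDetI

set_option autoImplicit false
set_option linter.style.haveILetI false
set_option linter.unusedSectionVars false
universe u v

namespace Groth.Agent.Lib.Helper26.CycDetJ

open CycDet IsLocalRing H12CycDet Groth.Agent.Lib.Helper26.CycDetA Groth.Agent.Lib.Helper26.CycDetB
  Groth.Agent.Lib.Helper26.CycDetC Groth.Agent.Lib.Helper26.CycDetG
  Groth.Agent.Lib.Helper26.CycDetH Groth.Agent.Lib.Helper26.CycDetF
  Groth.Agent.Lib.Helper26.CycDetI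

variable {R : Type u} [CommRing R] [IsLocalRing R] {K : Type v} [AddCommGroup K] [Module R K]
  {L : Type v} [AddCommGroup L] [Module R L]
  {M : Type v} [AddCommGroup M] [Module R M] {a b : ℕ}

open Classical in
theorem mult (hK : IsFiniteLength R K) (hM : IsFiniteLength R M)
    (ha : Module.length R K = a) (hb : Module.length R M = b)
    (f : K →ₗ[R] L) (g : L →ₗ[R] M) (hg : Function.Surjective g)
    (hfg : LinearMap.range f = LinearMap.ker g)
    {DK : (Fin a → K) → ResidueField R} {DM : (Fin b → M) → ResidueField R}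
    {DL : (Fin (a + b) → L) → ResidueField R}
    (hDK : IsDetFun DK) (hDM : IsDetFun DM) (hDL : IsDetFun DL)
    (genK : ∀ t, IsAdmissible R K t → Submodule.span R (Set.range t) = ⊤ → DK t ≠ 0)
    (genM : ∀ t, IsAdmissible R M t → Submodule.span R (Set.range t) = ⊤ → DM t ≠ 0)
    (genL : ∀ t, IsAdmissible R L t → Submodule.span R (Set.range t) = ⊤ → DL t ≠ 0) :
    ∃ lam : ResidueField R, lam ≠ 0 ∧ ∀ (eK : Fin a → K) (eM : Fin b → M) (eL : Fin (a + b) → L),
      IsAdmissible R K eK → Submodule.span R (Set.range eK) = ⊤ → IsAdmissible R M eM →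
      (∀ i, eL (Fin.castAdd b i) = f (eK i)) → (∀ j, g (eL (Fin.natAdd a j)) = eM j) →
      DL eL = lam * (DK eK * DM eM) := by
  obtain ⟨tK, htK, hgK⟩ := exists_gen a K ha
  obtain ⟨tM, htM, hgM⟩ := exists_gen b M hb
  let s : M → L := Function.surjInv hg
  have hs : ∀ m, g (s m) = m := Function.surjInv_eq hg
  have hgs : ∀ eM : Fin b → M, g ∘ (s ∘ eM) = eM := by
    intro eM; funext j; exact hs _
  have hy0 : IsAdmissible R M (g ∘ (s ∘ tM)) := by rw [hgs]; exact htM
  have hG := isDetFun_G (a := a) hDL hfg (s ∘ tM) hy0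
  have hpK := proportional hK ha.symm hDK hG tK htK (genK tK htK hgK)
  have hXK := span_range_comp hfg tK hgK
  have hw0 : DL (Fin.append (f ∘ tK) (s ∘ tM)) ≠ 0 := by
    apply genL _ (adm_append _ (adm_map f tK htK) hXK _ hy0)
    apply gen_append _ hXK
    rw [hgs]; exact hgM
  have hdK := genK tK htK hgK
  have hdM := genM tM htM hgM
  refine ⟨DL (Fin.append (f ∘ tK) (s ∘ tM)) / (DK tK * DM tM), ?_, ?_⟩
  · exact div_ne_zero hw0 (mul_ne_zero hdK hdM)
  · intro eK eM eL heK hgenK heM h1 h2
    have hX := span_range_comp hfg eK hgenK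
    have hE := isDetFun_E (b := b) hDL (f ∘ eK) (adm_map f eK heK) hX s hs
    have hpM := proportional hM hb.symm hDM hE tM htM hdM eM heM
    have hGe := hpK eK heK
    simp only [if_pos hgenK, if_pos hgK] at hGe
    -- rewrite eL as an append
    have heL : eL = Fin.append (f ∘ eK) (fun j => eL (Fin.natAdd a j)) := by
      funext c
      induction c using Fin.addCases with
      | left i => rw [Fin.append_left, h1, Function.comp_apply]
      | right j => rw [Fin.append_right]
    have hcongr : DL eL = DL (Fin.append (f ∘ eK) (s ∘ eM)) := by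
      rw [heL]
      apply F_congr hDL (f ∘ eK) (adm_map f eK heK) hX (s ∘ eM) (fun j => eL (Fin.natAdd a j))
        (by rw [hgs]; exact heM)
      rw [hgs]
      funext j
      exact h2 j
    rw [hcongr, hpM, hGe]
    field_simp

theorem mult_cast (n : ℕ) (hn : a + b = n) (hK : IsFiniteLength R K) (hM : IsFiniteLength R M)
    (ha : Module.length R K = a) (hb : Module.length R M = b)
    (f : K →ₗ[R] L) (g : L →ₗ[R] M) (hg : Function.Surjective g)
    (hfg : LinearMap.range f = LinearMap.ker g)
    {DK : (Fin a → K) → ResidueField R} {DM : (Fin b → M) → ResidueField R}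
    {DL : (Fin n → L) → ResidueField R}
    (hDK : IsDetFun DK) (hDM : IsDetFun DM) (hDL : IsDetFun DL)
    (genK : ∀ t, IsAdmissible R K t → Submodule.span R (Set.range t) = ⊤ → DK t ≠ 0)
    (genM : ∀ t, IsAdmissible R M t → Submodule.span R (Set.range t) = ⊤ → DM t ≠ 0)
    (genL : ∀ t, IsAdmissible R L t → Submodule.span R (Set.range t) = ⊤ → DL t ≠ 0) :
    ∃ lam : ResidueField R, lam ≠ 0 ∧ ∀ (eK : Fin a → K) (eM : Fin b → M) (eL : Fin n → L),
      IsAdmissible R K eK → Submodule.span R (Set.range eK) = ⊤ → IsAdmissible R M eM →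
      (∀ i, eL (Fin.cast hn (Fin.castAdd b i)) = f (eK i)) →
      (∀ j, g (eL (Fin.cast hn (Fin.natAdd a j))) = eM j) →
      DL eL = lam * (DK eK * DM eM) := by
  subst hn
  simp only [Fin.cast_eq_self]
  exact mult hK hM ha hb f g hg hfg hDK hDM hDL genK genM genL

end Groth.Agent.Lib.Helper26.CycDetJ
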