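import Mathlib
import Groth.Prelude
import Groth.Agent.Lib.Helper26.CycDetJ

set_option autoImplicit false
set_option linter.style.haveILetI false
set_option linter.unusedSectionVars false
universe u v

namespace Groth.Agent.Lib.Helper26.CycDetK

open CycDet IsLocalRing H12CycDet Groth.Agent.Lib.Helper26.CycDetA Groth.Agent.Lib.Helper26.CycDetB
  Groth.Agent.Lib.Helper26.CycDetC Groth.Agent.Lib.Helper26.CycDetG
  Groth.Agent.Lib.Helper26.CycDetH Groth.Agent.Lib.Helper26.CycDetF
  Groth.Agent.Lib.Helper26.CycDetI Groth.Agent.Lib.Helper26.CycDetJ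
open TensorProduct

theorem main_1854 (R : Type u) [CommRing R] [IsLocalRing R] (K L M : Type u) [AddCommGroup K]
    [Module R K] [AddCommGroup L] [Module R L] [AddCommGroup M] [Module R M]
    (hK : IsFiniteLength R K) (hM : IsFiniteLength R M) (f : K →ₗ[R] L) (g : L →ₗ[R] M)
    (hf : Function.Injective f) (hg : Function.Surjective g)
    (hfg : LinearMap.range f = LinearMap.ker g)
    (hlen : (Module.length R K).toNat + (Module.length R M).toNat = (Module.length R L).toNat) :
    ∃ γ : (CycDet.Det R K ⊗[IsLocalRing.ResidueField R] CycDet.Det R M) ≃ₗ[IsLocalRing.ResidueField R]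
        CycDet.Det R L,
      ∀ (eK : CycDet.Adm R K (Module.length R K).toNat)
        (eM : CycDet.Adm R M (Module.length R M).toNat)
        (eL : CycDet.Adm R L (Module.length R L).toNat), CycDet.symbol R K eK ≠ 0 →
        (∀ i : Fin (Module.length R K).toNat,
          eL.1 (Fin.cast hlen (Fin.castAdd (Module.length R M).toNat i)) = f (eK.1 i)) →
        (∀ j : Fin (Module.length R M).toNat,
          g (eL.1 (Fin.cast hlen (Fin.natAdd (Module.length R K).toNat j))) = eM.1 j) →
        γ (CycDet.symbol R K eK ⊗ₜ CycDet.symbol R M eM) = CycDet.symbol R L eL := by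
  have hexact : Function.Exact f g := by
    rw [LinearMap.exact_iff]; exact hfg.symm
  have hLlen := Module.length_eq_add_of_exact f g hf hg hexact
  have hL : IsFiniteLength R L := by
    rw [← Module.length_ne_top_iff, hLlen]
    exact WithTop.add_ne_top.mpr ⟨Module.length_ne_top_iff.mpr hK, Module.length_ne_top_iff.mpr hM⟩
  have hlK : Module.length R K = ((Module.length R K).toNat : ℕ∞) :=
    (ENat.natCast_toNat (Module.length_ne_top_iff.mpr hK)).symm
  have hlM : Module.length R M = ((Module.length R M).toNat : ℕ∞) :=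
    (ENat.natCast_toNat (Module.length_ne_top_iff.mpr hM)).symm
  have hlL : Module.length R L = ((Module.length R L).toNat : ℕ∞) :=
    (ENat.natCast_toNat (Module.length_ne_top_iff.mpr hL)).symm
  obtain ⟨DK, hDK, genK⟩ := exists_detFun _ K hlK
  obtain ⟨DM, hDM, genM⟩ := exists_detFun _ M hlM
  obtain ⟨DL, hDL, genL⟩ := exists_detFun _ L hlL
  obtain ⟨lam, hlam, hmult⟩ := mult_cast _ hlen hK hM hlK hlM f g hg hfg hDK hDM hDL genK genM genL
  let ψK : CycDet.Det R K ≃ₗ[ResidueField R] ResidueField R :=
    LinearEquiv.ofBijective (detFunctional hDK) (detFunctional_bijective hK hDK genK)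
  let ψM : CycDet.Det R M ≃ₗ[ResidueField R] ResidueField R :=
    LinearEquiv.ofBijective (detFunctional hDM) (detFunctional_bijective hM hDM genM)
  let ψL : CycDet.Det R L ≃ₗ[ResidueField R] ResidueField R :=
    LinearEquiv.ofBijective (detFunctional hDL) (detFunctional_bijective hL hDL genL)
  refine ⟨(TensorProduct.congr ψK ψM).trans ((TensorProduct.lid (ResidueField R)
    (ResidueField R)).trans ((LinearEquiv.smulOfNeZero (ResidueField R) (ResidueField R) lam
      hlam).trans ψL.symm)), ?_⟩
  intro eK eM eL hne h1 h2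
  have hgenK : Submodule.span R (Set.range eK.1) = ⊤ := by
    apply span_eq_top_of_good hK hlK.symm eK
    intro a ha
    apply hne
    exact symb_zero_of_dep eK a ha
  have hm := hmult eK.1 eM.1 eL.1 eK.2 hgenK eM.2 h1 h2
  have hψK : ψK (CycDet.symbol R K eK) = DK eK.1 := detFunctional_symb hDK eK
  have hψM : ψM (CycDet.symbol R M eM) = DM eM.1 := detFunctional_symb hDM eM
  have hψL : ψL (CycDet.symbol R L eL) = DL eL.1 := detFunctional_symb hDL eL
  apply ψL.injective
  rw [hψL, hm]
  simp only [LinearEquiv.trans_apply, TensorProduct.congr_tmul, TensorProduct.lid_tmul,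
    LinearEquiv.apply_symm_apply, hψK, hψM, LinearEquiv.smulOfNeZero_apply, smul_eq_mul]

end Groth.Agent.Lib.Helper26.CycDetK
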