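import Mathlib
import Groth.Prelude
import Groth.Agent.Lib.Helper12.MultFormula

set_option autoImplicit false
set_option linter.style.haveILetI false
set_option linter.unusedSectionVars false
universe u

namespace Groth.Agent.Lib.Helper26.CycFilt

open Groth.Agent.Lib.Helper12.MultFormula

variable (R : Type u) [CommRing R] [IsLocalRing R] (M : Type u) [AddCommGroup M] [Module R M]

theorem spanBefore_mono {l : ℕ} (x : Fin l → M) {i j : ℕ} (h : i ≤ j) :
    CycDet.spanBefore R M x i ≤ CycDet.spanBefore R M x j := by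
  apply Submodule.span_mono
  apply Set.image_mono
  intro k hk
  exact lt_of_lt_of_le hk h

theorem spanBefore_zero {l : ℕ} (x : Fin l → M) : CycDet.spanBefore R M x 0 = ⊥ := by
  unfold CycDet.spanBefore
  simp

theorem spanBefore_top {l : ℕ} (x : Fin l → M) :
    CycDet.spanBefore R M x l = Submodule.span R (Set.range x) := by
  unfold CycDet.spanBefore
  congr 1
  ext m
  simp

variable {R M}

/-- additivity of `ell` for `A ≤ B`. -/
theorem ell_sub (p : Ideal R) [p.IsPrime] (A B : Submodule R M) (h : A ≤ B) :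
    ell p B = ell p A + ell p (B ⧸ A.submoduleOf B) := by
  apply ell_add p (Submodule.inclusion h) (A.submoduleOf B).mkQ (Submodule.inclusion_injective h)
    (Submodule.mkQ_surjective _)
  rw [LinearMap.exact_iff, Submodule.ker_mkQ, Submodule.range_inclusion]
  rfl

theorem ell_total (p : Ideal R) [p.IsPrime] (A : Submodule R M) :
    ell p M = ell p A + ell p (M ⧸ A) := by
  apply ell_add p A.subtype A.mkQ A.subtype_injective (Submodule.mkQ_surjective _)
  rw [LinearMap.exact_iff, Submodule.ker_mkQ, Submodule.range_subtype]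

theorem ell_bot (p : Ideal R) [p.IsPrime] : ell p (⊥ : Submodule R M) = 0 := by
  unfold ell
  rw [Module.length_eq_zero_iff]
  infer_instance

theorem part2 (q : PrimeSpectrum R) (l : ℕ) (x : Fin l → M)
    (h1 : q ∉ Module.support R (M ⧸ Submodule.span R (Set.range x)))
    (h2 : ∀ i : Fin l, Nonempty ((↥(CycDet.spanBefore R M x (i + 1)) ⧸
      (CycDet.spanBefore R M x i).submoduleOf (CycDet.spanBefore R M x (i + 1))) ≃ₗ[R]
        (R ⧸ q.asIdeal))) :
    (l : ℕ∞) = Module.length (Localization.AtPrime q.asIdeal)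
      (LocalizedModule q.asIdeal.primeCompl M) := by
  have key : ∀ i : ℕ, i ≤ l → ell q.asIdeal (CycDet.spanBefore R M x i) = i := by
    intro i
    induction i with
    | zero =>
      intro _
      rw [spanBefore_zero, ell_bot]; rfl
    | succ i ih =>
      intro hi
      rw [ell_sub q.asIdeal _ _ (spanBefore_mono R M x (Nat.le_succ i)), ih (by omega)]
      obtain ⟨e⟩ := h2 ⟨i, hi⟩
      rw [ell_congr q.asIdeal e, ell_quot_self]
      push_cast
      rfl
  have h3 := ell_total q.asIdeal (Submodule.span R (Set.range x))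
  rw [← spanBefore_top, key l le_rfl, spanBefore_top, ell_eq_zero q.asIdeal h1, add_zero] at h3
  exact h3.symm


theorem spanBefore_top' {l : ℕ} (x : Fin l → M) :
    CycDet.spanBefore R M x l = Submodule.span R (Set.range x) := by
  unfold CycDet.spanBefore
  congr 1
  ext m
  simp

theorem exists_assoc (q : PrimeSpectrum R) [IsNoetherianRing R] [Module.Finite R M]
    (hq : Minimal (fun p : PrimeSpectrum R => p ∈ Module.support R M) q)
    (N : Submodule R M) (hN : q ∈ Module.support R (M ⧸ N)) :
    ∃ m : M, ∀ r : R, r • m ∈ N ↔ r ∈ q.asIdeal := by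
  have h1 : q.asIdeal ∈ (Module.annihilator R (M ⧸ N)).minimalPrimes := by
    rw [Module.support_eq_zeroLocus] at hN
    refine ⟨⟨q.2, hN⟩, ?_⟩
    rintro p ⟨hp, hpa⟩ hpq
    have : (⟨p, hp⟩ : PrimeSpectrum R) ∈ Module.support R (M ⧸ N) := by
      rw [Module.support_eq_zeroLocus]; exact hpa
    have h2 := Module.support_subset_of_surjective N.mkQ (Submodule.mkQ_surjective _) this
    exact hq.2 h2 hpq
  have h2 := Module.associatedPrimes.minimalPrimes_annihilator_subset_associatedPrimes R (M ⧸ N) h1
  rw [AssociatedPrimes.mem_iff, isAssociatedPrime_iff] at h2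
  obtain ⟨_, y, hy⟩ := h2
  obtain ⟨m, rfl⟩ := Submodule.mkQ_surjective N y
  refine ⟨m, fun r => ?_⟩
  rw [hy, Submodule.mem_colon_singleton, Submodule.mem_bot, ← map_smul, Submodule.mkQ_apply,
    Submodule.Quotient.mk_eq_zero]

theorem quot_equiv (q : Ideal R) (N : Submodule R M) (m : M) (hm : ∀ r, r • m ∈ N ↔ r ∈ q)
    (A : Submodule R M) (hA : A = N ⊔ Submodule.span R {m}) :
    Nonempty ((A ⧸ N.submoduleOf A) ≃ₗ[R] R ⧸ q) := by
  have hmA : m ∈ A := by
    rw [hA]; exact Submodule.mem_sup_right (Submodule.mem_span_singleton_self m)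
  let f : R →ₗ[R] (A ⧸ N.submoduleOf A) :=
    (N.submoduleOf A).mkQ ∘ₗ LinearMap.toSpanSingleton R A ⟨m, hmA⟩
  have hf : Function.Surjective f := by
    intro y
    obtain ⟨⟨a, ha⟩, rfl⟩ := Submodule.mkQ_surjective _ y
    have ha' := ha
    rw [hA, Submodule.mem_sup] at ha'
    obtain ⟨n, hn, z, hz, rfl⟩ := ha'
    obtain ⟨r, rfl⟩ := Submodule.mem_span_singleton.mp hz
    refine ⟨r, ?_⟩
    simp only [f, LinearMap.comp_apply, LinearMap.toSpanSingleton_apply, Submodule.mkQ_apply]
    rw [Submodule.Quotient.eq]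
    show _ ∈ N
    simpa using hn
  have hk : LinearMap.ker f = q := by
    ext r
    rw [LinearMap.mem_ker, ← hm r]
    simp only [f, LinearMap.comp_apply, LinearMap.toSpanSingleton_apply, Submodule.mkQ_apply]
    rw [Submodule.Quotient.mk_eq_zero]
    rfl
  exact ⟨((Submodule.quotEquivOfEq _ _ hk).symm.trans (f.quotKerEquivOfSurjective hf)).symm⟩

theorem spanBefore_snoc_le {l : ℕ} (x : Fin l → M) (m : M) (i : ℕ) (hi : i ≤ l) :
    CycDet.spanBefore R M (Fin.snoc x m : Fin (l + 1) → M) i = CycDet.spanBefore R M x i := by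
  unfold CycDet.spanBefore
  congr 1
  ext z
  constructor
  · rintro ⟨j, hj, rfl⟩
    have hj' : (j : ℕ) < i := hj
    have : (j : ℕ) < l := by omega
    refine ⟨⟨j, this⟩, hj', ?_⟩
    exact (Fin.snoc_castSucc (α := fun _ => M) m x ⟨j, this⟩).symm
  · rintro ⟨j, hj, rfl⟩
    refine ⟨Fin.castSucc j, hj, ?_⟩
    rw [Fin.snoc_castSucc]

theorem spanBefore_snoc_last {l : ℕ} (x : Fin l → M) (m : M) :
    CycDet.spanBefore R M (Fin.snoc x m : Fin (l + 1) → M) (l + 1) =
      Submodule.span R (Set.range x) ⊔ Submodule.span R {m} := by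
  rw [spanBefore_top' (Fin.snoc x m : Fin (l + 1) → M), Fin.range_snoc, ← Submodule.span_union,
    Set.union_comm, Set.singleton_union]

theorem part1_aux (q : PrimeSpectrum R) [IsNoetherianRing R] [Module.Finite R M]
    (hq : Minimal (fun p : PrimeSpectrum R => p ∈ Module.support R M) q) :
    ∀ N : Submodule R M, ∀ (l : ℕ) (x : Fin l → M), Submodule.span R (Set.range x) = N →
      (∀ i : Fin l, Nonempty ((↥(CycDet.spanBefore R M x (i + 1)) ⧸
        (CycDet.spanBefore R M x i).submoduleOf (CycDet.spanBefore R M x (i + 1))) ≃ₗ[R]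
          (R ⧸ q.asIdeal))) →
      ∃ (l' : ℕ) (x' : Fin l' → M),
        q ∉ Module.support R (M ⧸ Submodule.span R (Set.range x')) ∧
        ∀ i : Fin l', Nonempty ((↥(CycDet.spanBefore R M x' (i + 1)) ⧸
          (CycDet.spanBefore R M x' i).submoduleOf (CycDet.spanBefore R M x' (i + 1))) ≃ₗ[R]
            (R ⧸ q.asIdeal)) := by
  haveI : IsNoetherian R M := inferInstance
  intro N
  induction N using WellFoundedGT.induction with
  | ind N ih =>
    intro l x hx h2
    by_cases hN : q ∈ Module.support R (M ⧸ N)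
    · obtain ⟨m, hm⟩ := exists_assoc q hq N hN
      have hmN : m ∉ N := by
        intro h
        have := (hm 1).mp (by rwa [one_smul])
        exact q.2.ne_top ((Ideal.eq_top_iff_one _).mpr this)
      have hlt : N < N ⊔ Submodule.span R {m} := by
        refine lt_of_le_of_ne le_sup_left ?_
        intro h
        apply hmN
        rw [h]
        exact Submodule.mem_sup_right (Submodule.mem_span_singleton_self m)
      refine ih (N ⊔ Submodule.span R {m}) hlt (l + 1) (Fin.snoc x m : Fin (l + 1) → M) ?_ ?_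
      · rw [← spanBefore_top', spanBefore_snoc_last, hx]
      · intro i
        by_cases hi : (i : ℕ) < l
        · rw [spanBefore_snoc_le x m _ (show (i : ℕ) + 1 ≤ l by omega),
            spanBefore_snoc_le x m _ (show (i : ℕ) ≤ l by omega)]
          exact h2 ⟨i, hi⟩
        · have hil : (i : ℕ) = l := by have := i.2; omega
          rw [hil, spanBefore_snoc_last, spanBefore_snoc_le x m _ le_rfl, spanBefore_top', hx]
          exact quot_equiv q.asIdeal N m hm _ rfl
    · exact ⟨l, x, by rw [hx]; exact hN, h2⟩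

theorem part1 (q : PrimeSpectrum R) [IsNoetherianRing R] [Module.Finite R M]
    (hq : Minimal (fun p : PrimeSpectrum R => p ∈ Module.support R M) q) :
    ∃ (l : ℕ) (x : Fin l → M),
        q ∉ Module.support R (M ⧸ Submodule.span R (Set.range x)) ∧
        ∀ i : Fin l, Nonempty ((↥(CycDet.spanBefore R M x (i + 1)) ⧸
          (CycDet.spanBefore R M x i).submoduleOf (CycDet.spanBefore R M x (i + 1))) ≃ₗ[R]
            (R ⧸ q.asIdeal)) := by
  refine part1_aux q hq ⊥ 0 (fun i => i.elim0) ?_ (fun i => i.elim0)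
  simp

theorem main_1852 (R : Type u) [CommRing R] [IsNoetherianRing R] [IsLocalRing R] (M : Type u)
    [AddCommGroup M] [Module R M] [Module.Finite R M] (q : PrimeSpectrum R)
    (hq : Minimal (fun p : PrimeSpectrum R => p ∈ Module.support R M) q) :
    (∃ (l : ℕ) (x : Fin l → M), q ∉ Module.support R (M ⧸ Submodule.span R (Set.range x)) ∧
      ∀ i : Fin l, Nonempty ((↥(CycDet.spanBefore R M x (i + 1)) ⧸
        (CycDet.spanBefore R M x i).submoduleOf (CycDet.spanBefore R M x (i + 1))) ≃ₗ[R]
          (R ⧸ q.asIdeal))) ∧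
    ∀ (l : ℕ) (x : Fin l → M), q ∉ Module.support R (M ⧸ Submodule.span R (Set.range x)) →
      (∀ i : Fin l, Nonempty ((↥(CycDet.spanBefore R M x (i + 1)) ⧸
        (CycDet.spanBefore R M x i).submoduleOf (CycDet.spanBefore R M x (i + 1))) ≃ₗ[R]
          (R ⧸ q.asIdeal))) →
      (l : ℕ∞) = Module.length (Localization.AtPrime q.asIdeal)
        (LocalizedModule q.asIdeal.primeCompl M) :=
  ⟨part1 q hq, fun l x h1 h2 => part2 q l x h1 h2⟩

end Groth.Agent.Lib.Helper26.CycFilt
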