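import Mathlib
import Groth.Prelude
import Groth.Agent.Lib.Helper26.CycDetK

set_option autoImplicit false
set_option linter.style.haveILetI false
set_option linter.unusedSectionVars false
universe u v

namespace Groth.Agent.Lib.Helper26.CycGoodA

open CycDet IsLocalRing H12CycDet

section Rmod

variable {R : Type u} [CommRing R] [IsLocalRing R] {V : Type v} [AddCommGroup V] [Module R V]
  {n : ℕ} (q : Ideal R)

/-- `e` is a good tuple: the successive quotients of the `R`-spans are `R/q` via `1 ↦ e i`. -/
def Good (e : Fin n → V) : Prop :=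
  ∀ i : Fin n, ∀ r : R, r • e i ∈ spanBefore R V e i ↔ r ∈ q

variable {q}

theorem Good.sat [q.IsPrime] {e : Fin n → V} (he : Good q e) {s : R} (hs : s ∉ q) :
    ∀ k j : ℕ, j ≤ k → k ≤ n → ∀ v : V, v ∈ spanBefore R V e k → s • v ∈ spanBefore R V e j →
      v ∈ spanBefore R V e j := by
  intro k
  induction k with
  | zero =>
    intro j hj _ v hv _
    have : j = 0 := by omega
    rw [this]; exact hv
  | succ k ih =>
    intro j hj hk v hv hsv
    rcases Nat.lt_or_ge j (k + 1) with hlt | hge
    · have hjk : j ≤ k := by omega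
      have hv' := hv
      rw [show k + 1 = ((⟨k, by omega⟩ : Fin n) : ℕ) + 1 from rfl, spanBefore_succ,
        Submodule.mem_sup] at hv'
      obtain ⟨u, hu, z, hz, rfl⟩ := hv'
      obtain ⟨r, rfl⟩ := Submodule.mem_span_singleton.mp hz
      have h1 : (s * r) • e ⟨k, by omega⟩ ∈ spanBefore R V e k := by
        have h2 : (s * r) • e ⟨k, by omega⟩ = s • (u + r • e ⟨k, by omega⟩) - s • u := by
          rw [smul_add, mul_smul]; abel
        rw [h2]
        exact Submodule.sub_mem _ (spanBefore_mono e hjk hsv) (Submodule.smul_mem _ _ hu)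
      have h3 : s * r ∈ q := (he ⟨k, by omega⟩ (s * r)).mp h1
      have h4 : r ∈ q := (Ideal.IsPrime.mem_or_mem inferInstance h3).resolve_left hs
      have h5 : r • e ⟨k, by omega⟩ ∈ spanBefore R V e k := (he ⟨k, by omega⟩ r).mpr h4
      exact ih j hjk (by omega) _ (Submodule.add_mem _ hu h5) hsv
    · have : j = k + 1 := by omega
      rw [this]; exact hv

/-- triangular change of a good tuple -/
theorem Good.tri [q.IsPrime] {e : Fin n → V} (he : Good q e) (e' : Fin n → V) (f : Fin n → R)
    (hf : ∀ j, f j ∉ q) (htri : ∀ j : Fin n, e' j - f j • e j ∈ spanBefore R V e j)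
    (hcl : ∀ j : Fin n, ∀ r ∈ q, r • e' j ∈ spanBefore R V e' j) :
    Good q e' ∧ ∀ j : ℕ, spanBefore R V e' j ≤ spanBefore R V e j := by
  have hle : ∀ j : ℕ, spanBefore R V e' j ≤ spanBefore R V e j := by
    intro j
    apply Submodule.span_le.mpr
    rintro _ ⟨k, hk, rfl⟩
    have hk' : (k : ℕ) < j := hk
    have h1 : e' k = (e' k - f k • e k) + f k • e k := by abel
    rw [h1]
    apply spanBefore_mono e (show (k : ℕ) + 1 ≤ j by omega)
    exact Submodule.add_mem _ (spanBefore_mono e (Nat.le_succ _) (htri k))
      (Submodule.smul_mem _ _ (mem_spanBefore e (Nat.lt_succ_self _)))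
  refine ⟨fun j r => ⟨fun h => ?_, fun h => hcl j r h⟩, hle⟩
  have h1 : r • e' j ∈ spanBefore R V e j := hle j h
  have h2 : (r * f j) • e j ∈ spanBefore R V e j := by
    have : (r * f j) • e j = r • e' j - r • (e' j - f j • e j) := by
      rw [smul_sub, mul_smul]; abel
    rw [this]
    exact Submodule.sub_mem _ h1 (Submodule.smul_mem _ _ (htri j))
  have h3 := (he j _).mp h2
  exact (Ideal.IsPrime.mem_or_mem inferInstance h3).resolve_right (hf j)

/-- swapping adjacent entries of a good tuple -/
theorem Good.swap {e : Fin n → V} (he : Good q e) (c b : Fin n) (hbc : (b : ℕ) + 1 = c)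
    (h : ∀ r ∈ q, r • e c ∈ spanBefore R V e b) : Good q (e ∘ Equiv.swap c b) := by
  intro j r
  by_cases hjc : j = c
  · subst hjc
    simp only [Function.comp_apply, Equiv.swap_apply_left]
    have hsB : spanBefore R V (e ∘ Equiv.swap j b) j =
        spanBefore R V e b ⊔ Submodule.span R {e j} := by
      rw [← hbc, spanBefore_succ, spanBefore_swap e j b hbc b (Or.inl le_rfl)]
      simp
    rw [hsB]
    constructor
    · intro hr
      rw [Submodule.mem_sup] at hr
      obtain ⟨u, hu, z, hz, huz⟩ := hr
      obtain ⟨r', rfl⟩ := Submodule.mem_span_singleton.mp hz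
      have h1 : r' • e j ∈ spanBefore R V e j := by
        have : r' • e j = r • e b - u := by rw [← huz]; abel
        rw [this, ← hbc, spanBefore_succ]
        exact Submodule.sub_mem _ (Submodule.mem_sup_right (Submodule.smul_mem _ _
          (Submodule.mem_span_singleton_self _))) (Submodule.mem_sup_left hu)
      have h2 : r' ∈ q := (he j r').mp h1
      have h3 : r • e b ∈ spanBefore R V e b := by
        rw [← huz]
        exact Submodule.add_mem _ hu (h r' h2)
      exact (he b r).mp h3
    · intro hr
      exact Submodule.mem_sup_left ((he b r).mpr hr)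
  · by_cases hjb : j = b
    · subst hjb
      simp only [Function.comp_apply, Equiv.swap_apply_right]
      rw [spanBefore_swap e c j hbc j (Or.inl le_rfl)]
      constructor
      · intro hr
        exact (he c r).mp (spanBefore_mono e (by omega) hr)
      · intro hr
        exact h r hr
    · simp only [Function.comp_apply, Equiv.swap_apply_of_ne_of_ne hjc hjb]
      have hj : (j : ℕ) ≤ b ∨ (c : ℕ) < j := by
        have h1 : (j : ℕ) ≠ c := fun h => hjc (Fin.ext h)
        have h2 : (j : ℕ) ≠ b := fun h => hjb (Fin.ext h)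
        omega
      rw [spanBefore_swap e c b hbc j hj]
      exact he j r

end Rmod

section Smod

variable {R : Type u} [CommRing R] [IsLocalRing R] (q : Ideal R) [q.IsPrime]
  {V : Type v} [AddCommGroup V] [Module R V] [Module (Localization.AtPrime q) V]
  [IsScalarTower R (Localization.AtPrime q) V] {n : ℕ}

theorem exists_smul_mem_span (T : Set V) (v : V)
    (hv : v ∈ Submodule.span (Localization.AtPrime q) T) :
    ∃ s : R, s ∉ q ∧ s • v ∈ Submodule.span R T := by
  induction hv using Submodule.span_induction with
  | mem x hx => exact ⟨1, fun h => (Ideal.IsPrime.ne_top inferInstance)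
      ((Ideal.eq_top_iff_one q).mpr h), by rw [one_smul]; exact Submodule.subset_span hx⟩
  | zero => exact ⟨1, fun h => (Ideal.IsPrime.ne_top inferInstance)
      ((Ideal.eq_top_iff_one q).mpr h), by rw [smul_zero]; exact Submodule.zero_mem _⟩
  | add x y _ _ hx hy =>
    obtain ⟨s1, hs1, h1⟩ := hx
    obtain ⟨s2, hs2, h2⟩ := hy
    refine ⟨s1 * s2, fun h => (Ideal.IsPrime.mem_or_mem inferInstance h).elim hs1 hs2, ?_⟩
    have : (s1 * s2) • (x + y) = s2 • (s1 • x) + s1 • (s2 • y) := by
      rw [smul_add, mul_smul, mul_smul, smul_comm s1 s2 x]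
    rw [this]
    exact Submodule.add_mem _ (Submodule.smul_mem _ _ h1) (Submodule.smul_mem _ _ h2)
  | smul a x _ hx =>
    obtain ⟨s, hs, h1⟩ := hx
    obtain ⟨r, s', rfl⟩ := IsLocalization.exists_mk'_eq q.primeCompl a
    refine ⟨(s' : R) * s, fun h => (Ideal.IsPrime.mem_or_mem inferInstance h).elim s'.2 hs, ?_⟩
    have : ((s' : R) * s) • (IsLocalization.mk' (Localization.AtPrime q) r s' • x) = r • (s • x) := by
      rw [← algebraMap_smul (Localization.AtPrime q) ((s' : R) * s), smul_smul, map_mul,
        mul_comm (algebraMap R (Localization.AtPrime q) (s' : R)), mul_assoc,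
        mul_comm _ (IsLocalization.mk' _ r s'), IsLocalization.mk'_spec, ← map_mul,
        algebraMap_smul, mul_comm, mul_smul]
    rw [this]
    exact Submodule.smul_mem _ _ h1

variable {q}

theorem Good.isAdmissible {e : Fin n → V} (he : Good q e) :
    IsAdmissible (Localization.AtPrime q) V e := by
  intro i x hx
  obtain ⟨r, s, rfl⟩ := IsLocalization.exists_mk'_eq q.primeCompl x
  rw [IsLocalization.AtPrime.mk'_mem_maximal_iff (Localization.AtPrime q) q] at hx
  have h1 : r • e i ∈ spanBefore R V e i := (he i r).mpr hx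
  have h2 : r • e i ∈ spanBefore (Localization.AtPrime q) V e i :=
    Submodule.span_le_restrictScalars R (Localization.AtPrime q) _ h1
  have h3 : IsLocalization.mk' (Localization.AtPrime q) r s • e i =
      IsLocalization.mk' (Localization.AtPrime q) 1 s • (r • e i) := by
    rw [← algebraMap_smul (Localization.AtPrime q) r, smul_smul, mul_comm,
      ← IsLocalization.mk'_eq_mul_mk'_one]
  rw [h3]
  exact Submodule.smul_mem _ _ h2

theorem Good.not_dep {e : Fin n → V} (he : Good q e) (i : Fin n) :
    e i ∉ spanBefore (Localization.AtPrime q) V e i := by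
  intro h
  obtain ⟨s, hs, hsv⟩ := exists_smul_mem_span q _ _ h
  exact hs ((he i s).mp hsv)

theorem Good.span_eq_top {e : Fin n → V} (he : Good q e)
    (hlen : (n : ℕ∞) = Module.length (Localization.AtPrime q) V) :
    Submodule.span (Localization.AtPrime q) (Set.range e) = ⊤ := by
  have hM : IsFiniteLength (Localization.AtPrime q) V := by
    rw [← Module.length_ne_top_iff, ← hlen]; exact ENat.natCast_ne_top _
  exact span_eq_top_of_good hM hlen ⟨e, he.isAdmissible⟩ he.not_dep

end Smod

end Groth.Agent.Lib.Helper26.CycGoodA
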