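import Mathlib
import Groth.Prelude
import Groth.Agent.Lib.Helper26.CycGoodA
import Groth.Agent.Lib.Helper26.FracLength

set_option autoImplicit false
set_option linter.style.haveILetI false
set_option linter.unusedSectionVars false
universe u v w

namespace Groth.Agent.Lib.Helper26.CycGoodB

open CycDet IsLocalRing H12CycDet Function
open Groth.Agent.Lib.Helper26.RelLength Groth.Agent.Lib.Helper26.CycGoodA
open scoped Pointwise

section proj

variable {A : Type u} [CommRing A] {V : Type v} [AddCommGroup V] [Module A V]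
  {V' : Type w} [AddCommGroup V'] [Module A V']

/-- relative length along a projection -/
theorem rl_proj (π : V →ₗ[A] V') {N M : Submodule A V} (h : N ≤ M) :
    rl N M = rl (N ⊓ LinearMap.ker π) (M ⊓ LinearMap.ker π) + rl (N.map π) (M.map π) := by
  set K := LinearMap.ker π with hK
  have h1 : ((N ⊓ K).submoduleOf (M ⊓ K)) ≤
      (N.submoduleOf M).comap (Submodule.inclusion (inf_le_left : M ⊓ K ≤ M)) := by
    intro x hx
    exact hx.1
  have h2 : N.submoduleOf M ≤ ((N.map π).submoduleOf (M.map π)).comap (π.submoduleMap M) := by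
    intro x hx
    exact ⟨x, hx, rfl⟩
  let f : (↥(M ⊓ K) ⧸ (N ⊓ K).submoduleOf (M ⊓ K)) →ₗ[A] (↥M ⧸ N.submoduleOf M) :=
    Submodule.mapQ _ _ (Submodule.inclusion inf_le_left) h1
  let g : (↥M ⧸ N.submoduleOf M) →ₗ[A] (↥(M.map π) ⧸ (N.map π).submoduleOf (M.map π)) :=
    Submodule.mapQ _ _ (π.submoduleMap M) h2
  have hfmk : ∀ x : ↥(M ⊓ K), f (Submodule.Quotient.mk x) =
      Submodule.Quotient.mk (Submodule.inclusion inf_le_left x) := fun x => rfl
  have hgmk : ∀ x : M, g (Submodule.Quotient.mk x) = Submodule.Quotient.mk (π.submoduleMap M x) :=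
    fun x => rfl
  have hf : Injective f := by
    rw [← LinearMap.ker_eq_bot, LinearMap.ker_eq_bot']
    intro x hx
    obtain ⟨x, rfl⟩ := Submodule.mkQ_surjective _ x
    rw [Submodule.mkQ_apply, hfmk, Submodule.Quotient.mk_eq_zero] at hx
    rw [Submodule.mkQ_apply, Submodule.Quotient.mk_eq_zero]
    exact ⟨hx, x.2.2⟩
  have hg : Surjective g := by
    intro y
    obtain ⟨y, rfl⟩ := Submodule.mkQ_surjective _ y
    obtain ⟨x, rfl⟩ := π.submoduleMap_surjective M y
    exact ⟨Submodule.Quotient.mk x, rfl⟩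
  have hfg : Exact f g := by
    intro y
    obtain ⟨y, rfl⟩ := Submodule.mkQ_surjective _ y
    rw [Submodule.mkQ_apply, hgmk, Submodule.Quotient.mk_eq_zero]
    constructor
    · rintro ⟨n, hn, hny⟩
      have hny' : π n = π y := hny
      have hmem : (y : V) - n ∈ M ⊓ K := by
        refine ⟨M.sub_mem y.2 (h hn), ?_⟩
        show π ((y : V) - n) = 0
        rw [map_sub, hny', sub_self]
      refine ⟨Submodule.Quotient.mk ⟨(y : V) - n, hmem⟩, ?_⟩
      rw [hfmk, Submodule.Quotient.eq]
      show ((y : V) - n) - y ∈ N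
      have : ((y : V) - n) - y = -n := by abel
      rw [this]
      exact N.neg_mem hn
    · rintro ⟨x, hx⟩
      obtain ⟨x, rfl⟩ := Submodule.mkQ_surjective _ x
      rw [Submodule.mkQ_apply, hfmk, Submodule.Quotient.eq] at hx
      have hx' : (x : V) - y ∈ N := hx
      have hx'' : (y : V) - x ∈ N := by
        have := N.neg_mem hx'
        rwa [neg_sub] at this
      refine ⟨(y : V) - x, hx'', ?_⟩
      show π ((y : V) - x) = π y
      have hxK : π (x : V) = 0 := x.2.2
      rw [map_sub, hxK, sub_zero]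
  exact Module.length_eq_add_of_exact f g hf hg hfg

end proj

section simple

variable {S : Type u} [CommRing S] [IsLocalRing S] {V : Type v} [AddCommGroup V] [Module S V]

theorem isAtom_span_singleton (v : V) (hv : v ≠ 0) (hm : ∀ x ∈ maximalIdeal S, x • v = 0) :
    IsAtom (Submodule.span S {v}) := by
  refine ⟨fun h => hv ((Submodule.span_singleton_eq_bot).mp h), ?_⟩
  intro W hW
  rw [eq_bot_iff]
  intro w hw
  obtain ⟨x, rfl⟩ := Submodule.mem_span_singleton.mp (hW.le hw)
  by_cases hx : IsUnit x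
  · exfalso
    obtain ⟨u, rfl⟩ := hx
    have h1 : v ∈ W := by
      have := W.smul_mem ((u⁻¹ : Sˣ) : S) hw
      rwa [smul_smul, Units.inv_mul, one_smul] at this
    exact hW.ne (le_antisymm hW.le ((Submodule.span_singleton_le_iff_mem v W).mpr h1))
  · rw [hm x ((IsLocalRing.mem_maximalIdeal x).mpr hx)]
    exact Submodule.zero_mem _

theorem length_span_singleton (v : V) (hv : v ≠ 0) (hm : ∀ x ∈ maximalIdeal S, x • v = 0) :
    Module.length S (Submodule.span S {v}) = 1 := by
  rw [Module.length_eq_one_iff]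
  exact isSimpleModule_iff_isAtom.mpr (isAtom_span_singleton v hv hm)

theorem length_quot_span_singleton (v : V) (hv : v ≠ 0) (hm : ∀ x ∈ maximalIdeal S, x • v = 0)
    (l : ℕ) (hlen : Module.length S V = (1 + l : ℕ)) :
    Module.length S (V ⧸ Submodule.span S {v}) = l := by
  have h1 := Module.length_eq_add_of_exact (Submodule.span S {v}).subtype (Submodule.span S {v}).mkQ
    (Submodule.span S {v}).subtype_injective (Submodule.mkQ_surjective _)
    (by rw [LinearMap.exact_iff, Submodule.ker_mkQ, Submodule.range_subtype])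
  rw [hlen, length_span_singleton v hv hm] at h1
  have h3 : ((1 + l : ℕ) : ℕ∞) = 1 + (l : ℕ∞) := by push_cast; rfl
  rw [h3] at h1
  exact (ENat.add_right_injective_of_ne_top ENat.one_ne_top h1).symm

end simple

section ord

variable {R : Type u} [CommRing R] [IsNoetherianRing R] [IsLocalRing R] (q : Ideal R) [q.IsPrime]
  {V : Type v} [AddCommGroup V] [Module R V]

theorem rl_span_singleton_smul (v : V) (hv : ∀ r : R, r • v = 0 ↔ r ∈ q) (a : R) :
    rl (Submodule.span R {a • v}) (Submodule.span R {v}) =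
      Ring.ord (R ⧸ q) (Ideal.Quotient.mk q a) := by
  let ψ : (R ⧸ q) →ₗ[R] V := Submodule.liftQ q (LinearMap.toSpanSingleton R V v) (by
    intro r hr
    rw [LinearMap.mem_ker, LinearMap.toSpanSingleton_apply]
    exact (hv r).mpr hr)
  have hψmk : ∀ r : R, ψ (Ideal.Quotient.mk q r) = r • v := fun r => rfl
  have hψ : Injective ψ := by
    rw [← LinearMap.ker_eq_bot, LinearMap.ker_eq_bot']
    intro x hx
    obtain ⟨r, rfl⟩ := Ideal.Quotient.mk_surjective x
    rw [hψmk] at hx
    exact Ideal.Quotient.eq_zero_iff_mem.mpr ((hv r).mp hx)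
  have h1 : (⊤ : Submodule R (R ⧸ q)).map ψ = Submodule.span R {v} := by
    rw [Submodule.map_top]
    apply le_antisymm
    · rintro _ ⟨x, rfl⟩
      obtain ⟨r, rfl⟩ := Ideal.Quotient.mk_surjective x
      rw [hψmk]
      exact Submodule.smul_mem _ _ (Submodule.mem_span_singleton_self v)
    · rw [Submodule.span_singleton_le_iff_mem]
      exact ⟨Ideal.Quotient.mk q 1, by rw [hψmk, one_smul]⟩
  have h2 : (a • (⊤ : Submodule R (R ⧸ q))).map ψ = Submodule.span R {a • v} := by
    apply le_antisymm
    · rintro _ ⟨x, hx, rfl⟩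
      rw [SetLike.mem_coe, Submodule.mem_smul_pointwise_iff_exists] at hx
      obtain ⟨y, -, rfl⟩ := hx
      obtain ⟨r, rfl⟩ := Ideal.Quotient.mk_surjective y
      rw [map_smul, hψmk, smul_comm]
      exact Submodule.smul_mem _ _ (Submodule.mem_span_singleton_self _)
    · rw [Submodule.span_singleton_le_iff_mem]
      refine ⟨a • Ideal.Quotient.mk q 1, Submodule.smul_mem_pointwise_smul _ _ _ trivial, ?_⟩
      rw [map_smul, hψmk, one_smul]
  rw [← h1, ← h2, rl_map ψ hψ, Groth.Agent.Lib.Helper26.FracLength.rl_top,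
    ← Groth.Agent.Lib.Helper26.SuppMult.wt_eq_ord a ⟨q, inferInstance⟩]
  rfl

end ord

end Groth.Agent.Lib.Helper26.CycGoodB
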