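import Mathlib
import Groth.Prelude
import Groth.Agent.Lib.Helper26.CycGoodB

set_option autoImplicit false
set_option linter.style.haveILetI false
set_option linter.unusedSectionVars false
universe u v w

namespace Groth.Agent.Lib.Helper26.CycGoodC

open CycDet IsLocalRing H12CycDet Function
open Groth.Agent.Lib.Helper26.RelLength Groth.Agent.Lib.Helper26.CycGoodA
  Groth.Agent.Lib.Helper26.CycGoodB Groth.Agent.Lib.Helper26.CycDetA
  Groth.Agent.Lib.Helper26.CycDetH

variable {R : Type u} [CommRing R] [IsLocalRing R] (q : Ideal R) [q.IsPrime]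
  {V : Type v} [AddCommGroup V] [Module R V] [Module (Localization.AtPrime q) V]
  [IsScalarTower R (Localization.AtPrime q) V] {l : ℕ}

/-- the first index -/
def i0 (l : ℕ) : Fin (1 + l) := Fin.castAdd l 0

/-- the tail of a tuple -/
def tl (e : Fin (1 + l) → V) : Fin l → V := fun j => e (Fin.natAdd 1 j)

/-- the head as a 1-tuple -/
def hd (e : Fin (1 + l) → V) : Fin 1 → V := fun _ => e (i0 l)

theorem append_hd_tl (e : Fin (1 + l) → V) : Fin.append (hd e) (tl e) = e := by
  funext c
  induction c using Fin.addCases with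
  | left i =>
    rw [Fin.append_left]
    have : i = 0 := Subsingleton.elim _ _
    rw [this]; rfl
  | right j => rw [Fin.append_right]; rfl

theorem range_hd (e : Fin (1 + l) → V) : Set.range (hd e) = {e (i0 l)} := by
  ext z
  simp [hd, eq_comm]

theorem sB_succ_eq (e : Fin (1 + l) → V) (j : ℕ) :
    spanBefore R V e (1 + j) = Submodule.span R {e (i0 l)} ⊔ spanBefore R V (tl e) j := by
  conv_lhs => rw [← append_hd_tl e]
  rw [sB_append_ge, range_hd]

theorem span_range_eq (e : Fin (1 + l) → V) :
    Submodule.span R (Set.range e) =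
      Submodule.span R {e (i0 l)} ⊔ Submodule.span R (Set.range (tl e)) := by
  rw [← spanBefore_len, sB_succ_eq, spanBefore_len]

variable {q}

/-- the image of the tail in the quotient by the `S`-line through the head is good -/
theorem good_quot {e : Fin (1 + l) → V} (he : Good q e)
    (W : Submodule (Localization.AtPrime q) V)
    (hW : W = Submodule.span (Localization.AtPrime q) {e (i0 l)}) :
    Good q ((W.mkQ.restrictScalars R) ∘ tl e) := by
  intro j r
  rw [sB_map]
  have hidx : ((Fin.natAdd 1 j : Fin (1 + l)) : ℕ) = 1 + j := by simp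
  constructor
  · rintro ⟨w, hw, hwr⟩
    have h1 : r • e (Fin.natAdd 1 j) - w ∈ W := by
      rw [← Submodule.ker_mkQ W, LinearMap.mem_ker, map_sub, sub_eq_zero]
      have : (W.mkQ.restrictScalars R) w = r • ((W.mkQ.restrictScalars R) ∘ tl e) j := hwr
      rw [Function.comp_apply, ← map_smul] at this
      exact this.symm
    rw [hW] at h1
    obtain ⟨s, hs, hsv⟩ := exists_smul_mem_span q _ _ h1
    have h2 : (s * r) • e (Fin.natAdd 1 j) ∈ spanBefore R V e (Fin.natAdd 1 j : Fin (1 + l)) := by
      rw [hidx, sB_succ_eq]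
      have : (s * r) • e (Fin.natAdd 1 j) = s • (r • e (Fin.natAdd 1 j) - w) + s • w := by
        rw [smul_sub, mul_smul]; abel
      rw [this]
      exact Submodule.add_mem _ (Submodule.mem_sup_left hsv)
        (Submodule.mem_sup_right (Submodule.smul_mem _ _ hw))
    have h3 := (he _ _).mp h2
    exact (Ideal.IsPrime.mem_or_mem inferInstance h3).resolve_left hs
  · intro hr
    have h1 := (he (Fin.natAdd 1 j) r).mpr hr
    rw [hidx, sB_succ_eq, Submodule.mem_sup] at h1
    obtain ⟨u, hu, w, hw, huw⟩ := h1
    refine ⟨w, hw, ?_⟩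
    have hu0 : (W.mkQ.restrictScalars R) u = 0 := by
      show W.mkQ u = 0
      rw [Submodule.mkQ_apply, Submodule.Quotient.mk_eq_zero, hW]
      exact Submodule.span_le_restrictScalars R (Localization.AtPrime q) _ hu
    have : r • ((W.mkQ.restrictScalars R) ∘ tl e) j = (W.mkQ.restrictScalars R) (u + w) := by
      rw [huw, map_smul]; rfl
    rw [this, map_add, hu0, zero_add]

theorem span_range_quot (e : Fin (1 + l) → V) (W : Submodule (Localization.AtPrime q) V)
    (hW : W = Submodule.span (Localization.AtPrime q) {e (i0 l)}) :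
    Submodule.span R (Set.range ((W.mkQ.restrictScalars R) ∘ tl e)) =
      (Submodule.span R (Set.range e)).map (W.mkQ.restrictScalars R) := by
  rw [span_range_eq, Submodule.map_sup, Set.range_comp, ← Submodule.map_span]
  have : (Submodule.span R {e (i0 l)}).map (W.mkQ.restrictScalars R) = ⊥ := by
    rw [eq_bot_iff]
    rintro _ ⟨u, hu, rfl⟩
    show W.mkQ u = 0
    rw [Submodule.mkQ_apply, Submodule.Quotient.mk_eq_zero, hW]
    exact Submodule.span_le_restrictScalars R (Localization.AtPrime q) _ hu
  rw [this, bot_sup_eq]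

theorem inf_ker_eq {e : Fin (1 + l) → V} (he : Good q e)
    (W : Submodule (Localization.AtPrime q) V)
    (hW : W = Submodule.span (Localization.AtPrime q) {e (i0 l)}) :
    Submodule.span R (Set.range e) ⊓ LinearMap.ker (W.mkQ.restrictScalars R) =
      Submodule.span R {e (i0 l)} := by
  apply le_antisymm
  · rintro v ⟨hv1, hv2⟩
    have hv3 : v ∈ W := by
      rw [← Submodule.ker_mkQ W]
      exact hv2
    rw [hW] at hv3
    obtain ⟨s, hs, hsv⟩ := exists_smul_mem_span q _ _ hv3
    have h1 : spanBefore R V e 1 = Submodule.span R {e (i0 l)} := by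
      have := sB_succ_eq (R := R) e 0
      rw [spanBefore_zero, sup_bot_eq] at this
      exact this
    rw [← h1] at hsv ⊢
    rw [SetLike.mem_coe, ← spanBefore_len] at hv1
    exact he.sat hs (1 + l) 1 (by omega) le_rfl v hv1 hsv
  · refine le_inf ?_ ?_
    · rw [Submodule.span_singleton_le_iff_mem]
      exact Submodule.subset_span ⟨_, rfl⟩
    · intro u hu
      show W.mkQ u = 0
      rw [Submodule.mkQ_apply, Submodule.Quotient.mk_eq_zero, hW]
      exact Submodule.span_le_restrictScalars R (Localization.AtPrime q) _ hu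

end Groth.Agent.Lib.Helper26.CycGoodC
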