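import Mathlib
import Groth.Prelude
import Groth.Agent.Lib.Helper26.CycGoodC

set_option autoImplicit false
set_option linter.style.haveILetI false
set_option linter.unusedSectionVars false
universe u v w

namespace Groth.Agent.Lib.Helper26.CycGoodD

open CycDet IsLocalRing H12CycDet Function
open Groth.Agent.Lib.Helper26.RelLength Groth.Agent.Lib.Helper26.CycGoodA
  Groth.Agent.Lib.Helper26.CycGoodB Groth.Agent.Lib.Helper26.CycGoodC
  Groth.Agent.Lib.Helper26.CycDetA Groth.Agent.Lib.Helper26.CycDetB
  Groth.Agent.Lib.Helper26.CycDetH Groth.Agent.Lib.Helper26.CycDetI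
  Groth.Agent.Lib.Helper26.OrdZ

variable {R : Type u} [CommRing R] [IsNoetherianRing R] [IsLocalRing R] (q : Ideal R) [q.IsPrime]

/-- the main statement for tuples of length `l` -/
def T (l : ℕ) : Prop :=
  ∀ (V : Type u) [AddCommGroup V] [Module R V] [Module (Localization.AtPrime q) V]
    [IsScalarTower R (Localization.AtPrime q) V],
    Module.length (Localization.AtPrime q) V = l →
    ∀ (D : (Fin l → V) → ResidueField (Localization.AtPrime q)), IsDetFun D →
    (∀ t, IsAdmissible (Localization.AtPrime q) V t →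
      Submodule.span (Localization.AtPrime q) (Set.range t) = ⊤ → D t ≠ 0) →
    ∀ e e' : Fin l → V, Good q e → Good q e' →
      Submodule.span R (Set.range e') ≤ Submodule.span R (Set.range e) →
      ∃ n : ℕ, rl (Submodule.span R (Set.range e')) (Submodule.span R (Set.range e)) = n ∧
        (n : ℤ) = CycAlg.ordFrac (R ⧸ q) q.ResidueField (D e' / D e)

variable {q}

theorem residue_eq {a : R} :
    residue (Localization.AtPrime q) (algebraMap R (Localization.AtPrime q) a) =
      algebraMap (R ⧸ q) q.ResidueField (Ideal.Quotient.mk q a) := by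
  have h1 : algebraMap (R ⧸ q) q.ResidueField (Ideal.Quotient.mk q a) =
      algebraMap R q.ResidueField a := by
    rw [IsScalarTower.algebraMap_apply R (R ⧸ q) q.ResidueField]; rfl
  rw [h1, IsScalarTower.algebraMap_apply R (Localization.AtPrime q) q.ResidueField]
  rfl

theorem ordFrac_residue [Ring.KrullDimLE 1 (R ⧸ q)] {a : R} (ha : a ∉ q) :
    CycAlg.ordFrac (R ⧸ q) q.ResidueField
      (residue (Localization.AtPrime q) (algebraMap R (Localization.AtPrime q) a)) =
      ((Ring.ord (R ⧸ q) (Ideal.Quotient.mk q a)).toNat : ℤ) := by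
  have ha' : Ideal.Quotient.mk q a ≠ 0 := by rwa [Ne, Ideal.Quotient.eq_zero_iff_mem]
  rw [residue_eq, ordFrac_algebraMap ha']

theorem ord_ne_top [Ring.KrullDimLE 1 (R ⧸ q)] {a : R} (ha : a ∉ q) :
    Ring.ord (R ⧸ q) (Ideal.Quotient.mk q a) ≠ ⊤ := by
  have ha' : Ideal.Quotient.mk q a ≠ 0 := by rwa [Ne, Ideal.Quotient.eq_zero_iff_mem]
  exact Ring.ord_ne_top (mem_nonZeroDivisors_of_ne_zero ha')

theorem case0 [Ring.KrullDimLE 1 (R ⧸ q)] (l : ℕ) (ih : T q l)
    (V : Type u) [AddCommGroup V] [Module R V] [Module (Localization.AtPrime q) V]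
    [IsScalarTower R (Localization.AtPrime q) V]
    (hlen : Module.length (Localization.AtPrime q) V = (1 + l : ℕ))
    (D : (Fin (1 + l) → V) → ResidueField (Localization.AtPrime q)) (hD : IsDetFun D)
    (hgen : ∀ t, IsAdmissible (Localization.AtPrime q) V t →
      Submodule.span (Localization.AtPrime q) (Set.range t) = ⊤ → D t ≠ 0)
    (e e' : Fin (1 + l) → V) (he : Good q e) (he' : Good q e')
    (hle : Submodule.span R (Set.range e') ≤ Submodule.span R (Set.range e))
    (a : R) (ha : e' (i0 l) = a • e (i0 l)) :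
    ∃ n : ℕ, rl (Submodule.span R (Set.range e')) (Submodule.span R (Set.range e)) = n ∧
      (n : ℤ) = CycAlg.ordFrac (R ⧸ q) q.ResidueField (D e' / D e) := by
  have hi0 : ((i0 l : Fin (1 + l)) : ℕ) = 0 := by simp [i0]
  -- annihilator of the head
  have hv : ∀ r : R, r • e (i0 l) = 0 ↔ r ∈ q := by
    intro r
    have := he (i0 l) r
    rwa [hi0, spanBefore_zero, Submodule.mem_bot] at this
  have hv' : ∀ r : R, r • e' (i0 l) = 0 ↔ r ∈ q := by
    intro r
    have := he' (i0 l) r
    rwa [hi0, spanBefore_zero, Submodule.mem_bot] at this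
  have haq : a ∉ q := by
    intro haq
    have h1 : e' (i0 l) = 0 := by rw [ha]; exact (hv a).mpr haq
    have h2 : (1 : R) ∈ q := (hv' 1).mp (by rw [h1, smul_zero])
    exact (Ideal.IsPrime.ne_top inferInstance) ((Ideal.eq_top_iff_one q).mpr h2)
  have hunit : IsUnit (algebraMap R (Localization.AtPrime q) a) :=
    (IsLocalization.AtPrime.isUnit_to_map_iff (Localization.AtPrime q) q a).mpr haq
  obtain ⟨c, hc⟩ := hunit
  set W : Submodule (Localization.AtPrime q) V :=
    Submodule.span (Localization.AtPrime q) {e (i0 l)} with hWdef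
  have hW' : W = Submodule.span (Localization.AtPrime q) {e' (i0 l)} := by
    rw [ha, ← algebraMap_smul (Localization.AtPrime q) a, ← hc,
      Submodule.span_singleton_smul_eq c.isUnit]
  have hm : ∀ x ∈ maximalIdeal (Localization.AtPrime q), x • e (i0 l) = 0 := by
    intro x hx
    have := he.isAdmissible (i0 l) x hx
    rwa [hi0, spanBefore_zero, Submodule.mem_bot] at this
  have hv0 : e (i0 l) ≠ 0 := by
    intro h
    have := he.not_dep (i0 l)
    rw [hi0, spanBefore_zero, Submodule.mem_bot] at this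
    exact this h
  have hlenQ : Module.length (Localization.AtPrime q) (V ⧸ W) = l :=
    length_quot_span_singleton (e (i0 l)) hv0 hm l hlen
  have hgood : Good q ((W.mkQ.restrictScalars R) ∘ tl e) := good_quot he W rfl
  have hgood' : Good q ((W.mkQ.restrictScalars R) ∘ tl e') := good_quot he' W hW'
  have hx : IsAdmissible (Localization.AtPrime q) V (hd e) := by
    intro i r hr
    show r • e (i0 l) ∈ _
    rw [hm r hr]
    exact Submodule.zero_mem _
  have hX : Submodule.span (Localization.AtPrime q) (Set.range (hd e)) = LinearMap.ker W.mkQ := by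
    rw [range_hd, Submodule.ker_mkQ]
  let s : (V ⧸ W) → V := Function.surjInv (Submodule.mkQ_surjective W)
  have hs : ∀ m, W.mkQ (s m) = m := Function.surjInv_eq (Submodule.mkQ_surjective W)
  have hgs : ∀ t : Fin l → V ⧸ W, W.mkQ ∘ (s ∘ t) = t := by
    intro t; funext j; exact hs _
  have hDbar := isDetFun_E (b := l) hD (hd e) hx hX s hs
  have hgenbar : ∀ t : Fin l → V ⧸ W, IsAdmissible (Localization.AtPrime q) (V ⧸ W) t →
      Submodule.span (Localization.AtPrime q) (Set.range t) = ⊤ →
      D (Fin.append (hd e) (s ∘ t)) ≠ 0 := by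
    intro t ht hspan
    apply hgen _ (adm_append (hd e) hx hX (s ∘ t) (by rw [hgs]; exact ht))
    apply gen_append (hd e) hX
    rw [hgs]; exact hspan
  have hle' : Submodule.span R (Set.range ((W.mkQ.restrictScalars R) ∘ tl e')) ≤
      Submodule.span R (Set.range ((W.mkQ.restrictScalars R) ∘ tl e)) := by
    rw [span_range_quot e W rfl, span_range_quot e' W hW']
    exact Submodule.map_mono hle
  obtain ⟨nbar, hn1, hn2⟩ := ih (V ⧸ W) hlenQ _ hDbar hgenbar _ _ hgood hgood' hle'
  -- admissibility of the image tuples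
  have hadm : IsAdmissible (Localization.AtPrime q) (V ⧸ W) (W.mkQ ∘ tl e) := hgood.isAdmissible
  have hadm' : IsAdmissible (Localization.AtPrime q) (V ⧸ W) (W.mkQ ∘ tl e') :=
    hgood'.isAdmissible
  -- D e
  have hDe : D e = D (Fin.append (hd e) (s ∘ (W.mkQ ∘ tl e))) := by
    conv_lhs => rw [← append_hd_tl e]
    exact F_congr hD (hd e) hx hX (s ∘ (W.mkQ ∘ tl e)) (tl e) (by rw [hgs]; exact hadm)
      (hgs _).symm
  have hDe'1 : D e' = residue (Localization.AtPrime q) (c : Localization.AtPrime q) *
      D (Fin.append (hd e) (tl e')) := by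
    apply hD.repl e' _ he'.isAdmissible (adm_append (hd e) hx hX (tl e') hadm') (i0 l) c
    · intro j hj
      induction j using Fin.addCases with
      | left i =>
        exfalso
        apply hj
        have : i = 0 := Subsingleton.elim _ _
        rw [this]; rfl
      | right j => rw [Fin.append_right]; rfl
    · have h1 : Fin.append (hd e) (tl e') (i0 l) = e (i0 l) := by
        show Fin.append (hd e) (tl e') (Fin.castAdd l 0) = _
        rw [Fin.append_left]; rfl
      rw [h1, hc, algebraMap_smul, ha, sub_self]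
      exact Submodule.zero_mem _
  have hDe'2 : D (Fin.append (hd e) (tl e')) = D (Fin.append (hd e) (s ∘ (W.mkQ ∘ tl e'))) :=
    F_congr hD (hd e) hx hX (s ∘ (W.mkQ ∘ tl e')) (tl e') (by rw [hgs]; exact hadm')
      (hgs _).symm
  have hne : D (Fin.append (hd e) (s ∘ (W.mkQ ∘ tl e))) ≠ 0 :=
    hgenbar _ hadm (hgood.span_eq_top hlenQ.symm)
  have hne' : D (Fin.append (hd e) (s ∘ (W.mkQ ∘ tl e'))) ≠ 0 :=
    hgenbar _ hadm' (hgood'.span_eq_top hlenQ.symm)
  -- the length
  have hrl := rl_proj (W.mkQ.restrictScalars R) hle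
  rw [inf_ker_eq he W rfl, inf_ker_eq he' W hW', ← span_range_quot e W rfl,
    ← span_range_quot e' W hW', ha, rl_span_singleton_smul q (e (i0 l)) hv a, hn1] at hrl
  have hfin := ord_ne_top haq
  refine ⟨(Ring.ord (R ⧸ q) (Ideal.Quotient.mk q a)).toNat + nbar, ?_, ?_⟩
  · rw [hrl]
    push_cast
    rw [ENat.natCast_toNat hfin]
  · have hcne : residue (Localization.AtPrime q) (c : Localization.AtPrime q) ≠ 0 :=
      Groth.Agent.Lib.Helper26.CycDetC.res_ne_zero c
    have hratio : D e' / D e = residue (Localization.AtPrime q) (c : Localization.AtPrime q) *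
        (D (Fin.append (hd e) (s ∘ (W.mkQ ∘ tl e'))) /
          D (Fin.append (hd e) (s ∘ (W.mkQ ∘ tl e)))) := by
      rw [hDe'1, hDe'2, hDe, mul_div_assoc]
    rw [hratio, ordFrac_mul hcne (div_ne_zero hne' hne), hc, ordFrac_residue haq]
    push_cast
    rw [hn2]
    rfl

end Groth.Agent.Lib.Helper26.CycGoodD
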