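import Mathlib
import Groth.Prelude
import Groth.Agent.Lib.Helper26.CycGoodD

set_option autoImplicit false
set_option linter.style.haveILetI false
set_option linter.unusedSectionVars false
universe u v w

namespace Groth.Agent.Lib.Helper26.CycGoodE

open CycDet IsLocalRing H12CycDet Function
open Groth.Agent.Lib.Helper26.RelLength Groth.Agent.Lib.Helper26.CycGoodA
  Groth.Agent.Lib.Helper26.CycGoodB Groth.Agent.Lib.Helper26.CycGoodC
  Groth.Agent.Lib.Helper26.CycGoodD
  Groth.Agent.Lib.Helper26.CycDetA Groth.Agent.Lib.Helper26.CycDetB
  Groth.Agent.Lib.Helper26.CycDetH Groth.Agent.Lib.Helper26.CycDetI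
  Groth.Agent.Lib.Helper26.OrdZ

variable {R : Type u} [CommRing R] [IsLocalRing R] {q : Ideal R} [q.IsPrime]
  {V : Type v} [AddCommGroup V] [Module R V] {n : ℕ}

/-- `a • sB e j ≤ sB e' j` from the generator-wise statement -/
theorem smul_sB_le (e e' : Fin n → V) (a : R)
    (h : ∀ k : Fin n, a • e k ∈ spanBefore R V e' ((k : ℕ) + 1)) (j : ℕ) :
    spanBefore R V e j ≤ (spanBefore R V e' j).comap (LinearMap.lsmul R V a) := by
  apply Submodule.span_le.mpr
  rintro _ ⟨k, hk, rfl⟩
  have hk' : (k : ℕ) < j := hk
  show a • e k ∈ spanBefore R V e' j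
  exact spanBefore_mono e' (by omega) (h k)

/-- the modified tuple `ê` -/
def modE (e : Fin n → V) (I : ℕ) (z : V) (a : R) : Fin n → V :=
  fun j => if (j : ℕ) < I then e j else if (j : ℕ) = I then z else a • e j

theorem modE_good {e : Fin n → V} (he : Good q e) (c : Fin n) (z : V) (a : R) (ha : a ∉ q)
    (hz : z - a • e c ∈ spanBefore R V e c) (hqz : ∀ r ∈ q, r • z = 0) :
    Good q (modE e c z a) ∧
      (∀ j : ℕ, spanBefore R V (modE e c z a) j ≤ spanBefore R V e j) ∧
      (∀ j : ℕ, spanBefore R V e j ≤
        (spanBefore R V (modE e c z a) j).comap (LinearMap.lsmul R V a)) := by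
  have hlow : ∀ j : ℕ, j ≤ c → spanBefore R V (modE e c z a) j = spanBefore R V e j := by
    intro j hj
    apply spanBefore_congr
    intro k hk
    simp only [modE]
    rw [if_pos (by omega)]
  have hA : ∀ k : Fin n, a • e k ∈ spanBefore R V (modE e c z a) ((k : ℕ) + 1) := by
    intro k
    rcases lt_trichotomy (k : ℕ) c with hk | hk | hk
    · have h1 : modE e c z a k = e k := by simp only [modE]; rw [if_pos hk]
      rw [← h1]
      exact Submodule.smul_mem _ _ (mem_spanBefore _ (Nat.lt_succ_self _))
    · have hkc : k = c := Fin.ext hk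
      subst hkc
      have h1 : modE e k z a k = z := by
        simp [modE]
      have h2 : a • e k = z - (z - a • e k) := by abel
      rw [h2]
      refine Submodule.sub_mem _ ?_ ?_
      · have := mem_spanBefore (R := R) (modE e k z a) (j := k) (i := (k : ℕ) + 1)
          (Nat.lt_succ_self _)
        rwa [h1] at this
      · apply spanBefore_mono _ (Nat.le_succ _)
        rw [hlow k le_rfl]
        exact hz
    · have h1 : modE e c z a k = a • e k := by
        simp only [modE]; rw [if_neg (by omega), if_neg (by omega)]
      rw [← h1]
      exact mem_spanBefore _ (Nat.lt_succ_self _)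
  have hcomap := smul_sB_le e (modE e c z a) a hA
  have htri := he.tri (modE e c z a) (fun j => if (j : ℕ) < c then 1 else a)
    (by
      intro j
      show (if (j : ℕ) < c then (1 : R) else a) ∉ q
      split_ifs
      · exact fun h => (Ideal.IsPrime.ne_top inferInstance) ((Ideal.eq_top_iff_one q).mpr h)
      · exact ha)
    (by
      intro j
      rcases lt_trichotomy (j : ℕ) c with hj | hj | hj
      · simp only [modE]; rw [if_pos hj, if_pos hj, one_smul, sub_self]
        exact Submodule.zero_mem _
      · have hjc : j = c := Fin.ext hj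
        subst hjc
        simp only [modE, lt_self_iff_false, if_false, if_true]
        exact hz
      · simp only [modE]; rw [if_neg (by omega), if_neg (by omega), if_neg (by omega), sub_self]
        exact Submodule.zero_mem _)
    (by
      intro j r hr
      rcases lt_trichotomy (j : ℕ) c with hj | hj | hj
      · have h1 : modE e c z a j = e j := by simp only [modE]; rw [if_pos hj]
        rw [h1, hlow j hj.le]
        exact (he j r).mpr hr
      · have h1 : modE e c z a j = z := by
          simp only [modE]; rw [if_neg (by omega), if_pos hj]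
        rw [h1, hqz r hr]
        exact Submodule.zero_mem _
      · have h1 : modE e c z a j = a • e j := by
          simp only [modE]; rw [if_neg (by omega), if_neg (by omega)]
        rw [h1, smul_comm]
        exact hcomap j ((he j r).mpr hr))
  exact ⟨htri.1, htri.2, hcomap⟩

/-- the modified tuple `ẽ'`: scale all entries but the first -/
def modE0 (e : Fin n → V) (a : R) : Fin n → V :=
  fun j => if (j : ℕ) = 0 then e j else a • e j

theorem modE0_good {e : Fin n → V} (he : Good q e) (a : R) (ha : a ∉ q) :
    Good q (modE0 e a) ∧
      (∀ j : ℕ, spanBefore R V (modE0 e a) j ≤ spanBefore R V e j) ∧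
      (∀ j : ℕ, spanBefore R V e j ≤
        (spanBefore R V (modE0 e a) j).comap (LinearMap.lsmul R V a)) := by
  have hA : ∀ k : Fin n, a • e k ∈ spanBefore R V (modE0 e a) ((k : ℕ) + 1) := by
    intro k
    by_cases hk : (k : ℕ) = 0
    · have h1 : modE0 e a k = e k := by simp only [modE0]; rw [if_pos hk]
      rw [← h1]
      exact Submodule.smul_mem _ _ (mem_spanBefore _ (Nat.lt_succ_self _))
    · have h1 : modE0 e a k = a • e k := by simp only [modE0]; rw [if_neg hk]
      rw [← h1]
      exact mem_spanBefore _ (Nat.lt_succ_self _)
  have hcomap := smul_sB_le e (modE0 e a) a hA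
  have htri := he.tri (modE0 e a) (fun j => if (j : ℕ) = 0 then 1 else a)
    (by
      intro j
      show (if (j : ℕ) = 0 then (1 : R) else a) ∉ q
      split_ifs
      · exact fun h => (Ideal.IsPrime.ne_top inferInstance) ((Ideal.eq_top_iff_one q).mpr h)
      · exact ha)
    (by
      intro j
      by_cases hj : (j : ℕ) = 0
      · simp only [modE0]; rw [if_pos hj, if_pos hj, one_smul, sub_self]
        exact Submodule.zero_mem _
      · simp only [modE0]; rw [if_neg hj, if_neg hj, sub_self]
        exact Submodule.zero_mem _)
    (by
      intro j r hr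
      by_cases hj : (j : ℕ) = 0
      · have h1 : modE0 e a j = e j := by simp only [modE0]; rw [if_pos hj]
        have h2 := (he j r).mpr hr
        rw [hj, spanBefore_zero, Submodule.mem_bot] at h2
        rw [h1, h2]
        exact Submodule.zero_mem _
      · have h1 : modE0 e a j = a • e j := by simp only [modE0]; rw [if_neg hj]
        rw [h1, smul_comm]
        exact hcomap j ((he j r).mpr hr))
  exact ⟨htri.1, htri.2, hcomap⟩

end Groth.Agent.Lib.Helper26.CycGoodE
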