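import Mathlib
import Groth.Prelude
import Groth.Agent.Lib.Helper26.CycGoodE

set_option autoImplicit false
set_option linter.style.haveILetI false
set_option linter.unusedSectionVars false
universe u v w

namespace Groth.Agent.Lib.Helper26.CycGoodF

open CycDet IsLocalRing H12CycDet Function
open Groth.Agent.Lib.Helper26.RelLength Groth.Agent.Lib.Helper26.CycGoodA
  Groth.Agent.Lib.Helper26.CycGoodB Groth.Agent.Lib.Helper26.CycGoodC
  Groth.Agent.Lib.Helper26.CycGoodD Groth.Agent.Lib.Helper26.CycGoodE
  Groth.Agent.Lib.Helper26.CycDetA Groth.Agent.Lib.Helper26.CycDetB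
  Groth.Agent.Lib.Helper26.CycDetH Groth.Agent.Lib.Helper26.CycDetI
  Groth.Agent.Lib.Helper26.OrdZ Groth.Agent.Lib.Helper26.FracLength

variable {R : Type u} [CommRing R] [IsNoetherianRing R] [IsLocalRing R] {q : Ideal R} [q.IsPrime]

theorem ordFrac_neg_one [Ring.KrullDimLE 1 (R ⧸ q)] :
    CycAlg.ordFrac (R ⧸ q) q.ResidueField (-1) = 0 := by
  have h1 : (-1 : q.ResidueField) ≠ 0 := neg_ne_zero.mpr one_ne_zero
  have h2 := ordFrac_mul (A := R ⧸ q) h1 h1
  rw [neg_one_mul, neg_neg, ordFrac_one] at h2
  omega

theorem ordFrac_neg [Ring.KrullDimLE 1 (R ⧸ q)] {x : q.ResidueField} (hx : x ≠ 0) :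
    CycAlg.ordFrac (R ⧸ q) q.ResidueField (-x) = CycAlg.ordFrac (R ⧸ q) q.ResidueField x := by
  have h1 : (-1 : q.ResidueField) ≠ 0 := neg_ne_zero.mpr one_ne_zero
  rw [← neg_one_mul, ordFrac_mul h1 hx, ordFrac_neg_one, zero_add]

theorem caseI [Ring.KrullDimLE 1 (R ⧸ q)] (l : ℕ) (ih : T q l) :
    ∀ (i : ℕ) (V : Type u) [AddCommGroup V] [Module R V] [Module (Localization.AtPrime q) V]
    [IsScalarTower R (Localization.AtPrime q) V],
    Module.length (Localization.AtPrime q) V = (1 + l : ℕ) →
    ∀ (D : (Fin (1 + l) → V) → ResidueField (Localization.AtPrime q)), IsDetFun D →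
    (∀ t, IsAdmissible (Localization.AtPrime q) V t →
      Submodule.span (Localization.AtPrime q) (Set.range t) = ⊤ → D t ≠ 0) →
    ∀ (e e' : Fin (1 + l) → V), Good q e → Good q e' →
    Submodule.span R (Set.range e') ≤ Submodule.span R (Set.range e) →
    i < 1 + l → e' (i0 l) ∈ spanBefore R V e (i + 1) →
    ∃ n : ℕ, rl (Submodule.span R (Set.range e')) (Submodule.span R (Set.range e)) = n ∧
      (n : ℤ) = CycAlg.ordFrac (R ⧸ q) q.ResidueField (D e' / D e) := by
  intro i
  induction i with
  | zero =>
    intro V _ _ _ _ hlen D hD hgen e e' he he' hle _ hmem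
    have h1 : spanBefore R V e (0 + 1) = Submodule.span R {e (i0 l)} := by
      have := sB_succ_eq (R := R) e 0
      rw [spanBefore_zero, sup_bot_eq] at this
      rw [zero_add]
      exact this
    rw [h1] at hmem
    obtain ⟨a, ha⟩ := Submodule.mem_span_singleton.mp hmem
    exact case0 l ih V hlen D hD hgen e e' he he' hle a ha.symm
  | succ i ih_i =>
    intro V _ _ _ _ hlen D hD hgen e e' he he' hle hi hmem
    let c : Fin (1 + l) := ⟨i + 1, hi⟩
    let b : Fin (1 + l) := ⟨i, by omega⟩
    have hbc : (b : ℕ) + 1 = c := rfl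
    have hmem' : e' (i0 l) ∈ spanBefore R V e ((c : ℕ) + 1) := hmem
    rw [spanBefore_succ, Submodule.mem_sup] at hmem'
    obtain ⟨u, hu, w, hw, huw⟩ := hmem'
    obtain ⟨a, rfl⟩ := Submodule.mem_span_singleton.mp hw
    by_cases haq : a ∈ q
    · apply ih_i V hlen D hD hgen e e' he he' hle (by omega)
      rw [← huw]
      exact Submodule.add_mem _ hu ((he c a).mpr haq)
    · -- the modification step
      have hi0 : ((i0 l : Fin (1 + l)) : ℕ) = 0 := by simp [i0]
      set z := e' (i0 l) with hzdef
      have hz : z - a • e c ∈ spanBefore R V e c := by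
        have : z - a • e c = u := by rw [← huw]; abel
        rw [this]; exact hu
      have hqz : ∀ r ∈ q, r • z = 0 := by
        intro r hr
        have := (he' (i0 l) r).mpr hr
        rwa [hi0, spanBefore_zero, Submodule.mem_bot] at this
      obtain ⟨hgE, hleE, hcomE⟩ := modE_good he c z a haq hz hqz
      have hEc : modE e c z a c = z := by simp [modE]
      have hgS : Good q (modE e c z a ∘ Equiv.swap c b) := by
        apply hgE.swap c b hbc
        intro r hr
        rw [hEc, hqz r hr]
        exact Submodule.zero_mem _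
      obtain ⟨hgE', hleE', hcomE'⟩ := modE0_good he' a haq
      have hEi0 : modE e c z a (i0 l) = (1 : R) • e (i0 l) := by
        simp only [modE]
        rw [if_pos (by rw [hi0]; show 0 < i + 1; omega), one_smul]
      have hE'i0 : modE0 e' a (i0 l) = (1 : R) • e' (i0 l) := by
        simp only [modE0]
        rw [if_pos hi0, one_smul]
      have hA1 : Submodule.span R (Set.range (modE e c z a)) ≤ Submodule.span R (Set.range e) := by
        rw [← spanBefore_len, ← spanBefore_len]; exact hleE _
      have hrange : Set.range (modE e c z a ∘ Equiv.swap c b) = Set.range (modE e c z a) :=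
        (Equiv.swap c b).surjective.range_comp _
      have hA2 : Submodule.span R (Set.range (modE0 e' a)) ≤ Submodule.span R (Set.range e') := by
        rw [← spanBefore_len, ← spanBefore_len]; exact hleE' _
      have hA3 : Submodule.span R (Set.range (modE0 e' a)) ≤
          Submodule.span R (Set.range (modE e c z a ∘ Equiv.swap c b)) := by
        rw [hrange]
        apply Submodule.span_le.mpr
        rintro _ ⟨j, rfl⟩
        by_cases hj : (j : ℕ) = 0
        · have hji : j = i0 l := Fin.ext (by rw [hj, hi0])
          have : modE0 e' a j = modE e c z a c := by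
            rw [hEc, hji]
            simp only [modE0]
            rw [if_pos hi0]
          rw [this]
          exact Submodule.subset_span ⟨c, rfl⟩
        · have h1 : modE0 e' a j = a • e' j := by simp only [modE0]; rw [if_neg hj]
          rw [h1]
          have h2 : e' j ∈ spanBefore R V e (1 + l) := by
            rw [spanBefore_len]
            exact hle (Submodule.subset_span ⟨j, rfl⟩)
          have h3 := hcomE (1 + l) h2
          rw [spanBefore_len] at h3
          exact h3
      obtain ⟨n1, h1a, h1b⟩ := case0 l ih V hlen D hD hgen e (modE e c z a) he hgE hA1 1 hEi0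
      obtain ⟨n2, h2a, h2b⟩ := case0 l ih V hlen D hD hgen e' (modE0 e' a) he' hgE' hA2 1 hE'i0
      have hmem3 : modE0 e' a (i0 l) ∈ spanBefore R V (modE e c z a ∘ Equiv.swap c b) (i + 1) := by
        have h1 : modE0 e' a (i0 l) = (modE e c z a ∘ Equiv.swap c b) b := by
          rw [Function.comp_apply, Equiv.swap_apply_right, hEc]
          simp only [modE0]
          rw [if_pos hi0]
        rw [h1]
        exact mem_spanBefore _ (show (b : ℕ) < i + 1 from Nat.lt_succ_self i)
      obtain ⟨n3, h3a, h3b⟩ := ih_i V hlen D hD hgen (modE e c z a ∘ Equiv.swap c b)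
        (modE0 e' a) hgS hgE' hA3 (by omega) hmem3
      have hswap : D (modE e c z a ∘ Equiv.swap c b) = - D (modE e c z a) := by
        apply hD.swap _ hgE.isAdmissible c b hbc
        intro x hx
        rw [hEc]
        have := he'.isAdmissible (i0 l) x hx
        rw [hi0, spanBefore_zero, Submodule.mem_bot] at this
        rw [this]
        exact Submodule.zero_mem _
      -- nonvanishing
      have hne : ∀ t : Fin (1 + l) → V, Good q t → D t ≠ 0 := fun t ht =>
        hgen t ht.isAdmissible (ht.span_eq_top hlen.symm)
      have d0 := hne e he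
      have d0' := hne e' he'
      have d1 := hne _ hgE
      have d2 := hne _ hgE'
      have d3 := hne _ hgS
      -- chains
      have c1 := rl_chain hA3 (by rw [hrange]; exact hA1 :
        Submodule.span R (Set.range (modE e c z a ∘ Equiv.swap c b)) ≤ Submodule.span R (Set.range e))
      have c2 := rl_chain hA2 hle
      rw [h3a] at c1
      rw [h2a] at c2
      have h1a' : rl (Submodule.span R (Set.range (modE e c z a ∘ Equiv.swap c b)))
          (Submodule.span R (Set.range e)) = n1 := by rw [hrange]; exact h1a
      rw [h1a'] at c1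
      rw [c1] at c2
      have hx : rl (Submodule.span R (Set.range e')) (Submodule.span R (Set.range e)) ≠ ⊤ := by
        intro h
        rw [h, add_top] at c2
        exact absurd c2 (by
          rw [← Nat.cast_add]; exact ENat.natCast_ne_top _)
      obtain ⟨m, hm⟩ := ENat.ne_top_iff_exists.mp hx
      rw [← hm] at c2
      have c3 : n3 + n1 = n2 + m := by exact_mod_cast c2
      refine ⟨m, hm.symm, ?_⟩
      have e1 := ordFrac_div (R := R ⧸ q) (K := q.ResidueField) d1 d0
      have e2 := ordFrac_div (R := R ⧸ q) (K := q.ResidueField) d2 d0'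
      have e3 := ordFrac_div (R := R ⧸ q) (K := q.ResidueField) d2 d3
      have e4 := ordFrac_div (R := R ⧸ q) (K := q.ResidueField) d0' d0
      rw [hswap] at e3 h3b
      rw [ordFrac_neg d1] at e3
      rw [e1] at h1b
      rw [e2] at h2b
      rw [e3] at h3b
      rw [e4]
      have c4 : (n3 : ℤ) + n1 = n2 + m := by exact_mod_cast c3
      linarith

theorem T_all [Ring.KrullDimLE 1 (R ⧸ q)] : ∀ l : ℕ, T q l := by
  intro l
  induction l with
  | zero =>
    intro V _ _ _ _ hlen D hD hgen e e' he he' hle
    have hee : e' = e := Subsingleton.elim _ _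
    have hne : D e ≠ 0 := hgen e he.isAdmissible (he.span_eq_top hlen.symm)
    refine ⟨0, ?_, ?_⟩
    · rw [hee, rl_self]; rfl
    · rw [hee, div_self hne, ordFrac_one]; rfl
  | succ l ih =>
    have h : T q (1 + l) := by
      intro V _ _ _ _ hlen D hD hgen e e' he he' hle
      apply caseI l ih l V hlen D hD hgen e e' he he' hle (by omega)
      rw [show l + 1 = 1 + l by omega, spanBefore_len]
      exact hle (Submodule.subset_span ⟨_, rfl⟩)
    rwa [Nat.add_comm] at h

end Groth.Agent.Lib.Helper26.CycGoodF
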