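import Mathlib
import Groth.Prelude
import Groth.Agent.Lib.Helper26.CycGoodF
import Groth.Agent.Lib.Helper26.CycFilt

set_option autoImplicit false
set_option linter.style.haveILetI false
set_option linter.unusedSectionVars false
universe u v w

namespace Groth.Agent.Lib.Helper26.CycGoodG

open CycDet IsLocalRing H12CycDet Function
open Groth.Agent.Lib.Helper26.RelLength Groth.Agent.Lib.Helper26.CycGoodA
  Groth.Agent.Lib.Helper26.CycGoodB Groth.Agent.Lib.Helper26.CycGoodC
  Groth.Agent.Lib.Helper26.CycGoodD Groth.Agent.Lib.Helper26.CycGoodE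
  Groth.Agent.Lib.Helper26.CycGoodF
  Groth.Agent.Lib.Helper26.CycDetA Groth.Agent.Lib.Helper26.CycDetB
  Groth.Agent.Lib.Helper26.CycDetF Groth.Agent.Lib.Helper26.CycDetG

section

variable {R : Type u} [CommRing R] [IsLocalRing R] {q : Ideal R} [q.IsPrime]
  {M : Type v} [AddCommGroup M] [Module R M] {l : ℕ}

theorem good_of_iso (x : Fin l → M)
    (hxq : ∀ i : Fin l, Nonempty ((↥(spanBefore R M x (i + 1)) ⧸
      (spanBefore R M x i).submoduleOf (spanBefore R M x (i + 1))) ≃ₗ[R] (R ⧸ q))) :
    Good q x := by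
  intro i r
  obtain ⟨φ⟩ := hxq i
  have hxi : x i ∈ spanBefore R M x ((i : ℕ) + 1) := mem_spanBefore x (Nat.lt_succ_self _)
  set g : ↥(spanBefore R M x ((i : ℕ) + 1)) := ⟨x i, hxi⟩ with hg
  have hiff : r • x i ∈ spanBefore R M x i ↔
      r • (Submodule.Quotient.mk g : ↥(spanBefore R M x ((i : ℕ) + 1)) ⧸
        (spanBefore R M x i).submoduleOf (spanBefore R M x ((i : ℕ) + 1))) = 0 := by
    rw [← Submodule.Quotient.mk_smul, Submodule.Quotient.mk_eq_zero]
    rfl
  rw [hiff]
  constructor
  · intro h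
    -- r kills the whole quotient
    have hall : ∀ y : ↥(spanBefore R M x ((i : ℕ) + 1)) ⧸
        (spanBefore R M x i).submoduleOf (spanBefore R M x ((i : ℕ) + 1)), r • y = 0 := by
      intro y
      obtain ⟨⟨a, ha⟩, rfl⟩ := Submodule.mkQ_surjective _ y
      have ha' := ha
      rw [spanBefore_succ, Submodule.mem_sup] at ha'
      obtain ⟨b, hb, w, hw, hbw⟩ := ha'
      obtain ⟨t, rfl⟩ := Submodule.mem_span_singleton.mp hw
      have : (Submodule.mkQ _ (⟨a, ha⟩ : ↥(spanBefore R M x ((i : ℕ) + 1))) :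
          ↥(spanBefore R M x ((i : ℕ) + 1)) ⧸
            (spanBefore R M x i).submoduleOf (spanBefore R M x ((i : ℕ) + 1))) =
          t • Submodule.Quotient.mk g := by
        rw [Submodule.mkQ_apply, ← Submodule.Quotient.mk_smul, Submodule.Quotient.eq]
        show a - t • x i ∈ spanBefore R M x i
        rw [← hbw]
        simpa using hb
      rw [this, smul_comm, h, smul_zero]
    have h1 := hall (φ.symm 1)
    rw [← map_smul, LinearEquiv.map_eq_zero_iff] at h1
    have h2 : r • (1 : R ⧸ q) = Ideal.Quotient.mk q r := by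
      rw [Algebra.smul_def, mul_one]; rfl
    rw [h2] at h1
    exact Ideal.Quotient.eq_zero_iff_mem.mp h1
  · intro hr
    apply φ.injective
    rw [map_smul, map_zero]
    have : ∀ y : R ⧸ q, r • y = 0 := by
      intro y
      rw [Algebra.smul_def]
      have : algebraMap R (R ⧸ q) r = 0 := Ideal.Quotient.eq_zero_iff_mem.mpr hr
      rw [this, zero_mul]
    exact this _

theorem good_map {N : Type v} [AddCommGroup N] [Module R N] (ι : M →ₗ[R] N) (hι : Injective ι)
    {x : Fin l → M} (hx : Good q x) : Good q (ι ∘ x) := by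
  intro i r
  rw [sB_map, Function.comp_apply, ← map_smul, ← hx i r]
  constructor
  · rintro ⟨w, hw, hwe⟩
    rw [← hι hwe]; exact hw
  · intro h
    exact ⟨_, h, rfl⟩

theorem mk_injective_of_good {x : Fin l → M} (hx : Good q x)
    (hspan : Submodule.span R (Set.range x) = ⊤) :
    Injective (LocalizedModule.mkLinearMap q.primeCompl M) := by
  rw [← LinearMap.ker_eq_bot, LinearMap.ker_eq_bot']
  intro v hv
  rw [LocalizedModule.mkLinearMap_apply, ← LocalizedModule.zero_mk 1, LocalizedModule.mk_eq] at hv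
  obtain ⟨s, hs⟩ := hv
  rw [one_smul, smul_zero, smul_zero] at hs
  have h1 : v ∈ spanBefore R M x l := by rw [spanBefore_len, hspan]; trivial
  have h2 : (s : R) • v ∈ spanBefore R M x 0 := by
    have : (s : R) • v = 0 := hs
    rw [this]; exact Submodule.zero_mem _
  have := hx.sat s.2 l 0 (Nat.zero_le _) le_rfl v h1 h2
  rwa [spanBefore_zero, Submodule.mem_bot] at this

end

section main

variable {R : Type u} [CommRing R] [IsNoetherianRing R] [IsLocalRing R] (q : PrimeSpectrum R)
  {M N : Type u} [AddCommGroup M] [Module R M] [AddCommGroup N] [Module R N]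

theorem length_loc_eq {l : ℕ} (x : Fin l → M) (hx : Submodule.span R (Set.range x) = ⊤)
    (hxq : ∀ i : Fin l, Nonempty ((↥(spanBefore R M x (i + 1)) ⧸
      (spanBefore R M x i).submoduleOf (spanBefore R M x (i + 1))) ≃ₗ[R] (R ⧸ q.asIdeal))) :
    (l : ℕ∞) = Module.length (Localization.AtPrime q.asIdeal)
      (LocalizedModule q.asIdeal.primeCompl M) := by
  apply Groth.Agent.Lib.Helper26.CycFilt.part2 q l x _ hxq
  rw [Module.notMem_support_iff]
  have : Subsingleton (M ⧸ Submodule.span R (Set.range x)) := by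
    rw [hx]; infer_instance
  infer_instance

theorem partA {l : ℕ} (φ : M →ₗ[R] N) (x : Fin l → M) (y : Fin l → N)
    (hx : Submodule.span R (Set.range x) = ⊤) (hy : Submodule.span R (Set.range y) = ⊤)
    (hxq : ∀ i : Fin l, Nonempty ((↥(spanBefore R M x (i + 1)) ⧸
      (spanBefore R M x i).submoduleOf (spanBefore R M x (i + 1))) ≃ₗ[R] (R ⧸ q.asIdeal)))
    (hyq : ∀ i : Fin l, Nonempty ((↥(spanBefore R N y (i + 1)) ⧸
      (spanBefore R N y i).submoduleOf (spanBefore R N y (i + 1))) ≃ₗ[R] (R ⧸ q.asIdeal))) :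
    Function.Injective φ ↔ Function.Bijective (LocalizedModule.map q.asIdeal.primeCompl φ) := by
  have hgx := good_of_iso (q := q.asIdeal) x hxq
  have hlM := length_loc_eq q x hx hxq
  have hlN := length_loc_eq q y hy hyq
  constructor
  · intro hφ
    have hinj := LocalizedModule.map_injective q.asIdeal.primeCompl φ hφ
    refine ⟨hinj, ?_⟩
    -- lengths agree, so the cokernel vanishes
    set ψ := LocalizedModule.map q.asIdeal.primeCompl φ with hψ
    have h1 := Module.length_eq_add_of_exact ψ (LinearMap.range ψ).mkQ hinj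
      (Submodule.mkQ_surjective _) (by rw [LinearMap.exact_iff, Submodule.ker_mkQ])
    rw [← hlM, ← hlN] at h1
    have h2 : Module.length (Localization.AtPrime q.asIdeal)
        (LocalizedModule q.asIdeal.primeCompl N ⧸ LinearMap.range ψ) = 0 := by
      have h3 : ((l : ℕ∞)) + 0 = l + Module.length (Localization.AtPrime q.asIdeal)
          (LocalizedModule q.asIdeal.primeCompl N ⧸ LinearMap.range ψ) := by
        rw [add_zero]; exact h1
      exact (ENat.add_right_injective_of_ne_top (ENat.natCast_ne_top l) h3).symm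
    rw [Module.length_eq_zero_iff, Submodule.Quotient.subsingleton_iff] at h2
    exact LinearMap.range_eq_top.mp h2
  · intro hb
    have hιM := mk_injective_of_good hgx hx
    intro m m' hmm
    apply hιM
    apply hb.1
    rw [LocalizedModule.mkLinearMap_apply, LocalizedModule.mkLinearMap_apply,
      LocalizedModule.map_mk, LocalizedModule.map_mk, hmm]

theorem partB (hq : ringKrullDim (R ⧸ q.asIdeal) = 1) {l : ℕ} (φ : M →ₗ[R] N) (x : Fin l → M)
    (y : Fin l → N)
    (hx : Submodule.span R (Set.range x) = ⊤) (hy : Submodule.span R (Set.range y) = ⊤)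
    (hxq : ∀ i : Fin l, Nonempty ((↥(spanBefore R M x (i + 1)) ⧸
      (spanBefore R M x i).submoduleOf (spanBefore R M x (i + 1))) ≃ₗ[R] (R ⧸ q.asIdeal)))
    (hyq : ∀ i : Fin l, Nonempty ((↥(spanBefore R N y (i + 1)) ⧸
      (spanBefore R N y i).submoduleOf (spanBefore R N y (i + 1))) ≃ₗ[R] (R ⧸ q.asIdeal)))
    (hφ : Function.Injective φ)
    (hl : (Module.length (Localization.AtPrime q.asIdeal)
      (LocalizedModule q.asIdeal.primeCompl N)).toNat = l)
    (ex ey : CycDet.Adm (Localization.AtPrime q.asIdeal) (LocalizedModule q.asIdeal.primeCompl N)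
      (Module.length (Localization.AtPrime q.asIdeal)
        (LocalizedModule q.asIdeal.primeCompl N)).toNat)
    (f : q.asIdeal.ResidueField)
    (hex : ex.1 = fun i => LocalizedModule.mkLinearMap q.asIdeal.primeCompl N
      (φ (x (Fin.cast hl i))))
    (hey : ey.1 = fun i => LocalizedModule.mkLinearMap q.asIdeal.primeCompl N
      (y (Fin.cast hl i)))
    (hsym : CycDet.symbol (Localization.AtPrime q.asIdeal)
        (LocalizedModule q.asIdeal.primeCompl N) ex =
      f • CycDet.symbol (Localization.AtPrime q.asIdeal)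
        (LocalizedModule q.asIdeal.primeCompl N) ey) :
    ∃ n : ℕ, Module.length R (N ⧸ LinearMap.range φ) = n ∧
      (n : ℤ) = CycAlg.ordFrac (R ⧸ q.asIdeal) q.asIdeal.ResidueField f := by
  haveI : Ring.KrullDimLE 1 (R ⧸ q.asIdeal) := Ring.krullDimLE_iff.mpr (by rw [hq]; rfl)
  have hlN := length_loc_eq q y hy hyq
  subst hl
  simp only [Fin.cast_eq_self] at hex hey
  have hgx := good_of_iso (q := q.asIdeal) x hxq
  have hgy := good_of_iso (q := q.asIdeal) y hyq
  have hι := mk_injective_of_good hgy hy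
  set ι := LocalizedModule.mkLinearMap q.asIdeal.primeCompl N with hιdef
  have hge : Good q.asIdeal (ι ∘ y) := good_map ι hι hgy
  have hge' : Good q.asIdeal ((ι ∘ₗ φ) ∘ x) :=
    good_map (ι ∘ₗ φ) (by rw [LinearMap.coe_comp]; exact hι.comp hφ) hgx
  obtain ⟨D, hD, hgen⟩ := exists_detFun _ (LocalizedModule q.asIdeal.primeCompl N) hlN.symm
  have hspe : Submodule.span R (Set.range (ι ∘ y)) = LinearMap.range ι := by
    rw [Set.range_comp, ← Submodule.map_span, hy, Submodule.map_top]
  have hspe' : Submodule.span R (Set.range ((ι ∘ₗ φ) ∘ x)) = (LinearMap.range φ).map ι := by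
    rw [Set.range_comp, ← Submodule.map_span, hx, Submodule.map_top, LinearMap.range_comp]
  have hle : Submodule.span R (Set.range ((ι ∘ₗ φ) ∘ x)) ≤ Submodule.span R (Set.range (ι ∘ y)) := by
    rw [hspe, hspe']
    rintro _ ⟨w, _, rfl⟩
    exact ⟨w, rfl⟩
  obtain ⟨n, hn1, hn2⟩ := T_all (q := q.asIdeal) _ (LocalizedModule q.asIdeal.primeCompl N)
    hlN.symm D hD hgen (ι ∘ y) ((ι ∘ₗ φ) ∘ x) hge hge' hle
  refine ⟨n, ?_, ?_⟩
  · rw [length_quotient_eq_rl ι hι, ← hspe, ← hspe']
    exact hn1
  · rw [hn2]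
    congr 1
    have h1 := congrArg (detFunctional hD) hsym
    rw [map_smul] at h1
    have h2 : detFunctional hD (CycDet.symbol (Localization.AtPrime q.asIdeal)
        (LocalizedModule q.asIdeal.primeCompl N) ex) = D ex.1 := detFunctional_symb hD ex
    have h3 : detFunctional hD (CycDet.symbol (Localization.AtPrime q.asIdeal)
        (LocalizedModule q.asIdeal.primeCompl N) ey) = D ey.1 := detFunctional_symb hD ey
    rw [h2, h3, smul_eq_mul] at h1
    have h4 : ex.1 = (ι ∘ₗ φ) ∘ x := by rw [hex]; rfl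
    have h5 : ey.1 = ι ∘ y := by rw [hey]; rfl
    rw [h4, h5] at h1
    have hne : D (ι ∘ y) ≠ 0 := hgen _ hge.isAdmissible (hge.span_eq_top hlN)
    rw [h1, mul_div_assoc, div_self hne, mul_one]

theorem main_1853 (R : Type u) [CommRing R] [IsNoetherianRing R] [IsLocalRing R]
    (q : PrimeSpectrum R) (hq : ringKrullDim (R ⧸ q.asIdeal) = 1) (M N : Type u) [AddCommGroup M]
    [Module R M] [AddCommGroup N] [Module R N] [Module.Finite R M] [Module.Finite R N]
    (φ : M →ₗ[R] N) (l : ℕ) (x : Fin l → M) (y : Fin l → N)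
    (hx : Submodule.span R (Set.range x) = ⊤) (hy : Submodule.span R (Set.range y) = ⊤)
    (hxq : ∀ i : Fin l, Nonempty ((↥(CycDet.spanBefore R M x (i + 1)) ⧸
      (CycDet.spanBefore R M x i).submoduleOf (CycDet.spanBefore R M x (i + 1))) ≃ₗ[R]
        (R ⧸ q.asIdeal)))
    (hyq : ∀ i : Fin l, Nonempty ((↥(CycDet.spanBefore R N y (i + 1)) ⧸
      (CycDet.spanBefore R N y i).submoduleOf (CycDet.spanBefore R N y (i + 1))) ≃ₗ[R]
        (R ⧸ q.asIdeal))) :
    (Function.Injective φ ↔ Function.Bijective (LocalizedModule.map q.asIdeal.primeCompl φ)) ∧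
    (Function.Injective φ → ∀ (hl : (Module.length (Localization.AtPrime q.asIdeal)
        (LocalizedModule q.asIdeal.primeCompl N)).toNat = l)
      (ex ey : CycDet.Adm (Localization.AtPrime q.asIdeal)
        (LocalizedModule q.asIdeal.primeCompl N)
        (Module.length (Localization.AtPrime q.asIdeal)
          (LocalizedModule q.asIdeal.primeCompl N)).toNat)
      (f : q.asIdeal.ResidueField),
      (ex.1 = fun i => LocalizedModule.mkLinearMap q.asIdeal.primeCompl N
        (φ (x (Fin.cast hl i)))) →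
      (ey.1 = fun i => LocalizedModule.mkLinearMap q.asIdeal.primeCompl N (y (Fin.cast hl i))) →
      CycDet.symbol (Localization.AtPrime q.asIdeal) (LocalizedModule q.asIdeal.primeCompl N) ex =
        f • CycDet.symbol (Localization.AtPrime q.asIdeal)
          (LocalizedModule q.asIdeal.primeCompl N) ey →
      ∃ n : ℕ, Module.length R (N ⧸ LinearMap.range φ) = n ∧
        (n : ℤ) = CycAlg.ordFrac (R ⧸ q.asIdeal) q.asIdeal.ResidueField f) :=
  ⟨partA q φ x y hx hy hxq hyq, fun hφ hl ex ey f hex hey hsym =>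
    partB q hq φ x y hx hy hxq hyq hφ hl ex ey f hex hey hsym⟩

end main

end Groth.Agent.Lib.Helper26.CycGoodG
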