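import Mathlib

set_option autoImplicit false
set_option linter.style.haveILetI false
set_option linter.unusedSectionVars false

namespace Groth.Agent.Lib.Helper26.DVRApprox

open IsDedekindDomain IsDedekindDomain.HeightOneSpectrum

universe u

section One

variable {K : Type u} [Field K] (O : ValuationSubring K) [IsDiscreteValuationRing O]

/-- the real absolute value attached to a DVR subring -/
noncomputable def W : AbsoluteValue K ℝ :=
  (IsDiscreteValuationRing.maximalIdeal O).adicAbv (K := K) (b := 2) (by norm_num)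

lemma W_le_one_of_mem {x : K} (hx : x ∈ O) : W O x ≤ 1 :=
  adicAbv_coe_le_one (K := K) (IsDiscreteValuationRing.maximalIdeal O) (b := 2) (by norm_num) ⟨x, hx⟩

lemma W_lt_one_iff {x : K} (hx : x ∈ O) :
    W O x < 1 ↔ (⟨x, hx⟩ : O) ∈ IsLocalRing.maximalIdeal O :=
  adicAbv_coe_lt_one_iff (K := K) (IsDiscreteValuationRing.maximalIdeal O) (b := 2) (by norm_num) ⟨x, hx⟩

lemma mem_of_W_le_one {x : K} (h : W O x ≤ 1) : x ∈ O := by
  by_contra hx
  have hx' : x⁻¹ ∈ O := (O.mem_or_inv_mem x).resolve_left hx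
  have hx0 : x ≠ 0 := fun h0 => hx (h0 ▸ O.zero_mem)
  have hnu : (⟨x⁻¹, hx'⟩ : O) ∈ IsLocalRing.maximalIdeal O := by
    rw [IsLocalRing.mem_maximalIdeal, mem_nonunits_iff]
    intro hu
    obtain ⟨y, hy⟩ := hu.exists_right_inv
    have h4 : x⁻¹ * (y : K) = 1 := by
      have := congrArg (fun z : O => (z : K)) hy
      simpa using this
    have h5 : (y : K) = x := by
      field_simp at h4
      exact h4
    exact hx (h5 ▸ y.2)
  have h1 := (W_lt_one_iff O hx').mpr hnu
  rw [map_inv₀] at h1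
  have hpos : 0 < W O x := (W O).pos hx0
  have : 1 < W O x := by
    rcases lt_or_ge 1 (W O x) with h | hle
    · exact h
    · have := one_le_inv₀ hpos |>.mpr hle
      linarith
  linarith

lemma mem_maximalIdeal_of_W_lt_one {x : K} (h : W O x < 1) :
    ∃ hx : x ∈ O, (⟨x, hx⟩ : O) ∈ IsLocalRing.maximalIdeal O :=
  ⟨mem_of_W_le_one O h.le, (W_lt_one_iff O _).mp h⟩

lemma W_nontrivial : (W O).IsNontrivial := by
  obtain ⟨ϖ, hϖ⟩ := IsDiscreteValuationRing.exists_irreducible O
  refine ⟨(ϖ : K), ?_, ?_⟩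
  · intro h0
    exact hϖ.ne_zero (Subtype.ext h0)
  · have : W O (ϖ : K) < 1 := by
      rw [W_lt_one_iff O ϖ.2, IsLocalRing.mem_maximalIdeal, mem_nonunits_iff]
      exact hϖ.not_isUnit
    exact this.ne

lemma W_nonarch : IsNonarchimedean (W O) :=
  isNonarchimedean_adicAbv (K := K) (IsDiscreteValuationRing.maximalIdeal O) (b := 2) (by norm_num)

end One

section Main

variable (K : Type u) [Field K]

theorem main_7931 {r : ℕ} (O : Fin r → ValuationSubring K)
    (hO : ∀ i, IsDiscreteValuationRing (O i)) (hinj : Function.Injective O)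
    (fs : Fin r → K) (n : Fin r → ℤ) :
    ∃ f : K, ∀ i : Fin r, ∃ (ϖ : O i) (_ : Irreducible ϖ) (w : (O i)ˣ),
      f - fs i = ((w : O i) : K) * ((ϖ : K) ^ (n i)) := by
  classical
  have hirr : ∀ i, ∃ ϖ : O i, Irreducible ϖ := fun i =>
    IsDiscreteValuationRing.exists_irreducible (O i)
  choose ϖ hϖ using hirr
  let w : Fin r → AbsoluteValue K ℝ := fun i => W (O i)
  have hnt : ∀ i, (w i).IsNontrivial := fun i => W_nontrivial (O i)
  have hne : Pairwise fun i j => ¬ (w i).IsEquiv (w j) := by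
    intro i j hij heq
    apply hij
    apply hinj
    ext x
    have := heq x 1
    rw [map_one, map_one] at this
    constructor
    · intro hx
      exact mem_of_W_le_one (O j) (this.mp (W_le_one_of_mem (O i) hx))
    · intro hx
      exact mem_of_W_le_one (O i) (this.mpr (W_le_one_of_mem (O j) hx))
  have hdense := AbsoluteValue.denseRange_algebraMap_pi hnt hne
  -- targets
  let g : Fin r → K := fun i => fs i + (ϖ i : K) ^ (n i)
  have hϖ0 : ∀ i, (ϖ i : K) ≠ 0 := fun i h0 => (hϖ i).ne_zero (Subtype.ext h0)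
  have hcpos : ∀ i, 0 < w i ((ϖ i : K) ^ (n i)) := fun i =>
    (w i).pos (zpow_ne_zero _ (hϖ0 i))
  obtain ⟨ε, hε, hεle⟩ : ∃ ε : ℝ, 0 < ε ∧ ∀ i, ε ≤ w i ((ϖ i : K) ^ (n i)) := by
    rcases isEmpty_or_nonempty (Fin r) with he | hne'
    · exact ⟨1, one_pos, fun i => he.elim i⟩
    · obtain ⟨i₀, hi₀⟩ := Finite.exists_min (fun i => w i ((ϖ i : K) ^ (n i)))
      exact ⟨_, hcpos i₀, hi₀⟩
  obtain ⟨f, hf⟩ := (Metric.denseRange_iff.mp hdense) (fun i => WithAbs.toAbs (w i) (g i)) ε hε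
  rw [dist_pi_lt_iff hε] at hf
  refine ⟨f, fun i => ?_⟩
  have hfi : w i (f - g i) < w i ((ϖ i : K) ^ (n i)) := by
    refine lt_of_lt_of_le ?_ (hεle i)
    have := hf i
    rw [dist_comm, dist_eq_norm] at this
    exact this
  -- h = (f - g i) / ϖ^n
  set h : K := (f - g i) / (ϖ i : K) ^ (n i) with hh
  have hcne : (ϖ i : K) ^ (n i) ≠ 0 := zpow_ne_zero _ (hϖ0 i)
  have hwh : w i h < 1 := by
    rw [hh, map_div₀, div_lt_one (hcpos i)]
    exact hfi
  obtain ⟨hmem, hmax⟩ := mem_maximalIdeal_of_W_lt_one (O i) hwh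
  have hunit : IsUnit ((1 : O i) + ⟨h, hmem⟩) := by
    have := IsLocalRing.isUnit_one_sub_self_of_mem_nonunits (-(⟨h, hmem⟩ : O i))
      (by rw [← IsLocalRing.mem_maximalIdeal]; exact neg_mem hmax)
    simpa [sub_neg_eq_add] using this
  obtain ⟨u, hu⟩ := hunit
  refine ⟨ϖ i, hϖ i, u, ?_⟩
  rw [hu]
  show f - fs i = ((1 : K) + h) * (ϖ i : K) ^ (n i)
  rw [hh]
  field_simp
  simp only [g]
  ring

end Main

end Groth.Agent.Lib.Helper26.DVRApprox
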