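import Mathlib
set_option linter.style.haveILetI false
set_option linter.unusedSectionVars false
open IsDiscreteValuationRing Polynomial

namespace Groth.Agent.Lib.Helper26.DVRpBasis
universe u
variable (p : ℕ) [hp : Fact p.Prime] {R : Type u} [CommRing R]
    [IsDomain R] [IsDiscreteValuationRing R]

/-- valuation of a term, finite case -/
lemma term_val {π : R} (hπ : Irreducible π) (j : ℕ) (c : R) (hc : c ≠ 0) :
    ∃ m : ℕ, addVal R (π ^ j * c ^ p) = ((j + p * m : ℕ) : ℕ∞) := by
  have h1 : addVal R c ≠ ⊤ := fun h => hc (addVal_eq_top_iff.mp h)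
  obtain ⟨m, hm⟩ := ENat.ne_top_iff_exists.mp h1
  refine ⟨m, ?_⟩
  rw [addVal_mul, hπ.addVal_pow, addVal_pow, ← hm]
  push_cast
  simp [nsmul_eq_mul]

lemma key {π : R} (hπ : Irreducible π) (c : Fin p → R) (i : Fin p) :
    addVal R (∑ j : Fin p, π ^ (j : ℕ) * c j ^ p) ≤ addVal R (π ^ (i : ℕ) * c i ^ p) := by
  classical
  have hp0 : 0 < p := hp.out.pos
  have hpne : p ≠ 0 := hp0.ne'
  set t : Fin p → R := fun j => π ^ (j : ℕ) * c j ^ p with ht
  have hne : (Finset.univ : Finset (Fin p)).Nonempty := ⟨⟨0, hp0⟩, Finset.mem_univ _⟩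
  obtain ⟨j0, -, hj0⟩ := Finset.exists_min_image Finset.univ (fun j => addVal R (t j)) hne
  by_cases htop : addVal R (t j0) = ⊤
  · have : addVal R (t i) = ⊤ := by
      have := hj0 i (Finset.mem_univ _)
      rw [htop] at this
      exact top_le_iff.mp this
    change _ ≤ addVal R (t i)
    rw [this]; exact le_top
  · -- strictness
    have hc0 : c j0 ≠ 0 := by
      intro h
      apply htop
      simp [ht, h, hpne]
    obtain ⟨m0, hm0⟩ := term_val p hπ (j0 : ℕ) (c j0) hc0
    have hstrict : ∀ j ∈ Finset.univ.erase j0, addVal R (t j0) < addVal R (t j) := by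
      intro j hj
      have hjne : j ≠ j0 := (Finset.mem_erase.mp hj).1
      refine lt_of_le_of_ne (hj0 j (Finset.mem_univ _)) ?_
      intro heq
      by_cases hcj : c j = 0
      · apply htop
        rw [heq]
        simp [ht, hcj, hpne]
      · obtain ⟨m, hm⟩ := term_val p hπ (j : ℕ) (c j) hcj
        change addVal R (π ^ (j0 : ℕ) * c j0 ^ p) = addVal R (π ^ (j : ℕ) * c j ^ p) at heq
        rw [hm0, hm] at heq
        have h2 : (j0 : ℕ) + p * m0 = (j : ℕ) + p * m := by exact_mod_cast heq
        have h3 : (j0 : ℕ) % p = (j : ℕ) % p := by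
          have := congrArg (· % p) h2
          simpa [Nat.add_mul_mod_self_left] using this
        rw [Nat.mod_eq_of_lt j0.2, Nat.mod_eq_of_lt j.2] at h3
        exact hjne (Fin.ext h3.symm)
    have hlt : addVal R (t j0) < addVal R (∑ j ∈ Finset.univ.erase j0, t j) :=
      (addVal R).map_lt_sum htop hstrict
    have hsum : ∑ j, t j = t j0 + ∑ j ∈ Finset.univ.erase j0, t j := by
      rw [Finset.add_sum_erase _ _ (Finset.mem_univ j0)]
    change addVal R (∑ j, t j) ≤ addVal R (t i)
    rw [hsum, (addVal R).map_add_eq_of_lt_left hlt]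
    exact hj0 i (Finset.mem_univ _)

/-- uniqueness of digits -/
lemma eq_zero_of_sum_eq_zero {π : R} (hπ : Irreducible π) (c : Fin p → R)
    (h : ∑ j : Fin p, π ^ (j : ℕ) * c j ^ p = 0) (i : Fin p) : c i = 0 := by
  have h1 := key p hπ c i
  rw [h, addVal_zero, top_le_iff, addVal_eq_top_iff] at h1
  rcases mul_eq_zero.mp h1 with h2 | h2
  · exact absurd h2 (pow_ne_zero _ hπ.ne_zero)
  · exact (pow_eq_zero_iff hp.out.pos.ne').mp h2

variable {K : Type u} [Field K] [Algebra R K] [IsFractionRing R K]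

lemma clear_denoms (y : Fin p → K) : ∃ b : R, b ≠ 0 ∧ ∃ n : Fin p → R,
    ∀ i, algebraMap R K (n i) = algebraMap R K b * y i := by
  obtain ⟨b, hb⟩ := IsLocalization.exist_integer_multiples (nonZeroDivisors R) Finset.univ y
  refine ⟨b, nonZeroDivisors.ne_zero b.2, ?_⟩
  choose n hn using fun i => hb i (Finset.mem_univ i)
  exact ⟨n, fun i => by rw [hn i, Algebra.smul_def]⟩

lemma lin_indep {π : R} (hπ : Irreducible π) (y : Fin p → K)
    (h : ∑ j : Fin p, algebraMap R K π ^ (j : ℕ) * y j ^ p = 0) (i : Fin p) : y i = 0 := by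
  obtain ⟨b, hb0, n, hn⟩ := clear_denoms p (R := R) y
  have hinj := IsFractionRing.injective R K
  have h1 : ∑ j : Fin p, π ^ (j : ℕ) * n j ^ p = 0 := by
    apply hinj
    rw [map_sum, map_zero]
    have : ∀ j : Fin p, algebraMap R K (π ^ (j : ℕ) * n j ^ p) =
        algebraMap R K b ^ p * (algebraMap R K π ^ (j : ℕ) * y j ^ p) := by
      intro j
      rw [map_mul, map_pow, map_pow, hn j]; ring
    rw [Finset.sum_congr rfl fun j _ => this j, ← Finset.mul_sum, h, mul_zero]
  have h2 := eq_zero_of_sum_eq_zero p hπ n h1 i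
  have h3 := hn i
  rw [h2, map_zero] at h3
  rcases mul_eq_zero.mp h3.symm with h4 | h4
  · exact absurd ((map_eq_zero_iff _ hinj).mp h4) hb0
  · exact h4

lemma integral_digits {π : R} (hπ : Irreducible π) (r : R) (y : Fin p → K)
    (h : algebraMap R K r = ∑ j : Fin p, algebraMap R K π ^ (j : ℕ) * y j ^ p) (i : Fin p) :
    ∃ c : R, y i = algebraMap R K c := by
  obtain ⟨b, hb0, n, hn⟩ := clear_denoms p (R := R) y
  have hinj := IsFractionRing.injective R K
  have h1 : b ^ p * r = ∑ j : Fin p, π ^ (j : ℕ) * n j ^ p := by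
    apply hinj
    rw [map_sum, map_mul, map_pow, h]
    have : ∀ j : Fin p, algebraMap R K (π ^ (j : ℕ) * n j ^ p) =
        algebraMap R K b ^ p * (algebraMap R K π ^ (j : ℕ) * y j ^ p) := by
      intro j
      rw [map_mul, map_pow, map_pow, hn j]; ring
    rw [Finset.sum_congr rfl fun j _ => this j, ← Finset.mul_sum]
  have h2 := key p hπ n i
  rw [← h1] at h2
  -- b ∣ n i
  have hdvd : b ∣ n i := by
    by_cases hni : n i = 0
    · rw [hni]; exact dvd_zero b
    rw [← addVal_le_iff_dvd]
    have hb1 : addVal R b ≠ ⊤ := fun h => hb0 (addVal_eq_top_iff.mp h)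
    have hn1 : addVal R (n i) ≠ ⊤ := fun h => hni (addVal_eq_top_iff.mp h)
    obtain ⟨vb, hvb⟩ := ENat.ne_top_iff_exists.mp hb1
    obtain ⟨vn, hvn⟩ := ENat.ne_top_iff_exists.mp hn1
    have h3 : addVal R (b ^ p) ≤ addVal R (b ^ p * r) := by
      rw [addVal_mul]; exact le_self_add
    have h4 := h3.trans h2
    rw [addVal_pow, addVal_mul, hπ.addVal_pow, addVal_pow, ← hvb, ← hvn] at h4
    have h5 : p * vb ≤ (i : ℕ) + p * vn := by
      have : ((p * vb : ℕ) : ℕ∞) ≤ (((i : ℕ) + p * vn : ℕ) : ℕ∞) := by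
        push_cast
        simpa [nsmul_eq_mul] using h4
      exact_mod_cast this
    rw [← hvb, ← hvn]
    have h6 : vb ≤ vn := by
      by_contra hlt
      push Not at hlt
      have : p * (vn + 1) ≤ p * vb := Nat.mul_le_mul_left p hlt
      have hi := i.2
      nlinarith
    exact_mod_cast h6
  obtain ⟨c, hc⟩ := hdvd
  refine ⟨c, ?_⟩
  have h3 := hn i
  rw [hc, map_mul] at h3
  have hb' : algebraMap R K b ≠ 0 := fun h => hb0 ((map_eq_zero_iff _ hinj).mp h)
  exact (mul_left_cancel₀ hb' h3).symm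

variable [CharP R p]

theorem part1 (kp : Subfield K) (hkp : ∀ x : K, x ∈ kp ↔ ∃ y : K, y ^ p = x)
    (hdeg : Module.finrank kp K = p) (π : R) (hπ : Irreducible π) (r : R) :
    ∃! c : Fin p → R, r = ∑ i : Fin p, π ^ (i : ℕ) * c i ^ p := by
  have hinj := IsFractionRing.injective R K
  haveI : Nonempty (Fin p) := ⟨⟨0, hp.out.pos⟩⟩
  -- uniqueness
  have huniq : ∀ c c' : Fin p → R, (∑ i : Fin p, π ^ (i : ℕ) * c i ^ p) =
      (∑ i : Fin p, π ^ (i : ℕ) * c' i ^ p) → c = c' := by
    intro c c' h
    funext i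
    have h1 : ∑ j : Fin p, π ^ (j : ℕ) * (c j - c' j) ^ p = 0 := by
      have : ∀ j : Fin p, π ^ (j : ℕ) * (c j - c' j) ^ p =
          π ^ (j : ℕ) * c j ^ p - π ^ (j : ℕ) * c' j ^ p := by
        intro j; rw [sub_pow_char]; ring
      rw [Finset.sum_congr rfl fun j _ => this j, Finset.sum_sub_distrib, h, sub_self]
    exact sub_eq_zero.mp (eq_zero_of_sum_eq_zero p hπ _ h1 i)
  -- linear independence
  let b : Fin p → K := fun i => algebraMap R K π ^ (i : ℕ)
  have hli : LinearIndependent kp b := by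
    rw [Fintype.linearIndependent_iff]
    intro g hg i
    choose y hy using fun j => (hkp (g j)).mp (g j).2
    have h1 : ∑ j : Fin p, algebraMap R K π ^ (j : ℕ) * y j ^ p = 0 := by
      rw [← hg]
      refine Finset.sum_congr rfl fun j _ => ?_
      rw [hy j, Subfield.smul_def, smul_eq_mul, mul_comm]
    have h2 := lin_indep p hπ y h1 i
    have h3 := hy i
    rw [h2, zero_pow hp.out.pos.ne'] at h3
    exact Subtype.ext h3.symm
  have hspan := hli.span_eq_top_of_card_eq_finrank (by rw [Fintype.card_fin, hdeg])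
  have hmem : algebraMap R K r ∈ Submodule.span kp (Set.range b) := by rw [hspan]; trivial
  obtain ⟨g, hg⟩ := (Submodule.mem_span_range_iff_exists_fun kp).mp hmem
  choose y hy using fun j => (hkp (g j)).mp (g j).2
  have h1 : algebraMap R K r = ∑ j : Fin p, algebraMap R K π ^ (j : ℕ) * y j ^ p := by
    rw [← hg]
    refine Finset.sum_congr rfl fun j _ => ?_
    rw [hy j, Subfield.smul_def, smul_eq_mul, mul_comm]
  choose c hc using fun i => integral_digits p hπ r y h1 i
  refine ⟨c, ?_, ?_⟩
  · apply hinj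
    rw [h1, map_sum]
    refine Finset.sum_congr rfl fun j _ => ?_
    rw [map_mul, map_pow, map_pow, hc j]
  · intro c' hc'
    refine huniq c' c ?_
    rw [← hc']
    apply hinj
    rw [h1, map_sum]
    refine Finset.sum_congr rfl fun j _ => ?_
    rw [map_mul, map_pow, map_pow, hc j]


/-- Frobenius on coefficients, then evaluate at `π`. -/
noncomputable def psi (π : R) : R[X] →+* R := Polynomial.eval₂RingHom (frobenius R p) π

lemma psi_apply (π : R) (f : R[X]) : psi p π f = f.eval₂ (frobenius R p) π := rfl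

lemma psi_X (π : R) : psi p π X = π := by simp [psi_apply]
lemma psi_C (π a : R) : psi p π (C a) = a ^ p := by simp [psi_apply, frobenius_def]

lemma psi_of_lt (π : R) (f : R[X]) (hf : f.natDegree < p) :
    psi p π f = ∑ i : Fin p, π ^ (i : ℕ) * f.coeff i ^ p := by
  rw [psi_apply, Polynomial.eval₂_eq_sum_range' _ hf, Finset.sum_range]
  refine Finset.sum_congr rfl fun i _ => ?_
  rw [frobenius_def, mul_comm]

lemma psi_ker {π : R} (hπ : Irreducible π) (h : R[X]) (hh : psi p π h = 0) :
    psi p π (derivative h) = 0 := by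
  have hp0 : p ≠ 0 := hp.out.ne_zero
  set g : R[X] := X ^ p - C π with hg
  have hgm : g.Monic := monic_X_pow_sub_C π hp0
  have hpsig : psi p π g = 0 := by
    rw [hg, map_sub, map_pow, psi_X, psi_C, sub_self]
  have hdecomp := Polynomial.modByMonic_add_div h g
  have hdeg : (h %ₘ g).natDegree < p := by
    have h1 := Polynomial.natDegree_modByMonic_lt h hgm (by
      intro h1
      have := congrArg natDegree h1
      rw [hg, natDegree_X_pow_sub_C, natDegree_one] at this
      exact hp0 this)
    rwa [hg, natDegree_X_pow_sub_C] at h1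
  have hrem : h %ₘ g = 0 := by
    have h1 : psi p π (h %ₘ g) = 0 := by
      have := congrArg (psi p π) hdecomp
      rw [map_add, map_mul, hpsig, zero_mul, add_zero, hh] at this
      exact this
    rw [psi_of_lt p π _ hdeg] at h1
    ext i
    rw [coeff_zero]
    by_cases hi : i < p
    · exact eq_zero_of_sum_eq_zero p hπ (fun j : Fin p => (h %ₘ g).coeff j) h1 ⟨i, hi⟩
    · exact coeff_eq_zero_of_natDegree_lt (by omega)
  have hdg : derivative g = 0 := by
    rw [hg, derivative_sub, derivative_C, derivative_X_pow, sub_zero]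
    have : (p : R) = 0 := CharP.cast_eq_zero R p
    rw [this, C_0, zero_mul]
  rw [← hdecomp, hrem, zero_add, derivative_mul, hdg, zero_mul, zero_add, map_mul, hpsig, zero_mul]

variable {K : Type u} [Field K] [Algebra R K] [IsFractionRing R K]

lemma psi_surj (kp : Subfield K) (hkp : ∀ x : K, x ∈ kp ↔ ∃ y : K, y ^ p = x)
    (hdeg : Module.finrank kp K = p) (π : R) (hπ : Irreducible π) (r : R) :
    ∃ f : R[X], psi p π f = r := by
  obtain ⟨c, hc, -⟩ := part1 p kp hkp hdeg π hπ r
  refine ⟨∑ i : Fin p, C (c i) * X ^ (i : ℕ), ?_⟩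
  rw [map_sum, hc]
  refine Finset.sum_congr rfl fun i _ => ?_
  rw [map_mul, map_pow, psi_X, psi_C, mul_comm]


theorem exists_derivation (kp : Subfield K) (hkp : ∀ x : K, x ∈ kp ↔ ∃ y : K, y ^ p = x)
    (hdeg : Module.finrank kp K = p) (π : R) (hπ : Irreducible π) :
    ∃ δ : Derivation ℤ R R, δ π = 1 := by
  have hsurj := psi_surj p kp hkp hdeg π hπ
  choose F hF using hsurj
  let d : R → R := fun r => psi p π (derivative (F r))
  have hspec : ∀ f : R[X], d (psi p π f) = psi p π (derivative f) := by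
    intro f
    have h1 : psi p π (F (psi p π f) - f) = 0 := by rw [map_sub, hF, sub_self]
    have h2 := psi_ker p hπ _ h1
    rw [derivative_sub, map_sub, sub_eq_zero] at h2
    exact h2
  have hadd : ∀ a b, d (a + b) = d a + d b := by
    intro a b
    have : a + b = psi p π (F a + F b) := by rw [map_add, hF, hF]
    rw [this, hspec, derivative_add, map_add]
  have hmul : ∀ a b, d (a * b) = a * d b + b * d a := by
    intro a b
    have : a * b = psi p π (F a * F b) := by rw [map_mul, hF, hF]
    rw [this, hspec, derivative_mul, map_add, map_mul, map_mul, hF, hF]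
    ring
  let dA : R →+ R := AddMonoidHom.mk' d hadd
  refine ⟨Derivation.mk' dA.toIntLinearMap (fun a b => ?_), ?_⟩
  · change d (a * b) = a • d b + b • d a
    rw [hmul, smul_eq_mul, smul_eq_mul]
  · change d π = 1
    have : π = psi p π X := (psi_X p π).symm
    rw [this, hspec, derivative_X, map_one]

theorem part2 (kp : Subfield K) (hkp : ∀ x : K, x ∈ kp ↔ ∃ y : K, y ^ p = x)
    (hdeg : Module.finrank kp K = p) (π : R) (hπ : Irreducible π) :
    Function.Bijective (fun r : R => r • KaehlerDifferential.D ℤ R π) := by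
  obtain ⟨δ, hδ⟩ := exists_derivation p kp hkp hdeg π hπ
  constructor
  · intro r r' h
    have h1 := congrArg δ.liftKaehlerDifferential h
    simp only [map_smul, Derivation.liftKaehlerDifferential_comp_D, hδ, smul_eq_mul, mul_one] at h1
    exact h1
  · -- surjectivity
    let L : R →ₗ[R] Ω[R⁄ℤ] := LinearMap.toSpanSingleton R _ (KaehlerDifferential.D ℤ R π)
    have hL : ∀ r, L r = r • KaehlerDifferential.D ℤ R π := fun r => rfl
    have htop : LinearMap.range L = ⊤ := by
      rw [eq_top_iff, ← KaehlerDifferential.span_range_derivation, Submodule.span_le]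
      rintro _ ⟨r, rfl⟩
      obtain ⟨c, hc, -⟩ := part1 p kp hkp hdeg π hπ r
      rw [hc, map_sum]
      refine Submodule.sum_mem _ fun i _ => ?_
      rw [Derivation.leibniz, Derivation.leibniz_pow, Derivation.leibniz_pow]
      have hp0 : (p : ℕ) • (c i ^ (p - 1) • KaehlerDifferential.D ℤ R (c i)) = 0 := by
        rw [← Nat.cast_smul_eq_nsmul R, CharP.cast_eq_zero R p, zero_smul]
      rw [hp0, smul_zero, zero_add]
      refine ⟨c i ^ p * (((i : ℕ) : R) * π ^ ((i : ℕ) - 1)), ?_⟩
      rw [hL, mul_smul, mul_smul, Nat.cast_smul_eq_nsmul]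
    intro ω
    have : ω ∈ LinearMap.range L := by rw [htop]; trivial
    obtain ⟨r, hr⟩ := this
    exact ⟨r, hr⟩


end Groth.Agent.Lib.Helper26.DVRpBasis
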