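import Mathlib

namespace Groth.Agent.Lib.Helper26.DedA
universe u

theorem height_le_one_of_forall_mem {D : Type*} [CommRing D] [IsDomain D] [IsNoetherianRing D]
    (M : Ideal D) [hM : M.IsPrime] (π : D) (hπM : π ∈ M) (hπ0 : π ≠ 0)
    (h : ∀ Q : Ideal D, Q.IsPrime → Q ≠ ⊥ → Q ≤ M → π ∈ Q) : M.height ≤ 1 := by
  classical
  have hfin : (Ideal.span {π}).minimalPrimes.Finite :=
    Ideal.finite_minimalPrimes_of_isNoetherianRing D _
  have hπle : Ideal.span {π} ≤ M := (Ideal.span_singleton_le_iff_mem M).mpr hπM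
  have hcover : (M : Set D) ⊆ ⋃ P ∈ (hfin.toFinset : Set (Ideal D)), (P : Set D) := by
    intro x hx
    by_cases hx0 : x = 0
    · obtain ⟨P, hP, -⟩ := Ideal.exists_minimalPrimes_le hπle
      simp only [Set.mem_iUnion]
      exact ⟨P, by simpa using hP, by rw [hx0]; exact P.zero_mem⟩
    · have hxle : Ideal.span {x} ≤ M := (Ideal.span_singleton_le_iff_mem M).mpr hx
      obtain ⟨P, hP, hPM⟩ := Ideal.exists_minimalPrimes_le hxle
      haveI hPp : P.IsPrime := hP.1.1
      have hxP : x ∈ P := hP.1.2 (Ideal.mem_span_singleton_self x)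
      have hPne : P ≠ ⊥ := fun h0 => hx0 (by rw [h0] at hxP; exact hxP)
      have hPht : P.height ≤ 1 := Ideal.height_le_one_of_isPrincipal_of_mem_minimalPrimes _ _ hP
      have hπP : π ∈ P := h P hPp hPne hPM
      obtain ⟨P', hP', hP'P⟩ := Ideal.exists_minimalPrimes_le
        ((Ideal.span_singleton_le_iff_mem P).mpr hπP)
      haveI hP'p : P'.IsPrime := hP'.1.1
      have hP'ne : P' ≠ ⊥ := fun h0 => hπ0 (by
        have := hP'.1.2 (Ideal.mem_span_singleton_self π)
        rw [h0] at this; exact this)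
      have heq : P' = P := by
        by_contra hne
        have hlt : P' < P := lt_of_le_of_ne hP'P hne
        have h1 := Ideal.height_add_one_le_of_lt_of_isPrime hlt
        have h2 : (⊥ : Ideal D) < P' := bot_lt_iff_ne_bot.mpr hP'ne
        haveI : (⊥ : Ideal D).IsPrime := Ideal.isPrime_bot
        have h3 := Ideal.height_add_one_le_of_lt_of_isPrime h2
        have h4 : (1 : ℕ∞) + 1 ≤ 1 := by
          calc (1 : ℕ∞) + 1 ≤ ((⊥ : Ideal D).height + 1) + 1 := by
                gcongr; exact le_add_self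
            _ ≤ P'.height + 1 := by gcongr
            _ ≤ P.height := h1
            _ ≤ 1 := hPht
        exact absurd h4 (by decide)
      simp only [Set.mem_iUnion]
      exact ⟨P, by rw [← heq]; simpa using hP', hxP⟩
  have hprime : ∀ P ∈ hfin.toFinset, P ≠ (⊥ : Ideal D) → P ≠ (⊥ : Ideal D) → P.IsPrime := by
    intro P hP _ _
    have : P ∈ (Ideal.span {π}).minimalPrimes := by simpa using hP
    exact this.1.1
  obtain ⟨P, hP, hMP⟩ := (Ideal.subset_union_prime (s := hfin.toFinset) (f := fun P => P)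
    ⊥ ⊥ hprime (I := M)).mp hcover
  have hP' : P ∈ (Ideal.span {π}).minimalPrimes := by simpa using hP
  exact (Ideal.height_mono hMP).trans
    (Ideal.height_le_one_of_isPrincipal_of_mem_minimalPrimes _ _ hP')

theorem trdeg_quot_maximal (R A : Type u) [CommRing R] [CommRing A] [Algebra R A]
    [Algebra.FiniteType R A] (p : Ideal R) [hp : p.IsMaximal] (m : Ideal A) [hm : m.IsMaximal]
    [m.LiesOver p] : Algebra.trdeg (R ⧸ p) (A ⧸ m) = 0 := by
  letI : Field (R ⧸ p) := Ideal.Quotient.field p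
  letI : Field (A ⧸ m) := Ideal.Quotient.field m
  haveI : Algebra.FiniteType R (A ⧸ m) :=
    Algebra.FiniteType.of_surjective (Ideal.Quotient.mkₐ R m) (Ideal.Quotient.mkₐ_surjective R m)
  haveI : Algebra.FiniteType (R ⧸ p) (A ⧸ m) :=
    Algebra.FiniteType.of_restrictScalars_finiteType R (R ⧸ p) (A ⧸ m)
  haveI : Module.Finite (R ⧸ p) (A ⧸ m) := finite_of_finite_type_of_isJacobsonRing (R ⧸ p) (A ⧸ m)
  haveI : Algebra.IsAlgebraic (R ⧸ p) (A ⧸ m) := Algebra.IsAlgebraic.of_finite _ _
  exact _root_.trdeg_eq_zero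

end Groth.Agent.Lib.Helper26.DedA
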