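import Mathlib
import Groth.Agent.Lib.Helper26.DedA
import Groth.Agent.Lib.Helper18.DimFormula3
import Groth.Agent.Lib.Helper18.UCat
import Groth.Agent.Lib.Helper16.RegularRingFacts

namespace Groth.Agent.Lib.Helper26.DedB
universe u
open Groth.Agent.Lib.Helper26

theorem alg_core (R A : Type u) [CommRing R] [IsDomain R] [IsRegularRing R]
    [Ring.DimensionLEOne R] [CommRing A] [Algebra R A] [Algebra.FiniteType R A]
    (m' : Ideal A) [hm' : m'.IsMaximal] (hp : (m'.under R).IsMaximal) (q₀ : Ideal A)
    [hq₀p : q₀.IsPrime] (hq₀m : q₀ ≤ m') (hq₀ : q₀.under R = ⊥) :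
    ∃ q : Ideal A, q.IsPrime ∧ q ≤ m' ∧ q.under R = ⊥ ∧
      Algebra.trdeg (R ⧸ q.under R) (A ⧸ q) = 0 := by
  haveI : IsNoetherianRing A := Algebra.FiniteType.isNoetherianRing R A
  set p : Ideal R := m'.under R with hpdef
  haveI := hp
  by_cases hp0 : p = ⊥
  · -- R is a field
    refine ⟨m', hm'.isPrime, le_rfl, hp0, ?_⟩
    exact DedA.trdeg_quot_maximal R A (m'.under R) m'
  · obtain ⟨π, hπp, hπ0⟩ : ∃ π ∈ p, π ≠ 0 := by
      by_contra hcon
      push Not at hcon
      exact hp0 ((Submodule.eq_bot_iff p).mpr hcon)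
    have hπm' : algebraMap R A π ∈ m' := hπp
    -- maximal prime avoiding π
    let 𝒮 : Set (Ideal A) := {q | q.IsPrime ∧ q ≤ m' ∧ algebraMap R A π ∉ q}
    have h𝒮ne : 𝒮.Nonempty := by
      refine ⟨q₀, hq₀p, hq₀m, fun hmem => hπ0 ?_⟩
      have : π ∈ q₀.under R := hmem
      rw [hq₀] at this
      exact this
    obtain ⟨q, ⟨hqp, hqm, hπq⟩, hqmax⟩ : ∃ q ∈ 𝒮, ∀ q' ∈ 𝒮, ¬ q < q' :=
      (inferInstance : WellFoundedGT (Ideal A)).wf.has_min 𝒮 h𝒮ne
    haveI := hqp
    have hqbot : q.under R = ⊥ := by
      by_contra hne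
      haveI : (q.under R).IsPrime := Ideal.comap_isPrime _ _
      have hmax : (q.under R).IsMaximal :=
        Ring.DimensionLEOne.maximalOfPrime hne inferInstance
      have hle : q.under R ≤ p := Ideal.comap_mono hqm
      have : q.under R = p := hmax.eq_of_le hp.ne_top hle
      apply hπq
      have h2 : π ∈ q.under R := by rw [this]; exact hπp
      exact h2
    refine ⟨q, hqp, hqm, hqbot, ?_⟩
    -- the quotient domain
    let D := A ⧸ q
    let M : Ideal D := m'.map (Ideal.Quotient.mk q)
    have hker : RingHom.ker (Ideal.Quotient.mk q) ≤ m' := by rw [Ideal.mk_ker]; exact hqm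
    haveI hMmax : M.IsMaximal :=
      Ideal.IsMaximal.map_of_surjective_of_ker_le Ideal.Quotient.mk_surjective hker
    have hcomapM : M.comap (Ideal.Quotient.mk q) = m' := by
      rw [Ideal.comap_map_of_surjective _ Ideal.Quotient.mk_surjective, ← RingHom.ker_eq_comap_bot]
      exact sup_of_le_left hker
    let πD : D := Ideal.Quotient.mk q (algebraMap R A π)
    have hπD0 : πD ≠ 0 := fun h0 => hπq (Ideal.Quotient.eq_zero_iff_mem.mp h0)
    have hπDM : πD ∈ M := Ideal.mem_map_of_mem _ hπm'
    have hforall : ∀ Q : Ideal D, Q.IsPrime → Q ≠ ⊥ → Q ≤ M → πD ∈ Q := by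
      intro Q hQp hQne hQM
      by_contra hπQ
      let q' : Ideal A := Q.comap (Ideal.Quotient.mk q)
      have hq'p : q'.IsPrime := Ideal.comap_isPrime _ _
      have hq'm : q' ≤ m' := by
        rw [← hcomapM]
        exact Ideal.comap_mono hQM
      have hq'π : algebraMap R A π ∉ q' := hπQ
      have hqq' : q < q' := by
        have hle : q ≤ q' := by
          intro a ha
          change Ideal.Quotient.mk q a ∈ Q
          rw [Ideal.Quotient.eq_zero_iff_mem.mpr ha]
          exact Q.zero_mem
        refine lt_of_le_of_ne hle ?_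
        intro heq
        apply hQne
        rw [eq_bot_iff]
        intro d hd
        obtain ⟨a, rfl⟩ := Ideal.Quotient.mk_surjective d
        have : a ∈ q' := hd
        rw [← heq] at this
        rw [Ideal.mem_bot]
        exact Ideal.Quotient.eq_zero_iff_mem.mpr this
      exact hqmax q' ⟨hq'p, hq'm, hq'π⟩ hqq'
    have hMle : M.height ≤ 1 := DedA.height_le_one_of_forall_mem M πD hπDM hπD0 hforall
    have hMne : M ≠ ⊥ := fun h0 => hπD0 (by rw [h0] at hπDM; exact hπDM)
    have hMge : 1 ≤ M.height := by
      haveI : (⊥ : Ideal D).IsPrime := Ideal.isPrime_bot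
      have := Ideal.height_add_one_le_of_lt_of_isPrime (bot_lt_iff_ne_bot.mpr hMne)
      exact le_add_self.trans this
    have hMht : M.height = 1 := le_antisymm hMle hMge
    -- height of p
    have hpht : p.height = 1 := by
      apply le_antisymm
      · have h1 : (p.height : WithBot ℕ∞) ≤ ringKrullDim R :=
          Ideal.height_le_ringKrullDim_of_ne_top hp.ne_top
        have h2 : ringKrullDim R ≤ 1 := (Ring.krullDimLE_iff (n := 1) (R := R)).mp inferInstance
        exact_mod_cast h1.trans h2
      · haveI : (⊥ : Ideal R).IsPrime := Ideal.isPrime_bot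
        have := Ideal.height_add_one_le_of_lt_of_isPrime (bot_lt_iff_ne_bot.mpr hp0)
        exact le_add_self.trans this
    -- the dimension formula
    haveI : LocCoh.IsCohenMacaulayRing R :=
      Groth.Agent.Lib.Helper16.PDR.isCohenMacaulayRing_of_isRegularRing R
    have hUC : CAlg.IsUniversallyCatenary R :=
      Groth.Agent.Lib.Helper18.UCat.isUniversallyCatenary_of_isCohenMacaulayRing R
    haveI : Algebra.FiniteType R D :=
      Algebra.FiniteType.of_surjective (Ideal.Quotient.mkₐ R q) (Ideal.Quotient.mkₐ_surjective R q)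
    haveI : FaithfulSMul R D := by
      rw [faithfulSMul_iff_algebraMap_injective]
      rw [injective_iff_map_eq_zero]
      intro r hr
      have h1 : algebraMap R A r ∈ q :=
        Ideal.Quotient.eq_zero_iff_mem.mp (show Ideal.Quotient.mk q (algebraMap R A r) = 0 from hr)
      have : r ∈ q.under R := h1
      rw [hqbot] at this
      exact this
    haveI : M.LiesOver p := by
      constructor
      ext r
      rw [Ideal.mem_comap]
      constructor
      · intro hr
        have : algebraMap R A r ∈ m' := hr
        exact Ideal.mem_map_of_mem _ this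
      · intro hr
        have h1 : Ideal.Quotient.mk q (algebraMap R A r) ∈ M := hr
        have h2 : algebraMap R A r ∈ M.comap (Ideal.Quotient.mk q) := h1
        rw [hcomapM] at h2
        exact h2
    have hform := Groth.Agent.Lib.Helper18.DimFormula.dim_formula R hUC D p M
    rw [hMht, hpht, DedA.trdeg_quot_maximal R D p M, add_zero] at hform
    have htr : Algebra.trdeg R D = 0 := by
      have h1 : ((1 : ℕ∞) : Cardinal.{u}) + 0 = ((1 : ℕ∞) : Cardinal.{u}) + Algebra.trdeg R D := by
        rw [add_zero]; exact hform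
      exact (Cardinal.eq_of_add_eq_add_left h1 (by simp)).symm
    haveI : Algebra.IsAlgebraic R D := trdeg_eq_zero_iff.mp htr
    have hinj : Function.Injective (algebraMap R (R ⧸ q.under R)) := by
      rw [injective_iff_map_eq_zero]
      intro r hr
      have : r ∈ q.under R := Ideal.Quotient.eq_zero_iff_mem.mp hr
      rw [hqbot] at this
      exact this
    haveI : Algebra.IsAlgebraic (R ⧸ q.under R) (A ⧸ q) :=
      Algebra.IsAlgebraic.extendScalars (R := R) hinj
    exact _root_.trdeg_eq_zero

end Groth.Agent.Lib.Helper26.DedB
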