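import Mathlib
import Groth.Agent.Lib.Helper26.DedB
import Groth.Agent.Lib.Helper18.SchDim1
import Groth.Agent.Lib.Helper6.RP8

namespace Groth.Agent.Lib.Helper26.DedC
universe u
open AlgebraicGeometry CategoryTheory TopologicalSpace Groth.Agent.Lib.Helper26

theorem prime_eq_of_trdeg_zero (R A : Type u) [CommRing R] [CommRing A] [Algebra R A]
    (q₁ q₂ : Ideal A) [hq₁ : q₁.IsPrime] [hq₂ : q₂.IsPrime] (hle : q₁ ≤ q₂)
    (h2 : q₂.under R = q₁.under R)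
    (htr : Algebra.trdeg (R ⧸ q₁.under R) (A ⧸ q₁) = 0) : q₁ = q₂ := by
  by_contra hne
  obtain ⟨a, ha2, ha1⟩ : ∃ a ∈ q₂, a ∉ q₁ := by
    by_contra hcon
    push Not at hcon
    exact hne (le_antisymm hle hcon)
  haveI : Algebra.IsAlgebraic (R ⧸ q₁.under R) (A ⧸ q₁) := trdeg_eq_zero_iff.mp htr
  let Q : Ideal (A ⧸ q₁) := q₂.map (Ideal.Quotient.mk q₁)
  have hcomapQ : Q.comap (Ideal.Quotient.mk q₁) = q₂ := by
    rw [Ideal.comap_map_of_surjective _ Ideal.Quotient.mk_surjective, ← RingHom.ker_eq_comap_bot,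
      Ideal.mk_ker]
    exact sup_of_le_left hle
  have hd0 : Ideal.Quotient.mk q₁ a ≠ 0 := fun h0 => ha1 (Ideal.Quotient.eq_zero_iff_mem.mp h0)
  have hdQ : Ideal.Quotient.mk q₁ a ∈ Q := Ideal.mem_map_of_mem _ ha2
  have hne' := Ideal.comap_ne_bot_of_algebraic_mem (R := R ⧸ q₁.under R) hd0 hdQ
    (Algebra.IsAlgebraic.isAlgebraic _)
  apply hne'
  rw [eq_bot_iff]
  intro r' hr'
  obtain ⟨r, rfl⟩ := Ideal.Quotient.mk_surjective r'
  rw [Ideal.mem_comap] at hr'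
  have h1 : Ideal.Quotient.mk q₁ (algebraMap R A r) ∈ Q := hr'
  have h3 : algebraMap R A r ∈ Q.comap (Ideal.Quotient.mk q₁) := h1
  rw [hcomapQ] at h3
  have h4 : r ∈ q₂.under R := h3
  rw [h2] at h4
  rw [Ideal.mem_bot]
  exact Ideal.Quotient.eq_zero_iff_mem.mpr h4


open Groth.Agent.Lib.Helper18.SchDim Groth.Agent.Lib.Helper6.RP in
theorem main_gen {X S : Scheme.{u}} [IrreducibleSpace X] (f : X ⟶ S) [LocallyOfFiniteType f]
    (hV : IsAffineOpen (⊤ : S.Opens)) [IsDomain Γ(S, ⊤)] [IsRegularRing Γ(S, ⊤)]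
    [Ring.DimensionLEOne Γ(S, ⊤)]
    (hdom : DenseRange f.base) (x' : X) (hx' : IsClosed ({x'} : Set X))
    (hs : (hV.primeIdealOf ⟨f x', trivial⟩).asIdeal.IsMaximal) :
    ∃ x : X, (hV.primeIdealOf ⟨f x, trivial⟩).asIdeal = ⊥ ∧
      (∀ z : X, (hV.primeIdealOf ⟨f z, trivial⟩).asIdeal = ⊥ → x ⤳ z → z = x) ∧ x ⤳ x' := by
  classical
  -- chart at x'
  obtain ⟨U, hU, hx'U, -⟩ := Opens.isBasis_iff_nbhd.mp X.isBasis_affineOpens
    (show x' ∈ (⊤ : X.Opens) from trivial)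
  have hU : IsAffineOpen U := hU
  have e : U ≤ f ⁻¹ᵁ (⊤ : S.Opens) := le_top
  letI alg : Algebra Γ(S, ⊤) Γ(X, U) := (f.appLE ⊤ U e).hom.toAlgebra
  haveI : Algebra.FiniteType Γ(S, ⊤) Γ(X, U) :=
    HasRingHomProperty.appLE (P := @LocallyOfFiniteType) f inferInstance ⟨⊤, hV⟩ ⟨U, hU⟩ e
  set m' : Ideal Γ(X, U) := (hU.primeIdealOf ⟨x', hx'U⟩).asIdeal with hm'
  haveI : m'.IsMaximal := hU.primeIdealOf_isMaximal_of_isClosed ⟨x', hx'U⟩ hx'
  have hunder : ∀ (y : X) (hy : y ∈ U), (hU.primeIdealOf ⟨y, hy⟩).asIdeal.under Γ(S, ⊤) =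
      (hV.primeIdealOf ⟨f y, trivial⟩).asIdeal := fun y hy => comap_primeIdealOf f hU hV e y hy
  have hp : (m'.under Γ(S, ⊤)).IsMaximal := by
    rw [hm', hunder]
    exact hs
  -- generic point
  have hξsp : ∀ t : X, genericPoint X ⤳ t := fun t => genericPoint_specializes t
  have hξU : genericPoint X ∈ U := (hξsp x').mem_open U.2 hx'U
  set q₀ : Ideal Γ(X, U) := (hU.primeIdealOf ⟨genericPoint X, hξU⟩).asIdeal with hq₀def
  have hq₀m : q₀ ≤ m' :=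
    (specializes_iff_primeIdealOf_le hU ⟨genericPoint X, hξU⟩ ⟨x', hx'U⟩).mp (hξsp x')
  have hfξ : (hV.primeIdealOf ⟨f (genericPoint X), trivial⟩).asIdeal = ⊥ := by
    obtain ⟨t, ht⟩ := primeIdealOf_surjective hV ⟨⊥, Ideal.isPrime_bot⟩
    have h1 : (Set.univ : Set S) ⊆ closure {f.base (genericPoint X)} := by
      have h2 : Set.range f.base ⊆ closure {f.base (genericPoint X)} := by
        rintro _ ⟨t, rfl⟩
        exact ((hξsp t).map f.continuous).mem_closure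
      rw [← hdom.closure_eq]
      exact closure_minimal h2 isClosed_closure
    have h3 : (f.base (genericPoint X) : S) ⤳ (t.1 : S) :=
      specializes_iff_mem_closure.mpr (h1 trivial)
    have := (specializes_iff_primeIdealOf_le hV ⟨f (genericPoint X), trivial⟩ t).mp h3
    rw [ht] at this
    exact le_bot_iff.mp this
  have hq₀ : q₀.under Γ(S, ⊤) = ⊥ := by
    rw [hq₀def, hunder]
    exact hfξ
  obtain ⟨q, hqp, hqm, hqbot, htr⟩ := DedB.alg_core Γ(S, ⊤) Γ(X, U) m' hp q₀ hq₀m hq₀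
  obtain ⟨⟨x, hxU⟩, hx⟩ := primeIdealOf_surjective hU ⟨q, hqp⟩
  have hxq : (hU.primeIdealOf ⟨x, hxU⟩).asIdeal = q := congrArg PrimeSpectrum.asIdeal hx
  have hfx : (hV.primeIdealOf ⟨f x, trivial⟩).asIdeal = ⊥ := by
    rw [← hunder x hxU, hxq]
    exact hqbot
  refine ⟨x, hfx, ?_, ?_⟩
  · intro z hz hxz
    obtain ⟨U', hU', hzU', -⟩ := Opens.isBasis_iff_nbhd.mp X.isBasis_affineOpens
      (show z ∈ (⊤ : X.Opens) from trivial)
    have hU' : IsAffineOpen U' := hU'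
    have hxU' : x ∈ U' := hxz.mem_open U'.2 hzU'
    have e' : U' ≤ f ⁻¹ᵁ (⊤ : S.Opens) := le_top
    have t1 := trdeg_residueField f hU hV e x hxU
    have t2 := trdeg_residueField f hU' hV e' x hxU'
    letI alg' : Algebra Γ(S, ⊤) Γ(X, U') := (f.appLE ⊤ U' e').hom.toAlgebra
    have hunder' : ∀ (y : X) (hy : y ∈ U'), (hU'.primeIdealOf ⟨y, hy⟩).asIdeal.under Γ(S, ⊤) =
        (hV.primeIdealOf ⟨f y, trivial⟩).asIdeal :=
      fun y hy => comap_primeIdealOf f hU' hV e' y hy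
    have t3 : Algebra.trdeg
        (Γ(S, ⊤) ⧸ (hU'.primeIdealOf ⟨x, hxU'⟩).asIdeal.under Γ(S, ⊤))
        (Γ(X, U') ⧸ (hU'.primeIdealOf ⟨x, hxU'⟩).asIdeal) = 0 := by
      rw [← t2, t1]
      have := congrArg (fun I : Ideal Γ(X, U) =>
        Algebra.trdeg (Γ(S, ⊤) ⧸ I.under Γ(S, ⊤)) (Γ(X, U) ⧸ I)) hxq
      exact this.trans htr
    have hle : (hU'.primeIdealOf ⟨x, hxU'⟩).asIdeal ≤ (hU'.primeIdealOf ⟨z, hzU'⟩).asIdeal :=
      (specializes_iff_primeIdealOf_le hU' ⟨x, hxU'⟩ ⟨z, hzU'⟩).mp hxz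
    have hzbot : (hU'.primeIdealOf ⟨z, hzU'⟩).asIdeal.under Γ(S, ⊤) =
        (hU'.primeIdealOf ⟨x, hxU'⟩).asIdeal.under Γ(S, ⊤) := by
      rw [hunder', hunder', hz, hfx]
    have heq := prime_eq_of_trdeg_zero Γ(S, ⊤) Γ(X, U') _ _ hle hzbot t3
    have h5 : hU'.primeIdealOf ⟨x, hxU'⟩ = hU'.primeIdealOf ⟨z, hzU'⟩ := PrimeSpectrum.ext heq
    have h6 := primeIdealOf_injective hU' h5
    exact (congrArg Subtype.val h6).symm
  · apply (specializes_iff_primeIdealOf_le hU ⟨x, hxU⟩ ⟨x', hx'U⟩).mpr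
    rw [hxq]
    exact hqm

open Groth.Agent.Lib.Helper6.RP in
theorem dict_bot (R : Type u) [CommRing R] [IsDomain R] [IsDomain Γ(Spec (CommRingCat.of R), ⊤)]
    (s : PrimeSpectrum R) :
    s.asIdeal = ⊥ ↔ ((isAffineOpen_top (Spec (CommRingCat.of R))).primeIdealOf
      ⟨s, trivial⟩).asIdeal = ⊥ := by
  have hV := isAffineOpen_top (Spec (CommRingCat.of R))
  constructor
  · intro h0
    obtain ⟨t, ht⟩ := primeIdealOf_surjective hV ⟨⊥, Ideal.isPrime_bot⟩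
    have hsp : s ⤳ (t.1 : PrimeSpectrum R) := by
      rw [← PrimeSpectrum.le_iff_specializes, ← PrimeSpectrum.asIdeal_le_asIdeal, h0]
      exact bot_le
    have := (specializes_iff_primeIdealOf_le hV ⟨s, trivial⟩ t).mp hsp
    rw [ht] at this
    exact le_bot_iff.mp this
  · intro h0
    let t : PrimeSpectrum R := ⟨⊥, Ideal.isPrime_bot⟩
    have h1 : (hV.primeIdealOf ⟨s, trivial⟩).asIdeal ≤ (hV.primeIdealOf ⟨t, trivial⟩).asIdeal := by
      rw [h0]; exact bot_le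
    have hsp : s ⤳ t := (specializes_iff_primeIdealOf_le hV ⟨s, trivial⟩ ⟨t, trivial⟩).mpr h1
    have h2 : s ≤ t := (PrimeSpectrum.le_iff_specializes _ _).mpr hsp
    rw [← PrimeSpectrum.asIdeal_le_asIdeal] at h2
    exact le_bot_iff.mp h2

theorem main_7890 {R : Type u} [CommRing R] [IsDedekindDomain R]
    {X : Scheme.{u}} [IrreducibleSpace X] (f : X ⟶ Spec (CommRingCat.of R)) [LocallyOfFiniteType f]
    (hdom : DenseRange f.base) (x' : X) (hx' : IsClosed ({x'} : Set X))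
    (hs : (f.base x').asIdeal.IsMaximal) :
    ∃ x : X, (f.base x).asIdeal = ⊥ ∧ (∀ z : X, (f.base z).asIdeal = ⊥ → x ⤳ z → z = x) ∧
      x ⤳ x' := by
  have hV := isAffineOpen_top (Spec (CommRingCat.of R))
  let eR : Γ(Spec (CommRingCat.of R), ⊤) ≃+* R :=
    (Scheme.ΓSpecIso (CommRingCat.of R)).commRingCatIsoToRingEquiv
  haveI : IsDomain Γ(Spec (CommRingCat.of R), ⊤) := eR.toMulEquiv.isDomain
  haveI : IsRegularRing Γ(Spec (CommRingCat.of R), ⊤) := IsRegularRing.of_ringEquiv eR.symm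
  haveI : Ring.DimensionLEOne Γ(Spec (CommRingCat.of R), ⊤) := Ring.DimensionLEOne.of_ringEquiv eR
  have hs' : (hV.primeIdealOf ⟨f x', trivial⟩).asIdeal.IsMaximal := by
    apply hV.primeIdealOf_isMaximal_of_isClosed ⟨f x', trivial⟩
    exact (PrimeSpectrum.isClosed_singleton_iff_isMaximal (f.base x')).mpr hs
  obtain ⟨x, h1, h2, h3⟩ := main_gen f hV hdom x' hx' hs'
  refine ⟨x, (dict_bot R (f.base x)).mpr h1, ?_, h3⟩
  intro z hz hxz
  exact h2 z ((dict_bot R (f.base z)).mp hz) hxz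

end Groth.Agent.Lib.Helper26.DedC
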