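import Mathlib
import Groth.Agent.Lib.Helper2.FunFld.Galois
import Groth.Agent.Lib.Helper2.FunFld.Ramif
import Groth.Agent.Lib.Helper2.FunFld.DegOne
import Groth.Agent.Lib.Helper2.FunFld.Gaps

set_option autoImplicit false
set_option linter.unusedSectionVars false
open scoped WithZero
open FunFld
open Groth.Agent.Lib.Helper2.FF

namespace Groth.Agent.Lib.Helper26.HW

section Fix

variable {k K : Type*} [Field k] [Field K] [Algebra k K]

/-- places whose maximal ideal is mapped into itself by `τ` -/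
def WFix (τ : K →ₐ[k] K) : Set (FunFld.Place k K) := {P | ∀ z, P.1 z < 1 → P.1 (τ z) < 1}

/-- strong fixed points: the maximal ideal is mapped into its square -/
def SFix (τ : K →ₐ[k] K) : Set (FunFld.Place k K) :=
  {P | ∀ z, P.1 z < 1 → P.1 (τ z) ≤ WithZero.exp (-2 : ℤ)}

theorem SFix_subset_WFix (τ : K →ₐ[k] K) : SFix τ ⊆ WFix τ := by
  intro P hP z hz
  refine lt_of_le_of_lt (hP z hz) ?_
  rw [← WithZero.exp_zero, WithZero.exp_lt_exp]
  norm_num

/-- over an algebraically closed field a weakly fixed place is fixed -/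
theorem lt_one_of_WFix [IsAlgClosed k] (hK : IsFunctionField k K) (τ : K →ₐ[k] K)
    {P : FunFld.Place k K} (hP : P ∈ WFix τ) (z : K) : P.1 (τ z) < 1 ↔ P.1 z < 1 := by
  refine ⟨fun h => ?_, hP z⟩
  by_contra hge
  push Not at hge
  have hz0 : z ≠ 0 := by
    rintro rfl
    simp at hge
  rcases lt_or_eq_of_le hge with hgt | heq
  · -- `P z > 1`
    have h1 : P.1 z⁻¹ < 1 := by
      rw [map_inv₀]
      exact inv_lt_one_of_one_lt₀ hgt
    have h2 := hP _ h1
    rw [map_inv₀, map_inv₀] at h2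
    have h3 : 0 < P.1 (τ z) := by
      rw [zero_lt_iff, Valuation.ne_zero_iff]
      simpa using hz0
    rw [inv_lt_one₀ h3] at h2
    exact absurd h (not_lt.2 h2.le)
  · -- `P z = 1`
    obtain ⟨c, hc⟩ := exists_sub_lt_one P (deg_eq_one_of_isAlgClosed hK P) (u := z) heq.symm.le
    have hc0 : c ≠ 0 := by
      rintro rfl
      rw [map_zero, sub_zero] at hc
      rw [← heq] at hc
      exact lt_irrefl _ hc
    have h2 := hP _ hc
    rw [map_sub, AlgHom.commutes] at h2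
    have h3 : P.1 (algebraMap k K c) = 1 := v_algebraMap P hc0
    have h4 : P.1 (τ z) = 1 := by
      have : τ z = (τ z - algebraMap k K c) + algebraMap k K c := by ring
      rw [this, Valuation.map_add_eq_of_lt_right _ (by rw [h3]; exact h2), h3]
    rw [h4] at h
    exact lt_irrefl _ h

theorem lt_one_le_exp_neg_one (P : FunFld.Place k K) {z : K} (hz : P.1 z < 1) :
    P.1 z ≤ WithZero.exp (-1 : ℤ) := by
  by_cases hz0 : z = 0
  · subst hz0; simp
  rw [v_eq_exp_neg_ord P hz0] at hz ⊢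
  rw [← WithZero.exp_zero, WithZero.exp_lt_exp] at hz
  rw [WithZero.exp_le_exp]
  omega

end Fix


section Tower

variable {kb Lb Kb Eb : Type*} [Field kb] [IsAlgClosed kb] [Field Lb] [Field Kb] [Field Eb]
  [Algebra kb Lb] [Algebra kb Kb] [Algebra kb Eb] [Algebra Lb Kb] [Algebra Lb Eb] [Algebra Kb Eb]
  [IsScalarTower kb Lb Kb] [IsScalarTower kb Lb Eb] [IsScalarTower kb Kb Eb]
  [IsScalarTower Lb Kb Eb]

/-- (C2) every place over an unramified (weakly and strongly) fixed place of `Lb` is a strong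
fixed point of a twist `Φ ∘ σ`. -/
theorem exists_twist_SFix [FiniteDimensional Lb Eb] [IsGalois Lb Eb]
    (hL : IsFunctionField kb Lb) (hE : IsFunctionField kb Eb)
    (Φ : Eb →ₐ[kb] Eb) (ΦL : Lb →ₐ[kb] Lb)
    (hΦL : ∀ z : Lb, Φ (algebraMap Lb Eb z) = algebraMap Lb Eb (ΦL z))
    {Q : FunFld.Place kb Eb} {P : FunFld.Place kb Lb} (hov : IsOverWith Q P 1)
    (hW : P ∈ WFix ΦL) (hS : P ∈ SFix ΦL) :
    ∃ σ : Eb ≃ₐ[Lb] Eb, Q ∈ SFix (Φ.comp ((σ.restrictScalars kb : Eb ≃ₐ[kb] Eb) : Eb →ₐ[kb] Eb)) := by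
  have hFFw : IsFFw kb Eb := hE.1
  obtain ⟨t, ht⟩ := exists_uniformizer P
  have ht0 : t ≠ 0 := by
    rintro rfl
    rw [map_zero] at ht
    exact WithZero.exp_ne_zero ht.symm
  have hov' : ∀ x : Lb, Q.1 (algebraMap Lb Eb x) = P.1 x := fun x => by rw [hov x, pow_one]
  -- pull back `Q` along `Φ`
  obtain ⟨Q', e', hQ'⟩ := exists_place_pow_eq hFFw (Q.1.comap (Φ : Eb →+* Eb))
    (fun c => by
      rw [Valuation.comap_apply]
      have : (Φ : Eb →+* Eb) (algebraMap kb Eb c) = algebraMap kb Eb c := Φ.commutes c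
      rw [this]; exact Q.2.1 c)
    ⟨algebraMap Lb Eb t, by simpa using ht0, by
      rw [Valuation.comap_apply]
      have : (Φ : Eb →+* Eb) (algebraMap Lb Eb t) = algebraMap Lb Eb (ΦL t) := hΦL t
      rw [this, hov']
      exact hW t (by rw [ht, ← WithZero.exp_zero, WithZero.exp_lt_exp]; norm_num)⟩
  have hQ'' : ∀ z : Eb, Q.1 (Φ z) = Q'.1 z ^ e' := fun z => hQ' z
  have he' : e' ≠ 0 := by
    intro h0
    have h1 := hQ'' (algebraMap Lb Eb t)
    rw [h0, pow_zero, hΦL, hov'] at h1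
    have h2 := hW t (by rw [ht, ← WithZero.exp_zero, WithZero.exp_lt_exp]; norm_num)
    rw [h1] at h2
    exact lt_irrefl _ h2
  -- `Q'` and `Q` have equivalent restrictions to `Lb`
  have hequiv : (Q'.1.comap (algebraMap Lb Eb)).IsEquiv (Q.1.comap (algebraMap Lb Eb)) := by
    rw [Valuation.isEquiv_iff_val_lt_one]
    intro x
    simp only [Valuation.comap_apply]
    rw [hov', ← lt_one_of_WFix hL ΦL hW x, ← hov', ← hΦL, hQ'', pow_lt_one_iff he']
  obtain ⟨σ, hσ⟩ := exists_algEquiv_comap_place Q' Q hequiv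
  have hσ' : ∀ z : Eb, Q'.1 (σ z) = Q.1 z := fun z => by
    rw [← hσ]; rfl
  have hcomp : ∀ z : Eb, Q.1 (Φ (σ z)) = Q.1 z ^ e' := fun z => by rw [hQ'', hσ']
  -- `e' ≥ 2`
  have he2 : 2 ≤ e' := by
    have h1 := hcomp (algebraMap Lb Eb t)
    rw [σ.commutes, hΦL, hov', hov', ht] at h1
    have h2 := hS t (by rw [ht, ← WithZero.exp_zero, WithZero.exp_lt_exp]; norm_num)
    rw [h1, ← WithZero.exp_nsmul, WithZero.exp_le_exp] at h2
    simp at h2
    omega
  refine ⟨σ, fun z hz => ?_⟩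
  have h1 : (Φ.comp ((σ.restrictScalars kb : Eb ≃ₐ[kb] Eb) : Eb →ₐ[kb] Eb)) z = Φ (σ z) := rfl
  rw [h1, hcomp]
  have h2 := lt_one_le_exp_neg_one Q hz
  calc Q.1 z ^ e' ≤ (WithZero.exp (-1 : ℤ)) ^ e' := pow_le_pow_left₀ zero_le h2 e'
    _ = WithZero.exp (-(e' : ℤ)) := by rw [← WithZero.exp_nsmul]; simp
    _ ≤ WithZero.exp (-2 : ℤ) := by rw [WithZero.exp_le_exp]; omega


/-- number of places above a place is at most the degree -/
theorem card_over_le [FiniteDimensional Kb Eb] (hK : IsFunctionField kb Kb)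
    (hE : IsFunctionField kb Eb) (P : FunFld.Place kb Kb) :
    (finite_isOver (K' := Eb) hK P).toFinset.card ≤ Module.finrank Kb Eb := by
  classical
  have h1 := (sum_ramIdx_mul_deg (K' := Eb) hK P).2 (finite_isOver (K' := Eb) hK P).toFinset
    (fun Q => Set.Finite.mem_toFinset _)
  rw [deg_eq_one_of_isAlgClosed hK P, mul_one] at h1
  rw [← h1, Finset.card_eq_sum_ones]
  refine Finset.sum_le_sum fun Q hQ => ?_
  rw [Set.Finite.mem_toFinset] at hQ
  have h2 : 1 ≤ ramIdx Q P := by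
    have := isOverWith_ramIdx hQ
    exact isOverWith_one_le this
  rw [deg_eq_one_of_isAlgClosed hE Q, mul_one]
  exact h2

/-- number of places above an unramified place is the degree -/
theorem card_over_eq [FiniteDimensional Lb Eb] (hL : IsFunctionField kb Lb)
    (hE : IsFunctionField kb Eb) (P : FunFld.Place kb Lb)
    (hunr : ∀ Q : FunFld.Place kb Eb, IsOver Q P → IsOverWith Q P 1) :
    (finite_isOver (K' := Eb) hL P).toFinset.card = Module.finrank Lb Eb := by
  classical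
  have h1 := (sum_ramIdx_mul_deg (K' := Eb) hL P).2 (finite_isOver (K' := Eb) hL P).toFinset
    (fun Q => Set.Finite.mem_toFinset _)
  rw [deg_eq_one_of_isAlgClosed hL P, mul_one] at h1
  rw [← h1, Finset.card_eq_sum_ones]
  refine Finset.sum_congr rfl fun Q hQ => ?_
  rw [Set.Finite.mem_toFinset] at hQ
  rw [ramIdx_eq (hunr Q hQ), deg_eq_one_of_isAlgClosed hE Q]

/-- the ramified places of `Lb` in `Eb` -/
def Ram (kb Lb Eb : Type*) [Field kb] [Field Lb] [Field Eb] [Algebra kb Lb] [Algebra kb Eb]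
    [Algebra Lb Eb] : Set (FunFld.Place kb Lb) :=
  {P | ∃ Q : FunFld.Place kb Eb, IsOver Q P ∧ ¬ IsOverWith Q P 1}

theorem finite_Ram [FiniteDimensional Lb Eb] [Algebra.IsSeparable Lb Eb]
    (hL : IsFunctionField kb Lb) : (Ram kb Lb Eb).Finite := by
  classical
  have hfin := finite_ramified (K' := Eb) hL
  have hbelow : ∀ Q : FunFld.Place kb Eb, ∃ P : FunFld.Place kb Lb, IsOver Q P := fun Q => by
    obtain ⟨P, e, he⟩ := exists_isOverWith hL Q
    exact ⟨P, e, he⟩
  choose below hbelow using hbelow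
  refine (hfin.image below).subset ?_
  rintro P ⟨Q, hQP, hne⟩
  refine ⟨Q, ?_, ?_⟩
  · -- `Q` is ramified
    intro hsurj
    obtain ⟨e, he⟩ := hQP
    obtain ⟨x, hx⟩ := hsurj (WithZero.exp (-1 : ℤ))
    rw [Valuation.comap_apply, he x] at hx
    have hx0 : x ≠ 0 := by
      rintro rfl
      rw [map_zero, zero_pow (by have := isOverWith_one_le he; omega)] at hx
      exact WithZero.exp_ne_zero hx.symm
    rw [v_eq_exp_neg_ord P hx0, ← WithZero.exp_nsmul, WithZero.exp_inj] at hx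
    have he1 : e = 1 := by
      have h1 : (e : ℤ) * (P.ord x) = 1 := by
        simp only [nsmul_eq_mul, mul_neg, neg_inj] at hx
        exact hx
      have h2 : (e : ℤ) ∣ 1 := Dvd.intro _ h1
      have h3 := Int.natAbs_dvd_natAbs.2 h2
      simpa using h3
    subst he1
    exact hne he
  · obtain ⟨e, he⟩ := hQP
    obtain ⟨e', he'⟩ := hbelow Q
    exact isOverWith_unique he' he


/-- (C4) restriction of a twisted fixed place to `Kb` is fixed when the twist fixes `Kb`. -/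
theorem below_mem_WFix (Φ : Eb →ₐ[kb] Eb) (ΦK : Kb →ₐ[kb] Kb)
    (hΦK : ∀ z : Kb, Φ (algebraMap Kb Eb z) = algebraMap Kb Eb (ΦK z))
    (σ : Eb ≃ₐ[Lb] Eb) (hσ : ∀ z : Kb, σ (algebraMap Kb Eb z) = algebraMap Kb Eb z)
    {Q : FunFld.Place kb Eb} {P : FunFld.Place kb Kb} {e : ℕ} (he : IsOverWith Q P e)
    (hQ : Q ∈ WFix (Φ.comp ((σ.restrictScalars kb : Eb ≃ₐ[kb] Eb) : Eb →ₐ[kb] Eb))) :
    P ∈ WFix ΦK := by
  intro z hz
  have h1 := hQ (algebraMap Kb Eb z) ((isOverWith_lt_one_iff he z).2 hz)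
  have h2 : (Φ.comp ((σ.restrictScalars kb : Eb ≃ₐ[kb] Eb) : Eb →ₐ[kb] Eb)) (algebraMap Kb Eb z) =
      algebraMap Kb Eb (ΦK z) := by
    change Φ (σ (algebraMap Kb Eb z)) = _
    rw [hσ, hΦK]
  rw [h2] at h1
  exact (isOverWith_lt_one_iff he (ΦK z)).1 h1

/-- (C5) the counting inequality. -/
theorem counting [FiniteDimensional Lb Eb] [IsGalois Lb Eb]
    (hL : IsFunctionField kb Lb) (hK : IsFunctionField kb Kb) (hE : IsFunctionField kb Eb)
    (Φ : Eb →ₐ[kb] Eb) (ΦK : Kb →ₐ[kb] Kb) (ΦL : Lb →ₐ[kb] Lb)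
    (hΦK : ∀ z : Kb, Φ (algebraMap Kb Eb z) = algebraMap Kb Eb (ΦK z))
    (hΦLK : ∀ z : Lb, ΦK (algebraMap Lb Kb z) = algebraMap Lb Kb (ΦL z))
    (hWS : WFix ΦL ⊆ SFix ΦL) (hfinL : (WFix ΦL).Finite) (hfinK : (WFix ΦK).Finite)
    (B : ℕ)
    (hB : ∀ σ : Eb ≃ₐ[Lb] Eb,
      (SFix (Φ.comp ((σ.restrictScalars kb : Eb ≃ₐ[kb] Eb) : Eb →ₐ[kb] Eb))).Finite ∧
      (SFix (Φ.comp ((σ.restrictScalars kb : Eb ≃ₐ[kb] Eb) : Eb →ₐ[kb] Eb))).ncard ≤ B) :
    Module.finrank Lb Eb * (WFix ΦL).ncard ≤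
      Module.finrank Kb Eb * (WFix ΦK).ncard +
        (Module.finrank Lb Eb - Module.finrank Kb Eb) * B +
        Module.finrank Lb Eb * (Ram kb Lb Eb).ncard := by
  classical
  have : FiniteDimensional Kb Eb := FiniteDimensional.right Lb Kb Eb
  have : IsGalois Kb Eb := IsGalois.tower_top_of_isGalois Lb Kb Eb
  have hΦL : ∀ z : Lb, Φ (algebraMap Lb Eb z) = algebraMap Lb Eb (ΦL z) := fun z => by
    rw [IsScalarTower.algebraMap_apply Lb Kb Eb, hΦK, hΦLK, ← IsScalarTower.algebraMap_apply]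
  set n := Module.finrank Lb Eb with hn
  set nK := Module.finrank Kb Eb with hnK
  have hRamfin : (Ram kb Lb Eb).Finite := finite_Ram hL
  -- the good fixed places of `Lb`
  set Pf : Finset (FunFld.Place kb Lb) := (hfinL.sdiff (t := Ram kb Lb Eb)).toFinset with hPf
  have hPf_mem : ∀ P, P ∈ Pf ↔ P ∈ WFix ΦL ∧ P ∉ Ram kb Lb Eb := fun P => by
    rw [hPf, Set.Finite.mem_toFinset]; rfl
  have hcardP : (WFix ΦL).ncard ≤ Pf.card + (Ram kb Lb Eb).ncard := by
    have h1 := Set.ncard_le_ncard_sdiff_add_ncard (WFix ΦL) (Ram kb Lb Eb) hRamfin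
    rwa [Set.ncard_eq_toFinset_card _ (hfinL.sdiff (t := Ram kb Lb Eb))] at h1
  have hunr : ∀ P ∈ Pf, ∀ Q : FunFld.Place kb Eb, IsOver Q P → IsOverWith Q P 1 := by
    intro P hP Q hQ
    by_contra hne
    exact ((hPf_mem P).1 hP).2 ⟨Q, hQ, hne⟩
  -- places of `Eb` over them
  set Ov : FunFld.Place kb Lb → Finset (FunFld.Place kb Eb) :=
    fun P => (finite_isOver (K' := Eb) hL P).toFinset with hOv
  have hOv_mem : ∀ P Q, Q ∈ Ov P ↔ IsOver Q P := fun P Q => Set.Finite.mem_toFinset _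
  set Qf : Finset (FunFld.Place kb Eb) := Pf.biUnion Ov with hQf
  have hQcard : Qf.card = n * Pf.card := by
    rw [hQf, Finset.card_biUnion]
    · rw [Finset.sum_congr rfl (fun P hP => card_over_eq hL hE P (hunr P hP)), Finset.sum_const,
        smul_eq_mul, mul_comm]
    · intro P _ P' _ hne
      rw [Function.onFun, Finset.disjoint_left]
      intro Q hQ hQ'
      obtain ⟨e, he⟩ := (hOv_mem P Q).1 hQ
      obtain ⟨e', he'⟩ := (hOv_mem P' Q).1 hQ'
      exact hne (isOverWith_unique he he')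
  -- choose a twist for each such place
  have hex : ∀ Q : FunFld.Place kb Eb, ∃ σ : Eb ≃ₐ[Lb] Eb, Q ∈ Qf →
      Q ∈ SFix (Φ.comp ((σ.restrictScalars kb : Eb ≃ₐ[kb] Eb) : Eb →ₐ[kb] Eb)) := by
    intro Q
    by_cases hQ : Q ∈ Qf
    · rw [hQf, Finset.mem_biUnion] at hQ
      obtain ⟨P, hP, hQP⟩ := hQ
      have hov := hunr P hP Q ((hOv_mem P Q).1 hQP)
      have hW := ((hPf_mem P).1 hP).1
      obtain ⟨σ, hσ⟩ := exists_twist_SFix hL hE Φ ΦL hΦL hov hW (hWS hW)
      exact ⟨σ, fun _ => hσ⟩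
    · exact ⟨1, fun h => absurd h hQ⟩
  choose s hs using hex
  -- split according to the twist
  set H : Finset (Eb ≃ₐ[Lb] Eb) :=
    Finset.univ.filter (fun σ => ∀ z : Kb, σ (algebraMap Kb Eb z) = algebraMap Kb Eb z) with hH
  have hGcard : (Finset.univ : Finset (Eb ≃ₐ[Lb] Eb)).card = n := by
    rw [Finset.card_univ, ← Nat.card_eq_fintype_card, IsGalois.card_aut_eq_finrank]
  have hHcard : nK ≤ H.card := by
    have h1 : Fintype.card (Eb ≃ₐ[Kb] Eb) = nK := by
      rw [← Nat.card_eq_fintype_card, IsGalois.card_aut_eq_finrank]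
    rw [← h1, ← Finset.card_univ]
    apply Finset.card_le_card_of_injOn (fun ρ : Eb ≃ₐ[Kb] Eb => ρ.restrictScalars Lb)
    · intro ρ _
      rw [hH, Finset.coe_filter]
      refine ⟨Finset.mem_univ _, fun z => ?_⟩
      exact ρ.commutes z
    · intro ρ _ ρ' _ h
      ext z
      exact congrArg (fun f : Eb ≃ₐ[Lb] Eb => f z) h
  have hsplit : Qf.card = ∑ σ : Eb ≃ₐ[Lb] Eb, (Qf.filter (fun Q => s Q = σ)).card :=
    Finset.card_eq_sum_card_fiberwise (fun Q _ => Finset.mem_univ (s Q))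
  have hsum : ∑ σ : Eb ≃ₐ[Lb] Eb, (Qf.filter (fun Q => s Q = σ)).card =
      ∑ σ ∈ H, (Qf.filter (fun Q => s Q = σ)).card +
      ∑ σ ∈ Finset.univ \ H, (Qf.filter (fun Q => s Q = σ)).card := by
    rw [add_comm, Finset.sum_sdiff (Finset.subset_univ H)]
  -- the part outside `H`
  have hout : ∑ σ ∈ Finset.univ \ H, (Qf.filter (fun Q => s Q = σ)).card ≤ (n - nK) * B := by
    have h1 : ∀ σ ∈ Finset.univ \ H, (Qf.filter (fun Q => s Q = σ)).card ≤ B := by
      intro σ _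
      refine le_trans ?_ (hB σ).2
      rw [Set.ncard_eq_toFinset_card _ (hB σ).1]
      apply Finset.card_le_card
      intro Q hQ
      rw [Finset.mem_filter] at hQ
      rw [Set.Finite.mem_toFinset, ← hQ.2]
      exact hs Q hQ.1
    refine (Finset.sum_le_card_nsmul _ _ B h1).trans ?_
    rw [smul_eq_mul]
    refine Nat.mul_le_mul_right B ?_
    rw [Finset.card_sdiff_of_subset (Finset.subset_univ H), hGcard]
    omega
  -- the part in `H`
  have hin : ∑ σ ∈ H, (Qf.filter (fun Q => s Q = σ)).card ≤ nK * (WFix ΦK).ncard := by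
    have h1 : ∑ σ ∈ H, (Qf.filter (fun Q => s Q = σ)).card = (Qf.filter (fun Q => s Q ∈ H)).card := by
      have h0 : (Qf.filter (fun Q => s Q ∈ H)).card =
          ∑ σ ∈ H, ((Qf.filter (fun Q => s Q ∈ H)).filter (fun Q => s Q = σ)).card :=
        Finset.card_eq_sum_card_fiberwise (fun Q hQ => by
          have := (Finset.mem_filter.1 (Finset.mem_coe.1 hQ)).2
          exact Finset.mem_coe.2 this)
      rw [h0]
      refine Finset.sum_congr rfl fun σ hσ => ?_
      congr 1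
      ext Q
      simp only [Finset.mem_filter]
      constructor
      · rintro ⟨h1, h2⟩; exact ⟨⟨h1, h2 ▸ hσ⟩, h2⟩
      · rintro ⟨⟨h1, _⟩, h2⟩; exact ⟨h1, h2⟩
    rw [h1]
    have hbelow : ∀ Q : FunFld.Place kb Eb, ∃ P : FunFld.Place kb Kb, IsOver Q P := fun Q => by
      obtain ⟨P, e, he⟩ := exists_isOverWith hK Q
      exact ⟨P, e, he⟩
    choose below hbelow using hbelow
    set S := Qf.filter (fun Q => s Q ∈ H) with hS
    have h2 : S.card ≤ nK * (S.image below).card := by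
      apply Finset.card_le_mul_card_image
      intro P _
      refine le_trans (Finset.card_le_card ?_) (card_over_le hK hE P)
      intro Q hQ
      rw [Finset.mem_filter] at hQ
      rw [Set.Finite.mem_toFinset]
      change IsOver Q P
      rw [← hQ.2]
      exact hbelow Q
    refine h2.trans (Nat.mul_le_mul_left nK ?_)
    rw [Set.ncard_eq_toFinset_card _ hfinK]
    apply Finset.card_le_card
    intro P hP
    rw [Finset.mem_image] at hP
    obtain ⟨Q, hQ, rfl⟩ := hP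
    rw [Set.Finite.mem_toFinset]
    rw [hS, Finset.mem_filter] at hQ
    obtain ⟨e, he⟩ := hbelow Q
    have hσ : ∀ z : Kb, (s Q) (algebraMap Kb Eb z) = algebraMap Kb Eb z :=
      (Finset.mem_filter.1 hQ.2).2
    exact below_mem_WFix Φ ΦK hΦK (s Q) hσ he (SFix_subset_WFix _ (hs Q hQ.1))
  -- assemble
  calc n * (WFix ΦL).ncard ≤ n * (Pf.card + (Ram kb Lb Eb).ncard) := Nat.mul_le_mul_left n hcardP
    _ = Qf.card + n * (Ram kb Lb Eb).ncard := by rw [hQcard]; ring
    _ ≤ nK * (WFix ΦK).ncard + (n - nK) * B + n * (Ram kb Lb Eb).ncard := by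
      rw [hsplit, hsum]
      omega

end Tower

end Groth.Agent.Lib.Helper26.HW
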