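import Mathlib
import Groth.Agent.Lib.Helper2.FunFld.FrobPl
import Groth.Agent.Lib.Helper2.FunFld.ZCE
import Groth.Agent.Lib.Helper26.HW3
import Groth.Agent.S11000

set_option autoImplicit false
set_option linter.unusedSectionVars false
open scoped WithZero TensorProduct
open FunFld
open Groth.Agent.Lib.Helper2.FF

universe u v w

namespace Groth.Agent.Lib.Helper26.HW

section Level

variable {k kb : Type u} {K : Type v} {Kb : Type w} [Field k] [Field kb] [Field K] [Field Kb]
    [Algebra k kb] [Algebra k K] [Algebra K Kb] [Algebra kb Kb] [Algebra k Kb]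
    [IsScalarTower k kb Kb] [IsScalarTower k K Kb]

variable (K Kb) in
/-- the finite level `K·F` inside `Kb` -/
def Kfin (F : IntermediateField k kb) : IntermediateField K Kb :=
  IntermediateField.adjoin K ((algebraMap kb Kb) '' (F : Set kb))

theorem algebraMap_mem_Kfin (F : IntermediateField k kb) (c : F) :
    algebraMap kb Kb (c : kb) ∈ Kfin K Kb F :=
  IntermediateField.subset_adjoin _ _ ⟨c, c.2, rfl⟩

noncomputable instance algFKfin (F : IntermediateField k kb) : Algebra F (Kfin K Kb F) :=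
  (((algebraMap kb Kb).comp (algebraMap F kb)).codRestrict (Kfin K Kb F)
    (fun c => algebraMap_mem_Kfin F c)).toAlgebra

theorem algebraMap_F_Kfin (F : IntermediateField k kb) (c : F) :
    ((algebraMap F (Kfin K Kb F) c : Kfin K Kb F) : Kb) = algebraMap kb Kb (c : kb) := rfl

instance towerFKfinKb (F : IntermediateField k kb) : IsScalarTower F (Kfin K Kb F) Kb :=
  IsScalarTower.of_algebraMap_eq (fun _ => rfl)

instance towerkFKfin (F : IntermediateField k kb) : IsScalarTower k F (Kfin K Kb F) :=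
  IsScalarTower.of_algebraMap_eq (fun c => by
    apply Subtype.ext
    rw [algebraMap_F_Kfin]
    change algebraMap k Kb c = algebraMap kb Kb (algebraMap k kb c)
    rw [← IsScalarTower.algebraMap_apply])

instance towerkKfinKb (F : IntermediateField k kb) : IsScalarTower k (Kfin K Kb F) Kb :=
  IsScalarTower.of_algebraMap_eq (fun c => by
    rfl)


theorem mem_adjoin_of_mem_Kfin [Algebra.IsAlgebraic k kb] (F : IntermediateField k kb) {z : Kb}
    (hz : z ∈ Kfin K Kb F) : z ∈ Algebra.adjoin K ((algebraMap kb Kb) '' (F : Set kb)) := by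
  have h1 : (Kfin K Kb F).toSubalgebra = Algebra.adjoin K ((algebraMap kb Kb) '' (F : Set kb)) := by
    apply IntermediateField.adjoin_toSubalgebra_of_isAlgebraic
    rintro _ ⟨c, -, rfl⟩
    exact ((Algebra.IsAlgebraic.isAlgebraic (R := k) c).algebraMap).tower_top K
  rw [← h1]
  exact hz

theorem prod_bijective [PerfectField k] [Algebra.IsAlgebraic k kb] (hK : IsFunctionField k K)
    (F : IntermediateField k kb) [FiniteDimensional k F] :
    Function.Bijective (Algebra.TensorProduct.productMap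
      (IsScalarTower.toAlgHom k F (Kfin K Kb F)) (IsScalarTower.toAlgHom k K (Kfin K Kb F))) := by
  have hfield : IsField (F ⊗[k] K) := Groth.Agent.S11000.result k K hK F inferInstance
  constructor
  · rw [injective_iff_map_eq_zero]
    intro t ht
    by_contra ht0
    obtain ⟨u, hu⟩ := hfield.mul_inv_cancel ht0
    have := congrArg (Algebra.TensorProduct.productMap
      (IsScalarTower.toAlgHom k F (Kfin K Kb F)) (IsScalarTower.toAlgHom k K (Kfin K Kb F))) hu
    rw [map_mul, ht, zero_mul, map_one] at this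
    exact zero_ne_one this
  · rintro ⟨z, hz⟩
    have hz' := mem_adjoin_of_mem_Kfin F hz
    suffices h : ∃ t : F ⊗[k] K, ((Algebra.TensorProduct.productMap
        (IsScalarTower.toAlgHom k F (Kfin K Kb F)) (IsScalarTower.toAlgHom k K (Kfin K Kb F)) t :
          Kfin K Kb F) : Kb) = z by
      obtain ⟨t, ht⟩ := h
      exact ⟨t, Subtype.ext ht⟩
    induction hz' using Algebra.adjoin_induction with
    | mem x hx =>
      obtain ⟨c, hc, rfl⟩ := hx
      refine ⟨(⟨c, hc⟩ : F) ⊗ₜ 1, ?_⟩
      simp [algebraMap_F_Kfin]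
    | algebraMap x =>
      refine ⟨1 ⊗ₜ x, ?_⟩
      simp
    | add x y _ _ hx hy =>
      obtain ⟨t, ht⟩ := hx (IntermediateField.algebra_adjoin_le_adjoin _ _ ‹_›)
      obtain ⟨t', ht'⟩ := hy (IntermediateField.algebra_adjoin_le_adjoin _ _ ‹_›)
      exact ⟨t + t', by rw [map_add, ← ht, ← ht']; rfl⟩
    | mul x y _ _ hx hy =>
      obtain ⟨t, ht⟩ := hx (IntermediateField.algebra_adjoin_le_adjoin _ _ ‹_›)
      obtain ⟨t', ht'⟩ := hy (IntermediateField.algebra_adjoin_le_adjoin _ _ ‹_›)
      exact ⟨t * t', by rw [map_mul, ← ht, ← ht']; rfl⟩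


theorem hgen_level (hgen : Algebra.adjoin K (Set.range (algebraMap kb Kb)) = ⊤)
    (F : IntermediateField k kb) :
    Algebra.adjoin (Kfin K Kb F) (Set.range (algebraMap kb Kb)) = ⊤ := by
  rw [Algebra.eq_top_iff]
  intro z
  have hz : z ∈ Algebra.adjoin K (Set.range (algebraMap kb Kb)) := by rw [hgen]; trivial
  induction hz using Algebra.adjoin_induction with
  | mem x hx => exact Algebra.subset_adjoin hx
  | algebraMap x =>
    have : algebraMap K Kb x = algebraMap (Kfin K Kb F) Kb (algebraMap K (Kfin K Kb F) x) := rfl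
    rw [this]
    exact Subalgebra.algebraMap_mem _ _
  | add x y _ _ hx hy => exact Subalgebra.add_mem _ hx hy
  | mul x y _ _ hx hy => exact Subalgebra.mul_mem _ hx hy

theorem exists_char [Finite k] : ∃ (p f : ℕ), p.Prime ∧ CharP Kb p ∧ Nat.card k = p ^ f := by
  classical
  letI := Fintype.ofFinite k
  obtain ⟨p, hc, n, hp, hn⟩ := FiniteField.card' k
  refine ⟨p, n, hp, ?_, ?_⟩
  · exact charP_of_injective_algebraMap (algebraMap k Kb).injective p
  · rw [Nat.card_eq_fintype_card, hn]

theorem frob_pow_K [Finite k] (Frob : Kb →ₐ[kb] Kb)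
    (hFrob : ∀ x : K, Frob (algebraMap K Kb x) = algebraMap K Kb x ^ Nat.card k) (m : ℕ) (x : K) :
    (Frob ^ m) (algebraMap K Kb x) = algebraMap K Kb x ^ (Nat.card k ^ m) := by
  induction m with
  | zero => simp
  | succ m ih =>
    rw [pow_succ, AlgHom.mul_apply, hFrob, map_pow, ih, ← pow_mul, pow_succ]

theorem frob_pow_Kfin [Finite k] [Algebra.IsAlgebraic k kb] (Frob : Kb →ₐ[kb] Kb)
    (hFrob : ∀ x : K, Frob (algebraMap K Kb x) = algebraMap K Kb x ^ Nat.card k)
    (F : IntermediateField k kb) [FiniteDimensional k F] (z : Kfin K Kb F) :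
    (Frob ^ (Module.finrank k F)) (algebraMap (Kfin K Kb F) Kb z) =
      algebraMap (Kfin K Kb F) Kb z ^ Nat.card F := by
  classical
  obtain ⟨p, f, hp, hchar, hq⟩ := exists_char (k := k) (Kb := Kb)
  haveI := Fact.mk hp
  haveI : Finite F := Module.finite_of_finite k
  have hcardF : Nat.card F = Nat.card k ^ Module.finrank k F := Module.natCard_eq_pow_finrank (K := k)
  set m := Module.finrank k F with hm
  have hz := mem_adjoin_of_mem_Kfin F z.2
  change (Frob ^ m) (z : Kb) = (z : Kb) ^ Nat.card F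
  rw [hcardF]
  generalize (z : Kb) = z' at hz
  induction hz using Algebra.adjoin_induction with
  | mem x hx =>
    obtain ⟨c, hc, rfl⟩ := hx
    rw [AlgHom.commutes, ← hcardF, ← map_pow]
    congr 1
    letI := Fintype.ofFinite F
    have := FiniteField.pow_card (⟨c, hc⟩ : F)
    rw [← Nat.card_eq_fintype_card] at this
    exact (congrArg Subtype.val this).symm
  | algebraMap x => exact frob_pow_K Frob hFrob m x
  | add x y _ _ hx hy =>
    rw [map_add, hx, hy, hq, ← pow_mul, add_pow_char_pow]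
  | mul x y _ _ hx hy =>
    rw [map_mul, hx, hy, mul_pow]

end Level

section PlaceOver

variable {k k' M M' : Type*} [Field k] [Field k'] [Field M] [Field M'] [Algebra k M]
    [Algebra k' M'] [Algebra M M'] [Algebra k k'] [Algebra k M'] [IsScalarTower k k' M']
    [IsScalarTower k M M']

/-- every place extends along an algebraic extension of function fields (Chevalley) -/
theorem exists_place_over [Algebra.IsAlgebraic k k'] (hM' : IsFunctionField k' M')
    (P : FunFld.Place k M) :
    ∃ Q : FunFld.Place k' M', ∀ x : M, Q.1 (algebraMap M M' x) ≤ 1 ↔ P.1 x ≤ 1 := by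
  classical
  set A : Subring M' := P.O.toSubring.map (algebraMap M M') with hA
  have hAmem : ∀ x : M, P.1 x ≤ 1 → algebraMap M M' x ∈ A := fun x hx =>
    Subring.mem_map.2 ⟨x, (mem_O_iff P x).2 hx, rfl⟩
  have hAmem' : ∀ a ∈ A, ∃ x : M, P.1 x ≤ 1 ∧ algebraMap M M' x = a := fun a ha => by
    obtain ⟨x, hx, rfl⟩ := Subring.mem_map.1 ha
    exact ⟨x, (mem_O_iff P x).1 hx, rfl⟩
  let I : Ideal A :=
    { carrier := {a | ∃ x : M, P.1 x < 1 ∧ algebraMap M M' x = (a : M')}
      add_mem' := by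
        rintro a b ⟨x, hx, hxa⟩ ⟨y, hy, hyb⟩
        refine ⟨x + y, lt_of_le_of_lt (P.1.map_add x y) (max_lt hx hy), ?_⟩
        rw [map_add, hxa, hyb]; rfl
      zero_mem' := ⟨0, by simp, by simp⟩
      smul_mem' := by
        rintro c a ⟨x, hx, hxa⟩
        obtain ⟨y, hy, hyc⟩ := hAmem' c.1 c.2
        refine ⟨y * x, ?_, ?_⟩
        · rw [map_mul]
          calc P.1 y * P.1 x ≤ 1 * P.1 x := mul_le_mul' hy le_rfl
            _ < 1 := by rw [one_mul]; exact hx
        · rw [map_mul, hxa, hyc]; rfl }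
  have hI : I ≠ ⊤ := by
    intro h
    have h1 : (1 : A) ∈ I := by rw [h]; trivial
    obtain ⟨x, hx, hx1⟩ := h1
    have : x = 1 := (algebraMap M M').injective (by rw [hx1, map_one]; rfl)
    rw [this, map_one] at hx
    exact lt_irrefl _ hx
  obtain ⟨B, hAB, hIB⟩ := Ideal.image_subset_nonunits_valuationSubring I hI
  have hBmem : ∀ x : M, P.1 x ≤ 1 → algebraMap M M' x ∈ B := fun x hx => hAB (hAmem x hx)
  have hBnon : ∀ x : M, P.1 x < 1 → B.valuation (algebraMap M M' x) < 1 := fun x hx => by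
    rw [← ValuationSubring.mem_nonunits_iff]
    apply hIB
    exact ⟨⟨algebraMap M M' x, hAmem x hx.le⟩, ⟨x, hx, rfl⟩, rfl⟩
  have hkB : ∀ c : k', algebraMap k' M' c ∈ B := by
    intro c
    rw [← ValuationSubring.valuation_le_one_iff]
    apply w_le_one_of_isAlgebraic (k := k) B.valuation
    · intro c'
      rw [ValuationSubring.valuation_le_one_iff, IsScalarTower.algebraMap_apply k M M']
      exact hBmem _ (P.2.1 c')
    · exact (Algebra.IsAlgebraic.isAlgebraic (R := k) c).algebraMap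
  obtain ⟨t, ht⟩ := exists_uniformizer P
  have ht0 : t ≠ 0 := by
    rintro rfl
    rw [map_zero] at ht
    exact WithZero.exp_ne_zero ht.symm
  have htlt : P.1 t < 1 := by
    change v P t < 1
    rw [ht, ← WithZero.exp_zero, WithZero.exp_lt_exp]; norm_num
  have hnf : ∃ a : B, a ≠ 0 ∧ ¬IsUnit a := by
    refine ⟨⟨algebraMap M M' t, hBmem t htlt.le⟩, ?_, ?_⟩
    · intro h
      have := congrArg Subtype.val h
      simp only [ZeroMemClass.coe_zero, map_eq_zero] at this
      exact ht0 this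
    · rw [ValuationSubring.valuation_eq_one_iff]
      exact (hBnon t htlt).ne
  haveI := isDiscreteValuationRing_valuationSubring hM' B hkB hnf
  refine ⟨placeOfDVR B hkB, fun x => ⟨fun hx => ?_, fun hx => ?_⟩⟩
  · by_contra hgt
    push Not at hgt
    have hx0 : x ≠ 0 := by
      rintro rfl
      simp at hgt
    have h1 : P.1 x⁻¹ < 1 := by
      rw [map_inv₀]; exact inv_lt_one_of_one_lt₀ hgt
    have h2 := hBnon _ h1
    have h3 : ¬IsUnit (⟨algebraMap M M' x⁻¹, hBmem _ h1.le⟩ : B) := by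
      rw [ValuationSubring.valuation_eq_one_iff]
      exact h2.ne
    have h4 := (placeOfDVR_lt_one_iff B hkB ⟨algebraMap M M' x⁻¹, hBmem _ h1.le⟩).2 h3
    change (placeOfDVR B hkB).1 (algebraMap M M' x⁻¹) < 1 at h4
    rw [map_inv₀, map_inv₀] at h4
    have h5 : 0 < (placeOfDVR B hkB).1 (algebraMap M M' x) := by
      rw [zero_lt_iff, Valuation.ne_zero_iff]
      simpa using hx0
    rw [inv_lt_one₀ h5] at h4
    exact absurd hx (not_le.2 h4)
  · exact placeOfDVR_le_one B hkB ⟨algebraMap M M' x, hBmem x hx⟩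

end PlaceOver

section Abs

variable {k kb K Kb : Type*} [Field k] [Field kb] [Field K] [Field Kb]
    [Algebra k kb] [Algebra k K] [Algebra K Kb] [Algebra kb Kb] [Algebra k Kb]
    [IsScalarTower k kb Kb] [IsScalarTower k K Kb]

theorem WFix_subset_SFix_level [Finite k] [IsAlgClosed kb] [Algebra.IsAlgebraic k kb]
    (hK : IsFunctionField k K)
    (hgen : Algebra.adjoin K (Set.range (algebraMap kb Kb)) = ⊤)
    (τ : Kb →ₐ[kb] Kb) (hτ : ∀ x : K, τ (algebraMap K Kb x) = algebraMap K Kb x ^ Nat.card k) :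
    WFix τ ⊆ SFix τ := by
  classical
  intro Q hQ z hz
  obtain ⟨P, hP, hdeg⟩ := deg_one_of_frob hK hgen (τ : Kb →+* Kb) (fun c => τ.commutes c) hτ Q hQ
  let B := Module.Basis.ofVectorSpace k kb
  obtain ⟨s, y, rfl⟩ := exists_repr_basis hgen B z
  have hτz : τ (∑ i ∈ s, algebraMap kb Kb (B i) * algebraMap K Kb (y i)) =
      ∑ i ∈ s, algebraMap kb Kb (B i) * algebraMap K Kb (y i ^ Nat.card k) := by
    rw [map_sum]
    refine Finset.sum_congr rfl fun i _ => ?_
    rw [map_mul, τ.commutes, hτ, map_pow]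
  rw [hτz, val_sum_basis_eq_sup hP hdeg B s _]
  rw [val_sum_basis_eq_sup hP hdeg B s y] at hz
  have hbot : (⊥ : ℤᵐ⁰) < 1 := by rw [bot_eq_zero]; exact zero_lt_one
  rw [Finset.sup_lt_iff hbot] at hz
  apply Finset.sup_le
  intro i hi
  have h1 := lt_one_le_exp_neg_one Q (hz i hi)
  have hq : 2 ≤ Nat.card k := Finite.one_lt_card
  rw [map_pow, map_pow]
  calc Q.1 (algebraMap K Kb (y i)) ^ Nat.card k ≤ (WithZero.exp (-1 : ℤ)) ^ Nat.card k :=
        pow_le_pow_left₀ zero_le h1 _
    _ = WithZero.exp (-(Nat.card k : ℤ)) := by rw [← WithZero.exp_nsmul]; simp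
    _ ≤ WithZero.exp (-2 : ℤ) := by rw [WithZero.exp_le_exp]; omega

theorem card_WFix_level [Finite k] [IsAlgClosed kb] [Algebra.IsAlgebraic k kb]
    (hK : IsFunctionField k K) (hKb : IsFunctionField kb Kb)
    (hgen : Algebra.adjoin K (Set.range (algebraMap kb Kb)) = ⊤)
    (τ : Kb →ₐ[kb] Kb) (hτ : ∀ x : K, τ (algebraMap K Kb x) = algebraMap K Kb x ^ Nat.card k) :
    (WFix τ).Finite ∧ (WFix τ).ncard = Nat.card {P : FunFld.Place k K // P.deg = 1} := by
  classical
  have hex : ∀ Q : WFix τ, ∃ P : FunFld.Place k K,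
      (∀ x : K, Q.1.1 (algebraMap K Kb x) ≤ 1 ↔ P.1 x ≤ 1) ∧ P.deg = 1 := fun Q =>
    deg_one_of_frob hK hgen (τ : Kb →+* Kb) (fun c => τ.commutes c) hτ Q.1 Q.2
  choose f hf using hex
  let g : WFix τ → {P : FunFld.Place k K // P.deg = 1} := fun Q => ⟨f Q, (hf Q).2⟩
  have hginj : Function.Injective g := by
    intro Q Q' h
    have hPP : f Q = f Q' := congrArg Subtype.val h
    apply Subtype.ext
    apply place_eq_of_lt_one_imp
    intro z hz
    let B := Module.Basis.ofVectorSpace k kb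
    obtain ⟨s, y, rfl⟩ := exists_repr_basis hgen B z
    change Q.1.1 _ < 1 at hz
    change Q'.1.1 _ < 1
    rw [val_sum_basis_eq_sup (hf Q).1 (hf Q).2 B s y] at hz
    rw [val_sum_basis_eq_sup (hf Q').1 (hf Q').2 B s y]
    have hbot : (⊥ : ℤᵐ⁰) < 1 := by rw [bot_eq_zero]; exact zero_lt_one
    rw [Finset.sup_lt_iff hbot] at hz ⊢
    intro i hi
    rw [lt_one_iff_of_le_one_iff (hf Q').1, ← hPP, ← lt_one_iff_of_le_one_iff (hf Q).1]
    exact hz i hi
  have hgsurj : Function.Surjective g := by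
    rintro ⟨P, hP⟩
    obtain ⟨Q, hQ⟩ := exists_place_over (k := k) (k' := kb) hKb P
    have hQW : Q ∈ WFix τ := fun z hz =>
      (frob_fixes_of_deg_one hgen (τ : Kb →+* Kb) (fun c => τ.commutes c) hτ hQ hP z).2 hz
    refine ⟨⟨Q, hQW⟩, ?_⟩
    apply Subtype.ext
    change f ⟨Q, hQW⟩ = P
    apply place_eq_of_lt_one_imp
    intro x hx
    change (f ⟨Q, hQW⟩).1 x < 1 at hx
    change P.1 x < 1
    rw [← lt_one_iff_of_le_one_iff hQ]
    exact (lt_one_iff_of_le_one_iff (hf ⟨Q, hQW⟩).1 x).2 hx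
  have hfinD : Finite {P : FunFld.Place k K // P.deg = 1} :=
    ((finite_places_deg_le hK 1).subset (fun P (hP : P.deg = 1) => hP.le)).to_subtype
  have hfinW : Finite (WFix τ) := Finite.of_injective g hginj
  refine ⟨Set.toFinite _, ?_⟩
  rw [← Nat.card_coe_set_eq]
  exact Nat.card_congr (Equiv.ofBijective g ⟨hginj, hgsurj⟩)

end Abs

section Level3

variable {k kb : Type u} {K : Type v} {Kb : Type w} [Field k] [Field kb] [Field K] [Field Kb]
    [Algebra k kb] [Algebra k K] [Algebra K Kb] [Algebra kb Kb] [Algebra k Kb]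
    [IsScalarTower k kb Kb] [IsScalarTower k K Kb]

theorem exists_level [Finite k] [IsAlgClosed kb] (m : ℕ) (hm : 0 < m) :
    ∃ F : IntermediateField k kb, FiniteDimensional k F ∧ Module.finrank k F = m := by
  classical
  obtain ⟨p, hc⟩ := CharP.exists k
  haveI := hc
  haveI : Fact p.Prime := ⟨CharP.char_is_prime k p⟩
  haveI : NeZero m := ⟨hm.ne'⟩
  let φ : FiniteField.Extension k p m →ₐ[k] kb := IsAlgClosed.lift
  let e : FiniteField.Extension k p m ≃ₐ[k] φ.fieldRange := AlgEquiv.ofInjectiveField φ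
  refine ⟨φ.fieldRange, ?_, ?_⟩
  · exact Module.Finite.equiv e.toLinearEquiv
  · rw [← e.toLinearEquiv.finrank_eq, FiniteField.finrank_extension]

/-- Theorem A: fixed places of `Frob ^ m` are counted by `Ncount k K m`, and are strongly fixed. -/
theorem card_WFix_pow [Finite k] [IsAlgClosed kb] [Algebra.IsAlgebraic k kb]
    (hK : IsFunctionField k K) (hKb : IsFunctionField kb Kb)
    (hgen : Algebra.adjoin K (Set.range (algebraMap kb Kb)) = ⊤)
    (Frob : Kb →ₐ[kb] Kb)
    (hFrob : ∀ x : K, Frob (algebraMap K Kb x) = algebraMap K Kb x ^ Nat.card k)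
    (m : ℕ) (hm : 0 < m) :
    (WFix (Frob ^ m)).Finite ∧ (WFix (Frob ^ m)).ncard = Ncount k K m ∧
      WFix (Frob ^ m) ⊆ SFix (Frob ^ m) := by
  classical
  obtain ⟨F, hFfin, hFm⟩ := exists_level (k := k) (kb := kb) m hm
  haveI := hFfin
  haveI : Finite F := Module.finite_of_finite k
  haveI : PerfectField k := PerfectField.ofFinite
  haveI : Algebra.IsAlgebraic F kb := Algebra.IsAlgebraic.tower_top (K := k) F
  have h := prod_bijective (K := K) (Kb := Kb) hK F
  have hKF : IsFunctionField F (Kfin K Kb F) := isFunctionField_cExt h hK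
  have hτ : ∀ x : Kfin K Kb F, (Frob ^ m) (algebraMap (Kfin K Kb F) Kb x) =
      algebraMap (Kfin K Kb F) Kb x ^ Nat.card F := by
    intro x
    rw [← hFm]
    exact frob_pow_Kfin Frob hFrob F x
  obtain ⟨h1, h2⟩ := card_WFix_level hKF hKb (hgen_level hgen F) (Frob ^ m) hτ
  refine ⟨h1, ?_, WFix_subset_SFix_level hKF (hgen_level hgen F) (Frob ^ m) hτ⟩
  rw [h2, card_deg_one_eq_Ncount hKF, Ncount_cExt h hK 1 one_pos, hFm, mul_one]

end Level3

end Groth.Agent.Lib.Helper26.HW
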