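import Mathlib
import Groth.Agent.Lib.Helper26.HW4
import Groth.Agent.S11000

set_option autoImplicit false
set_option linter.unusedSectionVars false
open scoped WithZero TensorProduct IntermediateField
open FunFld
open Groth.Agent.Lib.Helper2.FF

universe u v w

namespace Groth.Agent.Lib.Helper26.HW

section A1

variable {k kb K Kb : Type*} [Field k] [Field kb] [Field K] [Field Kb]
    [Algebra k kb] [Algebra k K] [Algebra K Kb] [Algebra kb Kb] [Algebra k Kb]
    [IsScalarTower k kb Kb] [IsScalarTower k K Kb]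

/-- the image of `k(x)` lies in `kb(x̄)` -/
theorem algebraMap_mem_adjoin_simple (x : K) {c : K} (hc : c ∈ k⟮x⟯) :
    algebraMap K Kb c ∈ kb⟮algebraMap K Kb x⟯ := by
  have h1 : (k⟮x⟯).map (IsScalarTower.toAlgHom k K Kb) = k⟮algebraMap K Kb x⟯ := by
    rw [IntermediateField.adjoin_map]
    simp
  have h2 : k⟮algebraMap K Kb x⟯ ≤ (kb⟮algebraMap K Kb x⟯).restrictScalars k := by
    rw [IntermediateField.adjoin_simple_le_iff]
    exact IntermediateField.mem_adjoin_simple_self kb _
  have h3 : algebraMap K Kb c ∈ (k⟮x⟯).map (IsScalarTower.toAlgHom k K Kb) :=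
    ⟨c, hc, rfl⟩
  rw [h1] at h3
  exact h2 h3

theorem isFunctionField_closure [IsAlgClosed kb] [Algebra.IsAlgebraic k kb]
    (hK : IsFunctionField k K)
    (hgen : Algebra.adjoin K (Set.range (algebraMap kb Kb)) = ⊤) : IsFunctionField kb Kb := by
  classical
  obtain ⟨⟨x, hx, hfin⟩, -⟩ := hK
  set xb : Kb := algebraMap K Kb x with hxb
  refine ⟨⟨xb, ?_, ?_⟩, ?_⟩
  · intro halg
    have h1 : IsAlgebraic k xb := halg.restrictScalars k
    exact hx ((isAlgebraic_algebraMap_iff (algebraMap K Kb).injective).1 h1)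
  · -- finiteness
    let b := Module.finBasis k⟮x⟯ K
    set S : Set Kb := Set.range (fun j => algebraMap K Kb (b j)) with hS
    set E : IntermediateField kb⟮xb⟯ Kb := IntermediateField.adjoin kb⟮xb⟯ S with hE
    have halgS : ∀ y ∈ S, IsIntegral kb⟮xb⟯ y := by
      rintro _ ⟨j, rfl⟩
      have h1 : IsIntegral k⟮x⟯ (b j) := Algebra.IsIntegral.isIntegral _
      obtain ⟨p, hpm, hp⟩ := h1
      -- map the polynomial
      let g : k⟮x⟯ →+* kb⟮xb⟯ := ((algebraMap K Kb).comp (algebraMap k⟮x⟯ K)).codRestrict
        (kb⟮xb⟯) (fun c => algebraMap_mem_adjoin_simple x c.2)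
      refine ⟨p.map g, hpm.map g, ?_⟩
      rw [Polynomial.eval₂_map]
      have h2 : (algebraMap kb⟮xb⟯ Kb).comp g = (algebraMap K Kb).comp (algebraMap k⟮x⟯ K) := by
        ext c; rfl
      rw [h2, ← Polynomial.hom_eval₂, hp, map_zero]
    have hEfin : FiniteDimensional kb⟮xb⟯ E :=
      IntermediateField.finiteDimensional_adjoin (fun y hy => halgS y hy)
    have hEtop : E = ⊤ := by
      rw [eq_top_iff]
      intro z _
      have hz : z ∈ Algebra.adjoin K (Set.range (algebraMap kb Kb)) := by rw [hgen]; trivial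
      induction hz using Algebra.adjoin_induction with
      | mem y hy =>
        obtain ⟨c, rfl⟩ := hy
        have : algebraMap kb Kb c = algebraMap kb⟮xb⟯ Kb (algebraMap kb kb⟮xb⟯ c) := rfl
        rw [this]
        exact E.algebraMap_mem _
      | algebraMap y =>
        rw [← b.sum_repr y, map_sum]
        refine E.sum_mem fun j _ => ?_
        rw [Algebra.smul_def, map_mul]
        refine E.mul_mem ?_ (IntermediateField.subset_adjoin _ _ ⟨j, rfl⟩)
        have h1 := algebraMap_mem_adjoin_simple (kb := kb) (Kb := Kb) x (b.repr y j).2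
        have : algebraMap K Kb (algebraMap k⟮x⟯ K (b.repr y j)) =
            algebraMap kb⟮xb⟯ Kb ⟨_, h1⟩ := rfl
        rw [this]
        exact E.algebraMap_mem _
      | add y y' _ _ hy hy' => exact E.add_mem (hy trivial) (hy' trivial)
      | mul y y' _ _ hy hy' => exact E.mul_mem (hy trivial) (hy' trivial)
    rw [hEtop] at hEfin
    exact (IntermediateField.topEquiv (F := kb⟮xb⟯) (E := Kb)).toLinearEquiv.finiteDimensional
  · intro y hy
    have h1 : IsIntegral kb y := hy.isIntegral
    have h2 := IsAlgClosed.degree_eq_one_of_irreducible kb (minpoly.irreducible h1)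
    exact minpoly.mem_range_of_degree_eq_one kb y h2

end A1


section TensorField

variable {k : Type u} {kb : Type u} {K : Type v} [Field k] [Field kb] [Field K] [Algebra k K] [Algebra k kb]

/-- base change map from a finite level -/
noncomputable def jF (K : Type v) [Field K] [Algebra k K] (F : IntermediateField k kb) : F ⊗[k] K →ₐ[k] kb ⊗[k] K :=
  Algebra.TensorProduct.map F.val (AlgHom.id k K)

theorem jF_injective (F : IntermediateField k kb) : Function.Injective (jF K F) := by
  have h := Module.Flat.rTensor_preserves_injective_linearMap (M := K) F.val.toLinearMap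
    (by exact F.val.injective)
  intro a b hab
  apply h
  exact hab

theorem jF_inclusion {F F' : IntermediateField k kb} (h : F ≤ F') (s : F ⊗[k] K) :
    jF K F' (Algebra.TensorProduct.map (IntermediateField.inclusion h) (AlgHom.id k K) s) =
      jF K F s := by
  induction s using TensorProduct.induction_on with
  | zero => simp
  | tmul c x => simp [jF]
  | add a b ha hb => rw [map_add, map_add, ha, hb, map_add]

theorem exists_level_mem [Algebra.IsAlgebraic k kb] (t : kb ⊗[k] K) :
    ∃ F : IntermediateField k kb, FiniteDimensional k F ∧ ∃ s, jF K F s = t := by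
  induction t using TensorProduct.induction_on with
  | zero => exact ⟨⊥, inferInstance, 0, map_zero _⟩
  | tmul c x =>
    refine ⟨k⟮c⟯, IntermediateField.adjoin.finiteDimensional
      (Algebra.IsIntegral.isIntegral c), ⟨(⟨c, IntermediateField.mem_adjoin_simple_self k c⟩ : k⟮c⟯) ⊗ₜ x, ?_⟩⟩
    simp [jF]
  | add t t' ht ht' =>
    obtain ⟨F, hF, s, hs⟩ := ht
    obtain ⟨F', hF', s', hs'⟩ := ht'
    refine ⟨F ⊔ F', IntermediateField.finiteDimensional_sup F F', ?_⟩
    have hle : F ≤ F ⊔ F' := le_sup_left
    have hle' : F' ≤ F ⊔ F' := le_sup_right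
    refine ⟨Algebra.TensorProduct.map (IntermediateField.inclusion hle) (AlgHom.id k K) s +
      Algebra.TensorProduct.map (IntermediateField.inclusion hle') (AlgHom.id k K) s', ?_⟩
    rw [map_add, jF_inclusion, jF_inclusion, hs, hs']

theorem isField_tensor [PerfectField k] [Algebra.IsAlgebraic k kb] (hK : IsFunctionField k K) : IsField (kb ⊗[k] K) := by
  have hgeo := Groth.Agent.S11000.result k K hK
  have hFK : ∀ F : IntermediateField k kb, FiniteDimensional k F → IsField (F ⊗[k] K) :=
    fun F hF => hgeo F hF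
  have hnt : Nontrivial (kb ⊗[k] K) := by
    have h0 := hFK ⊥ inferInstance
    obtain ⟨a, b, hab⟩ := h0.exists_pair_ne
    exact ⟨jF (kb := kb) K ⊥ a, jF (kb := kb) K ⊥ b, fun h => hab (jF_injective ⊥ h)⟩
  have key : ∀ t : kb ⊗[k] K, t ≠ 0 → ∃ u, t * u = 1 := by
    intro t ht
    obtain ⟨F, hF, s, rfl⟩ := exists_level_mem t
    have hs : s ≠ 0 := by
      rintro rfl
      exact ht (map_zero _)
    obtain ⟨u, hu⟩ := (hFK F hF).mul_inv_cancel hs
    refine ⟨jF K F u, ?_⟩
    rw [← map_mul, hu]
    exact (jF K F).map_one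
  exact { exists_pair_ne := hnt.exists_pair_ne, mul_comm := mul_comm, mul_inv_cancel := fun {a} ha => key a ha }


end TensorField

section Closure
variable (k : Type u) (K : Type v) [Field k] [Field K] [Algebra k K]

abbrev Tens := AlgebraicClosure k ⊗[k] K
abbrev Kbar := Tens k K ⧸ (⊥ : Ideal (Tens k K))

noncomputable instance algKKbar : Algebra K (Kbar k K) :=
  ((Ideal.Quotient.mk (⊥ : Ideal (Tens k K))).comp
    (Algebra.TensorProduct.includeRight : K →ₐ[k] Tens k K).toRingHom).toAlgebra

theorem algebraMap_K_Kbar (x : K) :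
    algebraMap K (Kbar k K) x = Ideal.Quotient.mk ⊥ ((1 : AlgebraicClosure k) ⊗ₜ[k] x) := rfl

theorem algebraMap_kb_Kbar (c : AlgebraicClosure k) :
    algebraMap (AlgebraicClosure k) (Kbar k K) c = Ideal.Quotient.mk ⊥ (c ⊗ₜ[k] (1 : K)) := rfl

instance towerkKKbar : IsScalarTower k K (Kbar k K) :=
  IsScalarTower.of_algebraMap_eq (fun c => by
    rw [algebraMap_K_Kbar, IsScalarTower.algebraMap_apply k (AlgebraicClosure k) (Kbar k K),
      algebraMap_kb_Kbar]
    congr 1
    rw [Algebra.algebraMap_eq_smul_one, Algebra.algebraMap_eq_smul_one, TensorProduct.smul_tmul])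

theorem hgen_Kbar : Algebra.adjoin K (Set.range (algebraMap (AlgebraicClosure k) (Kbar k K))) = ⊤ := by
  rw [Algebra.eq_top_iff]
  intro z
  obtain ⟨t, rfl⟩ := Ideal.Quotient.mk_surjective z
  induction t using TensorProduct.induction_on with
  | zero => simp
  | tmul c x =>
    have : (Ideal.Quotient.mk (⊥ : Ideal (Tens k K))) (c ⊗ₜ[k] x) =
        algebraMap (AlgebraicClosure k) (Kbar k K) c * algebraMap K (Kbar k K) x := by
      rw [algebraMap_K_Kbar, algebraMap_kb_Kbar, ← map_mul, Algebra.TensorProduct.tmul_mul_tmul,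
        mul_one, one_mul]
    rw [this]
    exact Subalgebra.mul_mem _ (Algebra.subset_adjoin ⟨c, rfl⟩) (Subalgebra.algebraMap_mem _ _)
  | add a b ha hb =>
    rw [map_add]
    exact Subalgebra.add_mem _ ha hb


/-- the `q`-Frobenius of `K` as a `k`-algebra endomorphism -/
noncomputable def frobK [Finite k] : K →ₐ[k] K where
  toFun x := x ^ Nat.card k
  map_one' := one_pow _
  map_mul' x y := mul_pow x y _
  map_zero' := zero_pow (Nat.card_pos.ne')
  map_add' x y := by
    obtain ⟨p, f, hp, hchar, hq⟩ := exists_char (k := k) (Kb := K)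
    haveI := Fact.mk hp
    rw [hq]
    exact add_pow_char_pow x y p f
  commutes' c := by
    classical
    letI := Fintype.ofFinite k
    change algebraMap k K c ^ Nat.card k = algebraMap k K c
    rw [← map_pow, Nat.card_eq_fintype_card, FiniteField.pow_card]

theorem frobK_apply [Finite k] (x : K) : frobK k K x = x ^ Nat.card k := rfl

/-- the `kb`-linear Frobenius of `kb ⊗ K` -/
noncomputable def FrobT [Finite k] : Tens k K →ₐ[AlgebraicClosure k] Tens k K :=
  Algebra.TensorProduct.map (AlgHom.id (AlgebraicClosure k) (AlgebraicClosure k)) (frobK k K)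

noncomputable def Frob [Finite k] : Kbar k K →ₐ[AlgebraicClosure k] Kbar k K :=
  Ideal.quotientMapₐ ⊥ (FrobT k K) bot_le

theorem Frob_apply [Finite k] (x : K) :
    Frob k K (algebraMap K (Kbar k K) x) = algebraMap K (Kbar k K) x ^ Nat.card k := by
  rw [algebraMap_K_Kbar, ← map_pow, Algebra.TensorProduct.tmul_pow, one_pow]
  change Ideal.Quotient.mk ⊥ (FrobT k K (1 ⊗ₜ[k] x)) = _
  rw [FrobT, Algebra.TensorProduct.map_tmul, frobK_apply]
  rfl

end Closure

end Groth.Agent.Lib.Helper26.HW
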