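import Mathlib
import Groth.Agent.Lib.Helper26.HW5

set_option autoImplicit false
set_option linter.unusedSectionVars false
set_option linter.style.haveILetI false
open scoped WithZero TensorProduct IntermediateField
open FunFld
open Groth.Agent.Lib.Helper2.FF

universe u v

namespace Groth.Agent.Lib.Helper26.DefOver

variable {k kbar : Type u} {K Kbar : Type v} [Field k] [Field kbar] [Field K] [Field Kbar]
    [Algebra k kbar] [Algebra k K] [Algebra K Kbar] [Algebra kbar Kbar] [Algebra k Kbar]
    [IsScalarTower k kbar Kbar] [IsScalarTower k K Kbar]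

/-- the compositum `K k'` inside `Kbar` -/
abbrev Lev (K : Type v) {Kbar : Type v} [Field K] [Field Kbar] [Algebra K Kbar] [Algebra kbar Kbar]
    (k' : IntermediateField k kbar) : Subalgebra K Kbar :=
  Algebra.adjoin K (Set.range fun c : k' => algebraMap kbar Kbar c)

theorem Lev_mono {k' k'' : IntermediateField k kbar} (h : k' ≤ k'') :
    Lev K (Kbar := Kbar) k' ≤ Lev K k'' := by
  apply Algebra.adjoin_mono
  rintro _ ⟨c, rfl⟩
  exact ⟨⟨c.1, h c.2⟩, rfl⟩

theorem exists_level [Algebra.IsAlgebraic k kbar]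
    (hsurj : Function.Surjective (Algebra.TensorProduct.productMap
      (IsScalarTower.toAlgHom k kbar Kbar) (IsScalarTower.toAlgHom k K Kbar))) (z : Kbar) :
    ∃ k' : IntermediateField k kbar, FiniteDimensional k k' ∧ z ∈ Lev K k' := by
  obtain ⟨t, rfl⟩ := hsurj z
  induction t using TensorProduct.induction_on with
  | zero => exact ⟨⊥, inferInstance, by rw [map_zero]; exact Subalgebra.zero_mem _⟩
  | tmul c x =>
    refine ⟨k⟮c⟯, IntermediateField.adjoin.finiteDimensional
      (Algebra.IsIntegral.isIntegral c), ?_⟩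
    rw [Algebra.TensorProduct.productMap_apply_tmul]
    refine Subalgebra.mul_mem _ ?_ ?_
    · exact Algebra.subset_adjoin
        ⟨(⟨c, IntermediateField.mem_adjoin_simple_self k c⟩ : k⟮c⟯), rfl⟩
    · exact Subalgebra.algebraMap_mem _ x
  | add t t' ht ht' =>
    obtain ⟨F, hF, hs⟩ := ht
    obtain ⟨F', hF', hs'⟩ := ht'
    refine ⟨F ⊔ F', IntermediateField.finiteDimensional_sup F F', ?_⟩
    rw [map_add]
    exact Subalgebra.add_mem _ (Lev_mono le_sup_left hs) (Lev_mono le_sup_right hs')

theorem exists_level_finset [Algebra.IsAlgebraic k kbar]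
    (hsurj : Function.Surjective (Algebra.TensorProduct.productMap
      (IsScalarTower.toAlgHom k kbar Kbar) (IsScalarTower.toAlgHom k K Kbar))) (S : Finset Kbar) :
    ∃ k' : IntermediateField k kbar, FiniteDimensional k k' ∧ ∀ z ∈ S, z ∈ Lev K k' := by
  classical
  induction S using Finset.induction_on with
  | empty => exact ⟨⊥, inferInstance, by simp⟩
  | insert a S _ ih =>
    obtain ⟨F, hF, hs⟩ := ih
    obtain ⟨F', hF', ha⟩ := exists_level hsurj a
    refine ⟨F ⊔ F', IntermediateField.finiteDimensional_sup F F', ?_⟩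
    intro z hz
    rw [Finset.mem_insert] at hz
    rcases hz with rfl | hz
    · exact Lev_mono le_sup_right ha
    · exact Lev_mono le_sup_left (hs z hz)

theorem hgen_of_surjective
    (hsurj : Function.Surjective (Algebra.TensorProduct.productMap
      (IsScalarTower.toAlgHom k kbar Kbar) (IsScalarTower.toAlgHom k K Kbar))) :
    Algebra.adjoin K (Set.range (algebraMap kbar Kbar)) = ⊤ := by
  rw [Algebra.eq_top_iff]
  intro z
  obtain ⟨t, rfl⟩ := hsurj z
  induction t using TensorProduct.induction_on with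
  | zero => rw [map_zero]; exact Subalgebra.zero_mem _
  | tmul c x =>
    rw [Algebra.TensorProduct.productMap_apply_tmul]
    exact Subalgebra.mul_mem _ (Algebra.subset_adjoin ⟨c, rfl⟩) (Subalgebra.algebraMap_mem _ x)
  | add t t' ht ht' =>
    rw [map_add]
    exact Subalgebra.add_mem _ ht ht'

/-- two distinct places are incomparable -/
theorem exists_le_one_lt {k K : Type*} [Field k] [Field K] [Algebra k K]
    {Q Q' : FunFld.Place k K} (hne : Q' ≠ Q) : ∃ z : K, v Q z ≤ 1 ∧ 1 < v Q' z := by
  by_contra hcon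
  push Not at hcon
  apply hne
  apply place_eq_of_lt_one_imp
  intro z hz
  by_contra hz'
  push Not at hz'
  have hz0 : z ≠ 0 := by
    rintro rfl
    rw [map_zero] at hz'
    exact absurd hz' (by simp)
  have h1 : v Q z⁻¹ ≤ 1 := by
    rw [map_inv₀]
    exact inv_le_one_of_one_le₀ hz'
  have h2 := hcon z⁻¹ h1
  rw [map_inv₀] at h2
  have h3 : v Q' z ≠ 0 := (Valuation.ne_zero_iff _).2 hz0
  have h4 : 1 ≤ v Q' z := (inv_le_one₀ (zero_lt_iff.2 h3)).1 h2
  exact absurd hz (not_lt.2 h4)

/-- **S12593**: a place of `k̄ ⊗ K` is defined over a finite extension -/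
theorem place_defined_over_finite [IsAlgClosure k kbar]
    (hsurj : Function.Surjective (Algebra.TensorProduct.productMap
      (IsScalarTower.toAlgHom k kbar Kbar) (IsScalarTower.toAlgHom k K Kbar)))
    (hK : FunFld.IsFunctionField k K) (Q : FunFld.Place kbar Kbar) :
    ∃ k' : IntermediateField k kbar, FiniteDimensional k k' ∧
      (∃ z ∈ Algebra.adjoin K (Set.range fun c : k' => algebraMap kbar Kbar c),
        Q.1 z = WithZero.exp (-1)) ∧
      ∀ Q' : FunFld.Place kbar Kbar,
        (∃ e : ℕ, ∀ z ∈ Algebra.adjoin K (Set.range fun c : k' => algebraMap kbar Kbar c),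
          Q'.1 z = Q.1 z ^ e) → Q' = Q := by
  classical
  haveI : IsAlgClosed kbar := IsAlgClosure.isAlgClosed k
  haveI : Algebra.IsAlgebraic k kbar := IsAlgClosure.isAlgebraic
  have hgen := hgen_of_surjective hsurj
  have hKb : IsFunctionField kbar Kbar := Groth.Agent.Lib.Helper26.HW.isFunctionField_closure hK hgen
  haveI : Algebra.IsAlgebraic K Kbar := isAlgebraic_of_adjoin_eq_top (k := k) hgen
  -- a uniformizer
  obtain ⟨t, ht⟩ := exists_uniformizer Q
  -- an element of `K` in the maximal ideal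
  obtain ⟨x₀, hx₀0, hx₀⟩ := exists_comap_lt_one (K := K) (downPlace (k := k) Q)
  change v Q (algebraMap K Kbar x₀) < 1 at hx₀
  have hx₀tr : Transcendental k x₀ := by
    intro halg
    obtain ⟨c, rfl⟩ := hK.2 x₀ halg
    have hc : c ≠ 0 := by
      rintro rfl
      exact hx₀0 (map_zero _)
    rw [← IsScalarTower.algebraMap_apply, IsScalarTower.algebraMap_apply k kbar Kbar,
      v_algebraMap Q ((map_ne_zero _).2 hc)] at hx₀
    exact lt_irrefl _ hx₀
  have hxb : Transcendental kbar (algebraMap K Kbar x₀) := by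
    intro halg
    have h1 : IsAlgebraic k (algebraMap K Kbar x₀) := halg.restrictScalars k
    exact hx₀tr ((isAlgebraic_algebraMap_iff (algebraMap K Kbar).injective).1 h1)
  have hZ := finite_zeros hKb hxb
  -- separating elements
  have hsep : ∀ Q' : FunFld.Place kbar Kbar, ∃ z : Kbar, Q' ≠ Q → v Q z ≤ 1 ∧ 1 < v Q' z := by
    intro Q'
    by_cases h : Q' = Q
    · exact ⟨0, fun h' => absurd h h'⟩
    · obtain ⟨z, hz⟩ := exists_le_one_lt h
      exact ⟨z, fun _ => hz⟩
  choose zf hzf using hsep
  obtain ⟨k', hk', hlev⟩ := exists_level_finset (K := K) hsurj (insert t (hZ.toFinset.image zf))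
  refine ⟨k', hk', ⟨t, hlev t (Finset.mem_insert_self _ _), ht⟩, ?_⟩
  rintro Q' ⟨e, he⟩
  by_contra hne
  have he0 : e ≠ 0 := by
    rintro rfl
    have := he 0 (Subalgebra.zero_mem _)
    rw [map_zero, map_zero, pow_zero] at this
    exact zero_ne_one this
  have hxQ' : v Q' (algebraMap K Kbar x₀) < 1 := by
    have := he (algebraMap K Kbar x₀) (Subalgebra.algebraMap_mem _ x₀)
    change v Q' _ = v Q _ ^ e at this
    rw [this]
    exact pow_lt_one₀ zero_le hx₀ he0
  have hmem : zf Q' ∈ Lev K k' := by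
    apply hlev
    rw [Finset.mem_insert]
    right
    rw [Finset.mem_image]
    exact ⟨Q', (Set.Finite.mem_toFinset hZ).2 hxQ', rfl⟩
  obtain ⟨h1, h2⟩ := hzf Q' hne
  have h3 := he (zf Q') hmem
  change v Q' _ = v Q _ ^ e at h3
  rw [h3] at h2
  exact absurd h2 (not_lt.2 (pow_le_one₀ zero_le h1))

end Groth.Agent.Lib.Helper26.DefOver
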