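import Mathlib
set_option autoImplicit false
set_option linter.style.haveILetI false
universe u
open AlgebraicGeometry CategoryTheory CategoryTheory.Limits TopologicalSpace

namespace Groth.Agent.Lib.Helper26.DenseSep

variable {X : Scheme.{u}}

/-- a scheme admitting a map to an affine scheme which is injective on points is separated -/
lemma isSeparated_of_injective_to_affine {V A : Scheme.{u}} [IsAffine A] (h : V ⟶ A)
    (hh : Function.Injective h.base) : V.IsSeparated := by
  haveI : IsSeparated h := isSeparated_of_injective h hh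
  have : terminal.from V = h ≫ terminal.from A := (terminal.hom_ext _ _)
  constructor
  rw [this]
  infer_instance

theorem core {n : ℕ} (U : Fin n → X.Opens) (hU : ∀ k, IsAffineOpen (U k))
    (hcov : ∀ x : X, ∃ k, x ∈ U k) :
    ∃ V : X.Opens, Dense (V : Set X) ∧ (V : Scheme.{u}).IsSeparated := by
  let C : Fin n → Set X := fun k => closure (⋃ j : {j : Fin n // j < k}, (U j.1 : Set X))
  let W : Fin n → X.Opens := fun k => U k ⊓ ⟨(C k)ᶜ, isClosed_closure.isOpen_compl⟩
  have hWU : ∀ k, W k ≤ U k := fun k => inf_le_left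
  have hdisj' : ∀ j k, j < k → ∀ x, x ∈ W j → x ∉ W k := by
    intro j k hjk x hxj hxk
    apply hxk.2
    apply subset_closure
    exact Set.mem_iUnion.mpr ⟨⟨j, hjk⟩, hxj.1⟩
  have hdisj : ∀ j k, j ≠ k → ∀ x, x ∈ W j → x ∉ W k := by
    intro j k hjk x hxj hxk
    rcases lt_or_gt_of_ne hjk with h | h
    · exact hdisj' j k h x hxj hxk
    · exact hdisj' k j h x hxk hxj
  refine ⟨⨆ k, W k, ?_, ?_⟩
  · rw [dense_iff_inter_open]
    rintro O hO ⟨x, hx⟩
    let S : Set (Fin n) := {k | (O ∩ (U k : Set X)).Nonempty}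
    have hS : S.Nonempty := by
      obtain ⟨k, hk⟩ := hcov x
      exact ⟨k, x, hx, hk⟩
    obtain ⟨k, hkS, hkmin⟩ := WellFounded.has_min (wellFounded_lt : WellFounded
      ((· < ·) : Fin n → Fin n → Prop)) S hS
    obtain ⟨y, hyO, hyU⟩ := hkS
    refine ⟨y, hyO, ?_⟩
    simp only [Opens.coe_iSup, Set.mem_iUnion, SetLike.mem_coe]
    refine ⟨k, hyU, ?_⟩
    intro hyC
    obtain ⟨z, ⟨hzO, hzU⟩, hz⟩ := mem_closure_iff.mp hyC (O ∩ (U k : Set X))
      (hO.inter (U k).isOpen) ⟨hyO, hyU⟩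
    obtain ⟨⟨j, hjk⟩, hzj⟩ := Set.mem_iUnion.mp hz
    exact hkmin j ⟨z, hzO, hzj⟩ hjk
  · let 𝒰 := Scheme.Opens.iSupOpenCover W
    let A : Scheme.{u} := ∐ (fun k => (U k).toScheme)
    haveI : ∀ k, IsAffine ((U k).toScheme) := hU
    let fk : ∀ k, 𝒰.X k ⟶ A := fun k =>
      X.homOfLE (hWU k) ≫ Sigma.ι (fun k => (U k).toScheme) k
    have hval : ∀ k (w : 𝒰.X k), ((𝒰.f k).base w).1 = w.1 := fun k w =>
      Scheme.homOfLE_apply (le_iSup W k) w
    have hcompat : ∀ j k, pullback.fst (𝒰.f j) (𝒰.f k) ≫ fk j =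
        pullback.snd (𝒰.f j) (𝒰.f k) ≫ fk k := by
      intro j k
      by_cases hjk : j = k
      · subst hjk
        have : pullback.fst (𝒰.f j) (𝒰.f j) = pullback.snd (𝒰.f j) (𝒰.f j) := by
          rw [← cancel_mono (𝒰.f j)]
          exact pullback.condition
        rw [this]
      · haveI : IsEmpty ↑(pullback (𝒰.f j) (𝒰.f k)) := by
          constructor
          intro z
          have h1 := congrArg (fun t => (t.base z).1)
            (pullback.condition (f := 𝒰.f j) (g := 𝒰.f k))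
          simp only [Scheme.Hom.comp_base, TopCat.comp_app] at h1
          rw [hval, hval] at h1
          have h2 : ((pullback.fst (𝒰.f j) (𝒰.f k)).base z).1 ∈ W j :=
            ((pullback.fst (𝒰.f j) (𝒰.f k)).base z).2
          have h3 : ((pullback.snd (𝒰.f j) (𝒰.f k)).base z).1 ∈ W k :=
            ((pullback.snd (𝒰.f j) (𝒰.f k)).base z).2
          rw [h1] at h2
          exact hdisj j k hjk _ h2 h3
        exact (isInitialOfIsEmpty (X := pullback (𝒰.f j) (𝒰.f k))).hom_ext _ _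
    let h : (⨆ k, W k).toScheme ⟶ A := 𝒰.glueMorphisms fk hcompat
    apply isSeparated_of_injective_to_affine h
    intro v v' hvv'
    obtain ⟨j, w, rfl⟩ := 𝒰.exists_eq v
    obtain ⟨k, w', rfl⟩ := 𝒰.exists_eq v'
    have e1 : h.base ((𝒰.f j).base w) = (fk j).base w := by
      rw [← Scheme.Hom.comp_apply, 𝒰.ι_glueMorphisms]
    have e2 : h.base ((𝒰.f k).base w') = (fk k).base w' := by
      rw [← Scheme.Hom.comp_apply, 𝒰.ι_glueMorphisms]
    rw [e1, e2] at hvv'
    simp only [fk] at hvv'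
    have h4 := (sigmaι_eq_iff (fun k => (U k).toScheme) j k _ _).mp hvv'
    obtain ⟨rfl, h5⟩ := Sigma.mk.inj_iff.mp h4
    have h6 := eq_of_heq h5
    apply Subtype.ext
    rw [hval, hval]
    have h7 := congrArg Subtype.val h6
    have h8 : ((X.homOfLE (hWU j)).base w).1 = w.1 := Scheme.homOfLE_apply (hWU j) w
    have h9 : ((X.homOfLE (hWU j)).base w').1 = w'.1 := Scheme.homOfLE_apply (hWU j) w'
    rw [← h8, ← h9]
    exact h7

theorem main (X : Scheme.{u}) [CompactSpace X] :
    ∃ V : X.Opens, Dense (V : Set X) ∧ (V : Scheme.{u}).IsSeparated := by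
  obtain ⟨s, hs, hcov⟩ := isCompact_iff_finite_and_eq_biUnion_affineOpens.mp
    (show IsCompact ((⊤ : X.Opens) : Set X) from isCompact_univ)
  haveI : Finite s := hs.to_subtype
  obtain ⟨n, ⟨e⟩⟩ := Finite.exists_equiv_fin s
  refine core (fun k => ((e.symm k : s) : X.affineOpens).1) (fun k => (e.symm k : s).1.2) ?_
  intro x
  have hx : x ∈ (⊤ : X.Opens) := trivial
  rw [hcov] at hx
  simp only [Opens.mem_iSup] at hx
  obtain ⟨i, hi, hxi⟩ := hx
  refine ⟨e ⟨i, hi⟩, ?_⟩
  simpa using hxi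

end Groth.Agent.Lib.Helper26.DenseSep
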