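import Groth.Agent.S2488
import Mathlib.AlgebraicGeometry.PullbackCarrier
import Mathlib.AlgebraicGeometry.Morphisms.Flat
import Mathlib.AlgebraicGeometry.Morphisms.QuasiCompact

set_option autoImplicit false
universe u
open CategoryTheory CategoryTheory.Limits AlgebraicGeometry

namespace Groth.Agent.Lib.Helper26.DescUniv

theorem descendsAlong_universally_inf {C : Type*} [Category C] [HasPullbacks C]
    (P R Q : MorphismProperty C) [Q.IsStableUnderBaseChange] [R.IsStableUnderBaseChange]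
    [(P ⊓ R).DescendsAlong Q] : (P.universally ⊓ R).DescendsAlong Q where
  of_isPullback {A X Y Z fst snd f g} h hf hfst := by
    have hPR : (P ⊓ R) g := MorphismProperty.DescendsAlong.of_isPullback (P := P ⊓ R) h hf
      ⟨MorphismProperty.universally_le P _ hfst.1, hfst.2⟩
    refine ⟨?_, hPR.2⟩
    intro Y' T i₁ i₂ g' H
    obtain ⟨XT, p₁, p₂, S2⟩ : ∃ (XT : C) (p₁ : XT ⟶ X) (p₂ : XT ⟶ T), IsPullback p₁ p₂ f i₂ :=
      ⟨_, _, _, IsPullback.of_hasPullback f i₂⟩
    have hQ : Q p₂ := MorphismProperty.of_isPullback S2 hf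
    obtain ⟨A', q₁, q₂, S3⟩ : ∃ (A' : C) (q₁ : A' ⟶ Y') (q₂ : A' ⟶ XT), IsPullback q₁ q₂ g' p₂ :=
      ⟨_, _, _, IsPullback.of_hasPullback g' p₂⟩
    have hcomm : (q₂ ≫ p₁) ≫ f = (q₁ ≫ i₁) ≫ g := by
      rw [Category.assoc, S2.w, ← Category.assoc, ← S3.w, Category.assoc, H.w, Category.assoc]
    let a : A' ⟶ A := h.lift (q₂ ≫ p₁) (q₁ ≫ i₁) hcomm
    have ha1 : a ≫ fst = q₂ ≫ p₁ := h.lift_fst _ _ _
    have ha2 : a ≫ snd = q₁ ≫ i₁ := h.lift_snd _ _ _
    have outer : IsPullback (a ≫ snd) q₂ g (p₁ ≫ f) := by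
      rw [ha2, S2.w]
      exact S3.paste_horiz H.flip
    have left : IsPullback a q₂ fst p₁ := IsPullback.of_right outer ha1 h.flip
    have hP : P q₂ := hfst.1 a p₁ q₂ left.flip
    have hR : R q₂ := MorphismProperty.of_isPullback left hfst.2
    have := MorphismProperty.DescendsAlong.of_isPullback (P := P ⊓ R) S3.flip hQ ⟨hP, hR⟩
    exact this.1

end Groth.Agent.Lib.Helper26.DescUniv

namespace Groth.Agent.Lib.Helper26.DescUniv

theorem main :
    MorphismProperty.DescendsAlong
      (MorphismProperty.universally (topologically (fun f => Topology.IsEmbedding f)) ⊓ @QuasiCompact : MorphismProperty Scheme.{u})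
      (@Surjective ⊓ @Flat ⊓ @QuasiCompact : MorphismProperty Scheme.{u}) := by
  have := Groth.Agent.S2488.result.{u}
  have h1 : MorphismProperty.IsStableUnderBaseChange
      ((@Surjective : MorphismProperty Scheme.{u}) ⊓ @Flat) :=
    MorphismProperty.IsStableUnderBaseChange.inf
  have h2 : MorphismProperty.IsStableUnderBaseChange
      (@Surjective ⊓ @Flat ⊓ @QuasiCompact : MorphismProperty Scheme.{u}) :=
    MorphismProperty.IsStableUnderBaseChange.inf
  exact descendsAlong_universally_inf _ _ _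

end Groth.Agent.Lib.Helper26.DescUniv
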