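import Mathlib

set_option autoImplicit false
set_option linter.style.haveILetI false
set_option linter.unusedSectionVars false
set_option linter.unusedVariables false

namespace Groth.Agent.Lib.Helper26.DiffLoc

open nonZeroDivisors IsLocalization Function

universe u

section general

/- the common setting: `A ⊆ K`, `B ⊆ L` with `K`, `L` the fraction fields -/
variable (A K L B : Type*) [CommRing A] [Field K] [CommRing B] [Field L]
  [Algebra A K] [Algebra B L] [Algebra A B] [Algebra K L] [Algebra A L]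
  [IsScalarTower A K L] [IsScalarTower A B L] [IsDomain A] [IsFractionRing A K]
  [FiniteDimensional K L] [Algebra.IsSeparable K L] [IsIntegralClosure B A L]
  [IsIntegrallyClosed A] [IsDedekindDomain B] [Module.IsTorsionFree A B] [IsFractionRing B L]

theorem mem_differentIdeal_iff (b : B) :
    b ∈ differentIdeal A B ↔
      ∀ y : L, (∀ b' : B, Algebra.trace K L (y * algebraMap B L b') ∈ (algebraMap A K).range) →
        algebraMap B L b * y ∈ (algebraMap B L).range := by
  have h := coeSubmodule_differentIdeal A K (L := L) B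
  have h1 : b ∈ differentIdeal A B ↔ algebraMap B L b ∈ coeSubmodule L (differentIdeal A B) := by
    rw [IsLocalization.mem_coeSubmodule]
    constructor
    · intro hb
      exact ⟨b, hb, rfl⟩
    · rintro ⟨b', hb', hbb'⟩
      have := (IsFractionRing.injective B L) hbb'
      rwa [← this]
  rw [h1, h, Submodule.mem_div_iff_forall_mul_mem]
  constructor
  · intro H y hy
    have := H y (by
      rw [Submodule.mem_traceDual]
      intro a ha
      rw [Submodule.mem_one] at ha
      obtain ⟨b', rfl⟩ := ha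
      rw [Algebra.traceForm_apply]
      exact hy b')
    rw [Submodule.mem_one] at this
    obtain ⟨c, hc⟩ := this
    exact ⟨c, hc⟩
  · intro H y hy
    rw [Submodule.mem_traceDual] at hy
    rw [Submodule.mem_one]
    obtain ⟨c, hc⟩ := H y (by
      intro b'
      have := hy (algebraMap B L b') (by rw [Submodule.mem_one]; exact ⟨b', rfl⟩)
      rwa [Algebra.traceForm_apply] at this)
    exact ⟨c, hc⟩

theorem one_mem_mul :
    (1 : L) ∈ (coeSubmodule L (differentIdeal A B)) *
      (Submodule.traceDual A K (1 : Submodule B L)) := by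
  have h := coeIdeal_differentIdeal A K L B
  have hne : FractionalIdeal.dual A K (1 : FractionalIdeal B⁰ L) ≠ 0 :=
    FractionalIdeal.dual_ne_zero A K one_ne_zero
  have h1 : ((differentIdeal A B : Ideal B) : FractionalIdeal B⁰ L) *
      FractionalIdeal.dual A K (1 : FractionalIdeal B⁰ L) = 1 := by
    rw [h, inv_mul_cancel₀ hne]
  have h2 := congrArg (fun I : FractionalIdeal B⁰ L => (I : Submodule B L)) h1
  simp only [FractionalIdeal.coe_mul, FractionalIdeal.coe_coeIdeal, FractionalIdeal.coe_dual_one,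
    FractionalIdeal.coe_one] at h2
  rw [h2]
  exact Submodule.one_le.mp le_rfl

end general

section loc

theorem sigma_ne_zero (A K L : Type*) [CommRing A] [Field K] [Field L]
    [Algebra A K] [Algebra K L] [Algebra A L] [IsScalarTower A K L] [IsDomain A]
    [IsFractionRing A K] (S : Submonoid A) (hS : S ≤ nonZeroDivisors A) (s : S) :
    algebraMap A L (s : A) ≠ 0 := by
  rw [IsScalarTower.algebraMap_apply A K L]
  intro h
  have h1 : algebraMap A K (s : A) = 0 := (algebraMap K L).injective (by rw [h, map_zero])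
  have h2 : (s : A) = 0 := IsFractionRing.injective A K (by rw [h1, map_zero])
  exact nonZeroDivisors.ne_zero (hS s.2) h2

theorem map_le (A K L B : Type*) [CommRing A] [Field K] [CommRing B] [Field L]
    [Algebra A K] [Algebra B L] [Algebra A B] [Algebra K L] [Algebra A L]
    [IsScalarTower A K L] [IsScalarTower A B L] [IsDomain A] [IsFractionRing A K]
    [FiniteDimensional K L] [Algebra.IsSeparable K L] [IsIntegralClosure B A L]
    [IsIntegrallyClosed A] [IsDedekindDomain B] [Module.IsTorsionFree A B] [IsFractionRing B L]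
    [Module.Finite A B]
    (S : Submonoid A) (hS : S ≤ nonZeroDivisors A)
    (Aₛ Bₛ : Type*) [CommRing Aₛ] [CommRing Bₛ] [Algebra A Aₛ] [Algebra B Bₛ] [Algebra Aₛ Bₛ]
    [Algebra A Bₛ] [IsScalarTower A Aₛ Bₛ] [IsScalarTower A B Bₛ]
    [IsLocalization S Aₛ] [IsLocalization (Algebra.algebraMapSubmonoid B S) Bₛ]
    [Algebra Aₛ K] [IsScalarTower A Aₛ K] [Algebra Bₛ L] [IsScalarTower B Bₛ L]
    [Algebra Aₛ L] [IsScalarTower Aₛ K L] [IsScalarTower Aₛ Bₛ L]
    [IsDomain Aₛ] [IsFractionRing Aₛ K] [IsIntegralClosure Bₛ Aₛ L] [IsIntegrallyClosed Aₛ]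
    [IsDedekindDomain Bₛ] [Module.IsTorsionFree Aₛ Bₛ] [IsFractionRing Bₛ L] :
    Ideal.map (algebraMap B Bₛ) (differentIdeal A B) ≤ differentIdeal Aₛ Bₛ := by
  rw [Ideal.map_le_iff_le_comap]
  intro d hd
  rw [Ideal.mem_comap, mem_differentIdeal_iff Aₛ K L Bₛ]
  intro y hy
  obtain ⟨G, hG⟩ := (Module.finite_def.mp (inferInstance : Module.Finite A B))
  have hyG : ∀ g : B, ∃ a : Aₛ, algebraMap Aₛ K a = Algebra.trace K L (y * algebraMap B L g) := by
    intro g
    have := hy (algebraMap B Bₛ g)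
    rw [← IsScalarTower.algebraMap_apply B Bₛ L] at this
    exact this
  choose a ha using hyG
  obtain ⟨s, hs⟩ := IsLocalization.exist_integer_multiples S G a
  have htr : ∀ b : B, Algebra.trace K L ((algebraMap A L (s : A) * y) * algebraMap B L b) ∈
      (algebraMap A K).range := by
    intro b
    have hb : b ∈ Submodule.span A (G : Set B) := by rw [hG]; trivial
    induction hb using Submodule.span_induction with
    | mem g hg =>
      obtain ⟨a', ha'⟩ := hs g hg
      refine ⟨a', ?_⟩
      rw [mul_assoc, IsScalarTower.algebraMap_apply A K L, ← Algebra.smul_def, map_smul, ← ha g,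
        smul_eq_mul, IsScalarTower.algebraMap_apply A Aₛ K, ha', Algebra.smul_def, map_mul,
        ← IsScalarTower.algebraMap_apply A Aₛ K]
    | zero =>
      refine ⟨0, ?_⟩
      simp
    | add x z _ _ hx hz =>
      obtain ⟨ax, hax⟩ := hx
      obtain ⟨az, haz⟩ := hz
      refine ⟨ax + az, ?_⟩
      rw [map_add, map_add, mul_add, map_add, hax, haz]
    | smul r x _ hx =>
      obtain ⟨ax, hax⟩ := hx
      refine ⟨r * ax, ?_⟩
      have e1 : algebraMap A L (s : A) * y * algebraMap B L (r • x) =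
          algebraMap A K r • (algebraMap A L (s : A) * y * algebraMap B L x) := by
        rw [Algebra.smul_def r x, map_mul, ← IsScalarTower.algebraMap_apply A B L,
          IsScalarTower.algebraMap_apply A K L r, Algebra.smul_def]
        ring
      rw [e1, map_smul, smul_eq_mul, ← hax, map_mul]
  obtain ⟨c, hc⟩ := (mem_differentIdeal_iff A K L B d).mp hd _ htr
  have hsmem : algebraMap A B (s : A) ∈ Algebra.algebraMapSubmonoid B S :=
    Algebra.mem_algebraMapSubmonoid_of_mem s
  refine ⟨IsLocalization.mk' Bₛ c ⟨algebraMap A B (s : A), hsmem⟩, ?_⟩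
  have hσ := sigma_ne_zero A K L S hS s
  apply mul_right_cancel₀ hσ
  have h1 : algebraMap Bₛ L (IsLocalization.mk' Bₛ c ⟨algebraMap A B (s : A), hsmem⟩) *
      algebraMap A L (s : A) = algebraMap B L c := by
    rw [IsScalarTower.algebraMap_apply A B L, IsScalarTower.algebraMap_apply B Bₛ L, ← map_mul,
      IsLocalization.mk'_spec, ← IsScalarTower.algebraMap_apply B Bₛ L]
  rw [h1, hc, ← IsScalarTower.algebraMap_apply B Bₛ L]
  ring

theorem le_map (A K L B : Type*) [CommRing A] [Field K] [CommRing B] [Field L]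
    [Algebra A K] [Algebra B L] [Algebra A B] [Algebra K L] [Algebra A L]
    [IsScalarTower A K L] [IsScalarTower A B L] [IsDomain A] [IsFractionRing A K]
    [FiniteDimensional K L] [Algebra.IsSeparable K L] [IsIntegralClosure B A L]
    [IsIntegrallyClosed A] [IsDedekindDomain B] [Module.IsTorsionFree A B] [IsFractionRing B L]
    [Module.Finite A B]
    (S : Submonoid A) (hS : S ≤ nonZeroDivisors A)
    (Aₛ Bₛ : Type*) [CommRing Aₛ] [CommRing Bₛ] [Algebra A Aₛ] [Algebra B Bₛ] [Algebra Aₛ Bₛ]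
    [Algebra A Bₛ] [IsScalarTower A Aₛ Bₛ] [IsScalarTower A B Bₛ]
    [IsLocalization S Aₛ] [IsLocalization (Algebra.algebraMapSubmonoid B S) Bₛ]
    [Algebra Aₛ K] [IsScalarTower A Aₛ K] [Algebra Bₛ L] [IsScalarTower B Bₛ L]
    [Algebra Aₛ L] [IsScalarTower Aₛ K L] [IsScalarTower Aₛ Bₛ L]
    [IsDomain Aₛ] [IsFractionRing Aₛ K] [IsIntegralClosure Bₛ Aₛ L] [IsIntegrallyClosed Aₛ]
    [IsDedekindDomain Bₛ] [Module.IsTorsionFree Aₛ Bₛ] [IsFractionRing Bₛ L] :
    differentIdeal Aₛ Bₛ ≤ Ideal.map (algebraMap B Bₛ) (differentIdeal A B) := by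
  intro z hz
  have hz' := (mem_differentIdeal_iff Aₛ K L Bₛ z).mp hz
  -- elements of the dual of `B` are in the dual of `Bₛ`
  have hdual : ∀ y ∈ Submodule.traceDual A K (1 : Submodule B L),
      ∀ b' : Bₛ, Algebra.trace K L (y * algebraMap Bₛ L b') ∈ (algebraMap Aₛ K).range := by
    intro y hy b'
    rw [Submodule.mem_traceDual] at hy
    obtain ⟨⟨b, t⟩, hbt⟩ := IsLocalization.surj (Algebra.algebraMapSubmonoid B S) b'
    obtain ⟨s, hs, hst⟩ := t.2
    have h1 := hy (algebraMap B L b) (by rw [Submodule.mem_one]; exact ⟨b, rfl⟩)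
    rw [Algebra.traceForm_apply] at h1
    obtain ⟨a, ha⟩ := h1
    have hσ := sigma_ne_zero A K L S hS ⟨s, hs⟩
    have hσK : algebraMap A K s ≠ 0 := by
      intro h
      apply hσ
      show algebraMap A L s = 0
      rw [IsScalarTower.algebraMap_apply A K L, h, map_zero]
    have h2 : algebraMap Bₛ L b' * algebraMap A L s = algebraMap B L b := by
      have := congrArg (algebraMap Bₛ L) hbt
      rw [map_mul, ← IsScalarTower.algebraMap_apply B Bₛ L, ← IsScalarTower.algebraMap_apply B Bₛ L,
        ← hst, ← IsScalarTower.algebraMap_apply A B L] at this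
      exact this
    refine ⟨IsLocalization.mk' Aₛ a ⟨s, hs⟩, ?_⟩
    have h3 : algebraMap Aₛ K (IsLocalization.mk' Aₛ a ⟨s, hs⟩) * algebraMap A K s =
        algebraMap A K a := by
      rw [IsScalarTower.algebraMap_apply A Aₛ K, ← map_mul]
      have := IsLocalization.mk'_spec Aₛ a (⟨s, hs⟩ : S)
      rw [this, ← IsScalarTower.algebraMap_apply A Aₛ K]
    apply mul_right_cancel₀ hσK
    rw [h3, ha, ← h2, ← mul_assoc, IsScalarTower.algebraMap_apply A K L, mul_comm _ (algebraMap K L _),
      ← Algebra.smul_def, map_smul, smul_eq_mul, mul_comm]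
  -- partition of unity
  have hone := one_mem_mul A K L B
  have key : ∃ e ∈ Ideal.map (algebraMap B Bₛ) (differentIdeal A B),
      algebraMap Bₛ L e = algebraMap Bₛ L z * 1 := by
    refine Submodule.mul_induction_on hone ?_ ?_
    · intro m hm y hy
      rw [IsLocalization.mem_coeSubmodule] at hm
      obtain ⟨d, hd, rfl⟩ := hm
      obtain ⟨e₀, he₀⟩ := hz' y (hdual y hy)
      refine ⟨e₀ * algebraMap B Bₛ d, Ideal.mul_mem_left _ _ (Ideal.mem_map_of_mem _ hd), ?_⟩
      rw [map_mul, he₀, ← IsScalarTower.algebraMap_apply B Bₛ L]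
      ring
    · rintro x y ⟨ex, hex, hx⟩ ⟨ey, hey, hy⟩
      exact ⟨ex + ey, Ideal.add_mem _ hex hey, by rw [map_add, hx, hy, mul_add]⟩
  obtain ⟨e, he, hez⟩ := key
  rw [mul_one] at hez
  have := IsFractionRing.injective Bₛ L hez
  rwa [← this]

theorem map_eq (A K L B : Type*) [CommRing A] [Field K] [CommRing B] [Field L]
    [Algebra A K] [Algebra B L] [Algebra A B] [Algebra K L] [Algebra A L]
    [IsScalarTower A K L] [IsScalarTower A B L] [IsDomain A] [IsFractionRing A K]
    [FiniteDimensional K L] [Algebra.IsSeparable K L] [IsIntegralClosure B A L]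
    [IsIntegrallyClosed A] [IsDedekindDomain B] [Module.IsTorsionFree A B] [IsFractionRing B L]
    [Module.Finite A B]
    (S : Submonoid A) (hS : S ≤ nonZeroDivisors A)
    (Aₛ Bₛ : Type*) [CommRing Aₛ] [CommRing Bₛ] [Algebra A Aₛ] [Algebra B Bₛ] [Algebra Aₛ Bₛ]
    [Algebra A Bₛ] [IsScalarTower A Aₛ Bₛ] [IsScalarTower A B Bₛ]
    [IsLocalization S Aₛ] [IsLocalization (Algebra.algebraMapSubmonoid B S) Bₛ]
    [Algebra Aₛ K] [IsScalarTower A Aₛ K] [Algebra Bₛ L] [IsScalarTower B Bₛ L]
    [Algebra Aₛ L] [IsScalarTower Aₛ K L] [IsScalarTower Aₛ Bₛ L]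
    [IsDomain Aₛ] [IsFractionRing Aₛ K] [IsIntegralClosure Bₛ Aₛ L] [IsIntegrallyClosed Aₛ]
    [IsDedekindDomain Bₛ] [Module.IsTorsionFree Aₛ Bₛ] [IsFractionRing Bₛ L] :
    Ideal.map (algebraMap B Bₛ) (differentIdeal A B) = differentIdeal Aₛ Bₛ :=
  le_antisymm (map_le A K L B S hS Aₛ Bₛ) (le_map A K L B S hS Aₛ Bₛ)

end loc

attribute [local instance] FractionRing.liftAlgebra

/-- **Statement S11086.** -/
theorem main_11086 (A B : Type u) [CommRing A] [CommRing B]
    [IsDedekindDomain A] [IsDedekindDomain B] [Algebra A B] [Module.Finite A B]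
    [Module.IsTorsionFree A B]
    [Algebra.IsSeparable (FractionRing A) (FractionRing B)]
    (S : Submonoid A) (hS : S ≤ nonZeroDivisors A)
    (Aₛ Bₛ : Type u) [CommRing Aₛ] [CommRing Bₛ] [Algebra A Aₛ] [Algebra B Bₛ] [Algebra Aₛ Bₛ]
    [Algebra A Bₛ] [IsScalarTower A Aₛ Bₛ] [IsScalarTower A B Bₛ]
    [IsLocalization S Aₛ] [IsLocalization (Algebra.algebraMapSubmonoid B S) Bₛ]
    [IsDomain Aₛ] [IsIntegrallyClosed Aₛ] [IsDedekindDomain Bₛ] [Module.IsTorsionFree Aₛ Bₛ] :
    Ideal.map (algebraMap B Bₛ) (differentIdeal A B) = differentIdeal Aₛ Bₛ := by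
  let K := FractionRing A
  let L := FractionRing B
  have hinjAB : Injective (algebraMap A B) := FaithfulSMul.algebraMap_injective A B
  -- `Aₛ ⊆ K`
  have hunitsA : ∀ s : S, IsUnit (algebraMap A K (s : A)) := fun s =>
    IsLocalization.map_units K (⟨(s : A), hS s.2⟩ : nonZeroDivisors A)
  letI algAK : Algebra Aₛ K := (IsLocalization.lift (M := S) (S := Aₛ) hunitsA).toAlgebra
  haveI : IsScalarTower A Aₛ K := IsScalarTower.of_algebraMap_eq (fun a => by
    show algebraMap A K a = IsLocalization.lift (M := S) (S := Aₛ) hunitsA (algebraMap A Aₛ a)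
    rw [IsLocalization.lift_eq])
  haveI : IsFractionRing Aₛ K := IsFractionRing.isFractionRing_of_isDomain_of_isLocalization S Aₛ K
  -- `Bₛ ⊆ L`
  have hTle : Algebra.algebraMapSubmonoid B S ≤ nonZeroDivisors B := by
    rintro _ ⟨s, hs, rfl⟩
    apply mem_nonZeroDivisors_of_ne_zero
    intro h0
    have : s = 0 := hinjAB (by rw [h0, map_zero])
    exact nonZeroDivisors.ne_zero (hS hs) this
  have hunitsB : ∀ t : Algebra.algebraMapSubmonoid B S, IsUnit (algebraMap B L (t : B)) := fun t =>
    IsLocalization.map_units L (⟨(t : B), hTle t.2⟩ : nonZeroDivisors B)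
  letI algBL : Algebra Bₛ L :=
    (IsLocalization.lift (M := Algebra.algebraMapSubmonoid B S) (S := Bₛ) hunitsB).toAlgebra
  haveI : IsScalarTower B Bₛ L := IsScalarTower.of_algebraMap_eq (fun b => by
    show algebraMap B L b = IsLocalization.lift (M := Algebra.algebraMapSubmonoid B S) (S := Bₛ)
      hunitsB (algebraMap B Bₛ b)
    rw [IsLocalization.lift_eq])
  haveI : IsFractionRing Bₛ L :=
    IsFractionRing.isFractionRing_of_isDomain_of_isLocalization (Algebra.algebraMapSubmonoid B S) Bₛ L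
  -- `Aₛ → L`
  letI algAL : Algebra Aₛ L := ((algebraMap K L).comp (algebraMap Aₛ K)).toAlgebra
  haveI : IsScalarTower Aₛ K L := IsScalarTower.of_algebraMap_eq (fun _ => rfl)
  haveI : IsScalarTower Aₛ Bₛ L := by
    apply IsScalarTower.of_algebraMap_eq'
    apply IsLocalization.ringHom_ext S
    ext a
    show algebraMap K L (algebraMap Aₛ K (algebraMap A Aₛ a)) =
      algebraMap Bₛ L (algebraMap Aₛ Bₛ (algebraMap A Aₛ a))
    rw [← IsScalarTower.algebraMap_apply A Aₛ K, ← IsScalarTower.algebraMap_apply A K L,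
      ← IsScalarTower.algebraMap_apply A Aₛ Bₛ, IsScalarTower.algebraMap_apply A B Bₛ,
      ← IsScalarTower.algebraMap_apply B Bₛ L, ← IsScalarTower.algebraMap_apply A B L]
  haveI : Module.Finite Aₛ Bₛ := Module.Finite.of_isLocalization A B S
  haveI : IsIntegralClosure Bₛ Aₛ L := IsIntegralClosure.of_isIntegrallyClosed Bₛ Aₛ L
  exact map_eq A K L B S hS Aₛ Bₛ

end Groth.Agent.Lib.Helper26.DiffLoc
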