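import Mathlib
import Groth.Agent.Lib.Helper20.HM26
import Groth.Agent.Lib.Helper20.HD2

set_option autoImplicit false
set_option backward.isDefEq.respectTransparency.types false
universe u v
open AlgebraicGeometry CategoryTheory CategoryTheory.Limits MonoidalCategory
  CartesianMonoidalCategory MonObj GrpObj

namespace Groth.Agent.Lib.Helper26.GrpEqui

theorem preimage_mem_irreducibleComponents {A B : Type*} [TopologicalSpace A] [TopologicalSpace B]
    (h : A ≃ₜ B) (Z : Set B) (hZ : Z ∈ irreducibleComponents B) :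
    h ⁻¹' Z ∈ irreducibleComponents A := by
  have e : h ⁻¹' Z = h.symm '' Z := (h.symm.image_eq_preimage_symm Z).symm
  constructor
  · rw [e]
    exact hZ.1.image _ h.symm.continuous.continuousOn
  · intro W hW hle
    have h1 : IsIrreducible (h '' W) := hW.image _ h.continuous.continuousOn
    have h2 : Z ⊆ h '' W := by
      intro z hz
      refine ⟨h.symm z, hle ?_, h.apply_symm_apply z⟩
      change h (h.symm z) ∈ Z
      rw [h.apply_symm_apply]
      exact hz
    have h3 : h '' W ⊆ Z := hZ.2 h1 h2
    intro w hw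
    exact h3 ⟨w, hw, rfl⟩

theorem topologicalKrullDim_preimage {A B : Type*} [TopologicalSpace A] [TopologicalSpace B]
    (h : A ≃ₜ B) (Z : Set B) : topologicalKrullDim ↥(h ⁻¹' Z) = topologicalKrullDim ↥Z :=
  Groth.Agent.Lib.Helper21.IrrFib.topologicalKrullDim_preimage_homeomorph h Z

/-- the trivial action on the unit object -/
noncomputable def trivAct {S : Scheme.{u}} (G : Over S) [GrpObj G] :
    AlgGrp.Action G (𝟙_ (Over S)) where
  act := toUnit _
  one_act := toUnit_unique _ _
  mul_act := toUnit_unique _ _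

theorem main_5341 (k : Type u) [Field k] (G : Over (Spec (CommRingCat.of k))) [GrpObj G]
    [LocallyOfFiniteType G.hom] :
    (∀ Z ∈ irreducibleComponents ↥G.left, topologicalKrullDim ↥Z = topologicalKrullDim ↥G.left) ∧
    (∀ g : G.left, FlatMor.localDim ↥G.left g = topologicalKrullDim ↥G.left) := by
  let Gr := Groth.Agent.Lib.Helper20.HD.actGrpd (trivAct G)
  let eU : Gr.U ≅ Spec (CommRingCat.of k) := Iso.refl _
  haveI : LocallyOfFiniteType Gr.s := by
    change LocallyOfFiniteType (snd G (𝟙_ _)).left
    rw [Over.snd_left]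
    infer_instance
  haveI : LocallyOfFiniteType Gr.t := by
    change LocallyOfFiniteType (toUnit (G ⊗ 𝟙_ _)).left
    rw [Over.toUnit_left, Over.tensorObj_hom]
    haveI : LocallyOfFiniteType (𝟙_ (Over (Spec (CommRingCat.of k)))).hom := by
      rw [Over.tensorUnit_hom]
      exact MorphismProperty.id_mem _ _
    infer_instance
  obtain ⟨h1, h2⟩ := Groth.Agent.Lib.Helper20.HM.equidimensional_of_field Gr k eU
  let hh : (G ⊗ 𝟙_ (Over (Spec (CommRingCat.of k)))).left ≃ₜ G.left :=
    Scheme.homeoOfIso ((Over.forget _).mapIso (ρ_ G))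
  have hdim : topologicalKrullDim ↥(G ⊗ 𝟙_ (Over (Spec (CommRingCat.of k)))).left =
      topologicalKrullDim ↥G.left := IsHomeomorph.topologicalKrullDim_eq _ hh.isHomeomorph
  constructor
  · intro Z hZ
    have h3 : topologicalKrullDim ↥(hh ⁻¹' Z) =
        topologicalKrullDim ↥(G ⊗ 𝟙_ (Over (Spec (CommRingCat.of k)))).left :=
      h1 _ (preimage_mem_irreducibleComponents hh Z hZ)
    exact ((topologicalKrullDim_preimage hh Z).symm.trans h3).trans hdim
  · intro g
    have h3 : FlatMor.localDim ↥(G ⊗ 𝟙_ (Over (Spec (CommRingCat.of k)))).left (hh.symm g) =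
        topologicalKrullDim ↥(G ⊗ 𝟙_ (Over (Spec (CommRingCat.of k)))).left := h2 (hh.symm g)
    have h4 := Groth.Agent.Lib.Helper21.EquiSub.localDim_homeomorph hh (hh.symm g)
    rw [hh.apply_symm_apply] at h4
    exact (h4.symm.trans h3).trans hdim

end Groth.Agent.Lib.Helper26.GrpEqui
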