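import Mathlib
import Groth.Agent.Lib.Helper26.GrpEqui
import Groth.Agent.Lib.Helper10.NeutFib1
import Groth.Agent.Lib.Helper21.OpenAt21
import Groth.Agent.Lib.Helper12.FibDimConstr
import Groth.Agent.Lib.Helper14.LocConstr

set_option autoImplicit false
set_option backward.isDefEq.respectTransparency.types false
universe u v
open AlgebraicGeometry CategoryTheory CategoryTheory.Limits MonoidalCategory
  CartesianMonoidalCategory MonObj GrpObj Topology

namespace Groth.Agent.Lib.Helper26.DimFun

open Groth.Agent.Lib.Helper10.NeutFib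

variable {S : Scheme.{u}} (G : Over S) [GrpObj G]

theorem fibreDimAt_eq [LocallyOfFiniteType G.hom] (x : G.left) :
    FlatMor.fibreDimAt G.hom x = topologicalKrullDim ↥(G.hom.base ⁻¹' {G.hom.base x}) := by
  set s := G.hom.base x with hs
  haveI : LocallyOfFiniteType (fib G s).hom :=
    inferInstanceAs (LocallyOfFiniteType (pullback.snd G.hom (S.fromSpecResidueField s)))
  have h1 := (Groth.Agent.Lib.Helper26.GrpEqui.main_5341 (S.residueField s) (fib G s)).2
    (G.hom.asFiber x)
  have h2 : topologicalKrullDim ↥(G.hom.fiber s) = topologicalKrullDim ↥(G.hom.base ⁻¹' {s}) :=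
    IsHomeomorph.topologicalKrullDim_eq _ (G.hom.fiberHomeo s).isHomeomorph
  exact h1.trans h2

/-- the unit section as a morphism `S ⟶ G.left` -/
noncomputable def unitSec : S ⟶ G.left := η[G].left

theorem hom_unitSec (s : S) : G.hom.base (unitSec G s) = s := by
  have h : unitSec G ≫ G.hom = 𝟙 S := by
    have := Over.w η[G]
    rw [Over.tensorUnit_hom] at this
    exact this
  have := congrArg (fun ψ : S ⟶ S => ψ.base s) h
  simpa using this

theorem dim_eq [LocallyOfFiniteType G.hom] (s : S) :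
    topologicalKrullDim ↥(G.hom.base ⁻¹' {s}) = FlatMor.fibreDimAt G.hom (unitSec G s) := by
  rw [fibreDimAt_eq, hom_unitSec]

theorem usc [LocallyOfFiniteType G.hom] :
    UpperSemicontinuous (fun s : S => topologicalKrullDim ↥(G.hom.base ⁻¹' {s})) := by
  have h := Groth.Agent.Lib.Helper21.OpenAt.upperSemicontinuous_fibreDimAt_comp G.hom
    (fun s : S => unitSec G s) (unitSec G).continuous
  have e : (fun s : S => topologicalKrullDim ↥(G.hom.base ⁻¹' {s})) =
      fun s : S => FlatMor.fibreDimAt G.hom (unitSec G s) := funext (dim_eq G)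
  rw [e]
  exact h

theorem exists_nat [LocallyOfFiniteType G.hom] (s : S) :
    ∃ n : ℕ, topologicalKrullDim ↥(G.hom.base ⁻¹' {s}) = n := by
  obtain ⟨n, hn, -⟩ := Groth.Agent.Lib.Helper21.FibDim.exists_fibreDimAt_eq_trdeg G.hom
    (unitSec G s)
  exact ⟨n, (dim_eq G s).trans hn⟩

theorem isLocallyConstructible_le [LocallyOfFinitePresentation G.hom] (n : ℕ) :
    IsLocallyConstructible {s : S | (n : WithBot ℕ∞) ≤ topologicalKrullDim ↥(G.hom.base ⁻¹' {s})} := by
  have h := Groth.Agent.Lib.Helper14.AS.isLocallyConstructible_preimage (unitSec G)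
    (Groth.Agent.Lib.Helper12.H12FibDimConstr.isLocallyConstructible_setOf_le_fibreDimAt G.hom n)
  have e : {s : S | (n : WithBot ℕ∞) ≤ topologicalKrullDim ↥(G.hom.base ⁻¹' {s})} =
      (unitSec G).base ⁻¹' {x : G.left | (n : WithBot ℕ∞) ≤ FlatMor.fibreDimAt G.hom x} := by
    ext s
    simp only [Set.mem_setOf_eq, Set.mem_preimage]
    rw [dim_eq]
  rw [e]
  exact h

theorem main_5329 [LocallyOfFiniteType G.hom] :
    UpperSemicontinuous (fun s : S => topologicalKrullDim ↥(G.hom.base ⁻¹' {s})) ∧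
    (LocallyOfFinitePresentation G.hom → ∀ s : S, ∃ V : S.Opens, s ∈ V ∧
      ((fun t : S => topologicalKrullDim ↥(G.hom.base ⁻¹' {t})) '' (V : Set S)).Finite ∧
      ∀ d : WithBot ℕ∞, Topology.IsConstructible {t : V | topologicalKrullDim ↥(G.hom.base ⁻¹' {(t : S)}) = d}) := by
  refine ⟨usc G, ?_⟩
  intro hfp s
  obtain ⟨V, hV, hsV⟩ : ∃ V : S.Opens, IsAffineOpen V ∧ s ∈ V := by
    obtain ⟨_, ⟨V, hV, rfl⟩, hx, -⟩ :=
      S.isBasis_affineOpens.exists_subset_of_mem_open (Set.mem_univ s) isOpen_univ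
    exact ⟨V, hV, hx⟩
  refine ⟨V, hsV, ?_, ?_⟩
  · -- finitely many values
    choose n hn using exists_nat G
    have hopen : ∀ t : S, IsOpen {t' : S | topologicalKrullDim ↥(G.hom.base ⁻¹' {t'}) <
        ((n t + 1 : ℕ) : WithBot ℕ∞)} := fun t =>
      (upperSemicontinuous_iff_isOpen_preimage.1 (usc G)) _
    have hcomp : IsCompact (V : Set S) := hV.isCompact
    obtain ⟨σ, hσ⟩ := hcomp.elim_nhds_subcover
      (fun t => {t' : S | topologicalKrullDim ↥(G.hom.base ⁻¹' {t'}) <
        ((n t + 1 : ℕ) : WithBot ℕ∞)})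
      (fun t _ => (hopen t).mem_nhds (by
        change topologicalKrullDim ↥(G.hom.base ⁻¹' {t}) < ((n t + 1 : ℕ) : WithBot ℕ∞)
        rw [hn t]
        exact_mod_cast Nat.lt_succ_self _))
    obtain ⟨-, hσ⟩ := hσ
    let N : ℕ := σ.sup (fun t => n t + 1)
    refine Set.Finite.subset ((Set.finite_Iio N).image (fun m : ℕ => (m : WithBot ℕ∞))) ?_
    rintro _ ⟨t, ht, rfl⟩
    obtain ⟨t0, ht0, htt0⟩ := Set.mem_iUnion₂.1 (hσ ht)
    have h1 : topologicalKrullDim ↥(G.hom.base ⁻¹' {t}) < ((n t0 + 1 : ℕ) : WithBot ℕ∞) := htt0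
    refine ⟨n t, ?_, (hn t).symm⟩
    rw [hn t] at h1
    have h2 : n t < n t0 + 1 := by exact_mod_cast h1
    exact lt_of_lt_of_le h2 (Finset.le_sup (f := fun t => n t + 1) ht0)
  · intro d
    haveI : IsAffine (V : Scheme) := hV
    have hlc : ∀ m : ℕ, IsConstructible
        {t : V | (m : WithBot ℕ∞) ≤ topologicalKrullDim ↥(G.hom.base ⁻¹' {(t : S)})} := by
      intro m
      have h := (isLocallyConstructible_le G m).preimage_of_isOpenEmbedding
        V.isOpen.isOpenEmbedding_subtypeVal
      exact IsLocallyConstructible.isConstructible (X := ↥(V : Scheme)) h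
    by_cases hd : ∃ m : ℕ, d = m
    · obtain ⟨m, rfl⟩ := hd
      have e : {t : V | topologicalKrullDim ↥(G.hom.base ⁻¹' {(t : S)}) = (m : WithBot ℕ∞)} =
          {t : V | (m : WithBot ℕ∞) ≤ topologicalKrullDim ↥(G.hom.base ⁻¹' {(t : S)})} \
          {t : V | ((m + 1 : ℕ) : WithBot ℕ∞) ≤ topologicalKrullDim ↥(G.hom.base ⁻¹' {(t : S)})} := by
        ext t
        obtain ⟨k, hk⟩ := exists_nat G (t : S)
        simp only [Set.mem_setOf_eq, Set.mem_diff]
        rw [hk]
        constructor
        · intro h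
          have h' : k = m := by exact_mod_cast h
          subst h'
          refine ⟨le_rfl, ?_⟩
          intro h2
          have : k + 1 ≤ k := by exact_mod_cast h2
          omega
        · rintro ⟨h1, h2⟩
          have h1' : m ≤ k := by exact_mod_cast h1
          have h2' : ¬ (m + 1 ≤ k) := fun h => h2 (by exact_mod_cast h)
          have : k = m := by omega
          rw [this]
      rw [e]
      exact (hlc m).sdiff (hlc (m + 1))
    · have e : {t : V | topologicalKrullDim ↥(G.hom.base ⁻¹' {(t : S)}) = d} = ∅ := by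
        ext t
        simp only [Set.mem_setOf_eq, Set.mem_empty_iff_false, iff_false]
        intro h
        obtain ⟨k, hk⟩ := exists_nat G (t : S)
        exact hd ⟨k, h.symm.trans hk⟩
      rw [e]
      exact IsConstructible.empty

end Groth.Agent.Lib.Helper26.DimFun
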