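import Mathlib
import Groth.Agent.Lib.Helper26.NormalSurf

set_option autoImplicit false
set_option linter.style.haveILetI false
set_option linter.unusedSectionVars false
open IsLocalRing

namespace Groth.Agent.Lib.Helper26.Div25A

open Groth.Agent.Lib.Helper26.NormalSurf

universe u

section approx
variable {R : Type*} [CommRing R] [IsDomain R] [IsNoetherianRing R] [IsIntegrallyClosed R]

theorem ord_one (q : Ideal R) (hq : H1 q) : ord q hq (1 : R) = 0 := by
  haveI := hq.1
  rw [ord_eq_zero_iff]
  exact fun h => hq.1.ne_top ((Ideal.eq_top_iff_one _).mpr h)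

/-- the second symbolic power, as an ideal -/
def symb2 (q : Ideal R) (hq : H1 q) : Ideal R where
  carrier := {a | 2 ≤ ord q hq a}
  add_mem' := by
    intro a b ha hb
    exact le_trans (le_min ha hb) (ord_add q hq a b)
  zero_mem' := by
    show 2 ≤ ord q hq 0
    rw [(ord_eq_top_iff q hq 0).mpr rfl]; exact le_top
  smul_mem' := by
    intro c a ha
    show 2 ≤ ord q hq (c * a)
    rw [ord_mul]
    exact le_trans ha le_add_self

theorem exists_uniformizer_avoid (q : Ideal R) (hq : H1 q) (S : Finset (Ideal R))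
    (hS : ∀ q' ∈ S, H1 q' ∧ q' ≠ q) :
    ∃ π ∈ q, ord q hq π = 1 ∧ ∀ q' ∈ S, π ∉ q' := by
  classical
  by_contra hcon
  push Not at hcon
  obtain ⟨π₀, hπ₀q, hπ₀⟩ := exists_ord_eq_one q hq
  have hsub : ((q : Ideal R) : Set R) ⊆
      ⋃ i ∈ (↑(insert (symb2 q hq) S) : Set (Ideal R)), ((fun i => i) i : Ideal R) := by
    intro y hy
    simp only [Set.mem_iUnion]
    by_cases h1 : ord q hq y = 1
    · obtain ⟨q', hq'S, hyq'⟩ := hcon y hy h1
      exact ⟨q', by simp [hq'S], hyq'⟩
    · refine ⟨symb2 q hq, by simp, ?_⟩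
      show 2 ≤ ord q hq y
      have h2 : 1 ≤ ord q hq y := (one_le_ord_iff q hq y).mpr hy
      rcases h2.lt_or_eq with h3 | h3
      · exact Order.add_one_le_of_lt h3
      · exact absurd h3.symm h1
  obtain ⟨i, hiS, hqi⟩ := (Ideal.subset_union_prime (f := fun i : Ideal R => i) (symb2 q hq)
    (symb2 q hq) (fun i hi hia _ => by
      have : i ∈ S := by
        rcases Finset.mem_insert.mp hi with h | h
        · exact absurd h hia
        · exact h
      exact (hS i this).1.1)).mp hsub
  rcases Finset.mem_insert.mp hiS with rfl | hiS'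
  · have : 2 ≤ ord q hq π₀ := hqi hπ₀q
    rw [hπ₀] at this
    exact absurd this (by decide)
  · exact (hS i hiS').2 (H1.eq_of_le hq (hS i hiS').1 hqi).symm

theorem ord_prod {ι : Type*} (q : Ideal R) (hq : H1 q) (S : Finset ι) (g : ι → R) :
    ord q hq (∏ i ∈ S, g i) = ∑ i ∈ S, ord q hq (g i) := by
  classical
  induction S using Finset.induction_on with
  | empty => simp [ord_one]
  | insert a S ha ih => rw [Finset.prod_insert ha, Finset.sum_insert ha, ord_mul, ih]

theorem exists_prescribed (S : Finset (Ideal R)) (hS : ∀ q ∈ S, H1 q) (m : Ideal R → ℕ) :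
    ∃ b : R, b ≠ 0 ∧ ∀ q (hq : H1 q), q ∈ S → ord q hq b = m q := by
  classical
  have hex : ∀ q : Ideal R, ∃ π : R, q ∈ S → ∃ hq : H1 q, π ∈ q ∧ ord q hq π = 1 ∧
      ∀ q' ∈ S.erase q, π ∉ q' := by
    intro q
    by_cases hqS : q ∈ S
    · obtain ⟨π, hπq, hπ1, hπ⟩ := exists_uniformizer_avoid q (hS q hqS) (S.erase q) (by
        intro q' hq'
        exact ⟨hS q' (Finset.mem_of_mem_erase hq'), Finset.ne_of_mem_erase hq'⟩)
      exact ⟨π, fun _ => ⟨hS q hqS, hπq, hπ1, hπ⟩⟩
    · exact ⟨0, fun h => absurd h hqS⟩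
  choose π hπ using hex
  have hord : ∀ q (hq : H1 q), q ∈ S → ∀ q' ∈ S, ord q hq (π q') = if q' = q then 1 else 0 := by
    intro q hq hqS q' hq'S
    obtain ⟨hq'', hπq', hπ1, hπav⟩ := hπ q' hq'S
    split_ifs with h
    · subst h; exact hπ1
    · rw [ord_eq_zero_iff]
      exact hπav q (Finset.mem_erase.mpr ⟨fun h' => h h'.symm, hqS⟩)
  refine ⟨∏ q ∈ S, π q ^ m q, ?_, ?_⟩
  · rw [Finset.prod_ne_zero_iff]
    intro q hqS
    apply pow_ne_zero
    obtain ⟨hq, -, hπ1, -⟩ := hπ q hqS
    intro h0
    rw [h0, (ord_eq_top_iff q hq 0).mpr rfl] at hπ1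
    exact absurd hπ1 (by decide)
  · intro q hq hqS
    rw [ord_prod]
    have : ∀ q' ∈ S, ord q hq (π q' ^ m q') = if q' = q then (m q : ℕ∞) else 0 := by
      intro q' hq'S
      rw [ord_pow, hord q hq hqS q' hq'S]
      split_ifs with h
      · subst h; simp
      · simp
    rw [Finset.sum_congr rfl this, Finset.sum_ite_eq' S q, if_pos hqS]

end approx


section basechange
variable {A B : Type*} [CommRing A] [IsDomain A] [IsNoetherianRing A] [IsIntegrallyClosed A]
  [CommRing B] [IsDomain B] [IsNoetherianRing B] [IsIntegrallyClosed B] [Algebra A B]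

/-- ramification formula: `ord_q(a) = e · ord_p(a)` -/
theorem exists_ramification (hinj : Function.Injective (algebraMap A B))
    (p : Ideal A) (hp : H1 p) (q : Ideal B) (hq : H1 q)
    (hpq : q.comap (algebraMap A B) = p) :
    ∃ e : ℕ, 1 ≤ e ∧ ∀ a : A, ord q hq (algebraMap A B a) = (e : ℕ∞) * ord p hp a := by
  obtain ⟨π, hπp, hπ1⟩ := exists_ord_eq_one p hp
  have hπ0 : π ≠ 0 := by
    intro h0
    rw [h0, (ord_eq_top_iff p hp 0).mpr rfl] at hπ1
    exact absurd hπ1 (by decide)
  have hne : ord q hq (algebraMap A B π) ≠ ⊤ := by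
    rw [Ne, ord_eq_top_iff]
    exact fun h => hπ0 (hinj (by rw [h, map_zero]))
  obtain ⟨e, he⟩ := ENat.ne_top_iff_exists.mp hne
  have he1 : 1 ≤ e := by
    have : 1 ≤ ord q hq (algebraMap A B π) := by
      rw [one_le_ord_iff]
      have : π ∈ q.comap (algebraMap A B) := by rw [hpq]; exact hπp
      exact this
    rw [← he] at this
    exact_mod_cast this
  refine ⟨e, he1, fun a => ?_⟩
  by_cases ha : a = 0
  · subst ha
    rw [map_zero, (ord_eq_top_iff q hq 0).mpr rfl, (ord_eq_top_iff p hp 0).mpr rfl]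
    rw [ENat.mul_top]
    exact_mod_cast (by omega : e ≠ 0)
  · have hk : ord p hp a ≠ ⊤ := by rwa [Ne, ord_eq_top_iff]
    obtain ⟨k, hk⟩ := ENat.ne_top_iff_exists.mp hk
    have hπk : ord p hp (π ^ k) = ord p hp a := by
      rw [ord_pow, hπ1, ← hk]; simp
    have hmapk : ord q hq (algebraMap A B (π ^ k)) = (e : ℕ∞) * k := by
      rw [map_pow, ord_pow, ← he]; simp [mul_comm]
    have hs0 : ∀ s : A, s ∉ p → ord q hq (algebraMap A B s) = 0 := by
      intro s hs
      rw [ord_eq_zero_iff]
      intro h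
      apply hs
      rw [← hpq]; exact h
    obtain ⟨s, hs, hdvd⟩ := exists_of_ord_le p hp hπk.le
    obtain ⟨s', hs', hdvd'⟩ := exists_of_ord_le p hp hπk.ge
    have h1 : ord q hq (algebraMap A B (π ^ k)) ≤ ord q hq (algebraMap A B a) := by
      have := ord_le_of_dvd q hq (map_dvd (algebraMap A B) hdvd)
      rwa [map_mul, ord_mul, hs0 s hs, zero_add] at this
    have h2 : ord q hq (algebraMap A B a) ≤ ord q hq (algebraMap A B (π ^ k)) := by
      have := ord_le_of_dvd q hq (map_dvd (algebraMap A B) hdvd')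
      rwa [map_mul, ord_mul, hs0 s' hs', zero_add] at this
    rw [← hk, ← hmapk]
    exact le_antisymm h2 h1

/-- in the weakly unramified case the ramification index is one -/
theorem ord_eq_of_unramified (hinj : Function.Injective (algebraMap A B))
    (p : Ideal A) (hp : H1 p) (q : Ideal B) (hq : H1 q)
    (hpq : q.comap (algebraMap A B) = p)
    (hun : haveI := hq.1; Ideal.map (algebraMap B (Localization.AtPrime q)) (Ideal.map (algebraMap A B) p) =
          IsLocalRing.maximalIdeal (Localization.AtPrime q)) (a : A) :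
    ord q hq (algebraMap A B a) = ord p hp a := by
  haveI := hq.1
  haveI := isDVR_of_height_one q hq.2
  obtain ⟨e, he1, he⟩ := exists_ramification hinj p hp q hq hpq
  suffices h : e = 1 by rw [he, h]; simp
  obtain ⟨ϖ, hϖq, hϖ1⟩ := exists_ord_eq_one q hq
  -- the ideal of elements of valuation ≥ e
  let J : Ideal (Localization.AtPrime q) :=
    { carrier := {x | (e : ℕ∞) ≤ IsDiscreteValuationRing.addVal (Localization.AtPrime q) x}
      add_mem' := by
        intro x y hx hy
        exact le_trans (le_min hx hy) (IsDiscreteValuationRing.addVal_add)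
      zero_mem' := by simp
      smul_mem' := by
        intro c x hx
        show (e : ℕ∞) ≤ IsDiscreteValuationRing.addVal _ (c * x)
        rw [IsDiscreteValuationRing.addVal_mul]
        exact le_trans hx le_add_self }
  have hJ : IsLocalRing.maximalIdeal (Localization.AtPrime q) ≤ J := by
    rw [← hun, Ideal.map_map, Ideal.map_le_iff_le_comap]
    intro a ha
    show (e : ℕ∞) ≤ IsDiscreteValuationRing.addVal _ (algebraMap B (Localization.AtPrime q) (algebraMap A B a))
    have h1 := he a
    unfold ord at h1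
    rw [h1]
    have h2 : 1 ≤ ord p hp a := (one_le_ord_iff p hp a).mpr ha
    calc (e : ℕ∞) = e * 1 := by simp
      _ ≤ e * ord p hp a := by gcongr
  have hϖm : algebraMap B (Localization.AtPrime q) ϖ ∈
      IsLocalRing.maximalIdeal (Localization.AtPrime q) := by
    rw [← Localization.AtPrime.map_eq_maximalIdeal]
    exact Ideal.mem_map_of_mem _ hϖq
  have h3 : (e : ℕ∞) ≤ 1 := by
    have := hJ hϖm
    unfold ord at hϖ1
    change (e : ℕ∞) ≤ IsDiscreteValuationRing.addVal _ _ at this
    rwa [hϖ1] at this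
  have : e ≤ 1 := by exact_mod_cast h3
  omega

end basechange

end Groth.Agent.Lib.Helper26.Div25A
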