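import Mathlib
import Groth.Agent.Lib.Helper26.NormalSurf
import Groth.Agent.Lib.Helper26.Div25A

set_option autoImplicit false
set_option linter.style.haveILetI false
set_option linter.unusedSectionVars false
open IsLocalRing

namespace Groth.Agent.Lib.Helper26.Div25B

open Groth.Agent.Lib.Helper26.NormalSurf Groth.Agent.Lib.Helper26.Div25A

universe u

section
variable {A B : Type u} [CommRing A] [IsDomain A]
    [IsNoetherianRing A] [IsIntegrallyClosed A] [CommRing B] [IsDomain B] [IsNoetherianRing B]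
    [IsIntegrallyClosed B] [Algebra A B] [Module.Flat A B]

/-- contraction of a height one prime containing a nonzero element of `A` has height one -/
theorem H1_comap (hinj : Function.Injective (algebraMap A B)) (q : Ideal B) (hq : H1 q) (f : A)
    (hf0 : f ≠ 0) (hfq : algebraMap A B f ∈ q) : H1 (q.comap (algebraMap A B)) := by
  haveI := hq.1
  haveI : (q.comap (algebraMap A B)).IsPrime := Ideal.comap_isPrime _ _
  refine ⟨inferInstance, le_antisymm ?_ ?_⟩
  · haveI : q.LiesOver (q.comap (algebraMap A B)) := ⟨rfl⟩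
    have h1 := Ideal.height_eq_height_add_of_liesOver_of_hasGoingDown (q.comap (algebraMap A B)) q
    rw [hq.2] at h1
    rw [h1]
    exact le_self_add
  · rw [Order.one_le_iff_ne_zero, Ne, Ideal.height_eq_zero_iff_eq_bot]
    intro h0
    have : f ∈ q.comap (algebraMap A B) := hfq
    rw [h0] at this
    exact hf0 ((Ideal.mem_bot).mp this)

end

section main
variable (A B : Type u) [CommRing A] [IsDomain A]
    [IsNoetherianRing A] [IsLocalRing A] [IsIntegrallyClosed A] [CommRing B] [IsDomain B] [IsNoetherianRing B]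
    [IsLocalRing B] [IsIntegrallyClosed B] [Algebra A B] [IsLocalHom (algebraMap A B)] [Module.Flat A B]

theorem main_7125
    (f : A) (h : B) (n : ℕ) (hn : 1 < n) (w : Bˣ) (hf : algebraMap A B f = (w : B) * h ^ n)
    (hram : ∀ (p : Ideal A) [p.IsPrime], p.height = 1 →
      ∃ (q : Ideal B) (_ : q.IsPrime), q.height = 1 ∧ q.comap (algebraMap A B) = p ∧
        Ideal.map (algebraMap B (Localization.AtPrime q)) (Ideal.map (algebraMap A B) p) =
          IsLocalRing.maximalIdeal (Localization.AtPrime q)) :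
    ∃ (g : A) (u : Aˣ), f = (u : A) * g ^ n := by
  classical
  haveI ff : Module.FaithfullyFlat A B := Module.FaithfullyFlat.of_flat_of_isLocalHom
  have hinj : Function.Injective (algebraMap A B) := FaithfulSMul.algebraMap_injective A B
  by_cases hf0 : f = 0
  · refine ⟨0, 1, ?_⟩
    rw [hf0, zero_pow (by omega), mul_zero]
  have hfB0 : algebraMap A B f ≠ 0 := fun h0 => hf0 (hinj (by rw [h0, map_zero]))
  have hh0 : h ≠ 0 := by
    rintro rfl
    apply hfB0
    rw [hf, zero_pow (by omega), mul_zero]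
  -- orders of f and h in B
  have hord_fh : ∀ (q : Ideal B) (hq : H1 q), ord q hq (algebraMap A B f) = n • ord q hq h := by
    intro q hq
    rw [hf, ord_mul, ord_pow]
    have : ord q hq (w : B) = 0 := by
      rw [ord_eq_zero_iff]
      intro hw
      exact hq.1.ne_top (Ideal.eq_top_of_isUnit_mem _ hw w.isUnit)
    rw [this, zero_add]
  -- the multiplicities d_p
  let d : Ideal A → ℕ := fun p => if hp : H1 p then (ord p hp f).toNat / n else 0
  have hd : ∀ (p : Ideal A) (hp : H1 p), ord p hp f = ((n * d p : ℕ) : ℕ∞) := by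
    intro p hp
    haveI := hp.1
    obtain ⟨q, hqp, hq1, hqc, hun⟩ := hram p hp.2
    have hq : H1 q := ⟨hqp, hq1⟩
    have h1 := ord_eq_of_unramified hinj p hp q hq hqc hun f
    have h2 := hord_fh q hq
    have hne : ord q hq h ≠ ⊤ := by rwa [Ne, ord_eq_top_iff]
    obtain ⟨m, hm⟩ := ENat.ne_top_iff_exists.mp hne
    have h3 : ord p hp f = ((n * m : ℕ) : ℕ∞) := by
      rw [← h1, h2, ← hm]; simp
    have h4 : d p = m := by
      show (if hp : H1 p then (ord p hp f).toNat / n else 0) = m
      rw [dif_pos hp, h3, ENat.toNat_natCast, Nat.mul_div_cancel_left m (by omega)]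
    rw [h4, h3]
  -- the auxiliary element b
  obtain ⟨b, hb0, hb⟩ := exists_prescribed (Z_finite f hf0).toFinset
    (fun q hq => ((Z_finite f hf0).mem_toFinset.mp hq).1) (fun p => (n - 1) * d p)
  -- local analysis at a height one prime of B containing f
  have hloc : ∀ (q : Ideal B) (hq : H1 q), algebraMap A B f ∈ q →
      ∃ (p : Ideal A) (hp : H1 p) (e : ℕ), 1 ≤ e ∧ ord q hq h = ((e * d p : ℕ) : ℕ∞) ∧
        ord p hp b = (((n - 1) * d p : ℕ) : ℕ∞) ∧
        ∀ a : A, ord q hq (algebraMap A B a) = (e : ℕ∞) * ord p hp a := by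
    intro q hq hfq
    have hp : H1 (q.comap (algebraMap A B)) := H1_comap hinj q hq f hf0 hfq
    obtain ⟨e, he1, he⟩ := exists_ramification hinj _ hp q hq rfl
    refine ⟨_, hp, e, he1, ?_, ?_, he⟩
    · have h1 := hord_fh q hq
      rw [he f, hd _ hp] at h1
      have hne : ord q hq h ≠ ⊤ := by rwa [Ne, ord_eq_top_iff]
      obtain ⟨m, hm⟩ := ENat.ne_top_iff_exists.mp hne
      rw [← hm] at h1 ⊢
      have h2 : e * (n * d (q.comap (algebraMap A B))) = n * m := by
        have : ((e * (n * d (q.comap (algebraMap A B))) : ℕ) : ℕ∞) = ((n * m : ℕ) : ℕ∞) := by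
          have h1' := h1
          rw [nsmul_eq_mul] at h1'
          push_cast at h1' ⊢
          exact h1'
        exact_mod_cast this
      have h3 : m = e * d (q.comap (algebraMap A B)) := by
        have : n * m = n * (e * d (q.comap (algebraMap A B))) := by rw [← h2]; ring
        exact Nat.eq_of_mul_eq_mul_left (by omega) this
      rw [h3]
    · apply hb _ hp
      rw [Set.Finite.mem_toFinset]
      exact ⟨hp, hfq⟩
  -- (α): h * b ∈ (f)
  have hα : h * algebraMap A B b ∈ Ideal.span {algebraMap A B f} := by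
    apply mem_span_of_forall_ord_le _ _ hfB0
    intro q hq hfq
    obtain ⟨p, hp, e, he1, hoh, hob, he⟩ := hloc q hq hfq
    rw [ord_mul, hoh, he b, hob, he f, hd p hp]
    have : (e * d p + e * ((n - 1) * d p) : ℕ) = e * (n * d p) := by
      have : n = (n - 1) + 1 := by omega
      conv_rhs => rw [this]
      ring
    have h2 : ((e : ℕ∞) * ((n * d p : ℕ) : ℕ∞)) = ((e * (n * d p) : ℕ) : ℕ∞) := by push_cast; rfl
    have h3 : (((e * d p : ℕ) : ℕ∞) + (e : ℕ∞) * (((n - 1) * d p : ℕ) : ℕ∞)) =
        ((e * d p + e * ((n - 1) * d p) : ℕ) : ℕ∞) := by push_cast; rfl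
    rw [h2, h3, this]
  -- (β): elements of the colon ideal are divisible by h in B
  have hβ : ∀ x : A, f ∣ x * b → h ∣ algebraMap A B x := by
    intro x hx
    rw [← Ideal.mem_span_singleton]
    apply mem_span_of_forall_ord_le _ _ hh0
    intro q hq hhq
    have hfq : algebraMap A B f ∈ q := by
      rw [hf]
      exact Ideal.mul_mem_left _ _ (Ideal.pow_mem_of_mem _ hhq n (by omega))
    obtain ⟨p, hp, e, he1, hoh, hob, he⟩ := hloc q hq hfq
    rw [hoh, he x]
    have h1 := ord_le_of_dvd p hp hx
    rw [ord_mul, hd p hp, hob] at h1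
    -- ord_p x ≥ d p
    have h2 : ((d p : ℕ) : ℕ∞) ≤ ord p hp x := by
      by_cases hx0 : ord p hp x = ⊤
      · rw [hx0]; exact le_top
      · obtain ⟨m, hm⟩ := ENat.ne_top_iff_exists.mp hx0
        rw [← hm] at h1 ⊢
        have : n * d p ≤ m + (n - 1) * d p := by exact_mod_cast h1
        have h3 : n * d p = (n - 1) * d p + d p := by
          have : n = (n - 1) + 1 := by omega
          conv_lhs => rw [this]
          ring
        have : d p ≤ m := by omega
        exact_mod_cast this
    calc ((e * d p : ℕ) : ℕ∞) = (e : ℕ∞) * (d p : ℕ∞) := by push_cast; rfl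
      _ ≤ (e : ℕ∞) * ord p hp x := by gcongr
  -- equational criterion of flatness
  obtain ⟨c, hc⟩ := Ideal.mem_span_singleton.mp hα
  have hrel : ∑ i : Fin 2, (![b, -f] i : A) • (![h, c] i : B) = 0 := by
    rw [Fin.sum_univ_two]
    simp only [Matrix.cons_val_zero, Matrix.cons_val_one]
    rw [Algebra.smul_def, Algebra.smul_def, map_neg, neg_mul, ← hc]
    ring
  obtain ⟨k, a, y, hy1, hy2⟩ := Module.Flat.isTrivialRelation_of_sum_smul_eq_zero
    (f := fun i : Fin 2 => (![b, -f] i : A)) (x := fun i : Fin 2 => (![h, c] i : B)) hrel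
  have hh : h = ∑ j, a 0 j • y j := hy1 0
  have hI : ∀ j, f ∣ a 0 j * b := by
    intro j
    have h1 := hy2 j
    rw [Fin.sum_univ_two] at h1
    simp only [Matrix.cons_val_zero, Matrix.cons_val_one] at h1
    refine ⟨a 1 j, ?_⟩
    linear_combination h1
  choose t ht using fun j => hβ (a 0 j) (hI j)
  have hsum : ∑ j, t j * y j = 1 := by
    have h1 : h * ∑ j, t j * y j = h * 1 := by
      rw [mul_one, Finset.mul_sum]
      conv_rhs => rw [hh]
      apply Finset.sum_congr rfl
      intro j _
      rw [Algebra.smul_def, ht j, mul_assoc]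
    exact mul_left_cancel₀ hh0 h1
  obtain ⟨j, hj⟩ : ∃ j, IsUnit (t j) := by
    by_contra hcon
    push Not at hcon
    have : (∑ j, t j * y j) ∈ maximalIdeal B := by
      apply Ideal.sum_mem
      intro j _
      exact Ideal.mul_mem_right _ _ ((mem_maximalIdeal _).mpr (hcon j))
    rw [hsum] at this
    exact (maximalIdeal.isMaximal B).ne_top ((Ideal.eq_top_iff_one _).mpr this)
  obtain ⟨tu, htu⟩ := hj
  set g := a 0 j with hg
  have hgB : algebraMap A B g = h * tu := by rw [htu]; exact ht j
  -- f ∣ g^n and g^n ∣ f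
  have h1 : f ∣ g ^ n := by
    have : g ^ n ∈ (Ideal.span {f} : Ideal A) := by
      rw [← Ideal.comap_map_eq_self_of_faithfullyFlat (B := B) (Ideal.span {f}), Ideal.mem_comap,
        Ideal.map_span, Set.image_singleton, Ideal.mem_span_singleton]
      refine ⟨(w⁻¹ : Bˣ) * tu ^ n, ?_⟩
      rw [map_pow, hgB, hf, mul_pow]
      have : (w : B) * (w⁻¹ : Bˣ) = 1 := by simp
      linear_combination (-(h ^ n * (tu : B) ^ n)) * this
    exact Ideal.mem_span_singleton.mp this
  have h2 : g ^ n ∣ f := by
    have : f ∈ (Ideal.span {g ^ n} : Ideal A) := by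
      rw [← Ideal.comap_map_eq_self_of_faithfullyFlat (B := B) (Ideal.span {g ^ n}), Ideal.mem_comap,
        Ideal.map_span, Set.image_singleton, Ideal.mem_span_singleton]
      refine ⟨(w : B) * ((tu⁻¹ : Bˣ) : B) ^ n, ?_⟩
      rw [map_pow, hgB, hf, mul_pow]
      have : ((tu : B) * ((tu⁻¹ : Bˣ) : B)) ^ n = 1 := by simp
      linear_combination (-(h ^ n * (w : B))) * this
    exact Ideal.mem_span_singleton.mp this
  obtain ⟨u, hu⟩ := (associated_of_dvd_dvd h2 h1)
  exact ⟨g, u, by rw [← hu]; ring⟩

end main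

end Groth.Agent.Lib.Helper26.Div25B
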