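import Mathlib

namespace Groth.Agent.Lib.Helper26.DpcA
universe u
open Finset

variable {A : Type u} [CommRing A] {I : Ideal A} (γ : DividedPowers I) (p : ℕ) (t : ℕ)
  (ht : Ideal.span {(p : A)} ^ t ≤ I)

include ht in
lemma pow_le_I {M : ℕ} (hM : t ≤ M) : Ideal.span {(p : A)} ^ M ≤ I :=
  (Ideal.pow_le_pow_right hM).trans ht

include ht in
lemma dpow_mem_pow {m l : ℕ} (hl : l ≠ 0) {j : A} (hj : j ∈ Ideal.span {(p : A)} ^ (m + t)) :
    γ.dpow l j ∈ Ideal.span {(p : A)} ^ m := by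
  rw [Ideal.span_singleton_pow, Ideal.mem_span_singleton'] at hj
  obtain ⟨b, rfl⟩ := hj
  have hz : (p : A) ^ t * b ∈ I := by
    apply ht
    rw [Ideal.span_singleton_pow]
    exact Ideal.mul_mem_right _ _ (Ideal.mem_span_singleton_self _)
  have h1 : b * (p : A) ^ (m + t) = (p : A) ^ m * ((p : A) ^ t * b) := by ring
  rw [h1, γ.dpow_mul hz, Ideal.span_singleton_pow]
  obtain ⟨l', rfl⟩ := Nat.exists_eq_succ_of_ne_zero hl
  rw [pow_succ, mul_assoc, mul_comm ((p : A) ^ m) _]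
  exact Ideal.mul_mem_left _ _ (Ideal.mul_mem_left _ _ (Ideal.mem_span_singleton_self _))

include ht in
lemma dpow_sub_mem {m n : ℕ} {a a' : A} (ha' : a' ∈ I)
    (h : a - a' ∈ Ideal.span {(p : A)} ^ (m + t)) :
    γ.dpow n a - γ.dpow n a' ∈ Ideal.span {(p : A)} ^ m := by
  have hj : a - a' ∈ I := pow_le_I p t ht (Nat.le_add_left t m) h
  have h1 : a = a' + (a - a') := by ring
  rw [h1, γ.dpow_add ha' hj, ← Ideal.Quotient.eq, map_sum]
  rw [Finset.sum_eq_single (n, 0)]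
  · rw [γ.dpow_zero hj, mul_one]
  · rintro ⟨k, l⟩ hkl hne
    have hl : l ≠ 0 := by
      rintro rfl
      rw [HasAntidiagonal.mem_antidiagonal] at hkl
      simp only [add_zero] at hkl
      exact hne (by rw [hkl])
    rw [map_mul, Ideal.Quotient.eq_zero_iff_mem.mpr (dpow_mem_pow γ p t ht hl h), mul_zero]
  · intro h; exact absurd (HasAntidiagonal.mem_antidiagonal.mpr (add_zero n)) h

end Groth.Agent.Lib.Helper26.DpcA
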