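import Mathlib
import Groth.Agent.Lib.Helper26.DpcA

namespace Groth.Agent.Lib.Helper26.DpcB
universe u
open Finset AdicCompletion Groth.Agent.Lib.Helper26.DpcA

/-- the ideal `(p)` -/
abbrev Pp (A : Type u) [CommRing A] (p : ℕ) : Ideal A := Ideal.span {(p : A)}

variable {A : Type u} [CommRing A] {I : Ideal A} (γ : DividedPowers I) (p : ℕ) (t : ℕ)
  (ht : Ideal.span {(p : A)} ^ t ≤ I)

/-- the projection to `A/I` -/
noncomputable def piMap : AdicCompletion (Pp A p) A →+* A ⧸ I :=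
  (Ideal.Quotient.factor ht).comp (AdicCompletion.evalₐ (Pp A p) t).toRingHom

/-- representative Cauchy sequence -/
noncomputable def rep (x : AdicCompletion (Pp A p) A) : AdicCauchySequence (Pp A p) A :=
  Classical.choose (AdicCompletion.mk_surjective _ _ x)

lemma mk_rep (x : AdicCompletion (Pp A p) A) : AdicCompletion.mk _ _ (rep p x) = x :=
  Classical.choose_spec (AdicCompletion.mk_surjective _ _ x)

lemma evalₐ_eq (x : AdicCompletion (Pp A p) A) (M : ℕ) :
    evalₐ (Pp A p) M x = Ideal.Quotient.mk _ ((rep p x) M) := by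
  conv_lhs => rw [← mk_rep p x]
  rw [evalₐ_mk]

lemma rep_sub_mem (x : AdicCompletion (Pp A p) A) {m M : ℕ} (h : m ≤ M) :
    rep p x m - rep p x M ∈ Pp A p ^ m := by
  have := (rep p x).property h
  rw [SModEq.sub_mem] at this
  simpa using this

lemma evalₐ_of_le {x : AdicCompletion (Pp A p) A} {m M : ℕ} (hmM : m ≤ M) {a : A}
    (ha : evalₐ (Pp A p) M x = Ideal.Quotient.mk _ a) :
    evalₐ (Pp A p) m x = Ideal.Quotient.mk _ a := by
  rw [evalₐ_eq, Ideal.Quotient.eq] at ha ⊢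
  have h1 := Ideal.pow_le_pow_right hmM ha
  have h2 := rep_sub_mem p x hmM
  have : rep p x m - a = (rep p x m - rep p x M) + (rep p x M - a) := by ring
  rw [this]
  exact add_mem h2 h1

lemma mem_ker_iff (x : AdicCompletion (Pp A p) A) :
    x ∈ RingHom.ker (piMap p t ht) ↔ rep p x t ∈ I := by
  rw [RingHom.mem_ker]
  unfold piMap
  rw [RingHom.comp_apply]
  show Ideal.Quotient.factor ht (evalₐ (Pp A p) t x) = 0 ↔ _
  rw [evalₐ_eq, Ideal.Quotient.factor_mk, Ideal.Quotient.eq_zero_iff_mem]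

lemma rep_mem_I {x : AdicCompletion (Pp A p) A} (hx : x ∈ RingHom.ker (piMap p t ht)) {M : ℕ}
    (hM : t ≤ M) : rep p x M ∈ I := by
  have h1 := (mem_ker_iff p t ht x).mp hx
  have h2 := ht (rep_sub_mem p x hM)
  have : rep p x M = rep p x t - (rep p x t - rep p x M) := by ring
  rw [this]
  exact sub_mem h1 h2

lemma exists_lift {x : AdicCompletion (Pp A p) A} (hx : x ∈ RingHom.ker (piMap p t ht)) {M : ℕ}
    (hM : t ≤ M) : ∃ a ∈ I, evalₐ (Pp A p) M x = Ideal.Quotient.mk _ a :=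
  ⟨rep p x M, rep_mem_I p t ht hx hM, evalₐ_eq p x M⟩

omit ht in
lemma exists_lift' (x : AdicCompletion (Pp A p) A) (M : ℕ) :
    ∃ a, evalₐ (Pp A p) M x = Ideal.Quotient.mk _ a := ⟨rep p x M, evalₐ_eq p x M⟩

lemma mem_ker_of_lift {x : AdicCompletion (Pp A p) A} {M : ℕ} (hM : t ≤ M) {a : A} (ha : a ∈ I)
    (hxa : evalₐ (Pp A p) M x = Ideal.Quotient.mk _ a) : x ∈ RingHom.ker (piMap p t ht) := by
  rw [RingHom.mem_ker]
  unfold piMap
  rw [RingHom.comp_apply]
  show Ideal.Quotient.factor ht (evalₐ (Pp A p) t x) = 0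
  rw [evalₐ_of_le p hM hxa, Ideal.Quotient.factor_mk, Ideal.Quotient.eq_zero_iff_mem]
  exact ha

/-- the sequence defining the divided power -/
noncomputable def seq (n : ℕ) (x : AdicCompletion (Pp A p) A) : ℕ → A :=
  fun m => γ.dpow n (rep p x (m + t))

lemma seq_cauchy {x : AdicCompletion (Pp A p) A} (hx : x ∈ RingHom.ker (piMap p t ht)) (n : ℕ) :
    AdicCompletion.IsAdicCauchy (Pp A p) A (seq γ p t n x) := by
  intro m m' hmm'
  rw [SModEq.sub_mem]
  have : seq γ p t n x m - seq γ p t n x m' ∈ Pp A p ^ m := by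
    unfold seq
    apply dpow_sub_mem γ p t ht (rep_mem_I p t ht hx (Nat.le_add_left _ _))
    exact rep_sub_mem p x (Nat.add_le_add_right hmm' t)
  simpa using this

/-- the Cauchy sequence defining the divided power -/
noncomputable def seqC {x : AdicCompletion (Pp A p) A} (hx : x ∈ RingHom.ker (piMap p t ht))
    (n : ℕ) : AdicCauchySequence (Pp A p) A :=
  (⟨seq γ p t n x, seq_cauchy γ p t ht hx n⟩ : {f : ℕ → A // IsAdicCauchy (Pp A p) A f})

lemma seqC_apply {x : AdicCompletion (Pp A p) A} (hx : x ∈ RingHom.ker (piMap p t ht))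
    (n m : ℕ) : (seqC γ p t ht hx n).val m = γ.dpow n (rep p x (m + t)) := rfl

open Classical in
/-- the divided power operations on the completion -/
noncomputable def dp (n : ℕ) (x : AdicCompletion (Pp A p) A) : AdicCompletion (Pp A p) A :=
  if hx : x ∈ RingHom.ker (piMap p t ht) then
    AdicCompletion.mk _ _ (seqC γ p t ht hx n) else 0

lemma evalₐ_dp {x : AdicCompletion (Pp A p) A} (hx : x ∈ RingHom.ker (piMap p t ht)) {m n : ℕ}
    {a : A} (ha : a ∈ I) (hxa : evalₐ (Pp A p) (m + t) x = Ideal.Quotient.mk _ a) :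
    evalₐ (Pp A p) m (dp γ p t ht n x) = Ideal.Quotient.mk _ (γ.dpow n a) := by
  unfold dp
  rw [dif_pos hx, evalₐ_mk, seqC_apply, Ideal.Quotient.eq]
  apply dpow_sub_mem γ p t ht ha
  rw [evalₐ_eq, Ideal.Quotient.eq] at hxa
  exact hxa

lemma dp_mem_ker {x : AdicCompletion (Pp A p) A} (hx : x ∈ RingHom.ker (piMap p t ht)) {n : ℕ}
    (hn : n ≠ 0) : dp γ p t ht n x ∈ RingHom.ker (piMap p t ht) := by
  obtain ⟨a, ha, hxa⟩ := exists_lift p t ht hx (Nat.le_add_left t t)
  exact mem_ker_of_lift p t ht le_rfl (γ.dpow_mem hn ha) (evalₐ_dp γ p t ht hx ha hxa)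

/-- the divided power structure on the kernel -/
noncomputable def dpStruct : DividedPowers (RingHom.ker (piMap p t ht)) where
  dpow := dp γ p t ht
  dpow_null := fun {n x} hx => by
    unfold dp
    rw [dif_neg hx]
  dpow_zero := fun {x} hx => by
    refine ext_evalₐ fun m => ?_
    obtain ⟨a, ha, hxa⟩ := exists_lift p t ht hx (Nat.le_add_left t m)
    rw [evalₐ_dp γ p t ht hx ha hxa, γ.dpow_zero ha, map_one, map_one]
  dpow_one := fun {x} hx => by
    refine ext_evalₐ fun m => ?_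
    obtain ⟨a, ha, hxa⟩ := exists_lift p t ht hx (Nat.le_add_left t m)
    rw [evalₐ_dp γ p t ht hx ha hxa, γ.dpow_one ha]
    exact (evalₐ_of_le p (Nat.le_add_right m t) hxa).symm
  dpow_mem := fun {n x} hn hx => dp_mem_ker γ p t ht hx hn
  dpow_add := fun {n x y} hx hy => by
    refine ext_evalₐ fun m => ?_
    obtain ⟨a, ha, hxa⟩ := exists_lift p t ht hx (Nat.le_add_left t m)
    obtain ⟨b, hb, hyb⟩ := exists_lift p t ht hy (Nat.le_add_left t m)
    have hxy : evalₐ (Pp A p) (m + t) (x + y) = Ideal.Quotient.mk _ (a + b) := by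
      rw [map_add, map_add, hxa, hyb]
    rw [evalₐ_dp γ p t ht (add_mem hx hy) (I.add_mem ha hb) hxy, γ.dpow_add ha hb, map_sum, map_sum]
    refine Finset.sum_congr rfl fun k _ => ?_
    rw [map_mul, map_mul, evalₐ_dp γ p t ht hx ha hxa, evalₐ_dp γ p t ht hy hb hyb]
  dpow_mul := fun {n a x} hx => by
    refine ext_evalₐ fun m => ?_
    obtain ⟨b, hb, hxb⟩ := exists_lift p t ht hx (Nat.le_add_left t m)
    obtain ⟨ρ, hρ⟩ := exists_lift' p a (m + t)
    have hax : evalₐ (Pp A p) (m + t) (a * x) = Ideal.Quotient.mk _ (ρ * b) := by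
      rw [map_mul, map_mul, hρ, hxb]
    rw [evalₐ_dp γ p t ht (Ideal.mul_mem_left _ a hx) (I.mul_mem_left ρ hb) hax, γ.dpow_mul hb,
      map_mul, map_pow, map_mul, map_pow, evalₐ_dp γ p t ht hx hb hxb,
      evalₐ_of_le p (Nat.le_add_right m t) hρ]
  mul_dpow := fun {k n x} hx => by
    refine ext_evalₐ fun m => ?_
    obtain ⟨b, hb, hxb⟩ := exists_lift p t ht hx (Nat.le_add_left t m)
    rw [map_mul, map_mul, map_natCast, evalₐ_dp γ p t ht hx hb hxb, evalₐ_dp γ p t ht hx hb hxb,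
      evalₐ_dp γ p t ht hx hb hxb, ← map_mul, γ.mul_dpow hb, map_mul, map_natCast]
  dpow_comp := fun {k n x} hn hx => by
    refine ext_evalₐ fun l => ?_
    obtain ⟨b, hb, hxb⟩ := exists_lift p t ht hx (Nat.le_add_left t (l + t))
    have h1 : evalₐ (Pp A p) (l + t) (dp γ p t ht n x) = Ideal.Quotient.mk _ (γ.dpow n b) :=
      evalₐ_dp γ p t ht hx hb hxb
    rw [evalₐ_dp γ p t ht (dp_mem_ker γ p t ht hx hn) (γ.dpow_mem hn hb) h1, map_mul,
      map_natCast, evalₐ_dp γ p t ht hx hb (evalₐ_of_le p (Nat.le_add_right (l + t) t) hxb),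
      γ.dpow_comp hn hb, map_mul, map_natCast]

theorem main_6530 {A : Type u} [CommRing A] {I : Ideal A}
    (γ : DividedPowers I) (p : ℕ) [Fact p.Prime] (t : ℕ) (ht : Ideal.span {(p : A)} ^ t ≤ I) :
    Function.Surjective ((Ideal.Quotient.factor ht).comp
      (AdicCompletion.evalₐ (Ideal.span {(p : A)}) t).toRingHom) ∧
    ∃ δ : DividedPowers (RingHom.ker ((Ideal.Quotient.factor ht).comp
      (AdicCompletion.evalₐ (Ideal.span {(p : A)}) t).toRingHom)),
      γ.IsDPMorphism δ (algebraMap A (AdicCompletion (Ideal.span {(p : A)}) A)) := by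
  refine ⟨?_, dpStruct γ p t ht, ?_, ?_⟩
  · exact (Ideal.Quotient.factor_surjective ht).comp (AdicCompletion.surjective_evalₐ _ t)
  · rw [Ideal.map_le_iff_le_comap]
    intro a ha
    rw [Ideal.mem_comap]
    apply mem_ker_of_lift p t ht le_rfl ha
    exact (AdicCompletion.evalₐ (Pp A p) t).commutes a
  · intro n a ha
    refine ext_evalₐ fun m => ?_
    have h1 : algebraMap A (AdicCompletion (Ideal.span {(p : A)}) A) a ∈
        RingHom.ker (piMap p t ht) :=
      mem_ker_of_lift p t ht le_rfl ha ((AdicCompletion.evalₐ (Pp A p) t).commutes a)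
    have h2 : evalₐ (Pp A p) (m + t) (algebraMap A (AdicCompletion (Ideal.span {(p : A)}) A) a) =
        Ideal.Quotient.mk _ a := (AdicCompletion.evalₐ (Pp A p) (m + t)).commutes a
    show evalₐ (Pp A p) m (dp γ p t ht n _) = _
    rw [evalₐ_dp γ p t ht h1 ha h2]
    exact ((AdicCompletion.evalₐ (Pp A p) m).commutes _).symm

end Groth.Agent.Lib.Helper26.DpcB
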