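import Mathlib

set_option autoImplicit false
set_option linter.unusedVariables false
set_option linter.unusedSectionVars false
set_option linter.style.haveILetI false
set_option linter.overlappingInstances false
universe u
open Polynomial IsLocalRing

namespace Groth.Agent.Lib.Helper26.DvrExtBase


/-- A Noetherian local ring with principal maximal ideal generated by a nonzerodivisor:
every nonzero element is a unit times a power of the generator. -/
theorem unif_of_local_principal {T : Type u} [CommRing T] [IsNoetherianRing T] [IsLocalRing T]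
    (π : T) (hπ : maximalIdeal T = Ideal.span {π}) (t : T) (ht : t ≠ 0) :
    ∃ (n : ℕ) (u : Tˣ), t = π ^ n * u := by
  have hkrull : ⨅ i : ℕ, (maximalIdeal T) ^ i = ⊥ :=
    Ideal.iInf_pow_eq_bot_of_isLocalRing _ (Ideal.IsMaximal.ne_top inferInstance)
  have hex : ∃ n : ℕ, t ∉ (maximalIdeal T) ^ n := by
    by_contra hcon
    push Not at hcon
    apply ht
    have : t ∈ ⨅ i : ℕ, (maximalIdeal T) ^ i := by
      rw [Ideal.mem_iInf]; exact hcon
    rw [hkrull] at this
    exact this
  classical
  let n := Nat.find hex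
  have hn : t ∉ (maximalIdeal T) ^ n := Nat.find_spec hex
  have hn0 : n ≠ 0 := by
    intro h0
    rw [h0, pow_zero, Ideal.one_eq_top] at hn
    exact hn trivial
  obtain ⟨m, hm⟩ := Nat.exists_eq_succ_of_ne_zero hn0
  have hmem : t ∈ (maximalIdeal T) ^ m := by
    by_contra hcon
    have := Nat.find_min' hex hcon
    omega
  rw [hπ, Ideal.span_singleton_pow, Ideal.mem_span_singleton'] at hmem
  obtain ⟨s, hs⟩ := hmem
  have hsunit : IsUnit s := by
    by_contra hnu
    have hsm : s ∈ maximalIdeal T := (IsLocalRing.mem_maximalIdeal s).mpr hnu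
    rw [hπ, Ideal.mem_span_singleton'] at hsm
    obtain ⟨s', hs'⟩ := hsm
    apply hn
    rw [hm, hπ, Ideal.span_singleton_pow, Ideal.mem_span_singleton']
    exact ⟨s', by rw [← hs, ← hs', pow_succ]; ring⟩
  obtain ⟨u, hu⟩ := hsunit
  exact ⟨m, u, by rw [hu, ← hs, mul_comm]⟩



section AR

variable {S : Type u} [CommRing S] [IsDomain S] [IsDiscreteValuationRing S]
  (g : S[X]) (hg : g.Monic) (hirr : Irreducible (g.map (residue S)))

include hg hirr in
theorem isMaximal_map : ((maximalIdeal S).map (AdjoinRoot.of g)).IsMaximal := by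
  haveI : Fact (Irreducible (g.map (residue S))) := ⟨hirr⟩
  let e : (AdjoinRoot g ⧸ (maximalIdeal S).map (AdjoinRoot.of g)) ≃+*
      AdjoinRoot (g.map (residue S)) :=
    (AdjoinRoot.quotEquivQuotMap g (maximalIdeal S)).toRingEquiv
  rw [Ideal.Quotient.maximal_ideal_iff_isField_quotient]
  exact MulEquiv.isField (Field.toIsField (AdjoinRoot (g.map (residue S)))) e.toMulEquiv

include hg hirr in
theorem isLocalRing_adjoinRoot : IsLocalRing (AdjoinRoot g) := by
  haveI := isMaximal_map g hg hirr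
  haveI : Module.Finite S (AdjoinRoot g) := hg.finite_adjoinRoot
  haveI : Algebra.IsIntegral S (AdjoinRoot g) := Algebra.IsIntegral.of_finite S _
  haveI : Nontrivial (AdjoinRoot g) := by
    have : (maximalIdeal S).map (AdjoinRoot.of g) ≠ ⊤ := Ideal.IsMaximal.ne_top inferInstance
    exact nontrivial_of_ne _ _ (fun h => this ((Ideal.eq_top_iff_one _).mpr (by
      have h01 : (0 : AdjoinRoot g) = 1 := h
      rw [← h01]; exact Ideal.zero_mem _)))
  refine IsLocalRing.of_unique_max_ideal ⟨(maximalIdeal S).map (AdjoinRoot.of g), inferInstance, ?_⟩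
  intro n hn
  haveI : n.IsMaximal := hn
  have hcomap : (n.comap (algebraMap S (AdjoinRoot g))).IsMaximal :=
    Ideal.isMaximal_comap_of_isIntegral_of_isMaximal n
  have heq : n.comap (algebraMap S (AdjoinRoot g)) = maximalIdeal S :=
    IsLocalRing.eq_maximalIdeal hcomap
  have hle : (maximalIdeal S).map (AdjoinRoot.of g) ≤ n := by
    rw [Ideal.map_le_iff_le_comap, ← heq]
    rfl
  exact (Ideal.IsMaximal.eq_of_le inferInstance hn.ne_top hle).symm

include hg hirr in
theorem adjoinRoot_unif (π : S) (hπ : Irreducible π) (t : AdjoinRoot g) (ht : t ≠ 0) :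
    ∃ (n : ℕ) (u : (AdjoinRoot g)ˣ), t = (AdjoinRoot.of g π) ^ n * u := by
  haveI := isLocalRing_adjoinRoot g hg hirr
  haveI := isMaximal_map g hg hirr
  haveI : Module.Finite S (AdjoinRoot g) := hg.finite_adjoinRoot
  haveI : IsNoetherianRing (AdjoinRoot g) := IsNoetherianRing.of_finite S _
  have hmax : maximalIdeal (AdjoinRoot g) = Ideal.span {AdjoinRoot.of g π} := by
    rw [← IsLocalRing.eq_maximalIdeal (isMaximal_map g hg hirr), hπ.maximalIdeal_eq,
      Ideal.map_span, Set.image_singleton]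
  exact unif_of_local_principal _ hmax t ht

include hg hirr in
theorem adjoinRoot_ker {k' : Type u} [Field k'] (π : S) (hπ : Irreducible π)
    (χ : AdjoinRoot g →+* k') (t : AdjoinRoot g) (ht : χ t = 0) :
    ∃ t' : AdjoinRoot g, t = AdjoinRoot.of g π * t' := by
  haveI := isLocalRing_adjoinRoot g hg hirr
  have hmax : maximalIdeal (AdjoinRoot g) = Ideal.span {AdjoinRoot.of g π} := by
    rw [← IsLocalRing.eq_maximalIdeal (isMaximal_map g hg hirr), hπ.maximalIdeal_eq,
      Ideal.map_span, Set.image_singleton]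
  have hne : RingHom.ker χ ≠ ⊤ := RingHom.ker_ne_top χ
  have hle : RingHom.ker χ ≤ maximalIdeal (AdjoinRoot g) := IsLocalRing.le_maximalIdeal hne
  have hmem : t ∈ maximalIdeal (AdjoinRoot g) := hle ((RingHom.mem_ker).mpr ht)
  rw [hmax, Ideal.mem_span_singleton'] at hmem
  obtain ⟨t', ht'⟩ := hmem
  exact ⟨t', by rw [← ht', mul_comm]⟩

end AR



theorem exists_g {S k' : Type u} [CommRing S] [IsDomain S] [IsDiscreteValuationRing S]
    [Field k'] (π : S) (hπ : Irreducible π) (ψ : S →+* k')
    (hψ : ∀ x : S, ψ x = 0 ↔ x ∈ maximalIdeal S) (a : k') (ha : a ∉ Set.range ψ)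
    (halg : ∃ P : S[X], (∃ i, IsUnit (P.coeff i)) ∧ eval₂ ψ a P = 0) :
    ∃ g : S[X], g.Monic ∧ Irreducible (g.map (residue S)) ∧ derivative g ≠ 0 ∧
      eval₂ ψ a g = 0 := by
  haveI : IsLocalHom ψ := ⟨fun x hx => by
    by_contra hnu
    have := (hψ x).mpr ((mem_maximalIdeal x).mpr hnu)
    rw [this] at hx
    exact not_isUnit_zero hx⟩
  let ψ' : ResidueField S →+* k' := ResidueField.lift ψ
  letI : Algebra (ResidueField S) k' := ψ'.toAlgebra
  have hψ' : ∀ x : S, algebraMap (ResidueField S) k' (residue S x) = ψ x :=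
    fun x => ResidueField.lift_residue_apply ψ x
  have heval : ∀ Q : S[X], aeval a (Q.map (residue S)) = eval₂ ψ a Q := by
    intro Q
    rw [aeval_def, eval₂_map]
    congr 1
  -- integrality of a
  have hint : IsIntegral (ResidueField S) a := by
    obtain ⟨P, ⟨i, hi⟩, hP⟩ := halg
    refine (IsAlgebraic.isIntegral ⟨P.map (residue S), ?_, ?_⟩)
    · intro h0
      have : (P.map (residue S)).coeff i = 0 := by rw [h0, coeff_zero]
      rw [coeff_map] at this
      have hmem : P.coeff i ∈ maximalIdeal S := by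
        rwa [← Ideal.Quotient.eq_zero_iff_mem]
      exact (mem_maximalIdeal _).mp hmem hi
    · rw [heval, hP]
  set g' := minpoly (ResidueField S) a with hg'
  have hirr : Irreducible g' := minpoly.irreducible hint
  have hmonic : g'.Monic := minpoly.monic hint
  have hdeg : 2 ≤ g'.natDegree := by
    have h1 : 0 < g'.natDegree := minpoly.natDegree_pos hint
    by_contra hlt
    have h2 : g'.natDegree = 1 := by omega
    rw [hg', minpoly.natDegree_eq_one_iff] at h2
    obtain ⟨y, hy⟩ := h2
    obtain ⟨x, rfl⟩ := residue_surjective y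
    exact ha ⟨x, by rw [← hψ' x]; exact hy⟩
  have hlifts : g' ∈ lifts (residue S) := by
    rw [lifts_iff_coeff_lifts]
    intro n
    exact residue_surjective _
  obtain ⟨g₀, hg₀map, hg₀deg, hg₀monic⟩ := lifts_and_natDegree_eq_and_monic hlifts hmonic
  have hroot : ∀ g : S[X], g.map (residue S) = g' → eval₂ ψ a g = 0 := by
    intro g hg
    rw [← heval, hg, hg', minpoly.aeval]
  by_cases hd : derivative g₀ = 0
  · have hπm : residue S π = 0 := by
      rw [residue_eq_zero_iff, hπ.maximalIdeal_eq]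
      exact Ideal.mem_span_singleton_self π
    have hπ0 : π ≠ 0 := hπ.ne_zero
    have hdegq : (C π * X : S[X]).natDegree < g₀.natDegree := by
      calc (C π * X : S[X]).natDegree ≤ 1 := (natDegree_C_mul_X π hπ0).le
        _ < g₀.natDegree := by omega
    have hmap : (g₀ + C π * X).map (residue S) = g' := by
      rw [Polynomial.map_add, Polynomial.map_mul, map_C, hπm, C_0, zero_mul, add_zero, hg₀map]
    refine ⟨g₀ + C π * X, ?_, ?_, ?_, hroot _ hmap⟩
    · refine hg₀monic.add_of_left ?_
      exact degree_lt_degree hdegq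
    · rw [hmap]; exact hirr
    · rw [derivative_add, hd, zero_add, derivative_C_mul, derivative_X, mul_one]
      exact fun h => hπ0 (C_eq_zero.mp h)
  · exact ⟨g₀, hg₀monic, by rw [hg₀map]; exact hirr, hd, hroot _ hg₀map⟩



theorem sep_of_root {K Ω S : Type u} [Field K] [Field Ω] [Algebra K Ω]
    [CommRing S] [IsDomain S] [IsIntegrallyClosed S] (j : S →+* Ω) (hj : Function.Injective j)
    (hsep : ∀ s : S, IsSeparable K (j s)) (g : S[X]) (hg : g.Monic) (hirr : Irreducible g)
    (hder : derivative g ≠ 0) (θ : Ω) (hθ : eval₂ j θ g = 0) : IsSeparable K θ := by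
  -- separability of `g.map j`
  have hsepΩ : (g.map j).Separable := by
    let jF : FractionRing S →+* Ω := IsFractionRing.lift hj
    have hcomp : jF.comp (algebraMap S (FractionRing S)) = j := by
      ext s
      exact IsFractionRing.lift_algebraMap hj s
    have hirrF : Irreducible (g.map (algebraMap S (FractionRing S))) :=
      (Monic.irreducible_iff_irreducible_map_fraction_map hg).mp hirr
    have hderF : derivative (g.map (algebraMap S (FractionRing S))) ≠ 0 := by
      rw [derivative_map]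
      intro h0
      apply hder
      apply Polynomial.map_injective _ (IsFractionRing.injective S (FractionRing S))
      rw [h0, Polynomial.map_zero]
    have hsepF := (separable_iff_derivative_ne_zero hirrF).mpr hderF
    have := hsepF.map (f := jF)
    rwa [Polynomial.map_map, hcomp] at this
  -- descend to the separable closure
  let j₁ : S →+* separableClosure K Ω :=
    j.codRestrict (separableClosure K Ω).toSubalgebra.toSubring
      (fun s => mem_separableClosure_iff.mpr (hsep s))
  have hj₁ : (algebraMap (separableClosure K Ω) Ω).comp j₁ = j := by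
    ext s
    rfl
  have hsep₁ : (g.map j₁).Separable := by
    rw [← separable_map (algebraMap (separableClosure K Ω) Ω), Polynomial.map_map, hj₁]
    exact hsepΩ
  have hroot : aeval θ (g.map j₁) = 0 := by
    rw [aeval_def, eval₂_map, hj₁]
    exact hθ
  have hsepθ : IsSeparable (separableClosure K Ω) θ :=
    hsep₁.of_dvd (minpoly.dvd _ θ hroot)
  exact IsSeparable.of_algebra_isSeparable_of_isSeparable K hsepθ



section Zorn

variable (R Ω k' : Type u) [CommRing R] [Field Ω] [Algebra R Ω] [Field k'] [Algebra R k']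

/-- partial lifts -/
structure Lift where
  /-- the subalgebra -/
  carrier : Subalgebra R Ω
  /-- the map to `k'` -/
  emb : carrier →ₐ[R] k'

variable {R Ω k'}

namespace Lift

instance : PartialOrder (Lift R Ω k') where
  le L₁ L₂ := ∃ h : L₁.carrier ≤ L₂.carrier, ∀ x, L₂.emb (Subalgebra.inclusion h x) = L₁.emb x
  le_refl L := ⟨le_rfl, by simp⟩
  le_trans L₁ L₂ L₃ := by
    rintro ⟨h₁₂, h₁₂'⟩ ⟨h₂₃, h₂₃'⟩
    refine ⟨h₁₂.trans h₂₃, fun _ ↦ ?_⟩
    rw [← Subalgebra.inclusion_inclusion h₁₂ h₂₃, h₂₃', h₁₂']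
  le_antisymm := by
    rintro ⟨L₁, e₁⟩ ⟨L₂, e₂⟩ ⟨h₁₂, h₁₂'⟩ ⟨h₂₁, h₂₁'⟩
    obtain rfl : L₁ = L₂ := h₁₂.antisymm h₂₁
    congr
    exact AlgHom.ext h₂₁'

variable (c : Set (Lift R Ω k')) (hc : IsChain (· ≤ ·) c) (hne : c.Nonempty)

/-- The union of a nonempty chain of lifts. -/
noncomputable def union : Lift R Ω k' :=
  haveI : Nonempty ↥c := hne.to_subtype
  let t (i : ↥c) := i.val.carrier
  have dir : Directed (· ≤ ·) t := hc.directedOn.directed_val.mono_comp _ fun _ _ h ↦ h.1
  ⟨iSup t, Subalgebra.iSupLift t dir (·.val.emb) (fun i j h ↦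
    AlgHom.ext fun x ↦ (hc.total i.2 j.2).elim (fun hij ↦ (hij.snd x).symm) fun hji ↦ by
      rw [AlgHom.comp_apply]
      rw [← hji.snd (Subalgebra.inclusion h x), Subalgebra.inclusion_inclusion,
        Subalgebra.inclusion_self, AlgHom.id_apply x])
    _ le_rfl⟩

theorem le_union ⦃σ : Lift R Ω k'⦄ (hσ : σ ∈ c) : σ ≤ union c hc hne :=
  haveI : Nonempty ↥c := hne.to_subtype
  let t (i : ↥c) := i.val.carrier
  ⟨le_iSup t ⟨σ, hσ⟩, fun x ↦ by
    dsimp only [union]
    exact Subalgebra.iSupLift_inclusion (K := t)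
      (i := ⟨σ, hσ⟩) x (le_iSup t ⟨σ, hσ⟩)⟩

theorem mem_union_carrier (x : Ω) (hx : x ∈ (union c hc hne).carrier) :
    ∃ σ ∈ c, x ∈ σ.carrier := by
  haveI : Nonempty ↥c := hne.to_subtype
  let t (i : ↥c) := i.val.carrier
  have dir : Directed (· ≤ ·) t := hc.directedOn.directed_val.mono_comp _ fun _ _ h ↦ h.1
  have : x ∈ ((iSup t : Subalgebra R Ω) : Set Ω) := hx
  rw [Subalgebra.coe_iSup_of_directed dir, Set.mem_iUnion] at this
  obtain ⟨i, hi⟩ := this
  exact ⟨i.1, i.2, hi⟩

end Lift

/-- the good lifts: unramified DVR extensions, separable over `K`. -/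
structure Good (K : Type u) [Field K] [Algebra K Ω] (ϖ : R) (L : Lift R Ω k') : Prop where
  sep : ∀ x ∈ L.carrier, IsSeparable K x
  unif : ∀ x : L.carrier, x ≠ 0 →
    ∃ (n : ℕ) (u : (↥L.carrier)ˣ), x = algebraMap R L.carrier ϖ ^ n * u
  ker : ∀ x : L.carrier, L.emb x = 0 → ∃ y : L.carrier, x = algebraMap R L.carrier ϖ * y

theorem good_union (K : Type u) [Field K] [Algebra K Ω] (ϖ : R)
    (c : Set (Lift R Ω k')) (hc : IsChain (· ≤ ·) c) (hne : c.Nonempty)
    (hgood : ∀ σ ∈ c, Good K ϖ σ) : Good K ϖ (Lift.union c hc hne) := by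
  refine ⟨fun x hx => ?_, fun x hx => ?_, fun x hx => ?_⟩
  · obtain ⟨σ, hσ, hxσ⟩ := Lift.mem_union_carrier c hc hne x hx
    exact (hgood σ hσ).sep x hxσ
  · obtain ⟨σ, hσ, hxσ⟩ := Lift.mem_union_carrier c hc hne x.1 x.2
    obtain ⟨hle, hcompat⟩ := Lift.le_union c hc hne hσ
    have hne0 : (⟨x.1, hxσ⟩ : σ.carrier) ≠ 0 := by
      intro h0
      apply hx
      apply Subtype.ext
      have := congrArg Subtype.val h0
      exact this
    obtain ⟨n, u, hu⟩ := (hgood σ hσ).unif ⟨x.1, hxσ⟩ hne0
    refine ⟨n, Units.map (Subalgebra.inclusion hle).toRingHom.toMonoidHom u, ?_⟩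
    have := congrArg (Subalgebra.inclusion hle) hu
    rw [map_mul, map_pow, AlgHom.commutes] at this
    exact this
  · obtain ⟨σ, hσ, hxσ⟩ := Lift.mem_union_carrier c hc hne x.1 x.2
    obtain ⟨hle, hcompat⟩ := Lift.le_union c hc hne hσ
    have h1 : σ.emb ⟨x.1, hxσ⟩ = 0 := by
      rw [← hcompat ⟨x.1, hxσ⟩]
      exact hx
    obtain ⟨y, hy⟩ := (hgood σ hσ).ker ⟨x.1, hxσ⟩ h1
    refine ⟨Subalgebra.inclusion hle y, ?_⟩
    have := congrArg (Subalgebra.inclusion hle) hy
    rw [map_mul, AlgHom.commutes] at this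
    rw [← this]
    rfl

end Zorn

section Main

variable {R Ω k' K : Type u} [CommRing R] [IsDomain R] [IsDiscreteValuationRing R]
  [Field K] [Algebra R K] [IsFractionRing R K] [Field Ω] [Algebra K Ω] [Algebra R Ω]
  [IsScalarTower R K Ω] [Field k'] [Algebra R k'] (ϖ : R) (hϖ : Irreducible ϖ)
  (hker : ∀ r : R, algebraMap R k' r = 0 ↔ r ∈ maximalIdeal R)

include K in
omit [IsDiscreteValuationRing R] in
theorem algebraMap_injective : Function.Injective (algebraMap R Ω) := by
  rw [IsScalarTower.algebraMap_eq R K Ω]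
  exact (algebraMap K Ω).injective.comp (IsFractionRing.injective R K)

variable {L : Lift R Ω k'}

include hϖ hker in
theorem Good.emb_pi (h : Good K ϖ L) : L.emb (algebraMap R L.carrier ϖ) = 0 := by
  rw [AlgHom.commutes]
  refine (hker ϖ).mpr ?_
  rw [hϖ.maximalIdeal_eq]
  exact Ideal.mem_span_singleton_self ϖ

include hϖ hker in
theorem Good.not_isUnit_pi (h : Good K ϖ L) : ¬ IsUnit (algebraMap R L.carrier ϖ) := by
  intro hu
  have := hu.map L.emb
  rw [h.emb_pi ϖ hϖ hker] at this
  exact not_isUnit_zero this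

include hϖ in
theorem Good.pi_ne_zero (h : Good K ϖ L) : algebraMap R L.carrier ϖ ≠ 0 := by
  intro h0
  have h1 : algebraMap R Ω ϖ = 0 := by
    have := congrArg (algebraMap L.carrier Ω) h0
    rwa [← IsScalarTower.algebraMap_apply, map_zero] at this
  exact hϖ.ne_zero (algebraMap_injective (K := K) (by rw [h1, map_zero]))

include hϖ hker in
theorem Good.irreducible_pi (h : Good K ϖ L) : Irreducible (algebraMap R L.carrier ϖ) := by
  set π := algebraMap R L.carrier ϖ with hπdef
  have hnu : ¬ IsUnit π := h.not_isUnit_pi ϖ hϖ hker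
  have hπ0 : π ≠ 0 := h.pi_ne_zero ϖ hϖ
  refine ⟨hnu, fun a b hab => ?_⟩
  have ha0 : a ≠ 0 := by
    rintro rfl
    rw [zero_mul] at hab
    exact hπ0 hab
  have hb0 : b ≠ 0 := by
    rintro rfl
    rw [mul_zero] at hab
    exact hπ0 hab
  obtain ⟨n, u, hu⟩ := h.unif a ha0
  obtain ⟨m, v, hv⟩ := h.unif b hb0
  rcases n with _ | n
  · left
    rw [hu, pow_zero, one_mul]
    exact u.isUnit
  rcases m with _ | m
  · right
    rw [hv, pow_zero, one_mul]
    exact v.isUnit
  · exfalso
    have h1 : π * 1 = π * (π * (π ^ (n + m) * u * v)) := by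
      calc π * 1 = a * b := by rw [mul_one]; exact hab
        _ = (π ^ (n + 1) * u) * (π ^ (m + 1) * v) := by rw [hu, hv]
        _ = π * (π * (π ^ (n + m) * u * v)) := by ring
    have h2 := mul_left_cancel₀ hπ0 h1
    exact hnu (IsUnit.of_mul_eq_one _ h2.symm)

include hϖ hker in
theorem Good.isDVR (h : Good K ϖ L) : IsDiscreteValuationRing L.carrier :=
  IsDiscreteValuationRing.ofHasUnitMulPowIrreducibleFactorization
    ⟨algebraMap R L.carrier ϖ, h.irreducible_pi ϖ hϖ hker, fun {x} hx => by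
      obtain ⟨n, u, hu⟩ := h.unif x hx
      exact ⟨n, u, hu.symm⟩⟩


variable (K k') in
/-- the bottom lift -/
noncomputable def botLift : Lift R Ω k' :=
  ⟨⊥, (Algebra.ofId R k').comp
    (Algebra.botEquivOfInjective (algebraMap_injective (R := R) (Ω := Ω) (K := K))).toAlgHom⟩

include hϖ hker in
theorem good_botLift : Good K ϖ (botLift (R := R) (Ω := Ω) (k' := k') (K := K)) := by
  set e := Algebra.botEquivOfInjective (algebraMap_injective (R := R) (Ω := Ω) (K := K)) with he
  have hsymm : ∀ r : R, e.symm r = algebraMap R (⊥ : Subalgebra R Ω) r := fun r => e.symm.commutes r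
  refine ⟨?_, ?_, ?_⟩
  · intro x hx
    obtain ⟨r, rfl⟩ := Algebra.mem_bot.mp hx
    rw [IsScalarTower.algebraMap_apply R K Ω]
    exact isSeparable_algebraMap _
  · show ∀ x : (⊥ : Subalgebra R Ω), x ≠ 0 → ∃ (n : ℕ) (u : (↥(⊥ : Subalgebra R Ω))ˣ),
      x = algebraMap R (⊥ : Subalgebra R Ω) ϖ ^ n * u
    intro x hx
    have hr : e x ≠ 0 := by
      intro h0
      apply hx
      have := congrArg e.symm h0
      rwa [AlgEquiv.symm_apply_apply, map_zero] at this
    obtain ⟨n, u, hu⟩ := IsDiscreteValuationRing.eq_unit_mul_pow_irreducible hr hϖ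
    refine ⟨n, Units.map e.symm.toAlgHom.toRingHom.toMonoidHom u, ?_⟩
    have := congrArg e.symm hu
    rw [AlgEquiv.symm_apply_apply, map_mul, map_pow, hsymm ϖ] at this
    rw [this, mul_comm]
    rfl
  · show ∀ x : (⊥ : Subalgebra R Ω), algebraMap R k' (e x) = 0 →
      ∃ y : (⊥ : Subalgebra R Ω), x = algebraMap R (⊥ : Subalgebra R Ω) ϖ * y
    intro x h1
    rw [hker, hϖ.maximalIdeal_eq, Ideal.mem_span_singleton'] at h1
    obtain ⟨r', hr'⟩ := h1
    refine ⟨e.symm r', ?_⟩
    have := congrArg e.symm hr'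
    rw [AlgEquiv.symm_apply_apply, map_mul, hsymm ϖ] at this
    rw [← this, mul_comm]

end Main


end Groth.Agent.Lib.Helper26.DvrExtBase
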