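import Mathlib
import Groth.Agent.Lib.Helper26.DvrExtBase

set_option autoImplicit false
set_option linter.unusedVariables false
set_option linter.unusedSectionVars false
set_option linter.style.haveILetI false
set_option linter.overlappingInstances false
universe u
open Polynomial IsLocalRing

namespace Groth.Agent.Lib.Helper26.DvrExt
open Groth.Agent.Lib.Helper26.DvrExtBase

section Main

variable {R Ω k' K : Type u} [CommRing R] [IsDomain R] [IsDiscreteValuationRing R]
  [Field K] [Algebra R K] [IsFractionRing R K] [Field Ω] [Algebra K Ω] [Algebra R Ω]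
  [IsScalarTower R K Ω] [Field k'] [Algebra R k'] (ϖ : R) (hϖ : Irreducible ϖ)
  (hker : ∀ r : R, algebraMap R k' r = 0 ↔ r ∈ maximalIdeal R)

include hϖ hker in
theorem step [IsAlgClosed Ω]
    (halg : ∀ a : k', ∃ P : R[X], (∃ i, IsUnit (P.coeff i)) ∧ aeval a P = 0)
    (L : Lift R Ω k') (h : Good K ϖ L) (a : k') (ha : a ∉ Set.range L.emb) :
    ∃ L' : Lift R Ω k', Good K ϖ L' ∧ L < L' := by
  classical
  haveI : IsDiscreteValuationRing L.carrier := h.isDVR ϖ hϖ hker
  set π : L.carrier := algebraMap R L.carrier ϖ with hπdef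
  have hπirr : Irreducible π := h.irreducible_pi ϖ hϖ hker
  have hψπ : L.emb π = 0 := h.emb_pi ϖ hϖ hker
  have hkerψ : ∀ x : L.carrier, L.emb.toRingHom x = 0 ↔ x ∈ maximalIdeal L.carrier := by
    intro x
    rw [hπirr.maximalIdeal_eq, Ideal.mem_span_singleton']
    constructor
    · intro hx
      obtain ⟨y, hy⟩ := h.ker x hx
      exact ⟨y, by rw [hy, mul_comm]⟩
    · rintro ⟨y, rfl⟩
      show L.emb (y * π) = 0
      rw [map_mul, hψπ, mul_zero]
  -- algebraicity
  have halg' : ∃ P : (L.carrier)[X], (∃ i, IsUnit (P.coeff i)) ∧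
      eval₂ L.emb.toRingHom a P = 0 := by
    obtain ⟨P, ⟨i, hi⟩, hP⟩ := halg a
    refine ⟨P.map (algebraMap R L.carrier), ⟨i, by rw [coeff_map]; exact hi.map _⟩, ?_⟩
    rw [eval₂_map]
    have : (L.emb.toRingHom).comp (algebraMap R L.carrier) = algebraMap R k' :=
      L.emb.comp_algebraMap
    rw [this]
    exact hP
  have ha' : a ∉ Set.range L.emb.toRingHom := ha
  obtain ⟨g, hgmonic, hgirr', hgder, hgroot⟩ :=
    exists_g π hπirr L.emb.toRingHom hkerψ a ha' halg'
  have hgirr : Irreducible g :=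
    Monic.irreducible_of_irreducible_map (residue L.carrier) g hgmonic hgirr'
  -- the root
  have hdeg : g.degree ≠ 0 := by
    intro h0
    have : g.natDegree = 0 := natDegree_eq_zero_iff_degree_le_zero.mpr h0.le
    have h1 : g = 1 := by
      rw [eq_C_of_natDegree_eq_zero this] at hgmonic ⊢
      rw [Monic, leadingCoeff_C] at hgmonic
      rw [hgmonic, C_1]
    exact hgirr.not_isUnit (h1 ▸ isUnit_one)
  obtain ⟨θ, hθ⟩ := IsAlgClosed.exists_aeval_eq_zero Ω g hdeg
  have hθ' : eval₂ (↑(Algebra.ofId L.carrier Ω) : L.carrier →+* Ω) θ g = 0 := hθ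
  let ι : AdjoinRoot g →ₐ[L.carrier] Ω :=
    AdjoinRoot.liftAlgHom g (Algebra.ofId L.carrier Ω) θ hθ'
  have hιof : ∀ s : L.carrier, ι (AdjoinRoot.of g s) = (s : Ω) := by
    intro s
    exact ι.commutes s
  have hιroot : ι (AdjoinRoot.root g) = θ := by
    simp [ι]
  have hπΩ : ((π : L.carrier) : Ω) ≠ 0 := by
    intro h0
    exact h.pi_ne_zero ϖ hϖ (Subtype.ext h0)
  have hιinj : Function.Injective ι := by
    rw [injective_iff_map_eq_zero]
    intro t ht
    by_contra ht0
    obtain ⟨n, u, hu⟩ := adjoinRoot_unif g hgmonic hgirr' π hπirr t ht0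
    rw [hu, map_mul, map_pow, hιof] at ht
    have hunit : IsUnit (ι (u : AdjoinRoot g)) := u.isUnit.map ι
    rcases mul_eq_zero.mp ht with h1 | h1
    · exact hπΩ (eq_zero_of_pow_eq_zero h1)
    · exact hunit.ne_zero h1
  -- the new lift
  let ψT : AdjoinRoot g →+* k' := AdjoinRoot.lift L.emb.toRingHom a hgroot
  have hψTof : ∀ s : L.carrier, ψT (AdjoinRoot.of g s) = L.emb s := fun s =>
    AdjoinRoot.lift_of hgroot
  have hψTroot : ψT (AdjoinRoot.root g) = a := AdjoinRoot.lift_root hgroot
  let e : AdjoinRoot g ≃ₐ[L.carrier] ι.range := AlgEquiv.ofInjective ι hιinj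
  have hecoe : ∀ t : AdjoinRoot g, ((e t : ι.range) : Ω) = ι t := fun t => rfl
  let S' : Subalgebra R Ω := ι.range.restrictScalars R
  let ψ'₀ : ι.range →+* k' := ψT.comp (e.symm : ι.range →+* AdjoinRoot g)
  let ψ' : S' →ₐ[R] k' :=
    { toRingHom := ψ'₀
      commutes' := by
        intro r
        have h1 : (algebraMap R S' r : S') = e (AdjoinRoot.of g (algebraMap R L.carrier r)) := by
          apply Subtype.ext
          rw [hecoe, hιof]
          rfl
        show ψT (e.symm (algebraMap R S' r : S')) = algebraMap R k' r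
        rw [h1, AlgEquiv.symm_apply_apply, hψTof, AlgHom.commutes] }
  have hψ'e : ∀ t : AdjoinRoot g, ψ' (e t : ι.range) = ψT t := by
    intro t
    show ψT (e.symm (e t)) = ψT t
    rw [AlgEquiv.symm_apply_apply]
  have hπ' : (algebraMap R S' ϖ : S') = e (AdjoinRoot.of g π) := by
    apply Subtype.ext
    rw [hecoe, hιof]
    rfl
  -- separability of θ
  have hθsep : IsSeparable K θ := by
    refine sep_of_root (K := K) (algebraMap L.carrier Ω)
      (FaithfulSMul.algebraMap_injective L.carrier Ω) (fun s => h.sep s.1 s.2) g hgmonic hgirr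
      hgder θ hθ
  have hsepι : ∀ t : AdjoinRoot g, ι t ∈ separableClosure K Ω := by
    intro t
    induction t using AdjoinRoot.induction_on with
    | ih q =>
      have : ι (AdjoinRoot.mk g q) = eval₂ (algebraMap L.carrier Ω) θ q := by
        simp [ι, AdjoinRoot.liftAlgHom]
      rw [this, eval₂_eq_sum_range]
      refine sum_mem (fun i _ => mul_mem ?_ (pow_mem ?_ i))
      · exact mem_separableClosure_iff.mpr (h.sep _ (q.coeff i).2)
      · exact mem_separableClosure_iff.mpr hθsep
  refine ⟨⟨S', ψ'⟩, ⟨?_, ?_, ?_⟩, ?_⟩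
  · -- sep
    rintro x ⟨t, rfl⟩
    exact mem_separableClosure_iff.mp (hsepι t)
  · -- unif
    intro x hx
    obtain ⟨t, rfl⟩ : ∃ t : AdjoinRoot g, (e t : ι.range) = x := ⟨e.symm x, e.apply_symm_apply x⟩
    have ht0 : t ≠ 0 := by
      rintro rfl
      exact hx (map_zero e)
    obtain ⟨n, u, hu⟩ := adjoinRoot_unif g hgmonic hgirr' π hπirr t ht0
    refine ⟨n, Units.map (e : AdjoinRoot g →+* ι.range).toMonoidHom u, ?_⟩
    apply Subtype.ext
    show ι t = (algebraMap R Ω ϖ) ^ n * ι (u : AdjoinRoot g)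
    rw [hu, map_mul, map_pow, hιof]
    rfl
  · -- ker
    intro x hx
    obtain ⟨t, rfl⟩ : ∃ t : AdjoinRoot g, (e t : ι.range) = x := ⟨e.symm x, e.apply_symm_apply x⟩
    have h1 : ψT t = 0 := by rw [← hψ'e]; exact hx
    obtain ⟨t', ht'⟩ := adjoinRoot_ker g hgmonic hgirr' π hπirr ψT t h1
    refine ⟨(e t' : ι.range), ?_⟩
    apply Subtype.ext
    show ι t = (algebraMap R Ω ϖ) * ι t'
    rw [ht', map_mul, hιof]
    rfl
  · -- strict
    have hle : L.carrier ≤ S' := by
      intro s hs
      exact ⟨AdjoinRoot.of g ⟨s, hs⟩, hιof ⟨s, hs⟩⟩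
    have hLL' : L ≤ (⟨S', ψ'⟩ : Lift R Ω k') := by
      refine ⟨hle, fun s => ?_⟩
      have h1 : (Subalgebra.inclusion hle s : S') = e (AdjoinRoot.of g s) := by
        apply Subtype.ext
        rw [hecoe, hιof]
        rfl
      show ψ' (Subalgebra.inclusion hle s) = L.emb s
      rw [h1, hψ'e, hψTof]
    refine lt_of_le_not_ge hLL' ?_
    rintro ⟨hle', hcompat⟩
    apply ha
    have hθmem : θ ∈ S' := ⟨AdjoinRoot.root g, hιroot⟩
    refine ⟨Subalgebra.inclusion hle' ⟨θ, hθmem⟩, ?_⟩
    rw [hcompat]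
    have h2 : (⟨θ, hθmem⟩ : S') = e (AdjoinRoot.root g) := by
      apply Subtype.ext
      rw [hecoe, hιroot]
    show ψ' ⟨θ, hθmem⟩ = a
    rw [h2, hψ'e, hψTroot]


include hϖ hker in
theorem exists_max [IsAlgClosed Ω]
    (halg : ∀ a : k', ∃ P : R[X], (∃ i, IsUnit (P.coeff i)) ∧ aeval a P = 0) :
    ∃ M : Lift R Ω k', Good K ϖ M ∧ Function.Surjective M.emb := by
  obtain ⟨M, -, hM⟩ := zorn_le_nonempty₀ {L : Lift R Ω k' | Good K ϖ L}
    (fun c hcs hc y hy => ⟨Lift.union c hc ⟨y, hy⟩,
      good_union K ϖ c hc ⟨y, hy⟩ (fun σ hσ => hcs hσ),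
      fun z hz => Lift.le_union c hc ⟨y, hy⟩ hz⟩)
    (botLift (R := R) (Ω := Ω) (k' := k') (K := K)) (good_botLift ϖ hϖ hker)
  refine ⟨M, hM.prop, ?_⟩
  intro a
  by_contra ha
  obtain ⟨L', hL', hlt⟩ := step ϖ hϖ hker halg M hM.prop a ha
  exact (not_le_of_gt hlt) (hM.le_of_ge hL' hlt.le)

end Main

theorem main_7898 (OK : Type u) [CommRing OK] [IsDomain OK] [IsDiscreteValuationRing OK]
    (k' : Type u) [Field k'] [Algebra (IsLocalRing.ResidueField OK) k']
    [Algebra.IsAlgebraic (IsLocalRing.ResidueField OK) k'] :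
    ∃ (OL : Type u) (_ : CommRing OL) (_ : IsDomain OL) (_ : IsDiscreteValuationRing OL)
      (φ : OK →+* OL),
      Function.Injective φ ∧ IsLocalHom φ ∧
      Ideal.map φ (IsLocalRing.maximalIdeal OK) = IsLocalRing.maximalIdeal OL ∧
      (∃ e : IsLocalRing.ResidueField OL ≃+* k',
        ∀ a : OK, e (IsLocalRing.residue OL (φ a)) =
          algebraMap (IsLocalRing.ResidueField OK) k' (IsLocalRing.residue OK a)) ∧
      ∀ x : OL, ∃ p : Polynomial OK,
        (p.map (algebraMap OK (FractionRing OK))).Separable ∧ Polynomial.eval₂ φ x p = 0 := by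
  classical
  letI : Algebra OK k' :=
    ((algebraMap (IsLocalRing.ResidueField OK) k').comp (IsLocalRing.residue OK)).toAlgebra
  have halgmap : ∀ r : OK, algebraMap OK k' r =
      algebraMap (IsLocalRing.ResidueField OK) k' (IsLocalRing.residue OK r) := fun r => rfl
  have hker : ∀ r : OK, algebraMap OK k' r = 0 ↔ r ∈ maximalIdeal OK := by
    intro r
    rw [halgmap, map_eq_zero, residue_eq_zero_iff]
  have halg : ∀ a : k', ∃ P : OK[X], (∃ i, IsUnit (P.coeff i)) ∧ aeval a P = 0 := by
    intro a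
    obtain ⟨p, hp0, hpa⟩ := Algebra.IsAlgebraic.isAlgebraic (R := IsLocalRing.ResidueField OK) a
    obtain ⟨P, rfl⟩ := Polynomial.map_surjective (residue OK) residue_surjective p
    obtain ⟨i, hi⟩ : ∃ i, (P.map (residue OK)).coeff i ≠ 0 := by
      by_contra hcon
      push Not at hcon
      exact hp0 (Polynomial.ext (fun i => by rw [hcon i, coeff_zero]))
    refine ⟨P, ⟨i, ?_⟩, ?_⟩
    · rw [coeff_map] at hi
      by_contra hnu
      exact hi ((residue_eq_zero_iff _).mpr ((mem_maximalIdeal _).mpr hnu))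
    · rw [aeval_def, eval₂_map] at hpa
      exact hpa
  obtain ⟨ϖ, hϖ⟩ := IsDiscreteValuationRing.exists_irreducible OK
  obtain ⟨M, hM, hsurj⟩ := exists_max (R := OK) (Ω := AlgebraicClosure (FractionRing OK))
    (k' := k') (K := FractionRing OK) ϖ hϖ hker halg
  haveI : IsDiscreteValuationRing M.carrier := hM.isDVR ϖ hϖ hker
  have hπirr := hM.irreducible_pi ϖ hϖ hker
  have hinjΩ : Function.Injective (algebraMap OK (AlgebraicClosure (FractionRing OK))) :=
    algebraMap_injective (K := FractionRing OK)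
  have hkerψ : ∀ x : M.carrier, M.emb.toRingHom x = 0 ↔ x ∈ maximalIdeal M.carrier := by
    intro x
    rw [hπirr.maximalIdeal_eq, Ideal.mem_span_singleton']
    constructor
    · intro hx
      obtain ⟨y, hy⟩ := hM.ker x hx
      exact ⟨y, by rw [hy, mul_comm]⟩
    · rintro ⟨y, rfl⟩
      show M.emb (y * _) = 0
      rw [map_mul, hM.emb_pi ϖ hϖ hker, mul_zero]
  haveI : IsLocalHom M.emb.toRingHom := ⟨fun x hx => by
    by_contra hnu
    have := (hkerψ x).mpr ((mem_maximalIdeal x).mpr hnu)
    rw [this] at hx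
    exact not_isUnit_zero hx⟩
  refine ⟨M.carrier, inferInstance, inferInstance, inferInstance, algebraMap OK M.carrier,
    ?_, ?_, ?_, ?_, ?_⟩
  · intro a b hab
    apply hinjΩ
    have := congrArg (algebraMap M.carrier (AlgebraicClosure (FractionRing OK))) hab
    rwa [← IsScalarTower.algebraMap_apply, ← IsScalarTower.algebraMap_apply] at this
  · refine ⟨fun a ha => ?_⟩
    by_contra hnu
    have h1 : algebraMap OK k' a = 0 := (hker a).mpr ((mem_maximalIdeal a).mpr hnu)
    have h2 : M.emb (algebraMap OK M.carrier a) = 0 := by rw [AlgHom.commutes, h1]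
    have h3 := ha.map M.emb
    rw [h2] at h3
    exact not_isUnit_zero h3
  · rw [hϖ.maximalIdeal_eq, Ideal.map_span, Set.image_singleton, hπirr.maximalIdeal_eq]
  · let ψ' : ResidueField M.carrier →+* k' := ResidueField.lift M.emb.toRingHom
    have hbij : Function.Bijective ψ' := by
      refine ⟨ψ'.injective, fun b => ?_⟩
      obtain ⟨x, hx⟩ := hsurj b
      exact ⟨residue M.carrier x, by
        rw [ResidueField.lift_residue_apply]; exact hx⟩
    refine ⟨RingEquiv.ofBijective ψ' hbij, fun a => ?_⟩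
    show ψ' (residue M.carrier (algebraMap OK M.carrier a)) = _
    rw [ResidueField.lift_residue_apply]
    show M.emb (algebraMap OK M.carrier a) = _
    rw [AlgHom.commutes, halgmap]
  · intro x
    have hsep : IsSeparable (FractionRing OK) (x : AlgebraicClosure (FractionRing OK)) :=
      hM.sep x.1 x.2
    set μ := minpoly (FractionRing OK) (x : AlgebraicClosure (FractionRing OK)) with hμ
    obtain ⟨b, hb, hbμ⟩ := IsLocalization.integerNormalization_spec (nonZeroDivisors OK) μ
    have hsmul : b • μ = C (algebraMap OK (FractionRing OK) b) * μ := by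
      rw [Algebra.smul_def]
      rfl
    refine ⟨IsLocalization.integerNormalization (nonZeroDivisors OK) μ, ?_, ?_⟩
    · rw [hbμ]
      have hb0 : algebraMap OK (FractionRing OK) b ≠ 0 := by
        intro h0
        exact nonZeroDivisors.ne_zero hb (IsFractionRing.injective OK (FractionRing OK)
          (by rw [h0, map_zero]))
      rw [hsmul]
      have hu : IsUnit (C (algebraMap OK (FractionRing OK) b)) :=
        Polynomial.isUnit_C.mpr (IsUnit.mk0 _ hb0)
      have hcop : IsCoprime (C (algebraMap OK (FractionRing OK) b)) μ := by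
        obtain ⟨u, hu'⟩ := hu
        exact ⟨↑u⁻¹, 0, by rw [← hu', zero_mul, add_zero, Units.inv_mul]⟩
      exact Separable.mul ((separable_C _).mpr (IsUnit.mk0 _ hb0)) hsep hcop
    · apply FaithfulSMul.algebraMap_injective M.carrier (AlgebraicClosure (FractionRing OK))
      rw [map_zero, Polynomial.hom_eval₂]
      have h1 : (algebraMap M.carrier (AlgebraicClosure (FractionRing OK))).comp
          (algebraMap OK M.carrier) =
          (algebraMap (FractionRing OK) (AlgebraicClosure (FractionRing OK))).comp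
            (algebraMap OK (FractionRing OK)) := by
        ext r
        simp only [RingHom.comp_apply]
        rw [← IsScalarTower.algebraMap_apply, ← IsScalarTower.algebraMap_apply]
      rw [h1, ← eval₂_map, hbμ, hsmul]
      have h2 : eval₂ (algebraMap (FractionRing OK) (AlgebraicClosure (FractionRing OK)))
          ((algebraMap M.carrier (AlgebraicClosure (FractionRing OK))) x)
          (C (algebraMap OK (FractionRing OK) b) * μ) =
          aeval (x : AlgebraicClosure (FractionRing OK))
            (C (algebraMap OK (FractionRing OK) b) * μ) := rfl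
      rw [h2, map_mul, hμ, minpoly.aeval, mul_zero]

end Groth.Agent.Lib.Helper26.DvrExt
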