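import Mathlib
import Groth.Prelude.Def_EtRam
import Groth.Agent.Lib.Helper26.TameSub

/-!
# `A[x]/(x^q + π h)` over a DVR `A` with uniformizer `π`, `deg h < q`, `h(0)` a unit (Eisenstein):
it is a totally ramified DVR.  (Generalises `Lib/Helper9/EisDVR.lean`, whose structure we follow.)
-/

set_option autoImplicit false
set_option linter.unusedVariables false
set_option linter.unusedSectionVars false
set_option linter.style.haveILetI false
set_option linter.unusedSimpArgs false
open Polynomial

namespace Groth.Agent.Lib.Helper26.EisGen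
universe u
variable {A : Type u} [CommRing A] [IsDomain A] [IsDiscreteValuationRing A] {π : A}
  (hπ : Irreducible π) (h : A[X]) {q : ℕ} (hq : h.natDegree < q) (hu : IsUnit (h.coeff 0))

/-- the Eisenstein polynomial -/
noncomputable def f (π : A) (h : A[X]) (q : ℕ) : A[X] := X ^ q + C π * h

include hq in
lemma degree_lt : (C π * h).degree < (q : WithBot ℕ) := by
  have h1 : (C π * h).degree ≤ h.degree := by
    refine (degree_mul_le _ _).trans ?_
    calc (C π).degree + h.degree ≤ 0 + h.degree := by gcongr; exact degree_C_le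
      _ = h.degree := zero_add _
  exact lt_of_le_of_lt (h1.trans degree_le_natDegree) (by exact_mod_cast hq)

include hq in
lemma f_monic : (f π h q).Monic := monic_X_pow_add (degree_lt h hq)

include hq in
lemma f_natDegree : (f π h q).natDegree = q := by
  unfold f
  rw [natDegree_add_eq_left_of_degree_lt, natDegree_X_pow]
  rw [degree_X_pow]
  exact degree_lt h hq

include hπ hq hu in
lemma irred : Irreducible (f π h q) := by
  have hq0 : q ≠ 0 := by omega
  have hmonic := f_monic (π := π) h hq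
  have hdeg := f_natDegree (π := π) h hq
  have hP : (Ideal.span {π}).IsPrime := by
    rw [Ideal.span_singleton_prime hπ.ne_zero]
    exact hπ.prime
  apply irreducible_of_eisenstein_criterion hP
  · rw [hmonic.leadingCoeff]
    intro h1
    exact hP.ne_top ((Ideal.eq_top_iff_one _).mpr h1)
  · intro m hm
    rw [degree_eq_natDegree hmonic.ne_zero, hdeg, Nat.cast_lt] at hm
    unfold f
    rw [coeff_add, coeff_X_pow, if_neg hm.ne, zero_add, coeff_C_mul]
    exact Ideal.mul_mem_right _ _ (Ideal.mem_span_singleton_self π)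
  · rw [degree_eq_natDegree hmonic.ne_zero, hdeg]
    exact_mod_cast Nat.pos_of_ne_zero hq0
  · unfold f
    rw [coeff_add, coeff_X_pow, if_neg (Ne.symm hq0), zero_add, coeff_C_mul,
      Ideal.span_singleton_pow, Ideal.mem_span_singleton]
    rintro ⟨c, hc⟩
    obtain ⟨u, hu'⟩ := hu
    rw [← hu'] at hc
    have h1 : π * ((u : A) - π * c) = 0 := by rw [mul_sub, hc]; ring
    rcases mul_eq_zero.mp h1 with h2 | h2
    · exact hπ.ne_zero h2
    · have h3 : π * (c * ((u⁻¹ : Aˣ) : A)) = 1 := by
        have : (u : A) = π * c := by linear_combination h2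
        calc π * (c * ((u⁻¹ : Aˣ) : A)) = (π * c) * ((u⁻¹ : Aˣ) : A) := by ring
          _ = (u : A) * ((u⁻¹ : Aˣ) : A) := by rw [this]
          _ = 1 := Units.mul_inv u
      exact hπ.not_isUnit (IsUnit.of_mul_eq_one _ h3)
  · exact hmonic.isPrimitive

lemma root_pow : (AdjoinRoot.root (f π h q)) ^ q =
    - (AdjoinRoot.of (f π h q) π * AdjoinRoot.mk (f π h q) h) := by
  have h1 := AdjoinRoot.mk_self (f := f π h q)
  unfold f at h1 ⊢
  rw [map_add, map_pow, AdjoinRoot.mk_X, map_mul, AdjoinRoot.mk_C] at h1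
  exact eq_neg_of_add_eq_zero_left h1

include hq in
lemma of_inj : Function.Injective (AdjoinRoot.of (f π h q)) := by
  apply AdjoinRoot.of.injective_of_degree_ne_zero
  rw [degree_eq_natDegree (f_monic h hq).ne_zero, f_natDegree h hq]
  exact_mod_cast (by omega : q ≠ 0)

lemma exists_decomp (z : AdjoinRoot (f π h q)) :
    ∃ (a : A) (w : AdjoinRoot (f π h q)),
      z = AdjoinRoot.of _ a + AdjoinRoot.root _ * w := by
  induction z using AdjoinRoot.induction_on with
  | ih g =>
    refine ⟨g.coeff 0, AdjoinRoot.mk _ g.divX, ?_⟩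
    conv_lhs => rw [← Polynomial.divX_mul_X_add g]
    rw [map_add, map_mul, AdjoinRoot.mk_X, AdjoinRoot.mk_C, add_comm, mul_comm]

lemma mk_h_decomp : AdjoinRoot.mk (f π h q) h =
    AdjoinRoot.of _ (h.coeff 0) + AdjoinRoot.root _ * AdjoinRoot.mk _ h.divX := by
  have h1 : AdjoinRoot.mk (f π h q) (h.divX * X + C (h.coeff 0)) =
      AdjoinRoot.of _ (h.coeff 0) + AdjoinRoot.root _ * AdjoinRoot.mk _ h.divX := by
    rw [map_add, map_mul, AdjoinRoot.mk_X, AdjoinRoot.mk_C, add_comm, mul_comm]
  rw [← h1, Polynomial.divX_mul_X_add h]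

include hq in
/-- the residue map `A' → A/(π)` -/
noncomputable def resid : AdjoinRoot (f π h q) →+* A ⧸ Ideal.span {π} :=
  AdjoinRoot.lift (Ideal.Quotient.mk _) 0 (by
    unfold f
    rw [eval₂_add, eval₂_pow, eval₂_X, eval₂_mul, eval₂_C, zero_pow (by omega), zero_add,
      Ideal.Quotient.eq_zero_iff_mem.mpr (Ideal.mem_span_singleton_self π), zero_mul])

lemma resid_of (a : A) : resid h hq (AdjoinRoot.of (f π h q) a) = Ideal.Quotient.mk _ a := by
  simp [resid]

lemma resid_root : resid h hq (AdjoinRoot.root (f π h q)) = 0 := by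
  simp [resid]

include hπ hq in
lemma root_mem_of_isMaximal (M : Ideal (AdjoinRoot (f π h q))) (hM : M.IsMaximal) :
    AdjoinRoot.root (f π h q) ∈ M := by
  have hmonic := f_monic (π := π) h hq
  have : Module.Finite A (AdjoinRoot (f π h q)) := hmonic.finite_adjoinRoot
  have hint : Algebra.IsIntegral A (AdjoinRoot (f π h q)) := Algebra.IsIntegral.of_finite _ _
  have h1 := Ideal.isMaximal_comap_of_isIntegral_of_isMaximal (R := A) M
  have h2 := IsLocalRing.eq_maximalIdeal h1
  have h3 : π ∈ Ideal.comap (algebraMap A (AdjoinRoot (f π h q))) M := by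
    rw [h2, hπ.maximalIdeal_eq]; exact Ideal.mem_span_singleton_self π
  rw [Ideal.mem_comap, AdjoinRoot.algebraMap_eq] at h3
  have h4 : (AdjoinRoot.root (f π h q)) ^ q ∈ M := by
    rw [root_pow]
    exact M.neg_mem (M.mul_mem_right _ h3)
  exact hM.isPrime.mem_of_pow_mem _ h4

include hπ hq hu in
lemma isUnit_mk_h : IsUnit (AdjoinRoot.mk (f π h q) h) := by
  by_contra hnu
  obtain ⟨M, hM, hmem⟩ := exists_max_ideal_of_mem_nonunits hnu
  have hroot := root_mem_of_isMaximal hπ h hq M hM
  rw [mk_h_decomp] at hmem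
  have h1 : AdjoinRoot.of (f π h q) (h.coeff 0) ∈ M := by
    have := M.sub_mem hmem (M.mul_mem_right (AdjoinRoot.mk _ h.divX) hroot)
    rwa [add_sub_cancel_right] at this
  exact hM.ne_top (Ideal.eq_top_of_isUnit_mem _ h1 (hu.map _))

include hπ hq hu in
lemma of_pi_mem : AdjoinRoot.of (f π h q) π ∈ Ideal.span {AdjoinRoot.root (f π h q)} := by
  obtain ⟨v, hv⟩ := isUnit_mk_h hπ h hq hu
  have h1 : AdjoinRoot.of (f π h q) π =
      AdjoinRoot.root (f π h q) * (- (AdjoinRoot.root (f π h q)) ^ (q - 1) * ((v⁻¹ : _ˣ) : AdjoinRoot (f π h q))) := by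
    have h2 : AdjoinRoot.root (f π h q) * (AdjoinRoot.root (f π h q)) ^ (q - 1) =
        (AdjoinRoot.root (f π h q)) ^ q := by
      rw [← pow_succ', Nat.sub_add_cancel (by omega)]
    calc AdjoinRoot.of (f π h q) π
        = AdjoinRoot.of (f π h q) π * ((v : AdjoinRoot (f π h q)) * ((v⁻¹ : _ˣ) : AdjoinRoot (f π h q))) := by
          rw [Units.mul_inv, mul_one]
      _ = - (- (AdjoinRoot.of (f π h q) π * AdjoinRoot.mk (f π h q) h)) * ((v⁻¹ : _ˣ) : AdjoinRoot (f π h q)) := by
          rw [hv]; ring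
      _ = - ((AdjoinRoot.root (f π h q)) ^ q) * ((v⁻¹ : _ˣ) : AdjoinRoot (f π h q)) := by rw [root_pow]
      _ = _ := by rw [← h2]; ring
  rw [h1]
  exact Ideal.mul_mem_right _ _ (Ideal.mem_span_singleton_self _)

include hπ hq hu in
lemma ker_resid : RingHom.ker (resid (π := π) h hq) = Ideal.span {AdjoinRoot.root (f π h q)} := by
  apply le_antisymm
  · intro z hz
    obtain ⟨a, w, rfl⟩ := exists_decomp h z
    rw [RingHom.mem_ker, map_add, map_mul, resid_root, zero_mul, add_zero, resid_of,
      Ideal.Quotient.eq_zero_iff_mem, Ideal.mem_span_singleton] at hz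
    obtain ⟨c, rfl⟩ := hz
    refine Ideal.add_mem _ ?_ (Ideal.mul_mem_right _ _ (Ideal.mem_span_singleton_self _))
    rw [map_mul]
    exact Ideal.mul_mem_right _ _ (of_pi_mem hπ h hq hu)
  · rw [Ideal.span_le, Set.singleton_subset_iff]
    exact resid_root h hq

lemma resid_surj : Function.Surjective (resid (π := π) h hq) := by
  intro y
  obtain ⟨a, rfl⟩ := Ideal.Quotient.mk_surjective y
  exact ⟨AdjoinRoot.of _ a, resid_of h hq a⟩

include hπ hq hu in
lemma span_root_isMaximal :
    (Ideal.span {AdjoinRoot.root (f π h q)}).IsMaximal := by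
  rw [← ker_resid hπ h hq hu]
  have : (Ideal.span {π}).IsMaximal := by
    rw [← hπ.maximalIdeal_eq]; infer_instance
  have : IsField (A ⧸ Ideal.span {π}) := (Ideal.Quotient.maximal_ideal_iff_isField_quotient _).mp this
  letI := this.toField
  exact RingHom.ker_isMaximal_of_surjective _ (resid_surj h hq)

include hπ hq hu in
lemma eq_span_root_of_isMaximal (M : Ideal (AdjoinRoot (f π h q))) (hM : M.IsMaximal) :
    M = Ideal.span {AdjoinRoot.root (f π h q)} := by
  symm
  apply (span_root_isMaximal hπ h hq hu).eq_of_le hM.ne_top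
  rw [Ideal.span_le, Set.singleton_subset_iff]
  exact root_mem_of_isMaximal hπ h hq M hM

include hπ hq hu in
lemma isLocalRing : IsLocalRing (AdjoinRoot (f π h q)) :=
  IsLocalRing.of_unique_max_ideal ⟨_, span_root_isMaximal hπ h hq hu,
    fun M hM => eq_span_root_of_isMaximal hπ h hq hu M hM⟩

include hπ hq hu in
lemma maximalIdeal_eq (hl : IsLocalRing (AdjoinRoot (f π h q))) :
    IsLocalRing.maximalIdeal (AdjoinRoot (f π h q)) =
      Ideal.span {AdjoinRoot.root (f π h q)} :=
  eq_span_root_of_isMaximal hπ h hq hu _ (IsLocalRing.maximalIdeal.isMaximal _)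

include hπ hq hu in
lemma isDomain : IsDomain (AdjoinRoot (f π h q)) :=
  AdjoinRoot.isDomain_of_prime (irred hπ h hq hu).prime

include hπ hq hu in
lemma root_ne_zero : AdjoinRoot.root (f π h q) ≠ 0 := by
  intro h0
  have h2 := of_pi_mem hπ h hq hu
  rw [h0, Ideal.mem_span_singleton, zero_dvd_iff] at h2
  exact hπ.ne_zero (of_inj h hq (by rw [h2, map_zero]))

include hπ hq hu in
lemma isDVR (hdom : IsDomain (AdjoinRoot (f π h q))) :
    IsDiscreteValuationRing (AdjoinRoot (f π h q)) := by
  haveI hloc : IsLocalRing (AdjoinRoot (f π h q)) := isLocalRing hπ h hq hu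
  have hnf : ¬ IsField (AdjoinRoot (f π h q)) := by
    rw [IsLocalRing.isField_iff_maximalIdeal_eq, maximalIdeal_eq hπ h hq hu hloc, Ideal.span_singleton_eq_bot]
    exact root_ne_zero hπ h hq hu
  have h4 : Submodule.IsPrincipal (IsLocalRing.maximalIdeal (AdjoinRoot (f π h q))) :=
    ⟨⟨_, maximalIdeal_eq hπ h hq hu hloc⟩⟩
  exact ((IsDiscreteValuationRing.TFAE _ hnf).out 0 4).mpr h4

section ram

variable [hdom : IsDomain (AdjoinRoot (f π h q))]
  [hdvr : IsDiscreteValuationRing (AdjoinRoot (f π h q))]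
  (K₁ : Type u) [Field K₁] [Algebra (AdjoinRoot (f π h q)) K₁]
  [IsFractionRing (AdjoinRoot (f π h q)) K₁]

variable (π q) in
/-- the canonical valuation subring -/
noncomputable def V₀ : ValuationSubring K₁ :=
  { (algebraMap (AdjoinRoot (f π h q)) K₁).range with
    mem_or_inv_mem' := fun x => by
      rcases ValuationRing.isInteger_or_isInteger (AdjoinRoot (f π h q)) x with h1 | h1
      · left; obtain ⟨a, ha⟩ := h1; exact ⟨a, ha⟩
      · right; obtain ⟨a, ha⟩ := h1; exact ⟨a, ha⟩ }

lemma mem_V₀ (x : K₁) : x ∈ V₀ π h q K₁ ↔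
    ∃ z, algebraMap (AdjoinRoot (f π h q)) K₁ z = x := Iff.rfl

include hq in
lemma algebraMap_mem (V : ValuationSubring K₁)
    (hV : EtRam.Dominates A ((algebraMap (AdjoinRoot (f π h q)) K₁).comp
      (algebraMap A (AdjoinRoot (f π h q)))) V) (z : AdjoinRoot (f π h q)) :
    algebraMap (AdjoinRoot (f π h q)) K₁ z ∈ V := by
  have hmonic := f_monic (π := π) h hq
  haveI : Module.Finite A (AdjoinRoot (f π h q)) := hmonic.finite_adjoinRoot
  letI : Algebra A K₁ := ((algebraMap (AdjoinRoot (f π h q)) K₁).comp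
      (algebraMap A (AdjoinRoot (f π h q)))).toAlgebra
  haveI : IsScalarTower A (AdjoinRoot (f π h q)) K₁ := IsScalarTower.of_algebraMap_eq (fun _ => rfl)
  have hint : IsIntegral A z := Algebra.IsIntegral.isIntegral z
  have hint' : IsIntegral A (algebraMap (AdjoinRoot (f π h q)) K₁ z) := hint.algebraMap
  exact TameSub.mem_of_isIntegral_of_le K₁ V (fun r => hV.1 r) _ hint'

include hπ hq in
/-- key: valuation of the root is < 1 for dominating `V`. -/
lemma val_root_lt (V : ValuationSubring K₁)
    (hV : EtRam.Dominates A ((algebraMap (AdjoinRoot (f π h q)) K₁).comp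
      (algebraMap A (AdjoinRoot (f π h q)))) V) :
    V.valuation (algebraMap (AdjoinRoot (f π h q)) K₁ (AdjoinRoot.root _)) < 1 := by
  by_contra hcon
  push Not at hcon
  have h1 := hV.2 π (by rw [hπ.maximalIdeal_eq]; exact Ideal.mem_span_singleton_self π)
  rw [RingHom.comp_apply, AdjoinRoot.algebraMap_eq] at h1
  have h2 : V.valuation (algebraMap (AdjoinRoot (f π h q)) K₁ (AdjoinRoot.mk (f π h q) h)) ≤ 1 :=
    (V.valuation_le_one_iff _).mpr (algebraMap_mem h hq K₁ V hV _)
  have h3 : V.valuation (algebraMap (AdjoinRoot (f π h q)) K₁ ((AdjoinRoot.root (f π h q)) ^ q)) < 1 := by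
    rw [root_pow, map_neg, Valuation.map_neg, map_mul, map_mul]
    calc _ ≤ V.valuation (algebraMap (AdjoinRoot (f π h q)) K₁ (AdjoinRoot.of (f π h q) π)) * 1 := by
          gcongr
      _ < 1 := by rw [mul_one]; exact h1
  rw [map_pow, map_pow] at h3
  exact absurd h3 (not_lt.mpr (one_le_pow₀ hcon))

include hπ hq hu in
lemma eq_V₀ (V : ValuationSubring K₁)
    (hV : EtRam.Dominates A ((algebraMap (AdjoinRoot (f π h q)) K₁).comp
      (algebraMap A (AdjoinRoot (f π h q)))) V) : V = V₀ π h q K₁ := by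
  apply le_antisymm
  · intro y hy
    by_contra hy0
    have hyne : y ≠ 0 := fun h0 => hy0 (h0 ▸ (V₀ π h q K₁).zero_mem)
    have hinv : y⁻¹ ∈ V₀ π h q K₁ := ((V₀ π h q K₁).mem_or_inv_mem y).resolve_left hy0
    obtain ⟨z, hz⟩ := hinv
    have hzu : ¬ IsUnit z := by
      intro hu'
      obtain ⟨u, rfl⟩ := hu'
      apply hy0
      refine ⟨((u⁻¹ : (AdjoinRoot (f π h q))ˣ) : AdjoinRoot (f π h q)), ?_⟩
      have : algebraMap (AdjoinRoot (f π h q)) K₁ ((u⁻¹ : (AdjoinRoot (f π h q))ˣ) :
          AdjoinRoot (f π h q)) * y⁻¹ = 1 := by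
        rw [← hz, ← map_mul, Units.inv_mul, map_one]
      exact eq_of_mul_inv_eq_one (by rw [this]) |>.trans (by simp)
    have hzm : z ∈ IsLocalRing.maximalIdeal (AdjoinRoot (f π h q)) := hzu
    rw [maximalIdeal_eq hπ h hq hu, Ideal.mem_span_singleton] at hzm
    obtain ⟨w, rfl⟩ := hzm
    have h1 : V.valuation y⁻¹ < 1 := by
      rw [← hz, map_mul, map_mul]
      exact mul_lt_one_of_nonneg_of_lt_one_left zero_le (val_root_lt hπ h hq K₁ V hV)
        ((V.valuation_le_one_iff _).mpr (algebraMap_mem h hq K₁ V hV w))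
    have h2 : V.valuation y ≤ 1 := (V.valuation_le_one_iff _).mpr hy
    have h3 : V.valuation y * V.valuation y⁻¹ = 1 := by
      rw [← map_mul, mul_inv_cancel₀ hyne, map_one]
    have : V.valuation y * V.valuation y⁻¹ < 1 := by
      calc V.valuation y * V.valuation y⁻¹ ≤ 1 * V.valuation y⁻¹ := by gcongr
        _ < 1 := by rwa [one_mul]
    exact absurd h3 this.ne
  · rintro y ⟨z, rfl⟩
    exact algebraMap_mem h hq K₁ V hV z

include hπ hq hu in
lemma dominates_V₀ : EtRam.Dominates A ((algebraMap (AdjoinRoot (f π h q)) K₁).comp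
      (algebraMap A (AdjoinRoot (f π h q)))) (V₀ π h q K₁) := by
  refine ⟨fun a => ⟨_, rfl⟩, fun a ha => ?_⟩
  have hmem : ((algebraMap (AdjoinRoot (f π h q)) K₁).comp
      (algebraMap A (AdjoinRoot (f π h q)))) a ∈ V₀ π h q K₁ := ⟨_, rfl⟩
  have := (V₀ π h q K₁).valuation_lt_one_iff ⟨_, hmem⟩
  rw [← this]
  change ¬ IsUnit _
  intro hu'
  obtain ⟨u, hu'⟩ := hu'
  obtain ⟨b, hb⟩ := ((u⁻¹ : (V₀ π h q K₁)ˣ) : V₀ π h q K₁).2
  have h1 : (u : V₀ π h q K₁) * ((u⁻¹ : (V₀ π h q K₁)ˣ) : V₀ π h q K₁) = 1 := u.mul_inv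
  have h2 := congrArg Subtype.val h1
  rw [hu'] at h2
  simp only [MulMemClass.coe_mul, OneMemClass.coe_one, ← hb, RingHom.comp_apply, ← map_mul] at h2
  have h3 : algebraMap A (AdjoinRoot (f π h q)) a * b = 1 :=
    IsFractionRing.injective (AdjoinRoot (f π h q)) K₁ (by rw [h2, map_one])
  have h5 : algebraMap A (AdjoinRoot (f π h q)) a ∈
      IsLocalRing.maximalIdeal (AdjoinRoot (f π h q)) := by
    rw [maximalIdeal_eq hπ h hq hu]
    rw [hπ.maximalIdeal_eq, Ideal.mem_span_singleton] at ha
    obtain ⟨c, rfl⟩ := ha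
    rw [map_mul, AdjoinRoot.algebraMap_eq]
    exact Ideal.mul_mem_right _ _ (of_pi_mem hπ h hq hu)
  exact h5 (IsUnit.of_mul_eq_one b h3)

include hπ hq hu in
lemma isTotallyRamified : EtRam.IsTotallyRamified A
    ((algebraMap (AdjoinRoot (f π h q)) K₁).comp
      (algebraMap A (AdjoinRoot (f π h q)))) := by
  refine ⟨⟨V₀ π h q K₁, dominates_V₀ hπ h hq hu K₁⟩, fun V V' hV hV' => ?_, fun V hV y => ?_⟩
  · rw [eq_V₀ hπ h hq hu K₁ V hV, eq_V₀ hπ h hq hu K₁ V' hV']
  · obtain ⟨y, rfl⟩ := IsLocalRing.residue_surjective y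
    have hy : (y : K₁) ∈ V₀ π h q K₁ := by rw [← eq_V₀ hπ h hq hu K₁ V hV]; exact y.2
    obtain ⟨z, hz⟩ := hy
    obtain ⟨a, w, rfl⟩ := exists_decomp h z
    refine ⟨a, ?_⟩
    symm
    change IsLocalRing.residue V y = IsLocalRing.residue V _
    rw [← sub_eq_zero, ← map_sub, IsLocalRing.residue_eq_zero_iff, V.valuation_lt_one_iff]
    have : ((y - RingHom.codRestrict _ V hV.1 a : V) : K₁) =
        algebraMap (AdjoinRoot (f π h q)) K₁ (AdjoinRoot.root _) *
          algebraMap (AdjoinRoot (f π h q)) K₁ w := by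
      rw [AddSubgroupClass.coe_sub, ← hz, map_add, map_mul]
      change _ + _ - (algebraMap (AdjoinRoot (f π h q)) K₁)
        (algebraMap A (AdjoinRoot (f π h q)) a) = _
      rw [AdjoinRoot.algebraMap_eq]
      ring
    rw [this, map_mul]
    exact mul_lt_one_of_nonneg_of_lt_one_left zero_le (val_root_lt hπ h hq K₁ V hV)
        ((V.valuation_le_one_iff _).mpr (algebraMap_mem h hq K₁ V hV w))

end ram

section Ext

variable (K : Type u) [Field K] [Algebra A K] [IsFractionRing A K]

include hπ hq hu in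
theorem exists_ext (hsep : derivative (f π h q) ≠ 0) :
    ∃ (L : Type u) (_ : Field L) (_ : Algebra K L) (_ : Algebra A L) (_ : IsScalarTower A K L)
      (ι : AdjoinRoot (f π h q) →+* L),
      (∀ a, ι (AdjoinRoot.of _ a) = algebraMap A L a) ∧ (∀ c, ι c ∈ integralClosure A L) ∧
      Module.finrank K L = q ∧ Algebra.IsSeparable K L ∧
      EtRam.IsTotallyRamified A (algebraMap A L) := by
  haveI hdom : IsDomain (AdjoinRoot (f π h q)) := isDomain hπ h hq hu
  haveI hdvr : IsDiscreteValuationRing (AdjoinRoot (f π h q)) := isDVR hπ h hq hu hdom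
  have hmonic := f_monic (π := π) h hq
  have hq0 : q ≠ 0 := by omega
  haveI : Module.Finite A (AdjoinRoot (f π h q)) := hmonic.finite_adjoinRoot
  have hinjAC : Function.Injective (algebraMap A (AdjoinRoot (f π h q))) := of_inj h hq
  have hinjAL : Function.Injective (algebraMap A (FractionRing (AdjoinRoot (f π h q)))) := by
    rw [IsScalarTower.algebraMap_eq A (AdjoinRoot (f π h q)) (FractionRing (AdjoinRoot (f π h q)))]
    exact (IsFractionRing.injective (AdjoinRoot (f π h q)) _).comp hinjAC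
  letI algKL : Algebra K (FractionRing (AdjoinRoot (f π h q))) :=
    (IsFractionRing.lift hinjAL : K →+* FractionRing (AdjoinRoot (f π h q))).toAlgebra
  haveI tower : IsScalarTower A K (FractionRing (AdjoinRoot (f π h q))) :=
    IsScalarTower.of_algebraMap_eq (fun a => (IsFractionRing.lift_algebraMap hinjAL a).symm)
  have hfinrank : Module.finrank K (FractionRing (AdjoinRoot (f π h q))) = q := by
    rw [IsFractionRing.finrank_eq A K (AdjoinRoot (f π h q)) (FractionRing (AdjoinRoot (f π h q))),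
      (AdjoinRoot.powerBasis' hmonic).finrank, AdjoinRoot.powerBasis'_dim, f_natDegree h hq]
  haveI hfin : FiniteDimensional K (FractionRing (AdjoinRoot (f π h q))) :=
    Module.finite_of_finrank_pos (by rw [hfinrank]; omega)
  refine ⟨FractionRing (AdjoinRoot (f π h q)), inferInstance, algKL, inferInstance, tower,
    algebraMap (AdjoinRoot (f π h q)) (FractionRing (AdjoinRoot (f π h q))), ?_, ?_, hfinrank, ?_, ?_⟩
  · intro a
    rw [← AdjoinRoot.algebraMap_eq, ← IsScalarTower.algebraMap_apply]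
  · intro c
    have hint : IsIntegral A c := Algebra.IsIntegral.isIntegral c
    exact hint.algebraMap
  · -- separability
    set ϖ : FractionRing (AdjoinRoot (f π h q)) :=
      algebraMap (AdjoinRoot (f π h q)) _ (AdjoinRoot.root (f π h q)) with hϖ
    have hirrK : Irreducible ((f π h q).map (algebraMap A K)) :=
      (hmonic.irreducible_iff_irreducible_map_fraction_map).mp (irred hπ h hq hu)
    have hsepK : ((f π h q).map (algebraMap A K)).Separable := by
      rw [separable_iff_derivative_ne_zero hirrK, derivative_map]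
      intro h0
      apply hsep
      exact Polynomial.map_injective _ (IsFractionRing.injective A K) (by rw [h0, Polynomial.map_zero])
    have haeval : aeval ϖ ((f π h q).map (algebraMap A K)) = 0 := by
      rw [aeval_map_algebraMap, hϖ, aeval_algebraMap_apply, AdjoinRoot.aeval_eq, AdjoinRoot.mk_self,
        map_zero]
    have hminpoly : (f π h q).map (algebraMap A K) = minpoly K ϖ :=
      minpoly.eq_of_irreducible_of_monic hirrK haeval (hmonic.map _)
    have hϖsep : IsSeparable K ϖ := by
      unfold IsSeparable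
      rw [← hminpoly]; exact hsepK
    have hϖint : IsIntegral K ϖ := hϖsep.isIntegral
    have htop : IntermediateField.adjoin K {ϖ} = ⊤ := by
      apply IntermediateField.eq_of_le_of_finrank_eq le_top
      rw [IntermediateField.adjoin.finrank hϖint, ← hminpoly, hmonic.natDegree_map,
        f_natDegree h hq, IntermediateField.finrank_top', hfinrank]
    haveI : Algebra.IsSeparable K (IntermediateField.adjoin K {ϖ}) :=
      (IntermediateField.isSeparable_adjoin_simple_iff_isSeparable K _).mpr hϖsep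
    constructor
    intro x
    exact IntermediateField.isSeparable_of_mem_isSeparable K _
      (L := IntermediateField.adjoin K {ϖ}) (by rw [htop]; trivial)
  · have := isTotallyRamified hπ h hq hu (FractionRing (AdjoinRoot (f π h q)))
    rwa [← IsScalarTower.algebraMap_eq] at this

end Ext

section S7157

theorem main_7157 (p : ℕ) (hp : p.Prime) (A K : Type u)
    [CommRing A] [IsDomain A] [IsDiscreteValuationRing A] [Field K] [Algebra A K] [IsFractionRing A K]
    [CharP (IsLocalRing.ResidueField A) p] (π : A) (hπ : IsLocalRing.maximalIdeal A = Ideal.span {π})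
    (n : ℕ) (hn : 1 < n) (k : ℕ) :
    ∃ (L : Type u) (_ : Field L) (_ : Algebra K L) (_ : Algebra A L) (_ : IsScalarTower A K L),
      Module.finrank K L = p ^ k ∧ Algebra.IsSeparable K L ∧ EtRam.IsTotallyRamified A (algebraMap A L) ∧
      ∃ πB b b' : L, πB ∈ integralClosure A L ∧ b ∈ integralClosure A L ∧ b' ∈ integralClosure A L ∧
        πB ^ (p ^ k) = algebraMap A L π + algebraMap A L π ^ n * b ∧
        πB ^ (p ^ k) = algebraMap A L π + πB ^ (n * p ^ k) * b' := by
  have hπirr : Irreducible π := (IsDiscreteValuationRing.irreducible_iff_uniformizer π).mpr hπ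
  rcases Nat.eq_zero_or_pos k with hk | hk
  · -- degree one
    subst hk
    have hq : (C (-1 : A)).natDegree < 1 := by rw [natDegree_C]; exact Nat.one_pos
    have hu : IsUnit ((C (-1 : A)).coeff 0) := by rw [coeff_C_zero]; exact isUnit_one.neg
    have hsep : derivative (f π (C (-1 : A)) 1) ≠ 0 := by
      unfold f
      rw [pow_one, derivative_add, derivative_X, derivative_mul, derivative_C, derivative_C, zero_mul,
        mul_zero, add_zero, add_zero]
      exact one_ne_zero
    obtain ⟨L, instF, algKL, algAL, tower, ι, hι, hint, hfin, hsepL, htr⟩ :=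
      exists_ext hπirr (C (-1 : A)) hq hu K hsep
    have hroot1 : AdjoinRoot.root (f π (C (-1 : A)) 1) = AdjoinRoot.of _ π := by
      have h1 := root_pow (π := π) (C (-1 : A)) (q := 1)
      rw [pow_one, AdjoinRoot.mk_C] at h1
      rw [h1, ← map_mul, mul_neg, mul_one]
      simp only [map_neg, neg_neg]
    refine ⟨L, instF, algKL, algAL, tower, by rw [pow_zero]; exact hfin, hsepL, htr,
      ι (AdjoinRoot.root _), 0, 0, hint _, Subalgebra.zero_mem _, Subalgebra.zero_mem _, ?_, ?_⟩
    · rw [pow_zero, pow_one, mul_zero, add_zero, ← hι, hroot1]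
    · rw [pow_zero, pow_one, mul_zero, add_zero, ← hι, hroot1]
  · -- degree q = p^k ≥ 2
    have hq2 : 2 ≤ p ^ k := by
      calc 2 ≤ p := hp.two_le
        _ = p ^ 1 := (pow_one p).symm
        _ ≤ p ^ k := Nat.pow_le_pow_right hp.pos hk
    set h : A[X] := -(C (π ^ (n - 1)) * X + 1) with hh
    have hnat : h.natDegree ≤ 1 := by
      rw [hh, natDegree_neg]
      refine (natDegree_add_le _ _).trans ?_
      rw [natDegree_one, max_le_iff]
      exact ⟨(natDegree_C_mul_le _ _).trans natDegree_X_le, Nat.zero_le _⟩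
    have hq : h.natDegree < p ^ k := lt_of_le_of_lt hnat hq2
    have hcoeff0 : h.coeff 0 = -1 := by
      rw [hh, coeff_neg, coeff_add, coeff_one_zero, mul_coeff_zero, coeff_X_zero, mul_zero, zero_add]
    have hu : IsUnit (h.coeff 0) := by rw [hcoeff0]; exact isUnit_one.neg
    have hsep : derivative (f π h (p ^ k)) ≠ 0 := by
      intro h0
      have h1 : (derivative (f π h (p ^ k))).coeff 0 = 0 := by rw [h0, coeff_zero]
      unfold f at h1
      rw [hh, derivative_add, derivative_X_pow, derivative_mul, derivative_C, zero_mul, zero_add,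
        derivative_neg, derivative_add, derivative_one, add_zero, derivative_C_mul, derivative_X,
        mul_one, coeff_add, coeff_C_mul, coeff_X_pow, if_neg (by omega), mul_zero,
        zero_add, mul_neg, ← C_mul, coeff_neg, coeff_C_zero, neg_eq_zero, ← pow_succ',
        Nat.sub_add_cancel (by omega)] at h1
      exact hπirr.ne_zero (pow_eq_zero_iff (by omega) |>.mp h1)
    obtain ⟨L, instF, algKL, algAL, tower, ι, hι, hint, hfin, hsepL, htr⟩ :=
      exists_ext hπirr h hq hu K hsep
    -- the unit ε = -h(root) = 1 + π^(n-1) root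
    obtain ⟨v, hv⟩ := isUnit_mk_h hπirr h hq hu
    have hmk : AdjoinRoot.mk (f π h (p ^ k)) h =
        -(AdjoinRoot.of _ (π ^ (n - 1)) * AdjoinRoot.root _ + 1) := by
      rw [hh, map_neg, map_add, map_mul, AdjoinRoot.mk_C, AdjoinRoot.mk_X, map_one]
    have hroot1 : (AdjoinRoot.root (f π h (p ^ k))) ^ (p ^ k) =
        AdjoinRoot.of _ π + (AdjoinRoot.of _ π) ^ n * AdjoinRoot.root _ := by
      rw [root_pow, hmk, map_pow]
      have : (AdjoinRoot.of (f π h (p ^ k)) π) ^ n =
          AdjoinRoot.of (f π h (p ^ k)) π * (AdjoinRoot.of (f π h (p ^ k)) π) ^ (n - 1) := by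
        rw [← pow_succ', Nat.sub_add_cancel (by omega)]
      rw [this]; ring
    have hroot2 : (AdjoinRoot.root (f π h (p ^ k))) ^ (p ^ k) =
        - (AdjoinRoot.of _ π * (v : AdjoinRoot (f π h (p ^ k)))) := by
      rw [root_pow, hv]
    -- of π = root^q * (-v⁻¹)
    have hofπ : AdjoinRoot.of (f π h (p ^ k)) π =
        (AdjoinRoot.root (f π h (p ^ k))) ^ (p ^ k) * (-((v⁻¹ : _ˣ) : AdjoinRoot (f π h (p ^ k)))) := by
      rw [hroot2]
      calc AdjoinRoot.of (f π h (p ^ k)) π
          = AdjoinRoot.of (f π h (p ^ k)) π * ((v : AdjoinRoot (f π h (p ^ k))) * ((v⁻¹ : _ˣ) : AdjoinRoot (f π h (p ^ k)))) := by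
            rw [Units.mul_inv, mul_one]
        _ = _ := by ring
    refine ⟨L, instF, algKL, algAL, tower, hfin, hsepL, htr,
      ι (AdjoinRoot.root _), ι (AdjoinRoot.root _),
      ι ((-((v⁻¹ : _ˣ) : AdjoinRoot (f π h (p ^ k)))) ^ n * AdjoinRoot.root _),
      hint _, hint _, hint _, ?_, ?_⟩
    · rw [← hι, ← map_pow, ← map_pow, ← map_mul, ← map_add, hroot1]
    · rw [← hι, ← map_pow, ← map_pow, ← map_mul, ← map_add]
      congr 1
      rw [hroot1]
      congr 1
      conv_lhs => rw [hofπ]
      rw [mul_pow, ← pow_mul, mul_comm (p ^ k) n]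
      ring

end S7157

end Groth.Agent.Lib.Helper26.EisGen
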