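import Mathlib
import Groth.Prelude.Def_EtRam
import Groth.Agent.Lib.Helper26.EisTame
import Groth.Agent.Lib.Helper25.HenselFinite
import Groth.Agent.S0498

set_option autoImplicit false
set_option linter.unusedVariables false
set_option linter.style.haveILetI false
set_option linter.unusedSectionVars false
set_option linter.unusedSimpArgs false

universe u

namespace Groth.Agent.Lib.Helper26.EisHens

open IsLocalRing Polynomial Groth.Agent.Lib.Helper26 Groth.Agent.Lib.Helper26.Monog
  Groth.Agent.Lib.Helper26.ValBasis Groth.Agent.Lib.Helper26.ASCaseAC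

section H

variable {A K L : Type u} [CommRing A] [IsDomain A] [IsDiscreteValuationRing A] [Field K]
  [Algebra A K] [IsFractionRing A K] [Field L] [Algebra K L] [FiniteDimensional K L]

theorem finite_of_structure (e : ℕ) (V : ValuationSubring L)
    (hV : EtRam.Dominates A (gAL A K L) V) (ϖ : L) (hϖ : ϖ ∈ V)
    (hdesc : ∀ x : L, x ∈ V → ∃ c : Fin e → A, x = ∑ j, gAL A K L (c j) * ϖ ^ (j : ℕ)) :
    letI : Algebra A V := (RingHom.codRestrict (gAL A K L) V hV.1).toAlgebra
    Module.Finite A V := by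
  letI : Algebra A V := (RingHom.codRestrict (gAL A K L) V hV.1).toAlgebra
  let ϖV : V := ⟨ϖ, hϖ⟩
  let φ : (Fin e → A) →ₗ[A] V := Fintype.linearCombination A (fun j : Fin e => ϖV ^ (j : ℕ))
  apply Module.Finite.of_surjective φ
  intro x
  obtain ⟨c, hc⟩ := hdesc x.1 x.2
  refine ⟨c, ?_⟩
  apply Subtype.ext
  rw [hc]
  show ((Fintype.linearCombination A (fun j : Fin e => ϖV ^ (j : ℕ)) c : V) : L) = _
  rw [Fintype.linearCombination_apply]
  rw [show ((∑ i, c i • ϖV ^ (i : ℕ) : V) : L) = V.subtype (∑ i, c i • ϖV ^ (i : ℕ)) from rfl,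
    map_sum]
  refine Finset.sum_congr rfl (fun j _ => ?_)
  rw [Algebra.smul_def, map_mul, map_pow]
  rfl

theorem exists_root_unit [HenselianLocalRing A] [IsAlgClosed (ResidueField A)]
    (V : ValuationSubring L) (hV : EtRam.Dominates A (gAL A K L) V)
    (hfin : letI : Algebra A V := (RingHom.codRestrict (gAL A K L) V hV.1).toAlgebra
      Module.Finite A V)
    (hsurj : Function.Surjective
      (fun a : A => residue V (RingHom.codRestrict (gAL A K L) V hV.1 a)))
    (e : ℕ) (he0 : 0 < e) (he : (e : ResidueField A) ≠ 0) (w : V) (hw : IsUnit w) :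
    ∃ t : V, t ^ e = w := by
  letI : Algebra A V := (RingHom.codRestrict (gAL A K L) V hV.1).toAlgebra
  haveI : Module.Finite A V := hfin
  haveI : HenselianLocalRing V := Groth.Agent.Lib.Helper25.henselianLocalRing_of_finite A V
  set ι : A →+* V := RingHom.codRestrict (gAL A K L) V hV.1 with hι
  have hιm : ∀ a ∈ maximalIdeal A, ι a ∈ maximalIdeal V := by
    intro a ha
    rw [ValuationSubring.valuation_lt_one_iff]
    exact hV.2 a ha
  obtain ⟨c, hc⟩ := hsurj (residue V w)
  obtain ⟨dbar, hdbar⟩ := IsAlgClosed.exists_pow_nat_eq (residue A c) he0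
  obtain ⟨d, rfl⟩ := residue_surjective dbar
  set a₀ : ResidueField V := residue V (ι d) with ha₀
  have ha₀e : a₀ ^ e = residue V w := by
    rw [ha₀, ← map_pow, ← map_pow, ← hc]
    show residue V (ι (d ^ e)) = residue V (ι c)
    rw [← sub_eq_zero, ← map_sub, ← map_sub, residue_eq_zero_iff]
    apply hιm
    rw [← residue_eq_zero_iff, map_sub, map_pow, hdbar, sub_self]
  have hwres : residue V w ≠ 0 := (hw.map (residue V)).ne_zero
  have ha₀0 : a₀ ≠ 0 := by
    intro h0
    rw [h0, zero_pow he0.ne'] at ha₀e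
    exact hwres ha₀e.symm
  have heV : (e : ResidueField V) ≠ 0 := by
    have h1 : IsUnit ((e : ℕ) : A) := by
      by_contra hnu
      have : ((e : ℕ) : A) ∈ maximalIdeal A := (mem_maximalIdeal _).mpr hnu
      apply he
      rw [← map_natCast (residue A)]
      exact (residue_eq_zero_iff _).mpr this
    have h2 : IsUnit (residue V (ι ((e : ℕ) : A))) := (h1.map ι).map (residue V)
    rw [map_natCast, map_natCast] at h2
    exact h2.ne_zero
  obtain ⟨t, ht, _⟩ := Groth.Agent.S0498.result V (X ^ e - C w) a₀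
    (by rw [eval₂_sub, eval₂_pow, eval₂_X, eval₂_C, ha₀e, sub_self])
    (by
      rw [derivative_sub, derivative_C, sub_zero, derivative_X_pow, eval₂_mul, eval₂_pow, eval₂_X,
        eval₂_C, map_natCast]
      exact mul_ne_zero heV (pow_ne_zero _ ha₀0))
  refine ⟨t, ?_⟩
  rw [IsRoot.def, eval_sub, eval_pow, eval_X, eval_C, sub_eq_zero] at ht
  exact ht

/-- lifting a primitive root of unity -/
theorem exists_primitiveRoot [HenselianLocalRing A] [IsAlgClosed (ResidueField A)]
    (e : ℕ) (he0 : 0 < e) (he : (e : ResidueField A) ≠ 0) :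
    ∃ ζ : A, IsPrimitiveRoot ζ e := by
  haveI : NeZero (e : ResidueField A) := ⟨he⟩
  obtain ⟨ζbar, hζbar⟩ := HasEnoughRootsOfUnity.exists_primitiveRoot (ResidueField A) e
  obtain ⟨ζ, hζ, hres⟩ := Groth.Agent.S0498.result A (X ^ e - C 1) ζbar
    (by rw [eval₂_sub, eval₂_pow, eval₂_X, eval₂_C, hζbar.pow_eq_one, map_one, sub_self])
    (by
      rw [derivative_sub, derivative_C, sub_zero, derivative_X_pow, eval₂_mul, eval₂_pow, eval₂_X,
        eval₂_C, map_natCast]
      exact mul_ne_zero he (pow_ne_zero _ (hζbar.ne_zero he0.ne')))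
  rw [IsRoot.def, eval_sub, eval_pow, eval_X, eval_C, sub_eq_zero] at hζ
  refine ⟨ζ, ⟨hζ, fun l hl => ?_⟩⟩
  apply hζbar.dvd_of_pow_eq_one
  rw [← hres, ← map_pow, hl, map_one]

end H

end Groth.Agent.Lib.Helper26.EisHens
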