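import Mathlib
import Groth.Agent.Lib.Helper2.FunFld.OrdIndep
import Groth.Agent.Lib.Helper26.Hyp1
import Groth.Agent.Lib.Helper2.FunFld.Const

set_option autoImplicit false
set_option linter.style.haveILetI false
open scoped WithZero IntermediateField
open FunFld Polynomial
open Groth.Agent.Lib.Helper2.FF

namespace Groth.Agent.Lib.Helper26.EA

variable {k K : Type*} [Field k] [Field K] [Algebra k K]

theorem place_ext {P Q : FunFld.Place k K} (h : ∀ z, Q.1 z = P.1 z) : Q = P :=
  Subtype.ext (Valuation.ext h)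

/-- an automorphism preserving the valuation of `P` preserves `L(nP)` -/
theorem map_mem_L_single {P : FunFld.Place k K} (σ : K ≃ₐ[k] K) (hσ : ∀ z, P.1 (σ z) = P.1 z)
    (n : ℤ) {z : K} (hz : z ∈ L (Finsupp.single P n : Divisor k K)) :
    σ z ∈ L (Finsupp.single P n : Divisor k K) := by
  classical
  intro Q
  by_cases hQ : Q = P
  · subst hQ; rw [hσ]; exact hz Q
  · have hQ' : comapPlace σ Q ≠ P := by
      intro h
      apply hQ
      apply place_ext
      intro w
      have h1 : (comapPlace σ Q).1 (σ.symm w) = P.1 (σ.symm w) := by rw [h]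
      have h2 : (comapPlace σ Q).1 (σ.symm w) = Q.1 w := by
        change Q.1 (σ (σ.symm w)) = _
        rw [AlgEquiv.apply_symm_apply]
      rw [← h2, h1, ← hσ, AlgEquiv.apply_symm_apply]
    have h3 := hz (comapPlace σ Q)
    rw [Finsupp.single_apply, if_neg (Ne.symm hQ')] at h3
    rw [Finsupp.single_apply, if_neg (Ne.symm hQ)]
    exact h3

theorem ord_map {P : FunFld.Place k K} (σ : K ≃ₐ[k] K) (hσ : ∀ z, P.1 (σ z) = P.1 z) (z : K) :
    P.ord (σ z) = P.ord z := by
  unfold FunFld.Place.ord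
  rw [hσ]

/-- an element with a pole is transcendental -/
theorem transcendental_of_ord_ne_zero (P : FunFld.Place k K) {x : K} (hx : P.ord x ≠ 0) :
    Transcendental k x := by
  intro halg
  have hx0 : x ≠ 0 := ord_ne_zero_imp_ne_zero P hx
  have h1 := w_eq_one_of_isAlgebraic (v P) P.2.1 halg hx0
  exact hx ((v_eq_one_iff P hx0).1 h1)

section Weier

variable (hK : IsFunctionField k K) (hgen : genus k K = 1) (P : FunFld.Place k K)
  (hP : P.deg = 1) {x y : K}
  (hx : x ∈ L (Finsupp.single P 2 : Divisor k K)) (hx2 : P.ord x = -2)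
  (hy : y ∈ L (Finsupp.single P 3 : Divisor k K)) (hy3 : P.ord y = -3)

include hK hgen hP hx hx2 hy hy3

theorem mem_L_two {z : K} (hz : z ∈ L (Finsupp.single P 2 : Divisor k K)) :
    ∃ β α : k, z = algebraMap k K β + algebraMap k K α * x := by
  have h := (basis_L_genus_one hK hgen P hP x y hx hx2 hy hy3 2 le_rfl).2
  have h' : Submodule.span k (Set.range
      (Sum.elim (fun i : Fin 2 => x ^ (i : ℕ)) (fun i : Fin 0 => x ^ (i : ℕ) * y))) =
        L (Finsupp.single P ((2 : ℕ) : ℤ) : Divisor k K) := h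
  have hz' : z ∈ Submodule.span k (Set.range
      (Sum.elim (fun i : Fin 2 => x ^ (i : ℕ)) (fun i : Fin 0 => x ^ (i : ℕ) * y))) := by
    rw [h']; exact hz
  rw [Submodule.mem_span_range_iff_exists_fun] at hz'
  obtain ⟨c, hc⟩ := hz'
  refine ⟨c (Sum.inl 0), c (Sum.inl 1), ?_⟩
  rw [← hc, Fintype.sum_sum_type]
  simp [Fin.sum_univ_two, Algebra.smul_def]

theorem mem_L_three {z : K} (hz : z ∈ L (Finsupp.single P 3 : Divisor k K)) :
    ∃ ε δ γ : k, z = algebraMap k K ε + algebraMap k K δ * x + algebraMap k K γ * y := by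
  have h := (basis_L_genus_one hK hgen P hP x y hx hx2 hy hy3 3 (by norm_num)).2
  have h' : Submodule.span k (Set.range
      (Sum.elim (fun i : Fin 2 => x ^ (i : ℕ)) (fun i : Fin 1 => x ^ (i : ℕ) * y))) =
        L (Finsupp.single P ((3 : ℕ) : ℤ) : Divisor k K) := h
  have hz' : z ∈ Submodule.span k (Set.range
      (Sum.elim (fun i : Fin 2 => x ^ (i : ℕ)) (fun i : Fin 1 => x ^ (i : ℕ) * y))) := by
    rw [h']; exact hz
  rw [Submodule.mem_span_range_iff_exists_fun] at hz'
  obtain ⟨c, hc⟩ := hz'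
  refine ⟨c (Sum.inl 0), c (Sum.inl 1), c (Sum.inr 0), ?_⟩
  rw [← hc, Fintype.sum_sum_type]
  simp [Fin.sum_univ_two, Algebra.smul_def]

/-- linear independence of `1, x, x², x³, y, xy` in the form used below -/
theorem coeffs_eq_zero {c0 c1 c2 c3 c4 c5 : k}
    (h : algebraMap k K c0 + algebraMap k K c1 * x + algebraMap k K c2 * x ^ 2
      + algebraMap k K c3 * x ^ 3 + algebraMap k K c4 * y + algebraMap k K c5 * (x * y) = 0) :
    c0 = 0 ∧ c1 = 0 ∧ c2 = 0 ∧ c3 = 0 ∧ c4 = 0 ∧ c5 = 0 := by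
  have hli := (basis_L_genus_one hK hgen P hP x y hx hx2 hy hy3 6 (by norm_num)).1
  have hli' : LinearIndependent k
      (Sum.elim (fun i : Fin 4 => x ^ (i : ℕ)) (fun i : Fin 2 => x ^ (i : ℕ) * y)) := hli
  rw [Fintype.linearIndependent_iff] at hli'
  have := hli' (Sum.elim ![c0, c1, c2, c3] ![c4, c5]) (by
    rw [Fintype.sum_sum_type]
    simp [Fin.sum_univ_four, Fin.sum_univ_two, Algebra.smul_def]
    linear_combination h)
  refine ⟨this (Sum.inl 0), this (Sum.inl 1), this (Sum.inl 2), this (Sum.inl 3),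
    this (Sum.inr 0), this (Sum.inr 1)⟩

end Weier

end Groth.Agent.Lib.Helper26.EA
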