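import Mathlib
import Groth.Agent.Lib.Helper26.EllAut1

set_option autoImplicit false
set_option linter.style.haveILetI false
open scoped WithZero IntermediateField
open FunFld Polynomial
open Groth.Agent.Lib.Helper2.FF

namespace Groth.Agent.Lib.Helper26.EA

variable {k K : Type*} [Field k] [Field K] [Algebra k K]


section Weier

variable (hK : IsFunctionField k K) (hgen : genus k K = 1) (P : FunFld.Place k K)
  (hP : P.deg = 1) {x y : K}
  (hx : x ∈ L (Finsupp.single P 2 : Divisor k K)) (hx2 : P.ord x = -2)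
  (hy : y ∈ L (Finsupp.single P 3 : Divisor k K)) (hy3 : P.ord y = -3)

include hK hgen hP hx hx2 hy hy3

/-- an automorphism fixing `P` acts as `x ↦ u²x`, `y ↦ u³y` -/
theorem exists_scalar (h2 : (2 : k) ≠ 0) (h3 : (3 : k) ≠ 0) {a b : k}
    (heq : y ^ 2 = x ^ 3 + algebraMap k K a * x + algebraMap k K b)
    (σ : K ≃ₐ[k] K) (hσ : ∀ z, P.1 (σ z) = P.1 z) :
    ∃ u : k, u ≠ 0 ∧ a * (u ^ 4 - 1) = 0 ∧ b * (u ^ 6 - 1) = 0 ∧
      σ x = algebraMap k K (u ^ 2) * x ∧ σ y = algebraMap k K (u ^ 3) * y := by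
  obtain ⟨β, α, hσx⟩ := mem_L_two hK hgen P hP hx hx2 hy hy3 (map_mem_L_single σ hσ 2 hx)
  obtain ⟨ε, δ, γ, hσy⟩ := mem_L_three hK hgen P hP hx hx2 hy hy3 (map_mem_L_single σ hσ 3 hy)
  have hα : α ≠ 0 := by
    rintro rfl
    have h1 : P.ord (σ x) = -2 := by rw [ord_map σ hσ, hx2]
    rw [hσx, map_zero, zero_mul, add_zero, ord_algebraMap] at h1
    omega
  have hσeq : (σ y) ^ 2 = (σ x) ^ 3 + algebraMap k K a * σ x + algebraMap k K b := by
    have := congrArg σ heq
    simpa only [map_pow, map_add, map_mul, AlgEquiv.commutes] using this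
  rw [hσx, hσy] at hσeq
  obtain ⟨e0, e1, e2, e3, e4, e5⟩ := coeffs_eq_zero hK hgen P hP hx hx2 hy hy3
    (c0 := ε ^ 2 + γ ^ 2 * b - β ^ 3 - a * β - b)
    (c1 := 2 * ε * δ + γ ^ 2 * a - 3 * β ^ 2 * α - a * α)
    (c2 := δ ^ 2 - 3 * β * α ^ 2) (c3 := γ ^ 2 - α ^ 3) (c4 := 2 * ε * γ) (c5 := 2 * δ * γ) (by
      simp only [map_sub, map_add, map_mul, map_pow, map_ofNat]
      linear_combination hσeq - (algebraMap k K γ) ^ 2 * heq)
  have hγ : γ ≠ 0 := by
    rintro rfl
    apply hα
    have : α ^ 3 = 0 := by linear_combination -e3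
    exact pow_eq_zero_iff (by norm_num) |>.1 this
  have hε : ε = 0 := by
    have : ε * (2 * γ) = 0 := by linear_combination e4
    exact (mul_eq_zero.1 this).resolve_right (mul_ne_zero h2 hγ)
  have hδ : δ = 0 := by
    have : δ * (2 * γ) = 0 := by linear_combination e5
    exact (mul_eq_zero.1 this).resolve_right (mul_ne_zero h2 hγ)
  have hβ : β = 0 := by
    have : β * (3 * α ^ 2) = 0 := by
      rw [hδ] at e2
      linear_combination -e2
    exact (mul_eq_zero.1 this).resolve_right (mul_ne_zero h3 (pow_ne_zero _ hα))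
  subst hε hδ hβ
  have hu2 : (γ / α) ^ 2 = α := by
    field_simp
    linear_combination e3
  have hu3 : (γ / α) ^ 3 = γ := by
    rw [pow_succ, hu2]
    field_simp
  refine ⟨γ / α, div_ne_zero hγ hα, ?_, ?_, ?_, ?_⟩
  · have h4 : (γ / α) ^ 4 = α ^ 2 := by
      rw [show (4 : ℕ) = 2 * 2 from rfl, pow_mul, hu2]
    rw [h4]
    have : α * (a * (α ^ 2 - 1)) = 0 := by
      linear_combination e1 - a * e3
    exact (mul_eq_zero.1 this).resolve_left hα
  · have h6 : (γ / α) ^ 6 = γ ^ 2 := by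
      rw [show (6 : ℕ) = 3 * 2 from rfl, pow_mul, hu3]
    rw [h6]
    linear_combination e0
  · rw [hu2, hσx]; simp
  · rw [hu3, hσy]; simp

end Weier



section Exist

variable {x y : K}

/-- `k`-algebra endomorphisms of `K = k(x, y)` agreeing on `x` and `y` are equal -/
theorem algHom_ext_xy (hxy : IntermediateField.adjoin k ({x, y} : Set K) = ⊤) {φ ψ : K →ₐ[k] K}
    (h1 : φ x = ψ x) (h2 : φ y = ψ y) : φ = ψ := by
  ext z
  have hz : z ∈ IntermediateField.adjoin k ({x, y} : Set K) := hxy ▸ IntermediateField.mem_top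
  induction hz using IntermediateField.adjoin_induction with
  | mem z hz =>
    rcases hz with rfl | rfl
    exacts [h1, h2]
  | algebraMap c => simp
  | add a b _ _ ha hb => rw [map_add, map_add, ha, hb]
  | inv a _ ha => rw [map_inv₀, map_inv₀, ha]
  | mul a b _ _ ha hb => rw [map_mul, map_mul, ha, hb]

theorem transcendental_smul (hx : Transcendental k x) {c : k} (hc : c ≠ 0) :
    Transcendental k (algebraMap k K c * x) := by
  intro h
  apply hx
  have h1 : IsAlgebraic k (algebraMap k K c⁻¹ * (algebraMap k K c * x)) :=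
    (isAlgebraic_algebraMap c⁻¹).mul h
  rwa [← mul_assoc, ← map_mul, inv_mul_cancel₀ hc, map_one, one_mul] at h1

/-- the endomorphism `x ↦ u²x`, `y ↦ u³y` -/
theorem exists_algHom (hxy : IntermediateField.adjoin k ({x, y} : Set K) = ⊤)
    (hx : Transcendental k x) (hy : y ∉ k⟮x⟯) {a b u : k} (hu : u ≠ 0)
    (ha : a * (u ^ 4 - 1) = 0) (hb : b * (u ^ 6 - 1) = 0)
    (heq : y ^ 2 = x ^ 3 + algebraMap k K a * x + algebraMap k K b) :
    ∃ σ : K →ₐ[k] K, σ x = algebraMap k K (u ^ 2) * x ∧ σ y = algebraMap k K (u ^ 3) * y := by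
  have hFy := Hyp.adjoin_y_eq_top hxy
  set x' : K := algebraMap k K (u ^ 2) * x with hx'def
  have hx' : Transcendental k x' := transcendental_smul hx (pow_ne_zero _ hu)
  let g : k⟮x⟯ := IntermediateField.AdjoinSimple.gen k x
  have hg : (g : K) = x := IntermediateField.AdjoinSimple.coe_gen k x
  let c : k⟮x⟯ := g ^ 3 + algebraMap k k⟮x⟯ a * g + algebraMap k k⟮x⟯ b
  have hc : (c : K) = x ^ 3 + algebraMap k K a * x + algebraMap k K b := by
    simp [c, hg]
  have hy2 : y ^ 2 = (c : K) := by rw [hc, heq]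
  -- the map on `k(x)`
  let e₁ : RatFunc k ≃ₐ[k] k⟮x⟯ := RatFunc.algEquivOfTranscendental x hx
  let e₂ : RatFunc k ≃ₐ[k] k⟮x'⟯ := RatFunc.algEquivOfTranscendental x' hx'
  let i : k⟮x⟯ →ₐ[k] K := (k⟮x'⟯).val.comp ((e₂ : RatFunc k →ₐ[k] k⟮x'⟯).comp
    (e₁.symm : k⟮x⟯ →ₐ[k] RatFunc k))
  have hig : i g = x' := by
    change ((e₂ (e₁.symm g) : k⟮x'⟯) : K) = x'
    have h1 : e₁.symm g = RatFunc.X := RatFunc.algEquivOfTranscendental_symm_gen x hx
    rw [h1]
    exact RatFunc.algEquivOfTranscendental_X x' hx'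
  have hic : i c = x' ^ 3 + algebraMap k K a * x' + algebraMap k K b := by
    simp only [c, map_add, map_mul, map_pow, hig, AlgHom.commutes]
  -- the minimal polynomial
  let q : (k⟮x⟯)[X] := X ^ 2 - C c
  have hqm : q.Monic := monic_X_pow_sub_C c (by norm_num)
  have hqy : aeval y q = 0 := by
    simp only [q, map_sub, map_pow, aeval_X, aeval_C]
    rw [hy2]
    exact sub_self _
  have hqdeg : q.natDegree = 2 := natDegree_X_pow_sub_C
  have hyint : IsIntegral k⟮x⟯ y := ⟨q, hqm, hqy⟩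
  have hmin : q = minpoly k⟮x⟯ y := by
    have hdvd : minpoly k⟮x⟯ y ∣ q := minpoly.dvd k⟮x⟯ y hqy
    have h2le : 2 ≤ (minpoly k⟮x⟯ y).natDegree := by
      rw [minpoly.two_le_natDegree_iff hyint]
      rintro ⟨z, hz⟩
      exact hy (hz ▸ z.2)
    exact Polynomial.eq_of_monic_of_dvd_of_natDegree_le (minpoly.monic hyint) hqm hdvd
      (hqdeg ▸ h2le)
  let e : AdjoinRoot (minpoly k⟮x⟯ y) ≃ₐ[k⟮x⟯] K :=
    (IntermediateField.adjoinRootEquivAdjoin k⟮x⟯ hyint).trans
      ((IntermediateField.equivOfEq hFy).trans IntermediateField.topEquiv)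
  have he : e (AdjoinRoot.root (minpoly k⟮x⟯ y)) = y := by
    simp [e, IntermediateField.adjoinRootEquivAdjoin_apply_root]
  have haK : algebraMap k K a * (algebraMap k K u ^ 4 - 1) = 0 := by
    have := congrArg (algebraMap k K) ha
    simpa only [map_mul, map_sub, map_pow, map_one, map_zero] using this
  have hbK : algebraMap k K b * (algebraMap k K u ^ 6 - 1) = 0 := by
    have := congrArg (algebraMap k K) hb
    simpa only [map_mul, map_sub, map_pow, map_one, map_zero] using this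
  have hroot : (minpoly k⟮x⟯ y).eval₂ (i : k⟮x⟯ →+* K) (algebraMap k K (u ^ 3) * y) = 0 := by
    rw [← hmin]
    simp only [q, eval₂_sub, eval₂_pow, eval₂_X, eval₂_C]
    change (algebraMap k K (u ^ 3) * y) ^ 2 - i c = 0
    rw [hic, hx'def, mul_pow, heq]
    simp only [map_pow]
    linear_combination (algebraMap k K u ^ 2 * x) * haK + hbK
  let lift : AdjoinRoot (minpoly k⟮x⟯ y) →+* K :=
    AdjoinRoot.lift (i : k⟮x⟯ →+* K) (algebraMap k K (u ^ 3) * y) hroot
  let σr : K →+* K := lift.comp (e.symm : K →+* AdjoinRoot (minpoly k⟮x⟯ y))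
  have hσF : ∀ z : k⟮x⟯, σr (z : K) = i z := by
    intro z
    change lift (e.symm (algebraMap k⟮x⟯ K z)) = i z
    rw [AlgEquiv.commutes]
    exact AdjoinRoot.lift_of hroot
  let σ : K →ₐ[k] K := { σr with
    commutes' := fun r => by
      have h1 : algebraMap k K r = ((algebraMap k k⟮x⟯ r : k⟮x⟯) : K) := rfl
      change σr (algebraMap k K r) = algebraMap k K r
      rw [h1, hσF, AlgHom.commutes]
      exact h1 }
  refine ⟨σ, ?_, ?_⟩
  · change σr x = x'
    rw [← hg, hσF, hig]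
  · change lift (e.symm y) = _
    have h1 : e.symm y = AdjoinRoot.root (minpoly k⟮x⟯ y) := by
      rw [AlgEquiv.symm_apply_eq, he]
    rw [h1]
    exact AdjoinRoot.lift_root hroot

end Exist



theorem ord_aeval_of_neg (P : FunFld.Place k K) {x : K} (hx : P.ord x < 0) {p : k[X]} (hp : p ≠ 0) :
    P.ord (aeval x p) = p.natDegree * P.ord x := by
  have hx0 : x ≠ 0 := ord_ne_zero_imp_ne_zero P hx.ne
  have h1 : 1 < v P x := (one_lt_v_iff P hx0).2 hx
  rw [ord_def, Hyp.v_aeval_of_one_lt P h1 hp, ← map_pow, ← ord_def, ord_pow]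

/-- rational functions of `x` have even order at a double pole of `x` -/
theorem even_ord_of_mem_adjoin (P : FunFld.Place k K) {x : K} (hx2 : P.ord x = -2) {r : K}
    (hr : r ∈ k⟮x⟯) : Even (P.ord r) := by
  by_cases hr0 : r = 0
  · subst hr0; rw [ord_zero]; exact Even.zero
  have hxt : Transcendental k x := transcendental_of_ord_ne_zero P (by rw [hx2]; norm_num)
  have hinj : Function.Injective (aeval x : k[X] →ₐ[k] K) := transcendental_iff_injective.mp hxt
  obtain ⟨u, w, hw, -, huw⟩ := Hyp.exists_coprime_repr hxt hr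
  have hwx : aeval x w ≠ 0 := fun h => hw (hinj (by rw [h, map_zero]))
  have hu : u ≠ 0 := by
    rintro rfl
    rw [map_zero] at huw
    exact (mul_ne_zero hr0 hwx) huw
  have hneg : P.ord x < 0 := by rw [hx2]; norm_num
  have h1 := congrArg P.ord huw
  rw [ord_mul P hr0 hwx, ord_aeval_of_neg P hneg hw, ord_aeval_of_neg P hneg hu, hx2] at h1
  exact ⟨(w.natDegree : ℤ) - u.natDegree, by linarith⟩

theorem not_mem_adjoin_of_ord (P : FunFld.Place k K) {x y : K} (hx2 : P.ord x = -2)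
    (hy3 : P.ord y = -3) : y ∉ k⟮x⟯ := by
  intro h
  have := even_ord_of_mem_adjoin P hx2 h
  rw [hy3] at this
  exact absurd this (by decide)

/-- an automorphism keeping the pole of `x` at `P` fixes `P` -/
theorem fixes_of_pole {P : FunFld.Place k K} {x : K}
    (hx : x ∈ L (Finsupp.single P 2 : Divisor k K)) (σ : K ≃ₐ[k] K) (h : 1 < P.1 (σ x)) :
    ∀ z, P.1 (σ z) = P.1 z := by
  classical
  have hQ : comapPlace σ P = P := by
    by_contra hne
    have h1 := hx (comapPlace σ P)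
    rw [Finsupp.single_apply, if_neg (Ne.symm hne), WithZero.exp_zero] at h1
    exact absurd h (not_lt.2 h1)
  intro z
  have h2 : (comapPlace σ P).1 z = P.1 (σ z) := rfl
  rw [← h2, hQ]

end Groth.Agent.Lib.Helper26.EA
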