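import Mathlib
import Groth.Agent.Lib.Helper26.EllAut2
import Groth.Agent.Lib.Helper2.FunFld.DegOne

set_option autoImplicit false
set_option linter.style.haveILetI false
open scoped WithZero IntermediateField
open FunFld Polynomial
open Groth.Agent.Lib.Helper2.FF

namespace Groth.Agent.Lib.Helper26.EA

variable {k K : Type*} [Field k] [Field K] [Algebra k K]

/-- the automorphism `x ↦ u²x`, `y ↦ u³y` -/
theorem exists_algEquiv {x y : K} (hxy : IntermediateField.adjoin k ({x, y} : Set K) = ⊤)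
    (hx : Transcendental k x) (hy : y ∉ k⟮x⟯) {a b u : k} (hu : u ≠ 0)
    (ha : a * (u ^ 4 - 1) = 0) (hb : b * (u ^ 6 - 1) = 0)
    (heq : y ^ 2 = x ^ 3 + algebraMap k K a * x + algebraMap k K b) :
    ∃ σ : K ≃ₐ[k] K, σ x = algebraMap k K (u ^ 2) * x ∧ σ y = algebraMap k K (u ^ 3) * y := by
  obtain ⟨σ, hσx, hσy⟩ := exists_algHom hxy hx hy hu ha hb heq
  have ha' : a * (u⁻¹ ^ 4 - 1) = 0 := by
    have : u⁻¹ ^ 4 - 1 = -(u ^ 4 - 1) * u⁻¹ ^ 4 := by
      field_simp
      ring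
    rw [this]
    linear_combination (-u⁻¹ ^ 4) * ha
  have hb' : b * (u⁻¹ ^ 6 - 1) = 0 := by
    have : u⁻¹ ^ 6 - 1 = -(u ^ 6 - 1) * u⁻¹ ^ 6 := by
      field_simp
      ring
    rw [this]
    linear_combination (-u⁻¹ ^ 6) * hb
  obtain ⟨τ, hτx, hτy⟩ := exists_algHom hxy hx hy (inv_ne_zero hu) ha' hb' heq
  have hA2 : algebraMap k K (u⁻¹ ^ 2) * algebraMap k K (u ^ 2) = 1 := by
    rw [← map_mul, ← mul_pow, inv_mul_cancel₀ hu, one_pow, map_one]
  have hA3 : algebraMap k K (u⁻¹ ^ 3) * algebraMap k K (u ^ 3) = 1 := by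
    rw [← map_mul, ← mul_pow, inv_mul_cancel₀ hu, one_pow, map_one]
  have h1 : σ.comp τ = AlgHom.id k K := by
    apply algHom_ext_xy hxy
    · rw [AlgHom.comp_apply, hτx, map_mul, AlgHom.commutes, hσx, AlgHom.id_apply, ← mul_assoc,
        hA2, one_mul]
    · rw [AlgHom.comp_apply, hτy, map_mul, AlgHom.commutes, hσy, AlgHom.id_apply, ← mul_assoc,
        hA3, one_mul]
  have h2 : τ.comp σ = AlgHom.id k K := by
    apply algHom_ext_xy hxy
    · rw [AlgHom.comp_apply, hσx, map_mul, AlgHom.commutes, hτx, AlgHom.id_apply, ← mul_assoc,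
        mul_comm (algebraMap k K (u ^ 2)), hA2, one_mul]
    · rw [AlgHom.comp_apply, hσy, map_mul, AlgHom.commutes, hτy, AlgHom.id_apply, ← mul_assoc,
        mul_comm (algebraMap k K (u ^ 3)), hA3, one_mul]
  exact ⟨AlgEquiv.ofAlgHom σ τ h1 h2, hσx, hσy⟩

/-- number of `n`-th roots of unity in an algebraically closed field, `n` prime to the
characteristic -/
theorem card_pow_eq_one [IsAlgClosed k] (n : ℕ) (hn : (n : k) ≠ 0) :
    Nat.card {u : k // u ^ n = 1} = n := by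
  haveI : NeZero (n : k) := ⟨hn⟩
  haveI : NeZero n := .of_neZero_natCast k
  have h1 := HasEnoughRootsOfUnity.natCard_rootsOfUnity k n
  refine Eq.trans (Nat.card_congr (Equiv.symm
    ((rootsOfUnityEquivNthRoots k n).trans (Equiv.subtypeEquivRight ?_)))) h1
  intro u
  exact (Polynomial.mem_nthRoots (R := k) (NeZero.pos n) : u ∈ nthRoots n (1 : k) ↔ u ^ n = 1)

section Main

variable [IsAlgClosed k] (h2 : (2 : k) ≠ 0) (h3 : (3 : k) ≠ 0)
  (hK : IsFunctionField k K) (hgen : genus k K = 1) (P : FunFld.Place k K)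
  {a b : k} {x y : K}
  (heq : y ^ 2 = x ^ 3 + algebraMap k K a * x + algebraMap k K b)
  (hxy : IntermediateField.adjoin k ({x, y} : Set K) = ⊤)
  (hx : x ∈ L (Finsupp.single P 2 : Divisor k K)) (hx2 : P.ord x = -2)
  (hy : y ∈ L (Finsupp.single P 3 : Divisor k K)) (hy3 : P.ord y = -3)

include h2 h3 hK hgen heq hxy hx hx2 hy hy3

theorem card_aut_eq :
    Nat.card {σ : K ≃ₐ[k] K // ∀ z : K, P.1 (σ z) = P.1 z} =
      Nat.card {u : k // u ≠ 0 ∧ a * (u ^ 4 - 1) = 0 ∧ b * (u ^ 6 - 1) = 0} := by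
  have hP : P.deg = 1 := deg_eq_one_of_isAlgClosed hK P
  have hx0 : x ≠ 0 := ord_ne_zero_imp_ne_zero P (by rw [hx2]; norm_num)
  have hy0 : y ≠ 0 := ord_ne_zero_imp_ne_zero P (by rw [hy3]; norm_num)
  have hxt : Transcendental k x := transcendental_of_ord_ne_zero P (by rw [hx2]; norm_num)
  have hynot : y ∉ k⟮x⟯ := not_mem_adjoin_of_ord P hx2 hy3
  have hinjA : Function.Injective (algebraMap k K) := (algebraMap k K).injective
  have key : ∀ σ : {σ : K ≃ₐ[k] K // ∀ z : K, P.1 (σ z) = P.1 z},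
      ∃ u : k, u ≠ 0 ∧ a * (u ^ 4 - 1) = 0 ∧ b * (u ^ 6 - 1) = 0 ∧
      σ.1 x = algebraMap k K (u ^ 2) * x ∧ σ.1 y = algebraMap k K (u ^ 3) * y :=
    fun σ => exists_scalar hK hgen P hP hx hx2 hy hy3 h2 h3 heq σ.1 σ.2
  choose f hf0 hfa hfb hfx hfy using key
  let F : {σ : K ≃ₐ[k] K // ∀ z : K, P.1 (σ z) = P.1 z} →
      {u : k // u ≠ 0 ∧ a * (u ^ 4 - 1) = 0 ∧ b * (u ^ 6 - 1) = 0} :=
    fun σ => ⟨f σ, hf0 σ, hfa σ, hfb σ⟩
  have huniq : ∀ u w : k, u ≠ 0 → w ≠ 0 → algebraMap k K (u ^ 2) * x = algebraMap k K (w ^ 2) * x →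
      algebraMap k K (u ^ 3) * y = algebraMap k K (w ^ 3) * y → u = w := by
    intro u w hu hw h1 h2'
    have e2 : u ^ 2 = w ^ 2 := hinjA (mul_right_cancel₀ hx0 h1)
    have e3 : u ^ 3 = w ^ 3 := hinjA (mul_right_cancel₀ hy0 h2')
    have : u * u ^ 2 = w * u ^ 2 := by
      calc u * u ^ 2 = u ^ 3 := by ring
        _ = w ^ 3 := e3
        _ = w * w ^ 2 := by ring
        _ = w * u ^ 2 := by rw [e2]
    exact mul_right_cancel₀ (pow_ne_zero 2 hu) this
  apply Nat.card_congr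
  refine Equiv.ofBijective F ⟨?_, ?_⟩
  · intro σ τ hστ
    have hf : f σ = f τ := congrArg Subtype.val hστ
    have h1 : σ.1 x = τ.1 x := by rw [hfx, hfx, hf]
    have h2' : σ.1 y = τ.1 y := by rw [hfy, hfy, hf]
    have h3' : (σ.1 : K →ₐ[k] K) = (τ.1 : K →ₐ[k] K) := algHom_ext_xy hxy h1 h2'
    apply Subtype.ext
    exact AlgEquiv.coe_toAlgHom_injective h3'
  · rintro ⟨u, hu0, hua, hub⟩
    obtain ⟨σ, hσx, hσy⟩ := exists_algEquiv hxy hxt hynot hu0 hua hub heq
    have hfix : ∀ z, P.1 (σ z) = P.1 z := by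
      apply fixes_of_pole hx σ
      rw [hσx]
      change 1 < v P (algebraMap k K (u ^ 2) * x)
      rw [map_mul, v_algebraMap P (pow_ne_zero _ hu0), one_mul]
      exact (one_lt_v_iff P hx0).2 (by rw [hx2]; norm_num)
    refine ⟨⟨σ, hfix⟩, ?_⟩
    apply Subtype.ext
    change f ⟨σ, hfix⟩ = u
    apply huniq _ _ (hf0 _) hu0
    · rw [← hfx ⟨σ, hfix⟩, ← hσx]
    · rw [← hfy ⟨σ, hfix⟩, ← hσy]

theorem card_aut (hdisc : 4 * a ^ 3 + 27 * b ^ 2 ≠ 0) [DecidableEq k] :
    Nat.card {σ : K ≃ₐ[k] K // ∀ z : K, P.1 (σ z) = P.1 z} =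
      if a = 0 then 6 else if b = 0 then 4 else 2 := by
  rw [card_aut_eq h2 h3 hK hgen P heq hxy hx hx2 hy hy3]
  have h6 : ((6 : ℕ) : k) ≠ 0 := by
    have : ((6 : ℕ) : k) = 2 * 3 := by norm_num
    rw [this]; exact mul_ne_zero h2 h3
  have h4 : ((4 : ℕ) : k) ≠ 0 := by
    have : ((4 : ℕ) : k) = 2 * 2 := by norm_num
    rw [this]; exact mul_ne_zero h2 h2
  have h2' : ((2 : ℕ) : k) ≠ 0 := by
    have : ((2 : ℕ) : k) = 2 := by norm_num
    rw [this]; exact h2
  by_cases ha : a = 0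
  · rw [if_pos ha]
    have hb : b ≠ 0 := by
      rintro rfl
      apply hdisc
      rw [ha]; ring
    refine (Nat.card_congr (Equiv.subtypeEquivRight ?_)).trans (card_pow_eq_one (k := k) 6 h6)
    intro u
    constructor
    · rintro ⟨-, -, hub⟩
      have := (mul_eq_zero.1 hub).resolve_left hb
      exact sub_eq_zero.1 this
    · intro hu
      refine ⟨?_, by rw [ha, zero_mul], by rw [hu, sub_self, mul_zero]⟩
      rintro rfl
      norm_num at hu
  · rw [if_neg ha]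
    by_cases hb : b = 0
    · rw [if_pos hb]
      refine (Nat.card_congr (Equiv.subtypeEquivRight ?_)).trans (card_pow_eq_one (k := k) 4 h4)
      intro u
      constructor
      · rintro ⟨-, hua, -⟩
        have := (mul_eq_zero.1 hua).resolve_left ha
        exact sub_eq_zero.1 this
      · intro hu
        refine ⟨?_, by rw [hu, sub_self, mul_zero], by rw [hb, zero_mul]⟩
        rintro rfl
        norm_num at hu
    · rw [if_neg hb]
      refine (Nat.card_congr (Equiv.subtypeEquivRight ?_)).trans (card_pow_eq_one (k := k) 2 h2')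
      intro u
      constructor
      · rintro ⟨hu0, hua, hub⟩
        have e4 : u ^ 4 = 1 := sub_eq_zero.1 ((mul_eq_zero.1 hua).resolve_left ha)
        have e6 : u ^ 6 = 1 := sub_eq_zero.1 ((mul_eq_zero.1 hub).resolve_left hb)
        calc u ^ 2 = u ^ 4 * u ^ 2 := by rw [e4, one_mul]
          _ = u ^ 6 := by ring
          _ = 1 := e6
      · intro hu
        have e4 : u ^ 4 = 1 := by
          calc u ^ 4 = (u ^ 2) ^ 2 := by ring
            _ = 1 := by rw [hu, one_pow]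
        have e6 : u ^ 6 = 1 := by
          calc u ^ 6 = (u ^ 2) ^ 3 := by ring
            _ = 1 := by rw [hu, one_pow]
        refine ⟨?_, by rw [e4, sub_self, mul_zero], by rw [e6, sub_self, mul_zero]⟩
        rintro rfl
        norm_num at hu

end Main

end Groth.Agent.Lib.Helper26.EA
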