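import Mathlib
import Groth.Agent.Lib.Helper26.WGlobal7
import Groth.Agent.Lib.Helper26.HasseExists
import Groth.Agent.Lib.Helper2.FunFld.Gaps
import Groth.Agent.S12600
import Groth.Agent.S12604
import Groth.Agent.S12606
set_option autoImplicit false
open scoped WithZero IntermediateField PowerSeries LaurentSeries
open FunFld
open Groth.Agent.Lib.Helper2.FF
open Groth.Agent.Lib.Helper26.HasseLocal3
open Groth.Agent.Lib.Helper26.HasseLocal4
open Groth.Agent.Lib.Helper26.WGlobal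
open Groth.Agent.Lib.Helper26.WGlobal4
open Groth.Agent.Lib.Helper26.HasseExists

/-! # The Stöhr–Voloch bound on the number of strong fixed points -/

namespace Groth.Agent.Lib.Helper26.SFBound

variable {k K : Type*} [Field k] [Field K] [Algebra k K]

/-- every `m ≥ 2g` is a pole order at `P` -/
theorem exists_pole_order [IsAlgClosed k] (hK : IsFunctionField k K) (P : FunFld.Place k K)
    (m : ℕ) (hm : 2 * genus k K ≤ m) :
    ∃ z : K, z ≠ 0 ∧ z ∈ L (nP P m) ∧ P.ord z = -(m : ℤ) := by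
  classical
  have hP := deg_eq_one_of_isAlgClosed hK P
  have h1 : (nP P (m : ℤ)).deg = m := by rw [deg_nP, hP]; simp
  have h2 : (nP P (m : ℤ) - (Finsupp.single P 1 : Divisor k K)).deg = (m : ℤ) - 1 := by
    rw [deg_sub, h1, deg_single, hP]; simp
  have h3 := ell_eq_of_deg_ge hK (nP P (m : ℤ)) (by rw [h1]; omega)
  have h4 := ell_eq_of_deg_ge hK (nP P (m : ℤ) - (Finsupp.single P 1 : Divisor k K))
    (by rw [h2]; omega)
  have h5 : ell (nP P (m : ℤ) - (Finsupp.single P 1 : Divisor k K)) < ell (nP P (m : ℤ)) := by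
    have : (ell (nP P (m : ℤ) - (Finsupp.single P 1 : Divisor k K)) : ℤ) < ell (nP P (m : ℤ)) := by
      rw [h3, h4, h1, h2]; omega
    exact_mod_cast this
  obtain ⟨z, hz0, hzL, hzo⟩ := exists_mem_L_ord_eq P h5
  rw [nP_apply_self] at hzo
  exact ⟨z, hz0, hzL, hzo⟩

/-- A strong fixed point is not fixed pointwise on a large complete linear system. -/
theorem not_exists_smul_of_isStrongFixedPt [IsAlgClosed k] (hK : IsFunctionField k K)
    (τ : K →ₐ[k] K) (P : FunFld.Place k K) (hP : IsStrongFixedPt τ P) (m : ℕ)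
    (hm : 2 * genus k K + 1 ≤ m) {ι : Type*} (φ : ι → K)
    (hspan : Submodule.span k (Set.range φ) = L (nP P m)) :
    ¬ ∃ y : K, ∀ i, τ (φ i) = y * φ i := by
  classical
  rintro ⟨y, hy⟩
  have hall : ∀ f ∈ L (nP P (m : ℤ)), τ f = y * f := by
    intro f hf
    rw [← hspan] at hf
    refine Submodule.span_induction (p := fun f _ => τ f = y * f) ?_ ?_ ?_ ?_ hf
    · rintro _ ⟨i, rfl⟩; exact hy i
    · simp
    · intro a b _ _ ha hb; rw [map_add, ha, hb, mul_add]
    · intro c a _ ha; rw [map_smul, ha, mul_smul_comm]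
  have h1L : (1 : K) ∈ L (nP P (m : ℤ)) := by
    intro Q
    rw [map_one, ← WithZero.exp_zero, WithZero.exp_le_exp, nP, Finsupp.single_apply]
    split_ifs <;> simp
  have hy1 : y = 1 := by
    have := hall 1 h1L
    rw [map_one, mul_one] at this
    exact this.symm
  obtain ⟨za, hza0, hzaL, hzao⟩ := exists_pole_order hK P m (by omega)
  obtain ⟨zb, hzb0, hzbL, hzbo⟩ := exists_pole_order hK P (m - 1) (by omega)
  have hzbL' : zb ∈ L (nP P (m : ℤ)) :=
    L_mono (nP_mono P (by push_cast; omega)) hzbL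
  have hfa := hall za hzaL
  have hfb := hall zb hzbL'
  rw [hy1, one_mul] at hfa hfb
  have hz : τ (zb / za) = zb / za := by rw [map_div₀, hfa, hfb]
  have hord : P.ord (zb / za) = 1 := by
    rw [div_eq_mul_inv, ord_mul P hzb0 (inv_ne_zero hza0), ord_inv, hzbo, hzao]
    push_cast
    omega
  have hne : zb / za ≠ 0 := div_ne_zero hzb0 hza0
  have hv : v P (zb / za) = WithZero.exp (-1 : ℤ) := by
    rw [v_eq_exp_neg_ord P hne, hord]
  have h2 := hP (zb / za) (by
    change v P (zb / za) < 1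
    rw [hv, ← WithZero.exp_zero, WithZero.exp_lt_exp]; omega)
  rw [hz] at h2
  change v P (zb / za) ≤ _ at h2
  rw [hv, WithZero.exp_le_exp] at h2
  omega

/-- the divisor of a tuple of sections of `L(D)` is at most `D` -/
theorem mapDiv_le_of_mem_L (hK : IsFunctionField k K) {ι : Type*} [Fintype ι] [Nonempty ι]
    (φ : ι → K) (hφ0 : ∀ i, φ i ≠ 0) (D : Divisor k K) (hφ : ∀ i, φ i ∈ L D) :
    mapDiv k φ ≤ D := by
  intro P
  rw [mapDiv_apply ⟨hK.1.choose, hK.1.choose_spec⟩, neg_le, Finset.le_inf'_iff]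
  intro i _
  have := (v_le_exp_iff P (hφ0 i) (D P)).1 (hφ i P)
  omega

/-- the orders at `P` of the complete linear system `|aP|`, `a = n + g` -/
theorem orders_at_of_complete [IsAlgClosed k] (hK : IsFunctionField k K)
    (P : FunFld.Place k K) {n : ℕ} (a : ℕ) (ha : 2 * genus k K ≤ a)
    (φ : Fin (n + 1) → K) (hφ : LinearIndependent k φ)
    (hspan : Submodule.span k (Set.range φ) = L (nP P a))
    (t : K) (ht : P.1 t = WithZero.exp (-1 : ℤ)) (Ht : K →ₐ[k] K⟦X⟧)
    (hHt : LocRes.IsHasseFamily t Ht) (i0 : Fin (n + 1))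
    (hi0 : ∀ i, v P (φ i) ≤ v P (φ i0))
    (hint : ∀ i, P.1 (((φ i0)⁻¹ • φ) i) ≤ 1)
    (J' : Fin n → ℕ)
    (hJ' : IsOrders (IsLocalRing.ResidueField P.O) (hcolAt P Ht ((φ i0)⁻¹ • φ)) J') :
    (∀ l, J' l ≤ a) ∧ ∀ j : ℕ, 1 ≤ j → j + 2 * genus k K ≤ a → j ∈ Set.range J' := by
  classical
  have hφ0 : ∀ i, φ i ≠ 0 := fun i => hφ.ne_zero i
  have hmemL : ∀ i, φ i ∈ L (nP P (a : ℤ)) := fun i => by
    rw [← hspan]; exact Submodule.subset_span ⟨i, rfl⟩
  have hdeg : (mapDiv k φ).deg ≤ a := by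
    have h1 := deg_mono (mapDiv_le_of_mem_L hK φ hφ0 _ hmemL)
    rw [deg_nP, deg_eq_one_of_isAlgClosed hK P] at h1
    simpa using h1
  constructor
  · intro l
    have h1 := (isJump_hcolAt_succ_iff hK P t ht Ht hHt _ hint (J' l)).1
      ((hJ'.2 (J' l)).1 ⟨l, rfl⟩)
    obtain ⟨-, f, hf, hf0, hfo⟩ := h1
    have h2 := ord_le_deg_mapDiv hK φ hφ P i0 hi0 hf hf0
    rw [hfo] at h2
    have : (J' l : ℤ) ≤ a := h2.trans hdeg
    exact_mod_cast this
  · intro j hj1 hja
    rw [hJ'.2 j, isJump_hcolAt_succ_iff hK P t ht Ht hHt _ hint j]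
    refine ⟨hj1, ?_⟩
    -- order of φ i0 is exactly -a
    have hall : ∀ f ∈ L (nP P (a : ℤ)), v P f ≤ v P (φ i0) := by
      intro f hf
      rw [← hspan] at hf
      refine Submodule.span_induction (p := fun f _ => v P f ≤ v P (φ i0)) ?_ ?_ ?_ ?_ hf
      · rintro _ ⟨i, rfl⟩; exact hi0 i
      · rw [map_zero]; exact zero_le
      · intro x y _ _ hx hy; exact Valuation.map_add_le _ hx hy
      · intro c x _ hx; exact (v_smul_le P c x).trans hx
    obtain ⟨za, hza0, hzaL, hzao⟩ := exists_pole_order hK P a ha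
    have h1 := hall za hzaL
    rw [v_eq_exp_neg_ord P hza0, v_eq_exp_neg_ord P (hφ0 i0), hzao, WithZero.exp_le_exp] at h1
    have h2 := (v_le_exp_iff P (hφ0 i0) _).1 (hmemL i0 P)
    rw [nP_apply_self] at h2
    have hord0 : P.ord (φ i0) = -(a : ℤ) := by omega
    obtain ⟨z, hz0, hzL, hzo⟩ := exists_pole_order hK P (a - j) (by omega)
    have hzL' : z ∈ L (nP P (a : ℤ)) := L_mono (nP_mono P (by omega)) hzL
    refine ⟨(φ i0)⁻¹ * z, ?_, mul_ne_zero (inv_ne_zero (hφ0 i0)) hz0, ?_⟩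
    · rw [← hspan] at hzL'
      obtain ⟨c, hc⟩ := (Submodule.mem_span_range_iff_exists_fun k).1 hzL'
      rw [← hc, Finset.mul_sum]
      refine Submodule.sum_mem _ fun i _ => ?_
      rw [mul_smul_comm]
      apply Submodule.smul_mem
      apply Submodule.subset_span
      exact ⟨i, by simp [Pi.smul_apply]⟩
    · rw [ord_mul P (inv_ne_zero (hφ0 i0)) hz0, ord_inv, hord0, hzo]
      omega

theorem strictMono_add_le' {n : ℕ} (J : Fin n → ℕ) (hJ : StrictMono J) (l : Fin n) (c : ℕ)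
    (h0 : ∀ l : Fin n, c ≤ J l) : (l : ℕ) + c ≤ J l := by
  obtain ⟨l, hl⟩ := l
  induction l with
  | zero => simpa using h0 ⟨0, hl⟩
  | succ l ih =>
    have h1 := ih (by omega)
    have h2 : J ⟨l, by omega⟩ < J ⟨l + 1, hl⟩ := hJ (by simp [Fin.lt_def])
    simp only at h1 ⊢
    omega

theorem strictMono_diff_le {n : ℕ} (J : Fin n → ℕ) (hJ : StrictMono J) (l : Fin n) :
    ∀ (d : ℕ) (h : l.val + d < n), J l + d ≤ J ⟨l.val + d, h⟩ := by
  intro d
  induction d with
  | zero => intro h; simp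
  | succ d ih =>
    intro h
    have h1 := ih (by omega)
    have h2 : J ⟨l.val + d, by omega⟩ < J ⟨l.val + (d + 1), h⟩ := hJ (by simp [Fin.lt_def])
    omega

theorem sum_orders_le {n g : ℕ} (hg : g < n) (J J' : Fin n → ℕ) (hJ' : StrictMono J')
    (h1 : ∀ l, 1 ≤ J' l) (ha : ∀ l, J' l ≤ n + g)
    (hr : ∀ j, 1 ≤ j → j + 2 * g ≤ n + g → j ∈ Set.range J')
    (hJ : ∀ l, J l + 1 ≤ J' l) :
    2 * ∑ l, J l + n ≤ n * n + 2 * (g * g) := by
  classical
  have hA : ∀ l : Fin n, J' l ≤ l.val + g + 1 := by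
    intro l
    have h2 := strictMono_diff_le J' hJ' l (n - 1 - l.val) (by omega)
    have h3 := ha ⟨l.val + (n - 1 - l.val), by omega⟩
    omega
  have hB : ∀ (m : ℕ) (hm : m < n), m + g < n → J' ⟨m, hm⟩ = m + 1 := by
    intro m
    induction m using Nat.strong_induction_on with
    | _ m ih =>
      intro hm hmg
      obtain ⟨l'', hl''⟩ := hr (m + 1) (by omega) (by omega)
      have h5 := strictMono_add_le' J' hJ' ⟨m, hm⟩ 1 h1
      simp only at h5
      rcases lt_trichotomy l''.val m with hlt | heq | hgt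
      · have := ih l''.val hlt l''.isLt (by omega)
        have h6 : (⟨l''.val, l''.isLt⟩ : Fin n) = l'' := rfl
        rw [h6] at this
        omega
      · have h6 : l'' = ⟨m, hm⟩ := Fin.ext heq
        rw [← h6]; exact hl''
      · have : J' ⟨m, hm⟩ < J' l'' := hJ' (by simp [Fin.lt_def]; omega)
        omega
  have hC : ∀ l : Fin n, J l ≤ l.val + (if l.val + g < n then 0 else g) := by
    intro l
    have h2 := hJ l
    split_ifs with h
    · have := hB l.val l.isLt h
      have h6 : (⟨l.val, l.isLt⟩ : Fin n) = l := rfl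
      rw [h6] at this
      omega
    · have := hA l
      omega
  have hS : ∑ l : Fin n, J l ≤ ∑ l : Fin n, (l.val + (if l.val + g < n then 0 else g)) :=
    Finset.sum_le_sum fun l _ => hC l
  rw [Fin.sum_univ_eq_sum_range (fun l => l + (if l + g < n then 0 else g)) n,
    Finset.sum_add_distrib] at hS
  have h7 := Finset.sum_range_id_mul_two n
  have h8 : ∑ l ∈ Finset.range n, (if l + g < n then 0 else g) = g * g := by
    rw [Finset.sum_ite, Finset.sum_const_zero, zero_add, Finset.sum_const, smul_eq_mul]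
    congr 1
    have : (Finset.range n).filter (fun l => ¬ l + g < n) = Finset.Ico (n - g) n := by
      ext l
      simp only [Finset.mem_filter, Finset.mem_range, Finset.mem_Ico]
      omega
    rw [this, Nat.card_Ico]
    omega
  rw [h8] at hS
  have : 2 * ∑ l : Fin n, J l ≤ 2 * (∑ l ∈ Finset.range n, l + g * g) := by omega
  have h9 : n * (n - 1) + n = n * n := by
    cases n with
    | zero => rfl
    | succ m => simp; ring
  calc 2 * ∑ l : Fin n, J l + n ≤ 2 * (∑ l ∈ Finset.range n, l + g * g) + n := by omega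
    _ = (∑ l ∈ Finset.range n, l) * 2 + n + 2 * (g * g) := by ring
    _ = n * n + 2 * (g * g) := by rw [h7, h9]


/-- lower bound for the sum of a strictly increasing sequence -/
theorem le_sum_of_strictMono {n : ℕ} (J : Fin n → ℕ) (hJ : StrictMono J) :
    n * n ≤ 2 * ∑ l, J l + n := by
  have h1 : ∑ l : Fin n, (l.val) ≤ ∑ l : Fin n, J l :=
    Finset.sum_le_sum fun l _ => by simpa using strictMono_add_le' J hJ l 0 (fun _ => Nat.zero_le _)
  rw [Fin.sum_univ_eq_sum_range (fun l => l) n] at h1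
  have h7 := Finset.sum_range_id_mul_two n
  have h9 : n * (n - 1) + n = n * n := by
    cases n with
    | zero => rfl
    | succ m => simp; ring
  omega

/-- **Stöhr–Voloch bound**, integral form -/
theorem strongFixed_bound [IsAlgClosed k] (hK : IsFunctionField k K) (τ : K →ₐ[k] K) (n : ℕ)
    (hn : genus k K < n) :
    {P : FunFld.Place k K | IsStrongFixedPt τ P}.Finite ∧
    (n : ℤ) * (Set.ncard {P : FunFld.Place k K | IsStrongFixedPt τ P} : ℤ) ≤
      (genus k K : ℤ) * n * n + n + (Module.finrank τ.fieldRange K : ℤ) * n +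
        (Module.finrank τ.fieldRange K : ℤ) * genus k K +
        2 * (genus k K : ℤ) * genus k K * ((genus k K : ℤ) - 1) := by
  classical
  obtain ⟨g, hg⟩ : ∃ g, g = genus k K := ⟨_, rfl⟩
  obtain ⟨d, hd⟩ : ∃ d, d = Module.finrank τ.fieldRange K := ⟨_, rfl⟩
  rw [← hg, ← hd]
  rw [← hg] at hn
  by_cases hne : ∃ P₀ : FunFld.Place k K, IsStrongFixedPt τ P₀
  swap
  · have hS : {P : FunFld.Place k K | IsStrongFixedPt τ P} = ∅ := by
      ext P
      simp only [Set.mem_setOf_eq, Set.mem_empty_iff_false, iff_false]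
      exact fun h => hne ⟨P, h⟩
    rw [hS]
    refine ⟨Set.finite_empty, ?_⟩
    rw [Set.ncard_empty]
    rcases Nat.eq_zero_or_pos g with h0 | hpos
    · subst h0; simp; positivity
    · have : (0 : ℤ) ≤ (g : ℤ) - 1 := by omega
      simp only [Nat.cast_zero, mul_zero]
      positivity
  obtain ⟨P₀, hP₀⟩ := hne
  obtain ⟨s, H, hH⟩ := exists_isHasseFamily_of_isFunctionField hK
  obtain ⟨a, ha⟩ : ∃ a, a = n + g := ⟨_, rfl⟩
  have hdegP := deg_eq_one_of_isAlgClosed hK P₀
  have hdegD : (nP P₀ (a : ℤ)).deg = a := by rw [deg_nP, hdegP]; simp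
  have hell : ell (nP P₀ (a : ℤ)) = n + 1 := by
    have h1 := ell_eq_of_deg_ge hK (nP P₀ (a : ℤ)) (by rw [hdegD, ← hg]; omega)
    rw [hdegD, ← hg] at h1
    omega
  haveI := finiteDimensional_L hK (nP P₀ (a : ℤ))
  let b := Module.finBasisOfFinrankEq k (L (nP P₀ (a : ℤ))) hell
  obtain ⟨φ, hφdef⟩ : ∃ φ : Fin (n + 1) → K, φ = fun i => ((b i : L (nP P₀ (a : ℤ))) : K) :=
    ⟨_, rfl⟩
  have hφ : LinearIndependent k φ := by
    rw [hφdef]
    exact b.linearIndependent.map' (L (nP P₀ (a : ℤ))).subtype (Submodule.ker_subtype _)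
  have hspan : Submodule.span k (Set.range φ) = L (nP P₀ (a : ℤ)) := by
    have : Set.range φ = (L (nP P₀ (a : ℤ))).subtype '' Set.range b := by
      rw [← Set.range_comp, hφdef]; rfl
    rw [this, Submodule.span_image, b.span_eq, Submodule.map_top, Submodule.range_subtype]
  have hτφ := not_exists_smul_of_isStrongFixedPt hK τ P₀ hP₀ a (by rw [← hg]; omega) φ hspan
  obtain ⟨J, hJ, -⟩ := Groth.Agent.S12600.result k K hK φ hφ τ s H hH
  obtain ⟨hfin, hN⟩ := Groth.Agent.S12604.result k K hK τ φ hφ hτφ s H hH J hJ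
  refine ⟨hfin, ?_⟩
  rw [← hd, ← hg] at hN
  have hφ0 : ∀ i, φ i ≠ 0 := fun i => hφ.ne_zero i
  have hmemL : ∀ i, φ i ∈ L (nP P₀ (a : ℤ)) := fun i => by
    rw [← hspan]; exact Submodule.subset_span ⟨i, rfl⟩
  have hdeg : (mapDiv k φ).deg ≤ a := by
    have h1 := deg_mono (mapDiv_le_of_mem_L hK φ hφ0 _ hmemL)
    rw [hdegD] at h1
    exact h1
  have hsum : (2 * (g : ℤ) - 2) * ∑ l, (J l : ℤ) ≤
      ((g : ℤ) - 1) * ((n : ℤ) * n - n + 2 * (g * g)) := by
    rcases Nat.eq_zero_or_pos g with h0 | hpos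
    · have h1 := le_sum_of_strictMono J hJ.1
      have h2 : ((n * n : ℕ) : ℤ) ≤ ((2 * ∑ l, J l + n : ℕ) : ℤ) := by exact_mod_cast h1
      push_cast at h2
      rw [h0]
      simp only [Nat.cast_zero, mul_zero, zero_sub, add_zero]
      linarith
    · obtain ⟨t, Ht, i0, φ', ht, hHt, hi0, hφ'eq, hli', heff', hint', hJt⟩ :=
        exists_local_form' hK φ hφ τ s H hH J hJ P₀
      subst hφ'eq
      have hone : ∃ i, v P₀ (((φ i0)⁻¹ • φ) i) = 1 := by
        refine ⟨i0, ?_⟩
        rw [Pi.smul_apply, smul_eq_mul, inv_mul_cancel₀ (hφ0 i0), map_one]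
      obtain ⟨J', hJ'⟩ := exists_isOrders_hcolAt hK P₀ t ht Ht hHt _ hli' hint' hone
      have hτφ' : ¬ ∃ y : K, ∀ i, τ (((φ i0)⁻¹ • φ) i) = y * ((φ i0)⁻¹ • φ) i := by
        rintro ⟨y, hy⟩
        apply hτφ
        refine ⟨y * τ (φ i0) * (φ i0)⁻¹, fun i => ?_⟩
        have h1 := hy i
        simp only [Pi.smul_apply, smul_eq_mul, map_mul, map_inv₀] at h1
        have h2 : τ (φ i0) ≠ 0 := by
          rw [Ne, map_eq_zero_iff τ τ.injective]; exact hφ0 i0
        field_simp at h1 ⊢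
        linear_combination h1
      have hn0 : 0 < n := by omega
      have h06 := Groth.Agent.S12606.result k K hK τ P₀ hP₀ hn0 _ hli' heff' hint' hτφ'
        t ht Ht hHt J hJt J' hJ'
      obtain ⟨hJa, hJr⟩ := orders_at_of_complete hK P₀ a (by rw [← hg]; omega) φ hφ hspan t ht
        Ht hHt i0 hi0 hint' J' hJ'
      have h1 := fun l => one_le_of_isOrders hK P₀ t ht Ht hHt _ hint' J' hJ' l
      have h2 := sum_orders_le hn J J' hJ'.1 h1 (fun l => by rw [← ha]; exact hJa l)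
        (fun j hj1 hj2 => hJr j hj1 (by rw [← hg]; omega))
        (fun l => by have := h06 l; have := h1 ⟨0, hn0⟩; omega)
      have h3 : ((2 * ∑ l, J l + n : ℕ) : ℤ) ≤ ((n * n + 2 * (g * g) : ℕ) : ℤ) := by
        exact_mod_cast h2
      push_cast at h3
      have h4 : (0 : ℤ) ≤ (g : ℤ) - 1 := by omega
      have h5 : 2 * ∑ l, (J l : ℤ) ≤ (n : ℤ) * n - n + 2 * (g * g) := by linarith
      calc (2 * (g : ℤ) - 2) * ∑ l, (J l : ℤ) = ((g : ℤ) - 1) * (2 * ∑ l, (J l : ℤ)) := by ring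
        _ ≤ ((g : ℤ) - 1) * ((n : ℤ) * n - n + 2 * (g * g)) :=
          mul_le_mul_of_nonneg_left h5 h4
  have h6 : ((n : ℤ) + d) * (mapDiv k φ).deg ≤ ((n : ℤ) + d) * a :=
    mul_le_mul_of_nonneg_left hdeg (by positivity)
  rw [ha] at h6
  push_cast at h6
  calc (n : ℤ) * (Set.ncard {P : FunFld.Place k K | IsStrongFixedPt τ P} : ℤ)
      ≤ ((n : ℤ) + d) * (mapDiv k φ).deg + (2 * (g : ℤ) - 2) * ∑ l, (J l : ℤ) := hN
    _ ≤ ((n : ℤ) + d) * (n + g) + ((g : ℤ) - 1) * ((n : ℤ) * n - n + 2 * (g * g)) :=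
      add_le_add h6 hsum
    _ = _ := by ring

end Groth.Agent.Lib.Helper26.SFBound
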