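import Mathlib
import Groth.Agent.Lib.Helper26.WGlobal7
import Groth.Agent.Lib.Helper26.SFBound
import Groth.Agent.S12614
import Groth.Agent.S12615
import Groth.Agent.S12609
import Groth.Agent.S12603
set_option autoImplicit false
open scoped WithZero IntermediateField PowerSeries LaurentSeries
open FunFld
open Groth.Agent.Lib.Helper2.FF
open Groth.Agent.Lib.Helper26.HasseLocal
open Groth.Agent.Lib.Helper26.HasseLocal3
open Groth.Agent.Lib.Helper26.HasseLocal4
open Groth.Agent.Lib.Helper26.HasseLocal7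
open Groth.Agent.Lib.Helper26.DiffDiv
open Groth.Agent.Lib.Helper26.WGlobal
open Groth.Agent.Lib.Helper26.WGlobal4
open Groth.Agent.Lib.Helper26.WGlobal5
open Groth.Agent.Lib.Helper26.SFBound

namespace Groth.Agent.Lib.Helper26.Weier

variable {k K : Type*} [Field k] [Field K] [Algebra k K]

/-- small naturals are invertible in `k` -/
theorem natCast_ne_zero_of_char (N : ℤ) (hchar : ringChar k = 0 ∨ N < ringChar k)
    (a : ℕ) (ha : 0 < a) (haN : (a : ℤ) ≤ N) : ((a : ℕ) : k) ≠ 0 := by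
  intro h0
  rw [ringChar.spec] at h0
  rcases hchar with hc | hc
  · rw [hc, Nat.zero_dvd] at h0
    omega
  · have h1 := Nat.le_of_dvd ha h0
    have h3 : ((ringChar k : ℕ) : ℤ) ≤ a := by exact_mod_cast h1
    omega

/-- in large characteristic the orders of a map are classical -/
theorem orders_eq_succ [IsAlgClosed k] (hK : IsFunctionField k K) {n : ℕ}
    (φ : Fin (n + 1) → K) (hφ : LinearIndependent k φ)
    (hchar : ringChar k = 0 ∨ (mapDiv k φ).deg < ringChar k)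
    (s : K) (H : K →ₐ[k] K⟦X⟧) (hH : LocRes.IsHasseFamily s H) (J : Fin n → ℕ)
    (hJ : IsOrders K (hcol (AlgHom.id k K) H φ) J) : J = fun l : Fin n => (l : ℕ) + 1 := by
  classical
  obtain ⟨N, hNd⟩ : ∃ N : ℕ, N = (mapDiv k φ).deg.toNat := ⟨_, rfl⟩
  have hN : (mapDiv k φ).deg ≤ N := by rw [hNd]; exact Int.self_le_toNat _
  have hsmall : ∀ a : ℕ, 0 < a → a ≤ N → ((a : ℕ) : k) ≠ 0 := by
    intro a ha haN
    apply natCast_ne_zero_of_char (mapDiv k φ).deg hchar a ha
    have : a ≤ (mapDiv k φ).deg.toNat := hNd ▸ haN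
    omega
  obtain ⟨⟨x, hx, -⟩, -⟩ := id hK
  obtain ⟨P, -⟩ := exists_place_lt_one hK hx
  have hP : IsFixedPt (AlgHom.id k K) P := fun z hz => hz
  have hI : StrictMono (fun l : Fin n => (l : ℕ) + 1) := by
    intro a b hab
    have : (a : ℕ) < b := hab
    simp only
    omega
  have hle := isOrders_le_of_binom hK φ hφ (AlgHom.id k K) s H hH J hJ P hP
    (fun l : Fin n => (l : ℕ) + 1) hI (Or.inl (fun l => Nat.succ_pos _)) N hN (by
      intro J' hJ'm hJ'pos hJ'N
      exact det_binom_consecutive_succ_ne_zero hsmall J' hJ'm.injective hJ'N hJ'pos)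
  have hJpos : ∀ l, 1 ≤ J l := by
    intro l
    by_contra h0
    have h00 : J l = 0 := by omega
    have hj := (hJ.2 (J l)).1 ⟨l, rfl⟩
    rw [h00] at hj
    apply hj
    apply Submodule.subset_span
    refine ⟨0, by simp, ?_⟩
    funext i
    change (AlgHom.id k K) (φ i) = LocRes.hasseD H 0 (φ i)
    rw [LocRes.hasseD_apply, PowerSeries.coeff_zero_eq_constantCoeff_apply, hH.2]
    rfl
  have hge := fun l => strictMono_add_le J hJ.1 l 1 hJpos
  funext l
  exact le_antisymm (hle l) (hge l)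

/-- **local weight formula**: in large characteristic, the coefficient of the Weierstrass divisor
at `P` is `Σ (j'_l - (l+1))` with `j'` the orders at `P` -/
theorem exists_local_weight [IsAlgClosed k] (hK : IsFunctionField k K) {n : ℕ}
    (φ : Fin (n + 1) → K) (hφ : LinearIndependent k φ)
    (hchar : ringChar k = 0 ∨ (mapDiv k φ).deg < ringChar k)
    (s : K) (H : K →ₐ[k] K⟦X⟧) (hH : LocRes.IsHasseFamily s H) (J : Fin n → ℕ)
    (hJ : IsOrders K (hcol (AlgHom.id k K) H φ) J)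
    (Φ : FunFld.Place k K → (K →ₐ[k] LaurentSeries k))
    (hΦ : ∀ P : FunFld.Place k K, LocRes.IsExpansionAt P.1 (Φ P)) (P : FunFld.Place k K) :
    ∃ (t : K) (Ht : K →ₐ[k] K⟦X⟧) (i0 : Fin (n + 1)) (J' : Fin n → ℕ),
      P.1 t = WithZero.exp (-1 : ℤ) ∧ LocRes.IsHasseFamily t Ht ∧
      (∀ i, v P (φ i) ≤ v P (φ i0)) ∧
      (1 : K) ∈ Submodule.span k (Set.range ((φ i0)⁻¹ • φ)) ∧
      (∀ i, P.1 (((φ i0)⁻¹ • φ) i) ≤ 1) ∧
      IsOrders (IsLocalRing.ResidueField P.O) (hcolAt P Ht ((φ i0)⁻¹ • φ)) J' ∧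
      (∀ l, 1 ≤ J' l) ∧ (∀ l, (J' l : ℤ) ≤ (mapDiv k φ).deg) ∧
      wDiv (AlgHom.id k K) H Φ s φ J P = ∑ l : Fin n, ((J' l : ℤ) - ((l : ℕ) + 1)) := by
  classical
  have hJeq := orders_eq_succ hK φ hφ hchar s H hH J hJ
  obtain ⟨t, Ht, i0, φ', ht, hHt, hi0, hφ'eq, hli', heff', hint', hJt⟩ :=
    exists_local_form' hK φ hφ (AlgHom.id k K) s H hH J hJ P
  subst hφ'eq
  have hφ0 : ∀ i, φ i ≠ 0 := fun i => hφ.ne_zero i
  have hone : ∃ i, v P (((φ i0)⁻¹ • φ) i) = 1 := by
    refine ⟨i0, ?_⟩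
    rw [Pi.smul_apply, smul_eq_mul, inv_mul_cancel₀ (hφ0 i0), map_one]
  obtain ⟨J', hJ'⟩ := exists_isOrders_hcolAt hK P t ht Ht hHt _ hli' hint' hone
  have hJ'pos := fun l => one_le_of_isOrders hK P t ht Ht hHt _ hint' J' hJ' l
  have hJ'N : ∀ l, (J' l : ℤ) ≤ (mapDiv k φ).deg := by
    intro l
    have hjump : IsJump (IsLocalRing.ResidueField P.O) (hcolAt P Ht ((φ i0)⁻¹ • φ)) (J' l + 1) :=
      (hJ'.2 (J' l)).1 ⟨l, rfl⟩
    rw [isJump_hcolAt_succ_iff hK P t ht Ht hHt _ hint' (J' l)] at hjump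
    obtain ⟨-, f, hf, hf0, hfo⟩ := hjump
    have := ord_le_deg_mapDiv hK φ hφ P i0 hi0 hf hf0
    rw [hfo] at this
    exact this
  refine ⟨t, Ht, i0, J', ht, hHt, hi0, heff', hint', hJ', hJ'pos, hJ'N, ?_⟩
  have h14 := Groth.Agent.S12614.result k K hK φ hφ (AlgHom.id k K) s H hH t Ht hHt J hJ
    (1 : Matrix (Fin (n + 1)) (Fin (n + 1)) k) (by simp) (φ i0)⁻¹ (inv_ne_zero (hφ0 i0))
    ((φ i0)⁻¹ • φ) (by
      intro i
      rw [Pi.smul_apply, smul_eq_mul]
      congr 1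
      rw [Finset.sum_eq_single i]
      · simp
      · intro j _ hji
        rw [Matrix.one_apply_ne (Ne.symm hji), zero_smul]
      · intro h; exact absurd (Finset.mem_univ i) h) Φ hΦ
  rw [← h14]
  have hP : IsFixedPt (AlgHom.id k K) P := fun z hz => hz
  have h15 := Groth.Agent.S12615.result k K hK (AlgHom.id k K) P hP _ hli' heff' hint' t ht Ht
    hHt J hJt J' hJ' Φ hΦ
  obtain ⟨N, hNd⟩ : ∃ N : ℕ, N = (mapDiv k φ).deg.toNat := ⟨_, rfl⟩
  have hsmall : ∀ a : ℕ, 0 < a → a ≤ N → ((a : ℕ) : k) ≠ 0 := by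
    intro a ha haN
    apply natCast_ne_zero_of_char (mapDiv k φ).deg hchar a ha
    have : a ≤ (mapDiv k φ).deg.toNat := hNd ▸ haN
    omega
  have hdet : (binomMat k J' J).det ≠ 0 := by
    rw [hJeq]
    refine det_binom_consecutive_succ_ne_zero hsmall J' hJ'.1.injective ?_ (fun l => hJ'pos l)
    intro l
    have := hJ'N l
    omega
  rw [(h15.2 (Or.inl rfl)).2 hdet, hJeq]
  apply Finset.sum_congr rfl
  intro l _
  push_cast
  ring

/-- the canonical map has `g` entries -/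
theorem card_canonical (hK : IsFunctionField k K) (C : Divisor k K) (hC : IsCanonical k K C)
    {n : ℕ} (φ : Fin (n + 1) → K) (hφ : LinearIndependent k φ)
    (hspan : Submodule.span k (Set.range φ) = L C) : n + 1 = genus k K := by
  have h1 := finrank_span_eq_card hφ
  rw [hspan, ← ell_def, ell_canonical hK hC] at h1
  simpa using h1.symm

/-- the canonical system has no base points -/
theorem mapDiv_canonical [IsAlgClosed k] (hK : IsFunctionField k K) (hg : 0 < genus k K)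
    (C : Divisor k K) (hC : IsCanonical k K C)
    {n : ℕ} (φ : Fin (n + 1) → K) (hφ : LinearIndependent k φ)
    (hspan : Submodule.span k (Set.range φ) = L C) : mapDiv k φ = C := by
  classical
  have hφ0 : ∀ i, φ i ≠ 0 := fun i => hφ.ne_zero i
  have hmemL : ∀ i, φ i ∈ L C := fun i => by
    rw [← hspan]; exact Submodule.subset_span ⟨i, rfl⟩
  apply le_antisymm (mapDiv_le_of_mem_L hK φ hφ0 C hmemL)
  intro P
  have hP := deg_eq_one_of_isAlgClosed hK P
  obtain ⟨z, hz0, hzL, hzo⟩ := exists_mem_L_ord_eq P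
    (ell_sub_single_lt_ell hK hg C (Or.inr hC) P hP)
  rw [mapDiv_apply ⟨hK.1.choose, hK.1.choose_spec⟩]
  have h1 := inf'_ord_le_of_mem_span (k := k) P φ hφ0 (fun _ : Fin 1 => z) (fun _ => hz0)
    (fun _ => by rw [hspan]; exact hzL)
  have h2 : Finset.univ.inf' Finset.univ_nonempty (fun _ : Fin 1 => P.ord z) = P.ord z := by
    simp
  rw [h2, hzo] at h1
  omega

theorem sum_succ_mul_two (n : ℕ) : (∑ l : Fin n, (((l : ℕ) : ℤ) + 1)) * 2 = (n : ℤ) * (n + 1) := by
  induction n with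
  | zero => simp
  | succ n ih =>
    rw [Fin.sum_univ_castSucc, add_mul]
    simp only [Fin.val_castSucc, Fin.val_last]
    rw [ih]
    push_cast
    ring

/-- the degree of the Weierstrass divisor of the canonical map -/
theorem deg_wDiv_canonical [IsAlgClosed k] (hK : IsFunctionField k K) (hg : 0 < genus k K)
    (C : Divisor k K) (hC : IsCanonical k K C)
    {n : ℕ} (φ : Fin (n + 1) → K) (hφ : LinearIndependent k φ)
    (hspan : Submodule.span k (Set.range φ) = L C)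
    (s : K) (H : K →ₐ[k] K⟦X⟧) (hH : LocRes.IsHasseFamily s H)
    (hJ : IsOrders K (hcol (AlgHom.id k K) H φ) (fun l : Fin n => (l : ℕ) + 1))
    (Φ : FunFld.Place k K → (K →ₐ[k] LaurentSeries k))
    (hΦ : ∀ P : FunFld.Place k K, LocRes.IsExpansionAt P.1 (Φ P)) :
    (wDiv (AlgHom.id k K) H Φ s φ (fun l : Fin n => (l : ℕ) + 1)).deg =
      (n : ℤ) * (n + 1) * (n + 2) := by
  have hn := card_canonical hK C hC φ hφ hspan
  have h1 := (Groth.Agent.S12603.result k K hK φ hφ (AlgHom.id k K) s H hH _ hJ Φ hΦ).2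
  rw [h1, mapDiv_canonical hK hg C hC φ hφ hspan, deg_canonical hK hC]
  have h2 : Module.finrank (AlgHom.id k K).fieldRange K = 1 := by
    have : (AlgHom.id k K).fieldRange = ⊤ := by
      rw [AlgHom.fieldRange_eq_top]; exact Function.surjective_id
    rw [this]
    exact IntermediateField.finrank_top
  rw [h2, ← hn]
  have h3 := sum_succ_mul_two n
  have h4 : (∑ l : Fin n, (((l : ℕ) + 1 : ℕ) : ℤ)) = ∑ l : Fin n, (((l : ℕ) : ℤ) + 1) := by
    apply Finset.sum_congr rfl; intro l _; push_cast; ring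
  rw [h4]
  push_cast
  nlinarith [h3]

/-- canonical orders at `P` are the gaps minus one -/
theorem mem_range_orders_iff_isGap [IsAlgClosed k] (hK : IsFunctionField k K)
    (C : Divisor k K) (hC : IsCanonical k K C)
    {n : ℕ} (φ : Fin (n + 1) → K) (hφ : LinearIndependent k φ)
    (hspan : Submodule.span k (Set.range φ) = L C) (P : FunFld.Place k K)
    (t : K) (ht : P.1 t = WithZero.exp (-1 : ℤ)) (Ht : K →ₐ[k] K⟦X⟧)
    (hHt : LocRes.IsHasseFamily t Ht) (i0 : Fin (n + 1))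
    (heff : (1 : K) ∈ Submodule.span k (Set.range ((φ i0)⁻¹ • φ)))
    (hint : ∀ i, P.1 (((φ i0)⁻¹ • φ) i) ≤ 1) (J' : Fin n → ℕ)
    (hJ' : IsOrders (IsLocalRing.ResidueField P.O) (hcolAt P Ht ((φ i0)⁻¹ • φ)) J')
    (j : ℕ) (hj : 1 ≤ j) : j ∈ Set.range J' ↔ IsGap P (j + 1) := by
  have hφ0 : ∀ i, φ i ≠ 0 := fun i => hφ.ne_zero i
  rw [hJ'.2 j, isGap_succ_iff]
  exact Groth.Agent.S12609.result k K hK C hC φ hφ hspan P (φ i0)⁻¹ (inv_ne_zero (hφ0 i0)) heff
    (fun i => hint i) t ht Ht hHt j hj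

open Classical in
/-- the `l`-th canonical order at `P` is at most `2l + 2` -/
theorem orders_le_two_mul [IsAlgClosed k] (hK : IsFunctionField k K)
    (C : Divisor k K) (hC : IsCanonical k K C)
    {n : ℕ} (φ : Fin (n + 1) → K) (hφ : LinearIndependent k φ)
    (hspan : Submodule.span k (Set.range φ) = L C) (P : FunFld.Place k K)
    (t : K) (ht : P.1 t = WithZero.exp (-1 : ℤ)) (Ht : K →ₐ[k] K⟦X⟧)
    (hHt : LocRes.IsHasseFamily t Ht) (i0 : Fin (n + 1))
    (heff : (1 : K) ∈ Submodule.span k (Set.range ((φ i0)⁻¹ • φ)))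
    (hint : ∀ i, P.1 (((φ i0)⁻¹ • φ) i) ≤ 1) (J' : Fin n → ℕ)
    (hJ' : IsOrders (IsLocalRing.ResidueField P.O) (hcolAt P Ht ((φ i0)⁻¹ • φ)) J')
    (hJ'pos : ∀ l, 1 ≤ J' l) (l : Fin n) : J' l ≤ 2 * (l : ℕ) + 2 := by
  have hiff := mem_range_orders_iff_isGap hK C hC φ hφ hspan P t ht Ht hHt i0 heff hint J' hJ'
  have hgap : IsGap P (J' l + 1) := (hiff (J' l) (hJ'pos l)).1 ⟨l, rfl⟩
  have h1 := sub_one_le_two_mul_card_gaps P (J' l + 1) hgap
  have hsub : (Finset.Ico 1 (J' l + 1)).filter (IsGap P) ⊆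
      insert 1 ((Finset.Iio l).image (fun l' : Fin n => J' l' + 1)) := by
    intro m hm
    rw [Finset.mem_filter, Finset.mem_Ico] at hm
    obtain ⟨⟨hm1, hm2⟩, hmg⟩ := hm
    rw [Finset.mem_insert]
    by_cases h : m = 1
    · exact Or.inl h
    · right
      obtain ⟨j, rfl⟩ : ∃ j, m = j + 1 := ⟨m - 1, by omega⟩
      obtain ⟨l', hl'⟩ := (hiff j (by omega)).2 hmg
      rw [Finset.mem_image]
      refine ⟨l', ?_, by rw [hl']⟩
      rw [Finset.mem_Iio]
      rw [← hl'] at hm2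
      exact hJ'.1.lt_iff_lt.1 (by omega)
  have h2 := Finset.card_le_card hsub
  have h3 : (insert 1 ((Finset.Iio l).image (fun l' : Fin n => J' l' + 1))).card ≤ (l : ℕ) + 1 := by
    refine (Finset.card_insert_le _ _).trans ?_
    have := Finset.card_image_le (s := Finset.Iio l) (f := fun l' : Fin n => J' l' + 1)
    rw [Fin.card_Iio] at this
    omega
  omega

/-- **weight bound** at a place, for the canonical map in large characteristic -/
theorem weight_bound [IsAlgClosed k] (hK : IsFunctionField k K)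
    (C : Divisor k K) (hC : IsCanonical k K C)
    {n : ℕ} (φ : Fin (n + 1) → K) (hφ : LinearIndependent k φ)
    (hspan : Submodule.span k (Set.range φ) = L C)
    (hchar : ringChar k = 0 ∨ (mapDiv k φ).deg < ringChar k)
    (s : K) (H : K →ₐ[k] K⟦X⟧) (hH : LocRes.IsHasseFamily s H) (J : Fin n → ℕ)
    (hJ : IsOrders K (hcol (AlgHom.id k K) H φ) J)
    (Φ : FunFld.Place k K → (K →ₐ[k] LaurentSeries k))
    (hΦ : ∀ P : FunFld.Place k K, LocRes.IsExpansionAt P.1 (Φ P)) (P : FunFld.Place k K) :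
    2 * wDiv (AlgHom.id k K) H Φ s φ J P ≤ (n : ℤ) * (n + 1) ∧
    (2 * wDiv (AlgHom.id k K) H Φ s φ J P = (n : ℤ) * (n + 1) → 0 < n → ¬ IsGap P 2) := by
  classical
  obtain ⟨t, Ht, i0, J', ht, hHt, hi0, heff, hint, hJ', hJ'pos, hJ'N, hW⟩ :=
    Groth.Agent.Lib.Helper26.Weier.exists_local_weight hK φ hφ hchar s H hH J hJ Φ hΦ P
  have hle := orders_le_two_mul hK C hC φ hφ hspan P t ht Ht hHt i0 heff hint J' hJ' hJ'pos
  have h1 : ∀ l : Fin n, ((J' l : ℤ) - ((l : ℕ) + 1)) ≤ (((l : ℕ) : ℤ) + 1) := by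
    intro l
    have := hle l
    omega
  have h2 := Finset.sum_le_sum (fun l (_ : l ∈ Finset.univ) => h1 l)
  have h3 := sum_succ_mul_two n
  rw [hW]
  refine ⟨by linarith, ?_⟩
  intro heq hn
  have h4 : ∑ l : Fin n, ((J' l : ℤ) - ((l : ℕ) + 1)) = ∑ l : Fin n, (((l : ℕ) : ℤ) + 1) := by
    linarith
  have h5 := (Finset.sum_eq_sum_iff_of_le (fun l (_ : l ∈ Finset.univ) => h1 l)).1 h4
    ⟨0, hn⟩ (Finset.mem_univ _)
  simp only at h5
  have h6 : J' ⟨0, hn⟩ = 2 := by
    have : ((J' ⟨0, hn⟩ : ℕ) : ℤ) = 2 := by push_cast at h5 ⊢; linarith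
    exact_mod_cast this
  have hiff := mem_range_orders_iff_isGap hK C hC φ hφ hspan P t ht Ht hHt i0 heff hint J' hJ'
  intro hgap
  obtain ⟨l, hl⟩ := (hiff 1 le_rfl).2 hgap
  have h7 : J' ⟨0, hn⟩ ≤ J' l := hJ'.1.monotone (by simp [Fin.le_def])
  omega

/-- **counting Weierstrass points** -/
theorem card_support_wDiv [IsAlgClosed k] (hK : IsFunctionField k K) (hg : 1 < genus k K)
    (hchar : ringChar k = 0 ∨ 2 * genus k K - 2 < ringChar k)
    (C : Divisor k K) (hC : IsCanonical k K C)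
    {n : ℕ} (φ : Fin (n + 1) → K) (hφ : LinearIndependent k φ)
    (hspan : Submodule.span k (Set.range φ) = L C)
    (s : K) (H : K →ₐ[k] K⟦X⟧) (hH : LocRes.IsHasseFamily s H) (J : Fin n → ℕ)
    (hJ : IsOrders K (hcol (AlgHom.id k K) H φ) J)
    (Φ : FunFld.Place k K → (K →ₐ[k] LaurentSeries k))
    (hΦ : ∀ P : FunFld.Place k K, LocRes.IsExpansionAt P.1 (Φ P)) :
    2 * genus k K + 2 ≤ (wDiv (AlgHom.id k K) H Φ s φ J).support.card ∧
    ((wDiv (AlgHom.id k K) H Φ s φ J).support.card = 2 * genus k K + 2 →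
      ∀ P ∈ (wDiv (AlgHom.id k K) H Φ s φ J).support, ¬ IsGap P 2) := by
  classical
  have hg0 : 0 < genus k K := by omega
  have hn := card_canonical hK C hC φ hφ hspan
  have hmd := mapDiv_canonical hK hg0 C hC φ hφ hspan
  have hchar' : ringChar k = 0 ∨ (mapDiv k φ).deg < ringChar k := by
    rcases hchar with h | h
    · exact Or.inl h
    · right
      rw [hmd, deg_canonical hK hC]
      omega
  have hJeq := orders_eq_succ hK φ hφ hchar' s H hH J hJ
  obtain ⟨W, hWdef⟩ : ∃ W, W = wDiv (AlgHom.id k K) H Φ s φ J := ⟨_, rfl⟩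
  rw [← hWdef]
  have hdeg : W.deg = (n : ℤ) * (n + 1) * (n + 2) := by
    rw [hWdef]
    subst hJeq
    exact deg_wDiv_canonical hK hg0 C hC φ hφ hspan s H hH hJ Φ hΦ
  have hb := fun P => weight_bound hK C hC φ hφ hspan hchar' s H hH J hJ Φ hΦ P
  rw [← hWdef] at hb
  have hdeg2 : W.deg = ∑ P ∈ W.support, W P := by
    rw [deg_def, Finsupp.sum]
    apply Finset.sum_congr rfl
    intro P _
    rw [deg_eq_one_of_isAlgClosed hK P]
    simp
  have hn1 : 1 ≤ n := by omega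
  have hpos : (0 : ℤ) < (n : ℤ) * (n + 1) := by positivity
  have hsum : (2 : ℤ) * ((n : ℤ) * (n + 1) * (n + 2)) ≤ W.support.card * ((n : ℤ) * (n + 1)) := by
    calc (2 : ℤ) * ((n : ℤ) * (n + 1) * (n + 2)) = ∑ P ∈ W.support, 2 * W P := by
          rw [← Finset.mul_sum, ← hdeg2, hdeg]
      _ ≤ ∑ _P ∈ W.support, ((n : ℤ) * (n + 1)) := Finset.sum_le_sum fun P _ => (hb P).1
      _ = W.support.card * ((n : ℤ) * (n + 1)) := by rw [Finset.sum_const, nsmul_eq_mul]
  have hcard : (2 : ℤ) * (n + 2) ≤ W.support.card := by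
    by_contra hlt
    push Not at hlt
    have : (W.support.card : ℤ) * ((n : ℤ) * (n + 1)) < 2 * (n + 2) * ((n : ℤ) * (n + 1)) :=
      mul_lt_mul_of_pos_right hlt hpos
    nlinarith
  constructor
  · have : ((2 * genus k K + 2 : ℕ) : ℤ) ≤ W.support.card := by
      rw [← hn]; push_cast; linarith
    exact_mod_cast this
  · intro hc P hP
    have hc' : (W.support.card : ℤ) = 2 * (n + 2) := by
      rw [hc, ← hn]; push_cast; ring
    have h1 : ∑ P ∈ W.support, ((n : ℤ) * (n + 1) - 2 * W P) = 0 := by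
      rw [Finset.sum_sub_distrib, Finset.sum_const, nsmul_eq_mul, hc', ← Finset.mul_sum,
        ← hdeg2, hdeg]
      ring
    have h2 := (Finset.sum_eq_zero_iff_of_nonneg (fun Q _ => by
      have := (hb Q).1; linarith)).1 h1 P hP
    exact (hb P).2 (by linarith) (by omega)

end Groth.Agent.Lib.Helper26.Weier
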