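import Mathlib
import Groth.Agent.Lib.Helper26.Weier
import Groth.Agent.Lib.Helper2.FunFld.Aut
set_option autoImplicit false
open scoped WithZero IntermediateField PowerSeries LaurentSeries
open FunFld
open Groth.Agent.Lib.Helper2.FF
open Groth.Agent.Lib.Helper26.SFBound

namespace Groth.Agent.Lib.Helper26.Weier

variable {k K : Type*} [Field k] [Field K] [Algebra k K]

/-- a divisor of degree zero has `ℓ ≤ 1` -/
theorem ell_le_one_of_deg_zero (hK : IsFunctionField k K) (E : Divisor k K) (hE : E.deg = 0) :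
    ell E ≤ 1 := by
  by_cases hbot : L E = ⊥
  · rw [ell_def, hbot, finrank_bot]; omega
  · obtain ⟨z, hz, hz0⟩ := Submodule.exists_mem_ne_zero_of_ne_bot hbot
    rw [mem_L_iff_div hK hz0] at hz
    have hdeg : (FunFld.div k z + E).deg = 0 := by rw [deg_add, deg_div hK, hE]; ring
    have h5 := eq_of_le_of_deg_eq hK hz (by rw [hdeg, deg_zero])
    have h6 : E = 0 + FunFld.div k z⁻¹ := by
      rw [div_inv hK, zero_add]
      have : E = (FunFld.div k z + E) - FunFld.div k z := by abel
      rw [this, ← h5]; abel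
    rw [h6, ell_add_div hK _ (inv_ne_zero hz0), ell_zero hK]

/-- for a function `x` of degree two, `(g-1)` times its pole divisor is canonical -/
theorem isCanonical_nsmul_pdiv (hK : IsFunctionField k K) (hg : 0 < genus k K) {x : K}
    (hx : Transcendental k x) (hd : (pdiv (k := k) x).deg = 2) :
    IsCanonical k K ((genus k K - 1) • pdiv (k := k) x) := by
  rw [isCanonical_iff hK]
  have hdeg : ((genus k K - 1) • pdiv (k := k) x).deg = 2 * genus k K - 2 := by
    rw [deg_nsmul, hd]; push_cast [Nat.cast_sub hg]; ring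
  refine ⟨?_, hdeg⟩
  have h1 := succ_le_ell_nsmul_pdiv hK hx (genus k K - 1)
  obtain ⟨W, hW⟩ := exists_isCanonical hK
  have h3 := riemann_roch hK W hW ((genus k K - 1) • pdiv (k := k) x)
  have h4 := ell_le_one_of_deg_zero hK (W - (genus k K - 1) • pdiv (k := k) x)
    (by rw [deg_sub, deg_canonical hK hW, hdeg]; ring)
  rw [hdeg] at h3
  have h5 : (ell (W - (genus k K - 1) • pdiv (k := k) x) : ℤ) ≤ 1 := by exact_mod_cast h4
  have h6 : ((genus k K - 1 + 1 : ℕ) : ℤ) ≤ ell ((genus k K - 1) • pdiv (k := k) x) := by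
    exact_mod_cast h1
  have h7 : (ell ((genus k K - 1) • pdiv (k := k) x) : ℤ) = genus k K := by
    have : ((genus k K - 1 + 1 : ℕ) : ℤ) = genus k K := by
      have : genus k K - 1 + 1 = genus k K := by omega
      rw [this]
    omega
  exact_mod_cast h7

/-- `ℓ(2Q) = 2` when `2` is not a gap at `Q` (positive genus) -/
theorem ell_two_of_not_isGap (hK : IsFunctionField k K) (hg : 0 < genus k K)
    (Q : FunFld.Place k K) (hQ : Q.deg = 1) (h2 : ¬ IsGap Q 2) : ell (nP Q (2 : ℤ)) = 2 := by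
  have h1 := ell_nP_succ hK Q hQ 1
  rw [if_neg h2] at h1
  have h3 : ell (nP Q ((1 : ℕ) : ℤ)) = 1 := by
    have := ell_single_eq_one hK hg Q hQ
    simpa [nP] using this
  rw [h3] at h1
  have : ((1 : ℕ) : ℤ) + 1 = 2 := by norm_num
  rw [this] at h1
  exact h1

/-- in a hyperelliptic field, the degree-two function is ramified at every place where `2` is a
non-gap -/
theorem exists_double_zero [IsAlgClosed k] (hK : IsFunctionField k K) (hg : 1 < genus k K)
    {x : K} (hx : Transcendental k x) (hd : (pdiv (k := k) x).deg = 2)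
    (Q : FunFld.Place k K) (hQx : pdiv (k := k) x Q = 0) (h2 : ¬ IsGap Q 2) :
    ∃ c : k, v Q (x - algebraMap k K c) < 1 ∧
      ∀ R : FunFld.Place k K, v R (x - algebraMap k K c) < 1 → R = Q := by
  classical
  have hg0 : 0 < genus k K := by omega
  have hQ := deg_eq_one_of_isAlgClosed hK Q
  have hx0 : x ≠ 0 := by
    rintro rfl
    exact hx (isAlgebraic_zero)
  have hvx : v Q x ≤ 1 := by
    have := v_le_exp_pdiv hK x Q
    rwa [hQx, WithZero.exp_zero] at this
  obtain ⟨c, hc⟩ := exists_sub_lt_one Q hQ hvx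
  refine ⟨c, hc, ?_⟩
  obtain ⟨u, hu⟩ : ∃ u : K, u = x - algebraMap k K c := ⟨_, rfl⟩
  rw [← hu] at hc ⊢
  have hu0 : u ≠ 0 := by
    intro h0
    rw [hu, sub_eq_zero] at h0
    apply hx
    rw [h0]
    exact isAlgebraic_algebraMap c
  obtain ⟨D₀, hD₀⟩ : ∃ D₀ : Divisor k K, D₀ = (genus k K - 1) • pdiv (k := k) x := ⟨_, rfl⟩
  have hcan : IsCanonical k K D₀ := hD₀ ▸ isCanonical_nsmul_pdiv hK hg0 hx hd
  have hD₀nn : (0 : Divisor k K) ≤ D₀ := by
    rw [hD₀]; exact nsmul_nonneg (pdiv_nonneg x) _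
  have hpd_le : pdiv (k := k) x ≤ D₀ := by
    rw [hD₀]
    have h1 : (1 : ℕ) • pdiv (k := k) x ≤ (genus k K - 1) • pdiv (k := k) x :=
      nsmul_le_nsmul_left (pdiv_nonneg x) (by omega)
    rwa [one_smul] at h1
  have hcL : ∀ (D : Divisor k K), 0 ≤ D → algebraMap k K c ∈ L D := by
    intro D hD R
    exact (v_algebraMap_le R c).trans (by
      rw [← WithZero.exp_zero, WithZero.exp_le_exp]; exact hD R)
  have huP : u ∈ L (pdiv (k := k) x) := by
    rw [hu]; exact Submodule.sub_mem _ (mem_L_pdiv hK x) (hcL _ (pdiv_nonneg x))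
  have huL : u ∈ L D₀ := L_mono hpd_le huP
  have hD₀Q : D₀ Q = 0 := by
    rw [hD₀]; simp [hQx]
  -- u ∈ L(D₀ - Q)
  have huL1 : u ∈ L (D₀ - (Finsupp.single Q 1 : Divisor k K)) := by
    intro R
    by_cases hR : R = Q
    · subst hR
      rw [sub_single_apply_self, hD₀Q]
      have := (v_lt_one_iff R hu0).1 hc
      rw [v_le_exp_iff R hu0]
      omega
    · rw [sub_single_apply_ne D₀ hR]
      exact huL R
  -- dimensions
  have hrr1 := riemann_roch hK D₀ hcan (Finsupp.single Q 1 : Divisor k K)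
  have hrr2 := riemann_roch hK D₀ hcan (nP Q (2 : ℤ))
  rw [ell_single_eq_one hK hg0 Q hQ, deg_single, hQ] at hrr1
  rw [ell_two_of_not_isGap hK hg0 Q hQ h2, deg_nP, hQ] at hrr2
  have hsub : D₀ - nP Q (2 : ℤ) =
      (D₀ - (Finsupp.single Q 1 : Divisor k K)) - (Finsupp.single Q 1 : Divisor k K) := by
    rw [sub_sub, ← Finsupp.single_add]; norm_num
  have hle : L (D₀ - nP Q (2 : ℤ)) ≤ L (D₀ - (Finsupp.single Q 1 : Divisor k K)) := by
    rw [hsub]; exact L_mono (sub_single_le _ Q)
  have := finiteDimensional_L hK (D₀ - (Finsupp.single Q 1 : Divisor k K))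
  have heq : L (D₀ - nP Q (2 : ℤ)) = L (D₀ - (Finsupp.single Q 1 : Divisor k K)) := by
    apply Submodule.eq_of_le_of_finrank_eq hle
    rw [← ell_def, ← ell_def]
    have : (ell (D₀ - nP Q (2 : ℤ)) : ℤ) = ell (D₀ - (Finsupp.single Q 1 : Divisor k K)) := by
      push_cast at hrr1 hrr2
      linarith
    exact_mod_cast this
  have huL2 : u ∈ L (D₀ - nP Q (2 : ℤ)) := by rw [heq]; exact huL1
  have hordQ : 2 ≤ Q.ord u := by
    have h1 := (v_le_exp_iff Q hu0 _).1 (huL2 Q)
    rw [Finsupp.sub_apply, hD₀Q, nP_apply_self] at h1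
    omega
  -- zero divisor
  have hzle : nP Q (2 : ℤ) ≤ zdiv (k := k) u := by
    intro R
    rw [zdiv_apply hK]
    by_cases hR : R = Q
    · subst hR; rw [nP_apply_self]; exact le_max_of_le_left hordQ
    · rw [nP, Finsupp.single_apply, if_neg (Ne.symm hR)]; exact le_max_right _ _
  have hdz : (zdiv (k := k) u).deg ≤ 2 := by
    rw [deg_zdiv_eq_deg_pdiv hK, ← hd]
    exact deg_mono (pdiv_le_of_mem_L hK (pdiv_nonneg x) huP)
  have hdn : (nP Q (2 : ℤ)).deg = 2 := by rw [deg_nP, hQ]; norm_num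
  have hzeq : nP Q (2 : ℤ) = zdiv (k := k) u :=
    eq_of_le_of_deg_eq hK hzle (by have := deg_mono hzle; omega)
  intro R hR
  by_contra hne
  have h1 : zdiv (k := k) u R = 0 := by
    rw [← hzeq, nP, Finsupp.single_apply, if_neg (Ne.symm hne)]
  rw [zdiv_apply hK] at h1
  have h2 := (v_lt_one_iff R hu0).1 hR
  have h3 := le_max_left (R.ord u) 0
  omega

/-- **the hyperelliptic case**: automorphisms fixing a large set of places where `2` is a non-gap
are exactly those fixing the degree-two function -/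
theorem fixed_iff_of_hyperelliptic [IsAlgClosed k] (hK : IsFunctionField k K)
    (hg : 1 < genus k K) (S : Finset (FunFld.Place k K)) (hS : ∀ P ∈ S, ¬ IsGap P 2)
    (hcard : 4 ≤ S.card) (P₀ : FunFld.Place k K) (hP₀ : P₀ ∈ S) (x : K)
    (hxL : x ∈ L (nP P₀ (2 : ℤ))) (hxo : P₀.ord x = -2) :
    Module.finrank k⟮x⟯ K = 2 ∧
    ∀ σ : K ≃ₐ[k] K, (∀ P ∈ S, IsFixedPt (σ : K →ₐ[k] K) P) ↔ σ x = x := by
  classical
  have hpd : pdiv (k := k) x = nP P₀ (2 : ℤ) := by
    have := pdiv_eq_single hK P₀ (n := 2) (z := x) (by exact_mod_cast hxL) (by exact_mod_cast hxo)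
    exact_mod_cast this
  have hxk : x ∉ Set.range (algebraMap k K) :=
    not_mem_range_of_ord_ne_zero P₀ (by rw [hxo]; norm_num)
  have hx := transcendental_of_not_mem_range hK hxk
  have hP₀deg := deg_eq_one_of_isAlgClosed hK P₀
  have hd : (pdiv (k := k) x).deg = 2 := by rw [hpd, deg_nP, hP₀deg]; norm_num
  have hfr : Module.finrank k⟮x⟯ K = 2 := by
    have := deg_pdiv hK hx
    rw [hd] at this
    exact_mod_cast this.symm
  refine ⟨hfr, ?_⟩
  have hx0 : x ≠ 0 := by
    rintro rfl
    exact hx isAlgebraic_zero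
  have hc : ∀ Q ∈ S, Q ≠ P₀ → ∃ c : k, v Q (x - algebraMap k K c) < 1 ∧
      ∀ R : FunFld.Place k K, v R (x - algebraMap k K c) < 1 → R = Q := by
    intro Q hQ hne
    apply exists_double_zero hK hg hx hd Q _ (hS Q hQ)
    rw [hpd, nP, Finsupp.single_apply, if_neg (Ne.symm hne)]
  have hpole : ∀ R : FunFld.Place k K, 1 < v R x → R = P₀ := by
    intro R hR
    by_contra hne
    have h1 : pdiv (k := k) x R = 0 := by
      rw [hpd, nP, Finsupp.single_apply, if_neg (Ne.symm hne)]
    rw [pdiv_apply hK] at h1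
    have h2 := (one_lt_v_iff R hx0).1 hR
    have h3 := le_max_left (-R.ord x) 0
    omega
  intro σ
  constructor
  · intro hfix
    by_contra hne
    obtain ⟨u, hu⟩ : ∃ u : K, u = σ x - x := ⟨_, rfl⟩
    have hu0 : u ≠ 0 := by rw [hu, sub_ne_zero]; exact hne
    have hfix₀ : comapPlace σ P₀ = P₀ := (isFixedPlace_iff σ P₀).1 (fun z hz => hfix P₀ hP₀ z hz)
    have hσxL : σ x ∈ L (nP P₀ (2 : ℤ)) := by
      intro R
      have h1 : v R (σ x) = v (comapPlace σ R) x := rfl
      rw [h1]
      by_cases hR : comapPlace σ R = P₀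
      · have : R = P₀ := by
          have h2 := comapPlace_symm_comapPlace σ R
          rw [hR] at h2
          have h3 := comapPlace_symm_comapPlace σ P₀
          rw [hfix₀] at h3
          rw [← h2, h3]
        rw [hR, this]
        exact hxL P₀
      · have h2 := hxL (comapPlace σ R)
        rw [nP, Finsupp.single_apply, if_neg (Ne.symm hR)] at h2
        refine h2.trans ?_
        rw [WithZero.exp_le_exp, nP, Finsupp.single_apply]
        split_ifs <;> norm_num
    have huL : u ∈ L (nP P₀ (2 : ℤ)) := by rw [hu]; exact Submodule.sub_mem _ hσxL hxL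
    have hnn : (0 : Divisor k K) ≤ nP P₀ (2 : ℤ) := by
      intro R; rw [nP, Finsupp.single_apply]; split_ifs <;> simp
    have h1 := deg_mono (pdiv_le_of_mem_L hK hnn huL)
    rw [deg_nP, hP₀deg] at h1
    norm_num at h1
    have h2 := card_le_deg_zdiv hK hu0 (S.erase P₀) (by
      intro Q hQ
      rw [Finset.mem_erase] at hQ
      obtain ⟨c, hc1, -⟩ := hc Q hQ.2 hQ.1
      have h3 := hfix Q hQ.2 _ hc1
      have h4 : (σ : K →ₐ[k] K) (x - algebraMap k K c) = σ x - algebraMap k K c := by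
        rw [map_sub]
        congr 1
        exact σ.commutes c
      rw [h4] at h3
      have h5 : u = (σ x - algebraMap k K c) - (x - algebraMap k K c) := by rw [hu]; ring
      rw [h5]
      exact lt_of_le_of_lt (Valuation.map_sub _ _ _) (max_lt h3 hc1))
    rw [deg_zdiv_eq_deg_pdiv hK, Finset.card_erase_of_mem hP₀] at h2
    have h6 : ((S.card - 1 : ℕ) : ℤ) ≤ 2 := by linarith
    omega
  · intro hσ P hP
    have hgoal : IsFixedPlace σ P := by
      rw [isFixedPlace_iff]
      by_cases hPP : P = P₀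
      · subst hPP
        apply hpole
        rw [v_comapPlace, hσ, one_lt_v_iff P hx0, hxo]
        norm_num
      · obtain ⟨c, hc1, hc2⟩ := hc P hP hPP
        apply hc2
        rw [v_comapPlace, map_sub, hσ]
        have : σ (algebraMap k K c) = algebraMap k K c := σ.commutes c
        rw [this]
        exact hc1
    exact fun z hz => hgoal z hz

end Groth.Agent.Lib.Helper26.Weier
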