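import Mathlib
import Groth.Agent.Lib.Helper26.Weier2
set_option autoImplicit false
open scoped WithZero IntermediateField PowerSeries LaurentSeries
open FunFld
open Groth.Agent.Lib.Helper2.FF
open Groth.Agent.Lib.Helper26.SFBound
open Groth.Agent.Lib.Helper26.WGlobal5

namespace Groth.Agent.Lib.Helper26.Weier

variable {k K : Type*} [Field k] [Field K] [Algebra k K]

theorem mem_L_nP_comapPlace (σ : K ≃ₐ[k] K) (P : FunFld.Place k K) (m : ℤ) (z : K) :
    z ∈ L (nP (comapPlace σ P) m) ↔ σ z ∈ L (nP P m) := by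
  classical
  constructor
  · intro h R
    have h1 := h (comapPlace σ R)
    rw [v_comapPlace] at h1
    refine h1.trans ?_
    rw [WithZero.exp_le_exp, nP, Finsupp.single_apply, Finsupp.single_apply]
    by_cases hR : P = R
    · subst hR; simp
    · rw [if_neg hR]
      have : comapPlace σ P ≠ comapPlace σ R := by
        intro heq
        apply hR
        have h2 := comapPlace_symm_comapPlace σ P
        rw [heq, comapPlace_symm_comapPlace] at h2
        exact h2.symm
      rw [if_neg this]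
  · intro h R
    have h1 := h (comapPlace σ.symm R)
    rw [v_comapPlace, AlgEquiv.symm_apply_apply] at h1
    refine h1.trans ?_
    rw [WithZero.exp_le_exp, nP, Finsupp.single_apply, Finsupp.single_apply]
    by_cases hR : comapPlace σ P = R
    · subst hR
      rw [comapPlace_symm_comapPlace]; simp
    · rw [if_neg hR]
      have : P ≠ comapPlace σ.symm R := by
        intro heq
        apply hR
        rw [heq, comapPlace_comapPlace_symm]
      rw [if_neg this]

theorem not_isGap_comapPlace (σ : K ≃ₐ[k] K) (P : FunFld.Place k K) (m : ℕ)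
    (h : ¬ IsGap P m) : ¬ IsGap (comapPlace σ P) m := by
  rw [not_isGap_iff] at h ⊢
  obtain ⟨z, hz0, hzL, hzo⟩ := h
  refine ⟨σ.symm z, ?_, ?_, ?_⟩
  · rw [Ne, map_eq_zero_iff _ σ.symm.injective]; exact hz0
  · rw [mem_L_nP_comapPlace, AlgEquiv.apply_symm_apply]; exact hzL
  · rw [← hzo, ord_def, ord_def, v_comapPlace, AlgEquiv.apply_symm_apply]

theorem isGap_comapPlace (σ : K ≃ₐ[k] K) (P : FunFld.Place k K) (m : ℕ) :
    IsGap (comapPlace σ P) m ↔ IsGap P m := by
  constructor
  · intro h
    by_contra hn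
    exact not_isGap_comapPlace σ P m hn h
  · intro h
    by_contra hn
    have := not_isGap_comapPlace σ.symm (comapPlace σ P) m hn
    rw [comapPlace_symm_comapPlace] at this
    exact this h

/-- Weierstrass points are the places with a gap beyond `g` -/
theorem wDiv_ne_zero_iff [IsAlgClosed k] (hK : IsFunctionField k K) (hg : 1 < genus k K)
    (hchar : ringChar k = 0 ∨ 2 * genus k K - 2 < ringChar k)
    (C : Divisor k K) (hC : IsCanonical k K C)
    {n : ℕ} (φ : Fin (n + 1) → K) (hφ : LinearIndependent k φ)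
    (hspan : Submodule.span k (Set.range φ) = L C)
    (s : K) (H : K →ₐ[k] K⟦X⟧) (hH : LocRes.IsHasseFamily s H) (J : Fin n → ℕ)
    (hJ : IsOrders K (hcol (AlgHom.id k K) H φ) J)
    (Φ : FunFld.Place k K → (K →ₐ[k] LaurentSeries k))
    (hΦ : ∀ P : FunFld.Place k K, LocRes.IsExpansionAt P.1 (Φ P)) (P : FunFld.Place k K) :
    wDiv (AlgHom.id k K) H Φ s φ J P ≠ 0 ↔ ∃ m : ℕ, genus k K < m ∧ IsGap P m := by
  classical
  have hg0 : 0 < genus k K := by omega
  have hn := card_canonical hK C hC φ hφ hspan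
  have hmd := mapDiv_canonical hK hg0 C hC φ hφ hspan
  have hchar' : ringChar k = 0 ∨ (mapDiv k φ).deg < ringChar k := by
    rcases hchar with h | h
    · exact Or.inl h
    · right
      rw [hmd, deg_canonical hK hC]
      omega
  obtain ⟨t, Ht, i0, J', ht, hHt, hi0, heff, hint, hJ', hJ'pos, hJ'N, hW⟩ :=
    exists_local_weight hK φ hφ hchar' s H hH J hJ Φ hΦ P
  have hiff := mem_range_orders_iff_isGap hK C hC φ hφ hspan P t ht Ht hHt i0 heff hint J' hJ'
  have hge : ∀ l : Fin n, (l : ℕ) + 1 ≤ J' l := fun l => strictMono_add_le J' hJ'.1 l 1 hJ'pos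
  have hterm : ∀ l : Fin n, (0 : ℤ) ≤ (J' l : ℤ) - ((l : ℕ) + 1) := by
    intro l; have := hge l; omega
  rw [hW]
  constructor
  · intro hne
    have : ∃ l : Fin n, (J' l : ℤ) - ((l : ℕ) + 1) ≠ 0 := by
      by_contra hall
      push Not at hall
      exact hne (Finset.sum_eq_zero fun l _ => hall l)
    obtain ⟨l, hl⟩ := this
    have hn1 : 0 < n := by omega
    have h2 := strictMono_diff_le J' hJ'.1 l (n - 1 - l.val) (by omega)
    have h3 : J' l > (l : ℕ) + 1 := by
      have := hge l
      omega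
    obtain ⟨j, hj⟩ : ∃ j, j = J' ⟨l.val + (n - 1 - l.val), by omega⟩ := ⟨_, rfl⟩
    refine ⟨j + 1, by omega, ?_⟩
    exact (hiff j (by omega)).1 ⟨_, hj.symm⟩
  · rintro ⟨m, hm, hgap⟩
    obtain ⟨j, rfl⟩ : ∃ j, m = j + 1 := ⟨m - 1, by omega⟩
    obtain ⟨l, hl⟩ := (hiff j (by omega)).2 hgap
    have h1 : (0 : ℤ) < (J' l : ℤ) - ((l : ℕ) + 1) := by
      have := l.isLt
      omega
    have h2 := Finset.single_le_sum (fun l _ => hterm l) (Finset.mem_univ l)
    omega

/-- automorphisms fixing an element with `K` finite over `k(x)` are finite in number -/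
theorem finite_setOf_apply_eq (x : K) (hfin : FiniteDimensional k⟮x⟯ K) :
    {σ : K ≃ₐ[k] K | σ x = x}.Finite := by
  classical
  have hfix : ∀ σ : K ≃ₐ[k] K, σ x = x → ∀ r : k⟮x⟯, σ (algebraMap k⟮x⟯ K r) = algebraMap k⟮x⟯ K r := by
    intro σ hσ r
    obtain ⟨p, q, hpq⟩ := (IntermediateField.mem_adjoin_simple_iff k (r : K)).1 r.2
    change σ (r : K) = (r : K)
    rw [hpq, map_div₀]
    have h1 : ∀ p : Polynomial k, σ (Polynomial.aeval x p) = Polynomial.aeval x p := by
      intro p
      have := Polynomial.aeval_algHom_apply (σ : K →ₐ[k] K) x p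
      change Polynomial.aeval (σ x) p = σ (Polynomial.aeval x p) at this
      rw [← this, hσ]
    rw [h1, h1]
  let F : {σ : K ≃ₐ[k] K // σ x = x} → (K ≃ₐ[k⟮x⟯] K) := fun σ =>
    AlgEquiv.ofRingEquiv (f := σ.1.toRingEquiv) (fun r => hfix σ.1 σ.2 r)
  have hF : Function.Injective F := by
    intro σ σ' h
    apply Subtype.ext
    ext z
    have := congrArg (fun e : K ≃ₐ[k⟮x⟯] K => e z) h
    exact this
  have : Finite {σ : K ≃ₐ[k] K // σ x = x} := Finite.of_injective F hF
  exact Set.finite_coe_iff.1 this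

end Groth.Agent.Lib.Helper26.Weier
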