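import Mathlib
import Groth.Agent.Lib.Helper26.Weier3
import Groth.Agent.S12618
import Groth.Agent.S12600
set_option autoImplicit false
open scoped WithZero IntermediateField PowerSeries LaurentSeries
open FunFld
open Groth.Agent.Lib.Helper2.FF
open Groth.Agent.Lib.Helper26.SFBound
open Groth.Agent.Lib.Helper26.WGlobal5
open Groth.Agent.Lib.Helper26.WGlobal7
open Groth.Agent.Lib.Helper26.HasseExists
open Groth.Agent.Lib.Helper26.Weier

namespace Groth.Agent.Lib.Helper26.Weier4

variable {k K : Type*} [Field k] [Field K] [Algebra k K]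

theorem comapPlace_trans (σ τ : K ≃ₐ[k] K) (P : FunFld.Place k K) :
    comapPlace (σ.trans τ) P = comapPlace σ (comapPlace τ P) := by
  apply place_eq_of_lt_one_imp
  intro z hz
  exact hz

/-- **finiteness of the automorphism group** in genus `> 1` and large characteristic -/
theorem finite_algEquiv [IsAlgClosed k] (hK : IsFunctionField k K) (hg : 1 < genus k K)
    (hchar : ringChar k = 0 ∨ 2 * genus k K - 2 < ringChar k) : Finite (K ≃ₐ[k] K) := by
  classical
  obtain ⟨s, H, hH⟩ := exists_isHasseFamily_of_isFunctionField hK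
  obtain ⟨Φ, hΦ⟩ := exists_expansions hK s H hH
  obtain ⟨C, hC⟩ := exists_isCanonical hK
  obtain ⟨n, hn⟩ : ∃ n, n + 1 = genus k K := ⟨genus k K - 1, by omega⟩
  have hell : ell C = n + 1 := by rw [ell_canonical hK hC, hn]
  haveI := finiteDimensional_L hK C
  let b := Module.finBasisOfFinrankEq k (L C) hell
  obtain ⟨φ, hφdef⟩ : ∃ φ : Fin (n + 1) → K, φ = fun i => ((b i : L C) : K) := ⟨_, rfl⟩
  have hφ : LinearIndependent k φ := by
    rw [hφdef]
    exact b.linearIndependent.map' (L C).subtype (Submodule.ker_subtype _)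
  have hspan : Submodule.span k (Set.range φ) = L C := by
    have : Set.range φ = (L C).subtype '' Set.range b := by
      rw [← Set.range_comp, hφdef]; rfl
    rw [this, Submodule.span_image, b.span_eq, Submodule.map_top, Submodule.range_subtype]
  obtain ⟨J, hJ, -⟩ := Groth.Agent.S12600.result k K hK φ hφ (AlgHom.id k K) s H hH
  have hdich := Groth.Agent.S12618.result k K hK hg hchar C hC φ hφ hspan s H hH J hJ Φ hΦ
  obtain ⟨W, hWdef⟩ : ∃ W, W = wDiv (AlgHom.id k K) H Φ s φ J := ⟨_, rfl⟩
  rw [← hWdef] at hdich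
  have hWiff : ∀ P, W P ≠ 0 ↔ ∃ m : ℕ, genus k K < m ∧ IsGap P m := by
    intro P
    rw [hWdef]
    exact wDiv_ne_zero_iff hK hg hchar C hC φ hφ hspan s H hH J hJ Φ hΦ P
  have hstable : ∀ (σ : K ≃ₐ[k] K) (P : FunFld.Place k K), W P ≠ 0 → W (comapPlace σ P) ≠ 0 := by
    intro σ P hP
    rw [hWiff] at hP ⊢
    obtain ⟨m, hm, hgap⟩ := hP
    exact ⟨m, hm, (isGap_comapPlace σ P m).2 hgap⟩
  -- the pointwise stabilizer of the Weierstrass points is finite
  have hG₁ : {ρ : K ≃ₐ[k] K | ∀ P : FunFld.Place k K, W P ≠ 0 →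
      IsFixedPt (ρ : K →ₐ[k] K) P}.Finite := by
    rcases hdich with ⟨-, hA⟩ | ⟨-, x, hx, hB⟩
    · apply (Set.finite_singleton (AlgEquiv.refl : K ≃ₐ[k] K)).subset
      intro ρ hρ
      exact hA ρ hρ
    · have hfin : FiniteDimensional k⟮x⟯ K := Module.finite_of_finrank_pos (by omega)
      apply (finite_setOf_apply_eq x hfin).subset
      intro ρ hρ
      exact (hB ρ).1 hρ
  let S := {P : FunFld.Place k K // W P ≠ 0}
  have hSfin : Finite S := by
    have : Finite {P : FunFld.Place k K // P ∈ W.support} := Finset.finite_toSet _ |>.to_subtype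
    refine Finite.of_injective (fun P : S => (⟨P.1, Finsupp.mem_support_iff.2 P.2⟩ :
      {P : FunFld.Place k K // P ∈ W.support})) ?_
    intro P Q h
    apply Subtype.ext
    exact congrArg (fun R : {P : FunFld.Place k K // P ∈ W.support} => R.1) h
  let f : (K ≃ₐ[k] K) → (S → S) := fun σ P => ⟨comapPlace σ P.1, hstable σ P.1 P.2⟩
  have huniv : (Set.univ : Set (K ≃ₐ[k] K)).Finite := by
    apply Set.Finite.of_finite_fibers f (Set.toFinite _)
    rintro _ ⟨σ₀, -, rfl⟩
    apply ((hG₁.image (fun ρ : K ≃ₐ[k] K => ρ.trans σ₀))).subset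
    rintro σ ⟨-, hσ⟩
    rw [Set.mem_preimage, Set.mem_singleton_iff] at hσ
    refine ⟨σ.trans σ₀.symm, ?_, ?_⟩
    · intro P hP
      have hgoal : IsFixedPlace (σ.trans σ₀.symm) P := by
        rw [isFixedPlace_iff, comapPlace_trans]
        have hQ : W (comapPlace σ₀.symm P) ≠ 0 := hstable σ₀.symm P hP
        have h1 := congrFun hσ ⟨comapPlace σ₀.symm P, hQ⟩
        have h2 : comapPlace σ (comapPlace σ₀.symm P) = comapPlace σ₀ (comapPlace σ₀.symm P) :=
          congrArg Subtype.val h1
        rw [h2, comapPlace_comapPlace_symm]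
      exact fun z hz => hgoal z hz
    · ext z
      simp
  exact Set.finite_univ_iff.1 huniv

end Groth.Agent.Lib.Helper26.Weier4
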