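import Mathlib
import Groth.Agent.Lib.Helper26.Weier4

set_option autoImplicit false
set_option linter.style.haveILetI false
open scoped WithZero IntermediateField PowerSeries LaurentSeries
open FunFld
open Groth.Agent.Lib.Helper2.FF
open Groth.Agent.Lib.Helper26.SFBound
open Groth.Agent.Lib.Helper26.WGlobal5
open Groth.Agent.Lib.Helper26.WGlobal7
open Groth.Agent.Lib.Helper26.HasseExists
open Groth.Agent.Lib.Helper26.HasseLocal3
open Groth.Agent.Lib.Helper26.Weier

namespace Groth.Agent.Lib.Helper26.ET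

variable {k K : Type*} [Field k] [Field K] [Algebra k K]

/-- **finiteness of hyperflexes** in characteristic zero: for a linearly independent tuple
`φ₀, …, φₙ` whose span contains `1`, only finitely many places at which all `φᵢ` are integral
carry a nonzero member of the span vanishing to order at least `n + 1`. -/
theorem finite_hyperflex [IsAlgClosed k] [CharZero k] (hK : IsFunctionField k K) {n : ℕ}
    (φ : Fin (n + 1) → K) (hφ : LinearIndependent k φ)
    (h1 : (1 : K) ∈ Submodule.span k (Set.range φ)) :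
    {Q : FunFld.Place k K | (∀ i, v Q (φ i) ≤ 1) ∧
      ∃ f ∈ Submodule.span k (Set.range φ), f ≠ 0 ∧ ((n : ℤ) + 1) ≤ Q.ord f}.Finite := by
  classical
  obtain ⟨s, H, hH⟩ := exists_isHasseFamily_of_isFunctionField hK
  obtain ⟨Φ, hΦ⟩ := exists_expansions hK s H hH
  obtain ⟨J, hJ, -⟩ := Groth.Agent.S12600.result k K hK φ hφ (AlgHom.id k K) s H hH
  have hchar : ringChar k = 0 ∨ (mapDiv k φ).deg < ringChar k := Or.inl ((CharP.ringChar_zero_iff_CharZero k).2 inferInstance)
  apply (Finset.finite_toSet (wDiv (AlgHom.id k K) H Φ s φ J).support).subset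
  rintro Q ⟨hint, f, hf, hf0, hord⟩
  rw [Finset.mem_coe, Finsupp.mem_support_iff]
  obtain ⟨t, Ht, i0, J', ht, hHt, hi0, heff, hint', hJ', hJ'pos, hJ'N, hW⟩ :=
    exists_local_weight hK φ hφ hchar s H hH J hJ Φ hΦ Q
  rw [hW]
  have hφ0 : ∀ i, φ i ≠ 0 := fun i => hφ.ne_zero i
  -- `φ i0` is a unit at `Q`
  have hv1 : v Q (φ i0) = 1 := by
    apply le_antisymm (hint i0)
    have : ∀ g ∈ Submodule.span k (Set.range φ), v Q g ≤ v Q (φ i0) := by
      intro g hg
      refine Submodule.span_induction (p := fun g _ => v Q g ≤ v Q (φ i0)) ?_ ?_ ?_ ?_ hg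
      · rintro _ ⟨i, rfl⟩; exact hi0 i
      · rw [map_zero]; exact zero_le
      · intro x y _ _ hx hy; exact Valuation.map_add_le _ hx hy
      · intro c x _ hx; exact (v_smul_le Q c x).trans hx
    have h2 := this 1 h1
    rwa [map_one] at h2
  have hord0 : Q.ord (φ i0) = 0 := (v_eq_one_iff Q (hφ0 i0)).1 hv1
  -- the normalized function
  obtain ⟨j, hj⟩ : ∃ j : ℕ, (j : ℤ) = Q.ord f := ⟨(Q.ord f).toNat, by
    rw [Int.toNat_of_nonneg]; omega⟩
  have hjn : n + 1 ≤ j := by omega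
  have hjump : IsJump (IsLocalRing.ResidueField Q.O) (hcolAt Q Ht ((φ i0)⁻¹ • φ)) (j + 1) := by
    rw [isJump_hcolAt_succ_iff hK Q t ht Ht hHt _ hint' j]
    refine ⟨by omega, (φ i0)⁻¹ * f, ?_, mul_ne_zero (inv_ne_zero (hφ0 i0)) hf0, ?_⟩
    · have : (φ i0)⁻¹ * f = (LinearMap.mulLeft k (φ i0)⁻¹) f := rfl
      rw [this]
      have hmap : Set.range ((φ i0)⁻¹ • φ) = (LinearMap.mulLeft k (φ i0)⁻¹) '' Set.range φ := by
        rw [← Set.range_comp]; rfl
      rw [hmap, Submodule.span_image]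
      exact Submodule.mem_map_of_mem hf
    · rw [ord_mul Q (inv_ne_zero (hφ0 i0)) hf0, ord_inv, hord0, ← hj]; simp
  obtain ⟨l0, hl0⟩ := (hJ'.2 j).2 hjump
  have hge : ∀ l : Fin n, (0 : ℤ) ≤ (J' l : ℤ) - ((l : ℕ) + 1) := by
    intro l
    have := strictMono_add_le J' hJ'.1 l 1 hJ'pos
    omega
  have hpos : (0 : ℤ) < (J' l0 : ℤ) - ((l0 : ℕ) + 1) := by
    have := l0.2
    rw [hl0]
    omega
  have := Finset.single_le_sum (f := fun l : Fin n => (J' l : ℤ) - ((l : ℕ) + 1))
    (fun l _ => hge l) (Finset.mem_univ l0)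
  omega

/-- Grassmann inequality inside a finite-dimensional space -/
theorem finrank_inf_ge {V A B : Submodule k K} [FiniteDimensional k V] (hA : A ≤ V) (hB : B ≤ V) :
    Module.finrank k A + Module.finrank k B ≤ Module.finrank k ↥(A ⊓ B) + Module.finrank k V := by
  haveI : FiniteDimensional k A := Submodule.finiteDimensional_of_le hA
  haveI : FiniteDimensional k B := Submodule.finiteDimensional_of_le hB
  have h1 := Submodule.finrank_sup_add_finrank_inf_eq A B
  have h2 : Module.finrank k ↥(A ⊔ B) ≤ Module.finrank k V := Submodule.finrank_mono (sup_le hA hB)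
  omega

/-- conditions at two different places combine -/
theorem L_inf_le (P Q : FunFld.Place k K) (hPQ : Q ≠ P) (D : Divisor k K) (a b : ℤ) :
    L (D - Finsupp.single P a) ⊓ L (D - Finsupp.single Q b) ≤
      L (D - Finsupp.single P a - Finsupp.single Q b) := by
  classical
  intro z hz R
  obtain ⟨h1, h2⟩ := hz
  by_cases hRQ : R = Q
  · subst hRQ
    have := h2 R
    simp only [Finsupp.coe_sub, Pi.sub_apply, Finsupp.single_eq_same] at this ⊢
    rw [Finsupp.single_eq_of_ne hPQ, sub_zero]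
    exact this
  · have := h1 R
    simp only [Finsupp.coe_sub, Pi.sub_apply] at this ⊢
    rw [Finsupp.single_eq_of_ne hRQ, sub_zero]
    exact this

/-- a nonzero element of `L E` with `deg E = 0` has divisor `-E` -/
theorem div_eq_neg_of_mem_L (hK : IsFunctionField k K) {E : Divisor k K} (hE : E.deg = 0) {z : K}
    (hz0 : z ≠ 0) (hz : z ∈ L E) : FunFld.div k z = -E := by
  rw [mem_L_iff_div hK hz0] at hz
  have hdeg : (FunFld.div k z + E).deg = 0 := by rw [deg_add, deg_div hK, hE]; ring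
  have h5 := eq_of_le_of_deg_eq hK hz (by rw [hdeg, deg_zero])
  exact eq_neg_of_add_eq_zero_left h5.symm

/-- the counting argument: large total weight at two points forces two members of the system
with divisors supported on the two points -/
theorem exists_two_sections [IsAlgClosed k] (hK : IsFunctionField k K)
    (P Q : FunFld.Place k K) (hPQ : Q ≠ P) (d r : ℕ) (D : Divisor k K) (V : Submodule k K)
    (hD : D.deg = d) (hV : V ≤ L D) (hr : Module.finrank k V = r + 1)
    (hw : (r + 1) * d + 1 ≤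
      (∑ n ∈ Finset.range d,
        Module.finrank k ↥(V ⊓ L (D - Finsupp.single P ((n : ℤ) + 1)))) +
      (∑ n ∈ Finset.range d,
        Module.finrank k ↥(V ⊓ L (D - Finsupp.single Q ((n : ℤ) + 1)))) + r) :
    ∃ n₁ n₂ : ℕ, n₁ < n₂ ∧ n₂ ≤ d ∧ ∃ s₁ s₂ : K, s₁ ≠ 0 ∧ s₂ ≠ 0 ∧
      s₁ ∈ L (D - Finsupp.single P (n₁ : ℤ) - Finsupp.single Q ((d : ℤ) - n₁)) ∧
      s₂ ∈ L (D - Finsupp.single P (n₂ : ℤ) - Finsupp.single Q ((d : ℤ) - n₂)) := by
  classical
  haveI : FiniteDimensional k V := Module.finite_of_finrank_pos (by omega)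
  obtain ⟨p, hp⟩ : ∃ p : ℕ → ℕ, p = fun n : ℕ =>
    Module.finrank k ↥(V ⊓ L (D - Finsupp.single P (n : ℤ))) := ⟨_, rfl⟩
  obtain ⟨q, hq⟩ : ∃ q : ℕ → ℕ, q = fun n : ℕ =>
    Module.finrank k ↥(V ⊓ L (D - Finsupp.single Q (n : ℤ))) := ⟨_, rfl⟩
  obtain ⟨w, hwdef⟩ : ∃ w : ℕ → ℕ, w = fun n : ℕ =>
    Module.finrank k ↥((V ⊓ L (D - Finsupp.single P (n : ℤ))) ⊓
      (V ⊓ L (D - Finsupp.single Q ((d - n : ℕ) : ℤ)))) := ⟨_, rfl⟩
  have hp0 : p 0 = r + 1 := by
    rw [hp]
    have : V ⊓ L (D - Finsupp.single P ((0 : ℕ) : ℤ)) = V := by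
      rw [Nat.cast_zero, Finsupp.single_zero, sub_zero, inf_eq_left.2 hV]
    change Module.finrank k ↥(V ⊓ L (D - Finsupp.single P ((0 : ℕ) : ℤ))) = r + 1
    rw [this, hr]
  have hq0 : q 0 = r + 1 := by
    rw [hq]
    have : V ⊓ L (D - Finsupp.single Q ((0 : ℕ) : ℤ)) = V := by
      rw [Nat.cast_zero, Finsupp.single_zero, sub_zero, inf_eq_left.2 hV]
    change Module.finrank k ↥(V ⊓ L (D - Finsupp.single Q ((0 : ℕ) : ℤ))) = r + 1
    rw [this, hr]
  have hsumP : ∑ n ∈ Finset.range d,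
      Module.finrank k ↥(V ⊓ L (D - Finsupp.single P ((n : ℤ) + 1))) =
      ∑ n ∈ Finset.range d, p (n + 1) := by
    apply Finset.sum_congr rfl
    intro n _
    rw [hp]
    change _ = Module.finrank k ↥(V ⊓ L (D - Finsupp.single P ((n + 1 : ℕ) : ℤ)))
    rw [Nat.cast_succ]
  have hsumQ : ∑ n ∈ Finset.range d,
      Module.finrank k ↥(V ⊓ L (D - Finsupp.single Q ((n : ℤ) + 1))) =
      ∑ n ∈ Finset.range d, q (n + 1) := by
    apply Finset.sum_congr rfl
    intro n _
    rw [hq]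
    change _ = Module.finrank k ↥(V ⊓ L (D - Finsupp.single Q ((n + 1 : ℕ) : ℤ)))
    rw [Nat.cast_succ]
  rw [hsumP, hsumQ] at hw
  -- Grassmann
  have hgr : ∀ n, p n + q (d - n) ≤ w n + (r + 1) := by
    intro n
    rw [hp, hq, hwdef, ← hr]
    exact finrank_inf_ge inf_le_left inf_le_left
  have hsum1 : ∑ n ∈ Finset.range (d + 1), (p n + q (d - n)) ≤
      ∑ n ∈ Finset.range (d + 1), (w n + (r + 1)) := Finset.sum_le_sum fun n _ => hgr n
  rw [Finset.sum_add_distrib, Finset.sum_add_distrib, Finset.sum_const, Finset.card_range,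
    smul_eq_mul] at hsum1
  have hrefl : ∑ n ∈ Finset.range (d + 1), q (d - n) = ∑ n ∈ Finset.range (d + 1), q n := by
    have := Finset.sum_range_reflect q (d + 1)
    rw [← this]
    apply Finset.sum_congr rfl
    intro n hn
    rw [Finset.mem_range] at hn
    congr 1
  rw [hrefl, Finset.sum_range_succ' p, Finset.sum_range_succ' q, hp0, hq0] at hsum1
  have hwsum : 2 ≤ ∑ n ∈ Finset.range (d + 1), w n := by
    have : (d + 1) * (r + 1) = (r + 1) * d + (r + 1) := by ring
    omega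
  -- each `w n ≤ 1`
  have hPd := deg_eq_one_of_isAlgClosed hK P
  have hQd := deg_eq_one_of_isAlgClosed hK Q
  have hWle : ∀ n, n ≤ d → (V ⊓ L (D - Finsupp.single P (n : ℤ))) ⊓
      (V ⊓ L (D - Finsupp.single Q ((d - n : ℕ) : ℤ))) ≤
      L (D - Finsupp.single P (n : ℤ) - Finsupp.single Q ((d : ℤ) - n)) := by
    intro n hn z hz
    have hcast : ((d - n : ℕ) : ℤ) = (d : ℤ) - n := by omega
    rw [hcast] at hz
    exact L_inf_le P Q hPQ D _ _ ⟨hz.1.2, hz.2.2⟩
  have hdegE : ∀ n : ℕ, (D - Finsupp.single P (n : ℤ) - Finsupp.single Q ((d : ℤ) - n)).deg = 0 := by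
    intro n
    rw [deg_sub, deg_sub, deg_single, deg_single, hPd, hQd, hD]
    push_cast
    ring
  have hw1 : ∀ n, n ≤ d → w n ≤ 1 := by
    intro n hn
    rw [hwdef]
    haveI := finiteDimensional_L hK (D - Finsupp.single P (n : ℤ) - Finsupp.single Q ((d : ℤ) - n))
    refine (Submodule.finrank_mono (hWle n hn)).trans ?_
    rw [← ell_def]
    exact Groth.Agent.Lib.Helper26.Weier.ell_le_one_of_deg_zero hK _ (hdegE n)
  -- two indices with `w n = 1`
  obtain ⟨S, hS⟩ : ∃ S : Finset ℕ, S = (Finset.range (d + 1)).filter (fun n => 1 ≤ w n) := ⟨_, rfl⟩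
  have hcard : 2 ≤ S.card := by
    have h1 : ∑ n ∈ Finset.range (d + 1), w n = ∑ n ∈ S, w n := by
      rw [hS, Finset.sum_filter]
      apply Finset.sum_congr rfl
      intro n _
      split_ifs with h
      · rfl
      · omega
    have h2 : ∑ n ∈ S, w n ≤ ∑ _n ∈ S, 1 := by
      apply Finset.sum_le_sum
      intro n hn
      rw [hS, Finset.mem_filter, Finset.mem_range] at hn
      exact hw1 n (by omega)
    rw [Finset.sum_const, smul_eq_mul, mul_one] at h2
    omega
  obtain ⟨a, ha, b, hb, hab⟩ := Finset.one_lt_card.1 (by omega : 1 < S.card)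
  have key : ∀ n ∈ S, n ≤ d ∧ ∃ s : K, s ≠ 0 ∧
      s ∈ L (D - Finsupp.single P (n : ℤ) - Finsupp.single Q ((d : ℤ) - n)) := by
    intro n hn
    rw [hS, Finset.mem_filter, Finset.mem_range] at hn
    have hnd : n ≤ d := by omega
    refine ⟨hnd, ?_⟩
    have hpos : 0 < Module.finrank k ↥((V ⊓ L (D - Finsupp.single P (n : ℤ))) ⊓
      (V ⊓ L (D - Finsupp.single Q ((d - n : ℕ) : ℤ)))) := by
      have := hn.2
      rw [hwdef] at this
      exact this
    haveI : FiniteDimensional k ↥((V ⊓ L (D - Finsupp.single P (n : ℤ))) ⊓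
      (V ⊓ L (D - Finsupp.single Q ((d - n : ℕ) : ℤ)))) :=
      Submodule.finiteDimensional_of_le (inf_le_left.trans inf_le_left)
    obtain ⟨z, hz⟩ := Module.finrank_pos_iff_exists_ne_zero.1 hpos
    refine ⟨z.1, fun h => hz (Subtype.ext h), hWle n hnd z.2⟩
  obtain ⟨had, s₁, hs₁0, hs₁⟩ := key a ha
  obtain ⟨hbd, s₂, hs₂0, hs₂⟩ := key b hb
  rcases lt_or_gt_of_ne hab with h | h
  · exact ⟨a, b, h, hbd, s₁, s₂, hs₁0, hs₂0, hs₁, hs₂⟩
  · exact ⟨b, a, h, had, s₂, s₁, hs₂0, hs₁0, hs₂, hs₁⟩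

/-- in genus one, the places `Q ≠ P` with `m (Q - P)` principal for a fixed `m ≥ 1` are finite
(stated through a function with divisor `m Q - m P`) -/
theorem finite_torsion [IsAlgClosed k] [CharZero k] (hK : IsFunctionField k K)
    (hg1 : genus k K = 1) (P : FunFld.Place k K) (m : ℕ) (hm : 1 ≤ m) :
    {Q : FunFld.Place k K | Q ≠ P ∧ ∃ g : K, g ≠ 0 ∧
      FunFld.div k g = Finsupp.single Q (m : ℤ) - Finsupp.single P (m : ℤ)}.Finite := by
  classical
  have hPd := deg_eq_one_of_isAlgClosed hK P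
  obtain ⟨n, rfl⟩ : ∃ n, m = n + 1 := ⟨m - 1, by omega⟩
  have hell : ell (nP P ((n + 1 : ℕ) : ℤ)) = n + 1 := ell_nP_genus_one hK hg1 P hPd hm
  haveI := finiteDimensional_L hK (nP P ((n + 1 : ℕ) : ℤ))
  let b := Module.finBasisOfFinrankEq k (L (nP P ((n + 1 : ℕ) : ℤ))) hell
  obtain ⟨φ, hφdef⟩ : ∃ φ : Fin (n + 1) → K,
      φ = fun i => ((b i : L (nP P ((n + 1 : ℕ) : ℤ))) : K) := ⟨_, rfl⟩
  have hφ : LinearIndependent k φ := by
    rw [hφdef]
    exact b.linearIndependent.map' (L (nP P ((n + 1 : ℕ) : ℤ))).subtype (Submodule.ker_subtype _)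
  have hspan : Submodule.span k (Set.range φ) = L (nP P ((n + 1 : ℕ) : ℤ)) := by
    have : Set.range φ = (L (nP P ((n + 1 : ℕ) : ℤ))).subtype '' Set.range b := by
      rw [← Set.range_comp, hφdef]; rfl
    rw [this, Submodule.span_image, b.span_eq, Submodule.map_top, Submodule.range_subtype]
  have h1 : (1 : K) ∈ Submodule.span k (Set.range φ) := by
    rw [hspan]
    intro R
    rw [map_one, ← WithZero.exp_zero, WithZero.exp_le_exp, nP, Finsupp.single_apply]
    split_ifs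
    · positivity
    · exact le_rfl
  apply (finite_hyperflex hK φ hφ h1).subset
  rintro Q ⟨hQP, g, hg0, hdiv⟩
  have hgL : g ∈ L (nP P ((n + 1 : ℕ) : ℤ)) := by
    rw [mem_L_iff_div hK hg0, hdiv, nP, sub_add_cancel]
    intro R
    rw [Finsupp.single_apply]
    split_ifs
    · simp only [Finsupp.coe_zero, Pi.zero_apply]; positivity
    · exact le_rfl
  refine ⟨fun i => ?_, g, hspan ▸ hgL, hg0, ?_⟩
  · have hi : φ i ∈ L (nP P ((n + 1 : ℕ) : ℤ)) := by
      rw [hφdef]; exact (b i).2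
    have := hi Q
    rwa [nP, Finsupp.single_eq_of_ne hQP, WithZero.exp_zero] at this
  · rw [← div_apply hK g Q, hdiv]
    simp only [Finsupp.coe_sub, Pi.sub_apply, Finsupp.single_eq_same,
      Finsupp.single_eq_of_ne hQP, sub_zero]
    push_cast
    exact le_rfl

/-- **S18182**: finiteness of the places `Q` carrying, together with `P`, a linear series of
large total weight on a curve of genus one in characteristic zero -/
theorem finite_large_weight_pair [IsAlgClosed k] [CharZero k] (hK : IsFunctionField k K)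
    (hg1 : genus k K = 1) (P : FunFld.Place k K) (d r : ℕ) :
    Set.Finite {Q : FunFld.Place k K | Q ≠ P ∧ ∃ (D : FunFld.Divisor k K) (V : Submodule k K),
      D.deg = d ∧ V ≤ FunFld.L D ∧ Module.finrank k ↥V = r + 1 ∧
      (r + 1) * d + 1 ≤
        (∑ n ∈ Finset.range d, Module.finrank k ↥(V ⊓ FunFld.L (D - Finsupp.single P ((n : ℤ) + 1)))) +
          (∑ n ∈ Finset.range d, Module.finrank k ↥(V ⊓ FunFld.L (D - Finsupp.single Q ((n : ℤ) + 1)))) + r} := by
  classical
  have hfin : (⋃ m ∈ Finset.Icc 1 d, {Q : FunFld.Place k K | Q ≠ P ∧ ∃ g : K, g ≠ 0 ∧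
      FunFld.div k g = Finsupp.single Q (m : ℤ) - Finsupp.single P (m : ℤ)}).Finite := by
    apply Set.Finite.biUnion (Finset.finite_toSet _)
    intro m hm
    rw [Finset.mem_coe, Finset.mem_Icc] at hm
    exact finite_torsion hK hg1 P m hm.1
  apply hfin.subset
  rintro Q ⟨hQP, D, V, hD, hV, hrk, hw⟩
  obtain ⟨n₁, n₂, hlt, hle, s₁, s₂, hs₁0, hs₂0, hs₁, hs₂⟩ :=
    exists_two_sections hK P Q hQP d r D V hD hV hrk hw
  have hPd := deg_eq_one_of_isAlgClosed hK P
  have hQd := deg_eq_one_of_isAlgClosed hK Q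
  have hdegE : ∀ n : ℕ, (D - Finsupp.single P (n : ℤ) - Finsupp.single Q ((d : ℤ) - n)).deg = 0 := by
    intro n
    rw [deg_sub, deg_sub, deg_single, deg_single, hPd, hQd, hD]
    push_cast
    ring
  have h1 := div_eq_neg_of_mem_L hK (hdegE n₁) hs₁0 hs₁
  have h2 := div_eq_neg_of_mem_L hK (hdegE n₂) hs₂0 hs₂
  simp only [Set.mem_iUnion, Set.mem_ofPred_eq, Finset.mem_Icc]
  refine ⟨n₂ - n₁, ⟨by omega, by omega⟩, hQP, s₁ * s₂⁻¹, mul_ne_zero hs₁0 (inv_ne_zero hs₂0), ?_⟩
  rw [div_mul hK hs₁0 (inv_ne_zero hs₂0), div_inv hK, h1, h2]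
  have hcast : ((n₂ - n₁ : ℕ) : ℤ) = (n₂ : ℤ) - n₁ := by omega
  rw [hcast]
  ext R
  simp only [Finsupp.coe_sub, Finsupp.coe_add, Finsupp.coe_neg, Pi.sub_apply, Pi.add_apply,
    Pi.neg_apply, Finsupp.single_apply]
  split_ifs <;> ring

end Groth.Agent.Lib.Helper26.ET
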