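import Mathlib
import Groth.Prelude.Def_EtRam
import Groth.Prelude.Def_Found
import Groth.Agent.Lib.Helper26.Sol1983
import Groth.Agent.Lib.Helper26.TameSub
import Groth.Agent.Lib.Helper26.ValFin
import Groth.Agent.Lib.Helper26.SolDesc
import Groth.Agent.Lib.Helper26.UnrBC

set_option autoImplicit false
set_option linter.unusedVariables false
set_option linter.style.haveILetI false
set_option linter.unusedSectionVars false
set_option linter.unusedSimpArgs false

universe u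

namespace Groth.Agent.Lib.Helper26.Ep51A

open IsLocalRing Polynomial

section Horner

variable {R F : Type*} [CommRing R] [Field F] [Algebra R F]

/-- Horner partial sums lie in every valuation subring containing R. -/
theorem horner_mem (𝒱 : ValuationSubring F) (h𝒱 : ∀ r : R, algebraMap R F r ∈ 𝒱) (y : F) (q : R[X])
    (hq : aeval y q = 0) : ∀ j : ℕ, aeval y (divX^[j] q) ∈ 𝒱 := by
  have hpoly : ∀ r : R[X], y ∈ 𝒱 → aeval y r ∈ 𝒱 := by
    intro r hy
    rw [aeval_eq_sum_range]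
    refine sum_mem (fun i _ => ?_)
    rw [Algebra.smul_def]
    exact 𝒱.mul_mem _ _ (h𝒱 _) (pow_mem hy _)
  by_cases hy : y ∈ 𝒱
  · intro j; exact hpoly _ hy
  · have hyinv : y⁻¹ ∈ 𝒱 := (𝒱.mem_or_inv_mem y).resolve_left hy
    have hy0 : y ≠ 0 := fun h => hy (h ▸ 𝒱.zero_mem)
    intro j
    induction j with
    | zero =>
      rw [Function.iterate_zero, id, hq]; exact 𝒱.zero_mem
    | succ j ih =>
      rw [Function.iterate_succ_apply']
      have h1 := divX_mul_X_add (divX^[j] q)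
      have h2 : aeval y (divX^[j] q) = aeval y (divX (divX^[j] q)) * y +
          algebraMap R F ((divX^[j] q).coeff 0) := by
        conv_lhs => rw [← h1]
        rw [map_add, map_mul, aeval_X, aeval_C]
      have h3 : aeval y (divX (divX^[j] q)) =
          (aeval y (divX^[j] q) - algebraMap R F ((divX^[j] q).coeff 0)) * y⁻¹ := by
        rw [h2, add_sub_cancel_right, mul_assoc, mul_inv_cancel₀ hy0, mul_one]
      rw [h3]
      exact 𝒱.mul_mem _ _ (sub_mem ih (h𝒱 _)) hyinv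

theorem isIntegral_of_forall_mem (z : F)
    (h : ∀ 𝒱 : ValuationSubring F, (∀ r : R, algebraMap R F r ∈ 𝒱) → z ∈ 𝒱) : IsIntegral R z := by
  have hmem : z ∈ (integralClosure (Subring.closure (Set.range (algebraMap R F))) F).toSubring := by
    rw [← iInf_valuationSubring_superset]
    simp only [Subring.mem_iInf]
    rintro ⟨𝒱, h𝒱⟩
    exact h 𝒱 (fun r => h𝒱 ⟨r, rfl⟩)
  have h2 : IsIntegral (Subring.closure (Set.range (algebraMap R F))) z := hmem
  have hcl : Subring.closure (Set.range (algebraMap R F)) = (algebraMap R F).range := by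
    rw [← RingHom.coe_range, Subring.closure_eq]
  obtain ⟨g, hgm, hg⟩ := h2
  have hlift : g ∈ Polynomial.lifts ((algebraMap R F).codRestrict
      (Subring.closure (Set.range (algebraMap R F))) (fun r => Subring.subset_closure ⟨r, rfl⟩)) := by
    rw [Polynomial.lifts_iff_coeff_lifts]
    intro n
    have h3 : ((g.coeff n : Subring.closure (Set.range (algebraMap R F))) : F) ∈
        (algebraMap R F).range := hcl ▸ (g.coeff n).2
    obtain ⟨r, hr⟩ := h3
    exact ⟨r, Subtype.ext hr⟩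
  obtain ⟨g', hg', -, hg'm⟩ := Polynomial.lifts_and_degree_eq_and_monic hlift hgm
  refine ⟨g', hg'm, ?_⟩
  rw [← hg', Polynomial.eval₂_map] at hg
  exact hg

theorem horner_integral (y : F) (q : R[X]) (hq : aeval y q = 0) (j : ℕ) :
    IsIntegral R (aeval y (divX^[j] q)) :=
  isIntegral_of_forall_mem _ (fun 𝒱 h𝒱 => horner_mem 𝒱 h𝒱 y q hq j)

theorem horner_mul_integral (y : F) (q : R[X]) (hq : aeval y q = 0) (j : ℕ) :
    IsIntegral R (aeval y (divX^[j] q) * y) := by
  cases j with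
  | zero => rw [Function.iterate_zero, id, hq, zero_mul]; exact isIntegral_zero
  | succ j =>
    rw [Function.iterate_succ_apply']
    have h1 := divX_mul_X_add (divX^[j] q)
    have h2 : aeval y (divX^[j] q) = aeval y (divX (divX^[j] q)) * y +
        algebraMap R F ((divX^[j] q).coeff 0) := by
      conv_lhs => rw [← h1]
      rw [map_add, map_mul, aeval_X, aeval_C]
    have h3 : aeval y (divX (divX^[j] q)) * y =
        aeval y (divX^[j] q) - algebraMap R F ((divX^[j] q).coeff 0) := by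
      rw [h2, add_sub_cancel_right]
    rw [h3]
    exact (horner_integral y q hq j).sub isIntegral_algebraMap

theorem coeff_iterate_divX (q : R[X]) (j n : ℕ) : (divX^[j] q).coeff n = q.coeff (n + j) := by
  induction j generalizing n with
  | zero => simp
  | succ j ih =>
    rw [Function.iterate_succ_apply', coeff_divX, ih]
    congr 1; ring

end Horner

section Ratio

variable {B F : Type*} [CommRing B] [IsDomain B] [IsDiscreteValuationRing B] [Field F] [Algebra B F]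

theorem exists_unit_coeff_aux (hinj : Function.Injective (algebraMap B F)) (y : F) (ϖ : B)
    (hϖ : Irreducible ϖ) :
    ∀ (n : ℕ) (q : B[X]), q ≠ 0 → aeval y q = 0 → (∃ u : Bˣ, q.leadingCoeff = u * ϖ ^ n) →
      ∃ q' : B[X], aeval y q' = 0 ∧ ∃ j, IsUnit (q'.coeff j) := by
  intro n
  induction n with
  | zero =>
    intro q hq0 hq ⟨u, hu⟩
    refine ⟨q, hq, q.natDegree, ?_⟩
    rw [coeff_natDegree, hu, pow_zero, mul_one]; exact u.isUnit
  | succ n ih =>
    intro q hq0 hq ⟨u, hu⟩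
    by_cases hex : ∃ j, IsUnit (q.coeff j)
    · exact ⟨q, hq, hex⟩
    · push Not at hex
      have hdvd : C ϖ ∣ q := by
        rw [C_dvd_iff_dvd_coeff]
        intro i
        have h1 : q.coeff i ∈ maximalIdeal B := hex i
        rw [(IsDiscreteValuationRing.irreducible_iff_uniformizer ϖ).mp hϖ,
          Ideal.mem_span_singleton] at h1
        exact h1
      obtain ⟨q₁, hq₁⟩ := hdvd
      have hq₁0 : q₁ ≠ 0 := by
        rintro rfl; rw [mul_zero] at hq₁; exact hq0 hq₁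
      have hϖF : algebraMap B F ϖ ≠ 0 := fun h => hϖ.ne_zero (hinj (by rw [h, map_zero]))
      have hq₁y : aeval y q₁ = 0 := by
        rw [hq₁, map_mul, aeval_C] at hq
        exact (mul_eq_zero.mp hq).resolve_left hϖF
      refine ih q₁ hq₁0 hq₁y ⟨u, ?_⟩
      rw [hq₁, leadingCoeff_mul, leadingCoeff_C, pow_succ] at hu
      apply mul_left_cancel₀ hϖ.ne_zero
      rw [hu]; ring

theorem exists_unit_coeff (hinj : Function.Injective (algebraMap B F)) (y : F) (hy : IsAlgebraic B y) :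
    ∃ q : B[X], aeval y q = 0 ∧ ∃ j, IsUnit (q.coeff j) := by
  obtain ⟨q, hq0, hq⟩ := hy
  obtain ⟨ϖ, hϖ⟩ := IsDiscreteValuationRing.exists_irreducible B
  obtain ⟨n, u, hu⟩ := IsDiscreteValuationRing.eq_unit_mul_pow_irreducible
    (leadingCoeff_ne_zero.mpr hq0) hϖ
  exact exists_unit_coeff_aux hinj y ϖ hϖ n q hq0 hq ⟨u, hu⟩

theorem ratio (hinj : Function.Injective (algebraMap B F)) (𝒪 : ValuationSubring F)
    (h1 : ∀ b : B, algebraMap B F b ∈ 𝒪) (h2 : ∀ b ∈ maximalIdeal B, algebraMap B F b ∈ 𝒪.nonunits)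
    (y : F) (hy𝒪 : y ∈ 𝒪) (hy : IsAlgebraic B y) :
    ∃ (r : B[X]) (s β : F), s = aeval y r ∧ IsIntegral B s ∧ IsIntegral B β ∧ s ∉ 𝒪.nonunits ∧
      β = s * y := by
  classical
  obtain ⟨q, hq, j₀, hj₀⟩ := exists_unit_coeff hinj y hy
  have hbound : ∀ j, IsUnit (q.coeff j) → j ≤ q.natDegree :=
    fun j hj => le_natDegree_of_ne_zero hj.ne_zero
  set j := Nat.findGreatest (fun j => IsUnit (q.coeff j)) q.natDegree with hjdef
  have hj : IsUnit (q.coeff j) :=
    Nat.findGreatest_spec (P := fun j => IsUnit (q.coeff j)) (hbound j₀ hj₀) hj₀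
  have hgt : ∀ i, j < i → ¬ IsUnit (q.coeff i) := by
    intro i hi hu
    exact Nat.findGreatest_is_greatest hi (hbound i hu) hu
  refine ⟨divX^[j] q, aeval y (divX^[j] q), aeval y (divX^[j] q) * y, rfl,
    horner_integral y q hq j, horner_mul_integral y q hq j, ?_, rfl⟩
  have hdecomp : aeval y (divX^[j] q) = aeval y (divX^[j + 1] q) * y +
      algebraMap B F (q.coeff j) := by
    have h1 := divX_mul_X_add (divX^[j] q)
    conv_lhs => rw [← h1]
    rw [map_add, map_mul, aeval_X, aeval_C, Function.iterate_succ_apply', coeff_iterate_divX,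
      zero_add]
  have hy1 : 𝒪.valuation y ≤ 1 := (𝒪.valuation_le_one_iff y).mpr hy𝒪
  have hsmall : 𝒪.valuation (aeval y (divX^[j + 1] q)) < 1 := by
    rw [aeval_eq_sum_range]
    apply Valuation.map_sum_lt _ one_ne_zero
    intro i _
    rw [Algebra.smul_def, map_mul, map_pow, coeff_iterate_divX]
    have h3 : algebraMap B F (q.coeff (i + (j + 1))) ∈ 𝒪.nonunits :=
      h2 _ (hgt _ (by omega))
    rw [𝒪.mem_nonunits_iff] at h3
    calc 𝒪.valuation (algebraMap B F (q.coeff (i + (j + 1)))) * 𝒪.valuation y ^ i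
        ≤ 𝒪.valuation (algebraMap B F (q.coeff (i + (j + 1)))) * 1 := by
          gcongr
          exact pow_le_one₀ zero_le hy1
      _ < 1 := by rw [mul_one]; exact h3
  intro hs
  rw [𝒪.mem_nonunits_iff, hdecomp] at hs
  obtain ⟨w, hw⟩ := hj
  have hunit : 𝒪.valuation (algebraMap B F (q.coeff j)) = 1 := by
    have ha : 𝒪.valuation (algebraMap B F (q.coeff j)) ≤ 1 := (𝒪.valuation_le_one_iff _).mpr (h1 _)
    have hb : 𝒪.valuation (algebraMap B F ((w⁻¹ : Bˣ) : B)) ≤ 1 :=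
      (𝒪.valuation_le_one_iff _).mpr (h1 _)
    have hab : 𝒪.valuation (algebraMap B F (q.coeff j)) * 𝒪.valuation (algebraMap B F ((w⁻¹ : Bˣ) : B))
        = 1 := by
      rw [← map_mul, ← map_mul, ← hw, Units.mul_inv, map_one, map_one]
    by_contra hne
    have hlt : 𝒪.valuation (algebraMap B F (q.coeff j)) < 1 := lt_of_le_of_ne ha hne
    have : 𝒪.valuation (algebraMap B F (q.coeff j)) * 𝒪.valuation (algebraMap B F ((w⁻¹ : Bˣ) : B))
        < 1 := by
      calc _ ≤ 𝒪.valuation (algebraMap B F (q.coeff j)) * 1 := by gcongr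
        _ < 1 := by rw [mul_one]; exact hlt
    rw [hab] at this
    exact lt_irrefl _ this
  have hcy : 𝒪.valuation (aeval y (divX^[j + 1] q) * y) < 1 := by
    rw [map_mul]
    calc _ ≤ 𝒪.valuation (aeval y (divX^[j + 1] q)) * 1 := by gcongr
      _ < 1 := by rw [mul_one]; exact hsmall
  have : 𝒪.valuation (algebraMap B F (q.coeff j)) < 1 := by
    have e : algebraMap B F (q.coeff j) =
        (aeval y (divX^[j + 1] q) * y + algebraMap B F (q.coeff j)) -
          aeval y (divX^[j + 1] q) * y := by ring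
    rw [e]
    exact lt_of_le_of_lt (Valuation.map_sub _ _ _) (max_lt hs hcy)
  rw [hunit] at this
  exact lt_irrefl _ this

end Ratio

section Approx

variable {F : Type*} [Field F] (𝒪 : ValuationSubring F)

theorem val_pow_sub_pow_le (x θ : F) (hx : x ∈ 𝒪) (hθ : θ ∈ 𝒪) (k : ℕ) :
    𝒪.valuation (x ^ k - θ ^ k) ≤ 𝒪.valuation (x - θ) := by
  have hx1 : 𝒪.valuation x ≤ 1 := (𝒪.valuation_le_one_iff x).mpr hx
  have hθ1 : 𝒪.valuation θ ≤ 1 := (𝒪.valuation_le_one_iff θ).mpr hθ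
  induction k with
  | zero => simp
  | succ k ih =>
    have e : x ^ (k + 1) - θ ^ (k + 1) = x * (x ^ k - θ ^ k) + (x - θ) * θ ^ k := by ring
    rw [e]
    refine le_trans (Valuation.map_add _ _ _) (max_le ?_ ?_)
    · rw [map_mul]
      calc 𝒪.valuation x * 𝒪.valuation (x ^ k - θ ^ k) ≤ 1 * 𝒪.valuation (x - θ) := by gcongr
        _ = _ := one_mul _
    · rw [map_mul, map_pow]
      calc 𝒪.valuation (x - θ) * 𝒪.valuation θ ^ k ≤ 𝒪.valuation (x - θ) * 1 := by
            gcongr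
            exact pow_le_one₀ zero_le hθ1
        _ = _ := mul_one _

theorem val_sum_sub_le {n : ℕ} (x θ : F) (hx : x ∈ 𝒪) (hθ : θ ∈ 𝒪) (m : Fin n → F)
    (μ : 𝒪.ValueGroup) (hm : ∀ k, 𝒪.valuation (m k) ≤ μ) :
    𝒪.valuation (∑ k, m k * x ^ (k : ℕ) - ∑ k, m k * θ ^ (k : ℕ)) ≤ μ * 𝒪.valuation (x - θ) := by
  rw [← Finset.sum_sub_distrib]
  apply Valuation.map_sum_le
  intro k _
  rw [← mul_sub, map_mul]
  gcongr
  · exact hm k
  · exact val_pow_sub_pow_le 𝒪 x θ hx hθ k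

/-- multiplicative closeness -/
def Close (u u' : F) : Prop := ∃ m ∈ 𝒪.nonunits, u = u' * (1 + m)

theorem Close.of_val_lt {u u' : F} (h : 𝒪.valuation (u - u') < 𝒪.valuation u') : Close 𝒪 u u' := by
  have hu' : u' ≠ 0 := by
    rintro rfl
    rw [map_zero] at h
    exact not_lt_zero h
  refine ⟨(u - u') / u', ?_, by field_simp; ring⟩
  rw [𝒪.mem_nonunits_iff, map_div₀]
  exact (div_lt_one₀ (zero_lt_iff.mpr ((Valuation.ne_zero_iff _).mpr hu'))).mpr h

theorem Close.refl (u : F) : Close 𝒪 u u := ⟨0, by rw [𝒪.mem_nonunits_iff, map_zero]; exact zero_lt_one, by ring⟩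

theorem one_add_unit {m : F} (hm : m ∈ 𝒪.nonunits) : 𝒪.valuation (1 + m) = 1 := by
  rw [𝒪.mem_nonunits_iff] at hm
  have := Valuation.map_add_eq_of_lt_left (𝒪.valuation) (x := 1) (y := m) (by rw [map_one]; exact hm)
  rw [this, map_one]

theorem Close.val_eq {u u' : F} (h : Close 𝒪 u u') : 𝒪.valuation u = 𝒪.valuation u' := by
  obtain ⟨m, hm, rfl⟩ := h
  rw [map_mul, one_add_unit 𝒪 hm, mul_one]

theorem Close.sub_mem {u u' : F} (h : Close 𝒪 u u') (hu' : u' ∈ 𝒪) : u - u' ∈ 𝒪.nonunits := by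
  obtain ⟨m, hm, rfl⟩ := h
  have e : u' * (1 + m) - u' = u' * m := by ring
  rw [e, 𝒪.mem_nonunits_iff, map_mul]
  rw [𝒪.mem_nonunits_iff] at hm
  have hu1 : 𝒪.valuation u' ≤ 1 := (𝒪.valuation_le_one_iff u').mpr hu'
  calc 𝒪.valuation u' * 𝒪.valuation m ≤ 1 * 𝒪.valuation m := by gcongr
    _ < 1 := by rw [one_mul]; exact hm

theorem Close.mem_iff {u u' : F} (h : Close 𝒪 u u') : u ∈ 𝒪 ↔ u' ∈ 𝒪 := by
  rw [← 𝒪.valuation_le_one_iff, ← 𝒪.valuation_le_one_iff, h.val_eq]

theorem Close.nonunits_iff {u u' : F} (h : Close 𝒪 u u') : u ∈ 𝒪.nonunits ↔ u' ∈ 𝒪.nonunits := by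
  rw [𝒪.mem_nonunits_iff, 𝒪.mem_nonunits_iff, h.val_eq]

theorem Close.symm {u u' : F} (h : Close 𝒪 u u') : Close 𝒪 u' u := by
  obtain ⟨m, hm, rfl⟩ := h
  have h1 : 𝒪.valuation (1 + m) = 1 := one_add_unit 𝒪 hm
  have h0 : (1 + m) ≠ 0 := by
    intro h; rw [h, map_zero] at h1; exact zero_ne_one h1
  refine ⟨-m / (1 + m), ?_, by field_simp; ring⟩
  rw [𝒪.mem_nonunits_iff, map_div₀, h1, div_one, Valuation.map_neg]
  exact (𝒪.mem_nonunits_iff).mp hm

end Approx

section Transfer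

theorem exists_ringHom_of_range_subset {k k' κ : Type*} [Field k] [Field k'] [Field κ]
    (i : k →+* κ) (i' : k' →+* κ) (h : ∀ x, ∃ y, i' y = i x) :
    ∃ a : k →+* k', ∀ x, i' (a x) = i x := by
  choose f hf using h
  refine ⟨{ toFun := f, map_one' := ?_, map_mul' := ?_, map_zero' := ?_, map_add' := ?_ }, hf⟩
  · apply i'.injective; rw [hf, map_one, map_one]
  · intro x y; apply i'.injective; rw [hf, map_mul, map_mul, hf, hf]
  · apply i'.injective; rw [hf, map_zero, map_zero]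
  · intro x y; apply i'.injective; rw [hf, map_add, map_add, hf, hf]

theorem geomRed_transfer {k₂ l₂ k₃ l₃ : Type u} [Field k₂] [Field l₂] [Field k₃] [Field l₃]
    (i₂ : k₂ →+* l₂) (i₃ : k₃ →+* l₃) (a : k₂ →+* k₃) (b : l₃ →+* l₂)
    (hcomp : ∀ x, b (i₃ (a x)) = i₂ x) (ha : Function.Surjective a)
    (H : @Algebra.IsGeometricallyReduced k₂ l₂ _ _ i₂.toAlgebra) :
    @Algebra.IsGeometricallyReduced k₃ l₃ _ _ i₃.toAlgebra := by
  letI alg1 : Algebra k₂ l₂ := i₂.toAlgebra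
  letI alg2 : Algebra k₂ k₃ := a.toAlgebra
  letI alg3 : Algebra k₃ l₂ := (b.comp i₃).toAlgebra
  letI alg4 : Algebra k₃ l₃ := i₃.toAlgebra
  haveI : Algebra.IsIntegral k₂ k₃ := Algebra.isIntegral_of_surjective ha
  haveI : Algebra.IsAlgebraic k₂ k₃ := inferInstance
  haveI : Algebra.IsGeometricallyReduced k₂ l₂ := H
  haveI h1 : Algebra.IsGeometricallyReduced k₃ l₂ :=
    Sol1983.geomRed_of_gen (kA := k₂) (kB := l₂) (k₁ := k₃) (kW := l₂)
      (fun x => (hcomp x).symm) (fun S _ hS => by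
        rw [eq_top_iff]; intro y _; exact hS y)
  let φ : l₃ →ₐ[k₃] l₂ := { b with commutes' := fun r => rfl }
  exact Algebra.IsGeometricallyReduced.of_injective φ b.injective

end Transfer

section Extract

variable {K' M : Type u} [Field K'] [Field M]

theorem extract (W : ValuationSubring M) [IsDiscreteValuationRing W] (f : K' →+* M)
    (h : letI := (EtRam.inclOfComap W f).toAlgebra
      EtRam.IsWeaklyUnramified (W.comap f) W) :
    ∃ a : K', f a ∈ W.nonunits ∧ ∀ y ∈ W.nonunits, ∃ w ∈ W, y = f a * w := by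
  have h' : Ideal.map (EtRam.inclOfComap W f) (maximalIdeal (W.comap f)) = maximalIdeal W := h
  obtain ⟨ω, hω⟩ := IsDiscreteValuationRing.exists_irreducible W
  have hωm : ω ∈ maximalIdeal W := hω.not_isUnit
  rw [← h'] at hωm
  obtain ⟨a, ha, w, hw⟩ := SolDesc.mem_map_of_valuationRing _ _ _ hωm
  have hle : maximalIdeal (W.comap f) ≤ (maximalIdeal W).comap (EtRam.inclOfComap W f) :=
    ((local_hom_TFAE (EtRam.inclOfComap W f)).out 0 3).mp (EtRam.isLocalHom_inclOfComap _ _)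
  refine ⟨(a : K'), ?_, ?_⟩
  · rw [W.mem_nonunits_iff_exists_mem_maximalIdeal]
    exact ⟨a.2, hle ha⟩
  · intro y hy
    obtain ⟨hyW, hym⟩ := W.mem_nonunits_iff_exists_mem_maximalIdeal.mp hy
    rw [(IsDiscreteValuationRing.irreducible_iff_uniformizer ω).mp hω,
      Ideal.mem_span_singleton] at hym
    obtain ⟨c, hc⟩ := hym
    refine ⟨((w * c : W) : M), (w * c).2, ?_⟩
    have h1 : y = (ω : M) * (c : M) := congrArg Subtype.val hc
    have h2 : (ω : M) = f (a : K') * (w : M) := congrArg Subtype.val hw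
    rw [h1, h2]
    push_cast
    ring

theorem weaklyUnramified_of (W : ValuationSubring M) (f : K' →+* M) (P : K')
    (hP : f P ∈ W.nonunits) (h : ∀ y ∈ W.nonunits, ∃ w ∈ W, y = f P * w) :
    letI := (EtRam.inclOfComap W f).toAlgebra
    EtRam.IsWeaklyUnramified (W.comap f) W := by
  letI := (EtRam.inclOfComap W f).toAlgebra
  show Ideal.map (EtRam.inclOfComap W f) (maximalIdeal (W.comap f)) = maximalIdeal W
  apply le_antisymm
  · exact ((local_hom_TFAE (EtRam.inclOfComap W f)).out 0 2).mp (EtRam.isLocalHom_inclOfComap _ _)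
  · intro y hy
    have hy' : (y : M) ∈ W.nonunits := W.mem_nonunits_iff_exists_mem_maximalIdeal.mpr ⟨y.2, hy⟩
    obtain ⟨w, hw, hyw⟩ := h _ hy'
    have hPW : f P ∈ W := (W.mem_nonunits_iff_exists_mem_maximalIdeal.mp hP).1
    let P' : W.comap f := ⟨P, hPW⟩
    have hP'm : P' ∈ maximalIdeal (W.comap f) := by
      have := UnrBC.nonunits_comap W f P hP
      obtain ⟨_, h2⟩ := (W.comap f).mem_nonunits_iff_exists_mem_maximalIdeal.mp this
      exact h2
    have e : y = EtRam.inclOfComap W f P' * ⟨w, hw⟩ := Subtype.ext hyw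
    rw [e]
    exact Ideal.mul_mem_right _ _ (Ideal.mem_map_of_mem _ hP'm)

end Extract

section Goals

theorem nonunits_comap_iff {K₁ M : Type u} [Field K₁] [Field M] (W : ValuationSubring M) (f : K₁ →+* M)
    (x : K₁) : x ∈ (W.comap f).nonunits ↔ f x ∈ W.nonunits := by
  rw [ValuationSubring.mem_nonunits_iff_or, ValuationSubring.mem_nonunits_iff_or,
    ValuationSubring.mem_comap, map_inv₀, map_eq_zero]

variable {K₂ M₂ K₃ M₃ F : Type u} [Field K₂] [Field M₂] [Field K₃] [Field M₃] [Field F]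
  (𝒪 : ValuationSubring F) (f₂ : K₂ →+* M₂) (j₂ : M₂ →+* F) (f₃ : K₃ →+* M₃) (j₃ : M₃ →+* F)

theorem goalA [IsDiscreteValuationRing (𝒪.comap j₂)]
    (H : letI := (EtRam.inclOfComap (𝒪.comap j₂) f₂).toAlgebra
      EtRam.IsWeaklyUnramified ((𝒪.comap j₂).comap f₂) (𝒪.comap j₂))
    (ha : ∀ z : K₂, ∃ z' : K₃, Close 𝒪 (j₃ (f₃ z')) (j₂ (f₂ z)))
    (hb : ∀ y : M₃, ∃ y' : M₂, Close 𝒪 (j₃ y) (j₂ y')) :
    letI := (EtRam.inclOfComap (𝒪.comap j₃) f₃).toAlgebra
    EtRam.IsWeaklyUnramified ((𝒪.comap j₃).comap f₃) (𝒪.comap j₃) := by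
  obtain ⟨a, ha1, ha2⟩ := extract (𝒪.comap j₂) f₂ H
  obtain ⟨P, hP⟩ := ha a
  rw [nonunits_comap_iff] at ha1
  apply weaklyUnramified_of (𝒪.comap j₃) f₃ P
  · rw [nonunits_comap_iff, hP.nonunits_iff]; exact ha1
  · intro y hy
    rw [nonunits_comap_iff] at hy
    obtain ⟨y', hy'⟩ := hb y
    have hy'n : y' ∈ (𝒪.comap j₂).nonunits := by
      rw [nonunits_comap_iff, ← hy'.nonunits_iff]; exact hy
    obtain ⟨w, hw, hyw⟩ := ha2 y' hy'n
    have hw1 : 𝒪.valuation (j₂ w) ≤ 1 := (𝒪.valuation_le_one_iff _).mpr hw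
    have hle : 𝒪.valuation (j₃ y) ≤ 𝒪.valuation (j₃ (f₃ P)) := by
      rw [hy'.val_eq, hP.val_eq, hyw, map_mul, map_mul]
      calc _ ≤ 𝒪.valuation (j₂ (f₂ a)) * 1 := by gcongr
        _ = _ := mul_one _
    by_cases hP0 : f₃ P = 0
    · rw [hP0, map_zero, map_zero] at hle
      have hy0 : y = 0 := by
        have := le_antisymm hle zero_le
        rwa [map_eq_zero, map_eq_zero] at this
      exact ⟨0, (𝒪.comap j₃).zero_mem, by rw [hy0, mul_zero]⟩
    · refine ⟨y / f₃ P, ?_, by field_simp⟩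
      rw [ValuationSubring.mem_comap, map_div₀, ← 𝒪.valuation_le_one_iff, map_div₀]
      have hne : 𝒪.valuation (j₃ (f₃ P)) ≠ 0 := by
        rw [Valuation.ne_zero_iff]; exact fun h => hP0 ((map_eq_zero j₃).mp h)
      exact (div_le_one₀ (zero_lt_iff.mpr hne)).mpr hle

theorem residue_eq_of_sub_mem (u u' : 𝒪) (h : ((u : F) - (u' : F)) ∈ 𝒪.nonunits) :
    residue 𝒪 u = residue 𝒪 u' := by
  rw [← sub_eq_zero, ← map_sub, residue_eq_zero_iff]
  obtain ⟨h1, h2⟩ := 𝒪.mem_nonunits_iff_exists_mem_maximalIdeal.mp h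
  exact h2

theorem goalB
    (H : @Algebra.IsGeometricallyReduced (ResidueField ((𝒪.comap j₂).comap f₂))
        (ResidueField (𝒪.comap j₂)) _ _
        (ResidueField.map (EtRam.inclOfComap (𝒪.comap j₂) f₂)).toAlgebra)
    (ha : ∀ z : K₂, ∃ z' : K₃, Close 𝒪 (j₃ (f₃ z')) (j₂ (f₂ z)))
    (ha' : ∀ z' : K₃, ∃ z : K₂, Close 𝒪 (j₃ (f₃ z')) (j₂ (f₂ z)))
    (hb : ∀ y : M₃, ∃ y' : M₂, Close 𝒪 (j₃ y) (j₂ y')) :
    @Algebra.IsGeometricallyReduced (ResidueField ((𝒪.comap j₃).comap f₃))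
        (ResidueField (𝒪.comap j₃)) _ _
        (ResidueField.map (EtRam.inclOfComap (𝒪.comap j₃) f₃)).toAlgebra := by
  let ιW₂ := ResidueField.map (EtRam.inclOfComap 𝒪 j₂)
  let ιW₃ := ResidueField.map (EtRam.inclOfComap 𝒪 j₃)
  let i₂ := ResidueField.map (EtRam.inclOfComap (𝒪.comap j₂) f₂)
  let i₃ := ResidueField.map (EtRam.inclOfComap (𝒪.comap j₃) f₃)
  -- b
  have hbr : ∀ x, ∃ y, ιW₂ y = ιW₃ x := by
    intro x
    obtain ⟨⟨y, hy⟩, rfl⟩ := residue_surjective x
    obtain ⟨y', hy'⟩ := hb y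
    have hy'O : j₂ y' ∈ 𝒪 := (hy'.mem_iff).mp hy
    refine ⟨residue _ ⟨y', hy'O⟩, ?_⟩
    show ResidueField.map (EtRam.inclOfComap 𝒪 j₂) (residue _ _) =
      ResidueField.map (EtRam.inclOfComap 𝒪 j₃) (residue _ _)
    rw [ResidueField.map_residue, ResidueField.map_residue]
    apply residue_eq_of_sub_mem
    have := (hy'.sub_mem 𝒪 hy'O)
    show j₂ y' - j₃ y ∈ 𝒪.nonunits
    rw [← neg_sub, 𝒪.mem_nonunits_iff, Valuation.map_neg, ← 𝒪.mem_nonunits_iff]
    exact this
  obtain ⟨b, hb'⟩ := exists_ringHom_of_range_subset ιW₃ ιW₂ hbr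
  have har : ∀ x, ∃ y, (ιW₃.comp i₃) y = (ιW₂.comp i₂) x := by
    intro x
    obtain ⟨⟨z, hz⟩, rfl⟩ := residue_surjective x
    obtain ⟨z', hz'⟩ := ha z
    have hzO : j₂ (f₂ z) ∈ 𝒪 := hz
    have hz'O : j₃ (f₃ z') ∈ 𝒪 := (hz'.mem_iff).mpr hzO
    refine ⟨residue _ ⟨z', hz'O⟩, ?_⟩
    show ResidueField.map (EtRam.inclOfComap 𝒪 j₃)
      (ResidueField.map (EtRam.inclOfComap (𝒪.comap j₃) f₃) (residue _ _)) =
      ResidueField.map (EtRam.inclOfComap 𝒪 j₂)
      (ResidueField.map (EtRam.inclOfComap (𝒪.comap j₂) f₂) (residue _ _))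
    rw [ResidueField.map_residue, ResidueField.map_residue, ResidueField.map_residue,
      ResidueField.map_residue]
    apply residue_eq_of_sub_mem
    exact hz'.sub_mem 𝒪 hzO
  obtain ⟨a, ha''⟩ := exists_ringHom_of_range_subset (ιW₂.comp i₂) (ιW₃.comp i₃) har
  have hsurj : Function.Surjective a := by
    intro x'
    obtain ⟨⟨z', hz'⟩, rfl⟩ := residue_surjective x'
    obtain ⟨z, hz⟩ := ha' z'
    have hz'O : j₃ (f₃ z') ∈ 𝒪 := hz'
    have hzO : j₂ (f₂ z) ∈ 𝒪 := (hz.mem_iff).mp hz'O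
    refine ⟨residue _ ⟨z, hzO⟩, ?_⟩
    apply (ιW₃.comp i₃).injective
    rw [ha'']
    show ResidueField.map (EtRam.inclOfComap 𝒪 j₂)
      (ResidueField.map (EtRam.inclOfComap (𝒪.comap j₂) f₂) (residue _ _)) =
      ResidueField.map (EtRam.inclOfComap 𝒪 j₃)
      (ResidueField.map (EtRam.inclOfComap (𝒪.comap j₃) f₃) (residue _ _))
    rw [ResidueField.map_residue, ResidueField.map_residue, ResidueField.map_residue,
      ResidueField.map_residue]
    apply residue_eq_of_sub_mem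
    have := hz.sub_mem 𝒪 hzO
    show j₂ (f₂ z) - j₃ (f₃ z') ∈ 𝒪.nonunits
    rw [← neg_sub, 𝒪.mem_nonunits_iff, Valuation.map_neg, ← 𝒪.mem_nonunits_iff]
    exact this
  have hcomp : ∀ x, b (i₃ (a x)) = i₂ x := by
    intro x
    apply ιW₂.injective
    rw [hb']
    exact ha'' x
  exact geomRed_transfer i₂ i₃ a b hcomp hsurj H

end Goals

end Groth.Agent.Lib.Helper26.Ep51A
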