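import Mathlib
import Groth.Prelude.Def_EtRam
import Groth.Prelude.Def_Found
import Groth.Agent.Lib.Helper26.Ep51A
import Groth.Agent.Lib.Helper21.NagFin2

set_option autoImplicit false
set_option linter.unusedVariables false
set_option linter.style.haveILetI false
set_option linter.unusedSectionVars false
set_option linter.unusedSimpArgs false

universe u

namespace Groth.Agent.Lib.Helper26.Ep51B

open IsLocalRing Polynomial TensorProduct

section IntMul

/-- For `e` algebraic over a DVR `B` with uniformizer `π`, some `π^n e` is integral. -/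
theorem exists_pow_mul_integral {B E : Type*} [CommRing B] [IsDomain B] [IsDiscreteValuationRing B]
    [CommRing E] [Algebra B E] (π : B) (hπ : Irreducible π) (e : E) (he : IsAlgebraic B e) :
    ∃ n : ℕ, IsIntegral B (algebraMap B E (π ^ n) * e) := by
  obtain ⟨b, hb0, hb⟩ := he.exists_integral_multiple
  obtain ⟨n, u, hu⟩ := IsDiscreteValuationRing.eq_unit_mul_pow_irreducible hb0 hπ
  refine ⟨n, ?_⟩
  have e1 : algebraMap B E (π ^ n) * e = algebraMap B E ((u⁻¹ : Bˣ) : B) * (b • e) := by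
    rw [Algebra.smul_def, ← mul_assoc, ← map_mul, hu, ← mul_assoc, Units.inv_mul, one_mul]
  rw [e1]
  exact isIntegral_algebraMap.mul hb

end IntMul

section Main

variable (B K L K₁ K₂ : Type u) [CommRing B] [IsDomain B] [IsDiscreteValuationRing B]
  [Field K] [Field L] [Field K₁] [Field K₂] [Algebra B L] [IsFractionRing B L]
  [Algebra K L] [Algebra K K₁] [Algebra K K₂] [Algebra K₁ K₂] [IsScalarTower K K₁ K₂]
  [FiniteDimensional K K₂]

/-- the map `L ⊗ K₁ → L ⊗ K₂` -/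
noncomputable def iota : L ⊗[K] K₁ →ₐ[L] L ⊗[K] K₂ :=
  Algebra.TensorProduct.map (AlgHom.id L L) (IsScalarTower.toAlgHom K K₁ K₂)

/-- the structure map `B → L ⊗ K₂` -/
noncomputable def g₂ : B →+* L ⊗[K] K₂ := (algebraMap L (L ⊗[K] K₂)).comp (algebraMap B L)

variable {K₂} in
theorem span_tensor (p : ℕ) (θ : K₂)
    (hspan : ∀ z : K₂, ∃ c : Fin p → K₁, z = ∑ k, algebraMap K₁ K₂ (c k) * θ ^ (k : ℕ))
    (x : L ⊗[K] K₂) :
    ∃ c : Fin p → L ⊗[K] K₁, x = ∑ k, iota K L K₁ K₂ (c k) * ((1 : L) ⊗ₜ[K] θ) ^ (k : ℕ) := by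
  induction x using TensorProduct.induction_on with
  | zero => exact ⟨fun _ => 0, by simp⟩
  | tmul l z =>
    obtain ⟨c, hc⟩ := hspan z
    refine ⟨fun k => l ⊗ₜ[K] c k, ?_⟩
    rw [hc, TensorProduct.tmul_sum]
    refine Finset.sum_congr rfl (fun k _ => ?_)
    unfold iota
    rw [Algebra.TensorProduct.map_tmul, Algebra.TensorProduct.tmul_pow, one_pow,
      Algebra.TensorProduct.tmul_mul_tmul, mul_one]
    rfl
  | add x y hx hy =>
    obtain ⟨c, hc⟩ := hx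
    obtain ⟨d, hd⟩ := hy
    refine ⟨fun k => c k + d k, ?_⟩
    rw [hc, hd, ← Finset.sum_add_distrib]
    refine Finset.sum_congr rfl (fun k _ => ?_)
    rw [map_add, add_mul]

/-- the per-prime statement -/
def Q {K₂ : Type u} [Field K₂] [Algebra K K₂] [Algebra K₁ K₂] [IsScalarTower K K₁ K₂]
    (p : ℕ) (θ : K₂) (π : B) (P : Ideal (L ⊗[K] K₂)) (N : ℕ) : Prop :=
  ∀ β : L ⊗[K] K₂,
    ((Ideal.Quotient.mk P).comp (g₂ B K L K₂)).IsIntegralElem (Ideal.Quotient.mk P β) →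
    ∃ c : Fin p → L ⊗[K] K₁,
      (∀ k, ((Ideal.Quotient.mk P).comp (g₂ B K L K₂)).IsIntegralElem
        (Ideal.Quotient.mk P (iota K L K₁ K₂ (c k)))) ∧
      Ideal.Quotient.mk P (g₂ B K L K₂ (π ^ N) * β) =
        ∑ k, Ideal.Quotient.mk P (iota K L K₁ K₂ (c k)) *
          Ideal.Quotient.mk P ((1 : L) ⊗ₜ[K] θ) ^ (k : ℕ)

variable {K₂} in
theorem g₂_iota (b : B) (c : L ⊗[K] K₁) :
    g₂ B K L K₂ b * iota K L K₁ K₂ c = iota K L K₁ K₂ ((algebraMap L (L ⊗[K] K₁) (algebraMap B L b)) * c) := by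
  rw [map_mul]
  congr 1
  unfold g₂ iota
  rw [RingHom.comp_apply, Algebra.TensorProduct.algebraMap_apply, Algebra.TensorProduct.algebraMap_apply,
    Algebra.TensorProduct.map_tmul, map_one]
  rfl

variable {K₂} in
theorem Q_mono (p : ℕ) (θ : K₂) (π : B) (P : Ideal (L ⊗[K] K₂)) (N N' : ℕ) (h : N ≤ N')
    (hQ : Q B K L K₁ p θ π P N) : Q B K L K₁ p θ π P N' := by
  intro β hβ
  obtain ⟨c, hc1, hc2⟩ := hQ β hβ
  refine ⟨fun k => (algebraMap L (L ⊗[K] K₁) (algebraMap B L (π ^ (N' - N)))) * c k, fun k => ?_, ?_⟩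
  · rw [← g₂_iota, map_mul]
    exact RingHom.IsIntegralElem.mul _ (RingHom.isIntegralElem_map _) (hc1 k)
  · have e : π ^ N' = π ^ (N' - N) * π ^ N := by rw [← pow_add, Nat.sub_add_cancel h]
    have e2 : Ideal.Quotient.mk P (g₂ B K L K₂ (π ^ (N' - N) * π ^ N) * β) =
        Ideal.Quotient.mk P (g₂ B K L K₂ (π ^ (N' - N))) *
          Ideal.Quotient.mk P (g₂ B K L K₂ (π ^ N) * β) := by
      rw [← map_mul, map_mul (g₂ B K L K₂), mul_assoc]
    rw [e, e2, hc2, Finset.mul_sum]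
    refine Finset.sum_congr rfl (fun k _ => ?_)
    show _ = Ideal.Quotient.mk P (iota K L K₁ K₂
      ((algebraMap L (L ⊗[K] K₁)) ((algebraMap B L) (π ^ (N' - N))) * c k)) * _
    rw [← g₂_iota, map_mul, mul_assoc]

variable {K₂} in
theorem exists_Q (hB : CAlg.IsNagata B) (p : ℕ) (θ : K₂) (π : B) (hπ : Irreducible π)
    (hspan : ∀ z : K₂, ∃ c : Fin p → K₁, z = ∑ k, algebraMap K₁ K₂ (c k) * θ ^ (k : ℕ))
    (P : Ideal (L ⊗[K] K₂)) [hP : P.IsPrime] : ∃ N, Q B K L K₁ p θ π P N := by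
  classical
  haveI : Module.Finite L (L ⊗[K] K₂) := inferInstance
  haveI : IsArtinianRing (L ⊗[K] K₂) := IsArtinianRing.of_finite L _
  haveI : P.IsMaximal := inferInstance
  letI : Field ((L ⊗[K] K₂) ⧸ P) := Ideal.Quotient.field P
  let φ : B →+* (L ⊗[K] K₂) ⧸ P := (Ideal.Quotient.mk P).comp (g₂ B K L K₂)
  have hφ : algebraMap B ((L ⊗[K] K₂) ⧸ P) = φ := rfl
  haveI : Module.Finite L ((L ⊗[K] K₂) ⧸ P) :=
    Module.Finite.of_surjective (Ideal.Quotient.mkₐ L P).toLinearMap (Ideal.Quotient.mkₐ_surjective L P)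
  haveI : Algebra.EssFiniteType B L := Algebra.EssFiniteType.of_isLocalization L (nonZeroDivisors B)
  haveI : Algebra.EssFiniteType B ((L ⊗[K] K₂) ⧸ P) := Algebra.EssFiniteType.comp B L _
  haveI hfin : Module.Finite B (integralClosure B ((L ⊗[K] K₂) ⧸ P)) :=
    Groth.Agent.Lib.Helper21.NagFin.finite_integralClosure_field B _ hB
  haveI : Algebra.IsAlgebraic B L := IsLocalization.isAlgebraic L (nonZeroDivisors B)
  haveI : Algebra.IsAlgebraic L ((L ⊗[K] K₂) ⧸ P) := inferInstance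
  haveI : Algebra.IsAlgebraic B ((L ⊗[K] K₂) ⧸ P) := Algebra.IsAlgebraic.trans B L _
  obtain ⟨S, hS⟩ := hfin.fg_top
  -- single element bound
  have key : ∀ x : (L ⊗[K] K₂) ⧸ P, ∃ (N : ℕ) (c : Fin p → L ⊗[K] K₁),
      (∀ k, IsIntegral B (Ideal.Quotient.mk P (iota K L K₁ K₂ (c k)))) ∧
      φ (π ^ N) * x = ∑ k, Ideal.Quotient.mk P (iota K L K₁ K₂ (c k)) *
          Ideal.Quotient.mk P ((1 : L) ⊗ₜ[K] θ) ^ (k : ℕ) := by
    intro x
    obtain ⟨x, rfl⟩ := Ideal.Quotient.mk_surjective x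
    obtain ⟨c, hc⟩ := span_tensor K L K₁ p θ hspan x
    have hn : ∀ k, ∃ n : ℕ, IsIntegral B (algebraMap B ((L ⊗[K] K₂) ⧸ P) (π ^ n) *
        Ideal.Quotient.mk P (iota K L K₁ K₂ (c k))) := fun k =>
      exists_pow_mul_integral π hπ _ (Algebra.IsAlgebraic.isAlgebraic _)
    choose n hn using hn
    refine ⟨Finset.univ.sup n, fun k => (algebraMap L (L ⊗[K] K₁)
      (algebraMap B L (π ^ (Finset.univ.sup n)))) * c k, fun k => ?_, ?_⟩
    · rw [← g₂_iota, map_mul]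
      have hle : n k ≤ Finset.univ.sup n := Finset.le_sup (Finset.mem_univ k)
      have e : π ^ (Finset.univ.sup n) = π ^ (Finset.univ.sup n - n k) * π ^ n k := by
        rw [← pow_add, Nat.sub_add_cancel hle]
      rw [e, map_mul, map_mul, mul_assoc]
      exact isIntegral_algebraMap.mul (hn k)
    · conv_lhs => rw [hc]
      rw [map_sum, Finset.mul_sum]
      refine Finset.sum_congr rfl (fun k _ => ?_)
      rw [← g₂_iota, map_mul (Ideal.Quotient.mk P), map_mul (Ideal.Quotient.mk P),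
        map_pow (Ideal.Quotient.mk P), mul_assoc]
      rfl
  -- common bound for generators
  have hgen : ∃ N, ∀ g ∈ S, ∃ c : Fin p → L ⊗[K] K₁,
      (∀ k, IsIntegral B (Ideal.Quotient.mk P (iota K L K₁ K₂ (c k)))) ∧
      φ (π ^ N) * (g : (L ⊗[K] K₂) ⧸ P) = ∑ k, Ideal.Quotient.mk P (iota K L K₁ K₂ (c k)) *
          Ideal.Quotient.mk P ((1 : L) ⊗ₜ[K] θ) ^ (k : ℕ) := by
    choose Nf cf hcf1 hcf2 using key
    refine ⟨S.sup (fun g => Nf (g : (L ⊗[K] K₂) ⧸ P)), fun g hg => ?_⟩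
    have hle : Nf (g : (L ⊗[K] K₂) ⧸ P) ≤ S.sup (fun g => Nf (g : (L ⊗[K] K₂) ⧸ P)) :=
      Finset.le_sup (f := fun g : integralClosure B ((L ⊗[K] K₂) ⧸ P) => Nf (g : (L ⊗[K] K₂) ⧸ P)) hg
    set N := S.sup (fun g => Nf (g : (L ⊗[K] K₂) ⧸ P)) with hN
    refine ⟨fun k => (algebraMap L (L ⊗[K] K₁) (algebraMap B L (π ^ (N - Nf (g : (L ⊗[K] K₂) ⧸ P))))) *
      cf (g : (L ⊗[K] K₂) ⧸ P) k, fun k => ?_, ?_⟩
    · rw [← g₂_iota, map_mul]
      exact (isIntegral_algebraMap (R := B) (x := π ^ (N - Nf (g : (L ⊗[K] K₂) ⧸ P)))).mul (hcf1 _ k)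
    · have e : π ^ N = π ^ (N - Nf (g : (L ⊗[K] K₂) ⧸ P)) * π ^ Nf (g : (L ⊗[K] K₂) ⧸ P) := by
        rw [← pow_add, Nat.sub_add_cancel hle]
      rw [e, map_mul, mul_assoc, hcf2, Finset.mul_sum]
      refine Finset.sum_congr rfl (fun k _ => ?_)
      rw [← g₂_iota, map_mul, mul_assoc]
      rfl
  obtain ⟨N, hN⟩ := hgen
  refine ⟨N, ?_⟩
  -- the submodule of good elements
  let 𝒮 : Submodule B ((L ⊗[K] K₂) ⧸ P) :=
    { carrier := {x | ∃ c : Fin p → L ⊗[K] K₁,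
        (∀ k, IsIntegral B (Ideal.Quotient.mk P (iota K L K₁ K₂ (c k)))) ∧
        φ (π ^ N) * x = ∑ k, Ideal.Quotient.mk P (iota K L K₁ K₂ (c k)) *
          Ideal.Quotient.mk P ((1 : L) ⊗ₜ[K] θ) ^ (k : ℕ)}
      add_mem' := by
        rintro x y ⟨c, hc1, hc2⟩ ⟨d, hd1, hd2⟩
        refine ⟨fun k => c k + d k, fun k => ?_, ?_⟩
        · rw [map_add, map_add]; exact (hc1 k).add (hd1 k)
        · rw [mul_add, hc2, hd2, ← Finset.sum_add_distrib]
          refine Finset.sum_congr rfl (fun k _ => ?_)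
          rw [map_add, map_add, add_mul]
      zero_mem' := ⟨fun _ => 0, fun k => by rw [map_zero, map_zero]; exact isIntegral_zero, by simp⟩
      smul_mem' := by
        rintro b x ⟨c, hc1, hc2⟩
        refine ⟨fun k => (algebraMap L (L ⊗[K] K₁) (algebraMap B L b)) * c k, fun k => ?_, ?_⟩
        · rw [← g₂_iota, map_mul]
          exact (isIntegral_algebraMap (R := B) (x := b)).mul (hc1 k)
        · rw [Algebra.smul_def, ← mul_assoc, mul_comm (φ (π ^ N)), mul_assoc, hc2, Finset.mul_sum]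
          refine Finset.sum_congr rfl (fun k _ => ?_)
          rw [← g₂_iota, map_mul, mul_assoc]
          rfl }
  intro β hβ
  have hβ' : IsIntegral B (Ideal.Quotient.mk P β) := hβ
  have hmem : (Ideal.Quotient.mk P β) ∈ 𝒮 := by
    have h1 : (⟨_, hβ'⟩ : integralClosure B ((L ⊗[K] K₂) ⧸ P)) ∈ Submodule.span B (S : Set _) := by
      rw [hS]; trivial
    have h2 : (Ideal.Quotient.mk P β) ∈ Submodule.map
        (integralClosure B ((L ⊗[K] K₂) ⧸ P)).val.toLinearMap (Submodule.span B (S : Set _)) :=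
      ⟨_, h1, rfl⟩
    rw [Submodule.map_span] at h2
    refine (Submodule.span_le.mpr ?_) h2
    rintro _ ⟨g, hg, rfl⟩
    exact hN g hg
  obtain ⟨c, hc1, hc2⟩ := hmem
  exact ⟨c, hc1, by rw [map_mul]; exact hc2⟩

variable {K₂} in
theorem uniform_bound (hB : CAlg.IsNagata B) (p : ℕ) (θ : K₂) (π : B) (hπ : Irreducible π)
    (hspan : ∀ z : K₂, ∃ c : Fin p → K₁, z = ∑ k, algebraMap K₁ K₂ (c k) * θ ^ (k : ℕ)) :
    ∃ N₀ : ℕ, ∀ (F : Type u) [Field F] (τ : L ⊗[K] K₂ →+* F) (β : L ⊗[K] K₂),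
      (τ.comp (g₂ B K L K₂)).IsIntegralElem (τ β) →
      ∃ c : Fin p → L ⊗[K] K₁,
        (∀ k, (τ.comp (g₂ B K L K₂)).IsIntegralElem (τ (iota K L K₁ K₂ (c k)))) ∧
        τ (g₂ B K L K₂ (π ^ N₀)) * τ β =
          ∑ k, τ (iota K L K₁ K₂ (c k)) * τ ((1 : L) ⊗ₜ[K] θ) ^ (k : ℕ) := by
  classical
  haveI : Module.Finite L (L ⊗[K] K₂) := inferInstance
  haveI : IsArtinianRing (L ⊗[K] K₂) := IsArtinianRing.of_finite L _
  haveI : Finite (PrimeSpectrum (L ⊗[K] K₂)) := inferInstance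
  letI : Fintype (PrimeSpectrum (L ⊗[K] K₂)) := Fintype.ofFinite _
  have h : ∀ P : PrimeSpectrum (L ⊗[K] K₂), ∃ N, Q B K L K₁ p θ π P.asIdeal N :=
    fun P => exists_Q B K L K₁ hB p θ π hπ hspan P.asIdeal
  choose Nf hNf using h
  refine ⟨Finset.univ.sup Nf, ?_⟩
  intro F _ τ β hβ
  haveI hPp : (RingHom.ker τ).IsPrime := RingHom.ker_isPrime τ
  let P' : PrimeSpectrum (L ⊗[K] K₂) := ⟨RingHom.ker τ, hPp⟩
  have hQ : Q B K L K₁ p θ π (RingHom.ker τ) (Finset.univ.sup Nf) :=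
    Q_mono B K L K₁ p θ π _ _ _ (Finset.le_sup (Finset.mem_univ P')) (hNf P')
  have hinj : Function.Injective (RingHom.kerLift τ) := RingHom.kerLift_injective τ
  have hβ' : ((Ideal.Quotient.mk (RingHom.ker τ)).comp (g₂ B K L K₂)).IsIntegralElem
      (Ideal.Quotient.mk (RingHom.ker τ) β) := by
    obtain ⟨q, hqm, hq⟩ := hβ
    refine ⟨q, hqm, hinj ?_⟩
    rw [Polynomial.hom_eval₂, map_zero, RingHom.kerLift_mk]
    exact hq
  obtain ⟨c, hc1, hc2⟩ := hQ β hβ'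
  refine ⟨c, fun k => ?_, ?_⟩
  · obtain ⟨q, hqm, hq⟩ := hc1 k
    refine ⟨q, hqm, ?_⟩
    have := congrArg (RingHom.kerLift τ) hq
    rw [Polynomial.hom_eval₂, map_zero, RingHom.kerLift_mk] at this
    exact this
  · have := congrArg (RingHom.kerLift τ) hc2
    rw [RingHom.kerLift_mk, map_mul, map_sum] at this
    rw [this]
    refine Finset.sum_congr rfl (fun k _ => ?_)
    rw [map_mul, map_pow, RingHom.kerLift_mk, RingHom.kerLift_mk]

end Main

end Groth.Agent.Lib.Helper26.Ep51B
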