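import Mathlib
import Groth.Prelude.Def_EtRam
import Groth.Prelude.Def_Found
import Groth.Agent.Lib.Helper26.Sol1982
import Groth.Agent.Lib.Helper26.ValBasis
import Groth.Agent.Lib.Helper21.NagFin2

set_option autoImplicit false
set_option linter.unusedVariables false
set_option linter.style.haveILetI false
set_option linter.unusedSectionVars false
set_option linter.unusedSimpArgs false

universe u

namespace Groth.Agent.Lib.Helper26.Ep56A

open IsLocalRing Polynomial Groth.Agent.Lib.Helper26.Monog

theorem charP_of_purelyInsep (p : ℕ) (hp : p.Prime) (L M : Type u) [Field L] [Field M] [Algebra L M]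
    [IsPurelyInseparable L M] (hdeg : Module.finrank L M = p) : CharP L p := by
  haveI : FiniteDimensional L M := Module.finite_of_finrank_pos (by rw [hdeg]; exact hp.pos)
  obtain ⟨q, hq⟩ := ExpChar.exists L
  obtain ⟨n, hn⟩ := IsPurelyInseparable.finrank_eq_pow L M q
  rw [hdeg] at hn
  cases hq with
  | zero =>
    rw [one_pow] at hn; exact absurd hn hp.ne_one
  | prime hq' =>
    have : q = p := by
      have hn0 : n ≠ 0 := by rintro rfl; rw [pow_zero] at hn; exact hp.ne_one hn
      have hdvd : q ∣ p := by rw [hn]; exact dvd_pow_self q hn0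
      exact ((Nat.prime_dvd_prime_iff_eq hq' hp).mp hdvd)
    subst this; infer_instance

theorem pow_p_mem (p : ℕ) (hp : p.Prime) (L M : Type u) [Field L] [Field M] [Algebra L M]
    [IsPurelyInseparable L M] [CharP L p] (hdeg : Module.finrank L M = p) (x : M) :
    ∃ y : L, algebraMap L M y = x ^ p := by
  haveI : ExpChar L p := ExpChar.prime hp
  haveI : FiniteDimensional L M := Module.finite_of_finrank_pos (by rw [hdeg]; exact hp.pos)
  obtain ⟨n, y, hy⟩ := IsPurelyInseparable.minpoly_eq_X_pow_sub_C L p x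
  have hdeg' : (minpoly L x).natDegree ≤ p := hdeg ▸ minpoly.natDegree_le x
  rw [hy, natDegree_X_pow_sub_C] at hdeg'
  have hn : n ≤ 1 := by
    by_contra h
    push Not at h
    have h2 : p ^ 2 ≤ p ^ n := Nat.pow_le_pow_right hp.pos h
    nlinarith [hp.two_le]
  have hx : x ^ p ^ n = algebraMap L M y := by
    have := minpoly.aeval L x
    rw [hy] at this
    simpa [sub_eq_zero] using this
  interval_cases n
  · exact ⟨y ^ p, by rw [map_pow, ← hx, pow_zero, pow_one]⟩
  · exact ⟨y, by rw [← hx, pow_one]⟩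

section BC

variable (B C L M : Type u) [CommRing B] [IsDomain B] [IsDiscreteValuationRing B]
    [CommRing C] [IsDomain C] [IsDiscreteValuationRing C] [Algebra B C] [IsLocalHom (algebraMap B C)]
    [Field L] [Field M] [Algebra B L] [IsFractionRing B L] [Algebra C M] [IsFractionRing C M]
    [Algebra L M] [Algebra B M] [IsScalarTower B L M] [IsScalarTower B C M]

/-- `L ∩ C = B`. -/
theorem mem_B_of_mem_C (y : L) (c : C) (h : algebraMap L M y = algebraMap C M c) :
    ∃ b : B, algebraMap B L b = y := by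
  rcases ValuationRing.isInteger_or_isInteger B y with h1 | h1
  · exact h1
  · obtain ⟨b, hb⟩ := h1
    by_cases hy : y = 0
    · exact ⟨0, by rw [map_zero, hy]⟩
    by_cases hbu : IsUnit b
    · obtain ⟨v, rfl⟩ := hbu
      refine ⟨((v⁻¹ : Bˣ) : B), ?_⟩
      have h2 : algebraMap B L ((v⁻¹ : Bˣ) : B) * algebraMap B L (v : B) = 1 := by
        rw [← map_mul, Units.inv_mul, map_one]
      rw [hb] at h2
      have := eq_inv_of_mul_eq_one_left h2
      rw [inv_inv] at this
      exact this
    · exfalso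
      apply hbu
      apply isUnit_of_map_unit (algebraMap B C)
      apply IsUnit.of_mul_eq_one c
      apply IsFractionRing.injective C M
      rw [map_mul, map_one, ← h, ← IsScalarTower.algebraMap_apply B C M,
        IsScalarTower.algebraMap_apply B L M, hb, ← map_mul, inv_mul_cancel₀ hy, map_one]

end BC

section Dich

variable (p : ℕ) (hp : p.Prime) (A B C L M : Type u)
    [CommRing A] [IsDomain A] [IsDiscreteValuationRing A] [CommRing B] [IsDomain B] [IsDiscreteValuationRing B]
    [CommRing C] [IsDomain C] [IsDiscreteValuationRing C]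
    [Algebra A B] [Algebra B C] [Algebra A C] [IsScalarTower A B C]
    [IsLocalHom (algebraMap A B)] [IsLocalHom (algebraMap B C)]
    [Field L] [Field M] [Algebra B L] [IsFractionRing B L]
    [Algebra C M] [IsFractionRing C M] [Algebra L M] [Algebra B M] [IsScalarTower B L M] [IsScalarTower B C M]

include hp in
theorem dichotomy (hAB : Function.Injective (algebraMap A B)) (hBC : Function.Injective (algebraMap B C))
    (π : A) (hπ : maximalIdeal A = Ideal.span {π})
    (hw : EtRam.IsWeaklyUnramified A B) [IsPurelyInseparable L M] [CharP L p]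
    (hdeg : Module.finrank L M = p) :
    EtRam.IsWeaklyUnramified A C ∨
      ∃ (πC : C) (u : Bˣ) (w : Cˣ), Irreducible πC ∧
        πC ^ p = algebraMap B C ((u : B) * algebraMap A B π) ∧
        algebraMap A C π = (w : C) * πC ^ p := by
  obtain ⟨πC, hπC⟩ := IsDiscreteValuationRing.exists_irreducible C
  obtain ⟨y, hy⟩ := pow_p_mem p hp L M hdeg (algebraMap C M πC)
  rw [← map_pow] at hy
  obtain ⟨β, hβ⟩ := mem_B_of_mem_C B C L M y (πC ^ p) hy
  have hβC : algebraMap B C β = πC ^ p := by
    apply IsFractionRing.injective C M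
    rw [← hy, ← hβ, ← IsScalarTower.algebraMap_apply, ← IsScalarTower.algebraMap_apply]
  have hβ0 : β ≠ 0 := by
    rintro rfl
    rw [map_zero] at hβC
    exact pow_ne_zero p hπC.ne_zero hβC.symm
  have hϖ : Irreducible (algebraMap A B π) := by
    rw [IsDiscreteValuationRing.irreducible_iff_uniformizer]
    rw [← hw, hπ, Ideal.map_span, Set.image_singleton]
  obtain ⟨j, u, hu⟩ := IsDiscreteValuationRing.eq_unit_mul_pow_irreducible hβ0 hϖ
  have hπ0 : π ≠ 0 := by
    rintro rfl
    have : maximalIdeal A = ⊥ := by rw [hπ]; simp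
    exact IsDiscreteValuationRing.not_a_field A this
  have hπC0 : algebraMap A C π ≠ 0 := by
    rw [IsScalarTower.algebraMap_apply A B C]
    intro h
    exact hπ0 (hAB (hBC (by rw [h, map_zero, map_zero])))
  obtain ⟨e, w, hw'⟩ := IsDiscreteValuationRing.eq_unit_mul_pow_irreducible hπC0 hπC
  -- compare
  have hcmp : (1 : Cˣ) * πC ^ p = ((Units.map (algebraMap B C).toMonoidHom u) * w ^ j : Cˣ) * πC ^ (e * j) := by
    rw [Units.val_one, one_mul, ← hβC, hu, map_mul, map_pow, ← IsScalarTower.algebraMap_apply A B C, hw',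
      mul_pow, ← pow_mul]
    push_cast
    simp only [Units.coe_map, RingHom.toMonoidHom_eq_coe, MonoidHom.coe_coe]
    ring
  have hpe : p = e * j := IsDiscreteValuationRing.unit_mul_pow_congr_pow hπC hπC _ _ _ _ hcmp
  have he : e = 1 ∨ e = p := (Nat.dvd_prime hp).mp ⟨j, hpe⟩
  rcases he with he | he
  · left
    show Ideal.map (algebraMap A C) (maximalIdeal A) = maximalIdeal C
    rw [hπ, Ideal.map_span, Set.image_singleton, hw', he, pow_one,
      (IsDiscreteValuationRing.irreducible_iff_uniformizer πC).mp hπC]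
    exact Ideal.span_singleton_eq_span_singleton.mpr ⟨w⁻¹, by rw [mul_comm, ← mul_assoc, Units.inv_mul, one_mul]⟩
  · right
    have hj : j = 1 := by
      rw [he] at hpe
      have := hp.pos
      nlinarith [Nat.eq_of_mul_eq_mul_left this (by rw [mul_one]; exact hpe : p * 1 = p * j)]
    refine ⟨πC, u, w, hπC, ?_, ?_⟩
    · rw [← hβC, hu, hj, pow_one]
    · rw [hw', he]

end Dich

section PB

variable {B : Type u} [CommRing B] (p : ℕ) [hp : Fact p.Prime] [CharP B p] (ϖ u : B)

/-- approximations of `u` by elements of `B^p[ϖ]` -/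
def Approx (m : ℕ) (b : B) : Prop :=
  ∃ c : Fin p → B, u = ∑ i, c i ^ p * ϖ ^ (i : ℕ) + b * ϖ ^ m

theorem approx_zero : Approx p ϖ u 0 u := ⟨fun _ => 0, by
  simp [zero_pow hp.out.ne_zero]⟩

theorem approx_succ (m : ℕ) (d b' : B) (h : Approx p ϖ u m (d ^ p + ϖ * b')) :
    Approx p ϖ u (m + 1) b' := by
  classical
  obtain ⟨c, hc⟩ := h
  have hp0 : 0 < p := hp.out.pos
  let r : Fin p := ⟨m % p, Nat.mod_lt _ hp0⟩
  refine ⟨fun i => c i + if i = r then d * ϖ ^ (m / p) else 0, ?_⟩
  have h1 : ∀ i : Fin p, (c i + if i = r then d * ϖ ^ (m / p) else 0) ^ p * ϖ ^ (i : ℕ) =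
      c i ^ p * ϖ ^ (i : ℕ) + if i = r then d ^ p * ϖ ^ m else 0 := by
    intro i
    rw [add_pow_char]
    split_ifs with hi
    · rw [add_mul, mul_pow, ← pow_mul, hi, mul_assoc, ← pow_add]
      congr 3
      show m / p * p + m % p = m
      rw [mul_comm]; exact Nat.div_add_mod m p
    · rw [zero_pow hp.out.ne_zero, add_zero, add_zero]
  rw [Finset.sum_congr rfl (fun i _ => h1 i), Finset.sum_add_distrib, Finset.sum_ite_eq' Finset.univ r,
    if_pos (Finset.mem_univ _), hc]
  ring

theorem approx_dichotomy :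
    (∃ m b, Approx p ϖ u m b ∧ ¬ ∃ d b', b = d ^ p + ϖ * b') ∨ ∀ m, ∃ b, Approx p ϖ u m b := by
  by_cases h : ∃ m b, Approx p ϖ u m b ∧ ¬ ∃ d b', b = d ^ p + ϖ * b'
  · exact Or.inl h
  · right
    push Not at h
    intro m
    induction m with
    | zero => exact ⟨u, approx_zero p ϖ u⟩
    | succ m ih =>
      obtain ⟨b, hb⟩ := ih
      obtain ⟨d, b', hdb⟩ := h m b hb
      exact ⟨b', approx_succ p ϖ u m d b' (hdb ▸ hb)⟩

end PB

/-- elements of `B[x]` with `x^p ∈ B` are combinations of `1, x, …, x^(p-1)` -/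
theorem mem_adjoin_pow {B S : Type*} [CommRing B] [CommRing S] [Algebra B S] (p : ℕ) (hp : 0 < p)
    (x : S) (β : B) (hx : x ^ p = algebraMap B S β) (y : S) (hy : y ∈ Algebra.adjoin B {x}) :
    ∃ d : Fin p → B, y = ∑ i, algebraMap B S (d i) * x ^ (i : ℕ) := by
  rw [Algebra.adjoin_singleton_eq_range_aeval] at hy
  obtain ⟨f, rfl⟩ := hy
  have hmon : (X ^ p - C β : B[X]).Monic := monic_X_pow_sub_C β hp.ne'
  have hroot : aeval x (X ^ p - C β : B[X]) = 0 := by
    rw [map_sub, map_pow, aeval_X, aeval_C, hx, sub_self]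
  have h1 : aeval x f = aeval x (f %ₘ (X ^ p - C β)) := by
    conv_lhs => rw [← modByMonic_add_div f (X ^ p - C β)]
    rw [map_add, map_mul, hroot, zero_mul, add_zero]
  have hdeg : (f %ₘ (X ^ p - C β)).natDegree < p := by
    rcases subsingleton_or_nontrivial B with hs | hs
    · rw [Subsingleton.elim (f %ₘ (X ^ p - C β)) 0, natDegree_zero]; exact hp
    have := natDegree_modByMonic_lt f hmon (by
      intro h
      have h2 := congrArg natDegree h
      rw [natDegree_X_pow_sub_C, natDegree_one] at h2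
      exact hp.ne' h2)
    rwa [natDegree_X_pow_sub_C] at this
  refine ⟨fun i => (f %ₘ (X ^ p - C β)).coeff i, ?_⟩
  show aeval x f = _
  rw [h1]
  conv_lhs => rw [as_sum_range' (f %ₘ (X ^ p - C β)) p hdeg]
  rw [map_sum, Finset.sum_range]
  refine Finset.sum_congr rfl (fun i _ => ?_)
  rw [← C_mul_X_pow_eq_monomial, map_mul, aeval_C, map_pow, aeval_X]

theorem krull_mem {R : Type*} [CommRing R] [IsNoetherianRing R] [IsLocalRing R]
    {Q : Type*} [AddCommGroup Q] [Module R Q] [Module.Finite R Q] (N : Submodule R Q) (y : Q)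
    (h : ∀ k : ℕ, ∃ t ∈ N, ∃ r ∈ (maximalIdeal R) ^ k, ∃ s : Q, y = t + r • s) : y ∈ N := by
  have hkrull : (⨅ i : ℕ, (maximalIdeal R) ^ i • (⊤ : Submodule R (Q ⧸ N))) = ⊥ :=
    Ideal.iInf_pow_smul_eq_bot_of_isLocalRing _ (Ideal.IsPrime.ne_top inferInstance)
  have hmem : N.mkQ y ∈ ⨅ i : ℕ, (maximalIdeal R) ^ i • (⊤ : Submodule R (Q ⧸ N)) := by
    rw [Submodule.mem_iInf]
    intro k
    obtain ⟨t, ht, r, hr, s, hs⟩ := h k
    have h2 : N.mkQ y = r • N.mkQ s := by
      rw [hs, map_add, map_smul, Submodule.mkQ_apply, Submodule.mkQ_apply,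
        (Submodule.Quotient.mk_eq_zero N).mpr ht, zero_add]
    rw [h2]
    exact Submodule.smul_mem_smul hr trivial
  rw [hkrull, Submodule.mem_bot, Submodule.mkQ_apply, Submodule.Quotient.mk_eq_zero] at hmem
  exact hmem

theorem closed_core (B L' : Type u) [CommRing B] [IsNoetherianRing B] [IsLocalRing B] [Field L']
    [Algebra B L'] (hinj : Function.Injective (algebraMap B L'))
    (p : ℕ) [hp : Fact p.Prime] [CharP L' p] [hfin : Module.Finite B (integralClosure B L')]
    (ϖ u : B) (hϖ : ϖ ∈ maximalIdeal B) (hϖ0 : ϖ ≠ 0) (x y : L')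
    (hx : x ^ p = algebraMap B L' ϖ) (hy : y ^ p = algebraMap B L' u)
    (h : ∀ m, ∃ b, Approx p ϖ u m b) : ∃ d : Fin p → B, u = ∑ i, d i ^ p * ϖ ^ (i : ℕ) := by
  classical
  have hp0 : 0 < p := hp.out.pos
  have hroot : ∀ (z : L') (β : B), z ^ p = algebraMap B L' β → z ∈ integralClosure B L' := by
    intro z β hz
    refine ⟨X ^ p - C β, monic_X_pow_sub_C β hp0.ne', ?_⟩
    rw [eval₂_sub, eval₂_pow, eval₂_X, eval₂_C, hz, sub_self]
  have hxB' : x ∈ integralClosure B L' := hroot x ϖ hx
  have hyB' : y ∈ integralClosure B L' := hroot y u hy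
  have hB₁B' : Algebra.adjoin B {x} ≤ integralClosure B L' := Algebra.adjoin_le (by simpa using hxB')
  have hx0 : algebraMap B L' ϖ ≠ 0 := fun h0 => hϖ0 (hinj (h0.trans (map_zero _).symm))
  have hmem : (⟨y, hyB'⟩ : integralClosure B L') ∈
      (Subalgebra.toSubmodule (Algebra.adjoin B {x})).comap
        (Subalgebra.toSubmodule (integralClosure B L')).subtype := by
    apply krull_mem
    intro k
    obtain ⟨b, c, hc⟩ := h (p * k)
    have ht : ∑ i, algebraMap B L' (c i) * x ^ (i : ℕ) ∈ Algebra.adjoin B {x} :=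
      sum_mem (fun i _ => mul_mem
        (Subalgebra.algebraMap_mem _ _) (pow_mem (Algebra.subset_adjoin (Set.mem_singleton x)) _))
    have htp : (∑ i, algebraMap B L' (c i) * x ^ (i : ℕ)) ^ p =
        algebraMap B L' (∑ i, c i ^ p * ϖ ^ (i : ℕ)) := by
      rw [sum_pow_char, map_sum]
      refine Finset.sum_congr rfl (fun i _ => ?_)
      rw [mul_pow, ← pow_mul, mul_comm (i : ℕ) p, pow_mul, hx, map_mul, map_pow, map_pow]
    have hs : ((y - ∑ i, algebraMap B L' (c i) * x ^ (i : ℕ)) / (algebraMap B L' ϖ) ^ k) ^ p =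
        algebraMap B L' b := by
      rw [div_pow, sub_pow_char, hy, htp, ← map_sub, hc, add_sub_cancel_left, map_mul, map_pow,
        ← pow_mul, mul_comm k p, mul_div_assoc, div_self (pow_ne_zero _ hx0), mul_one]
    have hsB' := hroot _ b hs
    have hys : y = ∑ i, algebraMap B L' (c i) * x ^ (i : ℕ) + (ϖ ^ k) •
        ((y - ∑ i, algebraMap B L' (c i) * x ^ (i : ℕ)) / (algebraMap B L' ϖ) ^ k) := by
      rw [Algebra.smul_def, map_pow, mul_div_cancel₀ _ (pow_ne_zero _ hx0)]
      ring
    exact ⟨⟨_, hB₁B' ht⟩, ht, ϖ ^ k, Ideal.pow_mem_pow hϖ k, ⟨_, hsB'⟩, Subtype.ext hys⟩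
  have hmem' : y ∈ Algebra.adjoin B {x} := hmem
  obtain ⟨d, hd⟩ := mem_adjoin_pow p hp0 x ϖ hx y hmem'
  refine ⟨d, hinj ?_⟩
  rw [← hy, hd, sum_pow_char, map_sum]
  refine Finset.sum_congr rfl (fun i _ => ?_)
  rw [mul_pow, ← pow_mul, mul_comm (i : ℕ) p, pow_mul, hx, map_mul, map_pow, map_pow]

theorem closed_eq (B L : Type u) [CommRing B] [IsDomain B] [IsDiscreteValuationRing B] [Field L]
    [Algebra B L] [IsFractionRing B L]
    (p : ℕ) [hp : Fact p.Prime] [CharP B p] (hB : CAlg.IsNagata B) (ϖ u : B)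
    (hϖ : ϖ ∈ maximalIdeal B) (hϖ0 : ϖ ≠ 0)
    (h : ∀ m, ∃ b, Approx p ϖ u m b) : ∃ d : Fin p → B, u = ∑ i, d i ^ p * ϖ ^ (i : ℕ) := by
  classical
  have hp0 : 0 < p := hp.out.pos
  obtain ⟨ϖ₁, hϖ₁⟩ := IsAlgClosed.exists_pow_nat_eq (algebraMap B (AlgebraicClosure L) ϖ) hp0
  obtain ⟨w, hw⟩ := IsAlgClosed.exists_pow_nat_eq (algebraMap B (AlgebraicClosure L) u) hp0
  haveI : FiniteDimensional L (IntermediateField.adjoin L {ϖ₁, w}) :=
    IntermediateField.finiteDimensional_adjoin (fun x _ => Algebra.IsIntegral.isIntegral x)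
  haveI : Algebra.EssFiniteType B L := Algebra.EssFiniteType.of_isLocalization L (nonZeroDivisors B)
  haveI : Algebra.EssFiniteType B (IntermediateField.adjoin L {ϖ₁, w}) :=
    Algebra.EssFiniteType.comp B L (IntermediateField.adjoin L {ϖ₁, w})
  haveI hfin : Module.Finite B (integralClosure B (IntermediateField.adjoin L {ϖ₁, w})) :=
    Groth.Agent.Lib.Helper21.NagFin.finite_integralClosure_field B _ hB
  haveI : IsNoetherianRing B := hB.1
  have hinj : Function.Injective (algebraMap B (IntermediateField.adjoin L {ϖ₁, w})) := by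
    rw [IsScalarTower.algebraMap_eq B L (IntermediateField.adjoin L {ϖ₁, w})]
    exact (algebraMap L (IntermediateField.adjoin L {ϖ₁, w})).injective.comp
      (IsFractionRing.injective B L)
  haveI : CharP (IntermediateField.adjoin L {ϖ₁, w}) p := charP_of_injective_algebraMap hinj p
  exact closed_core B (IntermediateField.adjoin L {ϖ₁, w}) hinj p ϖ u hϖ hϖ0
    ⟨ϖ₁, IntermediateField.subset_adjoin L _ (by simp)⟩
    ⟨w, IntermediateField.subset_adjoin L _ (by simp)⟩ (Subtype.ext hϖ₁) (Subtype.ext hw) h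

/-- the valuation subring of the fraction field attached to a DVR -/
noncomputable def valSub (C M : Type u) [CommRing C] [IsDomain C] [IsDiscreteValuationRing C] [Field M]
    [Algebra C M] [IsFractionRing C M] : ValuationSubring M :=
  { (algebraMap C M).range with
    mem_or_inv_mem' := fun x => by
      rcases ValuationRing.isInteger_or_isInteger C x with h1 | h1
      · left; obtain ⟨a, ha⟩ := h1; exact ⟨a, ha⟩
      · right; obtain ⟨a, ha⟩ := h1; exact ⟨a, ha⟩ }

theorem mem_valSub (C M : Type u) [CommRing C] [IsDomain C] [IsDiscreteValuationRing C] [Field M]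
    [Algebra C M] [IsFractionRing C M] (x : M) : x ∈ valSub C M ↔ ∃ c, algebraMap C M c = x := Iff.rfl

theorem valSub_val_lt (C M : Type u) [CommRing C] [IsDomain C] [IsDiscreteValuationRing C] [Field M]
    [Algebra C M] [IsFractionRing C M] (c : C) (hc : c ∈ maximalIdeal C) :
    (valSub C M).valuation (algebraMap C M c) < 1 := by
  by_contra hlt
  push Not at hlt
  by_cases hc0 : c = 0
  · rw [hc0, map_zero, map_zero] at hlt
    exact absurd hlt (not_le.mpr zero_lt_one)
  have hx0 : algebraMap C M c ≠ 0 := fun h => hc0 (IsFractionRing.injective C M (h.trans (map_zero _).symm))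
  have h1 : (valSub C M).valuation (algebraMap C M c)⁻¹ ≤ 1 := by
    rw [map_inv₀]
    exact inv_le_one_of_one_le₀ hlt
  rw [ValuationSubring.valuation_le_one_iff, mem_valSub] at h1
  obtain ⟨c', hc'⟩ := h1
  have h2 : c * c' = 1 := by
    apply IsFractionRing.injective C M
    rw [map_mul, hc', mul_inv_cancel₀ hx0, map_one]
  exact hc (IsUnit.of_mul_eq_one c' h2)

section BC

variable (B C L M : Type u) [CommRing B] [IsDomain B] [IsDiscreteValuationRing B]
    [CommRing C] [IsDomain C] [IsDiscreteValuationRing C] [Algebra B C] [IsLocalHom (algebraMap B C)]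
    [Field L] [Field M] [Algebra B L] [IsFractionRing B L] [Algebra C M] [IsFractionRing C M]
    [Algebra L M] [Algebra B M] [IsScalarTower B L M] [IsScalarTower B C M]

theorem valSub_dominates : EtRam.Dominates B (gAL B L M) (valSub C M) := by
  have key : ∀ b : B, gAL B L M b = algebraMap C M (algebraMap B C b) := by
    intro b
    show algebraMap L M (algebraMap B L b) = _
    rw [← IsScalarTower.algebraMap_apply, ← IsScalarTower.algebraMap_apply]
  refine ⟨fun b => ?_, fun b hb => ?_⟩
  · rw [key]; exact ⟨_, rfl⟩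
  · rw [key]
    apply valSub_val_lt
    have hle : maximalIdeal B ≤ (maximalIdeal C).comap (algebraMap B C) :=
      ((local_hom_TFAE (algebraMap B C)).out 0 3).mp ‹_›
    exact hle hb

theorem adjoin_eq_top (p : ℕ) (hp : 0 < p) (hdeg : Module.finrank L M = p) (ϖ : B) (hϖ : Irreducible ϖ)
    (c : C) (hc : c ^ p = algebraMap B C ϖ) : Algebra.adjoin B {c} = ⊤ := by
  haveI : FiniteDimensional L M := Module.finite_of_finrank_pos (by rw [hdeg]; exact hp)
  have hV := valSub_dominates B C L M
  have hval : (valSub C M).valuation (algebraMap C M c) ^ p = (valSub C M).valuation (gAL B L M ϖ) := by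
    rw [← map_pow, ← map_pow, hc]
    show _ = (valSub C M).valuation (algebraMap L M (algebraMap B L ϖ))
    rw [← IsScalarTower.algebraMap_apply, ← IsScalarTower.algebraMap_apply]
  have hli := ValBasis.linearIndependent_pow (valSub C M) hV ϖ hϖ p hp (algebraMap C M c) hval
  have hcard : Fintype.card (Fin p) = Module.finrank L M := by rw [Fintype.card_fin, hdeg]
  haveI : Nonempty (Fin p) := ⟨⟨0, hp⟩⟩
  let bas := basisOfLinearIndependentOfCardEqFinrank hli hcard
  have hbas : ∀ j, bas j = algebraMap C M c ^ (j : ℕ) := fun j =>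
    congrFun (coe_basisOfLinearIndependentOfCardEqFinrank hli hcard) j
  rw [eq_top_iff]
  intro x _
  have hx := bas.sum_repr (algebraMap C M x)
  have hx' : ∑ j, algebraMap L M (bas.repr (algebraMap C M x) j) * (algebraMap C M c) ^ (j : ℕ) ∈ valSub C M := by
    have : ∑ j, algebraMap L M (bas.repr (algebraMap C M x) j) * (algebraMap C M c) ^ (j : ℕ) = algebraMap C M x := by
      conv_rhs => rw [← hx]
      refine Finset.sum_congr rfl (fun j _ => ?_)
      rw [Algebra.smul_def, hbas]
    rw [this]; exact ⟨x, rfl⟩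
  have hcoef := ValBasis.coeff_mem (valSub C M) hV ϖ hϖ p hp (algebraMap C M c) hval _ hx'
  choose b hb using hcoef
  have hxe : x = ∑ j, b j • c ^ (j : ℕ) := by
    apply IsFractionRing.injective C M
    conv_lhs => rw [← hx]
    rw [map_sum]
    refine Finset.sum_congr rfl (fun j _ => ?_)
    rw [Algebra.smul_def, hbas, ← hb j, Algebra.smul_def, map_mul,
      map_pow, ← IsScalarTower.algebraMap_apply, ← IsScalarTower.algebraMap_apply]
  rw [hxe]
  exact sum_mem (fun j _ => Subalgebra.smul_mem _ (pow_mem (Algebra.subset_adjoin (Set.mem_singleton c)) _) _)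

end BC

section BC

variable (B C L M : Type u) [CommRing B] [IsDomain B] [IsDiscreteValuationRing B]
    [CommRing C] [IsDomain C] [IsDiscreteValuationRing C] [Algebra B C] [IsLocalHom (algebraMap B C)]
    [Field L] [Field M] [Algebra B L] [IsFractionRing B L] [Algebra C M] [IsFractionRing C M]
    [Algebra L M] [Algebra B M] [IsScalarTower B L M] [IsScalarTower B C M]

theorem exists_root (p : ℕ) [hp : Fact p.Prime] [CharP L p] (hdeg : Module.finrank L M = p)
    (ϖ u : B) (πC : C) (hnot : ∀ y : L, algebraMap L M y ≠ algebraMap C M πC)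
    (h1 : πC ^ p = algebraMap B C (u * ϖ)) (d : Fin p → B) (hd : u = ∑ i, d i ^ p * ϖ ^ (i : ℕ)) :
    ∃ c : C, c ^ p = algebraMap B C ϖ := by
  classical
  have hp0 := hp.out.pos
  haveI : FiniteDimensional L M := Module.finite_of_finrank_pos (by rw [hdeg]; exact hp0)
  haveI : CharP (AlgebraicClosure M) p :=
    charP_of_injective_algebraMap (algebraMap L (AlgebraicClosure M)).injective p
  obtain ⟨ϖ₁, hϖ₁⟩ := IsAlgClosed.exists_pow_nat_eq
    (algebraMap L (AlgebraicClosure M) (algebraMap B L ϖ)) hp0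
  have hroot : aeval ϖ₁ (X ^ p - Polynomial.C (algebraMap B L ϖ) : L[X]) = 0 := by
    rw [map_sub, map_pow, aeval_X, aeval_C, hϖ₁, sub_self]
  have hint : IsIntegral L ϖ₁ := ⟨X ^ p - Polynomial.C (algebraMap B L ϖ), monic_X_pow_sub_C _ hp0.ne', hroot⟩
  have hF₁ : Module.finrank L (IntermediateField.adjoin L {ϖ₁}) ≤ p := by
    rw [IntermediateField.adjoin.finrank hint]
    have hdvd : minpoly L ϖ₁ ∣ X ^ p - Polynomial.C (algebraMap B L ϖ) := minpoly.dvd L ϖ₁ hroot
    have := natDegree_le_of_dvd hdvd (monic_X_pow_sub_C _ hp0.ne').ne_zero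
    rwa [natDegree_X_pow_sub_C] at this
  have hF₂ : Module.finrank L (IsScalarTower.toAlgHom L M (AlgebraicClosure M)).fieldRange = p := by
    rw [← hdeg]
    exact (LinearEquiv.finrank_eq (AlgEquiv.ofInjectiveField
      (IsScalarTower.toAlgHom L M (AlgebraicClosure M))).toLinearEquiv).symm
  haveI : FiniteDimensional L (IntermediateField.adjoin L {ϖ₁}) :=
    IntermediateField.adjoin.finiteDimensional hint
  have hφ : ∀ b : B, (IsScalarTower.toAlgHom L M (AlgebraicClosure M)) (algebraMap C M (algebraMap B C b)) =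
      algebraMap L (AlgebraicClosure M) (algebraMap B L b) := by
    intro b
    rw [← IsScalarTower.algebraMap_apply B C M, IsScalarTower.algebraMap_apply B L M, AlgHom.commutes]
  have hπ1 : (IsScalarTower.toAlgHom L M (AlgebraicClosure M)) (algebraMap C M πC) =
      ∑ i, algebraMap L (AlgebraicClosure M) (algebraMap B L (d i)) * ϖ₁ ^ ((i : ℕ) + 1) := by
    apply frobenius_inj (AlgebraicClosure M) p
    rw [frobenius_def, frobenius_def]
    rw [sum_pow_char, ← map_pow, ← map_pow, h1, hφ, hd, Finset.sum_mul, map_sum, map_sum]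
    refine Finset.sum_congr rfl (fun i _ => ?_)
    rw [mul_pow, ← pow_mul, mul_comm ((i : ℕ) + 1) p, pow_mul, hϖ₁, mul_assoc, ← pow_succ, map_mul,
      map_mul, map_pow, map_pow, map_pow, map_pow]
  have hle : (IsScalarTower.toAlgHom L M (AlgebraicClosure M)).fieldRange ≤
      IntermediateField.adjoin L {ϖ₁} := by
    have htop : IntermediateField.adjoin L {algebraMap C M πC} = ⊤ := by
      haveI := IntermediateField.isSimpleOrder_of_finrank_prime L M (hdeg ▸ hp.out)
      rcases eq_bot_or_eq_top (IntermediateField.adjoin L {algebraMap C M πC}) with hb | ht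
      · exfalso
        have : algebraMap C M πC ∈ (⊥ : IntermediateField L M) :=
          hb ▸ IntermediateField.mem_adjoin_simple_self L _
        rw [IntermediateField.mem_bot] at this
        obtain ⟨y, hy⟩ := this
        exact hnot y hy
      · exact ht
    rintro _ ⟨m, rfl⟩
    have hm : m ∈ IntermediateField.adjoin L {algebraMap C M πC} := htop ▸ IntermediateField.mem_top
    have hle' : IntermediateField.adjoin L {algebraMap C M πC} ≤
        (IntermediateField.adjoin L {ϖ₁}).comap (IsScalarTower.toAlgHom L M (AlgebraicClosure M)) := by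
      rw [IntermediateField.adjoin_simple_le_iff]
      show (IsScalarTower.toAlgHom L M (AlgebraicClosure M)) _ ∈ IntermediateField.adjoin L {ϖ₁}
      rw [hπ1]
      exact sum_mem (fun i _ => mul_mem (IntermediateField.algebraMap_mem _ _)
        (pow_mem (IntermediateField.mem_adjoin_simple_self L ϖ₁) _))
    exact hle' hm
  have heq := IntermediateField.eq_of_le_of_finrank_le hle (hF₁.trans hF₂.ge)
  have hmem : ϖ₁ ∈ (IsScalarTower.toAlgHom L M (AlgebraicClosure M)).fieldRange :=
    heq ▸ IntermediateField.mem_adjoin_simple_self L ϖ₁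
  obtain ⟨c₀, hc₀⟩ := hmem
  have hc₀p : c₀ ^ p = algebraMap L M (algebraMap B L ϖ) := by
    have hc₀' : (IsScalarTower.toAlgHom L M (AlgebraicClosure M)) c₀ = ϖ₁ := hc₀
    have hinjφ : Function.Injective (IsScalarTower.toAlgHom L M (AlgebraicClosure M)) :=
      (IsScalarTower.toAlgHom L M (AlgebraicClosure M)).toRingHom.injective
    apply hinjφ
    rw [map_pow, hc₀', hϖ₁, AlgHom.commutes]
  have hint₀ : IsIntegral C c₀ := by
    refine ⟨X ^ p - Polynomial.C (algebraMap B C ϖ), monic_X_pow_sub_C _ hp0.ne', ?_⟩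
    rw [eval₂_sub, eval₂_pow, eval₂_X, eval₂_C, hc₀p, ← IsScalarTower.algebraMap_apply,
      ← IsScalarTower.algebraMap_apply, sub_self]
  obtain ⟨c, hc⟩ := IsIntegrallyClosed.algebraMap_eq_of_integral hint₀
  refine ⟨c, IsFractionRing.injective C M ?_⟩
  rw [map_pow, hc, hc₀p, ← IsScalarTower.algebraMap_apply, ← IsScalarTower.algebraMap_apply]

end BC

end Groth.Agent.Lib.Helper26.Ep56A
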