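import Mathlib
import Groth.Prelude.Def_EtRam
import Groth.Prelude.Def_Found
import Groth.Agent.Lib.Helper26.Ep51A
import Groth.Agent.Lib.Helper26.Ep56A

set_option autoImplicit false
set_option linter.unusedVariables false
set_option linter.style.haveILetI false
set_option linter.unusedSectionVars false
set_option linter.unusedSimpArgs false

universe u

namespace Groth.Agent.Lib.Helper26.Ep51C

open IsLocalRing Polynomial Groth.Agent.Lib.Helper26.Ep51A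

section Core

variable {B F : Type u} [CommRing B] [IsDomain B] [IsDiscreteValuationRing B] [Field F] [Algebra B F]
  (p : ℕ) [hp : Fact p.Prime] [CharP F p] (𝒪 : ValuationSubring F)
  (hinj : Function.Injective (algebraMap B F))
  (h1 : ∀ b : B, algebraMap B F b ∈ 𝒪) (h2 : ∀ b ∈ maximalIdeal B, algebraMap B F b ∈ 𝒪.nonunits)
  (halg : ∀ y : F, IsAlgebraic B y)
  (π : B) (hπ : Irreducible π)
  (M₁ : Subfield F) (hBM : ∀ b, algebraMap B F b ∈ M₁)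
  (θ : F) (hθ𝒪 : θ ∈ 𝒪) (hθp : θ ^ p ∈ M₁)
  (N₀ : ℕ)

include hθp in
theorem repr_of_mem (y : F) (hy : y ∈ Algebra.adjoin M₁ {θ}) :
    ∃ m : Fin p → F, (∀ k, m k ∈ M₁) ∧ y = ∑ k, m k * θ ^ (k : ℕ) := by
  have hx : θ ^ p = algebraMap M₁ F (⟨θ ^ p, hθp⟩ : M₁) := rfl
  obtain ⟨d, hd⟩ := Ep56A.mem_adjoin_pow (B := M₁) (S := F) p hp.out.pos θ
    (⟨θ ^ p, hθp⟩ : M₁) hx y hy
  exact ⟨fun k => ((d k : M₁) : F), fun k => (d k).2, hd⟩

theorem mem_of_repr (m : Fin p → F) (hm : ∀ k, m k ∈ M₁) :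
    ∑ k, m k * θ ^ (k : ℕ) ∈ Algebra.adjoin M₁ {θ} := by
  refine Subalgebra.sum_mem _ (fun k _ => ?_)
  have h1 : θ ∈ Algebra.adjoin M₁ {θ} := Algebra.subset_adjoin (Set.mem_singleton θ)
  have h2 : m k ∈ Algebra.adjoin M₁ {θ} :=
    (Algebra.adjoin M₁ {θ}).algebraMap_mem (⟨m k, hm k⟩ : M₁)
  exact Subalgebra.mul_mem _ h2 (Subalgebra.pow_mem _ h1 _)

include hθp in
theorem pow_p_mem (z : F) (hz : z ∈ Algebra.adjoin M₁ {θ}) : z ^ p ∈ M₁ := by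
  obtain ⟨m, hm, rfl⟩ := repr_of_mem p M₁ θ hθp z hz
  rw [sum_pow_char]
  refine Subfield.sum_mem _ (fun k _ => ?_)
  rw [mul_pow, ← pow_mul, mul_comm (k : ℕ) p, pow_mul]
  exact M₁.mul_mem (M₁.pow_mem (hm k) _) (M₁.pow_mem hθp _)

include hθ𝒪 in
theorem x_mem (ε x : F) (hε : ε ∈ 𝒪) (hx : x ^ p - ε * x - θ ^ p = 0) : x ∈ 𝒪 := by
  by_contra hxO
  rw [← 𝒪.valuation_le_one_iff, not_le] at hxO
  have hp2 : 2 ≤ p := hp.out.two_le
  have e : x ^ p = ε * x + θ ^ p := by linear_combination hx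
  have h1 : 𝒪.valuation x ^ p ≤ 𝒪.valuation x := by
    rw [← map_pow, e]
    refine le_trans (Valuation.map_add _ _ _) (max_le ?_ ?_)
    · rw [map_mul]
      calc 𝒪.valuation ε * 𝒪.valuation x ≤ 1 * 𝒪.valuation x := by
            gcongr
            exact (𝒪.valuation_le_one_iff ε).mpr hε
        _ = _ := one_mul _
    · rw [map_pow]
      exact le_trans (pow_le_one₀ zero_le ((𝒪.valuation_le_one_iff θ).mpr hθ𝒪)) hxO.le
  have h2 : 𝒪.valuation x < 𝒪.valuation x ^ p := by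
    have h3 : 1 < 𝒪.valuation x ^ (p - 1) := one_lt_pow₀ hxO (by omega)
    have h4 : 𝒪.valuation x ^ p = 𝒪.valuation x * 𝒪.valuation x ^ (p - 1) := by
      rw [← pow_succ', Nat.sub_add_cancel (by omega)]
    rw [h4]
    calc 𝒪.valuation x = 𝒪.valuation x * 1 := (mul_one _).symm
      _ < _ := by
        apply mul_lt_mul_of_pos_left h3
        exact lt_trans zero_lt_one hxO
  exact absurd h1 (not_le.mpr h2)

include hθ𝒪 in
theorem val_sub_le (ε₀ x : F) (hε₀ : ε₀ ∈ 𝒪) (hx : x ^ p - ε₀ ^ p * x - θ ^ p = 0) :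
    𝒪.valuation (x - θ) ≤ 𝒪.valuation ε₀ := by
  have hxO : x ∈ 𝒪 := x_mem p 𝒪 θ hθ𝒪 (ε₀ ^ p) x (pow_mem hε₀ _) hx
  have e : (x - θ) ^ p = ε₀ ^ p * x := by
    rw [sub_pow_char]; linear_combination hx
  have h1 : 𝒪.valuation (x - θ) ^ p ≤ 𝒪.valuation ε₀ ^ p := by
    rw [← map_pow, e, map_mul, map_pow]
    calc _ ≤ 𝒪.valuation ε₀ ^ p * 1 := by
          gcongr
          exact (𝒪.valuation_le_one_iff x).mpr hxO
      _ = _ := mul_one _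
  exact (pow_le_pow_iff_left₀ zero_le zero_le hp.out.ne_zero).mp h1

include hinj h1 h2 halg hπ hBM hθp in
theorem OB0
    (hL2 : ∀ β : F, β ∈ Algebra.adjoin M₁ {θ} → IsIntegral B β →
      ∃ b : Fin p → F, (∀ k, b k ∈ M₁ ∧ IsIntegral B (b k)) ∧
        algebraMap B F (π ^ N₀) * β = ∑ k, b k * θ ^ (k : ℕ))
    (y : F) (hyM : y ∈ Algebra.adjoin M₁ {θ}) (hy𝒪 : y ∈ 𝒪) :
    ∃ m' : Fin p → F, (∀ k, m' k ∈ M₁ ∧
        𝒪.valuation (m' k) * 𝒪.valuation (algebraMap B F π) ^ N₀ ≤ 1) ∧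
      y = ∑ k, m' k * θ ^ (k : ℕ) := by
  obtain ⟨r, s, β, hs, hsint, hβint, hsnu, hβ⟩ := ratio hinj 𝒪 h1 h2 y hy𝒪 (halg y)
  have hsM : s ∈ Algebra.adjoin M₁ {θ} := by
    rw [hs, aeval_eq_sum_range]
    refine Subalgebra.sum_mem _ (fun i _ => ?_)
    rw [Algebra.smul_def]
    exact Subalgebra.mul_mem _ ((Algebra.adjoin M₁ {θ}).algebraMap_mem (⟨_, hBM _⟩ : M₁))
      (Subalgebra.pow_mem _ hyM _)
  have hs𝒪 : s ∈ 𝒪 := TameSub.mem_of_isIntegral_of_le F 𝒪 h1 s hsint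
  have hsv : 𝒪.valuation s = 1 := by
    have := (𝒪.valuation_le_one_iff s).mpr hs𝒪
    rw [𝒪.mem_nonunits_iff, not_lt] at hsnu
    exact le_antisymm this hsnu
  have hs0 : s ≠ 0 := by rintro rfl; rw [map_zero] at hsv; exact zero_ne_one hsv
  have hspM : s ^ p ∈ M₁ := pow_p_mem p M₁ θ hθp s hsM
  have hβ₁M : s ^ p * y ∈ Algebra.adjoin M₁ {θ} :=
    Subalgebra.mul_mem _ (Subalgebra.pow_mem _ hsM _) hyM
  have hβ₁int : IsIntegral B (s ^ p * y) := by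
    have e : s ^ p * y = s ^ (p - 1) * β := by
      rw [hβ, ← mul_assoc, ← pow_succ, Nat.sub_add_cancel hp.out.one_le]
    rw [e]; exact (hsint.pow _).mul hβint
  obtain ⟨b, hb, hbe⟩ := hL2 _ hβ₁M hβ₁int
  have hπF : algebraMap B F π ≠ 0 := fun h => hπ.ne_zero (hinj (by rw [h, map_zero]))
  have hπ0 : algebraMap B F (π ^ N₀) ≠ 0 := by rw [map_pow]; exact pow_ne_zero _ hπF
  have hd0 : algebraMap B F (π ^ N₀) * s ^ p ≠ 0 := mul_ne_zero hπ0 (pow_ne_zero _ hs0)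
  refine ⟨fun k => b k / (algebraMap B F (π ^ N₀) * s ^ p), fun k => ⟨?_, ?_⟩, ?_⟩
  · exact M₁.div_mem (hb k).1 (M₁.mul_mem (hBM _) hspM)
  · simp only [map_div₀, map_mul, map_pow, hsv, one_pow, mul_one]
    have hv0 : 𝒪.valuation (algebraMap B F π) ^ N₀ ≠ 0 :=
      pow_ne_zero _ ((Valuation.ne_zero_iff _).mpr hπF)
    rw [div_mul_cancel₀ _ hv0]
    exact (𝒪.valuation_le_one_iff _).mpr (TameSub.mem_of_isIntegral_of_le F 𝒪 h1 _ (hb k).2)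
  · have e : y = (algebraMap B F (π ^ N₀) * (s ^ p * y)) / (algebraMap B F (π ^ N₀) * s ^ p) := by
      field_simp
    conv_lhs => rw [e, hbe, Finset.sum_div]
    refine Finset.sum_congr rfl (fun k _ => ?_)
    rw [div_mul_eq_mul_div]

include hinj h1 h2 halg hπ hBM hθp in
theorem OB
    (hL2 : ∀ β : F, β ∈ Algebra.adjoin M₁ {θ} → IsIntegral B β →
      ∃ b : Fin p → F, (∀ k, b k ∈ M₁ ∧ IsIntegral B (b k)) ∧
        algebraMap B F (π ^ N₀) * β = ∑ k, b k * θ ^ (k : ℕ))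
    (hLI : ∀ m : Fin p → F, (∀ k, m k ∈ M₁) → ∑ k, m k * θ ^ (k : ℕ) = 0 → ∀ k, m k = 0)
    (m : Fin p → F) (hm : ∀ k, m k ∈ M₁) (k₀ : Fin p) :
    𝒪.valuation (m k₀) * 𝒪.valuation (algebraMap B F π) ^ (N₀ + 1) ≤
      𝒪.valuation (∑ k, m k * θ ^ (k : ℕ)) := by
  by_contra hlt
  rw [not_le] at hlt
  have hπF : algebraMap B F π ≠ 0 := fun h => hπ.ne_zero (hinj (by rw [h, map_zero]))
  have hϖ0 : 𝒪.valuation (algebraMap B F π) ≠ 0 := (Valuation.ne_zero_iff _).mpr hπF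
  have hϖ1 : 𝒪.valuation (algebraMap B F π) < 1 :=
    (𝒪.mem_nonunits_iff).mp (h2 π hπ.not_isUnit)
  have hmk0 : m k₀ ≠ 0 := by
    intro h; rw [h, map_zero, zero_mul] at hlt; exact not_lt_zero hlt
  set d := m k₀ * algebraMap B F π ^ (N₀ + 1) with hd
  have hd0 : d ≠ 0 := mul_ne_zero hmk0 (pow_ne_zero _ hπF)
  have hdM : d ∈ M₁ := M₁.mul_mem (hm k₀) (M₁.pow_mem (hBM π) _)
  have hvd : 𝒪.valuation d = 𝒪.valuation (m k₀) * 𝒪.valuation (algebraMap B F π) ^ (N₀ + 1) := by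
    rw [hd, map_mul, map_pow]
  have hze : (∑ k, m k * θ ^ (k : ℕ)) / d = ∑ k, (m k / d) * θ ^ (k : ℕ) := by
    rw [Finset.sum_div]
    refine Finset.sum_congr rfl (fun k _ => ?_)
    rw [div_mul_eq_mul_div]
  have hzM : (∑ k, m k * θ ^ (k : ℕ)) / d ∈ Algebra.adjoin M₁ {θ} := by
    rw [hze]
    exact mem_of_repr p M₁ θ _ (fun k => M₁.div_mem (hm k) hdM)
  have hz𝒪 : (∑ k, m k * θ ^ (k : ℕ)) / d ∈ 𝒪 := by
    rw [← 𝒪.valuation_le_one_iff, map_div₀]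
    refine (div_le_one₀ (zero_lt_iff.mpr ((Valuation.ne_zero_iff _).mpr hd0))).mpr ?_
    rw [hvd]; exact hlt.le
  obtain ⟨m', hm', hze'⟩ := OB0 p 𝒪 hinj h1 h2 halg π hπ M₁ hBM θ hθp N₀ hL2 _ hzM hz𝒪
  have hzero : ∑ k, (m k / d - m' k) * θ ^ (k : ℕ) = 0 := by
    simp only [sub_mul]
    rw [Finset.sum_sub_distrib, ← hze, ← hze', sub_self]
  have h3 := hLI (fun k => m k / d - m' k)
    (fun k => M₁.sub_mem (M₁.div_mem (hm k) hdM) (hm' k).1) hzero k₀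
  have h4 : m' k₀ = (algebraMap B F π ^ (N₀ + 1))⁻¹ := by
    rw [← sub_eq_zero.mp h3, hd]
    field_simp
  have h5 := (hm' k₀).2
  rw [h4, map_inv₀, map_pow, pow_succ, mul_inv, mul_comm _ (𝒪.valuation (algebraMap B F π))⁻¹,
    mul_assoc, inv_mul_cancel₀ (pow_ne_zero _ hϖ0), mul_one] at h5
  have h6 : 1 < (𝒪.valuation (algebraMap B F π))⁻¹ :=
    (one_lt_inv₀ (zero_lt_iff.mpr hϖ0)).mpr hϖ1
  exact absurd h5 (not_le.mpr h6)

include hinj h1 h2 halg hπ hBM hθp hθ𝒪 in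
theorem core
    (hL2 : ∀ β : F, β ∈ Algebra.adjoin M₁ {θ} → IsIntegral B β →
      ∃ b : Fin p → F, (∀ k, b k ∈ M₁ ∧ IsIntegral B (b k)) ∧
        algebraMap B F (π ^ N₀) * β = ∑ k, b k * θ ^ (k : ℕ))
    (hLI : ∀ m : Fin p → F, (∀ k, m k ∈ M₁) → ∑ k, m k * θ ^ (k : ℕ) = 0 → ∀ k, m k = 0)
    (x : F) (N₁ : ℕ) (hN : N₀ + 2 ≤ N₁) (ε₀ : F)
    (hε₀v : 𝒪.valuation ε₀ ≤ 𝒪.valuation (algebraMap B F π) ^ N₁)
    (hx : x ^ p - ε₀ ^ p * x - θ ^ p = 0)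
    (m : Fin p → F) (hm : ∀ k, m k ∈ M₁) :
    Close 𝒪 (∑ k, m k * x ^ (k : ℕ)) (∑ k, m k * θ ^ (k : ℕ)) := by
  classical
  have hπF : algebraMap B F π ≠ 0 := fun h => hπ.ne_zero (hinj (by rw [h, map_zero]))
  have hϖ0 : 𝒪.valuation (algebraMap B F π) ≠ 0 := (Valuation.ne_zero_iff _).mpr hπF
  have hϖ1 : 𝒪.valuation (algebraMap B F π) < 1 :=
    (𝒪.mem_nonunits_iff).mp (h2 π hπ.not_isUnit)
  have hε₀ : ε₀ ∈ 𝒪 := by
    rw [← 𝒪.valuation_le_one_iff]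
    exact le_trans hε₀v (pow_le_one₀ zero_le hϖ1.le)
  have hxO : x ∈ 𝒪 := x_mem p 𝒪 θ hθ𝒪 _ x (pow_mem hε₀ _) hx
  have hxθ : 𝒪.valuation (x - θ) ≤ 𝒪.valuation (algebraMap B F π) ^ N₁ :=
    le_trans (val_sub_le p 𝒪 θ hθ𝒪 _ x hε₀ hx) hε₀v
  by_cases hy' : ∑ k, m k * θ ^ (k : ℕ) = 0
  · have hall := hLI m hm hy'
    have : ∑ k, m k * x ^ (k : ℕ) = 0 := by
      apply Finset.sum_eq_zero
      intro k _
      rw [hall k, zero_mul]
    rw [hy', this]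
    exact Close.refl 𝒪 0
  · apply Close.of_val_lt
    haveI : Nonempty (Fin p) := ⟨⟨0, hp.out.pos⟩⟩
    obtain ⟨k₀, -, hk₀⟩ := Finset.exists_max_image Finset.univ (fun k => 𝒪.valuation (m k))
      Finset.univ_nonempty
    have hle1 : 𝒪.valuation (∑ k, m k * x ^ (k : ℕ) - ∑ k, m k * θ ^ (k : ℕ)) ≤
        𝒪.valuation (m k₀) * 𝒪.valuation (x - θ) :=
      val_sum_sub_le 𝒪 x θ hxO hθ𝒪 m _ (fun k => hk₀ k (Finset.mem_univ k))
    have hle2 := OB p 𝒪 hinj h1 h2 halg π hπ M₁ hBM θ hθp N₀ hL2 hLI m hm k₀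
    have hmk0 : 𝒪.valuation (m k₀) ≠ 0 := by
      intro h0
      apply hy'
      apply Finset.sum_eq_zero
      intro k _
      have : 𝒪.valuation (m k) ≤ 0 := h0 ▸ hk₀ k (Finset.mem_univ k)
      have hk : m k = 0 := by
        have := le_antisymm this zero_le
        rwa [map_eq_zero] at this
      rw [hk, zero_mul]
    have hpos : 0 < 𝒪.valuation (m k₀) * 𝒪.valuation (algebraMap B F π) ^ (N₀ + 1) :=
      zero_lt_iff.mpr (mul_ne_zero hmk0 (pow_ne_zero _ hϖ0))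
    have hlt : 𝒪.valuation (m k₀) * 𝒪.valuation (algebraMap B F π) ^ N₁ <
        𝒪.valuation (m k₀) * 𝒪.valuation (algebraMap B F π) ^ (N₀ + 1) := by
      have e : N₁ = (N₀ + 1) + (N₁ - N₀ - 1) := by omega
      rw [e, pow_add, ← mul_assoc]
      calc _ < 𝒪.valuation (m k₀) * 𝒪.valuation (algebraMap B F π) ^ (N₀ + 1) * 1 := by
            apply mul_lt_mul_of_pos_left _ hpos
            exact pow_lt_one₀ zero_le hϖ1 (by omega)
        _ = _ := mul_one _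
    calc _ ≤ 𝒪.valuation (m k₀) * 𝒪.valuation (x - θ) := hle1
      _ ≤ 𝒪.valuation (m k₀) * 𝒪.valuation (algebraMap B F π) ^ N₁ := by gcongr
      _ < _ := hlt
      _ ≤ _ := hle2

end Core

end Groth.Agent.Lib.Helper26.Ep51C
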