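import Mathlib
import Groth.Prelude.Def_EtRam
import Groth.Prelude.Def_Found
import Groth.Agent.Lib.Helper26.Ep51A
import Groth.Agent.Lib.Helper26.Ep51B
import Groth.Agent.Lib.Helper26.Ep51C

set_option autoImplicit false
set_option linter.unusedVariables false
set_option linter.style.haveILetI false
set_option linter.unusedSectionVars false
set_option linter.unusedSimpArgs false

universe u

namespace Groth.Agent.Lib.Helper26.Ep51D

open IsLocalRing Polynomial TensorProduct Groth.Agent.Lib.Helper26.Ep51A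

section NoRoot

/-- no `p`-th root of `t` in a geometrically reduced extension -/
theorem no_root (p : ℕ) [hp : Fact p.Prime] (K₁ K₂ M₁ : Type u) [Field K₁] [Field K₂] [Field M₁]
    [Algebra K₁ K₂] [Algebra K₁ M₁] [CharP K₁ p] [FiniteDimensional K₁ K₂]
    [Algebra.IsGeometricallyReduced K₁ M₁] (hdeg : Module.finrank K₁ K₂ = p)
    (θ : K₂) (t : K₁) (hθt : θ ^ p = algebraMap K₁ K₂ t)
    (hspan : ∀ z : K₂, ∃ c : Fin p → K₁, z = ∑ k, algebraMap K₁ K₂ (c k) * θ ^ (k : ℕ))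
    (c : M₁) (hc : c ^ p = algebraMap K₁ M₁ t) : False := by
  classical
  have hp1 : 1 < p := hp.out.one_lt
  -- basis
  have hle : ⊤ ≤ Submodule.span K₁ (Set.range (fun k : Fin p => θ ^ (k : ℕ))) := by
    intro z _
    obtain ⟨c, rfl⟩ := hspan z
    refine Submodule.sum_mem _ (fun k _ => ?_)
    rw [← Algebra.smul_def]
    exact Submodule.smul_mem _ _ (Submodule.subset_span ⟨k, rfl⟩)
  have hcard : Fintype.card (Fin p) = Module.finrank K₁ K₂ := by rw [Fintype.card_fin, hdeg]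
  let bas := basisOfTopLeSpanOfCardEqFinrank (fun k : Fin p => θ ^ (k : ℕ)) hle hcard
  have hbas : ∀ k, bas k = θ ^ (k : ℕ) := fun k =>
    congrFun (coe_basisOfTopLeSpanOfCardEqFinrank _ hle hcard) k
  let φ : K₂ →ₗ[K₁] K₁ := bas.coord ⟨1, hp1⟩
  have hφθ : φ θ = 1 := by
    have : θ = bas ⟨1, hp1⟩ := by rw [hbas]; simp
    rw [this]; simp [φ]
  have hφ1 : φ 1 = 0 := by
    have : (1 : K₂) = bas ⟨0, hp.out.pos⟩ := by rw [hbas]; simp
    rw [this]
    simp only [φ, Module.Basis.coord_apply, Module.Basis.repr_self]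
    rw [Finsupp.single_apply, if_neg]
    intro h
    have := congrArg Fin.val h
    simp at this
  let ψ : K₂ ⊗[K₁] M₁ →ₗ[K₁] M₁ := (TensorProduct.lid K₁ M₁).toLinearMap ∘ₗ (φ.rTensor M₁)
  have hψ : ∀ a m, ψ (a ⊗ₜ[K₁] m) = φ a • m := fun a m => by simp [ψ]
  haveI : IsReduced (K₂ ⊗[K₁] M₁) := inferInstance
  haveI : Nontrivial (K₂ ⊗[K₁] M₁) := by
    refine ⟨θ ⊗ₜ[K₁] (1 : M₁), 0, fun h => ?_⟩
    have := congrArg ψ h
    rw [hψ, hφθ, map_zero, one_smul] at this
    exact one_ne_zero this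
  haveI : CharP (K₂ ⊗[K₁] M₁) p :=
    charP_of_injective_algebraMap (algebraMap K₁ (K₂ ⊗[K₁] M₁)).injective p
  have hz : (θ ⊗ₜ[K₁] (1 : M₁) - (1 : K₂) ⊗ₜ[K₁] c) ^ p = 0 := by
    rw [sub_pow_char, Algebra.TensorProduct.tmul_pow, Algebra.TensorProduct.tmul_pow, one_pow, one_pow,
      hθt, hc, Algebra.algebraMap_eq_smul_one, Algebra.algebraMap_eq_smul_one, TensorProduct.smul_tmul,
      sub_self]
  have hz0 : θ ⊗ₜ[K₁] (1 : M₁) - (1 : K₂) ⊗ₜ[K₁] c = 0 := by
    have : IsNilpotent (θ ⊗ₜ[K₁] (1 : M₁) - (1 : K₂) ⊗ₜ[K₁] c) := ⟨p, hz⟩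
    exact this.eq_zero
  have := congrArg ψ hz0
  rw [map_sub, hψ, hψ, hφθ, hφ1, map_zero, one_smul, zero_smul, sub_zero] at this
  exact one_ne_zero this

theorem lin_indep (p : ℕ) [hp : Fact p.Prime] {F : Type u} [Field F] (M₁ : Subfield F) (θ : F)
    (hθp : θ ^ p ∈ M₁) (hno : ∀ c ∈ M₁, c ^ p ≠ θ ^ p)
    (m : Fin p → F) (hm : ∀ k, m k ∈ M₁) (h0 : ∑ k, m k * θ ^ (k : ℕ) = 0) : ∀ k, m k = 0 := by
  classical
  have hp0 : 0 < p := hp.out.pos
  set q : (↥M₁)[X] := ∑ k : Fin p, C (⟨m k, hm k⟩ : M₁) * X ^ (k : ℕ) with hq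
  have hqe : aeval θ q = 0 := by
    rw [hq, map_sum]
    rw [← h0]
    refine Finset.sum_congr rfl (fun k _ => ?_)
    rw [map_mul, aeval_C, map_pow, aeval_X]
    rfl
  have hirr : Irreducible (X ^ p - C (⟨θ ^ p, hθp⟩ : M₁) : (↥M₁)[X]) := by
    apply X_pow_sub_C_irreducible_of_prime hp.out
    intro b hb
    apply hno (b : F) b.2
    have := congrArg Subtype.val hb
    simpa using this
  have hmin : minpoly (↥M₁) θ = X ^ p - C (⟨θ ^ p, hθp⟩ : M₁) := by
    refine (minpoly.eq_of_irreducible_of_monic hirr ?_ (monic_X_pow_sub_C _ hp0.ne')).symm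
    rw [map_sub, map_pow, aeval_X, aeval_C]
    show θ ^ p - θ ^ p = 0
    rw [sub_self]
  have hq0 : q = 0 := by
    by_contra hne
    have h1 := minpoly.degree_le_of_ne_zero (↥M₁) θ hne hqe
    rw [hmin, degree_X_pow_sub_C hp0] at h1
    have h2 : q.degree < p := degree_sum_fin_lt _
    exact absurd h1 (not_le.mpr h2)
  intro k
  have hcoef : q.coeff (k : ℕ) = (⟨m k, hm k⟩ : M₁) := by
    rw [hq, finsetSum_coeff]
    rw [Finset.sum_eq_single k]
    · rw [coeff_C_mul, coeff_X_pow, if_pos rfl, mul_one]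
    · intro j _ hjk
      rw [coeff_C_mul, coeff_X_pow, if_neg, mul_zero]
      intro h
      exact hjk (Fin.ext h.symm)
    · intro h; exact absurd (Finset.mem_univ k) h
  rw [hq0, coeff_zero] at hcoef
  have := congrArg Subtype.val hcoef
  simpa using this.symm

end NoRoot

section Local

variable (p : ℕ) [hp : Fact p.Prime] (A B K L : Type u)
    [CommRing A] [IsDomain A] [IsDiscreteValuationRing A] [CommRing B] [IsDomain B]
    [IsDiscreteValuationRing B]
    [Algebra A B] [IsLocalHom (algebraMap A B)]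
    [Field K] [Field L] [Algebra A K] [IsFractionRing A K] [Algebra B L] [IsFractionRing B L]
    [Algebra K L] [Algebra A L] [IsScalarTower A K L] [IsScalarTower A B L] [CharP K p]
    [Algebra.IsGeometricallyReduced K L]
    (K₁ K₂ : Type u) [Field K₁] [Field K₂] [Algebra K K₁] [Algebra K K₂] [Algebra K₁ K₂]
    [IsScalarTower K K₁ K₂] [FiniteDimensional K K₁] [FiniteDimensional K₁ K₂]

theorem local_step (hinj : Function.Injective (algebraMap A B))
    (hsol : EtRam.IsSolution B K L K₂) (hdeg : Module.finrank K₁ K₂ = p)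
    (θ : K₂) (t : K₁) (hθt : θ ^ p = algebraMap K₁ K₂ t)
    (hθint : ((algebraMap K K₂).comp (algebraMap A K)).IsIntegralElem θ)
    (hspan : ∀ z : K₂, ∃ c : Fin p → K₁, z = ∑ k, algebraMap K₁ K₂ (c k) * θ ^ (k : ℕ))
    (πA : A) (hπA : Irreducible πA) (πB : B) (hπB : Irreducible πB) (N₀ : ℕ)
    (hN₀ : ∀ (F : Type u) [Field F] (τ : L ⊗[K] K₂ →+* F) (β : L ⊗[K] K₂),
      (τ.comp (Ep51B.g₂ B K L K₂)).IsIntegralElem (τ β) →
      ∃ c : Fin p → L ⊗[K] K₁,
        (∀ k, (τ.comp (Ep51B.g₂ B K L K₂)).IsIntegralElem (τ (Ep51B.iota K L K₁ K₂ (c k)))) ∧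
        τ (Ep51B.g₂ B K L K₂ (πB ^ N₀)) * τ β =
          ∑ k, τ (Ep51B.iota K L K₁ K₂ (c k)) * τ ((1 : L) ⊗ₜ[K] θ) ^ (k : ℕ))
    (K₃ : Type u) [Field K₃] [Algebra K K₃] [Algebra K₁ K₃] [IsScalarTower K K₁ K₃]
    [FiniteDimensional K₁ K₃] (x₀ : K₃)
    (hx₀ : x₀ ^ p - (algebraMap K K₃ (algebraMap A K πA) ^ (N₀ + 2)) ^ p * x₀ -
      algebraMap K₁ K₃ t = 0)
    (hspan₃ : ∀ z : K₃, ∃ c : Fin p → K₁, z = ∑ k, algebraMap K₁ K₃ (c k) * x₀ ^ (k : ℕ))
    (M : Type u) [Field M] [Algebra K M] [Algebra L M] [Algebra K₃ M] [IsScalarTower K L M]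
    [IsScalarTower K K₃ M]
    (hgen : Algebra.adjoin L (Set.range (algebraMap K₃ M)) = ⊤) (W : ValuationSubring M)
    (hW : EtRam.Dominates B ((algebraMap L M).comp (algebraMap B L)) W) :
    (letI : Algebra (W.comap (algebraMap K₃ M)) W :=
        (EtRam.inclOfComap W (algebraMap K₃ M)).toAlgebra
     EtRam.IsWeaklyUnramified (W.comap (algebraMap K₃ M)) W) ∧
      @Algebra.IsGeometricallyReduced (ResidueField (W.comap (algebraMap K₃ M))) (ResidueField W) _ _
        (ResidueField.map (EtRam.inclOfComap W (algebraMap K₃ M))).toAlgebra := by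
  classical
  have hp0 : 0 < p := hp.out.pos
  -- algebra structures
  letI algBM : Algebra B M := ((algebraMap L M).comp (algebraMap B L)).toAlgebra
  haveI : IsScalarTower B L M := IsScalarTower.of_algebraMap_eq (fun _ => rfl)
  letI algK₁M : Algebra K₁ M := ((algebraMap K₃ M).comp (algebraMap K₁ K₃)).toAlgebra
  haveI : IsScalarTower K₁ K₃ M := IsScalarTower.of_algebraMap_eq (fun _ => rfl)
  haveI : IsScalarTower K K₁ M := IsScalarTower.of_algebraMap_eq (fun x => by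
    rw [IsScalarTower.algebraMap_apply K K₃ M, IsScalarTower.algebraMap_apply K K₁ K₃]; rfl)
  haveI : FiniteDimensional K K₂ := Module.Finite.trans K₁ K₂
  set F := AlgebraicClosure M with hF
  haveI : IsScalarTower B L F := IsScalarTower.of_algebraMap_eq (fun b => by
    rw [IsScalarTower.algebraMap_apply B M F, IsScalarTower.algebraMap_apply L M F]; rfl)
  haveI : CharP F p := charP_of_injective_algebraMap (algebraMap K F).injective p
  haveI : CharP K₁ p := charP_of_injective_algebraMap (algebraMap K K₁).injective p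
  -- the embedding of K₂
  haveI : Algebra.IsAlgebraic K₁ K₂ := inferInstance
  let σ₂ : K₂ →ₐ[K₁] F := IsAlgClosed.lift
  -- the valuation ring of F
  obtain ⟨𝒪, h𝒪, hloc⟩ := IsLocalRing.exists_factor_valuationRing ((algebraMap M F).comp W.subtype)
  have h𝒪1 : ∀ x : M, x ∈ W → algebraMap M F x ∈ 𝒪 := fun x hx => h𝒪 ⟨x, hx⟩
  have h𝒪2 : ∀ x : M, x ∈ W.nonunits → algebraMap M F x ∈ 𝒪.nonunits := by
    intro x hx
    obtain ⟨hxV, hxm⟩ := W.mem_nonunits_iff_exists_mem_maximalIdeal.mp hx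
    rw [𝒪.mem_nonunits_iff_exists_mem_maximalIdeal]
    refine ⟨h𝒪1 x hxV, ?_⟩
    rw [mem_maximalIdeal, mem_nonunits_iff] at hxm ⊢
    intro hu
    apply hxm
    exact hloc.map_nonunit ⟨x, hxV⟩ hu
  have hcomap : 𝒪.comap (algebraMap M F) = W := TameSub.comap_eq_of_local W 𝒪 _ h𝒪1 h𝒪2
  subst hcomap
  -- domination of B
  have hB1 : ∀ b : B, algebraMap B F b ∈ 𝒪 := by
    intro b
    rw [IsScalarTower.algebraMap_apply B M F]
    exact hW.1 b
  have hB2 : ∀ b ∈ maximalIdeal B, algebraMap B F b ∈ 𝒪.nonunits := by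
    intro b hb
    rw [IsScalarTower.algebraMap_apply B M F, ← nonunits_comap_iff, ValuationSubring.mem_nonunits_iff]
    exact hW.2 b hb
  have hinjBF : Function.Injective (algebraMap B F) := by
    rw [IsScalarTower.algebraMap_eq B L F]
    exact (algebraMap L F).injective.comp (IsFractionRing.injective B L)
  -- algebraicity
  haveI : FiniteDimensional K K₃ := Module.Finite.trans K₁ K₃
  haveI : FiniteDimensional L M := Sol1983.finite_L_M K L K₃ M hgen
  haveI : Algebra.IsAlgebraic B L := IsLocalization.isAlgebraic L (nonZeroDivisors B)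
  haveI : Algebra.IsAlgebraic L M := inferInstance
  haveI : Algebra.IsAlgebraic B M := Algebra.IsAlgebraic.trans B L M
  haveI : Algebra.IsAlgebraic M F := inferInstance
  haveI : Algebra.IsAlgebraic B F := Algebra.IsAlgebraic.trans B M F
  haveI : Algebra.IsAlgebraic L F := Algebra.IsAlgebraic.trans L M F
  have halg : ∀ y : F, IsAlgebraic B y := fun y => Algebra.IsAlgebraic.isAlgebraic y
  -- tensor maps
  obtain ⟨τ₁, hτ₁⟩ : ∃ τ₁ : L ⊗[K] K₁ →ₐ[L] F,
      ∀ l c, τ₁ (l ⊗ₜ[K] c) = algebraMap L F l * algebraMap K₁ F c :=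
    ⟨Algebra.TensorProduct.lift (Algebra.ofId L F) (IsScalarTower.toAlgHom K K₁ F)
      (fun _ _ => Commute.all _ _), fun l c => by
        rw [Algebra.TensorProduct.lift_tmul]; rfl⟩
  obtain ⟨τ₂, hτ₂⟩ : ∃ τ₂ : L ⊗[K] K₂ →ₐ[L] F,
      ∀ l z, τ₂ (l ⊗ₜ[K] z) = algebraMap L F l * σ₂ z :=
    ⟨Algebra.TensorProduct.lift (Algebra.ofId L F) (σ₂.restrictScalars K)
      (fun _ _ => Commute.all _ _), fun l c => by
        rw [Algebra.TensorProduct.lift_tmul]; rfl⟩
  have hτι : ∀ w, τ₂ (Ep51B.iota K L K₁ K₂ w) = τ₁ w := by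
    intro w
    induction w using TensorProduct.induction_on with
    | zero => rw [map_zero, map_zero, map_zero]
    | tmul l c =>
      unfold Ep51B.iota
      rw [Algebra.TensorProduct.map_tmul, hτ₂, hτ₁]
      congr 1
      exact σ₂.commutes c
    | add x y hx hy => rw [map_add, map_add, map_add, hx, hy]
  obtain ⟨M₁, hM₁⟩ : ∃ M₁ : Subfield F, ∀ z, z ∈ M₁ ↔ ∃ w, τ₁ w = z :=
    ⟨{ τ₁.range.toSubring with
        inv_mem' := by
          rintro x hx
          exact Subalgebra.inv_mem_of_algebraic (A := τ₁.range) (x := ⟨x, hx⟩)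
            (Algebra.IsAlgebraic.isAlgebraic _) }, fun z => Iff.rfl⟩
  have hK₁M₁ : ∀ c : K₁, algebraMap K₁ F c ∈ M₁ := fun c =>
    (hM₁ _).mpr ⟨(1 : L) ⊗ₜ[K] c, by rw [hτ₁, map_one, one_mul]⟩
  have hLM₁ : ∀ l : L, algebraMap L F l ∈ M₁ := fun l =>
    (hM₁ _).mpr ⟨l ⊗ₜ[K] (1 : K₁), by rw [hτ₁, map_one, mul_one]⟩
  have hBM : ∀ b : B, algebraMap B F b ∈ M₁ := fun b => by
    rw [IsScalarTower.algebraMap_apply B L F]; exact hLM₁ _
  -- the elements θ', x'
  set θ' : F := σ₂ θ with hθ'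
  set x' : F := algebraMap K₃ F x₀ with hx'
  have hθ'p : θ' ^ p = algebraMap K₁ F t := by
    rw [hθ', ← map_pow, hθt]; exact σ₂.commutes t
  have hθp : θ' ^ p ∈ M₁ := by rw [hθ'p]; exact hK₁M₁ t
  have hAF : ∀ a : A, algebraMap K F (algebraMap A K a) = algebraMap B F (algebraMap A B a) := by
    intro a
    rw [IsScalarTower.algebraMap_apply K L F, ← IsScalarTower.algebraMap_apply A K L,
      IsScalarTower.algebraMap_apply A B L, ← IsScalarTower.algebraMap_apply B L F]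
  have hσK : ∀ k : K, σ₂ (algebraMap K K₂ k) = algebraMap K F k := by
    intro k
    rw [IsScalarTower.algebraMap_apply K K₁ K₂, IsScalarTower.algebraMap_apply K K₁ F]
    exact σ₂.commutes _
  have hθint' : IsIntegral B θ' := by
    obtain ⟨q, hqm, hq⟩ := hθint
    refine ⟨q.map (algebraMap A B), hqm.map _, ?_⟩
    rw [Polynomial.eval₂_map]
    have h1 := congrArg σ₂ hq
    rw [map_zero] at h1
    have h2 : σ₂ (eval₂ ((algebraMap K K₂).comp (algebraMap A K)) θ q) =
        eval₂ ((σ₂ : K₂ →+* F).comp ((algebraMap K K₂).comp (algebraMap A K))) (σ₂ θ) q :=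
      Polynomial.hom_eval₂ q _ (σ₂ : K₂ →+* F) θ
    have h3 : (σ₂ : K₂ →+* F).comp ((algebraMap K K₂).comp (algebraMap A K)) =
        (algebraMap B F).comp (algebraMap A B) := by
      ext a
      simp only [RingHom.comp_apply, RingHom.coe_coe]
      rw [hσK, hAF]
    rw [h3] at h2
    rw [← h2]; exact h1
  have hθ𝒪 : θ' ∈ 𝒪 := TameSub.mem_of_isIntegral_of_le F 𝒪 hB1 θ' hθint'
  -- the root equation
  have hx'eq : x' ^ p - ((algebraMap B F (algebraMap A B πA)) ^ (N₀ + 2)) ^ p * x' - θ' ^ p = 0 := by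
    have := congrArg (algebraMap K₃ F) hx₀
    rw [map_zero, map_sub, map_sub, map_mul, map_pow, map_pow, map_pow,
      ← IsScalarTower.algebraMap_apply K K₃ F, ← IsScalarTower.algebraMap_apply K₁ K₃ F, hAF] at this
    rw [hθ'p]; exact this
  have hεv : 𝒪.valuation ((algebraMap B F (algebraMap A B πA)) ^ (N₀ + 2)) ≤
      𝒪.valuation (algebraMap B F πB) ^ (N₀ + 2) := by
    rw [map_pow]
    apply pow_le_pow_left₀ zero_le
    have hmem : algebraMap A B πA ∈ maximalIdeal B := by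
      have hle : maximalIdeal A ≤ (maximalIdeal B).comap (algebraMap A B) :=
        ((local_hom_TFAE (algebraMap A B)).out 0 3).mp ‹_›
      exact hle hπA.not_isUnit
    rw [(IsDiscreteValuationRing.irreducible_iff_uniformizer πB).mp hπB, Ideal.mem_span_singleton] at hmem
    obtain ⟨c, hc⟩ := hmem
    rw [hc, map_mul, map_mul]
    calc _ ≤ 𝒪.valuation (algebraMap B F πB) * 1 := by
          gcongr
          exact (𝒪.valuation_le_one_iff _).mpr (hB1 c)
      _ = _ := mul_one _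
  -- hL2
  have hτg : (τ₂ : L ⊗[K] K₂ →+* F).comp (Ep51B.g₂ B K L K₂) = algebraMap B F := by
    ext b
    simp only [RingHom.comp_apply, RingHom.coe_coe]
    unfold Ep51B.g₂
    rw [RingHom.comp_apply, AlgHom.commutes, ← IsScalarTower.algebraMap_apply B L F]
  have hτθ : τ₂ ((1 : L) ⊗ₜ[K] θ) = θ' := by rw [hτ₂, map_one, one_mul]
  have hL2 : ∀ β : F, β ∈ Algebra.adjoin M₁ {θ'} → IsIntegral B β →
      ∃ b : Fin p → F, (∀ k, b k ∈ M₁ ∧ IsIntegral B (b k)) ∧
        algebraMap B F (πB ^ N₀) * β = ∑ k, b k * θ' ^ (k : ℕ) := by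
    intro β hβM hβint
    obtain ⟨m, hm, rfl⟩ := Ep51C.repr_of_mem p M₁ θ' hθp β hβM
    have hmw : ∀ k, ∃ w, τ₁ w = m k := fun k => (hM₁ _).mp (hm k)
    choose w hw using hmw
    set βt : L ⊗[K] K₂ := ∑ k, Ep51B.iota K L K₁ K₂ (w k) * ((1 : L) ⊗ₜ[K] θ) ^ (k : ℕ) with hβt
    have hβte : τ₂ βt = ∑ k, m k * θ' ^ (k : ℕ) := by
      rw [hβt, map_sum]
      refine Finset.sum_congr rfl (fun k _ => ?_)
      rw [map_mul, map_pow, hτι, hw, hτθ]
    have hint : ((τ₂ : L ⊗[K] K₂ →+* F).comp (Ep51B.g₂ B K L K₂)).IsIntegralElem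
        ((τ₂ : L ⊗[K] K₂ →+* F) βt) := by
      rw [hτg]
      show IsIntegral B (τ₂ βt)
      rw [hβte]; exact hβint
    obtain ⟨c, hc1, hc2⟩ := hN₀ F (τ₂ : L ⊗[K] K₂ →+* F) βt hint
    refine ⟨fun k => τ₁ (c k), fun k => ⟨(hM₁ _).mpr ⟨_, rfl⟩, ?_⟩, ?_⟩
    · have := hc1 k
      rw [hτg] at this
      have h2 : (τ₂ : L ⊗[K] K₂ →+* F) (Ep51B.iota K L K₁ K₂ (c k)) = τ₁ (c k) := hτι _
      rw [h2] at this
      exact this
    · have h3 : (τ₂ : L ⊗[K] K₂ →+* F) (Ep51B.g₂ B K L K₂ (πB ^ N₀)) = algebraMap B F (πB ^ N₀) := by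
        rw [← hτg]; rfl
      rw [← hβte, ← h3]
      refine hc2.trans ?_
      refine Finset.sum_congr rfl (fun k _ => ?_)
      show τ₂ (Ep51B.iota K L K₁ K₂ (c k)) * τ₂ ((1 : L) ⊗ₜ[K] θ) ^ (k : ℕ) = _
      rw [hτι, hτθ]
  -- no p-th root
  have hno : ∀ c ∈ M₁, c ^ p ≠ θ' ^ p := by
    intro c hc hcp
    letI algK₁M₁ : Algebra K₁ M₁ := ((algebraMap K₁ F).codRestrict M₁ hK₁M₁).toAlgebra
    letI algLM₁ : Algebra L M₁ := ((algebraMap L F).codRestrict M₁ hLM₁).toAlgebra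
    have hcompat : ∀ a : K, algebraMap L M₁ (algebraMap K L a) =
        algebraMap K₁ M₁ (algebraMap K K₁ a) := by
      intro a
      apply Subtype.ext
      show algebraMap L F (algebraMap K L a) = algebraMap K₁ F (algebraMap K K₁ a)
      rw [← IsScalarTower.algebraMap_apply K L F, ← IsScalarTower.algebraMap_apply K K₁ F]
    have hgen' : ∀ S : Subfield M₁, (∀ x : K₁, algebraMap K₁ M₁ x ∈ S) →
        (∀ y : L, algebraMap L M₁ y ∈ S) → S = ⊤ := by
      intro S h1 h2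
      have key : ∀ w (h : τ₁ w ∈ M₁), (⟨τ₁ w, h⟩ : M₁) ∈ S := by
        intro w
        induction w using TensorProduct.induction_on with
        | zero =>
          intro h
          have : (⟨τ₁ 0, h⟩ : M₁) = 0 := Subtype.ext (map_zero τ₁)
          rw [this]; exact S.zero_mem
        | tmul l c =>
          intro h
          have : (⟨τ₁ (l ⊗ₜ[K] c), h⟩ : M₁) = algebraMap L M₁ l * algebraMap K₁ M₁ c :=
            Subtype.ext (hτ₁ l c)
          rw [this]; exact S.mul_mem (h2 l) (h1 c)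
        | add x y hx hy =>
          intro h
          have hx' : τ₁ x ∈ M₁ := (hM₁ _).mpr ⟨x, rfl⟩
          have hy' : τ₁ y ∈ M₁ := (hM₁ _).mpr ⟨y, rfl⟩
          have : (⟨τ₁ (x + y), h⟩ : M₁) = ⟨τ₁ x, hx'⟩ + ⟨τ₁ y, hy'⟩ := Subtype.ext (map_add τ₁ x y)
          rw [this]; exact S.add_mem (hx hx') (hy hy')
      rw [eq_top_iff]
      rintro ⟨z, hz⟩ -
      obtain ⟨w, rfl⟩ := (hM₁ z).mp hz
      exact key w hz
    haveI : Algebra.IsAlgebraic K K₁ := inferInstance
    haveI : Algebra.IsGeometricallyReduced K₁ M₁ :=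
      Sol1983.geomRed_of_gen (kA := K) (kB := L) (k₁ := K₁) (kW := M₁) hcompat hgen'
    refine no_root p K₁ K₂ M₁ hdeg θ t hθt hspan ⟨c, hc⟩ (Subtype.ext ?_)
    show c ^ p = algebraMap K₁ F t
    rw [hcp, hθ'p]
  have hLI : ∀ m : Fin p → F, (∀ k, m k ∈ M₁) → ∑ k, m k * θ' ^ (k : ℕ) = 0 → ∀ k, m k = 0 :=
    fun m hm h0 => lin_indep p M₁ θ' hθp hno m hm h0
  have hcore : ∀ m : Fin p → F, (∀ k, m k ∈ M₁) →
      Close 𝒪 (∑ k, m k * x' ^ (k : ℕ)) (∑ k, m k * θ' ^ (k : ℕ)) :=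
    fun m hm => Ep51C.core p 𝒪 hinjBF hB1 hB2 halg πB hπB M₁ hBM θ' hθ𝒪 hθp N₀ hL2 hLI x' (N₀ + 2)
      le_rfl _ hεv hx'eq m hm
  -- expansions
  have hK₃F : ∀ c : Fin p → K₁,
      algebraMap M F (algebraMap K₃ M (∑ k, algebraMap K₁ K₃ (c k) * x₀ ^ (k : ℕ))) =
        ∑ k, algebraMap K₁ F (c k) * x' ^ (k : ℕ) := by
    intro c
    rw [← IsScalarTower.algebraMap_apply K₃ M F, map_sum]
    refine Finset.sum_congr rfl (fun k _ => ?_)
    rw [map_mul, map_pow, ← IsScalarTower.algebraMap_apply K₁ K₃ F]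
  have hK₂F : ∀ c : Fin p → K₁, σ₂ (∑ k, algebraMap K₁ K₂ (c k) * θ ^ (k : ℕ)) =
      ∑ k, algebraMap K₁ F (c k) * θ' ^ (k : ℕ) := by
    intro c
    rw [map_sum]
    refine Finset.sum_congr rfl (fun k _ => ?_)
    rw [map_mul, map_pow, σ₂.commutes]
  -- the compositum of L and K₂ in F
  obtain ⟨E₂, hE₂⟩ : ∃ E₂ : IntermediateField L F,
      E₂ = IntermediateField.adjoin L (Set.range σ₂) := ⟨_, rfl⟩
  have hσE : ∀ z : K₂, σ₂ z ∈ E₂ := fun z => by
    rw [hE₂]; exact IntermediateField.subset_adjoin L _ ⟨z, rfl⟩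
  letI algK₂E : Algebra K₂ E₂ := ((σ₂ : K₂ →+* F).codRestrict E₂ hσE).toAlgebra
  haveI : IsScalarTower K K₂ E₂ := IsScalarTower.of_algebraMap_eq (fun k => Subtype.ext (by
    show algebraMap K F k = σ₂ (algebraMap K K₂ k)
    rw [hσK]))
  have hM₁E : ∀ z ∈ M₁, z ∈ E₂ := by
    intro z hz
    obtain ⟨w, rfl⟩ := (hM₁ z).mp hz
    induction w using TensorProduct.induction_on with
    | zero => rw [map_zero]; exact E₂.zero_mem
    | tmul l c =>
      rw [hτ₁]
      refine E₂.mul_mem (E₂.algebraMap_mem l) ?_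
      have : algebraMap K₁ F c = σ₂ (algebraMap K₁ K₂ c) := (σ₂.commutes c).symm
      rw [this]; exact hσE _
    | add x y hx hy =>
      rw [map_add]
      exact E₂.add_mem (hx ((hM₁ _).mpr ⟨x, rfl⟩)) (hy ((hM₁ _).mpr ⟨y, rfl⟩))
  have hgen₂ : Algebra.adjoin L (Set.range (algebraMap K₂ E₂)) = ⊤ := by
    have hEA : E₂.toSubalgebra = Algebra.adjoin L (Set.range σ₂) := by
      rw [hE₂]; exact IntermediateField.adjoin_toSubalgebra _
    have key : ∀ y (hy : y ∈ Algebra.adjoin L (Set.range σ₂)), ∀ h : y ∈ E₂,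
        (⟨y, h⟩ : E₂) ∈ Algebra.adjoin L (Set.range (algebraMap K₂ E₂)) := by
      intro y hy
      induction hy using Algebra.adjoin_induction with
      | mem y hy =>
        intro h
        obtain ⟨z, rfl⟩ := hy
        exact Algebra.subset_adjoin ⟨z, Subtype.ext rfl⟩
      | algebraMap l =>
        intro h
        exact Subalgebra.algebraMap_mem _ l
      | add x y hx hy ihx ihy =>
        intro h
        have hx' : x ∈ E₂ := by
          have : x ∈ E₂.toSubalgebra := hEA ▸ hx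
          exact this
        have hy' : y ∈ E₂ := by
          have : y ∈ E₂.toSubalgebra := hEA ▸ hy
          exact this
        exact Subalgebra.add_mem _ (ihx hx') (ihy hy')
      | mul x y hx hy ihx ihy =>
        intro h
        have hx' : x ∈ E₂ := by
          have : x ∈ E₂.toSubalgebra := hEA ▸ hx
          exact this
        have hy' : y ∈ E₂ := by
          have : y ∈ E₂.toSubalgebra := hEA ▸ hy
          exact this
        exact Subalgebra.mul_mem _ (ihx hx') (ihy hy')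
    rw [eq_top_iff]
    rintro ⟨y, hy⟩ -
    have hyA : y ∈ Algebra.adjoin L (Set.range σ₂) := by
      rw [← hEA]; exact hy
    exact key y hyA hy
  -- the valuation ring of E₂
  set W₂ : ValuationSubring E₂ := 𝒪.comap (algebraMap E₂ F) with hW₂def
  have hW₂ : EtRam.Dominates B ((algebraMap L E₂).comp (algebraMap B L)) W₂ := by
    refine ⟨fun b => ?_, fun b hb => ?_⟩
    · show algebraMap E₂ F (algebraMap L E₂ (algebraMap B L b)) ∈ 𝒪
      rw [← IsScalarTower.algebraMap_apply L E₂ F, ← IsScalarTower.algebraMap_apply B L F]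
      exact hB1 b
    · rw [← ValuationSubring.mem_nonunits_iff, nonunits_comap_iff]
      show algebraMap E₂ F (algebraMap L E₂ (algebraMap B L b)) ∈ 𝒪.nonunits
      rw [← IsScalarTower.algebraMap_apply L E₂ F, ← IsScalarTower.algebraMap_apply B L F]
      exact hB2 b hb
  haveI : FiniteDimensional L E₂ := Sol1983.finite_L_M K L K₂ E₂ hgen₂
  haveI hW₂dvr : IsDiscreteValuationRing W₂ := ValFin.isDVR_of_dominates_finite W₂ hW₂
  have H := hsol E₂ hgen₂ W₂ hW₂
  -- approximations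
  have hφ₃ : ∀ y : M, ∃ m : Fin p → F, (∀ k, m k ∈ M₁) ∧
      algebraMap M F y = ∑ k, m k * x' ^ (k : ℕ) := by
    let φ : L ⊗[K] K₃ →ₐ[L] M := Algebra.TensorProduct.lift (Algebra.ofId L M)
      (IsScalarTower.toAlgHom K K₃ M) (fun _ _ => Commute.all _ _)
    have hsurj : Function.Surjective φ := by
      rw [← AlgHom.range_eq_top, eq_top_iff, ← hgen]
      apply Algebra.adjoin_le
      rintro _ ⟨k, rfl⟩
      exact ⟨(1 : L) ⊗ₜ[K] k, by
        show Algebra.TensorProduct.lift _ _ _ ((1 : L) ⊗ₜ[K] k) = _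
        rw [Algebra.TensorProduct.lift_tmul, map_one, one_mul]; rfl⟩
    intro y
    obtain ⟨w, rfl⟩ := hsurj y
    induction w using TensorProduct.induction_on with
    | zero => exact ⟨fun _ => 0, fun _ => M₁.zero_mem, by simp⟩
    | tmul l z =>
      obtain ⟨c, rfl⟩ := hspan₃ z
      refine ⟨fun k => algebraMap L F l * algebraMap K₁ F (c k),
        fun k => M₁.mul_mem (hLM₁ l) (hK₁M₁ _), ?_⟩
      have : φ (l ⊗ₜ[K] (∑ k, algebraMap K₁ K₃ (c k) * x₀ ^ (k : ℕ))) =
          algebraMap L M l * algebraMap K₃ M (∑ k, algebraMap K₁ K₃ (c k) * x₀ ^ (k : ℕ)) := by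
        show Algebra.TensorProduct.lift _ _ _ _ = _
        rw [Algebra.TensorProduct.lift_tmul]; rfl
      rw [this, map_mul, hK₃F, ← IsScalarTower.algebraMap_apply L M F, Finset.mul_sum]
      refine Finset.sum_congr rfl (fun k _ => ?_)
      rw [mul_assoc]
    | add x y hx hy =>
      obtain ⟨m, hm, hme⟩ := hx
      obtain ⟨m', hm', hme'⟩ := hy
      refine ⟨fun k => m k + m' k, fun k => M₁.add_mem (hm k) (hm' k), ?_⟩
      rw [map_add, map_add, hme, hme', ← Finset.sum_add_distrib]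
      refine Finset.sum_congr rfl (fun k _ => ?_)
      rw [add_mul]
  have hb : ∀ y : M, ∃ y' : E₂, Close 𝒪 (algebraMap M F y) (algebraMap E₂ F y') := by
    intro y
    obtain ⟨m, hm, hme⟩ := hφ₃ y
    have hθE : θ' ∈ E₂ := hσE θ
    have hmem : ∑ k, m k * θ' ^ (k : ℕ) ∈ E₂ :=
      E₂.sum_mem (fun k _ => E₂.mul_mem (hM₁E _ (hm k)) (pow_mem hθE _))
    refine ⟨⟨_, hmem⟩, ?_⟩
    rw [hme]
    exact hcore m hm
  have ha : ∀ z : K₂, ∃ z' : K₃, Close 𝒪 (algebraMap M F (algebraMap K₃ M z'))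
      (algebraMap E₂ F (algebraMap K₂ E₂ z)) := by
    intro z
    obtain ⟨c, rfl⟩ := hspan z
    refine ⟨∑ k, algebraMap K₁ K₃ (c k) * x₀ ^ (k : ℕ), ?_⟩
    rw [hK₃F]
    show Close 𝒪 _ (σ₂ (∑ k, algebraMap K₁ K₂ (c k) * θ ^ (k : ℕ)))
    rw [hK₂F]
    exact hcore _ (fun k => hK₁M₁ _)
  have ha' : ∀ z' : K₃, ∃ z : K₂, Close 𝒪 (algebraMap M F (algebraMap K₃ M z'))
      (algebraMap E₂ F (algebraMap K₂ E₂ z)) := by
    intro z'
    obtain ⟨c, rfl⟩ := hspan₃ z'
    refine ⟨∑ k, algebraMap K₁ K₂ (c k) * θ ^ (k : ℕ), ?_⟩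
    rw [hK₃F]
    show Close 𝒪 _ (σ₂ (∑ k, algebraMap K₁ K₂ (c k) * θ ^ (k : ℕ)))
    rw [hK₂F]
    exact hcore _ (fun k => hK₁M₁ _)
  exact ⟨goalA 𝒪 (algebraMap K₂ E₂) (algebraMap E₂ F) (algebraMap K₃ M) (algebraMap M F) H.1 ha hb,
    goalB 𝒪 (algebraMap K₂ E₂) (algebraMap E₂ F) (algebraMap K₃ M) (algebraMap M F) H.2 ha ha' hb⟩

end Local

section Theta

theorem exists_theta (p : ℕ) [hp : Fact p.Prime] (A K K₁ K₂ : Type u) [CommRing A] [IsDomain A]
    [Field K] [Algebra A K] [IsFractionRing A K] [Field K₁] [Field K₂] [Algebra K K₁] [Algebra K K₂]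
    [Algebra K₁ K₂] [IsScalarTower K K₁ K₂] [FiniteDimensional K K₁] [FiniteDimensional K₁ K₂]
    [CharP K p] [IsPurelyInseparable K₁ K₂] (hdeg : Module.finrank K₁ K₂ = p) :
    ∃ (θ : K₂) (t : K₁), θ ^ p = algebraMap K₁ K₂ t ∧
      ((algebraMap K K₂).comp (algebraMap A K)).IsIntegralElem θ ∧
      (∀ z : K₂, ∃ c : Fin p → K₁, z = ∑ k, algebraMap K₁ K₂ (c k) * θ ^ (k : ℕ)) := by
  classical
  have hp0 : 0 < p := hp.out.pos
  haveI : CharP K₁ p := charP_of_injective_algebraMap (algebraMap K K₁).injective p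
  haveI : FiniteDimensional K K₂ := Module.Finite.trans K₁ K₂
  obtain ⟨θ₀, hθ₀⟩ : ∃ θ₀ : K₂, θ₀ ∉ Set.range (algebraMap K₁ K₂) := by
    by_contra h
    push Not at h
    have h1 : (⊥ : Subalgebra K₁ K₂) = ⊤ := by
      rw [eq_top_iff]
      intro z _
      rw [Algebra.mem_bot]; exact h z
    rw [Subalgebra.bot_eq_top_iff_finrank_eq_one, hdeg] at h1
    exact hp.out.ne_one h1
  letI algAK₂ : Algebra A K₂ := ((algebraMap K K₂).comp (algebraMap A K)).toAlgebra
  haveI : IsScalarTower A K K₂ := IsScalarTower.of_algebraMap_eq (fun _ => rfl)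
  haveI : Algebra.IsAlgebraic A K := IsLocalization.isAlgebraic K (nonZeroDivisors A)
  haveI : Algebra.IsAlgebraic K K₂ := inferInstance
  haveI : Algebra.IsAlgebraic A K₂ := Algebra.IsAlgebraic.trans A K K₂
  obtain ⟨a, ha0, hint⟩ := (Algebra.IsAlgebraic.isAlgebraic (R := A) θ₀).exists_integral_multiple
  set a' : K₁ := algebraMap K K₁ (algebraMap A K a) with ha'
  have ha'0 : a' ≠ 0 := by
    intro h
    have h1 : algebraMap A K a = 0 := (map_eq_zero _).mp h
    exact ha0 ((IsFractionRing.injective A K) (h1.trans (map_zero _).symm))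
  have ha'K₂ : algebraMap K₁ K₂ a' = algebraMap A K₂ a := by
    rw [ha', ← IsScalarTower.algebraMap_apply K K₁ K₂]; rfl
  set θ : K₂ := a • θ₀ with hθ
  have hθe : θ = algebraMap K₁ K₂ a' * θ₀ := by rw [hθ, Algebra.smul_def, ha'K₂]
  have hθn : θ ∉ Set.range (algebraMap K₁ K₂) := by
    rintro ⟨c, hc⟩
    apply hθ₀
    refine ⟨c / a', ?_⟩
    rw [map_div₀, hc, hθe, mul_comm, mul_div_assoc, div_self ((_root_.map_ne_zero _).mpr ha'0), mul_one]
  obtain ⟨t, ht⟩ := Ep56A.pow_p_mem p hp.out K₁ K₂ hdeg θ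
  refine ⟨θ, t, ht.symm, hint, ?_⟩
  -- spanning
  have hprime : (Module.finrank K₁ K₂).Prime := hdeg ▸ hp.out
  haveI := IntermediateField.isSimpleOrder_of_finrank_prime K₁ K₂ hprime
  have htop : IntermediateField.adjoin K₁ {θ} = ⊤ := by
    rcases eq_bot_or_eq_top (IntermediateField.adjoin K₁ {θ}) with h | h
    · exfalso
      rw [IntermediateField.adjoin_simple_eq_bot_iff, IntermediateField.mem_bot] at h
      exact hθn h
    · exact h
  have hθint : IsIntegral K₁ θ := Algebra.IsIntegral.isIntegral θ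
  have hadj : Algebra.adjoin K₁ {θ} = ⊤ := by
    rw [← IntermediateField.adjoin_simple_toSubalgebra_of_isAlgebraic hθint.isAlgebraic, htop]
    rfl
  intro z
  exact Ep56A.mem_adjoin_pow p hp0 θ t ht.symm z (hadj ▸ Algebra.mem_top)

end Theta

section K3

/-- elements of `B[x]` with `x` a root of a monic polynomial of degree `p` -/
theorem mem_adjoin_monic {B S : Type*} [CommRing B] [Nontrivial B] [CommRing S] [Algebra B S] (p : ℕ)
    (hp : 0 < p) (f : B[X]) (hmon : f.Monic) (hfdeg : f.natDegree = p)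
    (x : S) (hroot : aeval x f = 0) (y : S) (hy : y ∈ Algebra.adjoin B {x}) :
    ∃ d : Fin p → B, y = ∑ i, algebraMap B S (d i) * x ^ (i : ℕ) := by
  rw [Algebra.adjoin_singleton_eq_range_aeval] at hy
  obtain ⟨g, rfl⟩ := hy
  have h1 : aeval x g = aeval x (g %ₘ f) := by
    conv_lhs => rw [← modByMonic_add_div g f]
    rw [map_add, map_mul, hroot, zero_mul, add_zero]
  have hdeg : (g %ₘ f).natDegree < p := by
    have := natDegree_modByMonic_lt g hmon (by
      intro h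
      have h2 := congrArg natDegree h
      rw [hfdeg, natDegree_one] at h2
      exact hp.ne' h2)
    rwa [hfdeg] at this
  refine ⟨fun i => (g %ₘ f).coeff i, ?_⟩
  show aeval x g = _
  rw [h1]
  conv_lhs => rw [as_sum_range' (g %ₘ f) p hdeg]
  rw [map_sum, Finset.sum_range]
  refine Finset.sum_congr rfl (fun i _ => ?_)
  rw [← C_mul_X_pow_eq_monomial, map_mul, aeval_C, map_pow, aeval_X]

theorem exists_K₃ (p : ℕ) [hp : Fact p.Prime] (K K₁ : Type u) [Field K] [Field K₁] [Algebra K K₁]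
    [CharP K₁ p] (ε t : K₁) (hε : ε ≠ 0) :
    ∃ (K₃ : Type u) (_ : Field K₃) (_ : Algebra K K₃) (_ : Algebra K₁ K₃)
      (_ : IsScalarTower K K₁ K₃),
      FiniteDimensional K₁ K₃ ∧ Algebra.IsSeparable K₁ K₃ ∧
      ∃ x₀ : K₃, x₀ ^ p - algebraMap K₁ K₃ ε * x₀ - algebraMap K₁ K₃ t = 0 ∧
        ∀ z : K₃, ∃ c : Fin p → K₁, z = ∑ k, algebraMap K₁ K₃ (c k) * x₀ ^ (k : ℕ) := by
  classical
  have hp0 : 0 < p := hp.out.pos
  have hp1 : 1 < p := hp.out.one_lt
  set f : K₁[X] := X ^ p - (C ε * X + C t) with hf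
  have hdeglt : (C ε * X + C t : K₁[X]).degree < (p : WithBot ℕ) := by
    refine lt_of_le_of_lt (degree_add_le _ _) (max_lt ?_ ?_)
    · refine lt_of_le_of_lt (degree_C_mul_X_le ε) ?_
      exact_mod_cast hp1
    · refine lt_of_le_of_lt degree_C_le ?_
      exact_mod_cast hp0
  have hmon : f.Monic := monic_X_pow_sub hdeglt
  have hfdeg : f.natDegree = p := by
    apply natDegree_eq_of_degree_eq_some
    rw [hf, degree_sub_eq_left_of_degree_lt (by rw [degree_X_pow]; exact hdeglt), degree_X_pow]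
  have hfd0 : f.degree ≠ 0 := by
    rw [degree_eq_natDegree hmon.ne_zero, hfdeg]
    exact_mod_cast hp0.ne'
  obtain ⟨x₀, hx₀⟩ := IsAlgClosed.exists_aeval_eq_zero (AlgebraicClosure K₁) f hfd0
  have hint : IsIntegral K₁ x₀ := ⟨f, hmon, hx₀⟩
  -- separability
  have hder : derivative f = - C ε := by
    rw [hf, derivative_sub, derivative_X_pow, derivative_add, derivative_C_mul, derivative_X,
      derivative_C, mul_one, add_zero]
    have : (C (p : K₁) : K₁[X]) = 0 := by rw [CharP.cast_eq_zero, C_0]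
    rw [this, zero_mul, zero_sub]
  have hsep : f.Separable := by
    rw [separable_def, hder]
    refine ⟨0, - C ε⁻¹, ?_⟩
    rw [zero_mul, zero_add, neg_mul_neg, ← C_mul, inv_mul_cancel₀ hε, C_1]
  have hsepx : IsSeparable K₁ x₀ := hsep.of_dvd (minpoly.dvd K₁ x₀ hx₀)
  refine ⟨IntermediateField.adjoin K₁ {x₀}, inferInstance, inferInstance, inferInstance, inferInstance,
    IntermediateField.adjoin.finiteDimensional hint,
    (IntermediateField.isSeparable_adjoin_simple_iff_isSeparable K₁ _).mpr hsepx,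
    IntermediateField.AdjoinSimple.gen K₁ x₀, ?_, ?_⟩
  · apply (algebraMap (IntermediateField.adjoin K₁ {x₀}) (AlgebraicClosure K₁)).injective
    rw [map_zero, map_sub, map_sub, map_mul, map_pow, IntermediateField.AdjoinSimple.algebraMap_gen,
      ← IsScalarTower.algebraMap_apply, ← IsScalarTower.algebraMap_apply]
    have := hx₀
    rw [hf, map_sub, map_pow, aeval_X, map_add, map_mul, aeval_C, aeval_X, aeval_C] at this
    rw [← this]; ring
  · intro z
    have hz : (z : AlgebraicClosure K₁) ∈ Algebra.adjoin K₁ {x₀} := by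
      rw [← IntermediateField.adjoin_simple_toSubalgebra_of_isAlgebraic hint.isAlgebraic]
      exact z.2
    obtain ⟨d, hd⟩ := mem_adjoin_monic p hp0 f hmon hfdeg x₀ hx₀ _ hz
    refine ⟨d, ?_⟩
    apply (algebraMap (IntermediateField.adjoin K₁ {x₀}) (AlgebraicClosure K₁)).injective
    rw [map_sum]
    refine Eq.trans hd ?_
    refine Finset.sum_congr rfl (fun k _ => ?_)
    rw [map_mul, map_pow, IntermediateField.AdjoinSimple.algebraMap_gen,
      ← IsScalarTower.algebraMap_apply]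

end K3

section Main

theorem main_7151 (p : ℕ) (hp : p.Prime) (A B K L : Type u)
    [CommRing A] [IsDomain A] [IsDiscreteValuationRing A] [CommRing B] [IsDomain B]
    [IsDiscreteValuationRing B]
    [Algebra A B] (hinj : Function.Injective (algebraMap A B)) [IsLocalHom (algebraMap A B)]
    [Field K] [Field L] [Algebra A K] [IsFractionRing A K] [Algebra B L] [IsFractionRing B L]
    [Algebra K L] [Algebra A L] [IsScalarTower A K L] [IsScalarTower A B L] [CharP K p]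
    [Algebra.IsGeometricallyReduced K L] (hB : CAlg.IsNagata B)
    (K₁ K₂ : Type u) [Field K₁] [Field K₂] [Algebra K K₁] [Algebra K K₂] [Algebra K₁ K₂]
    [IsScalarTower K K₁ K₂]
    [FiniteDimensional K K₁] [FiniteDimensional K₁ K₂] (hsol : EtRam.IsSolution B K L K₂)
    [IsPurelyInseparable K₁ K₂] (hdeg : Module.finrank K₁ K₂ = p) :
    ∃ (K₃ : Type u) (_ : Field K₃) (_ : Algebra K K₃) (_ : Algebra K₁ K₃) (_ : IsScalarTower K K₁ K₃),
      FiniteDimensional K₁ K₃ ∧ Algebra.IsSeparable K₁ K₃ ∧ EtRam.IsSolution B K L K₃ := by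
  haveI : Fact p.Prime := ⟨hp⟩
  haveI : CharP K₁ p := charP_of_injective_algebraMap (algebraMap K K₁).injective p
  haveI : FiniteDimensional K K₂ := Module.Finite.trans K₁ K₂
  obtain ⟨θ, t, hθt, hθint, hspan⟩ := exists_theta p A K K₁ K₂ hdeg
  obtain ⟨πA, hπA⟩ := IsDiscreteValuationRing.exists_irreducible A
  obtain ⟨πB, hπB⟩ := IsDiscreteValuationRing.exists_irreducible B
  obtain ⟨N₀, hN₀⟩ := Ep51B.uniform_bound B K L K₁ hB p θ πB hπB hspan
  have hε : ((algebraMap K K₁ (algebraMap A K πA)) ^ (N₀ + 2)) ^ p ≠ 0 := by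
    apply pow_ne_zero; apply pow_ne_zero
    intro h
    have h1 : algebraMap A K πA = 0 := (map_eq_zero _).mp h
    exact hπA.ne_zero ((IsFractionRing.injective A K) (h1.trans (map_zero _).symm))
  obtain ⟨K₃, iF, iA, iA₁, iT, hfin, hsep, x₀, hx₀, hspan₃⟩ :=
    exists_K₃ p K K₁ (((algebraMap K K₁ (algebraMap A K πA)) ^ (N₀ + 2)) ^ p) t hε
  refine ⟨K₃, iF, iA, iA₁, iT, hfin, hsep, ?_⟩
  have hx₀' : x₀ ^ p - (algebraMap K K₃ (algebraMap A K πA) ^ (N₀ + 2)) ^ p * x₀ -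
      algebraMap K₁ K₃ t = 0 := by
    rw [map_pow, map_pow, ← IsScalarTower.algebraMap_apply K K₁ K₃] at hx₀
    exact hx₀
  intro M _ _ _ _ _ _ hgen W hW
  exact local_step p A B K L K₁ K₂ hinj hsol hdeg θ t hθt hθint hspan πA hπA πB hπB N₀ hN₀ K₃ x₀
    hx₀' hspan₃ M hgen W hW

end Main

end Groth.Agent.Lib.Helper26.Ep51D
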