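import Mathlib
import Groth.Prelude.Def_EtRam
import Groth.Agent.Lib.Helper26.ASMain
import Groth.Agent.Lib.Helper26.ASCaseAC

set_option autoImplicit false
set_option linter.unusedVariables false
set_option linter.style.haveILetI false
set_option linter.unusedSectionVars false
set_option linter.unusedSimpArgs false

universe u

namespace Groth.Agent.Lib.Helper26.Ep55A

open IsLocalRing Polynomial

section Wp

variable {F : Type*} [Field F] (p : ℕ) [hp : Fact p.Prime] [CharP F p]

theorem wp_add (x y : F) : (x + y) ^ p - (x + y) = (x ^ p - x) + (y ^ p - y) := by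
  rw [add_pow_char]; ring

theorem wp_sub (x y : F) : (x - y) ^ p - (x - y) = (x ^ p - x) - (y ^ p - y) := by
  rw [sub_pow_char]; ring

theorem wp_zero : (0 : F) ^ p - 0 = 0 := by
  rw [zero_pow hp.out.ne_zero, sub_zero]

theorem wp_sum {ι : Type*} (s : Finset ι) (f : ι → F) :
    (∑ i ∈ s, f i) ^ p - (∑ i ∈ s, f i) = ∑ i ∈ s, ((f i) ^ p - f i) := by
  classical
  induction s using Finset.induction_on with
  | empty => simp [zero_pow hp.out.ne_zero]
  | insert a s ha ih => rw [Finset.sum_insert ha, Finset.sum_insert ha, wp_add, ih]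

/-- `x^(p^h) - x` is in the image of `℘`. -/
theorem exists_wp_pow (x : F) (h : ℕ) : ∃ y : F, x ^ (p ^ h) - x = y ^ p - y := by
  induction h with
  | zero => exact ⟨0, by rw [pow_zero, pow_one, sub_self, zero_pow hp.out.ne_zero, sub_zero]⟩
  | succ h ih =>
    obtain ⟨y, hy⟩ := ih
    refine ⟨y + x ^ (p ^ h), ?_⟩
    rw [wp_add, ← hy, pow_succ, pow_mul]
    ring

end Wp

section Res

variable (p : ℕ) [hp : Fact p.Prime] (A B : Type u)
  [CommRing A] [IsDomain A] [IsDiscreteValuationRing A] [CommRing B] [IsDomain B]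
  [IsDiscreteValuationRing B] [Algebra A B] [IsLocalHom (algebraMap A B)]

/-- the residue class is not a `p`-th power -/
def NP (B : Type u) [CommRing B] [IsLocalRing B] (p : ℕ) (β : B) : Prop :=
  ∀ r : B, residue B β ≠ residue B r ^ p

variable {A B}

theorem perfect_of_hk [CharP (ResidueField B) p]
    (hk : ∀ x : ResidueField B, (∀ n : ℕ, ∃ y : ResidueField B, y ^ (p ^ n) = x) ↔
      x ∈ Set.range (algebraMap (ResidueField A) (ResidueField B))) (a : A) :
    ∃ a₁ : A, residue A a = residue A a₁ ^ p := by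
  have h1 : ∀ n : ℕ, ∃ y : ResidueField B, y ^ (p ^ n) =
      algebraMap (ResidueField A) (ResidueField B) (residue A a) :=
    (hk _).mpr ⟨_, rfl⟩
  obtain ⟨y₁, hy₁⟩ := h1 1
  rw [pow_one] at hy₁
  have h2 : y₁ ∈ Set.range (algebraMap (ResidueField A) (ResidueField B)) := by
    rw [← hk]
    intro n
    obtain ⟨w, hw⟩ := h1 (n + 1)
    refine ⟨w, ?_⟩
    have h3 : (w ^ (p ^ n)) ^ p = y₁ ^ p := by rw [← pow_mul, ← pow_succ, hw, hy₁]
    exact frobenius_inj (ResidueField B) p h3
  obtain ⟨x, hx⟩ := h2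
  obtain ⟨a₁, rfl⟩ := residue_surjective x
  refine ⟨a₁, ?_⟩
  apply (algebraMap (ResidueField A) (ResidueField B)).injective
  rw [map_pow, hx, hy₁]

theorem classify_of_hk [CharP (ResidueField B) p]
    (hk : ∀ x : ResidueField B, (∀ n : ℕ, ∃ y : ResidueField B, y ^ (p ^ n) = x) ↔
      x ∈ Set.range (algebraMap (ResidueField A) (ResidueField B))) (b : B) :
    (∃ a : A, b - algebraMap A B a ∈ maximalIdeal B) ∨
    (∃ (h : ℕ) (β : B), NP B p β ∧ b - β ^ (p ^ h) ∈ maximalIdeal B) := by
  classical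
  by_cases hb : residue B b ∈ Set.range (algebraMap (ResidueField A) (ResidueField B))
  · left
    obtain ⟨x, hx⟩ := hb
    obtain ⟨a, rfl⟩ := residue_surjective x
    refine ⟨a, ?_⟩
    rw [← residue_eq_zero_iff, map_sub, ← hx, ResidueField.algebraMap_residue, sub_self]
  · right
    rw [← hk] at hb
    push Not at hb
    have hex : ∃ n : ℕ, ∀ y : ResidueField B, y ^ (p ^ n) ≠ residue B b := hb
    set n₀ := Nat.find hex with hn₀
    have hn₀spec := Nat.find_spec hex
    have hn₀pos : n₀ ≠ 0 := by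
      intro h0
      rw [← hn₀, h0] at hn₀spec
      exact hn₀spec (residue B b) (by rw [pow_zero, pow_one])
    obtain ⟨h, hh⟩ := Nat.exists_eq_succ_of_ne_zero hn₀pos
    have hmin : ¬ ∀ y : ResidueField B, y ^ (p ^ h) ≠ residue B b :=
      Nat.find_min hex (by rw [← hn₀, hh]; exact Nat.lt_succ_self h)
    push Not at hmin
    obtain ⟨y, hy⟩ := hmin
    obtain ⟨β, rfl⟩ := residue_surjective y
    refine ⟨h, β, ?_, ?_⟩
    · intro r hr
      apply hn₀spec (residue B r)
      rw [← hn₀, hh, pow_succ, mul_comm, pow_mul, ← hr, hy]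
    · rw [← residue_eq_zero_iff, map_sub, map_pow, hy, sub_self]

end Res

section Decomp

variable (p : ℕ) [hp : Fact p.Prime] (A B K L : Type u)
  [CommRing A] [IsDomain A] [IsDiscreteValuationRing A] [CommRing B] [IsDomain B]
  [IsDiscreteValuationRing B] [Algebra A B] [IsLocalHom (algebraMap A B)]
  [Field K] [Field L] [Algebra A K] [IsFractionRing A K] [Algebra B L] [IsFractionRing B L]
  [Algebra K L] [Algebra A L] [IsScalarTower A K L] [IsScalarTower A B L] [CharP L p]
  (π : A) (hπB : maximalIdeal B = Ideal.span {algebraMap A B π})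

variable {A B K L}

include hπB in
theorem piL_ne_zero : algebraMap A L π ≠ 0 := by
  rw [IsScalarTower.algebraMap_apply A B L]
  exact ASMain.pi_ne_zero (K := L) (algebraMap A B π) hπB

include hπB in
theorem decomp
    (hkB : ∀ b : B, (∃ a : A, b - algebraMap A B a ∈ maximalIdeal B) ∨
      (∃ (h : ℕ) (β : B), NP B p β ∧ b - β ^ (p ^ h) ∈ maximalIdeal B)) :
    ∀ (n : ℕ) (ξ : L), (∃ b : B, ξ * algebraMap A L π ^ n = algebraMap B L b) →
    ∃ (y : L) (I : Finset ℕ) (h : ℕ → ℕ) (β : ℕ → B) (ξA : K) (c : B),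
      ξ - (y ^ p - y) = ∑ m ∈ I, algebraMap B L (β m) ^ (p ^ h m) / algebraMap A L π ^ m
          + algebraMap K L ξA + algebraMap B L c ∧
      (∀ m ∈ I, 0 < m ∧ m ≤ n ∧ NP B p (β m) ∧ (p ∣ m → h m = 0)) ∧
      ∃ a : A, ξA * algebraMap A K π ^ n = algebraMap A K a := by
  classical
  have hP0 : algebraMap A L π ≠ 0 := piL_ne_zero π hπB
  have hPB : algebraMap A L π = algebraMap B L (algebraMap A B π) :=
    IsScalarTower.algebraMap_apply A B L π
  have hPK : algebraMap A L π = algebraMap K L (algebraMap A K π) :=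
    IsScalarTower.algebraMap_apply A K L π
  have hp0 : p ≠ 0 := hp.out.ne_zero
  intro n
  induction n with
  | zero =>
    rintro ξ ⟨b, hb⟩
    rw [pow_zero, mul_one] at hb
    refine ⟨0, ∅, fun _ => 0, fun _ => 0, 0, b, ?_, fun m hm => absurd hm (Finset.notMem_empty m),
      ⟨0, by rw [zero_mul, map_zero]⟩⟩
    rw [Finset.sum_empty, map_zero, zero_pow hp0, sub_zero, sub_zero, zero_add, zero_add, hb]
  | succ n ih =>
    rintro ξ ⟨b, hb⟩
    -- weakening helper
    have weaken : ∀ (ξ₁ : L) (y₀ : L), ξ - (y₀ ^ p - y₀) = ξ₁ →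
        (∃ b₁ : B, ξ₁ * algebraMap A L π ^ n = algebraMap B L b₁) →
        ∃ (y : L) (I : Finset ℕ) (h : ℕ → ℕ) (β : ℕ → B) (ξA : K) (c : B),
          ξ - (y ^ p - y) = ∑ m ∈ I, algebraMap B L (β m) ^ (p ^ h m) / algebraMap A L π ^ m
              + algebraMap K L ξA + algebraMap B L c ∧
          (∀ m ∈ I, 0 < m ∧ m ≤ n ∧ NP B p (β m) ∧ (p ∣ m → h m = 0)) ∧
          ∃ a : A, ξA * algebraMap A K π ^ n = algebraMap A K a := by
      intro ξ₁ y₀ hξ₁ hb₁
      obtain ⟨y, I, h, β, ξA, c, heq, hI, ha⟩ := ih ξ₁ hb₁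
      refine ⟨y + y₀, I, h, β, ξA, c, ?_, hI, ha⟩
      rw [wp_add, ← heq, ← hξ₁]; ring
    have up : (∃ (y : L) (I : Finset ℕ) (h : ℕ → ℕ) (β : ℕ → B) (ξA : K) (c : B),
          ξ - (y ^ p - y) = ∑ m ∈ I, algebraMap B L (β m) ^ (p ^ h m) / algebraMap A L π ^ m
              + algebraMap K L ξA + algebraMap B L c ∧
          (∀ m ∈ I, 0 < m ∧ m ≤ n ∧ NP B p (β m) ∧ (p ∣ m → h m = 0)) ∧
          ∃ a : A, ξA * algebraMap A K π ^ n = algebraMap A K a) →
        ∃ (y : L) (I : Finset ℕ) (h : ℕ → ℕ) (β : ℕ → B) (ξA : K) (c : B),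
          ξ - (y ^ p - y) = ∑ m ∈ I, algebraMap B L (β m) ^ (p ^ h m) / algebraMap A L π ^ m
              + algebraMap K L ξA + algebraMap B L c ∧
          (∀ m ∈ I, 0 < m ∧ m ≤ n + 1 ∧ NP B p (β m) ∧ (p ∣ m → h m = 0)) ∧
          ∃ a : A, ξA * algebraMap A K π ^ (n + 1) = algebraMap A K a := by
      rintro ⟨y, I, h, β, ξA, c, heq, hI, a, ha⟩
      refine ⟨y, I, h, β, ξA, c, heq, fun m hm => ?_, ⟨a * π, ?_⟩⟩
      · obtain ⟨h1, h2, h3, h4⟩ := hI m hm
        exact ⟨h1, Nat.le_succ_of_le h2, h3, h4⟩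
      · rw [pow_succ, ← mul_assoc, ha, map_mul]
    by_cases hbm : b ∈ maximalIdeal B
    · rw [hπB, Ideal.mem_span_singleton'] at hbm
      obtain ⟨b₁, hb₁⟩ := hbm
      apply up
      apply weaken ξ 0 (by rw [zero_pow hp0, sub_zero, sub_zero])
      refine ⟨b₁, ?_⟩
      rw [← hb₁, map_mul, ← hPB, pow_succ, ← mul_assoc] at hb
      exact mul_right_cancel₀ hP0 hb
    by_cases hcase1 : p ∣ n + 1 ∧ ∃ γ : B, b - γ ^ p ∈ maximalIdeal B
    · obtain ⟨⟨m', hm'⟩, γ, hγ⟩ := hcase1
      rw [hπB, Ideal.mem_span_singleton'] at hγ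
      obtain ⟨b₁, hb₁⟩ := hγ
      have hm'pos : 0 < m' := by
        rcases Nat.eq_zero_or_pos m' with h0 | h0
        · rw [h0, mul_zero] at hm'; omega
        · exact h0
      have hm'n : m' ≤ n := by
        have : 2 * m' ≤ p * m' := Nat.mul_le_mul_right _ hp.out.two_le
        omega
      apply up
      set g : L := algebraMap B L γ / algebraMap A L π ^ m' with hg
      have hgp : g ^ p = algebraMap B L γ ^ p / algebraMap A L π ^ (n + 1) := by
        rw [hg, div_pow, ← pow_mul, hm', mul_comm m' p]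
      have hbeq : b = γ ^ p + algebraMap A B π * b₁ := by rw [mul_comm, hb₁]; ring
      have hξ : ξ = algebraMap B L γ ^ p / algebraMap A L π ^ (n + 1) +
          algebraMap B L b₁ / algebraMap A L π ^ n := by
        rw [eq_div_iff (pow_ne_zero _ hP0)] at *
        rw [div_add_div _ _ (pow_ne_zero _ hP0) (pow_ne_zero _ hP0),
          eq_div_iff (mul_ne_zero (pow_ne_zero _ hP0) (pow_ne_zero _ hP0))]
        have : ξ * algebraMap A L π ^ (n + 1) = algebraMap B L γ ^ p +
            algebraMap A L π * algebraMap B L b₁ := by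
          rw [hb, hbeq, map_add, map_mul, map_pow, hPB]
        rw [← mul_assoc, this, pow_succ]
        ring
      apply weaken (g + algebraMap B L b₁ / algebraMap A L π ^ n) g
      · rw [hgp, hξ]; ring
      · refine ⟨γ * algebraMap A B π ^ (n - m') + b₁, ?_⟩
        rw [map_add, map_mul, map_pow, ← hPB, add_mul, hg, div_mul_cancel₀ _ (pow_ne_zero _ hP0)]
        congr 1
        have : n = m' + (n - m') := by omega
        conv_lhs => rw [this, pow_add]
        field_simp
    · rcases hkB b with ⟨a, ha⟩ | ⟨h₀, β₀, hNP, hβ⟩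
      · -- an `A`-term
        rw [hπB, Ideal.mem_span_singleton'] at ha
        obtain ⟨b₁, hb₁⟩ := ha
        have hbeq : b = algebraMap A B a + algebraMap A B π * b₁ := by rw [mul_comm, hb₁]; ring
        have hξ : ξ = algebraMap A L a / algebraMap A L π ^ (n + 1) +
            algebraMap B L b₁ / algebraMap A L π ^ n := by
          rw [div_add_div _ _ (pow_ne_zero _ hP0) (pow_ne_zero _ hP0),
            eq_div_iff (mul_ne_zero (pow_ne_zero _ hP0) (pow_ne_zero _ hP0))]
          have : ξ * algebraMap A L π ^ (n + 1) = algebraMap A L a +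
              algebraMap A L π * algebraMap B L b₁ := by
            rw [hb, hbeq, map_add, map_mul, ← hPB, ← IsScalarTower.algebraMap_apply A B L]
          rw [← mul_assoc, this, pow_succ]
          ring
        obtain ⟨y, I, h, β, ξA, c, heq, hI, a', ha'⟩ :=
          ih (algebraMap B L b₁ / algebraMap A L π ^ n)
            ⟨b₁, div_mul_cancel₀ _ (pow_ne_zero _ hP0)⟩
        have hπK : algebraMap A K π ≠ 0 := by
          intro h0; apply hP0; rw [hPK, h0, map_zero]
        refine ⟨y, I, h, β, ξA + algebraMap A K a / algebraMap A K π ^ (n + 1), c, ?_,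
          fun m hm => ?_, ⟨a' * π + a, ?_⟩⟩
        · rw [map_add, map_div₀, map_pow, ← hPK, ← IsScalarTower.algebraMap_apply A K L]
          have : ξ - (y ^ p - y) = (algebraMap B L b₁ / algebraMap A L π ^ n - (y ^ p - y)) +
              algebraMap A L a / algebraMap A L π ^ (n + 1) := by rw [hξ]; ring
          rw [this, heq]; ring
        · obtain ⟨h1, h2, h3, h4⟩ := hI m hm
          exact ⟨h1, Nat.le_succ_of_le h2, h3, h4⟩
        · rw [add_mul, div_mul_cancel₀ _ (pow_ne_zero _ hπK), pow_succ, ← mul_assoc, ha', map_add,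
            map_mul]
      · -- a new non-`A` term
        rw [hπB, Ideal.mem_span_singleton'] at hβ
        obtain ⟨b₁, hb₁⟩ := hβ
        have hbeq : b = β₀ ^ (p ^ h₀) + algebraMap A B π * b₁ := by rw [mul_comm, hb₁]; ring
        have hξ : ξ = algebraMap B L β₀ ^ (p ^ h₀) / algebraMap A L π ^ (n + 1) +
            algebraMap B L b₁ / algebraMap A L π ^ n := by
          rw [div_add_div _ _ (pow_ne_zero _ hP0) (pow_ne_zero _ hP0),
            eq_div_iff (mul_ne_zero (pow_ne_zero _ hP0) (pow_ne_zero _ hP0))]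
          have : ξ * algebraMap A L π ^ (n + 1) = algebraMap B L β₀ ^ (p ^ h₀) +
              algebraMap A L π * algebraMap B L b₁ := by
            rw [hb, hbeq, map_add, map_mul, map_pow, ← hPB]
          rw [← mul_assoc, this, pow_succ]
          ring
        obtain ⟨y, I, h, β, ξA, c, heq, hI, a', ha'⟩ :=
          ih (algebraMap B L b₁ / algebraMap A L π ^ n)
            ⟨b₁, div_mul_cancel₀ _ (pow_ne_zero _ hP0)⟩
        have hnI : n + 1 ∉ I := fun hmem => by
          have := (hI _ hmem).2.1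
          omega
        refine ⟨y, insert (n + 1) I, Function.update h (n + 1) h₀, Function.update β (n + 1) β₀,
          ξA, c, ?_, fun m hm => ?_, ⟨a' * π, ?_⟩⟩
        · rw [Finset.sum_insert hnI, Function.update_self, Function.update_self]
          have hsum : ∑ m ∈ I, algebraMap B L (Function.update β (n + 1) β₀ m) ^
              (p ^ Function.update h (n + 1) h₀ m) / algebraMap A L π ^ m =
              ∑ m ∈ I, algebraMap B L (β m) ^ (p ^ h m) / algebraMap A L π ^ m := by
            apply Finset.sum_congr rfl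
            intro m hm
            have hne : m ≠ n + 1 := fun h => hnI (h ▸ hm)
            rw [Function.update_of_ne hne, Function.update_of_ne hne]
          rw [hsum]
          have : ξ - (y ^ p - y) = (algebraMap B L b₁ / algebraMap A L π ^ n - (y ^ p - y)) +
              algebraMap B L β₀ ^ (p ^ h₀) / algebraMap A L π ^ (n + 1) := by rw [hξ]; ring
          rw [this, heq]; ring
        · rw [Finset.mem_insert] at hm
          rcases hm with rfl | hm
          · rw [Function.update_self, Function.update_self]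
            refine ⟨Nat.succ_pos n, le_rfl, hNP, fun hdvd => ?_⟩
            by_contra hh0
            obtain ⟨h₁, rfl⟩ := Nat.exists_eq_succ_of_ne_zero hh0
            apply hcase1
            refine ⟨hdvd, β₀ ^ (p ^ h₁), ?_⟩
            rw [← pow_mul, ← pow_succ, hπB, Ideal.mem_span_singleton']
            exact ⟨b₁, hb₁⟩
          · have hne : m ≠ n + 1 := fun h => hnI (h ▸ hm)
            rw [Function.update_of_ne hne, Function.update_of_ne hne]
            obtain ⟨h1, h2, h3, h4⟩ := hI m hm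
            exact ⟨h1, Nat.le_succ_of_le h2, h3, h4⟩
        · rw [pow_succ, ← mul_assoc, ha', map_mul]

end Decomp

end Groth.Agent.Lib.Helper26.Ep55A
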