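import Mathlib
import Groth.Prelude.Def_EtRam
import Groth.Agent.Lib.Helper26.Ep55A

set_option autoImplicit false
set_option linter.unusedVariables false
set_option linter.style.haveILetI false
set_option linter.unusedSectionVars false
set_option linter.unusedSimpArgs false

universe u

namespace Groth.Agent.Lib.Helper26.Ep55B

open IsLocalRing Polynomial Groth.Agent.Lib.Helper26.Ep55A

section Abs

variable (p : ℕ) [hp : Fact p.Prime] {F : Type u} [Field F] [CharP F p] (𝒪 : ValuationSubring F)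
  (t P b₁ : F) (k N' : ℕ)
  (ht : t ∈ 𝒪) (hP : P ∈ 𝒪) (hb₁ : b₁ ∈ 𝒪) (hPnu : 𝒪.valuation P < 1) (hP0 : P ≠ 0)
  (hrel : t ^ (p ^ k) = P + P ^ (N' + 1) * b₁) (hN' : 0 < N')

include hP hb₁ hPnu hrel hN' in
theorem u_spec : (1 + P ^ N' * b₁) ∈ 𝒪 ∧ (1 + P ^ N' * b₁)⁻¹ ∈ 𝒪 ∧
    t ^ (p ^ k) = P * (1 + P ^ N' * b₁) ∧ 𝒪.valuation (1 + P ^ N' * b₁) = 1 := by
  have h1 : P ^ N' * b₁ ∈ 𝒪 := 𝒪.mul_mem _ _ (pow_mem hP _) hb₁
  have h2 : 𝒪.valuation (P ^ N' * b₁) < 1 := by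
    rw [map_mul, map_pow]
    have h3 : 𝒪.valuation P ^ N' < 1 := pow_lt_one₀ zero_le hPnu hN'.ne'
    exact mul_lt_one_of_nonneg_of_lt_one_left zero_le h3 ((𝒪.valuation_le_one_iff _).mpr hb₁)
  have h4 : 𝒪.valuation (1 + P ^ N' * b₁) = 1 := Valuation.map_one_add_of_lt _ h2
  refine ⟨𝒪.add_mem _ _ 𝒪.one_mem h1, ?_, by rw [hrel]; ring, h4⟩
  rw [← 𝒪.valuation_le_one_iff, map_inv₀, h4, inv_one]

include hP hb₁ hPnu hrel hN' hP0 in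
theorem t_ne_zero : t ≠ 0 := by
  obtain ⟨_, _, h3, h4⟩ := u_spec p 𝒪 t P b₁ k N' hP hb₁ hPnu hrel hN'
  intro h0
  have h5 : (1 + P ^ N' * b₁) ≠ 0 := by
    intro h6; rw [h6, map_zero] at h4; exact zero_ne_one h4
  have : P * (1 + P ^ N' * b₁) = 0 := by
    rw [← h3, h0, zero_pow (pow_ne_zero _ hp.out.ne_zero)]
  exact (mul_ne_zero hP0 h5) this

include hP hb₁ hPnu hrel hN' in
theorem t_val_lt : 𝒪.valuation t < 1 := by
  obtain ⟨_, _, h3, h4⟩ := u_spec p 𝒪 t P b₁ k N' hP hb₁ hPnu hrel hN'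
  by_contra hcon
  push Not at hcon
  have h5 : 𝒪.valuation (t ^ (p ^ k)) < 1 := by rw [h3, map_mul, h4, mul_one]; exact hPnu
  rw [map_pow] at h5
  exact absurd h5 (not_lt.mpr (one_le_pow₀ hcon))

include ht hP hb₁ hPnu hrel hN' hP0 in
theorem inv_pow_eq (m : ℕ) (hm : m ≤ N') :
    ∃ r ∈ 𝒪, 1 / P ^ m = 1 / t ^ (p ^ k * m) + r := by
  obtain ⟨hu, hui, h3, h4⟩ := u_spec p 𝒪 t P b₁ k N' hP hb₁ hPnu hrel hN'
  set u := 1 + P ^ N' * b₁ with hudef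
  have hu0 : u ≠ 0 := by
    intro h6; rw [h6, map_zero] at h4; exact zero_ne_one h4
  have ht0 : t ≠ 0 := t_ne_zero p 𝒪 t P b₁ k N' hP hb₁ hPnu hP0 hrel hN'
  set s := ∑ i ∈ Finset.range m, u ^ i with hs
  have hsmem : s ∈ 𝒪 := by
    rw [hs]; exact 𝒪.toSubring.sum_mem (fun i _ => pow_mem hu i)
  have hgeom : s * (P ^ N' * b₁) = u ^ m - 1 := by
    have := geom_sum_mul u m
    rw [← this, hs, hudef]; ring
  obtain ⟨d, hd⟩ := Nat.exists_eq_add_of_le hm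
  refine ⟨P ^ d * b₁ * s * (u⁻¹) ^ m, ?_, ?_⟩
  · exact 𝒪.mul_mem _ _ (𝒪.mul_mem _ _ (𝒪.mul_mem _ _ (pow_mem hP _) hb₁) hsmem) (pow_mem hui _)
  · rw [pow_mul, h3, mul_pow]
    have hthis : u ^ m = 1 + s * (P ^ N' * b₁) := by rw [hgeom]; ring
    have hum : u ^ m ≠ 0 := pow_ne_zero _ hu0
    have hPm : P ^ m ≠ 0 := pow_ne_zero _ hP0
    calc 1 / P ^ m = u ^ m / (P ^ m * u ^ m) := by field_simp
      _ = (1 + s * (P ^ N' * b₁)) / (P ^ m * u ^ m) := by rw [← hthis]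
      _ = 1 / (P ^ m * u ^ m) + P ^ d * b₁ * s * (u⁻¹) ^ m := by
        rw [_root_.inv_pow, hd, pow_add]; field_simp

include ht hP hb₁ hPnu hrel hN' hP0 in
theorem term (β' : F) (hβ' : β' ∈ 𝒪) (m h : ℕ) (hm : m ≤ N') (hh : h ≤ k) :
    ∃ y : F, ∃ r ∈ 𝒪, β' ^ (p ^ h) / P ^ m = β' / t ^ (m * p ^ (k - h)) + (y ^ p - y) + r := by
  obtain ⟨r₀, hr₀, hinv⟩ := inv_pow_eq p 𝒪 t P b₁ k N' ht hP hb₁ hPnu hP0 hrel hN' m hm
  have ht0 : t ≠ 0 := t_ne_zero p 𝒪 t P b₁ k N' hP hb₁ hPnu hP0 hrel hN'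
  obtain ⟨y, hy⟩ := exists_wp_pow p (β' / t ^ (m * p ^ (k - h))) h
  refine ⟨y, r₀ * β' ^ (p ^ h), 𝒪.mul_mem _ _ hr₀ (pow_mem hβ' _), ?_⟩
  have hx : (β' / t ^ (m * p ^ (k - h))) ^ (p ^ h) = β' ^ (p ^ h) / t ^ (p ^ k * m) := by
    rw [div_pow, ← pow_mul]
    congr 2
    rw [mul_assoc, ← pow_add, Nat.sub_add_cancel hh, mul_comm]
  have : β' ^ (p ^ h) / P ^ m = β' ^ (p ^ h) * (1 / P ^ m) := by rw [mul_one_div]
  rw [this, hinv, mul_add, mul_one_div, ← hx]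
  have : (β' / t ^ (m * p ^ (k - h))) ^ (p ^ h) = β' / t ^ (m * p ^ (k - h)) + (y ^ p - y) := by
    rw [← hy]; ring
  rw [this]; ring

/-- perfect pushdown -/
theorem pushdown {A : Type u} [CommRing A] (π : A) (ιA : A →+* F) (hιA : ∀ a, ιA a ∈ 𝒪)
    (ht : t ∈ 𝒪) (hP : P ∈ 𝒪) (hb₁ : b₁ ∈ 𝒪) (hPnu : 𝒪.valuation P < 1) (hP0 : P ≠ 0)
    (hrel : t ^ (p ^ k) = P + P ^ (N' + 1) * b₁) (hN' : 0 < N')
    (hPdef : P = ιA π) (hperf : ∀ a : A, ∃ a₁ a₂ : A, a = a₁ ^ (p ^ k) + π * a₂) :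
    ∀ m : ℕ, m ≤ N' → ∀ a : A, ∃ y : F, (ιA a / P ^ m - (y ^ p - y)) * t ^ m ∈ 𝒪 := by
  intro m
  induction m with
  | zero =>
    intro _ a
    refine ⟨0, ?_⟩
    rw [pow_zero, pow_zero, div_one, mul_one, zero_pow hp.out.ne_zero, sub_zero, sub_zero]
    exact hιA a
  | succ m ih =>
    intro hm a
    obtain ⟨a₁, a₂, rfl⟩ := hperf a
    obtain ⟨y₁, r₁, hr₁, h1⟩ := term p 𝒪 t P b₁ k N' ht hP hb₁ hPnu hP0 hrel hN' (ιA a₁) (hιA a₁)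
      (m + 1) k hm le_rfl
    obtain ⟨y₂, h2⟩ := ih (by omega) a₂
    have ht0 : t ≠ 0 := t_ne_zero p 𝒪 t P b₁ k N' hP hb₁ hPnu hP0 hrel hN'
    refine ⟨y₁ + y₂, ?_⟩
    rw [Nat.sub_self, pow_zero, mul_one] at h1
    have e1 : ιA (a₁ ^ (p ^ k) + π * a₂) / P ^ (m + 1) =
        ιA a₁ ^ (p ^ k) / P ^ (m + 1) + ιA a₂ / P ^ m := by
      rw [map_add, map_mul, map_pow, ← hPdef, add_div, pow_succ]
      congr 1
      field_simp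
    rw [e1, h1, wp_add]
    have e2 : (ιA a₁ / t ^ (m + 1) + (y₁ ^ p - y₁) + r₁ + ιA a₂ / P ^ m -
        ((y₁ ^ p - y₁) + (y₂ ^ p - y₂))) * t ^ (m + 1) =
        ιA a₁ + r₁ * t ^ (m + 1) + ((ιA a₂ / P ^ m - (y₂ ^ p - y₂)) * t ^ m) * t := by
      field_simp
      ring
    rw [e2]
    exact 𝒪.add_mem _ _ (𝒪.add_mem _ _ (hιA a₁) (𝒪.mul_mem _ _ hr₁ (pow_mem ht _)))
      (𝒪.mul_mem _ _ h2 ht)

include ht hP hb₁ hPnu hrel hN' hP0 in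
theorem part2 (I : Finset ℕ) (h : ℕ → ℕ) (β' : ℕ → F)
    (hI : ∀ m ∈ I, β' m ∈ 𝒪 ∧ m ≤ N' ∧ h m ≤ k)
    (X Y ΞA c' : F) (hc' : c' ∈ 𝒪)
    (heq : X - (Y ^ p - Y) = ∑ m ∈ I, β' m ^ (p ^ h m) / P ^ m + ΞA + c')
    (n : ℕ) (hΞ : ∃ yA : F, (ΞA - (yA ^ p - yA)) * t ^ n ∈ 𝒪) :
    ∃ Y' R : F, X - (Y' ^ p - Y') = ∑ m ∈ I, β' m / t ^ (m * p ^ (k - h m)) + R ∧
      R * t ^ n ∈ 𝒪 := by
  classical
  obtain ⟨yA, hyA⟩ := hΞ
  have hterm : ∀ m, ∃ y : F, ∃ r : F, m ∈ I → (r ∈ 𝒪 ∧ β' m ^ (p ^ h m) / P ^ m =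
      β' m / t ^ (m * p ^ (k - h m)) + (y ^ p - y) + r) := by
    intro m
    by_cases hm : m ∈ I
    · obtain ⟨h1, h2, h3⟩ := hI m hm
      obtain ⟨y, r, hr, he⟩ := term p 𝒪 t P b₁ k N' ht hP hb₁ hPnu hP0 hrel hN' (β' m) h1 m (h m) h2 h3
      exact ⟨y, r, fun _ => ⟨hr, he⟩⟩
    · exact ⟨0, 0, fun h => absurd h hm⟩
  choose y r hyr using hterm
  refine ⟨Y + ∑ m ∈ I, y m + yA, ∑ m ∈ I, r m + (ΞA - (yA ^ p - yA)) + c', ?_, ?_⟩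
  · rw [wp_add, wp_add, wp_sum]
    have hs : ∑ m ∈ I, β' m ^ (p ^ h m) / P ^ m =
        ∑ m ∈ I, β' m / t ^ (m * p ^ (k - h m)) + ∑ m ∈ I, (y m ^ p - y m) + ∑ m ∈ I, r m := by
      rw [← Finset.sum_add_distrib, ← Finset.sum_add_distrib]
      exact Finset.sum_congr rfl (fun m hm => (hyr m hm).2)
    have : X - ((Y ^ p - Y) + ∑ m ∈ I, (y m ^ p - y m) + (yA ^ p - yA)) =
        (X - (Y ^ p - Y)) - ∑ m ∈ I, (y m ^ p - y m) - (yA ^ p - yA) := by ring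
    rw [this, heq, hs]; ring
  · rw [add_mul, add_mul]
    refine 𝒪.add_mem _ _ (𝒪.add_mem _ _ (𝒪.mul_mem _ _ ?_ (pow_mem ht _)) hyA)
      (𝒪.mul_mem _ _ hc' (pow_mem ht _))
    exact 𝒪.toSubring.sum_mem (fun m hm => (hyr m hm).1)

theorem top_term (ht : t ∈ 𝒪) (ht0 : t ≠ 0) (I : Finset ℕ) (hne : I.Nonempty) (M : ℕ → ℕ)
    (β' : ℕ → F) (hβ' : ∀ m ∈ I, β' m ∈ 𝒪)
    (hinj : ∀ m ∈ I, ∀ m' ∈ I, M m = M m' → m = m') (n : ℕ) (hn : ∀ m ∈ I, n < M m)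
    (R : F) (hR : R * t ^ n ∈ 𝒪) :
    ∃ m₀ ∈ I, ∃ w ∈ 𝒪, (∑ m ∈ I, β' m / t ^ (M m) + R) * t ^ (M m₀) = β' m₀ + t * w := by
  classical
  obtain ⟨m₀, hm₀, hmax⟩ := Finset.exists_max_image I M hne
  refine ⟨m₀, hm₀, ∑ m ∈ I.erase m₀, β' m * t ^ (M m₀ - M m - 1) + (R * t ^ n) * t ^ (M m₀ - n - 1),
    ?_, ?_⟩
  · refine 𝒪.add_mem _ _ (𝒪.toSubring.sum_mem (fun m hm => ?_)) (𝒪.mul_mem _ _ hR (pow_mem ht _))
    exact 𝒪.mul_mem _ _ (hβ' m (Finset.mem_of_mem_erase hm)) (pow_mem ht _)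
  · rw [← Finset.add_sum_erase I _ hm₀, add_mul, add_mul, div_mul_cancel₀ _ (pow_ne_zero _ ht0),
      Finset.sum_mul, mul_add, Finset.mul_sum, add_assoc]
    congr 1
    congr 1
    · apply Finset.sum_congr rfl
      intro m hm
      have hmI := Finset.mem_of_mem_erase hm
      have hlt : M m < M m₀ := by
        refine lt_of_le_of_ne (hmax m hmI) (fun he => ?_)
        exact (Finset.ne_of_mem_erase hm) (hinj m hmI m₀ hm₀ he)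
      obtain ⟨d, hd⟩ := Nat.exists_eq_add_of_lt hlt
      have e1 : M m₀ - M m - 1 = d := by omega
      rw [e1, hd, pow_add, pow_add, pow_one]
      field_simp
    · have hlt := hn m₀ hm₀
      obtain ⟨d, hd⟩ := Nat.exists_eq_add_of_lt hlt
      have e1 : M m₀ - n - 1 = d := by omega
      rw [e1, hd, pow_add, pow_add, pow_one]
      ring

theorem M_inj (k : ℕ) (m m' h h' : ℕ) (hh : h ≤ k) (hh' : h' ≤ k)
    (hm : p ∣ m → h = 0) (hm' : p ∣ m' → h' = 0)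
    (he : m * p ^ (k - h) = m' * p ^ (k - h')) : m = m' := by
  have hp0 : 0 < p := hp.out.pos
  wlog hle : h' ≤ h generalizing m m' h h'
  · exact (this m' m h' h hh' hh hm' hm he.symm (by omega)).symm
  rcases Nat.eq_or_lt_of_le hle with heq | hlt
  · subst heq
    exact Nat.eq_of_mul_eq_mul_right (pow_pos hp0 _) he
  · exfalso
    -- k - h' = (k - h) + (h - h')
    have e1 : k - h' = (k - h) + (h - h') := by omega
    rw [e1, pow_add, ← mul_assoc, mul_comm m' _, mul_comm m _, mul_assoc] at he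
    have h2 : m = p ^ (h - h') * m' := by
      have := Nat.eq_of_mul_eq_mul_left (pow_pos hp0 (k - h)) he
      rw [this]; ring
    have h3 : p ∣ m := by
      rw [h2]
      exact Dvd.dvd.mul_right (dvd_pow_self p (by omega)) _
    have := hm h3
    omega

end Abs

end Groth.Agent.Lib.Helper26.Ep55B
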