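import Mathlib
import Groth.Prelude.Def_EtRam
import Groth.Agent.Lib.Helper26.Ep55A
import Groth.Agent.Lib.Helper26.EisGen
import Groth.Agent.Lib.Helper26.ASField

set_option autoImplicit false
set_option linter.unusedVariables false
set_option linter.style.haveILetI false
set_option linter.unusedSectionVars false
set_option linter.unusedSimpArgs false

universe u

namespace Groth.Agent.Lib.Helper26.Ep55C

open IsLocalRing Polynomial Groth.Agent.Lib.Helper26.Ep55A Groth.Agent.Lib.Helper26.EisGen

section Red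

variable {A K : Type u} [CommRing A] [IsDomain A] [IsDiscreteValuationRing A] [Field K]
  [Algebra A K] [IsFractionRing A K]
  (p : ℕ) [hp : Fact p.Prime] [CharP K p]
  (π : A) (hπ : maximalIdeal A = Ideal.span {π})
  (hperf : ∀ a : A, ∃ r : A, residue A a = residue A r ^ p)

include hπ hperf

theorem reduceK_aux : ∀ (n : ℕ) (ξ : K) (u : Aˣ), 0 < n →
    ξ * algebraMap A K π ^ n = algebraMap A K u →
    ∃ y : K, (∃ a : A, algebraMap A K a = ξ - (y ^ p - y)) ∨
      (∃ (m : ℕ) (u' : Aˣ), 0 < m ∧ ¬ p ∣ m ∧
        (ξ - (y ^ p - y)) * algebraMap A K π ^ m = algebraMap A K u') := by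
  intro n
  induction n using Nat.strong_induction_on with
  | _ n ih =>
    intro ξ u hn hξ
    have hp1 : 1 < p := hp.out.one_lt
    have hπK := ASMain.pi_ne_zero (K := K) π hπ
    have hπm : π ∈ maximalIdeal A := by rw [hπ]; exact Ideal.mem_span_singleton_self π
    by_cases hpn : p ∣ n
    swap
    · exact ⟨0, Or.inr ⟨n, u, hn, hpn, by rw [zero_pow hp.out.ne_zero, sub_zero, sub_zero]; exact hξ⟩⟩
    obtain ⟨m, rfl⟩ := hpn
    have hm : 0 < m := by
      rcases Nat.eq_zero_or_pos m with h0 | h0
      · rw [h0, mul_zero] at hn; exact absurd hn (lt_irrefl _)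
      · exact h0
    obtain ⟨r, hr⟩ := hperf u
    set c : K := algebraMap A K r / algebraMap A K π ^ m with hc
    set ξ' : K := ξ - (c ^ p - c) with hξ'def
    have hpm : m < p * m := by nlinarith
    have hb : ∃ b' : A, ξ' * algebraMap A K π ^ (p * m - 1) = algebraMap A K b' := by
      have hbmem : (u : A) - r ^ p + r * π ^ (p * m - m) ∈ maximalIdeal A := by
        rw [← residue_eq_zero_iff, map_add, map_sub, map_pow, hr, sub_self, zero_add, map_mul,
          map_pow, (residue_eq_zero_iff π).mpr hπm, zero_pow (by omega), mul_zero]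
      rw [hπ, Ideal.mem_span_singleton'] at hbmem
      obtain ⟨b', hb'⟩ := hbmem
      refine ⟨b', ?_⟩
      have h1 : ξ' * algebraMap A K π ^ (p * m) =
          algebraMap A K ((u : A) - r ^ p + r * π ^ (p * m - m)) := by
        rw [hξ'def, sub_mul, sub_mul, hξ, hc, map_add, map_sub, map_mul, map_pow, map_pow]
        have e1 : (algebraMap A K r / algebraMap A K π ^ m) ^ p * algebraMap A K π ^ (p * m) =
            algebraMap A K r ^ p := by
          rw [div_pow, ← pow_mul, mul_comm m p]
          field_simp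
        have e2 : algebraMap A K r / algebraMap A K π ^ m * algebraMap A K π ^ (p * m) =
            algebraMap A K r * algebraMap A K π ^ (p * m - m) := by
          have : p * m = m + (p * m - m) := by omega
          conv_lhs => rw [this, pow_add]
          field_simp
        rw [e1, e2]
        ring
      rw [← hb', map_mul] at h1
      have h2 : p * m = (p * m - 1) + 1 := by omega
      rw [h2, pow_succ, ← mul_assoc] at h1
      exact mul_right_cancel₀ hπK h1
    obtain ⟨b', hb'⟩ := hb
    rcases ASMain.normal_form (K := K) π hπ ξ' with ⟨a', ha'⟩ | ⟨n', u', hn', hξ'⟩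
    · refine ⟨c, Or.inl ⟨a', ha'⟩⟩
    · have hlt : n' < p * m := by
        by_contra hge
        push Not at hge
        obtain ⟨d, hd⟩ : ∃ d, n' = (p * m - 1) + (d + 1) := ⟨n' - p * m, by omega⟩
        rw [hd, pow_add, ← mul_assoc, hb', ← map_pow, ← map_mul] at hξ'
        have h4 : b' * π ^ (d + 1) = (u' : A) := IsFractionRing.injective A K hξ'
        have h5 : (u' : A) ∈ maximalIdeal A := by
          rw [← h4]
          exact Ideal.mul_mem_left _ _ (Ideal.pow_mem_of_mem _ hπm _ (by omega))
        exact h5 u'.isUnit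
      obtain ⟨y, hy⟩ := ih n' hlt ξ' u' hn' hξ'
      refine ⟨y + c, ?_⟩
      have e : ξ - ((y + c) ^ p - (y + c)) = ξ' - (y ^ p - y) := by
        rw [wp_add, hξ'def]; ring
      rw [e]
      exact hy

theorem reduceK (ξ : K) :
    ∃ y : K, (∃ a : A, algebraMap A K a = ξ - (y ^ p - y)) ∨
      (∃ (m : ℕ) (u' : Aˣ), 0 < m ∧ ¬ p ∣ m ∧
        (ξ - (y ^ p - y)) * algebraMap A K π ^ m = algebraMap A K u') := by
  rcases ASMain.normal_form (K := K) π hπ ξ with ⟨a, ha⟩ | ⟨n, u, hn, hξ⟩
  · exact ⟨0, Or.inl ⟨a, by rw [zero_pow hp.out.ne_zero, sub_zero, sub_zero]; exact ha⟩⟩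
  · exact reduceK_aux p π hπ hperf n ξ u hn hξ

end Red

section ASExt

variable (p : ℕ) [hp : Fact p.Prime] {K : Type u} [Field K] [CharP K p]

theorem exists_AS_ext (ξ₀ : K) : ∃ (K₁ : Type u) (_ : Field K₁) (_ : Algebra K K₁) (y₀ : K₁),
    FiniteDimensional K K₁ ∧ y₀ ^ p - y₀ = algebraMap K K₁ ξ₀ ∧
      IntermediateField.adjoin K {y₀} = ⊤ := by
  classical
  have hsplit := SplittingField.splits (ASField.asPoly p ξ₀)
  have hdeg : ((ASField.asPoly p ξ₀).map (algebraMap K (ASField.asPoly p ξ₀).SplittingField)).degree ≠ 0 := by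
    rw [degree_map, degree_eq_natDegree (ASField.asPoly_monic p ξ₀).ne_zero,
      ASField.asPoly_natDegree]
    exact_mod_cast hp.out.ne_zero
  obtain ⟨y₀, hy₀⟩ := hsplit.exists_eval_eq_zero hdeg
  rw [eval_map, ← aeval_def, ASField.asPoly_eval, sub_eq_zero] at hy₀
  refine ⟨(ASField.asPoly p ξ₀).SplittingField, inferInstance, inferInstance, y₀, inferInstance,
    hy₀, ?_⟩
  haveI := ASField.charP_L p K (L := (ASField.asPoly p ξ₀).SplittingField)
  rw [eq_top_iff]
  have h1 := SplittingField.adjoin_rootSet (ASField.asPoly p ξ₀)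
  have h2 : Algebra.adjoin K ((ASField.asPoly p ξ₀).rootSet (ASField.asPoly p ξ₀).SplittingField) ≤
      (IntermediateField.adjoin K {y₀}).toSubalgebra := by
    apply Algebra.adjoin_le
    intro x hx
    rw [mem_rootSet, ASField.asPoly_eval, sub_eq_zero] at hx
    -- x is a root, so x ∈ y₀ + 𝔽_p
    have hx' : x ∈ ((ASField.asPoly p ξ₀).map (algebraMap K _)).roots := by
      rw [mem_roots (map_monic_ne_zero (ASField.asPoly_monic p ξ₀)), IsRoot.def, eval_map,
        ← aeval_def, ASField.asPoly_eval, hx.2, sub_self]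
    rw [ASField.roots_eq p ξ₀ y₀ hy₀, Finset.mem_val, ASField.rootSetF, Finset.mem_image] at hx'
    obtain ⟨i, _, rfl⟩ := hx'
    exact add_mem (IntermediateField.mem_adjoin_simple_self K y₀) (natCast_mem _ i)
  intro x _
  have : x ∈ Algebra.adjoin K ((ASField.asPoly p ξ₀).rootSet (ASField.asPoly p ξ₀).SplittingField) := by
    rw [h1]; trivial
  exact h2 this

end ASExt

section Kk

variable {A : Type u} [CommRing A] [IsDomain A] [IsDiscreteValuationRing A] {π : A}
  (hπ : Irreducible π) (h : A[X]) {q : ℕ} (hq : h.natDegree < q) (hu : IsUnit (h.coeff 0))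
  (K : Type u) [Field K] [Algebra A K] [IsFractionRing A K]

include hπ hq hu in
theorem exists_ext_unif (hsep : derivative (f π h q) ≠ 0) :
    ∃ (L : Type u) (_ : Field L) (_ : Algebra K L) (_ : Algebra A L) (_ : IsScalarTower A K L)
      (ι : AdjoinRoot (f π h q) →+* L),
      (∀ a, ι (AdjoinRoot.of _ a) = algebraMap A L a) ∧ (∀ c, ι c ∈ integralClosure A L) ∧
      Module.finrank K L = q ∧ Algebra.IsSeparable K L ∧
      EtRam.IsTotallyRamified A (algebraMap A L) ∧
      (∀ V : ValuationSubring L, EtRam.Dominates A (algebraMap A L) V → ∀ x ∈ V,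
        V.valuation x < 1 → ∃ y ∈ V, x = ι (AdjoinRoot.root _) * y) := by
  haveI hdom : IsDomain (AdjoinRoot (f π h q)) := isDomain hπ h hq hu
  haveI hdvr : IsDiscreteValuationRing (AdjoinRoot (f π h q)) := isDVR hπ h hq hu hdom
  have hmonic := f_monic (π := π) h hq
  have hq0 : q ≠ 0 := by omega
  haveI : Module.Finite A (AdjoinRoot (f π h q)) := hmonic.finite_adjoinRoot
  have hinjAC : Function.Injective (algebraMap A (AdjoinRoot (f π h q))) := of_inj h hq
  have hinjAL : Function.Injective (algebraMap A (FractionRing (AdjoinRoot (f π h q)))) := by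
    rw [IsScalarTower.algebraMap_eq A (AdjoinRoot (f π h q)) (FractionRing (AdjoinRoot (f π h q)))]
    exact (IsFractionRing.injective (AdjoinRoot (f π h q)) _).comp hinjAC
  letI algKL : Algebra K (FractionRing (AdjoinRoot (f π h q))) :=
    (IsFractionRing.lift hinjAL : K →+* FractionRing (AdjoinRoot (f π h q))).toAlgebra
  haveI tower : IsScalarTower A K (FractionRing (AdjoinRoot (f π h q))) :=
    IsScalarTower.of_algebraMap_eq (fun a => (IsFractionRing.lift_algebraMap hinjAL a).symm)
  have hfinrank : Module.finrank K (FractionRing (AdjoinRoot (f π h q))) = q := by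
    rw [IsFractionRing.finrank_eq A K (AdjoinRoot (f π h q)) (FractionRing (AdjoinRoot (f π h q))),
      (AdjoinRoot.powerBasis' hmonic).finrank, AdjoinRoot.powerBasis'_dim, f_natDegree h hq]
  haveI hfin : FiniteDimensional K (FractionRing (AdjoinRoot (f π h q))) :=
    Module.finite_of_finrank_pos (by rw [hfinrank]; omega)
  refine ⟨FractionRing (AdjoinRoot (f π h q)), inferInstance, algKL, inferInstance, tower,
    algebraMap (AdjoinRoot (f π h q)) (FractionRing (AdjoinRoot (f π h q))), ?_, ?_, hfinrank, ?_, ?_,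
    ?_⟩
  · intro a
    rw [← AdjoinRoot.algebraMap_eq, ← IsScalarTower.algebraMap_apply]
  · intro c
    have hint : IsIntegral A c := Algebra.IsIntegral.isIntegral c
    exact hint.algebraMap
  · -- separability
    set ϖ : FractionRing (AdjoinRoot (f π h q)) :=
      algebraMap (AdjoinRoot (f π h q)) _ (AdjoinRoot.root (f π h q)) with hϖ
    have hirrK : Irreducible ((f π h q).map (algebraMap A K)) :=
      (hmonic.irreducible_iff_irreducible_map_fraction_map).mp (irred hπ h hq hu)
    have hsepK : ((f π h q).map (algebraMap A K)).Separable := by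
      rw [separable_iff_derivative_ne_zero hirrK, derivative_map]
      intro h0
      apply hsep
      exact Polynomial.map_injective _ (IsFractionRing.injective A K) (by rw [h0, Polynomial.map_zero])
    have haeval : aeval ϖ ((f π h q).map (algebraMap A K)) = 0 := by
      rw [aeval_map_algebraMap, hϖ, aeval_algebraMap_apply, AdjoinRoot.aeval_eq, AdjoinRoot.mk_self,
        map_zero]
    have hminpoly : (f π h q).map (algebraMap A K) = minpoly K ϖ :=
      minpoly.eq_of_irreducible_of_monic hirrK haeval (hmonic.map _)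
    have hϖsep : IsSeparable K ϖ := by
      unfold IsSeparable
      rw [← hminpoly]; exact hsepK
    have hϖint : IsIntegral K ϖ := hϖsep.isIntegral
    have htop : IntermediateField.adjoin K {ϖ} = ⊤ := by
      apply IntermediateField.eq_of_le_of_finrank_eq le_top
      rw [IntermediateField.adjoin.finrank hϖint, ← hminpoly, hmonic.natDegree_map,
        f_natDegree h hq, IntermediateField.finrank_top', hfinrank]
    haveI : Algebra.IsSeparable K (IntermediateField.adjoin K {ϖ}) :=
      (IntermediateField.isSeparable_adjoin_simple_iff_isSeparable K _).mpr hϖsep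
    constructor
    intro x
    exact IntermediateField.isSeparable_of_mem_isSeparable K _
      (L := IntermediateField.adjoin K {ϖ}) (by rw [htop]; trivial)
  · have := isTotallyRamified hπ h hq hu (FractionRing (AdjoinRoot (f π h q)))
    rwa [← IsScalarTower.algebraMap_eq] at this
  · intro V hV x hxV hxlt
    have hV' : EtRam.Dominates A ((algebraMap (AdjoinRoot (f π h q))
        (FractionRing (AdjoinRoot (f π h q)))).comp (algebraMap A (AdjoinRoot (f π h q)))) V := by
      rwa [← IsScalarTower.algebraMap_eq]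
    have hVeq := eq_V₀ hπ h hq hu (FractionRing (AdjoinRoot (f π h q))) V hV'
    have hx0 : x ∈ V₀ π h q (FractionRing (AdjoinRoot (f π h q))) := hVeq ▸ hxV
    obtain ⟨z, rfl⟩ := (mem_V₀ h _ x).mp hx0
    have hzu : ¬ IsUnit z := by
      intro hu'
      obtain ⟨w, hw⟩ := hu'.exists_right_inv
      have h1 : algebraMap (AdjoinRoot (f π h q)) (FractionRing (AdjoinRoot (f π h q))) z *
          algebraMap _ _ w = 1 := by rw [← map_mul, hw, map_one]
      have h2 : V.valuation (algebraMap (AdjoinRoot (f π h q)) (FractionRing (AdjoinRoot (f π h q))) w) ≤ 1 :=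
        (V.valuation_le_one_iff _).mpr (algebraMap_mem h hq _ V hV' w)
      have h3 := congrArg V.valuation h1
      rw [map_mul, map_one] at h3
      have : V.valuation (algebraMap (AdjoinRoot (f π h q)) (FractionRing (AdjoinRoot (f π h q))) z) *
          V.valuation (algebraMap _ _ w) < 1 :=
        mul_lt_one_of_nonneg_of_lt_one_left zero_le hxlt h2
      exact absurd h3 this.ne
    have hzm : z ∈ IsLocalRing.maximalIdeal (AdjoinRoot (f π h q)) := hzu
    rw [maximalIdeal_eq hπ h hq hu, Ideal.mem_span_singleton] at hzm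
    obtain ⟨w, rfl⟩ := hzm
    exact ⟨_, algebraMap_mem h hq _ V hV' w, by rw [map_mul]⟩

end Kk

section KkMain

variable (p : ℕ) [hp : Fact p.Prime] (A K : Type u)
    [CommRing A] [IsDomain A] [IsDiscreteValuationRing A] [Field K] [Algebra A K] [IsFractionRing A K]

theorem exists_Kk (π : A) (hπ : maximalIdeal A = Ideal.span {π}) (N' : ℕ) (hN' : 0 < N') (k : ℕ)
    (hk : 0 < k) :
    ∃ (K₁ : Type u) (_ : Field K₁) (_ : Algebra K K₁) (_ : Algebra A K₁) (_ : IsScalarTower A K K₁)
      (t : K₁), FiniteDimensional K K₁ ∧ Algebra.IsSeparable K K₁ ∧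
      EtRam.IsTotallyRamified A (algebraMap A K₁) ∧ IsIntegral A t ∧
      t ^ (p ^ k) = algebraMap A K₁ π + algebraMap A K₁ π ^ (N' + 1) * t ∧
      (∀ V : ValuationSubring K₁, EtRam.Dominates A (algebraMap A K₁) V → ∀ x ∈ V,
        V.valuation x < 1 → ∃ y ∈ V, x = t * y) := by
  have hπirr : Irreducible π := (IsDiscreteValuationRing.irreducible_iff_uniformizer π).mpr hπ
  have hq2 : 2 ≤ p ^ k := by
    calc 2 ≤ p := hp.out.two_le
      _ = p ^ 1 := (pow_one p).symm
      _ ≤ p ^ k := Nat.pow_le_pow_right hp.out.pos hk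
  set n := N' + 1 with hn
  set h : A[X] := -(C (π ^ (n - 1)) * X + 1) with hh
  have hnat : h.natDegree ≤ 1 := by
    rw [hh, natDegree_neg]
    refine (natDegree_add_le _ _).trans ?_
    rw [natDegree_one, max_le_iff]
    exact ⟨(natDegree_C_mul_le _ _).trans natDegree_X_le, Nat.zero_le _⟩
  have hq : h.natDegree < p ^ k := lt_of_le_of_lt hnat hq2
  have hcoeff0 : h.coeff 0 = -1 := by
    rw [hh, coeff_neg, coeff_add, coeff_one_zero, mul_coeff_zero, coeff_X_zero, mul_zero, zero_add]
  have hu : IsUnit (h.coeff 0) := by rw [hcoeff0]; exact isUnit_one.neg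
  have hsep : derivative (f π h (p ^ k)) ≠ 0 := by
    intro h0
    have h1 : (derivative (f π h (p ^ k))).coeff 0 = 0 := by rw [h0, coeff_zero]
    unfold f at h1
    rw [hh, derivative_add, derivative_X_pow, derivative_mul, derivative_C, zero_mul, zero_add,
      derivative_neg, derivative_add, derivative_one, add_zero, derivative_C_mul, derivative_X,
      mul_one, coeff_add, coeff_C_mul, coeff_X_pow, if_neg (by omega), mul_zero,
      zero_add, mul_neg, ← C_mul, coeff_neg, coeff_C_zero, neg_eq_zero, ← pow_succ',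
      Nat.sub_add_cancel (by omega)] at h1
    exact hπirr.ne_zero (pow_eq_zero_iff (by omega) |>.mp h1)
  obtain ⟨L, instF, algKL, algAL, tower, ι, hι, hint, hfin, hsepL, htr, hunif⟩ :=
    exists_ext_unif hπirr h hq hu K hsep
  have hmk : AdjoinRoot.mk (f π h (p ^ k)) h =
      -(AdjoinRoot.of _ (π ^ (n - 1)) * AdjoinRoot.root _ + 1) := by
    rw [hh, map_neg, map_add, map_mul, AdjoinRoot.mk_C, AdjoinRoot.mk_X, map_one]
  have hroot1 : (AdjoinRoot.root (f π h (p ^ k))) ^ (p ^ k) =
      AdjoinRoot.of _ π + (AdjoinRoot.of _ π) ^ n * AdjoinRoot.root _ := by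
    rw [root_pow, hmk, map_pow]
    have : (AdjoinRoot.of (f π h (p ^ k)) π) ^ n =
        AdjoinRoot.of (f π h (p ^ k)) π * (AdjoinRoot.of (f π h (p ^ k)) π) ^ (n - 1) := by
      rw [← pow_succ', Nat.sub_add_cancel (by omega)]
    rw [this]; ring
  haveI : FiniteDimensional K L := Module.finite_of_finrank_pos (by rw [hfin]; omega)
  refine ⟨L, instF, algKL, algAL, tower, ι (AdjoinRoot.root _), inferInstance, hsepL, htr, hint _,
    ?_, hunif⟩
  rw [← hι, ← map_pow, ← map_pow, ← map_mul, ← map_add, hroot1]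

end KkMain

end Groth.Agent.Lib.Helper26.Ep55C
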