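import Mathlib
import Groth.Prelude.Def_EtRam
import Groth.Agent.Lib.Helper26.Ep55A
import Groth.Agent.Lib.Helper26.TotRam
import Groth.Agent.Lib.Helper26.ASCaseAC
import Groth.Agent.Lib.Helper26.SolDesc

set_option autoImplicit false
set_option linter.unusedVariables false
set_option linter.style.haveILetI false
set_option linter.unusedSectionVars false
set_option linter.unusedSimpArgs false

universe u

namespace Groth.Agent.Lib.Helper26.Ep55D

open IsLocalRing Polynomial Groth.Agent.Lib.Helper26.Ep55A Groth.Agent.Lib.Helper26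
  Groth.Agent.Lib.Helper26.TameSub Groth.Agent.Lib.Helper26.Monog

section Frac

variable {K₁ M' C' : Type u} [Field K₁] [Field M'] [CommRing C'] [IsDomain C']
  [IsDiscreteValuationRing C'] (f : K₁ →+* M') (W : ValuationSubring M')
  (iV : (W.comap f) →+* C') (ψ : C' →+* M')

theorem wu_of_frac (hmax : maximalIdeal C' = Ideal.map iV (maximalIdeal (W.comap f)))
    (hψV : ∀ v, ψ (iV v) = f v) (hψW : ∀ c, ψ c ∈ W) (hψinj : Function.Injective ψ)
    (hψfrac : ∀ z : M', ∃ x y, ψ y ≠ 0 ∧ z = ψ x / ψ y) :
    maximalIdeal W ≤ Ideal.map (EtRam.inclOfComap W f) (maximalIdeal (W.comap f)) := by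
  let ψW : C' →+* W := ψ.codRestrict W.toSubring hψW
  have hψWmax : ∀ c ∈ maximalIdeal C', ψW c ∈ maximalIdeal W := by
    intro c hc
    rw [hmax] at hc
    refine Submodule.span_induction ?_ ?_ ?_ ?_ hc
    · rintro _ ⟨v, hv, rfl⟩
      have hle : maximalIdeal (W.comap f) ≤
          (maximalIdeal W).comap (EtRam.inclOfComap W f) :=
        ((local_hom_TFAE (EtRam.inclOfComap W f)).out 0 3).mp
          (EtRam.isLocalHom_inclOfComap _ _)
      have h1 := hle hv
      have h2 : ψW (iV v) = EtRam.inclOfComap W f v := Subtype.ext (hψV v)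
      rw [h2]; exact h1
    · rw [map_zero]; exact Ideal.zero_mem _
    · intro x y _ _ hx hy; rw [map_add]; exact Ideal.add_mem _ hx hy
    · intro a x _ hx; rw [smul_eq_mul, map_mul]; exact Ideal.mul_mem_left _ _ hx
  have hcase1 : ∀ (x : W) (c : C'), x ∈ maximalIdeal W → (x : M') = ψ c →
      x ∈ Ideal.map (EtRam.inclOfComap W f) (maximalIdeal _) := by
    intro x c hx hxc
    have hcm : c ∈ maximalIdeal C' := by
      by_contra hcu
      have hcu' : IsUnit c := by
        by_contra h; exact hcu h
      have : IsUnit (ψW c) := hcu'.map ψW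
      have hxe : x = ψW c := Subtype.ext hxc
      rw [← hxe] at this
      exact hx this
    rw [hmax] at hcm
    obtain ⟨a, ha, w, rfl⟩ := SolDesc.mem_map_of_valuationRing iV _ _ hcm
    have hxe : x = EtRam.inclOfComap W f a * ψW w := by
      apply Subtype.ext
      rw [hxc, map_mul, hψV]; rfl
    rw [hxe]
    exact Ideal.mul_mem_right _ _ (Ideal.mem_map_of_mem _ ha)
  intro x hx
  letI algC'M : Algebra C' M' := ψ.toAlgebra
  haveI : FaithfulSMul C' M' := (faithfulSMul_iff_algebraMap_injective C' M').mpr hψinj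
  haveI : IsFractionRing C' M' := IsFractionRing.of_field C' M' (fun z => by
    obtain ⟨a, b, _, h⟩ := hψfrac z
    exact ⟨a, b, h⟩)
  by_cases hx0 : (x : M') = 0
  · have : x = 0 := Subtype.ext hx0
    rw [this]; exact Ideal.zero_mem _
  rcases ValuationRing.isInteger_or_isInteger C' (x : M') with ⟨c, hc⟩ | ⟨c, hc⟩
  · exact hcase1 x c hx hc.symm
  · by_cases hcu : IsUnit c
    · obtain ⟨u, rfl⟩ := hcu
      have h1 : ψ ((u⁻¹ : C'ˣ) : C') * ψ (u : C') = 1 := by
        rw [← map_mul, Units.inv_mul, map_one]
      have hc' : ψ (u : C') = (x : M')⁻¹ := hc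
      rw [hc'] at h1
      have h2 : (x : M') = ψ ((u⁻¹ : C'ˣ) : C') := by
        field_simp at h1
        exact h1.symm
      exact hcase1 x _ hx h2
    · exfalso
      have hcm : c ∈ maximalIdeal C' := hcu
      have h1 := hψWmax c hcm
      have h2 : ((ψW c : W) : M') ∈ W.nonunits := (W.coe_mem_nonunits_iff (a := ψW c)).mpr h1
      have h3 : ((ψW c : W) : M') = (x : M')⁻¹ := hc
      rw [h3, W.inv_mem_nonunits_iff] at h2
      rcases h2 with h | h
      · exact hx0 h
      · exact h x.2

end Frac

section Assemble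

variable (p : ℕ) [hp : Fact p.Prime] (A B C K L M : Type u)
    [CommRing A] [IsDomain A] [IsDiscreteValuationRing A] [CommRing B] [IsDomain B] [IsDiscreteValuationRing B]
    [CommRing C] [IsDomain C] [IsDiscreteValuationRing C]
    [Algebra A B] [Algebra B C] [Algebra A C] [IsScalarTower A B C]
    [IsLocalHom (algebraMap A B)] [IsLocalHom (algebraMap B C)]
    [Field K] [Field L] [Field M] [Algebra A K] [IsFractionRing A K] [Algebra B L] [IsFractionRing B L]
    [Algebra C M] [IsFractionRing C M] [Algebra K L] [Algebra L M] [Algebra K M] [IsScalarTower K L M]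
    [Algebra A L] [IsScalarTower A K L] [IsScalarTower A B L] [Algebra B M] [IsScalarTower B L M] [IsScalarTower B C M]
    [Algebra A M] [IsScalarTower A K M] [IsScalarTower A C M]
    (K₁ : Type u) [Field K₁] [Algebra K K₁]

theorem assemble [CharP K p]
    (ht : EtRam.IsTotallyRamified A ((algebraMap K K₁).comp (algebraMap A K)))
    (V : ValuationSubring K₁) (hV : EtRam.Dominates A ((algebraMap K K₁).comp (algebraMap A K)) V)
    (C' : Type u) [CommRing C'] [IsDomain C'] [IsDiscreteValuationRing C']
    (iB : B →+* C') (iV : V →+* C')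
    (hmax : maximalIdeal C' = Ideal.map iV (maximalIdeal V))
    (huniv : ∀ (R : Type u) [CommRing R] (fB : B →+* R) (fV : V →+* R),
        (∀ a, fB (algebraMap A B a) =
          fV (RingHom.codRestrict ((algebraMap K K₁).comp (algebraMap A K)) V hV.1 a)) →
        ∃ ψ : C' →+* R, (∀ b, ψ (iB b) = fB b) ∧ (∀ v, ψ (iV v) = fV v))
    (hgenC : ∀ S : Subring C', (∀ b, iB b ∈ S) → (∀ v, iV v ∈ S) → S = ⊤)
    (F : Type u) [Field F] [Algebra C' F] [IsFractionRing C' F]
    (ιL : L →+* F) (hιL : ∀ b, ιL (algebraMap B L b) = algebraMap C' F (iB b))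
    (z : M) (ξ : L) (hz : z ^ p - z = algebraMap L M ξ)
    (hgenz : IntermediateField.adjoin L {z} = ⊤)
    (ϖ : C') (hϖ : maximalIdeal C' = Ideal.span {ϖ})
    (y ξ' : F) (hcert : ιL ξ - (y ^ p - y) = ξ')
    (hcase : (∃ c : C', ξ' = algebraMap C' F c) ∨
      (∃ (m : ℕ) (a : C'), 0 < m ∧ NP C' p a ∧
        ξ' * algebraMap C' F ϖ ^ (p * m) = algebraMap C' F a)) :
    EtRam.IsWeakSolution C K M K₁ := by
  classical
  intro M' _ _ _ _ _ _ hgen W hW
  haveI : CharP L p := charP_of_injective_algebraMap (algebraMap K L).injective p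
  haveI : CharP F p := charP_of_injective_ringHom ιL.injective p
  haveI : CharP M p := charP_of_injective_algebraMap (algebraMap L M).injective p
  haveI : CharP M' p := charP_of_injective_algebraMap (algebraMap M M').injective p
  -- compatibility
  have key : ∀ a : A, algebraMap K₁ M' (((algebraMap K K₁).comp (algebraMap A K)) a) =
      ((algebraMap M M').comp (algebraMap C M)) (algebraMap A C a) := by
    intro a
    show algebraMap K₁ M' (algebraMap K K₁ (algebraMap A K a)) =
      algebraMap M M' (algebraMap C M (algebraMap A C a))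
    rw [← IsScalarTower.algebraMap_apply K K₁ M', ← IsScalarTower.algebraMap_apply A C M,
      IsScalarTower.algebraMap_apply A K M, ← IsScalarTower.algebraMap_apply K M M']
  have keyB : ∀ b : B, algebraMap M M' (algebraMap L M (algebraMap B L b)) =
      ((algebraMap M M').comp (algebraMap C M)) (algebraMap B C b) := by
    intro b
    show _ = algebraMap M M' (algebraMap C M (algebraMap B C b))
    rw [← IsScalarTower.algebraMap_apply B L M, ← IsScalarTower.algebraMap_apply B C M]
  obtain ⟨ψ, hψB, hψV⟩ := huniv M' ((algebraMap M M').comp ((algebraMap L M).comp (algebraMap B L)))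
    ((algebraMap K₁ M').comp V.subtype) (fun a => by
      show algebraMap M M' (algebraMap L M (algebraMap B L (algebraMap A B a))) =
        algebraMap K₁ M' (algebraMap K K₁ (algebraMap A K a))
      rw [keyB, ← IsScalarTower.algebraMap_apply A B C]
      exact (key a).symm)
  have hψB' : ∀ b, ψ (iB b) = algebraMap M M' (algebraMap L M (algebraMap B L b)) := hψB
  have hψV' : ∀ v : V, ψ (iV v) = algebraMap K₁ M' v := hψV
  -- injectivity
  have hψinj : Function.Injective ψ := by
    rw [RingHom.injective_iff_ker_eq_bot]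
    by_contra hker
    haveI : (RingHom.ker ψ).IsPrime := RingHom.ker_isPrime ψ
    have hkmax : (RingHom.ker ψ).IsMaximal := Ideal.IsPrime.isMaximal inferInstance hker
    have hkeq : RingHom.ker ψ = maximalIdeal C' := IsLocalRing.eq_maximalIdeal hkmax
    obtain ⟨π, hπ⟩ := IsDiscreteValuationRing.exists_irreducible A
    have hπm : π ∈ maximalIdeal A := hπ.not_isUnit
    let v₀ : V := RingHom.codRestrict ((algebraMap K K₁).comp (algebraMap A K)) V hV.1 π
    have hv₀m : v₀ ∈ maximalIdeal V := by
      rw [ValuationSubring.valuation_lt_one_iff]; exact hV.2 π hπm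
    have hv₀0 : (v₀ : K₁) ≠ 0 := by
      intro h0
      have h1 : algebraMap K K₁ (algebraMap A K π) = 0 := h0
      have h2 : algebraMap A K π = 0 := (map_eq_zero _).mp h1
      have := (IsFractionRing.injective A K) (h2.trans (map_zero _).symm)
      exact hπ.ne_zero this
    have h1 : iV v₀ ∈ RingHom.ker ψ := by
      rw [hkeq, hmax]; exact Ideal.mem_map_of_mem _ hv₀m
    rw [RingHom.mem_ker, hψV'] at h1
    exact hv₀0 ((map_eq_zero _).mp h1)
  -- W ∩ K₁ = V
  have hdomA : EtRam.Dominates A ((algebraMap K K₁).comp (algebraMap A K))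
      (W.comap (algebraMap K₁ M')) := by
    refine ⟨fun a => ?_, fun a ha => ?_⟩
    · rw [ValuationSubring.mem_comap, key]; exact hW.1 _
    · have haC : algebraMap A C a ∈ maximalIdeal C := by
        have h1 := ((local_hom_TFAE (algebraMap A B)).out 0 3).mp ‹_›
        have h2 := ((local_hom_TFAE (algebraMap B C)).out 0 3).mp ‹_›
        rw [IsScalarTower.algebraMap_apply A B C]
        exact h2 (h1 ha)
      have h1 := hW.2 _ haC
      rw [← key] at h1
      have hmem : ((algebraMap K K₁).comp (algebraMap A K)) a ∈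
          (W.comap (algebraMap K₁ M')).nonunits := by
        rw [ValuationSubring.mem_nonunits_iff_or]
        by_cases h0 : ((algebraMap K K₁).comp (algebraMap A K)) a = 0
        · exact Or.inl h0
        · right
          rw [ValuationSubring.mem_comap, map_inv₀]
          have : algebraMap K₁ M' (((algebraMap K K₁).comp (algebraMap A K)) a) ∈ W.nonunits := h1
          rw [W.mem_nonunits_iff_or] at this
          rcases this with h | h
          · exact absurd ((map_eq_zero _).mp h) h0
          · exact h
      exact hmem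
  have hVeq : W.comap (algebraMap K₁ M') = V := ht.2.1 _ _ hdomA hV
  subst hVeq
  letI alg : Algebra (W.comap (algebraMap K₁ M')) W := (EtRam.inclOfComap W (algebraMap K₁ M')).toAlgebra
  show Ideal.map (EtRam.inclOfComap W (algebraMap K₁ M')) (maximalIdeal _) = maximalIdeal W
  apply le_antisymm
  · exact ((local_hom_TFAE (EtRam.inclOfComap W (algebraMap K₁ M'))).out 0 2).mp
      (EtRam.isLocalHom_inclOfComap _ _)
  -- ψ lands in W
  have hψW : ∀ c, ψ c ∈ W := by
    intro c
    have : (W.toSubring.comap ψ) = ⊤ := hgenC _ (fun b => by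
      show ψ (iB b) ∈ W
      rw [hψB', keyB]; exact hW.1 _) (fun v => by
      show ψ (iV v) ∈ W
      rw [hψV']; exact v.2)
    have hc : c ∈ W.toSubring.comap ψ := by rw [this]; trivial
    exact hc
  let ψW : C' →+* W := ψ.codRestrict W.toSubring hψW
  have hψWmax : ∀ c ∈ maximalIdeal C', ψW c ∈ maximalIdeal W := by
    intro c hc
    rw [hmax] at hc
    refine Submodule.span_induction ?_ ?_ ?_ ?_ hc
    · rintro _ ⟨v, hv, rfl⟩
      have hle : maximalIdeal (W.comap (algebraMap K₁ M')) ≤
          (maximalIdeal W).comap (EtRam.inclOfComap W (algebraMap K₁ M')) :=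
        ((local_hom_TFAE (EtRam.inclOfComap W (algebraMap K₁ M'))).out 0 3).mp
          (EtRam.isLocalHom_inclOfComap _ _)
      have h1 := hle hv
      have h2 : ψW (iV v) = EtRam.inclOfComap W (algebraMap K₁ M') v := Subtype.ext (hψV' v)
      rw [h2]; exact h1
    · rw [map_zero]; exact Ideal.zero_mem _
    · intro x y _ _ hx hy; rw [map_add]; exact Ideal.add_mem _ hx hy
    · intro a x _ hx; rw [smul_eq_mul, map_mul]; exact Ideal.mul_mem_left _ _ hx
  -- Ψ
  let Ψ : F →+* M' := IsFractionRing.lift hψinj
  have hΨ : ∀ c, Ψ (algebraMap C' F c) = ψ c := IsFractionRing.lift_algebraMap hψinj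
  letI algFM' : Algebra F M' := Ψ.toAlgebra
  have hΨL : ∀ l : L, Ψ (ιL l) = algebraMap M M' (algebraMap L M l) := by
    intro l
    obtain ⟨b, s, hs, rfl⟩ := IsFractionRing.div_surjective (A := B) l
    rw [map_div₀, map_div₀, hιL, hιL, hΨ, hΨ, hψB', hψB', map_div₀, map_div₀]
  -- z'
  obtain ⟨z', hz'def⟩ : ∃ z' : M', z' = algebraMap M M' z - Ψ y := ⟨_, rfl⟩
  have hz' : z' ^ p - z' = algebraMap F M' ξ' := by
    show _ = Ψ ξ'
    rw [← hcert, map_sub, map_sub, map_pow, hΨL, ← hz, hz'def, sub_pow_char, map_sub, map_pow]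
    ring
  have hgen' : IntermediateField.adjoin F {z'} = ⊤ := by
    obtain ⟨E, hE⟩ : ∃ E, E = IntermediateField.adjoin F {z'} := ⟨_, rfl⟩
    rw [← hE]
    have hz'E : z' ∈ E := by rw [hE]; exact IntermediateField.mem_adjoin_simple_self F z'
    have hFE : ∀ x : F, Ψ x ∈ E := fun x => E.algebraMap_mem x
    have hLE : ∀ l : L, algebraMap M M' (algebraMap L M l) ∈ E := fun l => by
      rw [← hΨL]; exact hFE _
    have hzE : algebraMap M M' z ∈ E := by
      have : algebraMap M M' z = z' + Ψ y := by rw [hz'def]; ring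
      rw [this]; exact add_mem hz'E (hFE y)
    let E₀ : IntermediateField L M :=
      Subfield.toIntermediateField (E.toSubfield.comap (algebraMap M M')) (fun l => hLE l)
    have hE₀ : IntermediateField.adjoin L {z} ≤ E₀ := by
      rw [IntermediateField.adjoin_le_iff]
      intro x hx
      rw [Set.mem_singleton_iff] at hx
      subst hx
      exact hzE
    have hME : ∀ m : M, algebraMap M M' m ∈ E := fun m => by
      have : m ∈ E₀ := hE₀ (by rw [hgenz]; trivial)
      exact this
    have hK₁E : ∀ x : K₁, algebraMap K₁ M' x ∈ E := by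
      intro x
      obtain ⟨v, v', hv', rfl⟩ := IsFractionRing.div_surjective (A := W.comap (algebraMap K₁ M')) x
      rw [map_div₀]
      refine div_mem ?_ ?_
      · have := hψV' v
        rw [← hΨ] at this
        show algebraMap K₁ M' (v : K₁) ∈ E
        rw [← this]; exact hFE _
      · have := hψV' v'
        rw [← hΨ] at this
        show algebraMap K₁ M' (v' : K₁) ∈ E
        rw [← this]; exact hFE _
    have hall : ∀ x ∈ Algebra.adjoin M (Set.range (algebraMap K₁ M')), x ∈ E := by
      intro x hx
      induction hx using Algebra.adjoin_induction with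
      | mem x hx => obtain ⟨k, rfl⟩ := hx; exact hK₁E k
      | algebraMap m => exact hME m
      | add x y _ _ hx hy => exact add_mem hx hy
      | mul x y _ _ hx hy => exact mul_mem hx hy
    rw [eq_top_iff]
    intro x _
    exact hall x (by rw [hgen]; trivial)
  -- dominance of C'
  have hgAL : ∀ c, gAL C' F M' c = ψ c := fun c => hΨ c
  have hdomC' : EtRam.Dominates C' (gAL C' F M') W := by
    refine ⟨fun c => by rw [hgAL]; exact hψW c, fun c hc => ?_⟩
    rw [hgAL]
    have := hψWmax c hc
    rw [ValuationSubring.valuation_lt_one_iff] at this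
    exact this
  have hfinish : Ideal.map (RingHom.codRestrict (gAL C' F M') W hdomC'.1) (maximalIdeal C') =
      maximalIdeal W →
      maximalIdeal W ≤ Ideal.map (EtRam.inclOfComap W (algebraMap K₁ M')) (maximalIdeal _) := by
    intro hwu
    rw [← hwu]
    refine le_of_eq ((congrArg (Ideal.map _) hmax).trans ?_)
    rw [Ideal.map_map]
    congr 1
    apply RingHom.ext
    intro v
    apply Subtype.ext
    show gAL C' F M' (iV v) = algebraMap K₁ M' v
    rw [hgAL, hψV']
  haveI hloc : IsLocalHom (RingHom.codRestrict (gAL C' F M') W hdomC'.1) :=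
    isLocalHom_of_dominates C' _ W hdomC'
  rcases hcase with ⟨c, hc⟩ | ⟨m, a, hm, hNP, ha⟩
  · rw [hc] at hz'
    rcases ASCaseAC.caseA p ϖ hϖ z' c hz' hgen' with h1 | ⟨h2, _⟩
    · -- degree one
      have hsurj : ∀ x : M', ∃ f : F, Ψ f = x := by
        intro x
        have h3 : (⊥ : Subalgebra F M') = ⊤ := Subalgebra.bot_eq_top_of_finrank_eq_one h1
        have h4 : x ∈ (⊥ : Subalgebra F M') := by rw [h3]; trivial
        rw [Algebra.mem_bot] at h4
        exact h4
      apply wu_of_frac (algebraMap K₁ M') W iV ψ hmax hψV' hψW hψinj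
      intro x
      obtain ⟨f, rfl⟩ := hsurj x
      obtain ⟨c₁, c₂, hc₂, rfl⟩ := IsFractionRing.div_surjective (A := C') f
      refine ⟨c₁, c₂, ?_, ?_⟩
      · intro h0
        have := hψinj (h0.trans (map_zero ψ).symm)
        exact nonZeroDivisors.ne_zero hc₂ this
      · rw [map_div₀, hΨ, hΨ]
    · apply hfinish
      exact (@h2 W hdomC' hloc).1
  · apply hfinish
    have h4 := ASCaseAC.caseC p ϖ hϖ z' ξ' hz' hgen' m hm a hNP ha
    exact (@h4.2.2 W hdomC' hloc).1

end Assemble

end Groth.Agent.Lib.Helper26.Ep55D
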