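import Mathlib
import Groth.Prelude.Def_EtRam
import Groth.Agent.Lib.Helper26.Ep55A
import Groth.Agent.Lib.Helper26.TotRam
import Groth.Agent.Lib.Helper26.ValFin

set_option autoImplicit false
set_option linter.unusedVariables false
set_option linter.style.haveILetI false
set_option linter.unusedSectionVars false
set_option linter.unusedSimpArgs false

universe u

namespace Groth.Agent.Lib.Helper26.Ep55E

open IsLocalRing Polynomial Groth.Agent.Lib.Helper26.Ep55A Groth.Agent.Lib.Helper26
  Groth.Agent.Lib.Helper26.TameSub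

section Perf

variable {A : Type u} [CommRing A] [IsLocalRing A] (p : ℕ) (π : A)
  (hπ : maximalIdeal A = Ideal.span {π})
  (hperf : ∀ a : A, ∃ r : A, residue A a = residue A r ^ p)

include hπ hperf in
theorem perf_iter (k : ℕ) : ∀ a : A, ∃ a₁ a₂ : A, a = a₁ ^ (p ^ k) + π * a₂ := by
  induction k with
  | zero => intro a; exact ⟨a, 0, by rw [pow_zero, pow_one, mul_zero, add_zero]⟩
  | succ k ih =>
    intro a
    obtain ⟨a₁, a₂, rfl⟩ := ih a
    obtain ⟨r, hr⟩ := hperf a₁
    have hmem : a₁ - r ^ p ∈ maximalIdeal A := by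
      rw [← residue_eq_zero_iff, map_sub, map_pow, hr, sub_self]
    rw [hπ, Ideal.mem_span_singleton'] at hmem
    obtain ⟨d, hd⟩ := hmem
    have ha₁ : a₁ = r ^ p + π * d := by rw [mul_comm, hd]; ring
    -- a₁^(p^k) = (r^p + π d)^(p^k) ≡ r^(p^(k+1)) mod π
    have hex : ∃ e : A, (r ^ p + π * d) ^ (p ^ k) = (r ^ p) ^ (p ^ k) + π * e := by
      have hdvd : π ∣ (r ^ p + π * d) ^ (p ^ k) - (r ^ p) ^ (p ^ k) := by
        have h1 : (r ^ p + π * d) - r ^ p ∣ (r ^ p + π * d) ^ (p ^ k) - (r ^ p) ^ (p ^ k) :=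
          sub_dvd_pow_sub_pow _ _ _
        have h2 : π ∣ (r ^ p + π * d) - r ^ p := ⟨d, by ring⟩
        exact h2.trans h1
      obtain ⟨e, he⟩ := hdvd
      exact ⟨e, by rw [← he]; ring⟩
    obtain ⟨e, he⟩ := hex
    refine ⟨r, e + a₂, ?_⟩
    rw [ha₁, he, ← pow_mul, ← pow_succ']
    ring

end Perf

section Model

variable {A B K K₁ C' : Type u} [CommRing A] [IsDomain A] [IsDiscreteValuationRing A]
    [CommRing B] [IsDomain B] [IsDiscreteValuationRing B] [Algebra A B] [IsLocalHom (algebraMap A B)]
    [Field K] [Algebra A K] [IsFractionRing A K] [Field K₁] [Algebra K K₁]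
    [CommRing C'] [IsDomain C'] [IsDiscreteValuationRing C']
    (V : ValuationSubring K₁) (hV : EtRam.Dominates A ((algebraMap K K₁).comp (algebraMap A K)) V)
    (iB : B →+* C') (iV : V →+* C')
    (hcompat : ∀ a : A, iB (algebraMap A B a) =
        iV (RingHom.codRestrict ((algebraMap K K₁).comp (algebraMap A K)) V hV.1 a))
    (hmax : maximalIdeal C' = Ideal.map iV (maximalIdeal V))

include hcompat hmax in
theorem model_inj [hVdvr : IsDiscreteValuationRing V] :
    Function.Injective iV ∧ Function.Injective iB := by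
  obtain ⟨π, hπ⟩ := IsDiscreteValuationRing.exists_irreducible A
  have hπm : π ∈ maximalIdeal A := hπ.not_isUnit
  obtain ⟨πV, hπVdef⟩ : ∃ πV : V, πV =
    RingHom.codRestrict ((algebraMap K K₁).comp (algebraMap A K)) V hV.1 π := ⟨_, rfl⟩
  have hπVm : πV ∈ maximalIdeal V := by
    rw [ValuationSubring.valuation_lt_one_iff, hπVdef]; exact hV.2 π hπm
  have hπV0 : πV ≠ 0 := by
    intro h0
    have h1 : algebraMap K K₁ (algebraMap A K π) = 0 := by
      have := congrArg Subtype.val h0
      rw [hπVdef] at this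
      exact this
    have h2 : algebraMap A K π = 0 := (map_eq_zero _).mp h1
    have := (IsFractionRing.injective A K) (h2.trans (map_zero _).symm)
    exact hπ.ne_zero this
  have hkey : iV πV ≠ 0 := by
    intro h0
    obtain ⟨ϖV, hϖV⟩ := IsDiscreteValuationRing.exists_irreducible V
    obtain ⟨e, u, hu⟩ := IsDiscreteValuationRing.eq_unit_mul_pow_irreducible hπV0 hϖV
    rw [hu, map_mul, map_pow] at h0
    have hunit : IsUnit (iV (u : V)) := u.isUnit.map iV
    have h1 : iV ϖV ^ e = 0 := by
      rcases mul_eq_zero.mp h0 with h | h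
      · exact absurd h hunit.ne_zero
      · exact h
    have h2 : iV ϖV = 0 := pow_eq_zero_iff (by
      rintro rfl
      rw [pow_zero] at h1; exact one_ne_zero h1) |>.mp h1
    have h3 : maximalIdeal C' = ⊥ := by
      rw [hmax, (IsDiscreteValuationRing.irreducible_iff_uniformizer ϖV).mp hϖV, Ideal.map_span,
        Set.image_singleton, h2, Ideal.span_singleton_eq_bot]
    exact IsDiscreteValuationRing.not_a_field C' h3
  constructor
  · rw [RingHom.injective_iff_ker_eq_bot]
    by_contra hker
    haveI : (RingHom.ker iV).IsPrime := RingHom.ker_isPrime iV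
    have hkmax : (RingHom.ker iV).IsMaximal := Ideal.IsPrime.isMaximal inferInstance hker
    have hkeq : RingHom.ker iV = maximalIdeal V := IsLocalRing.eq_maximalIdeal hkmax
    have : πV ∈ RingHom.ker iV := by rw [hkeq]; exact hπVm
    exact hkey this
  · rw [RingHom.injective_iff_ker_eq_bot]
    by_contra hker
    haveI : (RingHom.ker iB).IsPrime := RingHom.ker_isPrime iB
    have hkmax : (RingHom.ker iB).IsMaximal := Ideal.IsPrime.isMaximal inferInstance hker
    have hkeq : RingHom.ker iB = maximalIdeal B := IsLocalRing.eq_maximalIdeal hkmax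
    have hπB : algebraMap A B π ∈ maximalIdeal B := by
      have hle : maximalIdeal A ≤ (maximalIdeal B).comap (algebraMap A B) :=
        ((local_hom_TFAE (algebraMap A B)).out 0 3).mp ‹_›
      exact hle hπm
    have : algebraMap A B π ∈ RingHom.ker iB := by rw [hkeq]; exact hπB
    rw [RingHom.mem_ker, hcompat, ← hπVdef] at this
    exact hkey this

include hcompat in
theorem model_decomp
    (ht : EtRam.IsTotallyRamified A ((algebraMap K K₁).comp (algebraMap A K)))
    (hgenC : ∀ S : Subring C', (∀ b, iB b ∈ S) → (∀ v, iV v ∈ S) → S = ⊤)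
    (tV : V) (htV : maximalIdeal V = Ideal.span {tV}) (c : C') :
    ∃ (b : B) (c' : C'), c = iB b + iV tV * c' := by
  let S : Subring C' :=
    { carrier := {c | ∃ (b : B) (c' : C'), c = iB b + iV tV * c'}
      zero_mem' := ⟨0, 0, by simp⟩
      one_mem' := ⟨1, 0, by simp⟩
      add_mem' := by
        rintro _ _ ⟨b1, c1, rfl⟩ ⟨b2, c2, rfl⟩
        exact ⟨b1 + b2, c1 + c2, by rw [map_add]; ring⟩
      neg_mem' := by
        rintro _ ⟨b1, c1, rfl⟩
        exact ⟨-b1, -c1, by rw [map_neg]; ring⟩
      mul_mem' := by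
        rintro _ _ ⟨b1, c1, rfl⟩ ⟨b2, c2, rfl⟩
        exact ⟨b1 * b2, iB b1 * c2 + c1 * iB b2 + iV tV * c1 * c2, by rw [map_mul]; ring⟩ }
  have hS : S = ⊤ := by
    apply hgenC
    · intro b; exact ⟨b, 0, by simp⟩
    · intro v
      obtain ⟨a, ha⟩ := ht.2.2 V hV (residue V v)
      have hmem : v - RingHom.codRestrict ((algebraMap K K₁).comp (algebraMap A K)) V hV.1 a ∈
          maximalIdeal V := by
        rw [← residue_eq_zero_iff, map_sub, sub_eq_zero]; exact ha.symm
      rw [htV, Ideal.mem_span_singleton'] at hmem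
      obtain ⟨v', hv'⟩ := hmem
      refine ⟨algebraMap A B a, iV v', ?_⟩
      rw [hcompat, ← map_mul, ← map_add]
      congr 1
      rw [mul_comm, hv']; ring
  have : c ∈ S := by rw [hS]; trivial
  exact this

end Model

section Setup

variable (A B K L : Type u) [CommRing A] [IsDomain A] [IsDiscreteValuationRing A]
    [CommRing B] [IsDomain B] [IsDiscreteValuationRing B] [Algebra A B] [IsLocalHom (algebraMap A B)]
    [Field K] [Field L] [Algebra A K] [IsFractionRing A K] [Algebra B L] [IsFractionRing B L]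
    [Algebra K L] [Algebra A L] [IsScalarTower A K L] [IsScalarTower A B L]
    (K₁ : Type u) [Field K₁] [Algebra K K₁] [FiniteDimensional K K₁] [Algebra.IsSeparable K K₁]

theorem exists_setup (hinj : Function.Injective (algebraMap A B))
    (hw : EtRam.IsWeaklyUnramified A B)
    (ht : EtRam.IsTotallyRamified A ((algebraMap K K₁).comp (algebraMap A K))) :
    ∃ (V : ValuationSubring K₁) (hV : EtRam.Dominates A ((algebraMap K K₁).comp (algebraMap A K)) V)
      (_ : IsDiscreteValuationRing V)
      (C' : Type u) (_ : CommRing C') (_ : IsDomain C') (_ : IsDiscreteValuationRing C')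
      (iB : B →+* C') (iV : V →+* C') (F : Type u) (_ : Field F) (_ : Algebra C' F)
      (_ : IsFractionRing C' F) (ιL : L →+* F) (ι₁ : K₁ →+* F),
      (∀ a : A, iB (algebraMap A B a) =
        iV (RingHom.codRestrict ((algebraMap K K₁).comp (algebraMap A K)) V hV.1 a)) ∧
      (maximalIdeal C' = Ideal.map iV (maximalIdeal V)) ∧
      (∀ (R : Type u) [CommRing R] (fB : B →+* R) (fV : V →+* R),
        (∀ a, fB (algebraMap A B a) =
          fV (RingHom.codRestrict ((algebraMap K K₁).comp (algebraMap A K)) V hV.1 a)) →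
        ∃ ψ : C' →+* R, (∀ b, ψ (iB b) = fB b) ∧ (∀ v, ψ (iV v) = fV v)) ∧
      (∀ S : Subring C', (∀ b, iB b ∈ S) → (∀ v, iV v ∈ S) → S = ⊤) ∧
      (∀ b, ιL (algebraMap B L b) = algebraMap C' F (iB b)) ∧
      (∀ v : V, ι₁ (v : K₁) = algebraMap C' F (iV v)) ∧
      (∀ x : K, ιL (algebraMap K L x) = ι₁ (algebraMap K K₁ x)) ∧
      Function.Injective iB ∧ Function.Injective iV := by
  obtain ⟨V, hV⟩ := ht.1
  haveI hVdvr : IsDiscreteValuationRing V := ValFin.isDVR_of_dominates_finite V hV
  obtain ⟨C', instC, hdom, hdvr, iB, iV, hcompat, hmax, huniv, hgenC⟩ :=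
    TotRam.exists_model A B K K₁ hinj hw ht V hV
  obtain ⟨hiV, hiB⟩ := model_inj V hV iB iV hcompat hmax
  have hinjB : Function.Injective ((algebraMap C' (FractionRing C')).comp iB) :=
    (IsFractionRing.injective C' (FractionRing C')).comp hiB
  have hinjV : Function.Injective ((algebraMap C' (FractionRing C')).comp iV) :=
    (IsFractionRing.injective C' (FractionRing C')).comp hiV
  let ιL : L →+* FractionRing C' := IsFractionRing.lift hinjB
  let ι₁ : K₁ →+* FractionRing C' := IsFractionRing.lift (A := V) hinjV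
  have hιL : ∀ b, ιL (algebraMap B L b) = algebraMap C' (FractionRing C') (iB b) :=
    fun b => IsFractionRing.lift_algebraMap hinjB b
  have hι₁ : ∀ v : V, ι₁ (v : K₁) = algebraMap C' (FractionRing C') (iV v) :=
    fun v => IsFractionRing.lift_algebraMap (A := V) hinjV v
  refine ⟨V, hV, hVdvr, C', instC, hdom, hdvr, iB, iV, FractionRing C', inferInstance, inferInstance,
    inferInstance, ιL, ι₁, hcompat, hmax, huniv, hgenC, hιL, hι₁, ?_, hiB, hiV⟩
  have hA : ∀ a : A, ιL (algebraMap K L (algebraMap A K a)) =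
      ι₁ (algebraMap K K₁ (algebraMap A K a)) := by
    intro a
    rw [← IsScalarTower.algebraMap_apply A K L, IsScalarTower.algebraMap_apply A B L, hιL, hcompat,
      ← hι₁]
    rfl
  intro x
  obtain ⟨a, s, hs, rfl⟩ := IsFractionRing.div_surjective (A := A) x
  rw [map_div₀, map_div₀, map_div₀, map_div₀, hA, hA]

end Setup

end Groth.Agent.Lib.Helper26.Ep55E
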