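import Mathlib
import Groth.Prelude.Def_EtRam
import Groth.Agent.Lib.Helper26.Ep55A
import Groth.Agent.Lib.Helper26.Ep55B
import Groth.Agent.Lib.Helper26.Ep55C
import Groth.Agent.Lib.Helper26.Ep55D
import Groth.Agent.Lib.Helper26.Ep55E
import Groth.Agent.Lib.Helper26.Ep56A
import Groth.Agent.Lib.Helper26.AS93
import Groth.Agent.Lib.Helper26.ASCaseB

set_option autoImplicit false
set_option linter.unusedVariables false
set_option linter.style.haveILetI false
set_option linter.unusedSectionVars false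
set_option linter.unusedSimpArgs false

universe u

namespace Groth.Agent.Lib.Helper26.Ep55F

open IsLocalRing Polynomial Groth.Agent.Lib.Helper26.Ep55A Groth.Agent.Lib.Helper26
  Groth.Agent.Lib.Helper26.TameSub Groth.Agent.Lib.Helper26.Ep55E Groth.Agent.Lib.Helper26.Monog

section Fin

variable (p : ℕ) [hp : Fact p.Prime] (A B C K L M : Type u)
    [CommRing A] [IsDomain A] [IsDiscreteValuationRing A] [CommRing B] [IsDomain B] [IsDiscreteValuationRing B]
    [CommRing C] [IsDomain C] [IsDiscreteValuationRing C]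
    [Algebra A B] [Algebra B C] [Algebra A C] [IsScalarTower A B C]
    [IsLocalHom (algebraMap A B)] [IsLocalHom (algebraMap B C)]
    [Field K] [Field L] [Field M] [Algebra A K] [IsFractionRing A K] [Algebra B L] [IsFractionRing B L]
    [Algebra C M] [IsFractionRing C M] [Algebra K L] [Algebra L M] [Algebra K M] [IsScalarTower K L M]
    [Algebra A L] [IsScalarTower A K L] [IsScalarTower A B L] [Algebra B M] [IsScalarTower B L M] [IsScalarTower B C M]
    [Algebra A M] [IsScalarTower A K M] [IsScalarTower A C M]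

theorem finish_empty [CharP K p] (hAB : Function.Injective (algebraMap A B))
    (hw : EtRam.IsWeaklyUnramified A B)
    (z : M) (ξ : L) (hz : z ^ p - z = algebraMap L M ξ)
    (hgenz : IntermediateField.adjoin L {z} = ⊤)
    (K₁ : Type u) [Field K₁] [Algebra K K₁] [FiniteDimensional K K₁] [Algebra.IsSeparable K K₁]
    (ht : EtRam.IsTotallyRamified A ((algebraMap K K₁).comp (algebraMap A K)))
    (y : L) (ξA : K) (c : B)
    (heq : ξ - (y ^ p - y) = algebraMap K L ξA + algebraMap B L c)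
    (y₁ : K₁) (a' : A)
    (hy₁ : y₁ ^ p - y₁ = algebraMap K K₁ ξA - algebraMap K K₁ (algebraMap A K a')) :
    EtRam.IsWeakSolution C K M K₁ := by
  obtain ⟨V, hV, hVdvr, C', instC, hdom, hdvr, iB, iV, F, instF, algF, fracF, ιL, ι₁, hcompat, hmax,
    huniv, hgenC, hιL, hι₁, hcompK, hiB, hiV⟩ := exists_setup A B K L K₁ hAB hw ht
  obtain ⟨ϖ, hϖirr⟩ := IsDiscreteValuationRing.exists_irreducible C'
  have hϖ := (IsDiscreteValuationRing.irreducible_iff_uniformizer ϖ).mp hϖirr
  haveI : CharP L p := charP_of_injective_algebraMap (algebraMap K L).injective p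
  haveI : CharP F p := charP_of_injective_ringHom ιL.injective p
  refine Ep55D.assemble p A B C K L M K₁ ht V hV C' iB iV hmax huniv hgenC F ιL hιL z ξ hz hgenz ϖ hϖ
    (ιL y + ι₁ y₁) (algebraMap C' F (iB c + iB (algebraMap A B a'))) ?_ (Or.inl ⟨_, rfl⟩)
  rw [wp_add]
  have h1 : ιL ξ - (ιL y ^ p - ιL y) = ιL (algebraMap K L ξA) + ιL (algebraMap B L c) := by
    rw [← map_pow, ← map_sub, ← map_sub, heq, map_add]
  have h2 : ι₁ y₁ ^ p - ι₁ y₁ =
      ι₁ (algebraMap K K₁ ξA) - ι₁ (algebraMap K K₁ (algebraMap A K a')) := by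
    rw [← map_pow, ← map_sub, hy₁, map_sub]
  have h3 : ι₁ (algebraMap K K₁ (algebraMap A K a')) = algebraMap C' F (iB (algebraMap A B a')) := by
    rw [← hcompK, ← IsScalarTower.algebraMap_apply A K L, IsScalarTower.algebraMap_apply A B L, hιL]
  have h4 : ιL ξ - ((ιL y ^ p - ιL y) + (ι₁ y₁ ^ p - ι₁ y₁)) =
      (ιL ξ - (ιL y ^ p - ιL y)) - (ι₁ y₁ ^ p - ι₁ y₁) := by ring
  rw [h4, h1, h2, hcompK, h3, hιL, map_add]
  ring

theorem finish_nonempty [CharP K p] (hAB : Function.Injective (algebraMap A B))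
    (hw : EtRam.IsWeaklyUnramified A B) (π : A) (hπ : maximalIdeal A = Ideal.span {π})
    (hperf : ∀ a : A, ∃ r : A, residue A a = residue A r ^ p)
    (z : M) (ξ : L) (hz : z ^ p - z = algebraMap L M ξ)
    (hgenz : IntermediateField.adjoin L {z} = ⊤)
    (n : ℕ) (y : L) (I : Finset ℕ) (hne : I.Nonempty) (h : ℕ → ℕ) (β : ℕ → B) (ξA : K) (c : B)
    (heq : ξ - (y ^ p - y) = ∑ m ∈ I, algebraMap B L (β m) ^ (p ^ h m) / algebraMap A L π ^ m
          + algebraMap K L ξA + algebraMap B L c)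
    (hI : ∀ m ∈ I, 0 < m ∧ m ≤ n ∧ NP B p (β m) ∧ (p ∣ m → h m = 0))
    (a : A) (ha : ξA * algebraMap A K π ^ n = algebraMap A K a) :
    ∃ (K₁ : Type u) (_ : Field K₁) (_ : Algebra K K₁), FiniteDimensional K K₁ ∧
      Algebra.IsSeparable K K₁ ∧
      EtRam.IsTotallyRamified A ((algebraMap K K₁).comp (algebraMap A K)) ∧
      EtRam.IsWeakSolution C K M K₁ := by
  classical
  have hp1 := hp.out.one_lt
  obtain ⟨k, hk⟩ : ∃ k, k = I.sup h + n + 1 := ⟨_, rfl⟩
  have hhk : ∀ m ∈ I, h m + n + 1 ≤ k := fun m hm => by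
    have := Finset.le_sup (f := h) hm
    omega
  obtain ⟨K₁, instK₁, algK₁, algAK₁, tower, t, hfd, hsep, ht0, htint, htrel, hunif⟩ :=
    Ep55C.exists_Kk p A K π hπ (n + 1) (by omega) k (by omega)
  have ht : EtRam.IsTotallyRamified A ((algebraMap K K₁).comp (algebraMap A K)) := by
    rw [← IsScalarTower.algebraMap_eq A K K₁]; exact ht0
  refine ⟨K₁, instK₁, algK₁, hfd, hsep, ht, ?_⟩
  obtain ⟨V, hV, hVdvr, C', instC, hdom, hdvr, iB, iV, F, instF, algF, fracF, ιL, ι₁, hcompat, hmax,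
    huniv, hgenC, hιL, hι₁, hcompK, hiB, hiV⟩ := exists_setup A B K L K₁ hAB hw ht
  haveI : CharP L p := charP_of_injective_algebraMap (algebraMap K L).injective p
  haveI : CharP F p := charP_of_injective_ringHom ιL.injective p
  have hπm : π ∈ maximalIdeal A := by rw [hπ]; exact Ideal.mem_span_singleton_self π
  have hπ0 : π ≠ 0 := by
    intro h0
    have hirr := (IsDiscreteValuationRing.irreducible_iff_uniformizer π).mpr hπ
    exact hirr.ne_zero h0
  -- t in V
  have hAV : ∀ r : A, algebraMap A K₁ r ∈ V := fun r => by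
    rw [IsScalarTower.algebraMap_apply A K K₁]; exact hV.1 r
  have htV : t ∈ V := mem_of_isIntegral_of_le K₁ V hAV t htint
  obtain ⟨tV, htVdef⟩ : ∃ tV : V, (tV : K₁) = t := ⟨⟨t, htV⟩, rfl⟩
  have hV0 : EtRam.Dominates A (algebraMap A K₁) V := by
    rw [IsScalarTower.algebraMap_eq A K K₁]; exact hV
  have hπV : V.valuation (algebraMap A K₁ π) < 1 := hV0.2 π hπm
  have htlt : V.valuation t < 1 := by
    by_contra hcon
    push Not at hcon
    have h5 : V.valuation (t ^ (p ^ k)) < 1 := by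
      rw [htrel]
      refine lt_of_le_of_lt (Valuation.map_add _ _ _) (max_lt hπV ?_)
      rw [map_mul, map_pow]
      have h6 : V.valuation (algebraMap A K₁ π) ^ (n + 1 + 1) < 1 :=
        pow_lt_one₀ zero_le hπV (by omega)
      exact mul_lt_one_of_nonneg_of_lt_one_left zero_le h6 ((V.valuation_le_one_iff _).mpr htV)
    rw [map_pow] at h5
    exact absurd h5 (not_lt.mpr (one_le_pow₀ hcon))
  have hmV : maximalIdeal V = Ideal.span {tV} := by
    apply le_antisymm
    · intro x hx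
      rw [ValuationSubring.valuation_lt_one_iff] at hx
      obtain ⟨y', hy'V, hy'⟩ := hunif V hV0 x x.2 hx
      rw [Ideal.mem_span_singleton']
      exact ⟨⟨y', hy'V⟩, Subtype.ext (by
        show y' * (tV : K₁) = x
        rw [htVdef, mul_comm]; exact hy'.symm)⟩
    · rw [Ideal.span_singleton_le_iff_mem, ValuationSubring.valuation_lt_one_iff, htVdef]
      exact htlt
  obtain ⟨ϖ, hϖdef⟩ : ∃ ϖ : C', ϖ = iV tV := ⟨_, rfl⟩
  have hϖ : maximalIdeal C' = Ideal.span {ϖ} := by
    rw [hmax, hmV, Ideal.map_span, Set.image_singleton, hϖdef]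
  obtain ⟨𝒪, h𝒪⟩ : ∃ 𝒪 : ValuationSubring F, 𝒪 = Ep56A.valSub C' F := ⟨_, rfl⟩
  have hmem𝒪 : ∀ c : C', algebraMap C' F c ∈ 𝒪 := fun c => by rw [h𝒪]; exact ⟨c, rfl⟩
  obtain ⟨T, hTdef⟩ : ∃ T : F, T = algebraMap C' F ϖ := ⟨_, rfl⟩
  obtain ⟨P, hPdef⟩ : ∃ P : F, P = algebraMap C' F (iB (algebraMap A B π)) := ⟨_, rfl⟩
  have hT𝒪 : T ∈ 𝒪 := by rw [hTdef]; exact hmem𝒪 _
  have hP𝒪 : P ∈ 𝒪 := by rw [hPdef]; exact hmem𝒪 _
  have hι₁t : ι₁ t = T := by rw [hTdef, hϖdef, ← hι₁, htVdef]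
  have hιLπ : ιL (algebraMap A L π) = P := by
    rw [hPdef, IsScalarTower.algebraMap_apply A B L, hιL]
  have hι₁π : ι₁ (algebraMap A K₁ π) = P := by
    rw [IsScalarTower.algebraMap_apply A K K₁, ← hcompK, ← IsScalarTower.algebraMap_apply A K L,
      hιLπ]
  have hrel : T ^ (p ^ k) = P + P ^ (n + 1 + 1) * T := by
    have := congrArg ι₁ htrel
    rw [map_pow, map_add, map_mul, map_pow, hι₁t, hι₁π] at this
    exact this
  have hπBm : iB (algebraMap A B π) ∈ maximalIdeal C' := by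
    rw [hcompat, hmax]
    apply Ideal.mem_map_of_mem
    rw [ValuationSubring.valuation_lt_one_iff]
    exact hV.2 π hπm
  have hPnu : 𝒪.valuation P < 1 := by
    rw [h𝒪, hPdef]; exact Ep56A.valSub_val_lt C' F _ hπBm
  have hP0 : P ≠ 0 := by
    intro h0
    rw [hPdef] at h0
    have h1 := (IsFractionRing.injective C' F) (h0.trans (map_zero _).symm)
    have h2 := hiB (h1.trans (map_zero _).symm)
    exact hπ0 (hAB (h2.trans (map_zero _).symm))
  -- pushdown
  have hperfk := perf_iter p π hπ hperf k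
  obtain ⟨ιA, hιAdef⟩ : ∃ ιA : A →+* F, ιA = (algebraMap C' F).comp (iB.comp (algebraMap A B)) :=
    ⟨_, rfl⟩
  have hιA : ∀ r : A, ιA r = algebraMap C' F (iB (algebraMap A B r)) := fun r => by rw [hιAdef]; rfl
  have hΞ := Ep55B.pushdown p 𝒪 T P T k (n + 1) π ιA (fun r => by rw [hιA]; exact hmem𝒪 _) hT𝒪 hP𝒪
    hT𝒪 hPnu hP0 hrel (by omega) (by rw [hιA, hPdef]) hperfk n (by omega) a
  have hπK : algebraMap A K π ≠ 0 := ASMain.pi_ne_zero (K := K) π hπ
  have hξA : ιL (algebraMap K L ξA) = ιA a / P ^ n := by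
    have : ξA = algebraMap A K a / algebraMap A K π ^ n := by
      rw [eq_div_iff (pow_ne_zero _ hπK)]; exact ha
    rw [this, map_div₀, map_div₀, map_pow, map_pow, ← IsScalarTower.algebraMap_apply A K L,
      ← IsScalarTower.algebraMap_apply A K L, hιLπ, IsScalarTower.algebraMap_apply A B L, hιL, hιA]
  -- part2
  have heqF := congrArg ιL heq
  rw [map_sub, map_sub, map_pow, map_add, map_add, map_sum] at heqF
  have hsumF : ∑ m ∈ I, ιL (algebraMap B L (β m) ^ (p ^ h m) / algebraMap A L π ^ m) =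
      ∑ m ∈ I, (algebraMap C' F (iB (β m))) ^ (p ^ h m) / P ^ m :=
    Finset.sum_congr rfl (fun m _ => by rw [map_div₀, map_pow, map_pow, hιL, hιLπ])
  rw [hsumF, hξA] at heqF
  obtain ⟨Y', R, hY', hR⟩ := Ep55B.part2 p 𝒪 T P T k (n + 1) hT𝒪 hP𝒪 hT𝒪 hPnu hP0 hrel (by omega) I h
    (fun m => algebraMap C' F (iB (β m)))
    (fun m hm => ⟨hmem𝒪 _, by have := (hI m hm).2.1; omega, by have := hhk m hm; omega⟩)
    (ιL ξ) (ιL y) (ιA a / P ^ n) (ιL (algebraMap B L c)) (by rw [hιL]; exact hmem𝒪 _) heqF n hΞ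
  have hT0 : T ≠ 0 := Ep55B.t_ne_zero p 𝒪 T P T k (n + 1) hP𝒪 hT𝒪 hPnu hP0 hrel (by omega)
  obtain ⟨m₀, hm₀, w, hw𝒪, htop⟩ := Ep55B.top_term 𝒪 T hT𝒪 hT0 I hne (fun m => m * p ^ (k - h m))
    (fun m => algebraMap C' F (iB (β m))) (fun m _ => hmem𝒪 _)
    (fun m hm m' hm' he => Ep55B.M_inj p k m m' (h m) (h m') (by have := hhk m hm; omega)
      (by have := hhk m' hm'; omega) (hI m hm).2.2.2 (hI m' hm').2.2.2 he)
    n (fun m hm => by
      have h1 : n + 1 ≤ k - h m := by have := hhk m hm; omega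
      calc n < 2 ^ n := Nat.lt_two_pow_self
        _ ≤ 2 ^ (k - h m) := Nat.pow_le_pow_right (by norm_num) (by omega)
        _ ≤ p ^ (k - h m) := Nat.pow_le_pow_left hp.out.two_le _
        _ ≤ m * p ^ (k - h m) := Nat.le_mul_of_pos_left _ (hI m hm).1) R hR
  rw [h𝒪] at hw𝒪
  obtain ⟨wC, rfl⟩ := hw𝒪
  obtain ⟨d, hd⟩ : ∃ d, k - h m₀ = d + 1 := ⟨k - h m₀ - 1, by have := hhk m₀ hm₀; omega⟩
  have hMm : m₀ * p ^ (k - h m₀) = p * (m₀ * p ^ d) := by rw [hd, pow_succ]; ring
  have hmm : 0 < m₀ * p ^ d := Nat.mul_pos (hI m₀ hm₀).1 (pow_pos hp.out.pos _)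
  refine Ep55D.assemble p A B C K L M K₁ ht V hV C' iB iV hmax huniv hgenC F ιL hιL z ξ hz hgenz ϖ hϖ
    Y' _ hY' (Or.inr ⟨m₀ * p ^ d, iB (β m₀) + ϖ * wC, hmm, ?_, ?_⟩)
  · intro r hr
    obtain ⟨b, r', rfl⟩ := model_decomp V hV iB iV hcompat ht hgenC tV hmV r
    haveI : CharP C' p :=
      (RingHom.charP_iff (algebraMap C' F) (IsFractionRing.injective C' F) p).mpr inferInstance
    have h1 : iB (β m₀) + ϖ * wC - (iB b + iV tV * r') ^ p ∈ maximalIdeal C' := by
      rw [← residue_eq_zero_iff, map_sub, map_pow, hr, sub_self]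
    rw [add_pow_char, mul_pow, ← hϖdef] at h1
    have hϖm : ϖ ∈ maximalIdeal C' := by rw [hϖ]; exact Ideal.mem_span_singleton_self _
    have h2 : iB (β m₀ - b ^ p) ∈ maximalIdeal C' := by
      have : iB (β m₀ - b ^ p) = (iB (β m₀) + ϖ * wC - (iB b ^ p + ϖ ^ p * r' ^ p)) - ϖ * wC +
          ϖ ^ p * r' ^ p := by rw [map_sub, map_pow]; ring
      rw [this]
      exact Ideal.add_mem _ (Ideal.sub_mem _ h1 (Ideal.mul_mem_right _ _ hϖm))
        (Ideal.mul_mem_right _ _ (Ideal.pow_mem_of_mem _ hϖm _ hp.out.pos))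
    have h3 : β m₀ - b ^ p ∈ maximalIdeal B := by
      by_contra hu
      have hu' : IsUnit (β m₀ - b ^ p) := by
        by_contra h; exact hu h
      exact h2 (hu'.map iB)
    apply (hI m₀ hm₀).2.2.1 b
    rw [← map_pow, ← sub_eq_zero, ← map_sub, residue_eq_zero_iff]
    exact h3
  · rw [← hMm, map_add, map_mul, ← hTdef]
    exact htop

end Fin

section Main

theorem main_7155 (p : ℕ) (hp : p.Prime) (A B C K L M : Type u)
    [CommRing A] [IsDomain A] [IsDiscreteValuationRing A] [CommRing B] [IsDomain B] [IsDiscreteValuationRing B]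
    [CommRing C] [IsDomain C] [IsDiscreteValuationRing C]
    [Algebra A B] [Algebra B C] [Algebra A C] [IsScalarTower A B C]
    (hAB : Function.Injective (algebraMap A B)) (hBC : Function.Injective (algebraMap B C))
    [IsLocalHom (algebraMap A B)] [IsLocalHom (algebraMap B C)]
    [Field K] [Field L] [Field M] [Algebra A K] [IsFractionRing A K] [Algebra B L] [IsFractionRing B L]
    [Algebra C M] [IsFractionRing C M] [Algebra K L] [Algebra L M] [Algebra K M] [IsScalarTower K L M]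
    [Algebra A L] [IsScalarTower A K L] [IsScalarTower A B L] [Algebra B M] [IsScalarTower B L M] [IsScalarTower B C M]
    [Algebra A M] [IsScalarTower A K M] [IsScalarTower A C M]
    (hw : EtRam.IsWeaklyUnramified A B) [CharP K p] [IsGalois L M] (hdeg : Module.finrank L M = p)
    (hk : ∀ x : IsLocalRing.ResidueField B, (∀ n : ℕ, ∃ y : IsLocalRing.ResidueField B, y ^ (p ^ n) = x) ↔
      x ∈ Set.range (algebraMap (IsLocalRing.ResidueField A) (IsLocalRing.ResidueField B))) :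
    ∃ (K₁ : Type u) (_ : Field K₁) (_ : Algebra K K₁), FiniteDimensional K K₁ ∧ Algebra.IsSeparable K K₁ ∧
      EtRam.IsTotallyRamified A ((algebraMap K K₁).comp (algebraMap A K)) ∧ EtRam.IsWeakSolution C K M K₁ := by
  classical
  haveI : Fact p.Prime := ⟨hp⟩
  haveI : CharP L p := charP_of_injective_algebraMap (algebraMap K L).injective p
  haveI : FiniteDimensional L M := Module.finite_of_finrank_pos (by rw [hdeg]; exact hp.pos)
  obtain ⟨z, ξ, hz, hgenz⟩ := AS93.exists_AS_gen p L M hdeg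
  obtain ⟨π, hπirr⟩ := IsDiscreteValuationRing.exists_irreducible A
  have hπ : maximalIdeal A = Ideal.span {π} :=
    (IsDiscreteValuationRing.irreducible_iff_uniformizer π).mp hπirr
  have hπB : maximalIdeal B = Ideal.span {algebraMap A B π} := by
    rw [← hw, hπ, Ideal.map_span, Set.image_singleton]
  haveI : CharP (ResidueField B) p := ASCaseAC.charP_residue (A := B) (K := L) p
  haveI : CharP (ResidueField A) p := ASCaseAC.charP_residue (A := A) (K := K) p
  have hkA : ∀ a : A, ∃ a₁ : A, residue A a = residue A a₁ ^ p := perfect_of_hk p hk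
  have hkB := classify_of_hk (A := A) p hk
  obtain ⟨n, b, hb⟩ : ∃ (n : ℕ) (b : B), ξ * algebraMap A L π ^ n = algebraMap B L b := by
    rcases ASMain.normal_form (K := L) (algebraMap A B π) hπB ξ with ⟨b, hb⟩ | ⟨n, u, _, hn⟩
    · exact ⟨0, b, by rw [pow_zero, mul_one, hb]⟩
    · exact ⟨n, u, by rw [IsScalarTower.algebraMap_apply A B L]; exact hn⟩
  obtain ⟨y, I, h, β, ξA, c, heq, hI, a, ha⟩ := decomp (K := K) p π hπB hkB n ξ ⟨b, hb⟩
  by_cases hne : I.Nonempty
  · exact finish_nonempty p A B C K L M hAB hw π hπ hkA z ξ hz hgenz n y I hne h β ξA c heq hI a ha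
  · rw [Finset.not_nonempty_iff_eq_empty] at hne
    subst hne
    rw [Finset.sum_empty, zero_add] at heq
    obtain ⟨yK, hyK⟩ := Ep55C.reduceK p π hπ hkA ξA
    rcases hyK with ⟨a', ha'⟩ | ⟨m, u, hm, hpm, hu⟩
    · -- trivial extension
      obtain ⟨K₁, instK₁, algK₁, algAK₁, tower, hfin, hsep, ht0, -⟩ :=
        EisGen.main_7157 p hp A K π hπ 2 (by norm_num) 0
      haveI : FiniteDimensional K K₁ := Module.finite_of_finrank_pos (by rw [hfin]; positivity)
      have ht : EtRam.IsTotallyRamified A ((algebraMap K K₁).comp (algebraMap A K)) := by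
        rw [← IsScalarTower.algebraMap_eq A K K₁]; exact ht0
      refine ⟨K₁, instK₁, algK₁, inferInstance, hsep, ht, ?_⟩
      refine finish_empty p A B C K L M hAB hw z ξ hz hgenz K₁ ht y ξA c heq (algebraMap K K₁ yK) a' ?_
      rw [← map_pow, ← map_sub, ← map_sub, ha']
      congr 1
      ring
    · -- Artin–Schreier extension
      obtain ⟨K₁, instK₁, algK₁, y₀, hfd, hy₀, hgen₀⟩ := Ep55C.exists_AS_ext p (ξA - (yK ^ p - yK))
      haveI : IsGalois K K₁ := ASField.isGalois p _ y₀ hy₀ hgen₀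
      obtain ⟨ht, -⟩ := ASCaseB.caseB p π hπirr (ξA - (yK ^ p - yK)) y₀ hy₀ m u hm hu hpm hgen₀
      refine ⟨K₁, instK₁, algK₁, hfd, inferInstance, ht, ?_⟩
      haveI : CharP K₁ p := charP_of_injective_algebraMap (algebraMap K K₁).injective p
      refine finish_empty p A B C K L M hAB hw z ξ hz hgenz K₁ ht y ξA c heq
        (y₀ + algebraMap K K₁ yK) 0 ?_
      rw [wp_add, hy₀, map_zero, map_zero, sub_zero, map_sub, map_sub, map_pow]
      ring

end Main

end Groth.Agent.Lib.Helper26.Ep55F
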