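import Mathlib
import Groth.Prelude.Def_EtRam
import Groth.Prelude.Def_Found
import Groth.Agent.Lib.Helper26.Sol1982
import Groth.Agent.Lib.Helper26.TameBC
import Groth.Agent.Lib.Helper12.DVRExt

set_option autoImplicit false
set_option linter.unusedVariables false
set_option linter.style.haveILetI false
set_option linter.unusedSectionVars false
set_option linter.unusedSimpArgs false

universe u

namespace Groth.Agent.Lib.Helper26.Ep56B

open IsLocalRing Polynomial TensorProduct Groth.Agent.Lib.Helper26 Groth.Agent.Lib.Helper26.TameSub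

theorem one_sub_pow_eq {R : Type*} [CommRing R] (ε : R) (j : ℕ) : ∃ r, (1 - ε) ^ j = 1 + ε * r := by
  induction j with
  | zero => exact ⟨0, by simp⟩
  | succ j ih =>
    obtain ⟨r, hr⟩ := ih
    exact ⟨r - 1 - ε * r, by rw [pow_succ, hr]; ring⟩

theorem ring_comp {R : Type*} [CommRing R] (p : ℕ) [hp : Fact p.Prime] [CharP R p]
    (P a π u πC b : R) (c : Fin p → R) (m : ℕ)
    (h₁ : π = P ^ p - P ^ ((m + 2) * p) * a) (h₂ : πC ^ p = u * π)
    (h₃ : u = ∑ i, c i ^ p * π ^ (i : ℕ) + b * π ^ m) :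
    ∃ b₂, (πC - ∑ i, c i * P ^ ((i : ℕ) + 1)) ^ p = P ^ (p * (m + 1)) * (b + P ^ p * b₂) := by
  have hπ : π = P ^ p * (1 - P ^ ((m + 1) * p) * a) := by rw [h₁]; ring
  have hs : ∀ j : ℕ, ∃ s, π ^ (j + 1) = P ^ (p * (j + 1)) + P ^ ((m + 2) * p) * s := by
    intro j
    obtain ⟨r, hr⟩ := one_sub_pow_eq (P ^ ((m + 1) * p) * a) (j + 1)
    refine ⟨P ^ (p * j) * a * r, ?_⟩
    rw [hπ, mul_pow, hr]
    ring
  choose s hs using hs
  refine ⟨∑ i, c i ^ p * s (i : ℕ) + b * s m, ?_⟩
  have hT : (∑ i, c i * P ^ ((i : ℕ) + 1)) ^ p = ∑ i, c i ^ p * P ^ (p * ((i : ℕ) + 1)) := by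
    rw [sum_pow_char]
    refine Finset.sum_congr rfl (fun i _ => ?_)
    rw [mul_pow, ← pow_mul, mul_comm ((i : ℕ) + 1) p]
  have huπ : u * π = ∑ i, c i ^ p * π ^ ((i : ℕ) + 1) + b * π ^ (m + 1) := by
    rw [h₃, add_mul, Finset.sum_mul]
    congr 1
    · refine Finset.sum_congr rfl (fun i _ => ?_)
      rw [pow_succ]; ring
    · rw [pow_succ]; ring
  have hsum : ∑ i, c i ^ p * π ^ ((i : ℕ) + 1) =
      ∑ i, c i ^ p * P ^ (p * ((i : ℕ) + 1)) + P ^ ((m + 2) * p) * ∑ i, c i ^ p * s (i : ℕ) := by
    rw [Finset.mul_sum, ← Finset.sum_add_distrib]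
    refine Finset.sum_congr rfl (fun i _ => ?_)
    rw [hs (i : ℕ)]; ring
  rw [sub_pow_char, h₂, hT, huπ, hs m, hsum]
  generalize ∑ i, c i ^ p * P ^ (p * ((i : ℕ) + 1)) = S1
  generalize ∑ i, c i ^ p * s (i : ℕ) = S2
  ring

theorem finrank_compositum_le (K M K₁ M' : Type u) [Field K] [Field M] [Field K₁] [Field M']
    [Algebra K M] [Algebra K K₁] [FiniteDimensional K K₁]
    [Algebra K M'] [Algebra M M'] [Algebra K₁ M'] [IsScalarTower K M M'] [IsScalarTower K K₁ M']
    (hgen : Algebra.adjoin M (Set.range (algebraMap K₁ M')) = ⊤) :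
    Module.finrank M M' ≤ Module.finrank K K₁ := by
  let φ : M ⊗[K] K₁ →ₐ[M] M' := Algebra.TensorProduct.lift (Algebra.ofId M M')
    (IsScalarTower.toAlgHom K K₁ M') (fun _ _ => Commute.all _ _)
  have hsurj : Function.Surjective φ := by
    rw [← AlgHom.range_eq_top, eq_top_iff, ← hgen]
    apply Algebra.adjoin_le
    rintro _ ⟨k, rfl⟩
    exact ⟨(1 : M) ⊗ₜ[K] k, by
      show Algebra.TensorProduct.lift _ _ _ ((1 : M) ⊗ₜ[K] k) = _
      rw [Algebra.TensorProduct.lift_tmul, map_one, one_mul]; rfl⟩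
  have h1 := LinearMap.finrank_le_finrank_of_surjective (f := φ.toLinearMap) hsurj
  rwa [Module.finrank_baseChange] at h1

section Core

variable (p : ℕ) [hp : Fact p.Prime] (A B C K L M : Type u)
    [CommRing A] [IsDomain A] [IsDiscreteValuationRing A] [CommRing B] [IsDomain B] [IsDiscreteValuationRing B]
    [CommRing C] [IsDomain C] [IsDiscreteValuationRing C]
    [Algebra A B] [Algebra B C] [Algebra A C] [IsScalarTower A B C]
    [IsLocalHom (algebraMap A B)] [IsLocalHom (algebraMap B C)]
    [Field K] [Field L] [Field M] [Algebra A K] [IsFractionRing A K] [Algebra B L] [IsFractionRing B L]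
    [Algebra C M] [IsFractionRing C M] [Algebra K L] [Algebra L M] [Algebra K M] [IsScalarTower K L M]
    [Algebra A L] [IsScalarTower A K L] [IsScalarTower A B L] [Algebra B M] [IsScalarTower B L M] [IsScalarTower B C M]
    [Algebra A M] [IsScalarTower A K M] [IsScalarTower A C M]

theorem core (hAB : Function.Injective (algebraMap A B)) (hBC : Function.Injective (algebraMap B C))
    (π : A) (hπ : maximalIdeal A = Ideal.span {π}) (hw : EtRam.IsWeaklyUnramified A B)
    [CharP L p] (hdeg : Module.finrank L M = p)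
    (K₁ : Type u) [Field K₁] [Algebra K K₁] [Algebra A K₁] [IsScalarTower A K K₁]
    (hK₁ : Module.finrank K K₁ = p)
    (π₁ a₀ a₁ : K₁) (hπ₁ : IsIntegral A π₁) (ha₀ : IsIntegral A a₀) (ha₁ : IsIntegral A a₁)
    (m : ℕ)
    (e1 : π₁ ^ p = algebraMap A K₁ π + algebraMap A K₁ π ^ (m + 2) * a₀)
    (e2 : π₁ ^ p = algebraMap A K₁ π + π₁ ^ ((m + 2) * p) * a₁)
    (u : B) (πC : C) (hπC : πC ^ p = algebraMap B C (u * algebraMap A B π))
    (c : Fin p → B) (b : B)
    (hu : u = ∑ i, c i ^ p * (algebraMap A B π) ^ (i : ℕ) + b * (algebraMap A B π) ^ m)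
    (hb : ¬ ∃ d b', b = d ^ p + algebraMap A B π * b')
    (M' : Type u) [Field M'] [Algebra K M'] [Algebra M M'] [Algebra K₁ M'] [IsScalarTower K M M']
    [IsScalarTower K K₁ M']
    (hgen : Algebra.adjoin M (Set.range (algebraMap K₁ M')) = ⊤) (W : ValuationSubring M')
    (hW : EtRam.Dominates C ((algebraMap M M').comp (algebraMap C M)) W) :
    p ≤ Module.finrank M M' ∧
    (letI : Algebra (W.comap (algebraMap K₁ M')) W := (EtRam.inclOfComap W (algebraMap K₁ M')).toAlgebra
     EtRam.IsWeaklyUnramified (W.comap (algebraMap K₁ M')) W) := by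
  classical
  have hp0 : 0 < p := hp.out.pos
  haveI : FiniteDimensional K K₁ := Module.finite_of_finrank_pos (by rw [hK₁]; exact hp0)
  haveI : FiniteDimensional L M := Module.finite_of_finrank_pos (by rw [hdeg]; exact hp0)
  haveI : FiniteDimensional M M' := Sol1983.finite_L_M K M K₁ M' hgen
  have hfr : Module.finrank M M' ≤ p := hK₁ ▸ finrank_compositum_le K M K₁ M' hgen
  letI algLM' : Algebra L M' := ((algebraMap M M').comp (algebraMap L M)).toAlgebra
  haveI : IsScalarTower L M M' := IsScalarTower.of_algebraMap_eq (fun _ => rfl)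
  haveI : FiniteDimensional L M' := Module.Finite.trans M M'
  have hfLM' : Module.finrank L M' = p * Module.finrank M M' := by
    rw [← Module.finrank_mul_finrank L M M', hdeg]
  letI algBM' : Algebra B M' := ((algebraMap L M').comp (algebraMap B L)).toAlgebra
  haveI : IsScalarTower B L M' := IsScalarTower.of_algebraMap_eq (fun _ => rfl)
  -- compatibility of maps
  have hjB : ∀ x : B, ((algebraMap L M').comp (algebraMap B L)) x =
      ((algebraMap M M').comp (algebraMap C M)) (algebraMap B C x) := by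
    intro x
    show algebraMap M M' (algebraMap L M (algebraMap B L x)) =
      algebraMap M M' (algebraMap C M (algebraMap B C x))
    rw [← IsScalarTower.algebraMap_apply B L M, ← IsScalarTower.algebraMap_apply B C M]
  have hj₁ : ∀ a : A, algebraMap K₁ M' (algebraMap A K₁ a) =
      ((algebraMap L M').comp (algebraMap B L)) (algebraMap A B a) := by
    intro a
    rw [hjB]
    show algebraMap K₁ M' (algebraMap A K₁ a) =
      algebraMap M M' (algebraMap C M (algebraMap B C (algebraMap A B a)))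
    rw [← IsScalarTower.algebraMap_apply A B C, ← IsScalarTower.algebraMap_apply A C M,
      IsScalarTower.algebraMap_apply A K M, ← IsScalarTower.algebraMap_apply K M M',
      IsScalarTower.algebraMap_apply A K K₁, ← IsScalarTower.algebraMap_apply K K₁ M']
  have hWB : EtRam.Dominates B ((algebraMap L M').comp (algebraMap B L)) W := by
    refine ⟨fun x => ?_, fun x hx => ?_⟩
    · rw [hjB]; exact hW.1 _
    · rw [hjB]
      apply hW.2
      have hle : maximalIdeal B ≤ (maximalIdeal C).comap (algebraMap B C) :=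
        ((local_hom_TFAE (algebraMap B C)).out 0 3).mp ‹_›
      exact hle hx
  haveI hWdvr : IsDiscreteValuationRing W := ValFin.isDVR_of_dominates_finite W hWB
  letI algBW : Algebra B W :=
    (RingHom.codRestrict ((algebraMap L M').comp (algebraMap B L)) W hWB.1).toAlgebra
  haveI hlocBW : IsLocalHom (algebraMap B W) := isLocalHom_of_dominates B _ _ hWB
  haveI : IsScalarTower B W M' := IsScalarTower.of_algebraMap_eq (fun _ => rfl)
  have hinjBW : Function.Injective (algebraMap B W) := by
    intro x y hxy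
    have h1 : ((algebraMap L M').comp (algebraMap B L)) x = ((algebraMap L M').comp (algebraMap B L)) y :=
      congrArg Subtype.val hxy
    exact (IsFractionRing.injective B L) ((algebraMap L M').injective h1)
  obtain ⟨hfinres, hef⟩ := Groth.Agent.Lib.Helper12.DVRExt.finite_and_ramificationIdx_mul_finrank_le
    (A := B) (B := W) (K := L) (L := M') hinjBW
  -- uniformizers
  have hϖ : Irreducible (algebraMap A B π) := by
    rw [IsDiscreteValuationRing.irreducible_iff_uniformizer]
    rw [← hw, hπ, Ideal.map_span, Set.image_singleton]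
  obtain ⟨πW, hπW⟩ := IsDiscreteValuationRing.exists_irreducible W
  obtain ⟨he0, uW, huW⟩ := Sol1982.ramIdx_spec B W hinjBW (algebraMap A B π) hϖ πW hπW
  generalize Ideal.ramificationIdx' (maximalIdeal B) (maximalIdeal W) = e at hef he0 huW
  -- characteristic
  haveI : CharP M' p := charP_of_injective_algebraMap (algebraMap L M').injective p
  haveI : CharP W p := (RingHom.charP_iff W.subtype Subtype.val_injective p).mpr inferInstance
  letI algAM' : Algebra A M' := ((algebraMap B M').comp (algebraMap A B)).toAlgebra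
  haveI : IsScalarTower A K₁ M' := IsScalarTower.of_algebraMap_eq (fun a => (hj₁ a).symm)
  have hAW : ∀ a : A, algebraMap A M' a ∈ W := fun a => hWB.1 _
  have hintW : ∀ x : K₁, IsIntegral A x → algebraMap K₁ M' x ∈ W := fun x hx =>
    mem_of_isIntegral_of_le M' W hAW _ (hx.map (IsScalarTower.toAlgHom A K₁ M'))
  -- elements of W
  let Pw : W := ⟨algebraMap K₁ M' π₁, hintW _ hπ₁⟩
  let a₀w : W := ⟨algebraMap K₁ M' a₀, hintW _ ha₀⟩
  let a₁w : W := ⟨algebraMap K₁ M' a₁, hintW _ ha₁⟩
  let πCw : W := ⟨((algebraMap M M').comp (algebraMap C M)) πC, hW.1 πC⟩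
  have E1 : Pw ^ p = algebraMap B W (algebraMap A B π) +
      (algebraMap B W (algebraMap A B π)) ^ (m + 2) * a₀w := by
    apply Subtype.ext
    show (algebraMap K₁ M' π₁) ^ p = ((algebraMap L M').comp (algebraMap B L)) (algebraMap A B π) +
      (((algebraMap L M').comp (algebraMap B L)) (algebraMap A B π)) ^ (m + 2) * algebraMap K₁ M' a₀
    rw [← map_pow, e1, map_add, map_mul, map_pow, hj₁]
  have E2 : Pw ^ p = algebraMap B W (algebraMap A B π) + Pw ^ ((m + 2) * p) * a₁w := by
    apply Subtype.ext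
    show (algebraMap K₁ M' π₁) ^ p = ((algebraMap L M').comp (algebraMap B L)) (algebraMap A B π) +
      (algebraMap K₁ M' π₁) ^ ((m + 2) * p) * algebraMap K₁ M' a₁
    rw [← map_pow, e2, map_add, map_mul, map_pow, hj₁]
  have E3 : πCw ^ p = algebraMap B W u * algebraMap B W (algebraMap A B π) := by
    rw [← map_mul]
    apply Subtype.ext
    show (((algebraMap M M').comp (algebraMap C M)) πC) ^ p =
      ((algebraMap L M').comp (algebraMap B L)) (u * algebraMap A B π)
    rw [← map_pow, hπC, hjB]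
  have E4 : algebraMap B W u = ∑ i, (algebraMap B W (c i)) ^ p *
      (algebraMap B W (algebraMap A B π)) ^ (i : ℕ) +
      algebraMap B W b * (algebraMap B W (algebraMap A B π)) ^ m := by
    conv_lhs => rw [hu]
    simp only [map_add, map_sum, map_mul, map_pow]
  have h₁ : algebraMap B W (algebraMap A B π) = Pw ^ p - Pw ^ ((m + 2) * p) * a₁w := by
    rw [E2]; ring
  obtain ⟨b₂, hb₂⟩ := ring_comp p Pw a₁w (algebraMap B W (algebraMap A B π)) (algebraMap B W u) πCw
    (algebraMap B W b) (fun i => algebraMap B W (c i)) m h₁ E3 E4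
  -- P is in the maximal ideal
  have hϖm : algebraMap B W (algebraMap A B π) ∈ maximalIdeal W := by
    have hle : maximalIdeal B ≤ (maximalIdeal W).comap (algebraMap B W) :=
      ((local_hom_TFAE (algebraMap B W)).out 0 3).mp hlocBW
    exact hle hϖ.not_isUnit
  have hPm : Pw ∈ maximalIdeal W := by
    have h1 : Pw ^ p ∈ maximalIdeal W := by
      rw [E1]
      exact Ideal.add_mem _ hϖm (Ideal.mul_mem_right _ _ (Ideal.pow_mem_of_mem _ hϖm _ (by omega)))
    exact (Ideal.IsPrime.mem_of_pow_mem inferInstance p h1)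
  have hϖW0 : algebraMap B W (algebraMap A B π) ≠ 0 := fun h0 =>
    hϖ.ne_zero (hinjBW (h0.trans (map_zero _).symm))
  have hP0 : Pw ≠ 0 := by
    intro h0
    apply hϖW0
    rw [h₁, h0, zero_pow hp0.ne', zero_pow (by positivity), zero_mul, sub_zero]
  have hP0' : (Pw : M') ≠ 0 := fun h0 => hP0 (Subtype.ext h0)
  -- the element z
  generalize hXdef : πCw - ∑ i, algebraMap B W (c i) * Pw ^ ((i : ℕ) + 1) = Xw at hb₂
  generalize hYdef : algebraMap B W b + Pw ^ p * b₂ = Yw at hb₂
  have hb₂' : (Xw : M') ^ p = (Pw : M') ^ (p * (m + 1)) * (Yw : M') := by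
    exact_mod_cast congrArg Subtype.val hb₂
  have hz : ((Xw : M') / (Pw : M') ^ (m + 1)) ^ p = (Yw : M') := by
    rw [div_pow, hb₂', ← pow_mul, mul_comm (m + 1) p, mul_comm, mul_div_assoc,
      div_self (pow_ne_zero _ hP0'), mul_one]
  have hzW : (Xw : M') / (Pw : M') ^ (m + 1) ∈ W :=
    TameBC.mem_of_pow_mem W _ p hp0.ne' (hz ▸ Yw.2)
  obtain ⟨zw, hzw⟩ : ∃ zw : W, zw ^ p = algebraMap B W b + Pw ^ p * b₂ :=
    ⟨⟨_, hzW⟩, by rw [hYdef]; exact Subtype.ext hz⟩
  -- residue degree
  have hres : (residue W zw) ^ p =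
      algebraMap (ResidueField B) (ResidueField W) (residue B b) := by
    rw [← map_pow, hzw, map_add, map_mul, map_pow, (residue_eq_zero_iff Pw).mpr hPm,
      zero_pow hp0.ne', zero_mul, add_zero]
    rfl
  have hirr : Irreducible (X ^ p - Polynomial.C (residue B b) : (ResidueField B)[X]) := by
    apply X_pow_sub_C_irreducible_of_prime hp.out
    intro dbar hd
    obtain ⟨d, rfl⟩ := residue_surjective dbar
    apply hb
    rw [← map_pow, eq_comm, ← sub_eq_zero, ← map_sub, residue_eq_zero_iff,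
      (IsDiscreteValuationRing.irreducible_iff_uniformizer _).mp hϖ, Ideal.mem_span_singleton'] at hd
    obtain ⟨b', hb'⟩ := hd
    exact ⟨d, b', by rw [mul_comm, hb']; ring⟩
  have hmin : minpoly (ResidueField B) (residue W zw) = X ^ p - Polynomial.C (residue B b) := by
    refine (minpoly.eq_of_irreducible_of_monic hirr ?_ (monic_X_pow_sub_C _ hp0.ne')).symm
    rw [map_sub, map_pow, aeval_X, aeval_C, hres, sub_self]
  have hf : p ≤ Module.finrank (ResidueField B) (ResidueField W) := by
    have := minpoly.natDegree_le (A := ResidueField B) (residue W zw)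
    rwa [hmin, natDegree_X_pow_sub_C] at this
  -- ramification
  obtain ⟨e₁, vW, hv⟩ := IsDiscreteValuationRing.eq_unit_mul_pow_irreducible hP0 hπW
  have he₁ : e₁ ≠ 0 := by
    rintro rfl
    rw [pow_zero, mul_one] at hv
    exact hPm (hv ▸ vW.isUnit)
  have hunit : IsUnit (1 - Pw ^ ((m + 1) * p) * a₁w) := by
    have hmem : Pw ^ ((m + 1) * p) * a₁w ∈ maximalIdeal W :=
      Ideal.mul_mem_right _ _ (Ideal.pow_mem_of_mem _ hPm _ (by positivity))
    exact isUnit_one_sub_self_of_mem_nonunits _ hmem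
  obtain ⟨w', hw'⟩ := hunit
  have hcmp : (uW : W) * πW ^ e = ((w' * vW ^ p : Wˣ) : W) * πW ^ (e₁ * p) := by
    rw [← huW, h₁]
    push_cast
    rw [hw', hv]
    ring
  have hee : e = e₁ * p := IsDiscreteValuationRing.unit_mul_pow_congr_pow hπW hπW _ _ _ _ hcmp
  have h1 : e₁ * p * p ≤ p * Module.finrank M M' := by
    calc e₁ * p * p ≤ e₁ * p * Module.finrank (ResidueField B) (ResidueField W) :=
          Nat.mul_le_mul_left _ hf
      _ ≤ Module.finrank L M' := hee ▸ hef
      _ = p * Module.finrank M M' := hfLM'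
  have h2 : e₁ * p ≤ Module.finrank M M' := by
    have h1' : p * (e₁ * p) ≤ p * Module.finrank M M' := by
      calc p * (e₁ * p) = e₁ * p * p := by ring
        _ ≤ _ := h1
    exact Nat.le_of_mul_le_mul_left h1' hp0
  have h3 : e₁ = 1 := by
    have h4 : e₁ * p ≤ 1 * p := by rw [one_mul]; exact h2.trans hfr
    have h5 := Nat.le_of_mul_le_mul_right h4 hp0
    omega
  refine ⟨by rw [h3, one_mul] at h2; exact h2, ?_⟩
  have hmW : maximalIdeal W = Ideal.span {Pw} := by
    rw [(IsDiscreteValuationRing.irreducible_iff_uniformizer πW).mp hπW, hv, h3, pow_one]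
    exact Ideal.span_singleton_eq_span_singleton.mpr ⟨vW, by rw [mul_comm]⟩
  letI : Algebra (W.comap (algebraMap K₁ M')) W := (EtRam.inclOfComap W (algebraMap K₁ M')).toAlgebra
  show Ideal.map (EtRam.inclOfComap W (algebraMap K₁ M')) (maximalIdeal (W.comap (algebraMap K₁ M'))) =
    maximalIdeal W
  apply le_antisymm
  · exact ((local_hom_TFAE (EtRam.inclOfComap W (algebraMap K₁ M'))).out 0 2).mp
      (EtRam.isLocalHom_inclOfComap _ _)
  · rw [hmW, Ideal.span_singleton_le_iff_mem]
    have hPe : Pw = EtRam.inclOfComap W (algebraMap K₁ M') ⟨π₁, Pw.2⟩ := Subtype.ext rfl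
    rw [hPe]
    apply Ideal.mem_map_of_mem
    rw [mem_maximalIdeal, mem_nonunits_iff]
    intro hunit'
    have := hunit'.map (EtRam.inclOfComap W (algebraMap K₁ M'))
    rw [← hPe] at this
    exact hPm this


end Core

end Groth.Agent.Lib.Helper26.Ep56B
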