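import Mathlib
import Groth.Prelude.Def_EtRam
import Groth.Prelude.Def_Found
import Groth.Agent.Lib.Helper26.Ep56A
import Groth.Agent.Lib.Helper26.Ep56B
import Groth.Agent.Lib.Helper26.EisGen
import Groth.Agent.Lib.Helper26.TotRam

set_option autoImplicit false
set_option linter.unusedVariables false
set_option linter.style.haveILetI false
set_option linter.unusedSectionVars false
set_option linter.unusedSimpArgs false

universe u

namespace Groth.Agent.Lib.Helper26.Ep56C

open IsLocalRing Polynomial TensorProduct Groth.Agent.Lib.Helper26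

section Main

variable (p : ℕ) (hp : p.Prime) (A B C K L M : Type u)
    [CommRing A] [IsDomain A] [IsDiscreteValuationRing A] [CommRing B] [IsDomain B] [IsDiscreteValuationRing B]
    [CommRing C] [IsDomain C] [IsDiscreteValuationRing C]
    [Algebra A B] [Algebra B C] [Algebra A C] [IsScalarTower A B C]
    [IsLocalHom (algebraMap A B)] [IsLocalHom (algebraMap B C)]
    [Field K] [Field L] [Field M] [Algebra A K] [IsFractionRing A K] [Algebra B L] [IsFractionRing B L]
    [Algebra C M] [IsFractionRing C M] [Algebra K L] [Algebra L M] [Algebra K M] [IsScalarTower K L M]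
    [Algebra A L] [IsScalarTower A K L] [IsScalarTower A B L] [Algebra B M] [IsScalarTower B L M] [IsScalarTower B C M]
    [Algebra A M] [IsScalarTower A K M] [IsScalarTower A C M]

include hp in
theorem third_case (hAB : Function.Injective (algebraMap A B)) (hBC : Function.Injective (algebraMap B C))
    (π : A) (hπ : maximalIdeal A = Ideal.span {π}) (hw : EtRam.IsWeaklyUnramified A B)
    [CharP L p] (hdeg : Module.finrank L M = p)
    (u : B) (πC : C) (hπC : πC ^ p = algebraMap B C (u * algebraMap A B π))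
    (c : Fin p → B) (b : B) (m : ℕ)
    (hu : u = ∑ i, c i ^ p * (algebraMap A B π) ^ (i : ℕ) + b * (algebraMap A B π) ^ m)
    (hb : ¬ ∃ d b', b = d ^ p + algebraMap A B π * b') :
    ∃ (K₁ : Type u) (_ : Field K₁) (_ : Algebra K K₁),
        Module.finrank K K₁ = p ∧ Algebra.IsSeparable K K₁ ∧
          EtRam.IsTotallyRamified A ((algebraMap K K₁).comp (algebraMap A K)) ∧
          IsField (L ⊗[K] K₁) ∧ IsField (M ⊗[K] K₁) ∧
          EtRam.IsWeakSolution B K L K₁ ∧ EtRam.IsWeakSolution C K M K₁ := by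
  classical
  haveI : Fact p.Prime := ⟨hp⟩
  have hp0 : 0 < p := hp.pos
  -- characteristic of the residue field of `A`
  have hinjAL : Function.Injective (algebraMap A L) := by
    rw [IsScalarTower.algebraMap_eq A K L]
    exact (algebraMap K L).injective.comp (IsFractionRing.injective A K)
  haveI : CharP A p := (RingHom.charP_iff (algebraMap A L) hinjAL p).mpr inferInstance
  haveI : CharP (ResidueField A) p := by
    have h0 : ((p : ℕ) : ResidueField A) = 0 := by
      have : ((p : ℕ) : A) = 0 := CharP.cast_eq_zero A p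
      rw [← map_natCast (residue A), this, map_zero]
    exact ringChar.of_eq (CharP.ringChar_of_prime_eq_zero hp h0)
  obtain ⟨K₁, fK₁, aKK₁, aAK₁, tow, hfin, hsep, htot, π₁, a₀, a₁, hπ₁, ha₀, ha₁, e1, e2⟩ :=
    EisGen.main_7157 p hp A K π hπ (m + 2) (by omega) 1
  rw [pow_one] at hfin e1 e2
  haveI : FiniteDimensional K K₁ := Module.finite_of_finrank_pos (by rw [hfin]; exact hp0)
  have htot' : EtRam.IsTotallyRamified A ((algebraMap K K₁).comp (algebraMap A K)) := by
    rw [← IsScalarTower.algebraMap_eq A K K₁]; exact htot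
  obtain ⟨hfL, hsolB⟩ := TotRam.main_1984 A B K L K₁ hAB hw htot'
  -- the core
  have hcore := fun (M' : Type u) [Field M'] [Algebra K M'] [Algebra M M'] [Algebra K₁ M']
      [IsScalarTower K M M'] [IsScalarTower K K₁ M']
      (hgen : Algebra.adjoin M (Set.range (algebraMap K₁ M')) = ⊤) (W : ValuationSubring M')
      (hW : EtRam.Dominates C ((algebraMap M M').comp (algebraMap C M)) W) =>
    Ep56B.core p A B C K L M hAB hBC π hπ hw hdeg K₁ hfin π₁ a₀ a₁ hπ₁ ha₀ ha₁ m e1 e2 u πC hπC c b hu hb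
      M' hgen W hW
  refine ⟨K₁, fK₁, aKK₁, hfin, hsep, htot', hfL, ?_, hsolB, ?_⟩
  · -- `M ⊗ K₁` is a field
    haveI : Nontrivial (M ⊗[K] K₁) :=
      (Algebra.TensorProduct.includeLeft_injective (R := K) (S := K) (A := M) (B := K₁)
        (algebraMap K K₁).injective).nontrivial
    obtain ⟨𝔫, h𝔫⟩ := Ideal.exists_maximal (M ⊗[K] K₁)
    letI : Field ((M ⊗[K] K₁) ⧸ 𝔫) := Ideal.Quotient.field 𝔫
    letI algK₁ : Algebra K₁ ((M ⊗[K] K₁) ⧸ 𝔫) :=
      ((Ideal.Quotient.mk 𝔫).comp
        (Algebra.TensorProduct.includeRight : K₁ →ₐ[K] M ⊗[K] K₁).toRingHom).toAlgebra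
    haveI : IsScalarTower K K₁ ((M ⊗[K] K₁) ⧸ 𝔫) := IsScalarTower.of_algebraMap_eq (fun k => by
      show Ideal.Quotient.mk 𝔫 (algebraMap K (M ⊗[K] K₁) k) =
        Ideal.Quotient.mk 𝔫 ((1 : M) ⊗ₜ[K] (algebraMap K K₁ k))
      rw [Algebra.TensorProduct.algebraMap_apply, Algebra.algebraMap_eq_smul_one,
        Algebra.algebraMap_eq_smul_one, TensorProduct.smul_tmul])
    have hgen : Algebra.adjoin M (Set.range (algebraMap K₁ ((M ⊗[K] K₁) ⧸ 𝔫))) = ⊤ := by
      rw [eq_top_iff]
      intro z hz
      clear hz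
      obtain ⟨t, rfl⟩ := Ideal.Quotient.mk_surjective z
      induction t using TensorProduct.induction_on with
      | zero => rw [map_zero]; exact Subalgebra.zero_mem _
      | tmul l k =>
        have : Ideal.Quotient.mk 𝔫 (l ⊗ₜ[K] k) =
            l • (algebraMap K₁ ((M ⊗[K] K₁) ⧸ 𝔫) k) := by
          show _ = l • Ideal.Quotient.mk 𝔫 ((1 : M) ⊗ₜ[K] k)
          rw [Algebra.smul_def,
            IsScalarTower.algebraMap_apply M (M ⊗[K] K₁) ((M ⊗[K] K₁) ⧸ 𝔫),
            Ideal.Quotient.algebraMap_eq, ← map_mul, Algebra.TensorProduct.algebraMap_apply,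
            Algebra.TensorProduct.tmul_mul_tmul, mul_one, one_mul]
          rfl
        rw [this]
        exact Subalgebra.smul_mem _ (Algebra.subset_adjoin (Set.mem_range_self k)) l
      | add x y hx hy => rw [map_add]; exact Subalgebra.add_mem _ hx hy
    have hinjC : Function.Injective ((algebraMap M ((M ⊗[K] K₁) ⧸ 𝔫)).comp (algebraMap C M)) :=
      (algebraMap M ((M ⊗[K] K₁) ⧸ 𝔫)).injective.comp (IsFractionRing.injective C M)
    obtain ⟨W, hW1, hW2⟩ := TotRam.exists_valuationSubring_of_prime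
      ((algebraMap M ((M ⊗[K] K₁) ⧸ 𝔫)).comp (algebraMap C M)) (maximalIdeal C)
      (fun r hr => by
        have : r = 0 := hinjC (hr.trans (map_zero _).symm)
        rw [this]; exact Ideal.zero_mem _)
    have hW : EtRam.Dominates C ((algebraMap M ((M ⊗[K] K₁) ⧸ 𝔫)).comp (algebraMap C M)) W :=
      ⟨hW1, fun c hc => (ValuationSubring.mem_nonunits_iff W).mp (hW2 c hc)⟩
    have hle := (hcore _ hgen W hW).1
    have hfT : Module.finrank M (M ⊗[K] K₁) = p := by rw [Module.finrank_baseChange, hfin]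
    have hqs : Function.Surjective (Ideal.Quotient.mkₐ M 𝔫).toLinearMap :=
      Ideal.Quotient.mk_surjective
    have hqi : Function.Injective (Ideal.Quotient.mkₐ M 𝔫).toLinearMap := by
      have h1 := LinearMap.finrank_le_finrank_of_surjective hqs
      have heq : Module.finrank M (M ⊗[K] K₁) = Module.finrank M ((M ⊗[K] K₁) ⧸ 𝔫) := by omega
      exact (LinearMap.injective_iff_surjective_of_finrank_eq_finrank heq).mpr hqs
    have h𝔫bot : 𝔫 = ⊥ := by
      rw [eq_bot_iff]
      intro x hx
      rw [Ideal.mem_bot]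
      apply hqi
      rw [map_zero]
      exact Ideal.Quotient.eq_zero_iff_mem.mpr hx
    rw [h𝔫bot] at h𝔫
    exact Ring.isField_iff_maximal_bot.mpr h𝔫
  · intro M' _ _ _ _ _ _ hgen W hW
    exact (hcore M' hgen W hW).2

include hp in
theorem main_7156 (hAB : Function.Injective (algebraMap A B)) (hBC : Function.Injective (algebraMap B C))
    (π : A) (hπ : maximalIdeal A = Ideal.span {π}) (hB : CAlg.IsNagata B)
    (hw : EtRam.IsWeaklyUnramified A B) [IsPurelyInseparable L M] (hdeg : Module.finrank L M = p) :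
    EtRam.IsWeaklyUnramified A C ∨
      (∃ c : C, c ^ p = algebraMap A C π ∧ Algebra.adjoin B {c} = ⊤) ∨
      ∃ (K₁ : Type u) (_ : Field K₁) (_ : Algebra K K₁),
        Module.finrank K K₁ = p ∧ Algebra.IsSeparable K K₁ ∧
          EtRam.IsTotallyRamified A ((algebraMap K K₁).comp (algebraMap A K)) ∧
          IsField (L ⊗[K] K₁) ∧ IsField (M ⊗[K] K₁) ∧
          EtRam.IsWeakSolution B K L K₁ ∧ EtRam.IsWeakSolution C K M K₁ := by
  haveI : Fact p.Prime := ⟨hp⟩
  haveI : CharP L p := Ep56A.charP_of_purelyInsep p hp L M hdeg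
  rcases Ep56A.dichotomy p hp A B C L M hAB hBC π hπ hw hdeg with h | ⟨πC, u, w, hπCirr, hπC, hπw⟩
  · exact Or.inl h
  right
  have hinjBL := IsFractionRing.injective B L
  haveI : CharP B p := (RingHom.charP_iff (algebraMap B L) hinjBL p).mpr inferInstance
  have hϖ : Irreducible (algebraMap A B π) := by
    rw [IsDiscreteValuationRing.irreducible_iff_uniformizer]
    rw [← hw, hπ, Ideal.map_span, Set.image_singleton]
  rcases Ep56A.approx_dichotomy p (algebraMap A B π) (u : B) with ⟨m, b, ⟨c, hc⟩, hb⟩ | hall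
  · right
    exact third_case p hp A B C K L M hAB hBC π hπ hw hdeg u πC hπC c b m hc hb
  · left
    obtain ⟨d, hd⟩ := Ep56A.closed_eq B L p hB (algebraMap A B π) u hϖ.not_isUnit hϖ.ne_zero hall
    have hnot : ∀ y : L, algebraMap L M y ≠ algebraMap C M πC := by
      intro y hy
      obtain ⟨b₀, hb₀⟩ := Ep56A.mem_B_of_mem_C B C L M y πC hy
      have hπCb : πC = algebraMap B C b₀ := by
        apply IsFractionRing.injective C M
        rw [← hy, ← hb₀, ← IsScalarTower.algebraMap_apply, ← IsScalarTower.algebraMap_apply]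
      have hb₀n : ¬ IsUnit b₀ := fun hu => hπCirr.not_isUnit (hπCb ▸ hu.map _)
      have hb₀m : b₀ ∈ maximalIdeal B := hb₀n
      rw [(IsDiscreteValuationRing.irreducible_iff_uniformizer _).mp hϖ,
        Ideal.mem_span_singleton'] at hb₀m
      obtain ⟨b₁, hb₁⟩ := hb₀m
      have h2 : πC = algebraMap B C b₁ * ((w : C) * πC ^ p) := by
        rw [← hπw, IsScalarTower.algebraMap_apply A B C, ← map_mul, hb₁, hπCb]
      obtain ⟨k, hk⟩ : ∃ k, p = k + 2 := ⟨p - 2, by have := hp.two_le; omega⟩
      have h3 : πC * 1 = πC * (algebraMap B C b₁ * w * πC ^ (k + 1)) := by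
        rw [mul_one]
        conv_lhs => rw [h2, hk]
        ring
      have h4 := mul_left_cancel₀ hπCirr.ne_zero h3
      have h5 : IsUnit (πC ^ (k + 1)) :=
        IsUnit.of_mul_eq_one (algebraMap B C b₁ * w) (by rw [mul_comm]; exact h4.symm)
      exact hπCirr.not_isUnit ((isUnit_pow_iff (by omega)).mp h5)
    obtain ⟨c, hc⟩ := Ep56A.exists_root B C L M p hdeg (algebraMap A B π) u πC hnot hπC d hd
    exact ⟨c, by rw [hc, ← IsScalarTower.algebraMap_apply],
      Ep56A.adjoin_eq_top B C L M p hp.pos hdeg _ hϖ c hc⟩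

end Main

end Groth.Agent.Lib.Helper26.Ep56C
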