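import Mathlib
import Groth.Prelude.Def_EtRam
import Groth.Prelude.Def_Found
import Groth.Agent.Lib.Helper26.Ep51D
import Groth.Agent.Lib.Helper1.NormalField2

set_option autoImplicit false
set_option linter.unusedVariables false
set_option linter.style.haveILetI false
set_option linter.unusedSectionVars false
set_option linter.unusedSimpArgs false

universe u

namespace Groth.Agent.Lib.Helper26.Ep86

open IsLocalRing Polynomial

section Step

/-- an element of a purely inseparable extension outside the base whose `p`-th power is in the base -/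
theorem exists_root_elt (p : ℕ) [hp : Fact p.Prime] (K₁ K₂ : Type u) [Field K₁] [Field K₂]
    [Algebra K₁ K₂] [CharP K₁ p] [IsPurelyInseparable K₁ K₂]
    (hne : ∃ a₀ : K₂, a₀ ∉ Set.range (algebraMap K₁ K₂)) :
    ∃ a : K₂, a ∉ Set.range (algebraMap K₁ K₂) ∧ a ^ p ∈ Set.range (algebraMap K₁ K₂) := by
  classical
  haveI : ExpChar K₁ p := ExpChar.prime hp.out
  obtain ⟨a₀, ha₀⟩ := hne
  have hex : ∃ n, a₀ ^ p ^ n ∈ Set.range (algebraMap K₁ K₂) := IsPurelyInseparable.pow_mem K₁ p a₀
  have hn0 : Nat.find hex ≠ 0 := by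
    intro h0
    have := Nat.find_spec hex
    rw [h0, pow_zero, pow_one] at this
    exact ha₀ this
  obtain ⟨m, hm⟩ := Nat.exists_eq_succ_of_ne_zero hn0
  refine ⟨a₀ ^ p ^ m, ?_, ?_⟩
  · intro h
    have := Nat.find_min hex (m := m) (by omega)
    exact this h
  · have := Nat.find_spec hex
    rw [hm, pow_succ, pow_mul] at this
    exact this

end Step

section Induction

variable (p : ℕ) (hp : p.Prime) (A B K L : Type u)
    [CommRing A] [IsDomain A] [IsDiscreteValuationRing A] [CommRing B] [IsDomain B]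
    [IsDiscreteValuationRing B]
    [Algebra A B] [IsLocalHom (algebraMap A B)]
    [Field K] [Field L] [Algebra A K] [IsFractionRing A K] [Algebra B L] [IsFractionRing B L]
    [Algebra K L] [Algebra A L] [IsScalarTower A K L] [IsScalarTower A B L] [CharP K p]
    [Algebra.IsGeometricallyReduced K L]

include hp in
theorem induction_step (hinj : Function.Injective (algebraMap A B)) (hB : CAlg.IsNagata B) :
    ∀ (n : ℕ) (K₁ K₂ : Type u) [Field K₁] [Field K₂] [Algebra K K₁] [Algebra K K₂] [Algebra K₁ K₂]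
    [IsScalarTower K K₁ K₂] [FiniteDimensional K K₁] [FiniteDimensional K₁ K₂]
    [IsPurelyInseparable K₁ K₂],
    Module.finrank K₁ K₂ = p ^ n → EtRam.IsSolution B K L K₂ →
    ∃ (K₃ : Type u) (_ : Field K₃) (_ : Algebra K K₃) (_ : Algebra K₁ K₃) (_ : IsScalarTower K K₁ K₃),
      FiniteDimensional K₁ K₃ ∧ Algebra.IsSeparable K₁ K₃ ∧ EtRam.IsSolution B K L K₃ := by
  haveI : Fact p.Prime := ⟨hp⟩
  intro n
  induction n with
  | zero =>
    intro K₁ K₂ _ _ _ _ _ _ _ _ _ hdeg hsol
    rw [pow_zero] at hdeg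
    refine ⟨K₂, inferInstance, inferInstance, inferInstance, inferInstance, inferInstance, ?_, hsol⟩
    have h1 : (⊥ : Subalgebra K₁ K₂) = ⊤ := Subalgebra.bot_eq_top_iff_finrank_eq_one.mpr hdeg
    refine ⟨fun x => ?_⟩
    have hx : x ∈ (⊥ : Subalgebra K₁ K₂) := h1 ▸ Algebra.mem_top
    rw [Algebra.mem_bot] at hx
    obtain ⟨c, rfl⟩ := hx
    exact isSeparable_algebraMap c
  | succ n ih =>
    intro K₁ K₂ _ _ _ _ _ _ _ _ _ hdeg hsol
    classical
    haveI : CharP K₁ p := charP_of_injective_algebraMap (algebraMap K K₁).injective p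
    haveI : CharP K₂ p := charP_of_injective_algebraMap (algebraMap K K₂).injective p
    have hp0 : 0 < p := hp.pos
    -- an element outside K₁
    have hne : ∃ a₀ : K₂, a₀ ∉ Set.range (algebraMap K₁ K₂) := by
      by_contra h
      push Not at h
      have h1 : (⊥ : Subalgebra K₁ K₂) = ⊤ := by
        rw [eq_top_iff]
        intro z _
        rw [Algebra.mem_bot]; exact h z
      rw [Subalgebra.bot_eq_top_iff_finrank_eq_one, hdeg] at h1
      have : 1 < p ^ (n + 1) := Nat.one_lt_pow (by omega) hp.one_lt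
      omega
    obtain ⟨a, han, ⟨c, hc⟩⟩ := exists_root_elt p K₁ K₂ hne
    -- the intermediate field
    have hirr : Irreducible (X ^ p - C c : K₁[X]) := by
      apply X_pow_sub_C_irreducible_of_prime hp
      intro b hb
      apply han
      refine ⟨b, ?_⟩
      apply frobenius_inj K₂ p
      rw [frobenius_def, frobenius_def, ← map_pow, hb, hc]
    have hmin : minpoly K₁ a = X ^ p - C c := by
      refine (minpoly.eq_of_irreducible_of_monic hirr ?_ (monic_X_pow_sub_C _ hp0.ne')).symm
      rw [map_sub, map_pow, aeval_X, aeval_C, hc, sub_self]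
    have haint : IsIntegral K₁ a := Algebra.IsIntegral.isIntegral a
    obtain ⟨E, hE⟩ : ∃ E : IntermediateField K₁ K₂, E = IntermediateField.adjoin K₁ {a} := ⟨_, rfl⟩
    have hEdeg : Module.finrank K₁ E = p := by
      rw [hE, IntermediateField.adjoin.finrank haint, hmin, natDegree_X_pow_sub_C]
    have hE₂deg : Module.finrank E K₂ = p ^ n := by
      have h1 := Module.finrank_mul_finrank K₁ E K₂
      rw [hEdeg, hdeg, pow_succ, mul_comm] at h1
      exact Nat.eq_of_mul_eq_mul_right hp0 h1
    haveI : IsScalarTower K E K₂ := IsScalarTower.of_algebraMap_eq (fun x => rfl)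
    haveI : FiniteDimensional K E := Module.Finite.trans K₁ E
    haveI : IsPurelyInseparable E K₂ := IsPurelyInseparable.tower_top K₁ E K₂
    haveI : IsPurelyInseparable K₁ E := IsPurelyInseparable.tower_bot K₁ E K₂
    obtain ⟨K₃', iF, iA, iAE, iT, hfin', hsep', hsol'⟩ := ih E K₂ hE₂deg hsol
    -- K₃' over K₁
    letI algK₁K₃' : Algebra K₁ K₃' := ((algebraMap E K₃').comp (algebraMap K₁ E)).toAlgebra
    haveI : IsScalarTower K₁ E K₃' := IsScalarTower.of_algebraMap_eq (fun _ => rfl)
    haveI : IsScalarTower K K₁ K₃' := IsScalarTower.of_algebraMap_eq (fun x => by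
      rw [IsScalarTower.algebraMap_apply K E K₃', IsScalarTower.algebraMap_apply K K₁ E]; rfl)
    haveI : FiniteDimensional K₁ K₃' := Module.Finite.trans E K₃'
    haveI : FiniteDimensional K K₃' := Module.Finite.trans K₁ K₃'
    -- separable closure
    obtain ⟨S, hS⟩ : ∃ S : IntermediateField K₁ K₃', S = separableClosure K₁ K₃' := ⟨_, rfl⟩
    haveI : IsPurelyInseparable S K₃' := by rw [hS]; infer_instance
    haveI : Algebra.IsSeparable K₁ S := by rw [hS]; infer_instance
    have hSdeg : Module.finrank S K₃' = p := by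
      have h1 : Module.finrank S K₃' = Field.finInsepDegree K₁ K₃' := by rw [hS]; rfl
      have h2 := Field.finInsepDegree_mul_finInsepDegree_of_isAlgebraic K₁ E K₃'
      rw [IsPurelyInseparable.finInsepDegree_eq, Algebra.IsSeparable.finInsepDegree_eq, mul_one,
        hEdeg] at h2
      rw [h1, ← h2]
    haveI : IsScalarTower K S K₃' := IsScalarTower.of_algebraMap_eq (fun x => rfl)
    haveI : FiniteDimensional K S := Module.Finite.trans K₁ S
    obtain ⟨K₄, jF, jA, jAS, jT, hfin₄, hsep₄, hsol₄⟩ :=
      Ep51D.main_7151 p hp A B K L hinj hB S K₃' hsol' hSdeg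
    letI algK₁K₄ : Algebra K₁ K₄ := ((algebraMap S K₄).comp (algebraMap K₁ S)).toAlgebra
    haveI : IsScalarTower K₁ S K₄ := IsScalarTower.of_algebraMap_eq (fun _ => rfl)
    haveI hT : IsScalarTower K K₁ K₄ := IsScalarTower.of_algebraMap_eq (fun x => by
      rw [IsScalarTower.algebraMap_apply K S K₄, IsScalarTower.algebraMap_apply K K₁ S]; rfl)
    refine ⟨K₄, jF, jA, algK₁K₄, hT, Module.Finite.trans S K₄, Algebra.IsSeparable.trans K₁ S K₄, hsol₄⟩

end Induction

section Main

theorem main_1986 (A B K L : Type u) [CommRing A] [IsDomain A] [IsDiscreteValuationRing A]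
    [CommRing B] [IsDomain B] [IsDiscreteValuationRing B] [Algebra A B] [IsLocalHom (algebraMap A B)]
    (hinj : Function.Injective (algebraMap A B))
    [Field K] [Field L] [Algebra A K] [IsFractionRing A K] [Algebra B L] [IsFractionRing B L]
    [Algebra K L] [Algebra A L] [IsScalarTower A K L] [IsScalarTower A B L] [Algebra.IsSeparable K L]
    (hB : CAlg.IsNagata B)
    (K₂ : Type u) [Field K₂] [Algebra K K₂] [FiniteDimensional K K₂]
    (h₂ : EtRam.IsSolution B K L K₂) :
    ∃ (K₃ : Type u) (_ : Field K₃) (_ : Algebra K K₃) (_ : FiniteDimensional K K₃)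
      (_ : Algebra.IsSeparable K K₃), EtRam.IsSolution B K L K₃ := by
  haveI : Algebra.IsGeometricallyReduced K L :=
    Groth.Agent.Lib.Helper1.NormalField.isGeometricallyReduced_of_isSeparable K L
  obtain ⟨q, hq⟩ := ExpChar.exists K
  cases hq with
  | zero =>
    haveI : Algebra.IsSeparable K K₂ := inferInstance
    exact ⟨K₂, inferInstance, inferInstance, inferInstance, inferInstance, h₂⟩
  | prime hq' =>
    obtain ⟨S, hS⟩ : ∃ S : IntermediateField K K₂, S = separableClosure K K₂ := ⟨_, rfl⟩
    haveI : IsPurelyInseparable S K₂ := by rw [hS]; infer_instance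
    haveI : Algebra.IsSeparable K S := by rw [hS]; infer_instance
    haveI : ExpChar K q := ExpChar.prime hq'
    haveI : ExpChar S q := expChar_of_injective_algebraMap (algebraMap K S).injective q
    obtain ⟨n, hn⟩ := IsPurelyInseparable.finrank_eq_pow S K₂ q
    obtain ⟨K₃, iF, iA, iAS, iT, hfin, hsep, hsol⟩ :=
      induction_step q hq' A B K L hinj hB n S K₂ hn h₂
    exact ⟨K₃, iF, iA, Module.Finite.trans S K₃, Algebra.IsSeparable.trans K S K₃, hsol⟩

end Main

end Groth.Agent.Lib.Helper26.Ep86
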