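import Mathlib
import Groth.Agent.Lib.Helper3.PowerSeriesAut

/-!
# Equivariant nodes, part A (helper26, for S14084)
power series facts: primes `X 0`, `X 1`, the standard node algebra `k[[x,y]]/(xy)`, an eigenvector lemma,
and the linear change of coordinates to `k[[x,y]]/(y^2-x^2)`.
-/

set_option autoImplicit false
open IsLocalRing MvPowerSeries

namespace Groth.Agent.Lib.Helper26.EqNodeA

universe u

section PS

variable (k : Type u) [Field k]

/-- the power series ring in two variables -/
abbrev PP := MvPowerSeries (Fin 2) k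

instance isDomain_mvPowerSeries (σ : Type*) : IsDomain (MvPowerSeries σ k) :=
  NoZeroDivisors.to_isDomain _

theorem prime_X0 : Prime (X 0 : PP k) := by
  have h : Prime ((MvPowerSeries.finSuccEquiv k 1) (X 0 : PP k)) := by
    rw [MvPowerSeries.finSuccEquiv_X_zero]
    exact PowerSeries.X_prime
  exact (MulEquiv.prime_iff (MvPowerSeries.finSuccEquiv k 1).toMulEquiv).mp h

/-- the swap substitution -/
noncomputable def swapFam : Fin 2 → PP k := ![X 1, X 0]

theorem swapFam_const (s : Fin 2) : constantCoeff (swapFam k s) = 0 := by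
  fin_cases s <;> simp [swapFam]

theorem swapFam_span : Ideal.span (Set.range (swapFam k)) =
    Ideal.span (Set.range (X : Fin 2 → PP k)) := by
  apply le_antisymm
  · rw [Ideal.span_le]
    rintro _ ⟨s, rfl⟩
    fin_cases s
    · exact Ideal.subset_span ⟨1, rfl⟩
    · exact Ideal.subset_span ⟨0, rfl⟩
  · rw [Ideal.span_le]
    rintro _ ⟨s, rfl⟩
    fin_cases s
    · exact Ideal.subset_span ⟨1, rfl⟩
    · exact Ideal.subset_span ⟨0, rfl⟩

theorem prime_X1 : Prime (X 1 : PP k) := by
  have ha : HasSubst (swapFam k) := hasSubst_of_constantCoeff_zero (swapFam_const k)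
  have hbij := Groth.Agent.Lib.Helper3.subst_bijective_of_span_eq (swapFam k)
    (swapFam_const k) (swapFam_span k)
  rw [← coe_substAlgHom ha] at hbij
  let Φ : PP k ≃ₐ[k] PP k := AlgEquiv.ofBijective (substAlgHom ha) hbij
  have h1 : Φ (X 0) = X 1 := by
    show substAlgHom ha (X 0) = X 1
    rw [substAlgHom_X]
    rfl
  rw [← h1]
  exact (MulEquiv.prime_iff Φ.toMulEquiv).mpr (prime_X0 k)

/-- the standard node algebra -/
abbrev NN := PP k ⧸ Ideal.span {(X 0 * X 1 : PP k)}

/-- the class of the first variable -/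
noncomputable abbrev xN : NN k := Ideal.Quotient.mk _ (X 0)
/-- the class of the second variable -/
noncomputable abbrev yN : NN k := Ideal.Quotient.mk _ (X 1)

theorem mem_maximalIdeal_PP_iff (f : PP k) : f ∈ maximalIdeal (PP k) ↔ constantCoeff f = 0 := by
  rw [mem_maximalIdeal, mem_nonunits_iff, MvPowerSeries.isUnit_iff_constantCoeff, isUnit_iff_ne_zero,
    not_not]

theorem span_le_max : Ideal.span {(X 0 * X 1 : PP k)} ≤ maximalIdeal (PP k) := by
  rw [Ideal.span_le, Set.singleton_subset_iff, SetLike.mem_coe, mem_maximalIdeal_PP_iff]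
  simp

instance nontrivial_NN : Nontrivial (NN k) := by
  apply Ideal.Quotient.nontrivial_iff.mpr
  intro h
  have := span_le_max k
  rw [h] at this
  exact (maximalIdeal.isMaximal (PP k)).ne_top (top_le_iff.mp this)

instance isLocalRing_NN : IsLocalRing (NN k) :=
  IsLocalRing.of_surjective' (Ideal.Quotient.mk _) Ideal.Quotient.mk_surjective

theorem mk_mem_maximalIdeal_iff (f : PP k) :
    (Ideal.Quotient.mk (Ideal.span {(X 0 * X 1 : PP k)}) f) ∈ maximalIdeal (NN k) ↔
      constantCoeff f = 0 := by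
  haveI := IsLocalHom.of_surjective (Ideal.Quotient.mk (Ideal.span {(X 0 * X 1 : PP k)}))
    Ideal.Quotient.mk_surjective
  rw [← mem_maximalIdeal_PP_iff, mem_maximalIdeal, mem_maximalIdeal, mem_nonunits_iff,
    mem_nonunits_iff, isUnit_map_iff]

theorem maximalIdeal_NN : maximalIdeal (NN k) = Ideal.span {xN k, yN k} := by
  apply le_antisymm
  · intro a ha
    obtain ⟨f, rfl⟩ := Ideal.Quotient.mk_surjective a
    rw [mk_mem_maximalIdeal_iff] at ha
    have hf := Groth.Agent.Lib.Helper3.mem_span_range_X_of_constantCoeff_eq_zero f ha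
    have hle : Ideal.span (Set.range (X : Fin 2 → PP k)) ≤
        (Ideal.span {xN k, yN k}).comap (Ideal.Quotient.mk (Ideal.span {(X 0 * X 1 : PP k)})) := by
      rw [Ideal.span_le]
      rintro _ ⟨i, rfl⟩
      fin_cases i
      · exact Ideal.subset_span (Set.mem_insert _ _)
      · exact Ideal.subset_span (Set.mem_insert_of_mem _ rfl)
    exact hle hf
  · rw [Ideal.span_le]
    rintro _ (rfl | rfl)
    · rw [SetLike.mem_coe, mk_mem_maximalIdeal_iff]; simp
    · rw [SetLike.mem_coe, mk_mem_maximalIdeal_iff]; simp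

theorem exists_sub_algebraMap_mem_NN (a : NN k) :
    ∃ c : k, a - algebraMap k (NN k) c ∈ maximalIdeal (NN k) := by
  obtain ⟨f, rfl⟩ := Ideal.Quotient.mk_surjective a
  refine ⟨constantCoeff f, ?_⟩
  have : algebraMap k (NN k) (constantCoeff f) =
      Ideal.Quotient.mk (Ideal.span {(X 0 * X 1 : PP k)}) (C (constantCoeff f)) := rfl
  rw [this, ← map_sub, mk_mem_maximalIdeal_iff]
  simp

theorem algebraMap_mem_maximalIdeal_NN (c : k) (hc : algebraMap k (NN k) c ∈ maximalIdeal (NN k)) :
    c = 0 := by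
  have : algebraMap k (NN k) c =
      Ideal.Quotient.mk (Ideal.span {(X 0 * X 1 : PP k)}) (C c) := rfl
  rw [this, mk_mem_maximalIdeal_iff] at hc
  simpa using hc

theorem xN_mul_yN : xN k * yN k = 0 := by
  rw [← map_mul, Ideal.Quotient.eq_zero_iff_mem]
  exact Ideal.subset_span rfl

theorem comap_span_xN : (Ideal.span {xN k}).comap (Ideal.Quotient.mk _) =
    Ideal.span {(X 0 : PP k)} := by
  have h0 : Ideal.span {xN k} = (Ideal.span {(X 0 : PP k)}).map
      (Ideal.Quotient.mk (Ideal.span {(X 0 * X 1 : PP k)})) := by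
    rw [Ideal.map_span, Set.image_singleton]
  rw [h0, Ideal.comap_map_of_surjective _ Ideal.Quotient.mk_surjective, ← RingHom.ker_eq_comap_bot,
    Ideal.mk_ker, sup_eq_left, Ideal.span_le, Set.singleton_subset_iff, SetLike.mem_coe,
    Ideal.mem_span_singleton]
  exact Dvd.intro _ rfl

theorem comap_span_yN : (Ideal.span {yN k}).comap (Ideal.Quotient.mk _) =
    Ideal.span {(X 1 : PP k)} := by
  have h0 : Ideal.span {yN k} = (Ideal.span {(X 1 : PP k)}).map
      (Ideal.Quotient.mk (Ideal.span {(X 0 * X 1 : PP k)})) := by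
    rw [Ideal.map_span, Set.image_singleton]
  rw [h0, Ideal.comap_map_of_surjective _ Ideal.Quotient.mk_surjective, ← RingHom.ker_eq_comap_bot,
    Ideal.mk_ker, sup_eq_left, Ideal.span_le, Set.singleton_subset_iff, SetLike.mem_coe,
    Ideal.mem_span_singleton]
  exact Dvd.intro_left _ rfl

theorem isPrime_span_xN : (Ideal.span {xN k}).IsPrime := by
  have h1 : (Ideal.span {(X 0 : PP k)}).IsPrime :=
    (Ideal.span_singleton_prime (prime_X0 k).ne_zero).mpr (prime_X0 k)
  have h2 := Ideal.map_isPrime_of_surjective (f := Ideal.Quotient.mk (Ideal.span {(X 0 * X 1 : PP k)}))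
    Ideal.Quotient.mk_surjective (I := Ideal.span {(X 0 : PP k)}) (by
      rw [Ideal.mk_ker, Ideal.span_le, Set.singleton_subset_iff, SetLike.mem_coe,
        Ideal.mem_span_singleton]
      exact Dvd.intro _ rfl)
  rwa [Ideal.map_span, Set.image_singleton] at h2

theorem isPrime_span_yN : (Ideal.span {yN k}).IsPrime := by
  have h1 : (Ideal.span {(X 1 : PP k)}).IsPrime :=
    (Ideal.span_singleton_prime (prime_X1 k).ne_zero).mpr (prime_X1 k)
  have h2 := Ideal.map_isPrime_of_surjective (f := Ideal.Quotient.mk (Ideal.span {(X 0 * X 1 : PP k)}))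
    Ideal.Quotient.mk_surjective (I := Ideal.span {(X 1 : PP k)}) (by
      rw [Ideal.mk_ker, Ideal.span_le, Set.singleton_subset_iff, SetLike.mem_coe,
        Ideal.mem_span_singleton]
      exact Dvd.intro_left _ rfl)
  rwa [Ideal.map_span, Set.image_singleton] at h2

theorem yN_not_mem : yN k ∉ Ideal.span {xN k} := by
  intro h
  have h1 : (X 1 : PP k) ∈ (Ideal.span {xN k}).comap (Ideal.Quotient.mk _) := h
  rw [comap_span_xN, Ideal.mem_span_singleton, X_dvd_iff] at h1
  have := h1 (Finsupp.single 1 1) (by simp)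
  rw [coeff_X] at this
  simp at this

theorem xN_not_mem : xN k ∉ Ideal.span {yN k} := by
  intro h
  have h1 : (X 0 : PP k) ∈ (Ideal.span {yN k}).comap (Ideal.Quotient.mk _) := h
  rw [comap_span_yN, Ideal.mem_span_singleton, X_dvd_iff] at h1
  have := h1 (Finsupp.single 0 1) (by simp)
  rw [coeff_X] at this
  simp at this

theorem span_xN_minimal (Q : Ideal (NN k)) [Q.IsPrime] (hQ : Q ≤ Ideal.span {xN k}) :
    Ideal.span {xN k} ≤ Q := by
  rw [Ideal.span_le, Set.singleton_subset_iff]
  have h0 : xN k * yN k ∈ Q := by rw [xN_mul_yN]; exact Q.zero_mem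
  rcases Ideal.IsPrime.mem_or_mem ‹_› h0 with h | h
  · exact h
  · exact absurd (hQ h) (yN_not_mem k)

theorem span_yN_minimal (Q : Ideal (NN k)) [Q.IsPrime] (hQ : Q ≤ Ideal.span {yN k}) :
    Ideal.span {yN k} ≤ Q := by
  rw [Ideal.span_le, Set.singleton_subset_iff]
  have h0 : xN k * yN k ∈ Q := by rw [xN_mul_yN]; exact Q.zero_mem
  rcases Ideal.IsPrime.mem_or_mem ‹_› h0 with h | h
  · exact absurd (hQ h) (xN_not_mem k)
  · exact h

theorem xN_ne_zero : xN k ≠ 0 := by
  intro h
  apply xN_not_mem k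
  rw [h]
  exact Ideal.zero_mem _

theorem yN_ne_zero : yN k ≠ 0 := by
  intro h
  apply yN_not_mem k
  rw [h]
  exact Ideal.zero_mem _

end PS

section Eigen

variable {k : Type u} [Field k]

/-- an involutive ring endomorphism of a local `k`-algebra with residue field `k` which preserves a
principal ideal `(w)` has an eigenvector `w * unit` with eigenvalue `±1`. -/
theorem exists_eigen {N : Type u} [CommRing N] [IsLocalRing N] [Algebra k N]
    (hres : ∀ a : N, ∃ c : k, a - algebraMap k N c ∈ maximalIdeal N) (h2 : (2 : k) ≠ 0)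
    (τ : N →+* N) (hτ2 : ∀ a, τ (τ a) = a)
    (hτk : ∀ c : k, τ (algebraMap k N c) = algebraMap k N c)
    (w : N) (hw : ∀ a, a * w = 0 → a ∈ maximalIdeal N) (hτw : τ w ∈ Ideal.span {w}) :
    ∃ ξ : k, ξ ^ 2 = 1 ∧ ∃ c' : N, IsUnit c' ∧ τ (w * c') = algebraMap k N ξ * (w * c') := by
  have hτm : ∀ a ∈ maximalIdeal N, τ a ∈ maximalIdeal N := by
    intro a ha
    rw [mem_maximalIdeal, mem_nonunits_iff] at ha ⊢
    intro hu
    apply ha
    have := hu.map τ
    rwa [hτ2] at this
  have hk0 : ∀ c : k, algebraMap k N c ∈ maximalIdeal N → c = 0 := by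
    intro c hc
    by_contra hne
    rw [mem_maximalIdeal, mem_nonunits_iff] at hc
    exact hc ((isUnit_iff_ne_zero.mpr hne).map (algebraMap k N))
  obtain ⟨c, hc⟩ := Ideal.mem_span_singleton'.mp hτw
  have h1 : (τ c * c - 1) * w = 0 := by
    have : τ (τ w) = w := hτ2 w
    rw [← hc, map_mul, ← hc] at this
    rw [sub_mul, one_mul, sub_eq_zero, mul_assoc]
    exact this
  have h1' : τ c * c * w = w := by
    have := h1
    rw [sub_mul, one_mul, sub_eq_zero] at this
    exact this
  have h3 : τ c * c - 1 ∈ maximalIdeal N := hw _ h1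
  obtain ⟨c₀, hc₀⟩ := hres c
  have h4 : τ c - algebraMap k N c₀ ∈ maximalIdeal N := by
    have := hτm _ hc₀
    rwa [map_sub, hτk] at this
  have h5 : algebraMap k N (c₀ ^ 2 - 1) ∈ maximalIdeal N := by
    have : algebraMap k N (c₀ ^ 2 - 1) = (τ c * c - 1) - τ c * (c - algebraMap k N c₀)
        - algebraMap k N c₀ * (τ c - algebraMap k N c₀) := by
      rw [map_sub, map_pow, map_one]; ring
    rw [this]
    exact Ideal.sub_mem _ (Ideal.sub_mem _ h3 (Ideal.mul_mem_left _ _ hc₀))
      (Ideal.mul_mem_left _ _ h4)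
  have hξ : c₀ ^ 2 = 1 := by
    have := hk0 _ h5
    exact sub_eq_zero.mp this
  refine ⟨c₀, hξ, algebraMap k N (2⁻¹) * (1 + algebraMap k N c₀ * c), ?_, ?_⟩
  · -- unit
    have hh : algebraMap k N (2⁻¹) * 2 = 1 := by
      have : (2 : N) = algebraMap k N 2 := (map_ofNat (algebraMap k N) 2).symm
      rw [this, ← map_mul, inv_mul_cancel₀ h2, map_one]
    have hξN : algebraMap k N c₀ * algebraMap k N c₀ = 1 := by
      rw [← map_mul, ← pow_two, hξ, map_one]
    have hdiff : algebraMap k N (2⁻¹) * (1 + algebraMap k N c₀ * c) - 1 =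
        algebraMap k N (2⁻¹) * algebraMap k N c₀ * (c - algebraMap k N c₀) := by
      linear_combination hh + algebraMap k N (2⁻¹) * hξN
    have hm : algebraMap k N (2⁻¹) * (1 + algebraMap k N c₀ * c) - 1 ∈ maximalIdeal N := by
      rw [hdiff]; exact Ideal.mul_mem_left _ _ hc₀
    by_contra hnu
    have hmem : algebraMap k N (2⁻¹) * (1 + algebraMap k N c₀ * c) ∈ maximalIdeal N := by
      rwa [mem_maximalIdeal, mem_nonunits_iff]
    have : (1 : N) ∈ maximalIdeal N := by
      have := Ideal.sub_mem _ hmem hm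
      rwa [sub_sub_cancel] at this
    exact (maximalIdeal.isMaximal N).ne_top ((Ideal.eq_top_iff_one _).mpr this)
  · rw [map_mul, map_mul, map_add, map_one, map_mul, hτk, hτk, ← hc]
    have hξN : algebraMap k N c₀ * algebraMap k N c₀ = 1 := by
      rw [← map_mul, ← pow_two, hξ, map_one]
    have e1 : c * w * (algebraMap k N 2⁻¹ * (1 + algebraMap k N c₀ * τ c))
        = algebraMap k N 2⁻¹ * (c * w + algebraMap k N c₀ * (τ c * c * w)) := by ring
    have e2 : algebraMap k N c₀ * (w * (algebraMap k N 2⁻¹ * (1 + algebraMap k N c₀ * c)))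
        = algebraMap k N 2⁻¹ * (algebraMap k N c₀ * w +
          (algebraMap k N c₀ * algebraMap k N c₀) * (c * w)) := by ring
    rw [e1, e2, h1', hξN]
    ring

end Eigen

section Lin

variable (k : Type u) [Field k]

/-- the linear substitution `x ↦ y - x`, `y ↦ y + x` -/
noncomputable def linFam : Fin 2 → PP k := ![X 1 - X 0, X 1 + X 0]

theorem linFam_const (s : Fin 2) : constantCoeff (linFam k s) = 0 := by
  fin_cases s <;> simp [linFam]

theorem linFam_span (h2 : (2 : k) ≠ 0) : Ideal.span (Set.range (linFam k)) =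
    Ideal.span (Set.range (X : Fin 2 → PP k)) := by
  have hh : (C (2⁻¹ : k) : PP k) * 2 = 1 := by
    have : (2 : PP k) = C (2 : k) := (map_ofNat (C : k →+* PP k) 2).symm
    rw [this, ← map_mul, inv_mul_cancel₀ h2, map_one]
  apply le_antisymm
  · rw [Ideal.span_le]
    rintro _ ⟨s, rfl⟩
    fin_cases s
    · exact Ideal.sub_mem _ (Ideal.subset_span ⟨1, rfl⟩) (Ideal.subset_span ⟨0, rfl⟩)
    · exact Ideal.add_mem _ (Ideal.subset_span ⟨1, rfl⟩) (Ideal.subset_span ⟨0, rfl⟩)
  · rw [Ideal.span_le]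
    rintro _ ⟨s, rfl⟩
    have h0 : linFam k 0 ∈ Ideal.span (Set.range (linFam k)) := Ideal.subset_span ⟨0, rfl⟩
    have h1 : linFam k 1 ∈ Ideal.span (Set.range (linFam k)) := Ideal.subset_span ⟨1, rfl⟩
    fin_cases s
    · have : (X 0 : PP k) = C (2⁻¹ : k) * (linFam k 1 - linFam k 0) := by
        show (X 0 : PP k) = C (2⁻¹ : k) * ((X 1 + X 0) - (X 1 - X 0))
        linear_combination (-(X 0 : PP k)) * hh
      show (X 0 : PP k) ∈ _
      rw [this]
      exact Ideal.mul_mem_left _ _ (Ideal.sub_mem _ h1 h0)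
    · have : (X 1 : PP k) = C (2⁻¹ : k) * (linFam k 1 + linFam k 0) := by
        show (X 1 : PP k) = C (2⁻¹ : k) * ((X 1 + X 0) + (X 1 - X 0))
        linear_combination (-(X 1 : PP k)) * hh
      show (X 1 : PP k) ∈ _
      rw [this]
      exact Ideal.mul_mem_left _ _ (Ideal.add_mem _ h1 h0)

theorem linFam_hasSubst : HasSubst (linFam k) := hasSubst_of_constantCoeff_zero (linFam_const k)

/-- the linear automorphism -/
noncomputable def linEquiv (h2 : (2 : k) ≠ 0) : PP k ≃ₐ[k] PP k :=
  AlgEquiv.ofBijective (substAlgHom (linFam_hasSubst k)) (by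
    have hbij := Groth.Agent.Lib.Helper3.subst_bijective_of_span_eq (linFam k)
      (linFam_const k) (linFam_span k h2)
    rwa [← coe_substAlgHom (linFam_hasSubst k)] at hbij)

theorem linEquiv_X0 (h2 : (2 : k) ≠ 0) : linEquiv k h2 (X 0) = X 1 - X 0 := by
  show substAlgHom (linFam_hasSubst k) (X 0) = _
  rw [substAlgHom_X]; rfl

theorem linEquiv_X1 (h2 : (2 : k) ≠ 0) : linEquiv k h2 (X 1) = X 1 + X 0 := by
  show substAlgHom (linFam_hasSubst k) (X 1) = _
  rw [substAlgHom_X]; rfl

/-- the induced isomorphism of the two forms of the node algebra -/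
noncomputable def nodeEquiv (h2 : (2 : k) ≠ 0) :
    NN k ≃ₐ[k] (PP k ⧸ Ideal.span {(X 1 ^ 2 - X 0 ^ 2 : PP k)}) :=
  Ideal.quotientEquivAlg _ _ (linEquiv k h2) (by
    rw [Ideal.map_span, Set.image_singleton]
    congr 2
    show _ = (linEquiv k h2) (X 0 * X 1)
    rw [map_mul, linEquiv_X0, linEquiv_X1]
    ring)

end Lin

end Groth.Agent.Lib.Helper26.EqNodeA
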