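import Mathlib
import Groth.Agent.Lib.Helper26.EqNodeA

set_option autoImplicit false
open IsLocalRing MvPowerSeries

namespace Groth.Agent.Lib.Helper26.EqNodeB

open Groth.Agent.Lib.Helper26.EqNodeA

universe u

section Setup

variable (k R S : Type u) [Field k] [CommRing R] [IsLocalRing R] [CommRing S] [IsLocalRing S]
  [Algebra k R] [Algebra R S] [Algebra k S] [IsScalarTower k R S]

/-- the map from `S` to the standard node algebra -/
noncomputable def rho (h2 : (2 : k) ≠ 0)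
    (e : (S ⧸ Ideal.map (algebraMap R S) (maximalIdeal R)) ≃ₐ[k]
      (MvPowerSeries (Fin 2) k ⧸
        Ideal.span {(MvPowerSeries.X 1 ^ 2 - MvPowerSeries.X 0 ^ 2 : MvPowerSeries (Fin 2) k)})) :
    S →ₐ[k] NN k :=
  ((nodeEquiv k h2).symm.toAlgHom.comp e.toAlgHom).comp
    (Ideal.Quotient.mkₐ k (Ideal.map (algebraMap R S) (maximalIdeal R)))

variable {k R S}
variable (h2 : (2 : k) ≠ 0)
    (e : (S ⧸ Ideal.map (algebraMap R S) (maximalIdeal R)) ≃ₐ[k]
      (MvPowerSeries (Fin 2) k ⧸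
        Ideal.span {(MvPowerSeries.X 1 ^ 2 - MvPowerSeries.X 0 ^ 2 : MvPowerSeries (Fin 2) k)}))

theorem rho_apply (s : S) : rho k R S h2 e s =
    (nodeEquiv k h2).symm (e (Ideal.Quotient.mk _ s)) := rfl

theorem rho_surjective : Function.Surjective (rho k R S h2 e) := by
  intro a
  obtain ⟨b, hb⟩ := e.surjective ((nodeEquiv k h2) a)
  obtain ⟨s, rfl⟩ := Ideal.Quotient.mk_surjective b
  refine ⟨s, ?_⟩
  rw [rho_apply, hb, AlgEquiv.symm_apply_apply]

theorem ker_rho : RingHom.ker (rho k R S h2 e).toRingHom =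
    Ideal.map (algebraMap R S) (maximalIdeal R) := by
  ext s
  rw [RingHom.mem_ker]
  show rho k R S h2 e s = 0 ↔ _
  rw [rho_apply, EmbeddingLike.map_eq_zero_iff, EmbeddingLike.map_eq_zero_iff,
    Ideal.Quotient.eq_zero_iff_mem]

end Setup

section StepA

variable {k R S : Type u} [Field k] [CommRing R] [IsLocalRing R] [CommRing S] [IsLocalRing S]
  [Algebra k R] [Algebra R S] [Algebra k S] [IsScalarTower k R S]

omit [IsLocalRing R] [IsScalarTower k R S] [Algebra k R] in
theorem comap_rho_max (ρ : S →ₐ[k] NN k) (hρs : Function.Surjective ρ) (s : S) :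
    ρ s ∈ maximalIdeal (NN k) ↔ s ∈ maximalIdeal S := by
  haveI : IsLocalHom ρ.toRingHom := IsLocalHom.of_surjective ρ.toRingHom hρs
  rw [mem_maximalIdeal, mem_maximalIdeal, mem_nonunits_iff, mem_nonunits_iff]
  exact not_congr (isUnit_map_iff ρ.toRingHom s)

omit [IsLocalRing R] [IsScalarTower k R S] [Algebra k R] in
theorem exists_sub_algebraMap_mem (ρ : S →ₐ[k] NN k) (hρs : Function.Surjective ρ) (s : S) :
    ∃ c : k, s - algebraMap k S c ∈ maximalIdeal S := by
  obtain ⟨c, hc⟩ := exists_sub_algebraMap_mem_NN k (ρ s)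
  refine ⟨c, ?_⟩
  rw [← comap_rho_max ρ hρs, map_sub, AlgHom.commutes]
  exact hc

theorem sigma_algebraMap (σ : S ≃ₐ[R] S) (c : k) : σ (algebraMap k S c) = algebraMap k S c := by
  rw [IsScalarTower.algebraMap_apply k R S, σ.commutes]

omit [IsLocalRing S] [Algebra k R] [Algebra k S] [IsScalarTower k R S] [Field k] in
theorem sigma_mem (σ : S ≃ₐ[R] S) (n : ℕ) (s : S)
    (hs : s ∈ Ideal.map (algebraMap R S) (maximalIdeal R ^ n)) :
    σ s ∈ Ideal.map (algebraMap R S) (maximalIdeal R ^ n) := by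
  have hle : Ideal.map (algebraMap R S) (maximalIdeal R ^ n) ≤
      (Ideal.map (algebraMap R S) (maximalIdeal R ^ n)).comap (σ : S →+* S) := by
    rw [Ideal.map_le_iff_le_comap]
    intro r hr
    rw [Ideal.mem_comap, Ideal.mem_comap]
    show σ (algebraMap R S r) ∈ _
    rw [σ.commutes]
    exact Ideal.mem_map_of_mem _ hr
  exact hle hs

theorem exists_eigen_generators [IsLocalHom (algebraMap R S)] (h2 : (2 : k) ≠ 0)
    (ρ : S →ₐ[k] NN k) (hρs : Function.Surjective ρ)
    (hρk : RingHom.ker ρ.toRingHom = Ideal.map (algebraMap R S) (maximalIdeal R))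
    (σ : S ≃ₐ[R] S) (hσ : ∀ s, σ (σ s) = s)
    (hbr : ∀ P ∈ (Ideal.map (algebraMap R S) (maximalIdeal R)).minimalPrimes,
      Ideal.map (σ : S →+* S) P = P) :
    ∃ (ξ₁ ξ₂ : k) (u v : S), ξ₁ ^ 2 = 1 ∧ ξ₂ ^ 2 = 1 ∧
      σ u = algebraMap k S ξ₂ * u ∧ σ v = algebraMap k S ξ₁ * v ∧
      u * v ∈ Ideal.map (algebraMap R S) (maximalIdeal R) ∧
      maximalIdeal S = Ideal.span {u, v} ⊔ Ideal.map (algebraMap R S) (maximalIdeal R) := by
  set I := Ideal.map (algebraMap R S) (maximalIdeal R) with hI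
  have hσI : ∀ s ∈ I, σ s ∈ I := by
    intro s hs
    have := sigma_mem σ 1 s (by rwa [pow_one])
    rwa [pow_one] at this
  -- the induced involution of the node algebra
  have hker : RingHom.ker ρ.toRingHom ≤ RingHom.ker (ρ.toRingHom.comp (σ : S →+* S)) := by
    intro s hs
    rw [hρk] at hs
    rw [RingHom.mem_ker, RingHom.comp_apply]
    have : σ s ∈ RingHom.ker ρ.toRingHom := by rw [hρk]; exact hσI s hs
    exact this
  let τ : NN k →+* NN k := RingHom.liftOfSurjective ρ.toRingHom hρs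
    ⟨ρ.toRingHom.comp (σ : S →+* S), hker⟩
  have hτ : ∀ s, τ (ρ s) = ρ (σ s) := fun s =>
    RingHom.liftOfSurjective_comp_apply ρ.toRingHom hρs ⟨ρ.toRingHom.comp (σ : S →+* S), hker⟩ s
  have hτ2 : ∀ a, τ (τ a) = a := by
    intro a
    obtain ⟨s, rfl⟩ := hρs a
    rw [hτ, hτ, hσ]
  have hτk : ∀ c : k, τ (algebraMap k (NN k) c) = algebraMap k (NN k) c := by
    intro c
    rw [← AlgHom.commutes ρ, hτ, sigma_algebraMap]
  have hresN := exists_sub_algebraMap_mem_NN k
  -- minimal primes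
  have hmin : ∀ g : NN k, (Ideal.span {g}).IsPrime →
      (∀ (Q : Ideal (NN k)) [Q.IsPrime], Q ≤ Ideal.span {g} → Ideal.span {g} ≤ Q) →
      τ g ∈ Ideal.span {g} := by
    intro g hgp hgmin
    have hP : (Ideal.span {g}).comap ρ.toRingHom ∈ I.minimalPrimes := by
      refine ⟨⟨Ideal.comap_isPrime _ _, ?_⟩, ?_⟩
      · rw [← hρk]
        exact Ideal.comap_mono bot_le
      · rintro Q ⟨hQp, hQI⟩ hQle
        have hkQ : RingHom.ker ρ.toRingHom ≤ Q := by rw [hρk]; exact hQI
        haveI : (Q.map ρ.toRingHom).IsPrime := Ideal.map_isPrime_of_surjective hρs hkQ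
        have h1 : Q.map ρ.toRingHom ≤ Ideal.span {g} :=
          (Ideal.map_mono hQle).trans Ideal.map_comap_le
        have h2' := hgmin (Q.map ρ.toRingHom) h1
        have h3 : (Ideal.span {g}).comap ρ.toRingHom ≤ (Q.map ρ.toRingHom).comap ρ.toRingHom :=
          Ideal.comap_mono h2'
        rw [Ideal.comap_map_of_surjective ρ.toRingHom
          (show Function.Surjective ρ.toRingHom from hρs), ← RingHom.ker_eq_comap_bot,
          sup_eq_left.mpr hkQ] at h3
        exact h3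
    have hfix := hbr _ hP
    obtain ⟨s, hs⟩ := hρs g
    have hsP : s ∈ (Ideal.span {g}).comap ρ.toRingHom := by
      rw [Ideal.mem_comap]
      show ρ s ∈ _
      rw [hs]
      exact Ideal.subset_span rfl
    have hσs : σ s ∈ (Ideal.span {g}).comap ρ.toRingHom := by
      rw [← hfix]
      exact Ideal.mem_map_of_mem (σ : S →+* S) hsP
    have hτg : τ g = ρ (σ s) := by rw [← hs, hτ]
    rw [hτg]
    exact hσs
  have hxu : ∀ a : NN k, a * xN k = 0 → a ∈ maximalIdeal (NN k) := by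
    intro a ha
    by_contra hna
    rw [mem_maximalIdeal, mem_nonunits_iff, not_not] at hna
    exact xN_ne_zero k (hna.mul_right_eq_zero.mp ha)
  have hyu : ∀ a : NN k, a * yN k = 0 → a ∈ maximalIdeal (NN k) := by
    intro a ha
    by_contra hna
    rw [mem_maximalIdeal, mem_nonunits_iff, not_not] at hna
    exact yN_ne_zero k (hna.mul_right_eq_zero.mp ha)
  obtain ⟨ξ₂, hξ₂, c₁, hc₁, he₁⟩ := exists_eigen hresN h2 τ hτ2 hτk (xN k) hxu
    (hmin _ (isPrime_span_xN k) (fun Q _ h => span_xN_minimal k Q h))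
  obtain ⟨ξ₁, hξ₁, c₂, hc₂, he₂⟩ := exists_eigen hresN h2 τ hτ2 hτk (yN k) hyu
    (hmin _ (isPrime_span_yN k) (fun Q _ h => span_yN_minimal k Q h))
  obtain ⟨ut, hut⟩ := hρs (xN k * c₁)
  obtain ⟨vt, hvt⟩ := hρs (yN k * c₂)
  have hhS : algebraMap k S (2⁻¹) * 2 = 1 := by
    have : (2 : S) = algebraMap k S 2 := (map_ofNat (algebraMap k S) 2).symm
    rw [this, ← map_mul, inv_mul_cancel₀ h2, map_one]
  have hhN : algebraMap k (NN k) (2⁻¹) * 2 = 1 := by
    have : (2 : NN k) = algebraMap k (NN k) 2 := (map_ofNat (algebraMap k (NN k)) 2).symm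
    rw [this, ← map_mul, inv_mul_cancel₀ h2, map_one]
  -- general eigen-lift
  have key : ∀ (ξ : k) (g : NN k) (t : S), ξ ^ 2 = 1 → ρ t = g →
      τ g = algebraMap k (NN k) ξ * g →
      ∃ u : S, ρ u = g ∧ σ u = algebraMap k S ξ * u := by
    intro ξ g t hξ ht hg
    refine ⟨algebraMap k S 2⁻¹ * (t + algebraMap k S ξ * σ t), ?_⟩
    have hξS : algebraMap k S ξ * algebraMap k S ξ = 1 := by
      rw [← map_mul, ← pow_two, hξ, map_one]
    have hξN : algebraMap k (NN k) ξ * algebraMap k (NN k) ξ = 1 := by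
      rw [← map_mul, ← pow_two, hξ, map_one]
    constructor
    · rw [map_mul, map_add, map_mul, AlgHom.commutes, AlgHom.commutes, ← hτ, ht, hg]
      linear_combination g * hhN + algebraMap k (NN k) 2⁻¹ * g * hξN
    · rw [map_mul, map_add, map_mul, sigma_algebraMap, sigma_algebraMap, hσ]
      linear_combination (-(algebraMap k S 2⁻¹ * σ t)) * hξS
  obtain ⟨u, hρu, hσu⟩ := key ξ₂ _ ut hξ₂ hut he₁
  obtain ⟨v, hρv, hσv⟩ := key ξ₁ _ vt hξ₁ hvt he₂
  refine ⟨ξ₁, ξ₂, u, v, hξ₁, hξ₂, hσu, hσv, ?_, ?_⟩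
  · rw [← hρk, RingHom.mem_ker]
    show ρ (u * v) = 0
    rw [map_mul, hρu, hρv]
    have := xN_mul_yN k
    linear_combination c₁ * c₂ * this
  · apply le_antisymm
    · intro s hs
      rw [← comap_rho_max ρ hρs, maximalIdeal_NN, Ideal.mem_span_pair] at hs
      obtain ⟨a, b, hab⟩ := hs
      obtain ⟨c₁', hc₁'⟩ := hc₁.exists_right_inv
      obtain ⟨c₂', hc₂'⟩ := hc₂.exists_right_inv
      obtain ⟨at', hat⟩ := hρs (a * c₁')
      obtain ⟨bt', hbt⟩ := hρs (b * c₂')
      have hmem : s - (at' * u + bt' * v) ∈ I := by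
        rw [← hρk, RingHom.mem_ker]
        show ρ (s - (at' * u + bt' * v)) = 0
        rw [map_sub, map_add, map_mul, map_mul, hat, hbt, hρu, hρv, ← hab]
        linear_combination (-(a * xN k)) * hc₁' - (b * yN k) * hc₂'
      have : s = (at' * u + bt' * v) + (s - (at' * u + bt' * v)) := by ring
      rw [this]
      exact Ideal.add_mem _ (Ideal.mem_sup_left (Ideal.mem_span_pair.mpr ⟨at', bt', rfl⟩))
        (Ideal.mem_sup_right hmem)
    · apply sup_le
      · rw [Ideal.span_le]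
        rintro _ (rfl | rfl)
        · rw [SetLike.mem_coe, ← comap_rho_max ρ hρs, hρu, maximalIdeal_NN]
          exact Ideal.mul_mem_right _ _ (Ideal.subset_span (Set.mem_insert _ _))
        · rw [SetLike.mem_coe, ← comap_rho_max ρ hρs, hρv, maximalIdeal_NN]
          exact Ideal.mul_mem_right _ _ (Ideal.subset_span (Set.mem_insert_of_mem _ rfl))
      · exact ((IsLocalRing.local_hom_TFAE (algebraMap R S)).out 0 2).mp ‹_›

end StepA

end Groth.Agent.Lib.Helper26.EqNodeB
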