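import Mathlib

set_option autoImplicit false
open IsLocalRing

namespace Groth.Agent.Lib.Helper26.Node24A

universe u

/-- dependent choice with a relation between consecutive terms -/
theorem exists_seq {X : Type*} (P : ℕ → X → Prop) (R : ℕ → X → X → Prop) (x0 : X) (h0 : P 0 x0)
    (step : ∀ n x, P n x → ∃ y, P (n + 1) y ∧ R n x y) :
    ∃ s : ℕ → X, s 0 = x0 ∧ (∀ n, P n (s n)) ∧ ∀ n, R n (s n) (s (n + 1)) := by
  classical
  let t : (n : ℕ) → {x // P n x} := fun n =>
    Nat.rec (motive := fun n => {x // P n x}) ⟨x0, h0⟩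
      (fun n x => ⟨(step n x.1 x.2).choose, (step n x.1 x.2).choose_spec.1⟩) n
  refine ⟨fun n => (t n).1, rfl, fun n => (t n).2, fun n => ?_⟩
  exact (step n (t n).1 (t n).2).choose_spec.2

variable {A B : Type u} [CommRing A] [IsLocalRing A]
    [CommRing B] [IsLocalRing B] [Algebra A B] [IsLocalHom (algebraMap A B)]

/-- every element of `B` is congruent to an element of `A` modulo `𝔪_B` -/
theorem exists_sub_mem_max
    (hres : Function.Bijective (IsLocalRing.ResidueField.map (algebraMap A B))) (b : B) :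
    ∃ c : A, b - algebraMap A B c ∈ maximalIdeal B := by
  obtain ⟨cb, hc⟩ := hres.2 (residue B b)
  obtain ⟨c, rfl⟩ := residue_surjective cb
  refine ⟨c, ?_⟩
  rw [ResidueField.map_residue] at hc
  rw [← residue_eq_zero_iff, map_sub, hc, sub_self]

/-- decomposition of an arbitrary element -/
theorem decomp0
    (hres : Function.Bijective (IsLocalRing.ResidueField.map (algebraMap A B)))
    (u v : B)
    (hgen : maximalIdeal B = Ideal.span {u, v} ⊔ (maximalIdeal A).map (algebraMap A B))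
    (u' v' : B) (hu' : u' - u ∈ (maximalIdeal A).map (algebraMap A B))
    (hv' : v' - v ∈ (maximalIdeal A).map (algebraMap A B)) (b : B) :
    ∃ (c : A) (p q e : B), e ∈ (maximalIdeal A).map (algebraMap A B) ∧
      b = algebraMap A B c + u' * p + v' * q + e := by
  obtain ⟨c, hc⟩ := exists_sub_mem_max hres b
  rw [hgen] at hc
  obtain ⟨y, hy, e₁, he₁, hsum⟩ := Submodule.mem_sup.mp hc
  obtain ⟨p, q, hpq⟩ := Ideal.mem_span_pair.mp hy
  refine ⟨c, p, q, e₁ - (u' - u) * p - (v' - v) * q, ?_, ?_⟩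
  · exact Ideal.sub_mem _ (Ideal.sub_mem _ he₁ (Ideal.mul_mem_right _ _ hu'))
      (Ideal.mul_mem_right _ _ hv')
  · have : b = algebraMap A B c + (y + e₁) := by rw [hsum]; ring
    rw [this, ← hpq]; ring

/-- decomposition of an element of `𝔪_A^N B` -/
theorem decomp
    (hres : Function.Bijective (IsLocalRing.ResidueField.map (algebraMap A B)))
    (u v : B)
    (hgen : maximalIdeal B = Ideal.span {u, v} ⊔ (maximalIdeal A).map (algebraMap A B))
    (u' v' : B) (hu' : u' - u ∈ (maximalIdeal A).map (algebraMap A B))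
    (hv' : v' - v ∈ (maximalIdeal A).map (algebraMap A B)) (N : ℕ) (x : B)
    (hx : x ∈ ((maximalIdeal A) ^ N).map (algebraMap A B)) :
    ∃ (c : A) (p q e : B), c ∈ (maximalIdeal A) ^ N ∧
      p ∈ ((maximalIdeal A) ^ N).map (algebraMap A B) ∧
      q ∈ ((maximalIdeal A) ^ N).map (algebraMap A B) ∧
      e ∈ ((maximalIdeal A) ^ (N + 1)).map (algebraMap A B) ∧
      x = algebraMap A B c + u' * p + v' * q + e := by
  have hx' : x ∈ ((maximalIdeal A) ^ N • ⊤ : Submodule A B) := by
    rw [Ideal.smul_top_eq_map]; exact hx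
  refine Submodule.smul_induction_on hx' ?_ ?_
  · intro a ha b _
    obtain ⟨c, p, q, e, he, hb⟩ := decomp0 hres u v hgen u' v' hu' hv' b
    refine ⟨a * c, algebraMap A B a * p, algebraMap A B a * q, algebraMap A B a * e,
      Ideal.mul_mem_right _ _ ha, Ideal.mul_mem_right _ _ (Ideal.mem_map_of_mem _ ha),
      Ideal.mul_mem_right _ _ (Ideal.mem_map_of_mem _ ha), ?_, ?_⟩
    · rw [pow_succ, Ideal.map_mul]
      exact Ideal.mul_mem_mul (Ideal.mem_map_of_mem _ ha) he
    · rw [Algebra.smul_def, hb, map_mul]; ring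
  · intro x y hx hy
    obtain ⟨c, p, q, e, hc, hp, hq, he, rfl⟩ := hx
    obtain ⟨c', p', q', e', hc', hp', hq', he', rfl⟩ := hy
    exact ⟨c + c', p + p', q + q', e + e', Ideal.add_mem _ hc hc', Ideal.add_mem _ hp hp',
      Ideal.add_mem _ hq hq', Ideal.add_mem _ he he', by rw [map_add]; ring⟩

/-- the approximating sequences -/
theorem exists_approx
    (hres : Function.Bijective (IsLocalRing.ResidueField.map (algebraMap A B)))
    (u v : B)
    (huv : u * v ∈ (maximalIdeal A).map (algebraMap A B))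
    (hgen : maximalIdeal B = Ideal.span {u, v} ⊔ (maximalIdeal A).map (algebraMap A B)) :
    ∃ (us vs : ℕ → B) (αs : ℕ → A), us 0 = u ∧ vs 0 = v ∧
      (∀ n, us n - u ∈ (maximalIdeal A).map (algebraMap A B)) ∧
      (∀ n, vs n - v ∈ (maximalIdeal A).map (algebraMap A B)) ∧
      (∀ n, αs n ∈ maximalIdeal A) ∧
      (∀ n, us n * vs n - algebraMap A B (αs n) ∈ ((maximalIdeal A) ^ (n + 1)).map (algebraMap A B)) ∧
      (∀ n, us (n + 1) - us n ∈ ((maximalIdeal A) ^ (n + 1)).map (algebraMap A B)) ∧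
      (∀ n, vs (n + 1) - vs n ∈ ((maximalIdeal A) ^ (n + 1)).map (algebraMap A B)) ∧
      (∀ n, αs (n + 1) - αs n ∈ (maximalIdeal A) ^ (n + 1)) := by
  set 𝔞B := (maximalIdeal A).map (algebraMap A B) with h𝔞B
  let P : ℕ → B × B × A → Prop := fun n x =>
    x.1 - u ∈ 𝔞B ∧ x.2.1 - v ∈ 𝔞B ∧ x.2.2 ∈ maximalIdeal A ∧
      x.1 * x.2.1 - algebraMap A B x.2.2 ∈ ((maximalIdeal A) ^ (n + 1)).map (algebraMap A B)
  let R : ℕ → B × B × A → B × B × A → Prop := fun n x y =>
    y.1 - x.1 ∈ ((maximalIdeal A) ^ (n + 1)).map (algebraMap A B) ∧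
    y.2.1 - x.2.1 ∈ ((maximalIdeal A) ^ (n + 1)).map (algebraMap A B) ∧
    y.2.2 - x.2.2 ∈ (maximalIdeal A) ^ (n + 1)
  have hpow_le : ∀ N : ℕ, 1 ≤ N → ((maximalIdeal A) ^ N).map (algebraMap A B) ≤ 𝔞B := by
    intro N hN
    apply Ideal.map_mono
    calc (maximalIdeal A) ^ N ≤ (maximalIdeal A) ^ 1 := Ideal.pow_le_pow_right hN
      _ = maximalIdeal A := pow_one _
  have h0 : P 0 (u, v, 0) := by
    refine ⟨by simp, by simp, Ideal.zero_mem _, ?_⟩
    simpa using huv
  have step : ∀ n x, P n x → ∃ y, P (n + 1) y ∧ R n x y := by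
    rintro n ⟨u', v', α'⟩ ⟨h1, h2, h3, h4⟩
    obtain ⟨c, p, q, e, hc, hp, hq, he, hx⟩ :=
      decomp hres u v hgen u' v' h1 h2 (n + 1) _ h4
    refine ⟨(u' - q, v' - p, α' + c), ⟨?_, ?_, ?_, ?_⟩, ⟨?_, ?_, ?_⟩⟩
    · have : u' - q - u = (u' - u) - q := by ring
      rw [this]
      exact Ideal.sub_mem _ h1 (hpow_le _ (by omega) hq)
    · have : v' - p - v = (v' - v) - p := by ring
      rw [this]
      exact Ideal.sub_mem _ h2 (hpow_le _ (by omega) hp)
    · refine Ideal.add_mem _ h3 ?_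
      exact Ideal.pow_le_pow_right (show 1 ≤ n + 1 by omega) hc |> fun h => by simpa using h
    · have hval : (u' - q) * (v' - p) - algebraMap A B (α' + c)
          = (u' * v' - algebraMap A B α') - algebraMap A B c - u' * p - v' * q + q * p := by
        rw [map_add]; ring
      show (u' - q) * (v' - p) - algebraMap A B (α' + c) ∈ _
      rw [hval, hx]
      have : algebraMap A B c + u' * p + v' * q + e - algebraMap A B c - u' * p - v' * q + q * p
          = e + q * p := by ring
      rw [this]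
      refine Ideal.add_mem _ he ?_
      have hqp : q * p ∈ ((maximalIdeal A) ^ (n + 1)).map (algebraMap A B) *
          ((maximalIdeal A) ^ (n + 1)).map (algebraMap A B) := Ideal.mul_mem_mul hq hp
      rw [← Ideal.map_mul, ← pow_add] at hqp
      exact Ideal.map_mono (Ideal.pow_le_pow_right (by omega)) hqp
    · show u' - q - u' ∈ _
      have : u' - q - u' = -q := by ring
      rw [this]; exact Ideal.neg_mem_iff _ |>.mpr hq
    · show v' - p - v' ∈ _
      have : v' - p - v' = -p := by ring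
      rw [this]; exact Ideal.neg_mem_iff _ |>.mpr hp
    · show α' + c - α' ∈ _
      have : α' + c - α' = c := by ring
      rw [this]; exact hc
  obtain ⟨s, hs0, hsP, hsR⟩ := exists_seq P R (u, v, 0) h0 step
  refine ⟨fun n => (s n).1, fun n => (s n).2.1, fun n => (s n).2.2, by simp [hs0], by simp [hs0],
    fun n => (hsP n).1, fun n => (hsP n).2.1, fun n => (hsP n).2.2.1, fun n => (hsP n).2.2.2,
    fun n => (hsR n).1, fun n => (hsR n).2.1, fun n => (hsR n).2.2⟩

end Groth.Agent.Lib.Helper26.Node24A
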