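import Mathlib
import Groth.Agent.Lib.Helper26.Node24A

set_option autoImplicit false
open IsLocalRing

namespace Groth.Agent.Lib.Helper26.EqNodeC

open Groth.Agent.Lib.Helper26.Node24A

universe u

section Approx

variable {R S : Type u} [CommRing R] [IsLocalRing R] [CommRing S] [IsLocalRing S]
  [Algebra R S] [IsLocalHom (algebraMap R S)]

/-- equivariant approximating sequences -/
theorem exists_approx_eq
    (hres : Function.Bijective (IsLocalRing.ResidueField.map (algebraMap R S)))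
    (hR r₁ r₂ : R) (hh : hR * 2 = 1) (hr₁ : r₁ * r₁ = 1) (hr₂ : r₂ * r₂ = 1)
    (σ : S ≃ₐ[R] S) (hσ : ∀ s, σ (σ s) = s)
    (u v : S) (hσu : σ u = algebraMap R S r₂ * u) (hσv : σ v = algebraMap R S r₁ * v)
    (huv : u * v ∈ (maximalIdeal R).map (algebraMap R S))
    (hgen : maximalIdeal S = Ideal.span {u, v} ⊔ (maximalIdeal R).map (algebraMap R S)) :
    ∃ (us vs : ℕ → S) (αs : ℕ → R), us 0 = u ∧ vs 0 = v ∧
      (∀ n, us n - u ∈ (maximalIdeal R).map (algebraMap R S)) ∧
      (∀ n, vs n - v ∈ (maximalIdeal R).map (algebraMap R S)) ∧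
      (∀ n, αs n ∈ maximalIdeal R) ∧
      (∀ n, σ (us n) = algebraMap R S r₂ * us n) ∧
      (∀ n, σ (vs n) = algebraMap R S r₁ * vs n) ∧
      (∀ n, (1 - r₁ * r₂) * αs n = 0) ∧
      (∀ n, us n * vs n - algebraMap R S (αs n) ∈ ((maximalIdeal R) ^ (n + 1)).map (algebraMap R S)) ∧
      (∀ n, us (n + 1) - us n ∈ ((maximalIdeal R) ^ (n + 1)).map (algebraMap R S)) ∧
      (∀ n, vs (n + 1) - vs n ∈ ((maximalIdeal R) ^ (n + 1)).map (algebraMap R S)) ∧
      (∀ n, αs (n + 1) - αs n ∈ (maximalIdeal R) ^ (n + 1)) := by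
  set 𝔞S := (maximalIdeal R).map (algebraMap R S) with h𝔞S
  have hσmem : ∀ (n : ℕ) (s : S), s ∈ ((maximalIdeal R) ^ n).map (algebraMap R S) →
      σ s ∈ ((maximalIdeal R) ^ n).map (algebraMap R S) := by
    intro n s hs
    have hle : Ideal.map (algebraMap R S) (maximalIdeal R ^ n) ≤
        (Ideal.map (algebraMap R S) (maximalIdeal R ^ n)).comap (σ : S →+* S) := by
      rw [Ideal.map_le_iff_le_comap]
      intro r hr
      rw [Ideal.mem_comap, Ideal.mem_comap]
      show σ (algebraMap R S r) ∈ _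
      rw [σ.commutes]
      exact Ideal.mem_map_of_mem _ hr
    exact hle hs
  let P : ℕ → S × S × R → Prop := fun n x =>
    x.1 - u ∈ 𝔞S ∧ x.2.1 - v ∈ 𝔞S ∧ x.2.2 ∈ maximalIdeal R ∧
      σ x.1 = algebraMap R S r₂ * x.1 ∧ σ x.2.1 = algebraMap R S r₁ * x.2.1 ∧
      (1 - r₁ * r₂) * x.2.2 = 0 ∧
      x.1 * x.2.1 - algebraMap R S x.2.2 ∈ ((maximalIdeal R) ^ (n + 1)).map (algebraMap R S)
  let Q : ℕ → S × S × R → S × S × R → Prop := fun n x y =>
    y.1 - x.1 ∈ ((maximalIdeal R) ^ (n + 1)).map (algebraMap R S) ∧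
    y.2.1 - x.2.1 ∈ ((maximalIdeal R) ^ (n + 1)).map (algebraMap R S) ∧
    y.2.2 - x.2.2 ∈ (maximalIdeal R) ^ (n + 1)
  have hpow_le : ∀ N : ℕ, 1 ≤ N → ((maximalIdeal R) ^ N).map (algebraMap R S) ≤ 𝔞S := by
    intro N hN
    apply Ideal.map_mono
    calc (maximalIdeal R) ^ N ≤ (maximalIdeal R) ^ 1 := Ideal.pow_le_pow_right hN
      _ = maximalIdeal R := pow_one _
  have h0 : P 0 (u, v, 0) := by
    refine ⟨by simp, by simp, Ideal.zero_mem _, hσu, hσv, by simp, ?_⟩
    simpa using huv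
  have hhS : algebraMap R S hR * 2 = 1 := by
    have : (2 : S) = algebraMap R S 2 := (map_ofNat (algebraMap R S) 2).symm
    rw [this, ← map_mul, hh, map_one]
  have hr₁S : algebraMap R S r₁ * algebraMap R S r₁ = 1 := by rw [← map_mul, hr₁, map_one]
  have hr₂S : algebraMap R S r₂ * algebraMap R S r₂ = 1 := by rw [← map_mul, hr₂, map_one]
  have step : ∀ n x, P n x → ∃ y, P (n + 1) y ∧ Q n x y := by
    rintro n ⟨u', v', α'⟩ ⟨h1, h2, h3, h4u, h4v, h4α, h5⟩
    obtain ⟨c, p, q, e, hc, hp, hq, he, hx⟩ :=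
      decomp hres u v hgen u' v' h1 h2 (n + 1) _ h5
    dsimp only at h1 h2 h3 h4u h4v h4α h5 hx
    set ε := r₁ * r₂ with hε
    set x := u' * v' - algebraMap R S α' with hxdef
    -- σ x = ε x
    have hεα : algebraMap R S ε * algebraMap R S α' = algebraMap R S α' := by
      rw [← map_mul]
      congr 1
      linear_combination (-1 : R) * h4α
    have hσx : σ x = algebraMap R S ε * x := by
      rw [hxdef, map_sub, map_mul, h4u, h4v, σ.commutes, mul_sub, hεα, hε, map_mul]
      ring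
    have hεε : algebraMap R S ε * algebraMap R S ε = 1 := by
      rw [← map_mul, hε]
      have : r₁ * r₂ * (r₁ * r₂) = (r₁ * r₁) * (r₂ * r₂) := by ring
      rw [this, hr₁, hr₂, mul_one, map_one]
    have hxavg : x = algebraMap R S hR * (x + algebraMap R S ε * σ x) := by
      rw [hσx]
      linear_combination (-x) * hhS - (algebraMap R S hR * x) * hεε
    set pt := algebraMap R S hR * (p + algebraMap R S r₁ * σ p) with hpt
    set qt := algebraMap R S hR * (q + algebraMap R S r₂ * σ q) with hqt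
    set et := algebraMap R S hR * (e + algebraMap R S ε * σ e) with het
    set ct := hR * (1 + ε) * c with hct
    have hσpt : σ pt = algebraMap R S r₁ * pt := by
      rw [hpt, map_mul, map_add, map_mul, σ.commutes, σ.commutes, hσ]
      linear_combination (-(algebraMap R S hR * σ p)) * hr₁S
    have hσqt : σ qt = algebraMap R S r₂ * qt := by
      rw [hqt, map_mul, map_add, map_mul, σ.commutes, σ.commutes, hσ]
      linear_combination (-(algebraMap R S hR * σ q)) * hr₂S
    have hpt_mem : pt ∈ ((maximalIdeal R) ^ (n + 1)).map (algebraMap R S) :=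
      Ideal.mul_mem_left _ _ (Ideal.add_mem _ hp (Ideal.mul_mem_left _ _ (hσmem _ _ hp)))
    have hqt_mem : qt ∈ ((maximalIdeal R) ^ (n + 1)).map (algebraMap R S) :=
      Ideal.mul_mem_left _ _ (Ideal.add_mem _ hq (Ideal.mul_mem_left _ _ (hσmem _ _ hq)))
    have het_mem : et ∈ ((maximalIdeal R) ^ (n + 1 + 1)).map (algebraMap R S) :=
      Ideal.mul_mem_left _ _ (Ideal.add_mem _ he (Ideal.mul_mem_left _ _ (hσmem _ _ he)))
    have hct_mem : ct ∈ (maximalIdeal R) ^ (n + 1) := Ideal.mul_mem_left _ _ hc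
    -- the averaged decomposition
    have hx' : x = algebraMap R S ct + u' * pt + v' * qt + et := by
      have e1 : σ x = algebraMap R S c + algebraMap R S r₂ * u' * σ p
          + algebraMap R S r₁ * v' * σ q + σ e := by
        rw [hx, map_add, map_add, map_add, map_mul, map_mul, σ.commutes, h4u, h4v]
      rw [hxavg, e1]
      nth_rewrite 1 [hx]
      rw [hct, hpt, hqt, het]
      simp only [map_mul, map_add, map_one]
      rw [hε, map_mul]
      linear_combination (algebraMap R S hR * algebraMap R S r₁ * u' * σ p) * hr₂S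
        + (algebraMap R S hR * algebraMap R S r₂ * v' * σ q) * hr₁S
    refine ⟨(u' - qt, v' - pt, α' + ct), ⟨?_, ?_, ?_, ?_, ?_, ?_, ?_⟩, ⟨?_, ?_, ?_⟩⟩
    · have : u' - qt - u = (u' - u) - qt := by ring
      show u' - qt - u ∈ _
      rw [this]
      exact Ideal.sub_mem _ h1 (hpow_le _ (by omega) hqt_mem)
    · have : v' - pt - v = (v' - v) - pt := by ring
      show v' - pt - v ∈ _
      rw [this]
      exact Ideal.sub_mem _ h2 (hpow_le _ (by omega) hpt_mem)
    · refine Ideal.add_mem _ h3 ?_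
      exact Ideal.pow_le_pow_right (show 1 ≤ n + 1 by omega) hct_mem |> fun h => by simpa using h
    · show σ (u' - qt) = algebraMap R S r₂ * (u' - qt)
      rw [map_sub, h4u, hσqt]; ring
    · show σ (v' - pt) = algebraMap R S r₁ * (v' - pt)
      rw [map_sub, h4v, hσpt]; ring
    · show (1 - r₁ * r₂) * (α' + ct) = 0
      rw [mul_add, h4α, zero_add, hct]
      have : (1 - r₁ * r₂) * (hR * (1 + ε) * c) = hR * c * (1 - (r₁ * r₁) * (r₂ * r₂)) := by
        rw [hε]; ring
      rw [this, hr₁, hr₂]; ring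
    · have hval : (u' - qt) * (v' - pt) - algebraMap R S (α' + ct)
          = x - algebraMap R S ct - u' * pt - v' * qt + qt * pt := by
        rw [map_add, hxdef]; ring
      show (u' - qt) * (v' - pt) - algebraMap R S (α' + ct) ∈ _
      rw [hval]
      have : x - algebraMap R S ct - u' * pt - v' * qt + qt * pt = et + qt * pt := by
        nth_rewrite 1 [hx']; ring
      rw [this]
      refine Ideal.add_mem _ het_mem ?_
      have hqp : qt * pt ∈ ((maximalIdeal R) ^ (n + 1)).map (algebraMap R S) *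
          ((maximalIdeal R) ^ (n + 1)).map (algebraMap R S) := Ideal.mul_mem_mul hqt_mem hpt_mem
      rw [← Ideal.map_mul, ← pow_add] at hqp
      exact Ideal.map_mono (Ideal.pow_le_pow_right (by omega)) hqp
    · show u' - qt - u' ∈ _
      have : u' - qt - u' = -qt := by ring
      rw [this]; exact Ideal.neg_mem_iff _ |>.mpr hqt_mem
    · show v' - pt - v' ∈ _
      have : v' - pt - v' = -pt := by ring
      rw [this]; exact Ideal.neg_mem_iff _ |>.mpr hpt_mem
    · show α' + ct - α' ∈ _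
      have : α' + ct - α' = ct := by ring
      rw [this]; exact hct_mem
  obtain ⟨s, hs0, hsP, hsQ⟩ := exists_seq P Q (u, v, 0) h0 step
  refine ⟨fun n => (s n).1, fun n => (s n).2.1, fun n => (s n).2.2, by simp [hs0], by simp [hs0],
    fun n => (hsP n).1, fun n => (hsP n).2.1, fun n => (hsP n).2.2.1, fun n => (hsP n).2.2.2.1,
    fun n => (hsP n).2.2.2.2.1, fun n => (hsP n).2.2.2.2.2.1, fun n => (hsP n).2.2.2.2.2.2,
    fun n => (hsQ n).1, fun n => (hsQ n).2.1, fun n => (hsQ n).2.2⟩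

end Approx

theorem exists_limit {S : Type u} [CommRing S] (I : Ideal S) [IsPrecomplete I S] (f : ℕ → S)
    (hf : ∀ n, f (n + 1) - f n ∈ I ^ n) : ∃ L, ∀ n, f n - L ∈ I ^ n := by
  have hmn : ∀ m n, m ≤ n → f n - f m ∈ I ^ m := by
    intro m n hmn
    induction n, hmn using Nat.le_induction with
    | base => simp
    | succ n hmn ih =>
      have : f (n + 1) - f m = (f (n + 1) - f n) + (f n - f m) := by ring
      rw [this]
      exact Ideal.add_mem _ (Ideal.pow_le_pow_right hmn (hf n)) ih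
  obtain ⟨L, hL⟩ := IsPrecomplete.prec (I := I) (M := S) ‹_› (f := f) (by
    intro m n hmn'
    rw [SModEq.sub_mem, smul_eq_mul, Ideal.mul_top]
    have := hmn m n hmn'
    rw [← Ideal.neg_mem_iff]
    simpa using this)
  refine ⟨L, fun n => ?_⟩
  have := hL n
  rwa [SModEq.sub_mem, smul_eq_mul, Ideal.mul_top] at this

theorem eq_zero_of_forall_mem {S : Type u} [CommRing S] (I : Ideal S) [IsHausdorff I S] (x : S)
    (hx : ∀ n, x ∈ I ^ n) : x = 0 := by
  apply IsHausdorff.haus (I := I) (M := S) ‹_›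
  intro n
  rw [SModEq.zero, smul_eq_mul, Ideal.mul_top]
  exact hx n

section Limits

variable {R S : Type u} [CommRing R] [IsLocalRing R] [CommRing S] [IsLocalRing S]
  [Algebra R S] [IsLocalHom (algebraMap R S)]

omit [IsLocalRing R] [IsLocalHom (algebraMap R S)] in
theorem sigma_pow_mem (σ : S ≃ₐ[R] S) (n : ℕ) (s : S) (hs : s ∈ maximalIdeal S ^ n) :
    σ s ∈ maximalIdeal S ^ n := by
  have h1 : (maximalIdeal S).map (σ : S →+* S) ≤ maximalIdeal S := by
    rw [Ideal.map_le_iff_le_comap]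
    intro a ha
    rw [Ideal.mem_comap, mem_maximalIdeal, mem_nonunits_iff] at *
    intro hu
    apply ha
    have := hu.map σ.symm
    simpa using this
  have h2 : (maximalIdeal S ^ n).map (σ : S →+* S) ≤ maximalIdeal S ^ n := by
    rw [Ideal.map_pow]
    exact Ideal.pow_right_mono h1 n
  exact h2 (Ideal.mem_map_of_mem _ hs)

omit [IsLocalHom (algebraMap R S)] in
theorem map_pow_le_of_local (hloc : (maximalIdeal R).map (algebraMap R S) ≤ maximalIdeal S) (n : ℕ) :
    ((maximalIdeal R) ^ n).map (algebraMap R S) ≤ maximalIdeal S ^ n := by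
  rw [Ideal.map_pow]
  exact Ideal.pow_right_mono hloc n

theorem exists_limits_eq [IsAdicComplete (maximalIdeal R) R] [IsAdicComplete (maximalIdeal S) S]
    (hR r₁ r₂ : R)
    (σ : S ≃ₐ[R] S)
    (u v : S)
    (us vs : ℕ → S) (αs : ℕ → R)
    (hus : ∀ n, us n - u ∈ (maximalIdeal R).map (algebraMap R S))
    (hvs : ∀ n, vs n - v ∈ (maximalIdeal R).map (algebraMap R S))
    (hαs : ∀ n, αs n ∈ maximalIdeal R)
    (hσus : ∀ n, σ (us n) = algebraMap R S r₂ * us n)
    (hσvs : ∀ n, σ (vs n) = algebraMap R S r₁ * vs n)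
    (hεα : ∀ n, (1 - r₁ * r₂) * αs n = 0)
    (hprod : ∀ n, us n * vs n - algebraMap R S (αs n) ∈
      ((maximalIdeal R) ^ (n + 1)).map (algebraMap R S))
    (hustep : ∀ n, us (n + 1) - us n ∈ ((maximalIdeal R) ^ (n + 1)).map (algebraMap R S))
    (hvstep : ∀ n, vs (n + 1) - vs n ∈ ((maximalIdeal R) ^ (n + 1)).map (algebraMap R S))
    (hαstep : ∀ n, αs (n + 1) - αs n ∈ (maximalIdeal R) ^ (n + 1)) :
    ∃ (t : R) (U V : S), t ∈ maximalIdeal R ∧ (1 - r₁ * r₂) * t = 0 ∧
      U * V = algebraMap R S t ∧ σ U = algebraMap R S r₂ * U ∧ σ V = algebraMap R S r₁ * V ∧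
      U - u ∈ (maximalIdeal R).map (algebraMap R S) ⊔ maximalIdeal S ^ 2 ∧
      V - v ∈ (maximalIdeal R).map (algebraMap R S) ⊔ maximalIdeal S ^ 2 := by
  have hloc : (maximalIdeal R).map (algebraMap R S) ≤ maximalIdeal S :=
    ((IsLocalRing.local_hom_TFAE (algebraMap R S)).out 0 2).mp ‹_›
  have hmapS := map_pow_le_of_local (R := R) (S := S) hloc
  obtain ⟨U, hU⟩ := exists_limit (maximalIdeal S) us (fun n =>
    Ideal.pow_le_pow_right (Nat.le_succ n) (hmapS (n + 1) (hustep n)))
  obtain ⟨V, hV⟩ := exists_limit (maximalIdeal S) vs (fun n =>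
    Ideal.pow_le_pow_right (Nat.le_succ n) (hmapS (n + 1) (hvstep n)))
  obtain ⟨t, ht⟩ := exists_limit (maximalIdeal R) αs (fun n =>
    Ideal.pow_le_pow_right (Nat.le_succ n) (hαstep n))
  have htS : ∀ n, algebraMap R S (αs n) - algebraMap R S t ∈ maximalIdeal S ^ n := by
    intro n
    rw [← map_sub]
    exact hmapS n (Ideal.mem_map_of_mem _ (ht n))
  refine ⟨t, U, V, ?_, ?_, ?_, ?_, ?_, ?_, ?_⟩
  · have h1 := ht 1
    rw [pow_one] at h1
    have : t = αs 1 - (αs 1 - t) := by ring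
    rw [this]
    exact Ideal.sub_mem _ (hαs 1) h1
  · apply eq_zero_of_forall_mem (maximalIdeal R)
    intro n
    have : (1 - r₁ * r₂) * t = -((1 - r₁ * r₂) * (αs n - t)) := by
      rw [mul_sub, hεα n]; ring
    rw [this]
    exact Ideal.neg_mem_iff _ |>.mpr (Ideal.mul_mem_left _ _ (ht n))
  · rw [← sub_eq_zero]
    apply eq_zero_of_forall_mem (maximalIdeal S)
    intro n
    have : U * V - algebraMap R S t = -((us n - U) * vs n) - U * (vs n - V)
        + (us n * vs n - algebraMap R S (αs n)) + (algebraMap R S (αs n) - algebraMap R S t) := by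
      ring
    rw [this]
    refine Ideal.add_mem _ (Ideal.add_mem _ (Ideal.sub_mem _ ?_ ?_) ?_) (htS n)
    · exact Ideal.neg_mem_iff _ |>.mpr (Ideal.mul_mem_right _ _ (hU n))
    · exact Ideal.mul_mem_left _ _ (hV n)
    · exact Ideal.pow_le_pow_right (Nat.le_succ n) (hmapS (n + 1) (hprod n))
  · rw [← sub_eq_zero]
    apply eq_zero_of_forall_mem (maximalIdeal S)
    intro n
    have : σ U - algebraMap R S r₂ * U = -(σ (us n - U)) + algebraMap R S r₂ * (us n - U) := by
      rw [map_sub, hσus n]; ring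
    rw [this]
    exact Ideal.add_mem _ (Ideal.neg_mem_iff _ |>.mpr (sigma_pow_mem σ n _ (hU n)))
      (Ideal.mul_mem_left _ _ (hU n))
  · rw [← sub_eq_zero]
    apply eq_zero_of_forall_mem (maximalIdeal S)
    intro n
    have : σ V - algebraMap R S r₁ * V = -(σ (vs n - V)) + algebraMap R S r₁ * (vs n - V) := by
      rw [map_sub, hσvs n]; ring
    rw [this]
    exact Ideal.add_mem _ (Ideal.neg_mem_iff _ |>.mpr (sigma_pow_mem σ n _ (hV n)))
      (Ideal.mul_mem_left _ _ (hV n))
  · have : U - u = (us 2 - u) - (us 2 - U) := by ring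
    rw [this]
    exact Ideal.sub_mem _ (Ideal.mem_sup_left (hus 2)) (Ideal.mem_sup_right (hU 2))
  · have : V - v = (vs 2 - v) - (vs 2 - V) := by ring
    rw [this]
    exact Ideal.sub_mem _ (Ideal.mem_sup_left (hvs 2)) (Ideal.mem_sup_right (hV 2))

end Limits

end Groth.Agent.Lib.Helper26.EqNodeC
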