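import Mathlib

set_option autoImplicit false
open IsLocalRing

namespace Groth.Agent.Lib.Helper26.Node24C

universe u

theorem exists_evalHom {R S : Type u} [CommRing R] [CommRing S] [IsLocalRing S]
    [IsAdicComplete (maximalIdeal S) S] (φ : R →+* S) (a : Fin 2 → S)
    (ha : ∀ i, a i ∈ maximalIdeal S) :
    ∃ Ψ : MvPowerSeries (Fin 2) R →+* S,
      (∀ r, Ψ (MvPowerSeries.C r) = φ r) ∧ (∀ i, Ψ (MvPowerSeries.X i) = a i) := by
  letI : WithIdeal S := ⟨maximalIdeal S⟩
  letI : WithIdeal R := ⟨⊥⟩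
  have hadic : IsAdic (maximalIdeal S) := rfl
  obtain ⟨hc, ht2⟩ := hadic.isAdicComplete_iff.mp inferInstance
  have hφ : Continuous φ := by
    apply UniformContinuous.continuous
    apply WithIdeal.uniformContinuous_of_map_le
    show Ideal.map φ ⊥ ≤ _
    rw [Ideal.map_bot]; exact bot_le
  have hev : MvPowerSeries.HasEval a := by
    refine ⟨fun i => WithIdeal.isTopologicallyNilpotent_of_mem (ha i), ?_⟩
    rw [Filter.cofinite_eq_bot]; exact Filter.tendsto_bot
  refine ⟨MvPowerSeries.eval₂Hom hφ hev, fun r => ?_, fun i => ?_⟩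
  · rw [MvPowerSeries.coe_eval₂Hom, MvPowerSeries.eval₂_C]
  · rw [MvPowerSeries.coe_eval₂Hom, MvPowerSeries.eval₂_X]

end Groth.Agent.Lib.Helper26.Node24C
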