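import Mathlib

set_option autoImplicit false
open IsLocalRing

namespace Groth.Agent.Lib.Helper26.Node25A

universe u

/-- flatness of the quotient: `K ∩ I R = I K` -/
theorem ker_inf_map_le {A R S : Type*} [CommRing A] [CommRing R] [CommRing S] [Algebra A R]
    [Algebra A S] [Module.Flat A S] (ψ : R →ₐ[A] S) (hψ : Function.Surjective ψ) (I : Ideal A) :
    RingHom.ker ψ ⊓ I.map (algebraMap A R) ≤ I.map (algebraMap A R) * RingHom.ker ψ := by
  rintro x ⟨hxK, hxI⟩
  rw [SetLike.mem_coe, Ideal.map, Ideal.span, Submodule.mem_span_image_iff_exists_fun] at hxI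
  obtain ⟨t, ht, c, rfl⟩ := hxI
  have hrel : ∑ i : t, (i : A) • ψ (c i) = 0 := by
    have := hxK
    rw [SetLike.mem_coe, RingHom.mem_ker, map_sum] at this
    rw [← this]
    apply Finset.sum_congr rfl
    intro i _
    rw [smul_eq_mul, map_mul, AlgHom.commutes, Algebra.smul_def, mul_comm]
  obtain ⟨k, b, y, hy1, hy2⟩ := Module.Flat.isTrivialRelation_of_sum_smul_eq_zero
    (f := fun i : t => (i : A)) (x := fun i : t => ψ (c i)) hrel
  replace hy1 : ∀ i : t, ψ (c i) = ∑ j, b i j • y j := hy1
  replace hy2 : ∀ j, ∑ i : t, (i : A) * b i j = 0 := hy2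
  choose y' hy' using fun j => hψ (y j)
  have hd : ∀ i, c i - ∑ j, algebraMap A R (b i j) * y' j ∈ RingHom.ker ψ := by
    intro i
    rw [RingHom.mem_ker, map_sub, map_sum, hy1 i, sub_eq_zero]
    apply Finset.sum_congr rfl
    intro j _
    rw [map_mul, AlgHom.commutes, hy', Algebra.smul_def]
  have hzero : ∑ i : t, algebraMap A R (i : A) * ∑ j, algebraMap A R (b i j) * y' j = 0 := by
    simp_rw [Finset.mul_sum]
    rw [Finset.sum_comm]
    apply Finset.sum_eq_zero
    intro j _
    have h2 := hy2 j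
    have h3 : ∑ i : t, algebraMap A R (i : A) * (algebraMap A R (b i j) * y' j) =
        algebraMap A R (∑ i : t, (i : A) * b i j) * y' j := by
      rw [map_sum, Finset.sum_mul]
      apply Finset.sum_congr rfl
      intro i _
      rw [map_mul, mul_assoc]
    rw [h3, h2, map_zero, zero_mul]
  have hsum : ∑ i : t, c i • algebraMap A R (i : A) =
      ∑ i : t, algebraMap A R (i : A) * (c i - ∑ j, algebraMap A R (b i j) * y' j) := by
    simp_rw [mul_sub]
    rw [Finset.sum_sub_distrib, hzero, sub_zero]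
    apply Finset.sum_congr rfl
    intro i _
    rw [smul_eq_mul, mul_comm]
  rw [hsum]
  apply Ideal.sum_mem
  intro i _
  exact Ideal.mul_mem_mul (Ideal.mem_map_of_mem _ (ht i.2)) (hd i)


section cmap
variable {R S : Type*} [CommRing R] [CommRing S] (f : R →+* S) (I : Ideal R) (J : Ideal S)
  (h : I.map f ≤ J)

include h in
theorem pow_le_comap (n : ℕ) : I ^ n ≤ (J ^ n).comap f := by
  rw [← Ideal.map_le_iff_le_comap, Ideal.map_pow]
  exact Ideal.pow_right_mono h n

/-- the map `R/I^n → S/J^n` -/
noncomputable def gmap (n : ℕ) : R ⧸ I ^ n →+* S ⧸ J ^ n :=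
  Ideal.quotientMap _ f (pow_le_comap f I J h n)

@[simp] theorem gmap_mk (n : ℕ) (a : R) :
    gmap f I J h n (Ideal.Quotient.mk _ a) = Ideal.Quotient.mk _ (f a) := by
  simp [gmap]

theorem factorPow_evalₐ (x : AdicCompletion I R)
    {m n : ℕ} (hle : m ≤ n) :
    Ideal.Quotient.factorPow I hle (AdicCompletion.evalₐ I n x) = AdicCompletion.evalₐ I m x := by
  obtain ⟨g, rfl⟩ := AdicCompletion.mk_surjective I R x
  rw [AdicCompletion.evalₐ_mk, AdicCompletion.evalₐ_mk]
  simp only [Ideal.Quotient.factorPow, Ideal.Quotient.factor_mk]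
  rw [Ideal.Quotient.eq]
  have := g.2 hle
  rw [SModEq.sub_mem, smul_eq_mul, Ideal.mul_top] at this
  have h2 := Ideal.neg_mem_iff _ |>.mpr this
  simpa using h2

theorem cmap_compat {m n : ℕ} (hle : m ≤ n) :
    (Ideal.Quotient.factorPow J hle).comp
        ((gmap f I J h n).comp (AdicCompletion.evalₐ I n).toRingHom) =
      (gmap f I J h m).comp (AdicCompletion.evalₐ I m).toRingHom := by
  ext x
  simp only [RingHom.coe_comp, Function.comp_apply, AlgHom.toRingHom_eq_coe, RingHom.coe_coe]
  rw [← factorPow_evalₐ I x hle]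
  obtain ⟨a, ha⟩ := Ideal.Quotient.mk_surjective (AdicCompletion.evalₐ I n x)
  rw [← ha]
  simp only [Ideal.Quotient.factorPow, Ideal.Quotient.factor_mk, gmap_mk]

/-- the induced map on completions -/
noncomputable def cmap : AdicCompletion I R →+* AdicCompletion J S :=
  AdicCompletion.liftRingHom J
    (fun n => (gmap f I J h n).comp (AdicCompletion.evalₐ I n).toRingHom)
    (fun hle => cmap_compat f I J h hle)

theorem evalₐ_cmap (n : ℕ) (x : AdicCompletion I R) :
    AdicCompletion.evalₐ J n (cmap f I J h x) =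
      gmap f I J h n (AdicCompletion.evalₐ I n x) := by
  unfold cmap
  rw [AdicCompletion.evalₐ_liftRingHom _ _ (fun hle => cmap_compat f I J h hle)]
  rfl

theorem cmap_of (a : R) :
    cmap f I J h (AdicCompletion.of I R a) = AdicCompletion.of J S (f a) := by
  apply AdicCompletion.ext_evalₐ
  intro n
  rw [evalₐ_cmap, AdicCompletion.evalₐ_of, AdicCompletion.evalₐ_of, gmap_mk]

theorem cmap_mk (g : AdicCompletion.AdicCauchySequence I R)
    (g' : AdicCompletion.AdicCauchySequence J S) (hg : ∀ n, g' n = f (g n)) :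
    cmap f I J h (AdicCompletion.mk I R g) = AdicCompletion.mk J S g' := by
  apply AdicCompletion.ext_evalₐ
  intro n
  rw [evalₐ_cmap, AdicCompletion.evalₐ_mk, AdicCompletion.evalₐ_mk, gmap_mk, hg]

/-- surjectivity of the completion map for a surjection -/
theorem cmap_surjective (hf : Function.Surjective f) (hJ : J = I.map f) :
    Function.Surjective (cmap f I J h) := by
  intro y
  obtain ⟨c, rfl⟩ := AdicCompletion.mk_surjective J S y
  have hstep : ∀ n, ∃ d ∈ I ^ n, f d = c (n + 1) - c n := by
    intro n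
    have h1 : c (n + 1) - c n ∈ J ^ n := by
      have := c.2 (Nat.le_succ n)
      rw [SModEq.sub_mem, smul_eq_mul, Ideal.mul_top] at this
      rw [← Ideal.neg_mem_iff]; simpa using this
    have h1' : c (n + 1) - c n ∈ (I ^ n).map f := by
      rw [Ideal.map_pow, ← hJ]; exact h1
    obtain ⟨d, hd, hfd⟩ := (Ideal.mem_map_iff_of_surjective f hf).mp h1'
    exact ⟨d, hd, hfd⟩
  choose d hd hfd using hstep
  obtain ⟨b0, hb0⟩ := hf (c 0)
  let b : ℕ → R := fun n => Nat.rec b0 (fun n z => z + d n) n
  have hb : ∀ n, f (b n) = c n := by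
    intro n
    induction n with
    | zero => exact hb0
    | succ n ih =>
      show f (b n + d n) = _
      rw [map_add, ih, hfd]; ring
  let g : AdicCompletion.AdicCauchySequence I R :=
    AdicCompletion.AdicCauchySequence.mk _ _ b (by
      intro n
      rw [SModEq.sub_mem, smul_eq_mul, Ideal.mul_top]
      have : b n - b (n + 1) = - d n := by
        show b n - (b n + d n) = _
        ring
      rw [this]
      exact Ideal.neg_mem_iff _ |>.mpr (hd n))
  refine ⟨AdicCompletion.mk I R g, ?_⟩
  exact cmap_mk f I J h g c (fun n => (hb n).symm)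

end cmap


section coeffwise

theorem mem_map_of_coeff_mem {A0 : Type*} [CommRing A0] {Rc : Type*} [CommRing Rc] [Algebra A0 Rc]
    {σ : Type*} (I : Ideal A0) (hI : I.FG)
    (f : MvPowerSeries σ Rc) (hf : ∀ d, MvPowerSeries.coeff d f ∈ I.map (algebraMap A0 Rc)) :
    f ∈ I.map (algebraMap A0 (MvPowerSeries σ Rc)) := by
  obtain ⟨n, a, ha⟩ := Submodule.fg_iff_exists_fin_generating_family.mp hI
  have hmap : I.map (algebraMap A0 Rc) = Ideal.span (Set.range (fun i => algebraMap A0 Rc (a i))) := by
    have : I = Ideal.span (Set.range a) := ha.symm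
    rw [this, Ideal.map_span, ← Set.range_comp]
    rfl
  have hc : ∀ d, ∃ c : Fin n → Rc, ∑ i, c i * algebraMap A0 Rc (a i) = MvPowerSeries.coeff d f := by
    intro d
    have := hf d
    rw [hmap] at this
    exact Ideal.mem_span_range_iff_exists_fun.mp this
  choose c hc using hc
  let F : Fin n → MvPowerSeries σ Rc := fun i d => c d i
  have hfe : f = ∑ i, F i * algebraMap A0 (MvPowerSeries σ Rc) (a i) := by
    ext d
    rw [map_sum, ← hc d]
    apply Finset.sum_congr rfl
    intro i _
    rw [MvPowerSeries.algebraMap_apply, MvPowerSeries.coeff_mul_C]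
    rfl
  rw [hfe]
  apply Ideal.sum_mem
  intro i _
  apply Ideal.mul_mem_left
  apply Ideal.mem_map_of_mem
  rw [← ha]
  exact Submodule.subset_span ⟨i, rfl⟩

theorem mvmap_surjective {R1 R2 : Type*} [CommRing R1] [CommRing R2] {σ : Type*} (φ : R1 →+* R2)
    (hφ : Function.Surjective φ) :
    Function.Surjective (MvPowerSeries.map (σ := σ) φ) := by
  intro g
  choose l hl using hφ
  let F : MvPowerSeries σ R1 := fun d => l (MvPowerSeries.coeff d g)
  refine ⟨F, ?_⟩
  ext d
  rw [MvPowerSeries.coeff_map]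
  exact hl _

theorem mem_ker_mvmap {R1 R2 : Type*} [CommRing R1] [CommRing R2] {σ : Type*} (φ : R1 →+* R2)
    (f : MvPowerSeries σ R1) :
    f ∈ RingHom.ker (MvPowerSeries.map (σ := σ) φ) ↔ ∀ d, MvPowerSeries.coeff d f ∈ RingHom.ker φ := by
  rw [RingHom.mem_ker]
  constructor
  · intro h d
    rw [RingHom.mem_ker, ← MvPowerSeries.coeff_map, h, map_zero]
  · intro h
    ext d
    rw [MvPowerSeries.coeff_map, map_zero]
    exact h d

end coeffwise

end Groth.Agent.Lib.Helper26.Node25A
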