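import Mathlib
import Groth.Agent.Lib.Helper1.ArtFunPS
import Groth.Agent.Lib.Helper3.PowerSeriesAut
import Groth.Agent.Lib.Helper26.Node24A
import Groth.Agent.Lib.Helper26.Node24C
import Groth.Agent.Lib.Helper26.Node25A
import Groth.Agent.Lib.Helper26.EqNodeA

set_option autoImplicit false
open IsLocalRing MvPowerSeries

namespace Groth.Agent.Lib.Helper26.EqNodeD

open Groth.Agent.Lib.Helper26.EqNodeA Groth.Agent.Lib.Helper26.Node24A
  Groth.Agent.Lib.Helper26.Node24C Groth.Agent.Lib.Helper26.Node25A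

universe u

section Iso

variable {k R S : Type u} [Field k] [CommRing R] [IsLocalRing R] [CommRing S] [IsLocalRing S]
  [Algebra k R] [Algebra R S] [Algebra k S] [IsScalarTower k R S] [IsLocalHom (algebraMap R S)]

omit [IsLocalHom (algebraMap R S)] [Field k] [Algebra k R] [Algebra k S]
  [IsScalarTower k R S] in
/-- generators after perturbation -/
theorem max_eq_of_perturb [IsNoetherianRing S] (u v U V : S)
    (hgen : maximalIdeal S = Ideal.span {u, v} ⊔ (maximalIdeal R).map (algebraMap R S))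
    (hU : U - u ∈ (maximalIdeal R).map (algebraMap R S) ⊔ maximalIdeal S ^ 2)
    (hV : V - v ∈ (maximalIdeal R).map (algebraMap R S) ⊔ maximalIdeal S ^ 2) :
    maximalIdeal S = Ideal.span {U, V} ⊔ (maximalIdeal R).map (algebraMap R S) := by
  set I := (maximalIdeal R).map (algebraMap R S) with hI
  have hIle : I ≤ maximalIdeal S := by rw [hgen]; exact le_sup_right
  have hu : u ∈ maximalIdeal S := by
    rw [hgen]; exact Ideal.mem_sup_left (Ideal.subset_span (Set.mem_insert _ _))
  have hv : v ∈ maximalIdeal S := by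
    rw [hgen]; exact Ideal.mem_sup_left (Ideal.subset_span (Set.mem_insert_of_mem _ rfl))
  have hsq : maximalIdeal S ^ 2 ≤ maximalIdeal S := Ideal.pow_le_self (by norm_num)
  have hUm : U ∈ maximalIdeal S := by
    have : U = u + (U - u) := by ring
    rw [this]
    exact Ideal.add_mem _ hu (sup_le hIle hsq hU)
  have hVm : V ∈ maximalIdeal S := by
    have : V = v + (V - v) := by ring
    rw [this]
    exact Ideal.add_mem _ hv (sup_le hIle hsq hV)
  apply le_antisymm
  · apply Submodule.le_of_le_smul_of_le_jacobson_bot (I := maximalIdeal S)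
      (IsNoetherian.noetherian _)
    · rw [IsLocalRing.jacobson_eq_maximalIdeal ⊥ bot_ne_top]
    · have hmm : maximalIdeal S • maximalIdeal S = maximalIdeal S ^ 2 := by
        rw [smul_eq_mul, pow_two]
      rw [hmm]
      have hu' : u ∈ Ideal.span {U, V} ⊔ I ⊔ maximalIdeal S ^ 2 := by
        have : u = U - (U - u) := by ring
        rw [this]
        refine Ideal.sub_mem _ (Ideal.mem_sup_left (Ideal.mem_sup_left
          (Ideal.subset_span (Set.mem_insert _ _)))) ?_
        exact (sup_le (le_sup_of_le_left le_sup_right) le_sup_right : I ⊔ maximalIdeal S ^ 2 ≤ _) hU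
      have hv' : v ∈ Ideal.span {U, V} ⊔ I ⊔ maximalIdeal S ^ 2 := by
        have : v = V - (V - v) := by ring
        rw [this]
        refine Ideal.sub_mem _ (Ideal.mem_sup_left (Ideal.mem_sup_left
          (Ideal.subset_span (Set.mem_insert_of_mem _ rfl)))) ?_
        exact (sup_le (le_sup_of_le_left le_sup_right) le_sup_right : I ⊔ maximalIdeal S ^ 2 ≤ _) hV
      nth_rewrite 1 [hgen]
      apply sup_le
      · rw [Ideal.span_le]
        rintro _ (rfl | rfl)
        · exact hu'
        · exact hv'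
      · exact le_sup_of_le_left le_sup_right
  · apply sup_le
    · rw [Ideal.span_le]
      rintro _ (rfl | rfl)
      · exact hUm
      · exact hVm
    · exact hIle

end Iso

section Iso

variable {k R S : Type u} [Field k] [CommRing R] [IsLocalRing R] [CommRing S] [IsLocalRing S]
  [Algebra k R] [Algebra R S] [Algebra k S] [IsScalarTower k R S] [IsLocalHom (algebraMap R S)]

/-- surjectivity of the evaluation map -/
theorem Psi_surjective [IsNoetherianRing R] [IsAdicComplete (maximalIdeal R) R]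
    [IsAdicComplete (maximalIdeal S) S]
    (hres : Function.Bijective (IsLocalRing.ResidueField.map (algebraMap R S)))
    (U V : S)
    (hgen : maximalIdeal S = Ideal.span {U, V} ⊔ (maximalIdeal R).map (algebraMap R S))
    (Ψ : MvPowerSeries (Fin 2) R →ₐ[R] S) (hΨ0 : Ψ (X 0) = U) (hΨ1 : Ψ (X 1) = V) :
    Function.Surjective Ψ := by
  have hΨC : ∀ r : R, Ψ (C r) = algebraMap R S r := by
    intro r
    have : (C r : MvPowerSeries (Fin 2) R) = algebraMap R _ r := rfl
    rw [this, AlgHom.commutes]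
  have hJ : (maximalIdeal (MvPowerSeries (Fin 2) R)).map Ψ.toRingHom = maximalIdeal S := by
    rw [Groth.Agent.Lib.Helper1.ArtFunLib.PS.maximalIdeal_eq_sup, Ideal.map_sup, Ideal.map_map,
      Ideal.map_span, hgen, sup_comm]
    congr 1
    · congr 1
      ext s
      constructor
      · rintro ⟨_, ⟨i, rfl⟩, rfl⟩
        fin_cases i
        · left; exact hΨ0
        · right; exact hΨ1
      · rintro (rfl | rfl)
        · exact ⟨X 0, ⟨0, rfl⟩, hΨ0⟩
        · exact ⟨X 1, ⟨1, rfl⟩, hΨ1⟩
    · congr 1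
      ext r
      exact hΨC r
  haveI : IsAdicComplete (maximalIdeal (MvPowerSeries (Fin 2) R)) (MvPowerSeries (Fin 2) R) :=
    Groth.Agent.Lib.Helper1.ArtFunLib.PS.isAdicComplete_mvPowerSeries
  haveI : IsHausdorff ((maximalIdeal (MvPowerSeries (Fin 2) R)).map Ψ.toRingHom) S := by
    rw [hJ]; infer_instance
  have := surjective_of_mk_map_comp_surjective Ψ.toRingHom
    (I := maximalIdeal (MvPowerSeries (Fin 2) R)) (by
      intro y
      obtain ⟨s, rfl⟩ := Ideal.Quotient.mk_surjective y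
      obtain ⟨a, ha⟩ := exists_sub_mem_max hres s
      refine ⟨C a, ?_⟩
      rw [RingHom.comp_apply, Ideal.Quotient.eq, hJ]
      show Ψ (C a) - s ∈ _
      rw [hΨC, ← Ideal.neg_mem_iff]
      simpa using ha)
  exact this

end Iso

section Iso

variable {k R S : Type u} [Field k] [CommRing R] [IsLocalRing R] [CommRing S] [IsLocalRing S]
  [Algebra k R] [Algebra R S] [Algebra k S] [IsScalarTower k R S] [IsLocalHom (algebraMap R S)]

/-- `R = k + 𝔪` -/
theorem exists_sub_algebraMap_mem_R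
    (hS : ∀ s : S, ∃ c : k, s - algebraMap k S c ∈ maximalIdeal S) (r : R) :
    ∃ c : k, r - algebraMap k R c ∈ maximalIdeal R := by
  obtain ⟨c, hc⟩ := hS (algebraMap R S r)
  refine ⟨c, ?_⟩
  rw [IsScalarTower.algebraMap_apply k R S, ← map_sub] at hc
  by_contra hnot
  rw [mem_maximalIdeal, mem_nonunits_iff, not_not] at hnot
  have := hnot.map (algebraMap R S)
  rw [mem_maximalIdeal, mem_nonunits_iff] at hc
  exact hc this

omit [IsLocalRing S] [Algebra R S] [Algebra k S] [IsScalarTower k R S]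
  [IsLocalHom (algebraMap R S)] in
/-- every power series over `R` is a power series over `k` modulo `𝔪 R[[X]]` -/
theorem exists_sub_map_mem [IsNoetherianRing R]
    (hR : ∀ r : R, ∃ c : k, r - algebraMap k R c ∈ maximalIdeal R)
    (f : MvPowerSeries (Fin 2) R) :
    ∃ f₀ : MvPowerSeries (Fin 2) k, f - MvPowerSeries.map (algebraMap k R) f₀ ∈
      (maximalIdeal R).map (algebraMap R (MvPowerSeries (Fin 2) R)) := by
  choose c hc using hR
  refine ⟨(fun d => c (coeff d f) : (Fin 2 →₀ ℕ) → k), ?_⟩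
  apply mem_map_of_coeff_mem (maximalIdeal R) (IsNoetherian.noetherian _)
  intro d
  rw [Algebra.algebraMap_self, Ideal.map_id, map_sub]
  exact hc _

theorem ker_Psi_le [IsNoetherianRing R]
    (hS : ∀ s : S, ∃ c : k, s - algebraMap k S c ∈ maximalIdeal S)
    (ρ : S →ₐ[k] NN k) (hρs : Function.Surjective ρ)
    (hρk : RingHom.ker ρ.toRingHom = Ideal.map (algebraMap R S) (maximalIdeal R))
    (t : R) (ht : t ∈ maximalIdeal R)
    (Ψ : MvPowerSeries (Fin 2) R →ₐ[R] S) (hΨs : Function.Surjective Ψ)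
    (hΨ : Ψ (X 0 * X 1 - C t) = 0) :
    RingHom.ker Ψ.toRingHom ≤ Ideal.span {(X 0 * X 1 - C t : MvPowerSeries (Fin 2) R)} ⊔
      (maximalIdeal R).map (algebraMap R (MvPowerSeries (Fin 2) R)) := by
  set 𝔪X := (maximalIdeal R).map (algebraMap R (MvPowerSeries (Fin 2) R)) with h𝔪X
  have hR := exists_sub_algebraMap_mem_R (k := k) (R := R) (S := S) hS
  -- Ψ maps 𝔪 R[[X]] into ker ρ
  have hΨm : ∀ m ∈ 𝔪X, ρ (Ψ m) = 0 := by
    intro m hm
    have h1 : Ψ m ∈ Ideal.map (algebraMap R S) (maximalIdeal R) := by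
      have hle : 𝔪X ≤ (Ideal.map (algebraMap R S) (maximalIdeal R)).comap Ψ.toRingHom := by
        rw [h𝔪X, Ideal.map_le_iff_le_comap]
        intro r hr
        rw [Ideal.mem_comap, Ideal.mem_comap]
        show Ψ (algebraMap R _ r) ∈ _
        rw [AlgHom.commutes]
        exact Ideal.mem_map_of_mem _ hr
      exact hle hm
    rw [← hρk] at h1
    exact h1
  let β : MvPowerSeries (Fin 2) k →+* MvPowerSeries (Fin 2) R := MvPowerSeries.map (algebraMap k R)
  let Θ : MvPowerSeries (Fin 2) k →+* NN k := ρ.toRingHom.comp (Ψ.toRingHom.comp β)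
  have hΘ : ∀ f₀, Θ f₀ = ρ (Ψ (β f₀)) := fun _ => rfl
  have hΘs : Function.Surjective Θ := by
    intro a
    obtain ⟨s, rfl⟩ := hρs a
    obtain ⟨f, rfl⟩ := hΨs s
    obtain ⟨f₀, hf₀⟩ := exists_sub_map_mem hR f
    refine ⟨f₀, ?_⟩
    rw [hΘ]
    have := hΨm _ hf₀
    rw [map_sub, map_sub, sub_eq_zero] at this
    exact this.symm
  have hCt : (C t : MvPowerSeries (Fin 2) R) ∈ 𝔪X := Ideal.mem_map_of_mem _ ht
  have hΘ0 : Θ (X 0 * X 1) = 0 := by
    rw [hΘ]
    have h1 : β (X 0 * X 1) = (X 0 * X 1 - C t) + C t := by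
      show MvPowerSeries.map (algebraMap k R) (X 0 * X 1) = _
      rw [map_mul, MvPowerSeries.map_X, MvPowerSeries.map_X]; ring
    rw [h1, map_add, hΨ, zero_add]
    exact hΨm _ hCt
  let θ : NN k →+* NN k := Ideal.Quotient.lift _ Θ (by
    intro a ha
    obtain ⟨b, rfl⟩ := Ideal.mem_span_singleton'.mp ha
    rw [map_mul, hΘ0, mul_zero])
  have hθs : Function.Surjective θ := by
    intro a
    obtain ⟨f₀, rfl⟩ := hΘs a
    exact ⟨Ideal.Quotient.mk _ f₀, Ideal.Quotient.lift_mk _ _ _⟩
  have hθi := Groth.Agent.Lib.Helper3.ringHom_injective_of_surjective_of_isNoetherianRing θ hθs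
  have hkerΘ : ∀ f₀, Θ f₀ = 0 → f₀ ∈ Ideal.span {(X 0 * X 1 : MvPowerSeries (Fin 2) k)} := by
    intro f₀ h0
    have : θ (Ideal.Quotient.mk _ f₀) = 0 := by rw [Ideal.Quotient.lift_mk]; exact h0
    have := (injective_iff_map_eq_zero θ).mp hθi _ this
    rwa [Ideal.Quotient.eq_zero_iff_mem] at this
  intro f hf
  rw [RingHom.mem_ker] at hf
  obtain ⟨f₀, hf₀⟩ := exists_sub_map_mem hR f
  have h1 : Θ f₀ = 0 := by
    rw [hΘ]
    have := hΨm _ hf₀
    rw [map_sub, map_sub] at this
    have hf' : Ψ f = 0 := hf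
    rw [hf', map_zero, zero_sub, neg_eq_zero] at this
    exact this
  obtain ⟨g₀, hg₀⟩ := Ideal.mem_span_singleton'.mp (hkerΘ f₀ h1)
  have h2 : β f₀ = (X 0 * X 1 - C t) * β g₀ + C t * β g₀ := by
    rw [← hg₀]
    show MvPowerSeries.map (algebraMap k R) (g₀ * (X 0 * X 1)) = _
    rw [map_mul, map_mul, MvPowerSeries.map_X, MvPowerSeries.map_X]; ring
  have h3 : f = (X 0 * X 1 - C t) * β g₀ + (C t * β g₀ + (f - β f₀)) := by
    rw [h2]; ring
  rw [h3]
  exact Ideal.add_mem _ (Ideal.mem_sup_left (Ideal.mul_mem_right _ _ (Ideal.subset_span rfl)))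
    (Ideal.mem_sup_right (Ideal.add_mem _ (Ideal.mul_mem_right _ _ hCt) hf₀))

end Iso

end Groth.Agent.Lib.Helper26.EqNodeD
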