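import Mathlib
import Groth.Agent.Lib.Helper1.ArtFunPS
import Groth.Agent.Lib.Helper3.PowerSeriesAut
import Groth.Agent.Lib.Helper26.Node24A
import Groth.Agent.Lib.Helper26.Node24C
import Groth.Agent.Lib.Helper26.Node25A
import Groth.Agent.Lib.Helper26.EqNodeA
import Groth.Agent.Lib.Helper26.EqNodeB
import Groth.Agent.Lib.Helper26.EqNodeC
import Groth.Agent.Lib.Helper26.EqNodeD

set_option autoImplicit false
open IsLocalRing MvPowerSeries

namespace Groth.Agent.Lib.Helper26.EqNodeE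

open Groth.Agent.Lib.Helper26.EqNodeA Groth.Agent.Lib.Helper26.EqNodeB
  Groth.Agent.Lib.Helper26.EqNodeC Groth.Agent.Lib.Helper26.EqNodeD
  Groth.Agent.Lib.Helper26.Node24A
  Groth.Agent.Lib.Helper26.Node24C Groth.Agent.Lib.Helper26.Node25A

universe u

section Final

variable {k R S : Type u} [Field k] [CommRing R] [IsLocalRing R] [CommRing S] [IsLocalRing S]
  [Algebra k R] [Algebra R S] [Algebra k S] [IsScalarTower k R S] [IsLocalHom (algebraMap R S)]

omit [IsLocalRing S] [IsLocalHom (algebraMap R S)] [Field k] [Algebra k R] [Algebra k S]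
  [IsScalarTower k R S] in
theorem mapR_le_max :
    (maximalIdeal R).map (algebraMap R (MvPowerSeries (Fin 2) R)) ≤
      maximalIdeal (MvPowerSeries (Fin 2) R) := by
  rw [Groth.Agent.Lib.Helper1.ArtFunLib.PS.maximalIdeal_eq_sup]
  exact le_sup_left

omit [IsLocalRing S] [IsLocalHom (algebraMap R S)] [Field k] [Algebra k R] [Algebra k S]
  [IsScalarTower k R S] in
theorem ker_Psi_eq [IsNoetherianRing R] [Module.Flat R S] (t : R)
    (Ψ : MvPowerSeries (Fin 2) R →ₐ[R] S) (hΨs : Function.Surjective Ψ)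
    (hΨ : Ψ (X 0 * X 1 - C t) = 0)
    (hle : RingHom.ker Ψ.toRingHom ≤ Ideal.span {(X 0 * X 1 - C t : MvPowerSeries (Fin 2) R)} ⊔
      (maximalIdeal R).map (algebraMap R (MvPowerSeries (Fin 2) R))) :
    RingHom.ker Ψ = Ideal.span {(X 0 * X 1 - C t : MvPowerSeries (Fin 2) R)} := by
  have hF := ker_inf_map_le Ψ hΨs (maximalIdeal R)
  have hgK : Ideal.span {(X 0 * X 1 - C t : MvPowerSeries (Fin 2) R)} ≤ RingHom.ker Ψ := by
    rw [Ideal.span_le, Set.singleton_subset_iff, SetLike.mem_coe, RingHom.mem_ker]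
    exact hΨ
  apply le_antisymm _ hgK
  apply Submodule.le_of_le_smul_of_le_jacobson_bot (I := (maximalIdeal R).map
      (algebraMap R (MvPowerSeries (Fin 2) R)))
      (IsNoetherian.noetherian _)
  · rw [IsLocalRing.jacobson_eq_maximalIdeal ⊥ bot_ne_top]
    exact mapR_le_max
  · intro x hx
    obtain ⟨y, hy, z, hz, rfl⟩ := Submodule.mem_sup.mp (hle hx)
    have hzK : z ∈ RingHom.ker Ψ := by
      have := Ideal.sub_mem _ hx (hgK hy)
      simpa using this
    refine Submodule.add_mem_sup hy ?_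
    rw [smul_eq_mul]
    exact hF ⟨hzK, hz⟩

end Final

theorem main_14084 (k R S : Type u) [Field k] [IsAlgClosed k]
    (h2 : (2 : k) ≠ 0)
    [CommRing R] [IsLocalRing R] [IsNoetherianRing R] [IsAdicComplete (IsLocalRing.maximalIdeal R) R]
    [CommRing S] [IsLocalRing S] [IsNoetherianRing S] [IsAdicComplete (IsLocalRing.maximalIdeal S) S]
    [Algebra k R] [Algebra R S] [Algebra k S] [IsScalarTower k R S]
    [IsLocalHom (algebraMap R S)] [Module.Flat R S]
    (e : (S ⧸ Ideal.map (algebraMap R S) (IsLocalRing.maximalIdeal R)) ≃ₐ[k]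
      (MvPowerSeries (Fin 2) k ⧸
        Ideal.span {(MvPowerSeries.X 1 ^ 2 - MvPowerSeries.X 0 ^ 2 : MvPowerSeries (Fin 2) k)}))
    (σ : S ≃ₐ[R] S) (hσ : ∀ s, σ (σ s) = s)
    (hbr : ∀ P ∈ (Ideal.map (algebraMap R S) (IsLocalRing.maximalIdeal R)).minimalPrimes,
      Ideal.map (σ : S →+* S) P = P) :
    ∃ (t : R) (ξ₁ ξ₂ : k), ξ₁ ^ 2 = 1 ∧ ξ₂ ^ 2 = 1 ∧ (ξ₁ = -ξ₂ → t = 0) ∧
      ∃ f : S ≃ₐ[R] (MvPowerSeries (Fin 2) R ⧸
          Ideal.span {(MvPowerSeries.X 0 * MvPowerSeries.X 1 - MvPowerSeries.C t : MvPowerSeries (Fin 2) R)}),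
        f (σ (f.symm (Ideal.Quotient.mk _ (MvPowerSeries.X 0)))) =
          algebraMap k R ξ₂ • Ideal.Quotient.mk _ (MvPowerSeries.X 0) ∧
        f (σ (f.symm (Ideal.Quotient.mk _ (MvPowerSeries.X 1)))) =
          algebraMap k R ξ₁ • Ideal.Quotient.mk _ (MvPowerSeries.X 1) := by
  have hρs := rho_surjective (R := R) (S := S) h2 e
  have hρk := ker_rho (R := R) (S := S) h2 e
  have hS : ∀ s : S, ∃ c : k, s - algebraMap k S c ∈ maximalIdeal S :=
    exists_sub_algebraMap_mem (rho k R S h2 e) hρs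
  have hres : Function.Bijective (ResidueField.map (algebraMap R S)) := by
    refine ⟨(ResidueField.map (algebraMap R S)).injective, ?_⟩
    intro x
    obtain ⟨s, rfl⟩ := IsLocalRing.residue_surjective x
    obtain ⟨c, hc⟩ := hS s
    refine ⟨residue R (algebraMap k R c), ?_⟩
    rw [ResidueField.map_residue, ← IsScalarTower.algebraMap_apply]
    symm
    rw [← sub_eq_zero, ← map_sub, residue_eq_zero_iff]
    exact hc
  obtain ⟨ξ₁, ξ₂, u, v, hξ₁, hξ₂, hσu, hσv, huv, hgen⟩ :=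
    exists_eigen_generators h2 (rho k R S h2 e) hρs hρk σ hσ hbr
  have hr₁ : algebraMap k R ξ₁ * algebraMap k R ξ₁ = 1 := by
    rw [← map_mul, ← pow_two, hξ₁, map_one]
  have hr₂ : algebraMap k R ξ₂ * algebraMap k R ξ₂ = 1 := by
    rw [← map_mul, ← pow_two, hξ₂, map_one]
  have hh : algebraMap k R 2⁻¹ * 2 = 1 := by
    have : (2 : R) = algebraMap k R 2 := by rw [map_ofNat]
    rw [this, ← map_mul, inv_mul_cancel₀ h2, map_one]
  have hσu' : σ u = algebraMap R S (algebraMap k R ξ₂) * u := by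
    rw [hσu, IsScalarTower.algebraMap_apply k R S]
  have hσv' : σ v = algebraMap R S (algebraMap k R ξ₁) * v := by
    rw [hσv, IsScalarTower.algebraMap_apply k R S]
  obtain ⟨us, vs, αs, hu0, hv0, hus, hvs, hαs, hσus, hσvs, hεα, hprod, hustep, hvstep, hαstep⟩ :=
    exists_approx_eq hres (algebraMap k R 2⁻¹) (algebraMap k R ξ₁) (algebraMap k R ξ₂) hh hr₁ hr₂
      σ hσ u v hσu' hσv' huv hgen
  obtain ⟨t, U, V, ht, hεt, hUV, hσU, hσV, hU, hV⟩ :=
    exists_limits_eq (algebraMap k R 2⁻¹) (algebraMap k R ξ₁) (algebraMap k R ξ₂) σ u v us vs αs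
      hus hvs hαs hσus hσvs hεα hprod hustep hvstep hαstep
  have hgen' := max_eq_of_perturb u v U V hgen hU hV
  have hUm : U ∈ maximalIdeal S := by
    rw [hgen']; exact Ideal.mem_sup_left (Ideal.subset_span (Set.mem_insert _ _))
  have hVm : V ∈ maximalIdeal S := by
    rw [hgen']; exact Ideal.mem_sup_left (Ideal.subset_span (Set.mem_insert_of_mem _ rfl))
  obtain ⟨Ψ₀, hΨC, hΨX⟩ := exists_evalHom (algebraMap R S) ![U, V] (by
    intro i; fin_cases i
    · exact hUm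
    · exact hVm)
  let Ψ : MvPowerSeries (Fin 2) R →ₐ[R] S := { Ψ₀ with commutes' := fun r => hΨC r }
  have hΨ0 : Ψ (X 0) = U := hΨX 0
  have hΨ1 : Ψ (X 1) = V := hΨX 1
  have hΨs := Psi_surjective hres U V hgen' Ψ hΨ0 hΨ1
  have hΨt : Ψ (X 0 * X 1 - C t) = 0 := by
    rw [map_sub, map_mul, hΨ0, hΨ1, hUV]
    show _ - Ψ₀ (C t) = 0
    rw [hΨC, sub_self]
  have hle := ker_Psi_le hS (rho k R S h2 e) hρs hρk t ht Ψ hΨs hΨt
  have hker := ker_Psi_eq t Ψ hΨs hΨt hle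
  let ψ : (MvPowerSeries (Fin 2) R ⧸
      Ideal.span {(X 0 * X 1 - C t : MvPowerSeries (Fin 2) R)}) ≃ₐ[R] S :=
    (Ideal.quotientEquivAlgOfEq R hker.symm).trans (Ideal.quotientKerAlgEquivOfSurjective hΨs)
  have hψ : ∀ g, ψ (Ideal.Quotient.mk _ g) = Ψ g := fun g => rfl
  refine ⟨t, ξ₁, ξ₂, hξ₁, hξ₂, ?_, ψ.symm, ?_, ?_⟩
  · intro h
    have h1 : (1 - algebraMap k R ξ₁ * algebraMap k R ξ₂) = 2 := by
      rw [h, map_neg, neg_mul, hr₂]; ring
    rw [h1] at hεt
    calc t = (algebraMap k R 2⁻¹ * 2) * t := by rw [hh, one_mul]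
      _ = algebraMap k R 2⁻¹ * (2 * t) := by ring
      _ = 0 := by rw [hεt, mul_zero]
  · rw [AlgEquiv.symm_symm, hψ, hΨ0, hσU, ← Algebra.smul_def, map_smul, ← hΨ0, ← hψ,
      AlgEquiv.symm_apply_apply]
  · rw [AlgEquiv.symm_symm, hψ, hΨ1, hσV, ← Algebra.smul_def, map_smul, ← hΨ1, ← hψ,
      AlgEquiv.symm_apply_apply]

end Groth.Agent.Lib.Helper26.EqNodeE
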