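import Mathlib
set_option autoImplicit false
set_option linter.style.haveILetI false
universe u
open AlgebraicGeometry CategoryTheory TopologicalSpace Opposite

namespace Groth.Agent.Lib.Helper26.EssFT

/-- restriction to a basic open of an affine open is essentially of finite type -/
lemma essFiniteType_res {X : Scheme.{u}} {U : X.Opens} (hU : IsAffineOpen U) (a : Γ(X, U))
    {D : X.Opens} (hD : D = X.basicOpen a) (i : D ⟶ U) :
    (X.presheaf.map i.op).hom.EssFiniteType := by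
  letI := (X.presheaf.map i.op).hom.toAlgebra
  haveI : IsLocalization.Away a Γ(X, D) := hU.isLocalization_of_eq_basicOpen a i hD
  have := RingHom.EssFiniteType.holdsForLocalization (R := Γ(X, U)) (S := Γ(X, D))
    (Submonoid.powers a)
  rwa [RingHom.algebraMap_toAlgebra] at this

lemma core {X Y : Scheme.{u}} (f : X ⟶ Y) (U Us : Y.affineOpens) (Vt : X.affineOpens)
    (e : (Vt : X.Opens) ≤ f ⁻¹ᵁ (Us : Y.Opens)) (hess : (f.appLE Us Vt e).hom.EssFiniteType)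
    (x : X) (hxV : x ∈ (Vt : X.Opens)) (hxU : f x ∈ (U : Y.Opens)) :
    ∃ V' : X.affineOpens, x ∈ (V' : X.Opens) ∧
      ∃ e' : (V' : X.Opens) ≤ f ⁻¹ᵁ (U : Y.Opens), (f.appLE U V' e').hom.EssFiniteType := by
  have hxUs : f x ∈ (Us : Y.Opens) := e hxV
  obtain ⟨a, b, hab, hfx⟩ := exists_basicOpen_le_affine_inter U.2 Us.2 (f x) ⟨hxU, hxUs⟩
  set D : Y.Opens := Y.basicOpen b with hD
  have hDU : D ≤ U := hab ▸ Y.basicOpen_le a
  have hDUs : D ≤ Us := Y.basicOpen_le b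
  set c : Γ(X, Vt) := f.appLE Us Vt e b with hc
  have hV' : X.basicOpen c = (Vt : X.Opens) ⊓ f ⁻¹ᵁ D := Scheme.basicOpen_appLE f _ _ e b
  let V' : X.affineOpens := ⟨X.basicOpen c, Vt.2.basicOpen c⟩
  have hV'Vt : (V' : X.Opens) ≤ Vt := X.basicOpen_le c
  have hV'D : (V' : X.Opens) ≤ f ⁻¹ᵁ D := by
    change X.basicOpen c ≤ _
    rw [hV']; exact inf_le_right
  have hxV' : x ∈ (V' : X.Opens) := by
    change x ∈ X.basicOpen c
    rw [hV']
    exact ⟨hxV, by change f x ∈ D; rw [← hab]; exact hfx⟩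
  refine ⟨V', hxV', hV'D.trans (fun y hy => hDU hy), ?_⟩
  -- the maps
  have h1 : (Y.presheaf.map (homOfLE hDU).op).hom.EssFiniteType :=
    essFiniteType_res U.2 a hab.symm (homOfLE hDU)
  have h2 : (X.presheaf.map (homOfLE hV'Vt).op).hom.EssFiniteType :=
    essFiniteType_res Vt.2 c rfl (homOfLE hV'Vt)
  have h3 : ((f.appLE D V' hV'D).hom.comp (Y.presheaf.map (homOfLE hDUs).op).hom).EssFiniteType := by
    have : Y.presheaf.map (homOfLE hDUs).op ≫ f.appLE D V' hV'D =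
        f.appLE Us Vt e ≫ X.presheaf.map (homOfLE hV'Vt).op := by
      rw [Scheme.Hom.map_appLE, Scheme.Hom.appLE_map]
    rw [← CommRingCat.hom_comp, this, CommRingCat.hom_comp]
    exact hess.comp h2
  have h4 : (f.appLE D V' hV'D).hom.EssFiniteType := RingHom.EssFiniteType.of_comp _ h3
  have h5 : f.appLE U V' (hV'D.trans (fun y hy => hDU hy)) =
      Y.presheaf.map (homOfLE hDU).op ≫ f.appLE D V' hV'D := by
    rw [Scheme.Hom.map_appLE]
  rw [h5, CommRingCat.hom_comp]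
  exact h1.comp h4

/-- the local condition at an affine open of the target -/
def LocCond {X Y : Scheme.{u}} (f : X ⟶ Y) (U : Y.affineOpens) (T : Set X.affineOpens) : Prop :=
  (⋃ V ∈ T, ((V : X.Opens) : Set ↥X)) = ((f ⁻¹ᵁ (U : Y.Opens)) : Set ↥X) ∧
    ∀ V ∈ T, ∃ e : (V : X.Opens) ≤ f ⁻¹ᵁ (U : Y.Opens),
      (f.appLE (U : Y.Opens) (V : X.Opens) e).hom.EssFiniteType

lemma key {X Y : Scheme.{u}} (f : X ⟶ Y)
    (h : ∃ S : Set Y.affineOpens, (⋃ U ∈ S, ((U : Y.Opens) : Set ↥Y)) = Set.univ ∧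
      ∀ U ∈ S, ∃ T : Set X.affineOpens, LocCond f U T)
    (U : Y.affineOpens) (x : X) (hx : f x ∈ (U : Y.Opens)) :
    ∃ V' : X.affineOpens, x ∈ (V' : X.Opens) ∧
      ∃ e' : (V' : X.Opens) ≤ f ⁻¹ᵁ (U : Y.Opens), (f.appLE U V' e').hom.EssFiniteType := by
  obtain ⟨S, hS, hST⟩ := h
  have hfx : f x ∈ (⋃ U ∈ S, ((U : Y.Opens) : Set ↥Y)) := by rw [hS]; trivial
  simp only [Set.mem_iUnion] at hfx
  obtain ⟨Us, hUs, hfxUs⟩ := hfx
  obtain ⟨T, hT1, hT2⟩ := hST Us hUs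
  have hxT : x ∈ (⋃ V ∈ T, ((V : X.Opens) : Set ↥X)) := by rw [hT1]; exact hfxUs
  simp only [Set.mem_iUnion] at hxT
  obtain ⟨Vt, hVt, hxVt⟩ := hxT
  obtain ⟨e, hess⟩ := hT2 Vt hVt
  exact core f U Us Vt e hess x hxVt hx

lemma iUnion_affineOpens_eq_univ (Y : Scheme.{u}) :
    (⋃ U ∈ (Set.univ : Set Y.affineOpens), ((U : Y.Opens) : Set ↥Y)) = Set.univ := by
  apply Set.eq_univ_of_forall
  intro y
  obtain ⟨U, hU, hyU, -⟩ := Opens.isBasis_iff_nbhd.mp Y.isBasis_affineOpens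
    (show y ∈ (⊤ : Y.Opens) from trivial)
  simp only [Set.mem_iUnion]
  exact ⟨⟨U, hU⟩, Set.mem_univ _, hyU⟩

theorem main15258 {X Y : Scheme.{u}} (f : X ⟶ Y) :
    (∃ S : Set Y.affineOpens, (⋃ U ∈ S, ((U : Y.Opens) : Set ↥Y)) = Set.univ ∧
      ∀ U ∈ S, ∃ T : Set X.affineOpens, (⋃ V ∈ T, ((V : X.Opens) : Set ↥X)) = ((f ⁻¹ᵁ (U : Y.Opens)) : Set ↥X) ∧
        ∀ V ∈ T, ∃ e : (V : X.Opens) ≤ f ⁻¹ᵁ (U : Y.Opens), (f.appLE (U : Y.Opens) (V : X.Opens) e).hom.EssFiniteType) ↔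
    ∀ U : Y.affineOpens, ∃ T : Set X.affineOpens, (⋃ V ∈ T, ((V : X.Opens) : Set ↥X)) = ((f ⁻¹ᵁ (U : Y.Opens)) : Set ↥X) ∧
        ∀ V ∈ T, ∃ e : (V : X.Opens) ≤ f ⁻¹ᵁ (U : Y.Opens), (f.appLE (U : Y.Opens) (V : X.Opens) e).hom.EssFiniteType := by
  constructor
  · intro h U
    refine ⟨{V | ∃ e : (V : X.Opens) ≤ f ⁻¹ᵁ (U : Y.Opens),
      (f.appLE (U : Y.Opens) (V : X.Opens) e).hom.EssFiniteType}, ?_, fun V hV => hV⟩
    apply Set.Subset.antisymm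
    · intro x hx
      simp only [Set.mem_iUnion] at hx
      obtain ⟨V, ⟨e, -⟩, hxV⟩ := hx
      exact e hxV
    · intro x hx
      obtain ⟨V', hxV', e', hess⟩ := key f h U x hx
      simp only [Set.mem_iUnion]
      exact ⟨V', ⟨e', hess⟩, hxV'⟩
  · intro h
    exact ⟨Set.univ, iUnion_affineOpens_eq_univ Y, fun U _ => h U⟩

theorem main15259 {X Y : Scheme.{u}} (f : X ⟶ Y) :
    ((∃ S : Set Y.affineOpens, (⋃ U ∈ S, ((U : Y.Opens) : Set ↥Y)) = Set.univ ∧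
      ∀ U ∈ S, ∃ T : Set X.affineOpens, (⋃ V ∈ T, ((V : X.Opens) : Set ↥X)) = ((f ⁻¹ᵁ (U : Y.Opens)) : Set ↥X) ∧
        ∀ V ∈ T, ∃ e : (V : X.Opens) ≤ f ⁻¹ᵁ (U : Y.Opens), (f.appLE (U : Y.Opens) (V : X.Opens) e).hom.EssFiniteType) ∧ QuasiCompact f) ↔
    ∀ U : Y.affineOpens, ∃ T : Set X.affineOpens, T.Finite ∧ (⋃ V ∈ T, ((V : X.Opens) : Set ↥X)) = ((f ⁻¹ᵁ (U : Y.Opens)) : Set ↥X) ∧
        ∀ V ∈ T, ∃ e : (V : X.Opens) ≤ f ⁻¹ᵁ (U : Y.Opens), (f.appLE (U : Y.Opens) (V : X.Opens) e).hom.EssFiniteType := by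
  constructor
  · rintro ⟨h, hqc⟩ U
    have hcomp : IsCompact (f ⁻¹ᵁ (U : Y.Opens) : Set X) :=
      quasiCompact_iff_forall_isAffineOpen.mp hqc U U.2
    have hex := fun x : (f ⁻¹ᵁ (U : Y.Opens) : Set X) => key f h U x.1 x.2
    choose V' hxV' e' hess using hex
    obtain ⟨t, ht⟩ := hcomp.elim_finite_subcover (fun x => ((V' x : X.Opens) : Set X))
      (fun x => (V' x : X.Opens).isOpen) (fun x hx => Set.mem_iUnion.mpr ⟨⟨x, hx⟩, hxV' ⟨x, hx⟩⟩)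
    refine ⟨V' '' (t : Set _), (Finset.finite_toSet t).image _, ?_, ?_⟩
    · apply Set.Subset.antisymm
      · intro x hx
        simp only [Set.mem_iUnion] at hx
        obtain ⟨V, ⟨y, -, rfl⟩, hxV⟩ := hx
        exact e' y hxV
      · intro x hx
        have := ht hx
        simp only [Set.mem_iUnion] at this ⊢
        obtain ⟨y, hy, hxy⟩ := this
        exact ⟨V' y, ⟨y, hy, rfl⟩, hxy⟩
    · rintro V ⟨y, -, rfl⟩
      exact ⟨e' y, hess y⟩
  · intro h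
    constructor
    · exact ⟨Set.univ, iUnion_affineOpens_eq_univ Y, fun U _ => by
        obtain ⟨T, -, hT⟩ := h U
        exact ⟨T, hT⟩⟩
    · rw [quasiCompact_iff_forall_isAffineOpen]
      intro U hU
      obtain ⟨T, hTfin, hT1, -⟩ := h ⟨U, hU⟩
      have : ((f ⁻¹ᵁ U : X.Opens) : Set X) = ⋃ V ∈ T, ((V : X.Opens) : Set ↥X) := hT1.symm
      rw [this]
      exact hTfin.isCompact_biUnion (fun V _ => V.2.isCompact)

end Groth.Agent.Lib.Helper26.EssFT
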