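import Mathlib
import Groth.Agent.S3694
set_option autoImplicit false
set_option linter.style.haveILetI false
universe u
open AlgebraicGeometry CategoryTheory CategoryTheory.Limits TopologicalSpace

namespace Groth.Agent.Lib.Helper26.EtaleLift

/-- a surjective ring hom between fields is purely inseparable -/
lemma isPurelyInseparable_of_surjective {F E : Type*} [Field F] [Field E] (f : F →+* E)
    (hf : Function.Surjective f) : f.IsPurelyInseparable := by
  letI : Algebra F E := f.toAlgebra
  show IsPurelyInseparable F E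
  rw [isPurelyInseparable_iff]
  intro x
  obtain ⟨y, rfl⟩ := hf x
  exact ⟨isIntegral_algebraMap (R := F) (A := E) (x := y), fun _ => ⟨y, rfl⟩⟩

set_option backward.isDefEq.respectTransparency.types false in
instance : MorphismProperty.HasOfPostcompProperty
    @IsOpenImmersion (@LocallyOfFiniteType ⊓ @FormallyUnramified) := by
  rw [MorphismProperty.hasOfPostcompProperty_iff_le_diagonal]
  intro X Y f ⟨hft, hfu⟩
  exact inferInstanceAs <| IsOpenImmersion (pullback.diagonal f)

/-- a section of an étale morphism is an open immersion -/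
lemma isOpenImmersion_of_section {X Y : Scheme.{u}} (q : X ⟶ Y) [Etale q] (τ : Y ⟶ X)
    (h : τ ≫ q = 𝟙 Y) : IsOpenImmersion τ := by
  have : IsOpenImmersion (τ ≫ q) := by rw [h]; infer_instance
  exact MorphismProperty.of_postcomp (W := @IsOpenImmersion)
    (W' := @LocallyOfFiniteType ⊓ @FormallyUnramified) τ q ⟨inferInstance, inferInstance⟩ this

/-- residue field maps of closed immersions are surjective -/
lemma residueFieldMap_surjective {X Y : Scheme.{u}} (i : X ⟶ Y) [IsClosedImmersion i] (x : X) :
    Function.Surjective (i.residueFieldMap x).hom := by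
  intro z
  obtain ⟨t, rfl⟩ := IsLocalRing.residue_surjective z
  obtain ⟨t', rfl⟩ := i.stalkMap_surjective x t
  exact ⟨IsLocalRing.residue _ t', rfl⟩

lemma residueFieldMap_surjective_of_comp {A B C : Scheme.{u}} (a : A ⟶ B) (b : B ⟶ C) (c : A ⟶ C)
    (h : a ≫ b = c) [IsClosedImmersion c] (y : A) :
    Function.Surjective (b.residueFieldMap (a y)).hom := by
  subst h
  have h1 := residueFieldMap_surjective (a ≫ b) y
  rw [Scheme.residueFieldMap_comp] at h1
  intro z
  obtain ⟨w, hw⟩ := h1 ((a.residueFieldMap y).hom z)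
  refine ⟨w, ?_⟩
  exact (a.residueFieldMap y).hom.injective hw

section main
variable {X S S' S'₀ : Scheme.{u}} (p : X ⟶ S) [Etale p] (g : S' ⟶ S) (i : S'₀ ⟶ S')
  [IsClosedImmersion i] [Surjective i] (f₀ : S'₀ ⟶ X) (h₀ : f₀ ≫ p = i ≫ g)

include i in
theorem unique (f f' : S' ⟶ X) (hf : f ≫ p = g) (hf' : f' ≫ p = g) (h : i ≫ f = i ≫ f') :
    f = f' := by
  let w : S' ⟶ pullback p p := pullback.lift f f' (hf.trans hf'.symm)
  have hw : i ≫ w = (i ≫ f) ≫ pullback.diagonal p := by
    apply pullback.hom_ext
    · simp only [w, Category.assoc, pullback.lift_fst, pullback.diagonal_fst, Category.comp_id]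
    · simp only [w, Category.assoc, pullback.lift_snd, pullback.diagonal_snd, Category.comp_id, h]
  have hsurj : Function.Surjective i.base := (inferInstance : Surjective i).surj
  have hrange : Set.range w.base ⊆ Set.range (pullback.diagonal p).base := by
    rintro _ ⟨y, rfl⟩
    obtain ⟨y₀, rfl⟩ := hsurj y
    refine ⟨(i ≫ f).base y₀, ?_⟩
    have := congrArg (fun t : S'₀ ⟶ pullback p p => t.base y₀) hw
    simpa using this.symm
  have hfac := IsOpenImmersion.lift_fac (pullback.diagonal p) w hrange
  have e1 : f = IsOpenImmersion.lift (pullback.diagonal p) w hrange := by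
    have := congrArg (fun t => t ≫ pullback.fst p p) hfac
    simp only [w, Category.assoc, pullback.lift_fst, pullback.diagonal_fst, Category.comp_id] at this
    exact this.symm
  have e2 : f' = IsOpenImmersion.lift (pullback.diagonal p) w hrange := by
    have := congrArg (fun t => t ≫ pullback.snd p p) hfac
    simp only [w, Category.assoc, pullback.lift_snd, pullback.diagonal_snd, Category.comp_id] at this
    exact this.symm
  rw [e1, ← e2]

include h₀ in
theorem exists_lift : ∃ f : S' ⟶ X, f ≫ p = g ∧ i ≫ f = f₀ := by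
  let p' : pullback p g ⟶ S' := pullback.snd p g
  let σ₀ : S'₀ ⟶ pullback p g := pullback.lift f₀ i h₀
  have hσp : σ₀ ≫ p' = i := pullback.lift_snd _ _ _
  have hσf : σ₀ ≫ pullback.fst p g = f₀ := pullback.lift_fst _ _ _
  let k : pullback p' i ⟶ pullback p g := pullback.fst p' i
  let q₀ : pullback p' i ⟶ S'₀ := pullback.snd p' i
  let τ : S'₀ ⟶ pullback p' i := pullback.lift σ₀ (𝟙 _) (by rw [hσp, Category.id_comp])
  have hτq : τ ≫ q₀ = 𝟙 _ := pullback.lift_snd _ _ _
  have hτk : τ ≫ k = σ₀ := pullback.lift_fst _ _ _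
  haveI : IsOpenImmersion τ := isOpenImmersion_of_section q₀ τ hτq
  have hk : IsOpenMap k.base := by
    have h1 : Topology.IsClosedEmbedding k.base := k.isClosedEmbedding
    have h2 : Function.Surjective k.base := (inferInstance : Surjective k).surj
    exact (isHomeomorph_iff_isEmbedding_surjective.mpr ⟨h1.isEmbedding, h2⟩).isOpenMap
  have hopen : IsOpen (Set.range σ₀.base) := by
    have : Set.range σ₀.base = k.base '' (Set.range τ.base) := by
      rw [← hτk, ← Set.range_comp]
      rfl
    rw [this]
    exact hk _ τ.isOpenEmbedding.isOpen_range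
  let U : (pullback p g).Opens := ⟨Set.range σ₀.base, hopen⟩
  have hUr : Set.range σ₀.base ⊆ Set.range U.ι.base := by
    rw [Scheme.Opens.range_ι]
    exact subset_rfl
  let σ₀' : S'₀ ⟶ U.toScheme := IsOpenImmersion.lift U.ι σ₀ hUr
  have hσ' : σ₀' ≫ U.ι = σ₀ := IsOpenImmersion.lift_fac _ _ _
  let r : U.toScheme ⟶ S' := U.ι ≫ p'
  have hr : σ₀' ≫ r = i := by rw [← Category.assoc, hσ', hσp]
  have hσ'surj : Function.Surjective σ₀'.base := by
    intro u
    obtain ⟨y, hy⟩ : (U.ι.base u) ∈ Set.range σ₀.base := u.2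
    refine ⟨y, ?_⟩
    apply U.ι.isOpenEmbedding.injective
    rw [← hy, ← hσ']
    rfl
  haveI : Etale r := inferInstance
  haveI : UniversallyInjective r := by
    apply ((tfae_universallyInjective r).out 0 2).mpr
    constructor
    · intro u u' huu'
      obtain ⟨y, rfl⟩ := hσ'surj u
      obtain ⟨y', rfl⟩ := hσ'surj u'
      have h1 : i.base y = i.base y' := by
        rw [← hr]
        exact huu'
      rw [i.isClosedEmbedding.injective h1]
    · intro u
      obtain ⟨y, rfl⟩ := hσ'surj u
      exact isPurelyInseparable_of_surjective _ (residueFieldMap_surjective_of_comp σ₀' r i hr y)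
  haveI : IsOpenImmersion r := Groth.Agent.S3694.result r
  haveI : Surjective r := by
    constructor
    intro s'
    obtain ⟨y, rfl⟩ := (inferInstance : Surjective i).surj s'
    exact ⟨σ₀'.base y, by rw [← hr]; rfl⟩
  haveI : IsIso r := (isIso_iff_isOpenImmersion_and_surjective r).mpr ⟨inferInstance, inferInstance⟩
  refine ⟨inv r ≫ U.ι ≫ pullback.fst p g, ?_, ?_⟩
  · rw [Category.assoc, Category.assoc, pullback.condition, ← Category.assoc U.ι, IsIso.inv_hom_id_assoc]
  · rw [← hr, Category.assoc, IsIso.hom_inv_id_assoc, ← Category.assoc, hσ', hσf]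

include h₀ in
theorem main : ∃! f : S' ⟶ X, f ≫ p = g ∧ i ≫ f = f₀ := by
  obtain ⟨f, hf1, hf2⟩ := exists_lift p g i f₀ h₀
  refine ⟨f, ⟨hf1, hf2⟩, ?_⟩
  rintro f' ⟨hf1', hf2'⟩
  exact unique p g i f' f hf1' hf1 (hf2'.trans hf2.symm)

end main

end Groth.Agent.Lib.Helper26.EtaleLift
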