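import Mathlib.RingTheory.Smooth.Fiber
import Mathlib.RingTheory.Smooth.Flat
import Mathlib.RingTheory.Unramified.LocalRing
import Mathlib.RingTheory.Flat.Localization

/-!
# Local criterion: étale at a prime iff flat and unramified at that prime
-/

namespace Groth.Agent.Lib.Helper26

open TensorProduct IsLocalRing Algebra

variable {R S : Type*} [CommRing R] [CommRing S] [Algebra R S]

local notation "𝓀[" R "]" => ResidueField R

/-- If `S` is finitely presented over `R`, `S_q` is flat over `R_p` and `S` is unramified at `q`,
then `S` is étale at `q`. -/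
lemma isEtaleAt_of_isUnramifiedAt_of_flat_localization
    [Algebra.FinitePresentation R S] (p : Ideal R) (q : Ideal S)
    [p.IsPrime] [q.IsPrime] [q.LiesOver p]
    [Algebra (Localization.AtPrime p) (Localization.AtPrime q)]
    [Localization.AtPrime.IsLiesOverAlgebra p q]
    [Module.Flat (Localization.AtPrime p) (Localization.AtPrime q)]
    [Algebra.IsUnramifiedAt R q] : Algebra.IsEtaleAt R q := by
  let Rp := Localization.AtPrime p
  let Sp := Localization (algebraMapSubmonoid S p.primeCompl)
  let Sq := Localization.AtPrime q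
  let f : Sp →ₐ[S] Sq := IsLocalization.liftAlgHom (M := algebraMapSubmonoid S p.primeCompl)
        (f := Algebra.ofId _ _) (by
      rintro ⟨_, x, hx, rfl⟩
      simpa using! IsLocalization.map_units (M := q.primeCompl) Sq ⟨algebraMap _ _ x,
        by simp_all [q.over_def p]⟩)
  algebraize [f.toRingHom]
  have : IsScalarTower R Sp Sq := .to₁₃₄ _ S _ _
  have : IsScalarTower Rp Sp Sq := .of_algebraMap_eq' <| by
    apply IsLocalization.ringHom_ext p.primeCompl
    simp only [RingHom.comp_assoc, ← IsScalarTower.algebraMap_eq]
  have : IsLocalization (algebraMapSubmonoid Sp q.primeCompl) Sq :=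
    .isLocalization_of_submonoid_le _ _ (algebraMapSubmonoid S p.primeCompl) _
    (by rintro _ ⟨x, hx, rfl⟩; simp_all [q.over_def p])
  have : FinitePresentation Rp Sp := by
    have : Algebra.IsPushout R Rp S Sp :=
      .symm <| Algebra.isPushout_of_isLocalization p.primeCompl _ _ _
    exact .equiv (Algebra.IsPushout.equiv R Rp S Sp)
  have : FormallyUnramified Rp Sq := .of_restrictScalars R _ _
  have : EssFiniteType Rp Sq := .of_comp R _ _
  have : IsLocalHom (algebraMap Rp Sq) := by
    rw [Localization.AtPrime.IsLiesOverAlgebra.algebraMap_eq (p := p) (P := q)]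
    infer_instance
  have : FormallySmooth 𝓀[Rp] (𝓀[Rp] ⊗[Rp] Sq) := by
    have : FormallyEtale 𝓀[Rp] (𝓀[Rp] ⊗[Rp] Sq) := .of_formallyUnramified_of_field _ _
    infer_instance
  have := FormallySmooth.of_formallySmooth_residueField_tensor
    (R := Rp) (S := Sq) (P := Sp) (algebraMapSubmonoid _ q.primeCompl)
  have : FormallySmooth R Sq := .comp R Rp Sq
  exact FormallyEtale.iff_formallyUnramified_and_formallySmooth.mpr ⟨inferInstance, this⟩

/-- If `S` is finitely presented over `R` and étale at `q`, then `S_q` is flat over `R`. -/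
lemma flat_localization_of_isEtaleAt [Algebra.FinitePresentation R S] (q : Ideal S) [q.IsPrime]
    [Algebra.IsEtaleAt R q] : Module.Flat R (Localization.AtPrime q) := by
  obtain ⟨f, hf, _⟩ := exists_etale_of_isEtaleAt (R := R) q
  let Sf := Localization.Away f
  let Sq := Localization.AtPrime q
  let g : Sf →ₐ[S] Sq := IsLocalization.liftAlgHom (M := Submonoid.powers f)
      (f := Algebra.ofId _ _) (by
    rintro ⟨_, n, rfl⟩
    simpa using! IsLocalization.map_units (M := q.primeCompl) Sq
      ⟨f ^ n, q.primeCompl.pow_mem hf n⟩)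
  algebraize [g.toRingHom]
  have : IsScalarTower R Sf Sq := .to₁₃₄ _ S _ _
  have : IsLocalization (algebraMapSubmonoid Sf q.primeCompl) Sq :=
    .isLocalization_of_submonoid_le _ _ (Submonoid.powers f) _
      (by rintro _ ⟨n, rfl⟩; exact q.primeCompl.pow_mem hf n)
  have : Module.Flat Sf Sq := IsLocalization.flat Sq (algebraMapSubmonoid Sf q.primeCompl)
  have : Module.Flat R Sf := inferInstance
  exact Module.Flat.trans R Sf Sq

end Groth.Agent.Lib.Helper26
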