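import Mathlib.AlgebraicGeometry.Morphisms.Etale
import Mathlib.AlgebraicGeometry.Morphisms.FormallyUnramified
import Mathlib.AlgebraicGeometry.Morphisms.Flat
import Mathlib.AlgebraicGeometry.ResidueField
import Groth.Agent.Lib.Helper26.EtaleLocal

/-!
# Transport between stalk maps of schemes and localizations of rings
-/

open AlgebraicGeometry CategoryTheory TopologicalSpace

namespace Groth.Agent.Lib.Helper26

universe u

section

variable {Q' : ∀ {R S : Type u} [CommRing R] [CommRing S], (R →+* S) → Prop}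

set_option backward.isDefEq.respectTransparency false in
lemma stalkMap_iff_of_eq_comp (hQ' : RingHom.RespectsIso Q') {X X' Y Y' : Scheme.{u}}
    (a : X ⟶ X') [IsIso a] (b : X' ⟶ Y') (c : Y' ⟶ Y) [IsIso c] (g : X ⟶ Y)
    (h : g = a ≫ b ≫ c) (x : X) :
    Q' (g.stalkMap x).hom ↔ Q' (b.stalkMap (a x)).hom := by
  subst h
  rw [Scheme.Hom.stalkMap_comp, Scheme.Hom.stalkMap_comp, CommRingCat.hom_comp,
    hQ'.cancel_right_isIso, CommRingCat.hom_comp, hQ'.cancel_left_isIso]

set_option backward.isDefEq.respectTransparency false in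
/-- A property of ring maps that respects isomorphisms holds for the stalk map of `f` at `x` iff
it holds for the induced map of localizations in an affine chart. -/
lemma stalkMap_iff_localRingHom (hQ' : RingHom.RespectsIso Q') {X Y : Scheme.{u}} (f : X ⟶ Y)
    (x : X) {V : Y.Opens} (hV : IsAffineOpen V) {U : X.Opens} (hU : IsAffineOpen U)
    (e : U ≤ f ⁻¹ᵁ V) (hx : x ∈ U) :
    Q' (f.stalkMap x).hom ↔
      Q' (Localization.localRingHom _ (hU.primeIdealOf ⟨x, hx⟩).asIdeal
        (f.appLE V U e).hom rfl) := by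
  have h1 : f.resLE V U e = hU.isoSpec.hom ≫ Spec.map (f.appLE V U e) ≫ hV.isoSpec.inv := by
    rw [← Category.assoc, Iso.eq_comp_inv, IsAffineOpen.isoSpec_hom, IsAffineOpen.isoSpec_hom,
      Scheme.Opens.toSpecΓ_SpecMap_appLE]
  rw [← hQ'.arrow_mk_iso_iff (Scheme.Hom.resLEStalkMap f e ⟨x, hx⟩),
    stalkMap_iff_of_eq_comp hQ' hU.isoSpec.hom (Spec.map (f.appLE V U e)) hV.isoSpec.inv _ h1
      ⟨x, hx⟩,
    hQ'.arrow_mk_iso_iff (Scheme.arrowStalkMapSpecIso (f.appLE V U e) _)]
  rfl

/-- Transfer a property from `A → B[1/g]` (Mathlib's model) to any localization away from `g`. -/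
lemma comp_algebraMap_of_away (hQ' : RingHom.RespectsIso Q') {A B : Type u} [CommRing A]
    [CommRing B] [Algebra A B] (g : B) (T : Type u) [CommRing T] [Algebra B T]
    [IsLocalization.Away g T] (H : Q' (algebraMap A (Localization.Away g))) :
    Q' ((algebraMap B T).comp (algebraMap A B)) := by
  let e : Localization.Away g ≃ₐ[B] T :=
    IsLocalization.algEquiv (Submonoid.powers g) (Localization.Away g) T
  have : (algebraMap B T).comp (algebraMap A B) =
      e.toRingEquiv.toRingHom.comp (algebraMap A (Localization.Away g)) := by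
    ext a
    simp [IsScalarTower.algebraMap_apply A B (Localization.Away g), e]
  rw [this]
  exact hQ'.1 _ _ H

end

section

variable {P : MorphismProperty Scheme.{u}}
  {Q : ∀ {R S : Type u} [CommRing R] [CommRing S], (R →+* S) → Prop} [HasRingHomProperty P Q]

set_option backward.isDefEq.respectTransparency false in
/-- If `Γ(Y, V) → Γ(X, U)[1/g]` has `Q`, then `D(g) → X → Y` has `P`. -/
lemma comp_ι_basicOpen_of_away [P.IsStableUnderComposition]
    (hP : ∀ {X Y : Scheme.{u}} (i : X ⟶ Y) [IsOpenImmersion i], P i)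
    {X Y : Scheme.{u}} (f : X ⟶ Y) {V : Y.Opens} (hV : IsAffineOpen V) {U : X.Opens}
    (hU : IsAffineOpen U) (e : U ≤ f ⁻¹ᵁ V) (g : Γ(X, U))
    (H : letI := (f.appLE V U e).hom.toAlgebra
      Q (algebraMap Γ(Y, V) (Localization.Away g))) :
    P ((X.basicOpen g).ι ≫ f) := by
  have e' : X.basicOpen g ≤ f ⁻¹ᵁ V := (X.basicOpen_le g).trans e
  rw [← Scheme.Hom.resLE_comp_ι f e']
  refine P.comp_mem _ _ ?_ (hP _)
  have : IsAffine (X.basicOpen g).toScheme := hU.basicOpen g
  have : IsAffine V.toScheme := hV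
  rw [HasRingHomProperty.iff_of_isAffine (P := P)]
  have hQ := (HasRingHomProperty.isLocal_ringHomProperty P).respectsIso
  rw [hQ.arrow_mk_iso_iff (arrowResLEAppIso f V (X.basicOpen g) e')]
  rw [← Scheme.Hom.appLE_map f e (homOfLE (X.basicOpen_le g)).op, CommRingCat.hom_comp]
  let := (f.appLE V U e).hom.toAlgebra
  have := hU.isLocalization_basicOpen g
  exact comp_algebraMap_of_away hQ g Γ(X, X.basicOpen g) H

end

lemma mem_basicOpen_of_notMem_primeIdealOf {X : Scheme.{u}} {U : X.Opens} (hU : IsAffineOpen U)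
    (x : X) (hx : x ∈ U) (g : Γ(X, U)) (hg : g ∉ (hU.primeIdealOf ⟨x, hx⟩).asIdeal) :
    x ∈ X.basicOpen g := by
  have : (⟨x, hx⟩ : U) ∈ U.toSpecΓ ⁻¹ᵁ PrimeSpectrum.basicOpen g := by
    change hU.isoSpec.hom ⟨x, hx⟩ ∈ PrimeSpectrum.basicOpen g at *
    exact hg
  rw [Scheme.Opens.toSpecΓ_preimage_basicOpen] at this
  exact this

set_option backward.isDefEq.respectTransparency false in
/-- `f` is (formally) unramified on a neighbourhood of `x` iff the stalk map at `x` is
formally unramified. -/
lemma exists_formallyUnramified_iff_stalkMap {X Y : Scheme.{u}} (f : X ⟶ Y)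
    [LocallyOfFiniteType f] (x : X) :
    (∃ U : X.Opens, x ∈ U ∧ FormallyUnramified (U.ι ≫ f)) ↔
      (f.stalkMap x).hom.FormallyUnramified := by
  constructor
  · rintro ⟨U, hxU, hU⟩
    have := FormallyUnramified.stalkMap (U.ι ≫ f) ⟨x, hxU⟩
    rw [Scheme.Hom.stalkMap_comp, CommRingCat.hom_comp,
      RingHom.FormallyUnramified.respectsIso.cancel_right_isIso] at this
    exact this
  · intro H
    obtain ⟨V, hV, hfx, -⟩ := Opens.isBasis_iff_nbhd.mp Y.isBasis_affineOpens
      (Opens.mem_top <| f x)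
    obtain ⟨U₀, hU₀, hx, e⟩ := Opens.isBasis_iff_nbhd.mp X.isBasis_affineOpens
      (show x ∈ f ⁻¹ᵁ V from hfx)
    rw [stalkMap_iff_localRingHom RingHom.FormallyUnramified.respectsIso f x hV hU₀ e hx] at H
    have hft : (f.appLE V U₀ e).hom.FiniteType :=
      HasRingHomProperty.appLE @LocallyOfFiniteType f ‹_› ⟨V, hV⟩ ⟨U₀, hU₀⟩ e
    algebraize [(f.appLE V U₀ e).hom]
    set q := (hU₀.primeIdealOf ⟨x, hx⟩).asIdeal with hq
    let p := q.under Γ(Y, V)
    let := Localization.AtPrime.algebraOfLiesOver p q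
    have : Algebra.IsUnramifiedAt Γ(Y, V) q := by
      have : Algebra.FormallyUnramified (Localization.AtPrime p) (Localization.AtPrime q) := H
      exact Algebra.FormallyUnramified.comp Γ(Y, V) (Localization.AtPrime p) _
    obtain ⟨g, hgq, hg⟩ :=
      Algebra.exists_formallyUnramified_of_isUnramifiedAt (R := Γ(Y, V)) q
    refine ⟨X.basicOpen g, mem_basicOpen_of_notMem_primeIdealOf hU₀ x hx g hgq, ?_⟩
    apply comp_ι_basicOpen_of_away (P := @FormallyUnramified) (fun i _ => inferInstance)
      f hV hU₀ e g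
    exact RingHom.formallyUnramified_algebraMap.mpr hg

set_option backward.isDefEq.respectTransparency false in
/-- `f` (locally of finite presentation) is étale on a neighbourhood of `x` iff the stalk map
at `x` is flat and formally unramified. -/
lemma exists_etale_iff_stalkMap {X Y : Scheme.{u}} (f : X ⟶ Y)
    [LocallyOfFinitePresentation f] (x : X) :
    (∃ U : X.Opens, x ∈ U ∧ Etale (U.ι ≫ f)) ↔
      (f.stalkMap x).hom.Flat ∧ (f.stalkMap x).hom.FormallyUnramified := by
  constructor
  · rintro ⟨U, hxU, hU⟩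
    have h1 := FormallyUnramified.stalkMap (U.ι ≫ f) ⟨x, hxU⟩
    have h2 := Flat.stalkMap (U.ι ≫ f) ⟨x, hxU⟩
    rw [Scheme.Hom.stalkMap_comp, CommRingCat.hom_comp,
      RingHom.FormallyUnramified.respectsIso.cancel_right_isIso] at h1
    rw [Scheme.Hom.stalkMap_comp, CommRingCat.hom_comp,
      RingHom.Flat.respectsIso.cancel_right_isIso] at h2
    exact ⟨h2, h1⟩
  · rintro ⟨Hfl, H⟩
    obtain ⟨V, hV, hfx, -⟩ := Opens.isBasis_iff_nbhd.mp Y.isBasis_affineOpens
      (Opens.mem_top <| f x)
    obtain ⟨U₀, hU₀, hx, e⟩ := Opens.isBasis_iff_nbhd.mp X.isBasis_affineOpens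
      (show x ∈ f ⁻¹ᵁ V from hfx)
    rw [stalkMap_iff_localRingHom RingHom.FormallyUnramified.respectsIso f x hV hU₀ e hx] at H
    rw [stalkMap_iff_localRingHom RingHom.Flat.respectsIso f x hV hU₀ e hx] at Hfl
    have hft : (f.appLE V U₀ e).hom.FinitePresentation :=
      HasRingHomProperty.appLE @LocallyOfFinitePresentation f ‹_› ⟨V, hV⟩ ⟨U₀, hU₀⟩ e
    algebraize [(f.appLE V U₀ e).hom]
    set q := (hU₀.primeIdealOf ⟨x, hx⟩).asIdeal with hq
    let p := q.under Γ(Y, V)
    let := Localization.AtPrime.algebraOfLiesOver p q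
    have : Algebra.IsUnramifiedAt Γ(Y, V) q := by
      have : Algebra.FormallyUnramified (Localization.AtPrime p) (Localization.AtPrime q) := H
      exact Algebra.FormallyUnramified.comp Γ(Y, V) (Localization.AtPrime p) _
    have : Module.Flat (Localization.AtPrime p) (Localization.AtPrime q) := Hfl
    have : Algebra.IsEtaleAt Γ(Y, V) q := isEtaleAt_of_isUnramifiedAt_of_flat_localization p q
    obtain ⟨g, hgq, hg⟩ := Algebra.exists_etale_of_isEtaleAt (R := Γ(Y, V)) q
    refine ⟨X.basicOpen g, mem_basicOpen_of_notMem_primeIdealOf hU₀ x hx g hgq, ?_⟩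
    apply comp_ι_basicOpen_of_away (P := @Etale) (fun i _ => inferInstance)
      f hV hU₀ e g
    exact RingHom.etale_algebraMap.mpr hg

lemma finite_sep_congr {K L : Type*} [Field K] [Field L] (a b : Algebra K L) (h : a = b) :
    (@Module.Finite K L _ _ (@Algebra.toModule _ _ _ _ a) ∧ @Algebra.IsSeparable K L _ _ a) ↔
    (@Module.Finite K L _ _ (@Algebra.toModule _ _ _ _ b) ∧ @Algebra.IsSeparable K L _ _ b) := by
  subst h; rfl

set_option backward.isDefEq.respectTransparency false in
lemma stalkMap_formallyUnramified_iff {X Y : Scheme.{u}} (f : X ⟶ Y) [LocallyOfFiniteType f]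
    (x : X) :
    (f.stalkMap x).hom.FormallyUnramified ↔
      ((IsLocalRing.maximalIdeal (Y.presheaf.stalk (f.base x))).map (f.stalkMap x).hom =
          IsLocalRing.maximalIdeal (X.presheaf.stalk x) ∧
        letI := (f.residueFieldMap x).hom.toAlgebra
        Module.Finite (Y.residueField (f.base x)) (X.residueField x) ∧
          Algebra.IsSeparable (Y.residueField (f.base x)) (X.residueField x)) := by
  algebraize [(f.stalkMap x).hom]
  have : IsLocalHom (algebraMap (Y.presheaf.stalk (f x)) (X.presheaf.stalk x)) :=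
    inferInstanceAs <| IsLocalHom (f.stalkMap x).hom
  have : Algebra.EssFiniteType (Y.presheaf.stalk (f x)) (X.presheaf.stalk x) := by
    rw [← RingHom.essFiniteType_algebraMap, RingHom.algebraMap_toAlgebra]
    exact LocallyOfFiniteType.stalkMap f x
  have halg : (f.residueFieldMap x).hom.toAlgebra =
      (inferInstance : Algebra (IsLocalRing.ResidueField (Y.presheaf.stalk (f x)))
        (IsLocalRing.ResidueField (X.presheaf.stalk x))) := by
    refine Algebra.algebra_ext _ _ fun x ↦ ?_
    obtain ⟨x, rfl⟩ := IsLocalRing.residue_surjective x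
    rfl
  have key : (f.stalkMap x).hom.FormallyUnramified ↔
      Algebra.FormallyUnramified (Y.presheaf.stalk (f x)) (X.presheaf.stalk x) := by
    rw [← RingHom.formallyUnramified_algebraMap, RingHom.algebraMap_toAlgebra]
  rw [key, Algebra.FormallyUnramified.iff_map_maximalIdeal_eq]
  refine Iff.trans ?_ (and_congr_right' (finite_sep_congr _ _ halg).symm)
  constructor
  · rintro ⟨hsep, hmap⟩
    have : Algebra.FormallyUnramified (Y.presheaf.stalk (f x)) (X.presheaf.stalk x) :=
      Algebra.FormallyUnramified.of_map_maximalIdeal hmap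
    have hfin : Module.Finite (IsLocalRing.ResidueField (Y.presheaf.stalk (f x)))
        (IsLocalRing.ResidueField (X.presheaf.stalk x)) := inferInstance
    exact ⟨hmap, hfin, hsep⟩
  · rintro ⟨hmap, -, hsep⟩
    exact ⟨hsep, hmap⟩

end Groth.Agent.Lib.Helper26
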