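import Mathlib

set_option autoImplicit false
set_option linter.style.haveILetI false
set_option linter.unnecessarySimpa false
universe u

open CategoryTheory

namespace Groth.Agent.Lib.Helper26.ExtNontriv

section cat

variable {C : Type*} [Category C] [Abelian C] [HasExt C]

open Abelian

/-- If `Ext¹(X, S.X₁) = 0` and `Hom(X, S.X₂) = 0` then `Hom(X, S.X₃) = 0`. -/
lemma hom_eq_zero_of_ext_one_subsingleton {S : ShortComplex C} (hS : S.ShortExact) (X : C)
    (h1 : Subsingleton (Ext X S.X₁ 1)) (h2 : ∀ f : X ⟶ S.X₂, f = 0) (g : X ⟶ S.X₃) : g = 0 := by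
  obtain ⟨x₂, hx₂⟩ := Ext.covariant_sequence_exact₃ X hS (Ext.mk₀ g) (zero_add 1)
    (Subsingleton.elim _ _)
  obtain ⟨f, rfl⟩ := (Ext.mk₀_bijective X S.X₂).2 x₂
  rw [h2 f, Ext.mk₀_zero, Ext.zero_comp] at hx₂
  exact (Ext.mk₀_eq_zero_iff g).mp hx₂.symm

end cat


section ring

open IsLocalRing

/-- A reduced Noetherian local ring of dimension one has a non-zero-divisor in its
maximal ideal. -/
lemma exists_nzd_mem_maximalIdeal (R' : Type u) [CommRing R'] [IsNoetherianRing R']
    [IsLocalRing R'] [IsReduced R'] (hdim : ringKrullDim R' = 1) :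
    ∃ r ∈ maximalIdeal R', r ∈ nonZeroDivisors R' := by
  by_contra hcon
  push Not at hcon
  have hfin : ((⊥ : Ideal R').minimalPrimes).Finite :=
    Ideal.finite_minimalPrimes_of_isNoetherianRing R' ⊥
  have hsub : ((maximalIdeal R' : Ideal R') : Set R') ⊆
      ⋃ p ∈ (⊥ : Ideal R').minimalPrimes, (p : Set R') := by
    rw [Ideal.iUnion_minimalPrimes]
    intro r hr
    have h1 := hcon r hr
    rw [mem_nonZeroDivisors_iff_right] at h1
    push Not at h1
    obtain ⟨y, hy, hy0⟩ := h1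
    have hrad : (⊥ : Ideal R').radical = ⊥ := by
      have := nilradical_eq_zero R'
      rwa [nilradical] at this
    refine ⟨y, ?_, ?_⟩
    · rw [hrad]; exact hy0
    · rw [hrad, mul_comm]; exact hy
  have hsub' : ((maximalIdeal R' : Ideal R') : Set R') ⊆
      ⋃ p ∈ ((hfin.toFinset : Finset (Ideal R')) : Set (Ideal R')), ((id p : Ideal R') : Set R') := by
    intro r hr
    have := hsub hr
    simp only [Set.mem_iUnion, exists_prop] at this ⊢
    obtain ⟨p, hp, hrp⟩ := this
    exact ⟨p, by simpa using hp, hrp⟩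
  obtain ⟨p, hp, hle⟩ := (Ideal.subset_union_prime (s := hfin.toFinset) (f := id) ⊥ ⊥
    (fun i hi _ _ => by
      have : i ∈ (⊥ : Ideal R').minimalPrimes := by simpa using hi
      exact this.1.1)).mp hsub'
  have hp' : p ∈ (⊥ : Ideal R').minimalPrimes := by simpa using hp
  have hpm : p = maximalIdeal R' :=
    le_antisymm (le_maximalIdeal hp'.1.1.ne_top) hle
  have h0 : Ring.KrullDimLE 0 R' := by
    rw [Ring.krullDimLE_zero_iff]
    intro q hq
    obtain ⟨p', hp'', hp'q⟩ := Ideal.exists_minimalPrimes_le (I := ⊥) (J := q) bot_le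
    have hqm : q ≤ maximalIdeal R' := le_maximalIdeal hq.ne_top
    have : maximalIdeal R' ≤ p' := by
      rw [← hpm]
      exact hp'.2 ⟨hp''.1.1, bot_le⟩ (by rw [hpm]; exact hp'q.trans hqm)
    have hq' : q = maximalIdeal R' := le_antisymm hqm (this.trans hp'q)
    rw [hq']
    exact maximalIdeal.isMaximal R'
  have h1 : ringKrullDim R' ≤ 0 := by
    have := h0
    rw [Ring.KrullDimLE, Order.krullDimLE_iff] at this
    exact_mod_cast this
  rw [hdim] at h1
  exact absurd h1 (by norm_num)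



lemma withBot_enat_le_zero_of_add_one_le_one (a : WithBot ℕ∞) (h : a + 1 ≤ 1) : a ≤ 0 := by
  induction a using WithBot.recBotCoe with
  | bot => exact bot_le
  | coe e =>
    rw [← WithBot.coe_one, ← WithBot.coe_add, WithBot.coe_le_coe] at h
    rw [← WithBot.coe_zero, WithBot.coe_le_coe]
    induction e using ENat.recTopCoe with
    | top => simp at h
    | coe n =>
      have : n + 1 ≤ 1 := by exact_mod_cast h
      have : n = 0 := by omega
      rw [this]; rfl

lemma exists_pow_maximalIdeal_le (R : Type u) [CommRing R] [IsNoetherianRing R] [IsLocalRing R]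
    (Q : Ideal R) (hQdim : ringKrullDim (R ⧸ Q) = 1) (x : R) (hx : x ∈ maximalIdeal R)
    (hxQ : Ideal.Quotient.mk Q x ∈ nonZeroDivisors (R ⧸ Q)) :
    ∃ N : ℕ, maximalIdeal R ^ N ≤ Q ⊔ Ideal.span {x} := by
  have hQtop : Q ≠ ⊤ := by
    intro h
    have : Subsingleton (R ⧸ Q) := by rw [h]; exact Ideal.Quotient.subsingleton_iff.mpr rfl
    rw [ringKrullDim_eq_bot_of_subsingleton] at hQdim
    exact absurd hQdim (by simp)
  have hQm : Q ≤ maximalIdeal R := le_maximalIdeal hQtop
  have ham : Q ⊔ Ideal.span {x} ≤ maximalIdeal R :=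
    sup_le hQm ((Ideal.span_singleton_le_iff_mem _).mpr hx)
  let φ : R →+* ((R ⧸ Q) ⧸ Ideal.span {Ideal.Quotient.mk Q x}) :=
    (Ideal.Quotient.mk (Ideal.span {Ideal.Quotient.mk Q x})).comp (Ideal.Quotient.mk Q)
  have hφ : Function.Surjective φ :=
    Ideal.Quotient.mk_surjective.comp Ideal.Quotient.mk_surjective
  have hker : ∀ r, φ r = 0 → r ∈ Q ⊔ Ideal.span {x} := by
    intro r hr
    have h1 : Ideal.Quotient.mk Q r ∈ Ideal.span {Ideal.Quotient.mk Q x} :=
      Ideal.Quotient.eq_zero_iff_mem.mp hr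
    rw [Ideal.mem_span_singleton'] at h1
    obtain ⟨wbar, hw⟩ := h1
    obtain ⟨w, rfl⟩ := Ideal.Quotient.mk_surjective wbar
    rw [← map_mul, Ideal.Quotient.eq] at hw
    have : r = (r - w * x) + w * x := by ring
    rw [this]
    refine add_mem (Ideal.mem_sup_left ?_) (Ideal.mem_sup_right
      (Ideal.mul_mem_left _ _ (Ideal.mem_span_singleton_self x)))
    have := Q.neg_mem hw
    rwa [neg_sub] at this
  have hnt : Nontrivial ((R ⧸ Q) ⧸ Ideal.span {Ideal.Quotient.mk Q x}) := by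
    refine ⟨⟨1, 0, fun h => ?_⟩⟩
    have h1 : φ 1 = 0 := by rw [map_one]; exact h
    have := ham (hker 1 h1)
    exact (Ideal.ne_top_iff_one _).mp (maximalIdeal.isMaximal R).ne_top this
  haveI : IsLocalRing ((R ⧸ Q) ⧸ Ideal.span {Ideal.Quotient.mk Q x}) :=
    IsLocalRing.of_surjective' φ hφ
  have hdim := ringKrullDim_quotient_succ_le_of_nonZeroDivisor hxQ
  rw [hQdim] at hdim
  have hdim0 := withBot_enat_le_zero_of_add_one_le_one _ hdim
  have hK : Ring.KrullDimLE 0 ((R ⧸ Q) ⧸ Ideal.span {Ideal.Quotient.mk Q x}) := by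
    rw [Ring.KrullDimLE, Order.krullDimLE_iff]
    exact_mod_cast hdim0
  haveI : IsArtinianRing ((R ⧸ Q) ⧸ Ideal.span {Ideal.Quotient.mk Q x}) :=
    isArtinianRing_iff_krullDimLE_zero.mpr hK
  obtain ⟨N, hN⟩ := (isArtinianRing_iff_isNilpotent_maximalIdeal
    ((R ⧸ Q) ⧸ Ideal.span {Ideal.Quotient.mk Q x})).mp inferInstance
  refine ⟨N, fun r hr => hker r ?_⟩
  have hmap : Ideal.map φ (maximalIdeal R) ≤
      maximalIdeal ((R ⧸ Q) ⧸ Ideal.span {Ideal.Quotient.mk Q x}) := by
    rw [Ideal.map_le_iff_le_comap]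
    intro r hr
    rw [Ideal.mem_comap, mem_maximalIdeal, mem_nonunits_iff]
    intro hu
    obtain ⟨s', hs'⟩ := hu.exists_right_inv
    obtain ⟨s, rfl⟩ := hφ s'
    have h1 : φ (r * s - 1) = 0 := by rw [map_sub, map_mul, hs', map_one, sub_self]
    have h2 := ham (hker _ h1)
    have h3 : r * s ∈ maximalIdeal R := Ideal.mul_mem_right _ _ hr
    have h4 : (1 : R) ∈ maximalIdeal R := by
      have := Ideal.sub_mem _ h3 h2
      simpa using this
    exact (Ideal.ne_top_iff_one _).mp (maximalIdeal.isMaximal R).ne_top h4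
  have h5 : φ r ∈ Ideal.map φ (maximalIdeal R ^ N) := Ideal.mem_map_of_mem _ hr
  rw [Ideal.map_pow] at h5
  have h6 := Ideal.pow_right_mono hmap N h5
  rw [hN] at h6
  exact h6



/-- a nontrivial module killed by a power of the maximal ideal has a socle element. -/
lemma exists_socle (R : Type u) [CommRing R] [IsLocalRing R] (M : Type u) [AddCommGroup M]
    [Module R M] [Nontrivial M] (N : ℕ)
    (hN : maximalIdeal R ^ N • (⊤ : Submodule R M) = ⊥) :
    ∃ s : M, s ≠ 0 ∧ ∀ r ∈ maximalIdeal R, r • s = 0 := by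
  classical
  have hex : ∃ t, maximalIdeal R ^ t • (⊤ : Submodule R M) = ⊥ := ⟨N, hN⟩
  have ht := Nat.find_spec hex
  have ht0 : Nat.find hex ≠ 0 := by
    intro h0
    rw [h0, pow_zero, Ideal.one_eq_top, Submodule.top_smul] at ht
    exact top_ne_bot ht
  obtain ⟨t', ht'⟩ := Nat.exists_eq_succ_of_ne_zero ht0
  have hmin : maximalIdeal R ^ t' • (⊤ : Submodule R M) ≠ ⊥ :=
    Nat.find_min hex (by omega)
  obtain ⟨s, hs, hs0⟩ := (Submodule.ne_bot_iff _).mp hmin
  refine ⟨s, hs0, fun r hr => ?_⟩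
  have : r • s ∈ maximalIdeal R ^ (Nat.find hex) • (⊤ : Submodule R M) := by
    rw [ht', pow_succ', mul_smul]
    exact Submodule.smul_mem_smul hr hs
  rw [ht] at this
  exact (Submodule.mem_bot R).mp this

/-- a nonzero map from a nontrivial finite module to a module with a socle element. -/
lemma exists_hom_ne_zero (R : Type u) [CommRing R] [IsLocalRing R] (I M : Type u)
    [AddCommGroup I] [Module R I] [Module.Finite R I] [Nontrivial I]
    [AddCommGroup M] [Module R M] (s : M) (hs0 : s ≠ 0)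
    (hs : ∀ r ∈ maximalIdeal R, r • s = 0) : ∃ f : I →ₗ[R] M, f ≠ 0 := by
  obtain ⟨I', hI'⟩ : ∃ I' : Submodule R I, IsCoatom I' := by
    rcases eq_top_or_exists_le_coatom (⊥ : Submodule R I) with h | ⟨I', hI', -⟩
    · exact absurd h bot_ne_top
    · exact ⟨I', hI'⟩
  have hsimple : IsSimpleModule R (I ⧸ I') := isSimpleModule_iff_isCoatom.mpr hI'
  obtain ⟨𝔪, h𝔪, ⟨e⟩⟩ := isSimpleModule_iff_quot_maximal.mp hsimple
  have h𝔪' : 𝔪 = maximalIdeal R := IsLocalRing.eq_maximalIdeal h𝔪
  subst h𝔪'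
  let ψ : (R ⧸ maximalIdeal R) →ₗ[R] M :=
    Submodule.liftQ (maximalIdeal R) (LinearMap.toSpanSingleton R M s) (by
      intro r hr
      rw [LinearMap.mem_ker, LinearMap.toSpanSingleton_apply]
      exact hs r hr)
  refine ⟨ψ.comp (e.toLinearMap.comp I'.mkQ), fun h => ?_⟩
  obtain ⟨q, hq⟩ := e.surjective (Ideal.Quotient.mk _ 1)
  obtain ⟨i, rfl⟩ := I'.mkQ_surjective q
  have h1 := congrArg (fun g : I →ₗ[R] M => g i) h
  simp only [LinearMap.comp_apply, LinearMap.zero_apply, LinearEquiv.coe_coe] at h1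
  rw [hq] at h1
  have h2 : ψ (Ideal.Quotient.mk _ 1) = s := by
    show (LinearMap.toSpanSingleton R M s) 1 = s
    rw [LinearMap.toSpanSingleton_apply, one_smul]
  exact hs0 (h2 ▸ h1)

end ring


section main

open IsLocalRing

theorem main
    (R : Type u) [CommRing R] [IsNoetherianRing R] [IsLocalRing R]
    (P Q : Ideal R) (hPQ : ∃ n : ℕ, IsLocalRing.maximalIdeal R ^ n ≤ P ⊔ Q)
    [IsReduced (R ⧸ Q)]
    (hQdim : ringKrullDim (R ⧸ Q) = 1)
    (I J : Type u) [AddCommGroup I] [Module R I] [Module.Finite R I] [Nontrivial I]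
    [AddCommGroup J] [Module R J] [Module.Finite R J] [Nontrivial J]
    (hPI : ∀ p ∈ P, ∀ x : I, p • x = 0) (hQJ : ∀ q ∈ Q, ∀ y : J, q • y = 0)
    (hJtf : ∀ r : R, Ideal.Quotient.mk Q r ∈ nonZeroDivisors (R ⧸ Q) → ∀ y : J, r • y = 0 → y = 0) :
    Nontrivial (Abelian.Ext (ModuleCat.of R I) (ModuleCat.of R J) 1) := by
  -- the quotient is local
  have hQtop : Q ≠ ⊤ := by
    intro h
    have : Subsingleton (R ⧸ Q) := by rw [h]; exact Ideal.Quotient.subsingleton_iff.mpr rfl
    rw [ringKrullDim_eq_bot_of_subsingleton] at hQdim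
    exact absurd hQdim (by simp)
  haveI : Nontrivial (R ⧸ Q) := Ideal.Quotient.nontrivial_iff.mpr hQtop
  haveI : IsLocalRing (R ⧸ Q) :=
    IsLocalRing.of_surjective' (Ideal.Quotient.mk Q) Ideal.Quotient.mk_surjective
  -- a regular element
  obtain ⟨xbar, hxbar, hxnzd⟩ := exists_nzd_mem_maximalIdeal (R ⧸ Q) hQdim
  obtain ⟨x, rfl⟩ := Ideal.Quotient.mk_surjective xbar
  have hx : x ∈ maximalIdeal R := by
    rw [mem_maximalIdeal, mem_nonunits_iff]
    intro hu
    rw [mem_maximalIdeal, mem_nonunits_iff] at hxbar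
    exact hxbar (hu.map _)
  have hxreg : ∀ y : J, x • y = 0 → y = 0 := hJtf x hxnzd
  have hxpow : ∀ (n : ℕ) (y : J), x ^ n • y = 0 → y = 0 := by
    intro n
    induction n with
    | zero => intro y hy; simpa using hy
    | succ n ih =>
      intro y hy
      rw [pow_succ, mul_smul] at hy
      exact hxreg y (ih _ hy)
  -- Hom(I, J) = 0
  obtain ⟨n, hn⟩ := hPQ
  have hhom : ∀ f : I →ₗ[R] J, f = 0 := by
    intro f
    ext i
    apply hxpow n
    have hxn : x ^ n ∈ P ⊔ Q := hn (Ideal.pow_mem_pow hx n)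
    obtain ⟨p, hp, q, hq, hpq⟩ := Submodule.mem_sup.mp hxn
    rw [← hpq, add_smul, ← map_smul, hPI p hp i, map_zero, hQJ q hq, add_zero]
  -- the quotient `J/xJ`
  let xJ : Submodule R J := LinearMap.range (LinearMap.lsmul R J x)
  obtain ⟨N, hN⟩ := exists_pow_maximalIdeal_le R Q hQdim x hx hxnzd
  have hkill : ∀ a ∈ Q ⊔ Ideal.span {x}, ∀ m : J ⧸ xJ, a • m = 0 := by
    intro a ha m
    obtain ⟨y, rfl⟩ := xJ.mkQ_surjective m
    obtain ⟨q, hq, b, hb, rfl⟩ := Submodule.mem_sup.mp ha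
    obtain ⟨c, rfl⟩ := Ideal.mem_span_singleton'.mp hb
    rw [← map_smul, add_smul, hQJ q hq y, zero_add]
    refine (Submodule.Quotient.mk_eq_zero xJ).mpr ⟨c • y, ?_⟩
    show x • c • y = (c * x) • y
    rw [smul_smul, mul_comm]
  haveI : Nontrivial (J ⧸ xJ) := by
    apply Submodule.Quotient.nontrivial_iff.mpr
    intro htop
    -- Nakayama
    have hle : (⊤ : Submodule R J) ≤ maximalIdeal R • (⊤ : Submodule R J) := by
      intro y _
      have hy : y ∈ xJ := by rw [htop]; exact Submodule.mem_top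
      obtain ⟨z, rfl⟩ := hy
      exact Submodule.smul_mem_smul hx (Submodule.mem_top)
    have := Submodule.eq_bot_of_le_smul_of_le_jacobson_bot (maximalIdeal R) (⊤ : Submodule R J)
      (Module.Finite.fg_top) hle (IsLocalRing.maximalIdeal_le_jacobson _)
    exact top_ne_bot this
  have hN' : maximalIdeal R ^ N • (⊤ : Submodule R (J ⧸ xJ)) = ⊥ := by
    rw [eq_bot_iff, Submodule.smul_le]
    intro a ha m _
    rw [hkill a (hN ha) m]
    exact zero_mem _
  obtain ⟨s, hs0, hs⟩ := exists_socle R (J ⧸ xJ) N hN'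
  obtain ⟨f, hf⟩ := exists_hom_ne_zero R I (J ⧸ xJ) s hs0 hs
  -- the short exact sequence
  let S : ShortComplex (ModuleCat.{u} R) :=
    ShortComplex.mk (ModuleCat.ofHom (LinearMap.lsmul R J x) : ModuleCat.of R J ⟶ ModuleCat.of R J)
      (ModuleCat.ofHom xJ.mkQ : ModuleCat.of R J ⟶ ModuleCat.of R (J ⧸ xJ)) (by
        ext y
        exact (Submodule.Quotient.mk_eq_zero xJ).mpr ⟨y, rfl⟩)
  have hS : S.ShortExact :=
    { exact := by
        rw [ShortComplex.ShortExact.moduleCat_exact_iff_function_exact]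
        intro y
        constructor
        · intro hy
          exact (Submodule.Quotient.mk_eq_zero xJ).mp hy
        · rintro ⟨z, rfl⟩
          exact (Submodule.Quotient.mk_eq_zero xJ).mpr ⟨z, rfl⟩
      mono_f := (ModuleCat.mono_iff_injective _).mpr (by
        intro y z hyz
        have h1 : x • y = x • z := hyz
        have h2 : x • (y - z) = 0 := by rw [smul_sub, h1, sub_self]
        exact sub_eq_zero.mp (hxreg _ h2))
      epi_g := (ModuleCat.epi_iff_surjective _).mpr (Submodule.mkQ_surjective _) }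
  by_contra hcon
  rw [not_nontrivial_iff_subsingleton] at hcon
  have h0 := hom_eq_zero_of_ext_one_subsingleton hS (ModuleCat.of R I) hcon
    (fun g => by
      have := hhom g.hom
      apply ModuleCat.hom_ext
      exact this)
    (ModuleCat.ofHom f)
  apply hf
  have := congrArg ModuleCat.Hom.hom h0
  exact this

end main

end Groth.Agent.Lib.Helper26.ExtNontriv
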