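import Mathlib

set_option linter.unusedSectionVars false
set_option linter.style.haveILetI false
set_option linter.unusedVariables false

open MvPowerSeries

namespace Groth.Agent.Lib.Helper26.LubinTate

variable {O : Type*} [CommRing O] (π : O) (q : ℕ) (σ : Type*)

/-- the substitution family `a_i = π X_i + X_i^q` -/
noncomputable def fam : σ → MvPowerSeries σ O := fun i => π • X i + X i ^ q

/-- `Φ(H) = H(π X + X^q)` -/
noncomputable def Phi (H : MvPowerSeries σ O) : MvPowerSeries σ O := H.subst (fam π q σ)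

variable {σ}

lemma constantCoeff_fam (hq : q ≠ 0) (i : σ) : constantCoeff (fam π q σ i) = 0 := by
  simp [fam, hq]

lemma hasSubst_fam [Finite σ] (hq : q ≠ 0) : HasSubst (fam π q σ) :=
  hasSubst_of_constantCoeff_zero (constantCoeff_fam π q hq)

/-- `u_i = π + X_i^(q-1)` -/
noncomputable def ufam : σ → MvPowerSeries σ O := fun i => C π + X i ^ (q - 1)

lemma fam_eq (hq : q ≠ 0) (i : σ) : fam π q σ i = X i * ufam π q i := by
  obtain ⟨k, rfl⟩ : ∃ k, q = k + 1 := ⟨q - 1, by omega⟩
  simp only [fam, ufam, Nat.add_sub_cancel, smul_eq_C_mul, pow_succ]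
  ring

lemma constantCoeff_ufam (hq : 2 ≤ q) (i : σ) : constantCoeff (ufam π q i) = π := by
  have : q - 1 ≠ 0 := by omega
  simp [ufam, this]

open Classical in
/-- key coefficient computation -/
lemma coeff_prod_fam (hq : 2 ≤ q) (d n : σ →₀ ℕ) (h : n.degree ≤ d.degree) :
    coeff n (d.prod fun i e => (fam π q σ i) ^ e) = if d = n then π ^ n.degree else 0 := by
  classical
  have hq0 : q ≠ 0 := by omega
  have h1 : (d.prod fun i e => (fam π q σ i) ^ e)
      = monomial d 1 * d.prod fun i e => (ufam π q i) ^ e := by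
    rw [monomial_one_eq, ← Finsupp.prod_mul]
    apply Finsupp.prod_congr
    intro i _
    rw [fam_eq π q hq0, mul_pow]
  rw [h1, coeff_monomial_mul]
  by_cases hdn : d ≤ n
  · have hdeg : n.degree = d.degree + (n - d).degree := by
      rw [← map_add]
      congr 1
      ext i
      have := hdn i
      simp only [Finsupp.coe_add, Finsupp.coe_tsub, Pi.add_apply, Pi.sub_apply]
      omega
    have h0 : n - d = 0 := by
      rw [← Finsupp.degree_eq_zero_iff]
      omega
    have hnd : d = n := by
      ext i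
      have := hdn i
      have h2 := DFunLike.congr_fun h0 i
      simp only [Finsupp.coe_tsub, Pi.sub_apply, Finsupp.coe_zero, Pi.zero_apply] at h2
      omega
    rw [if_pos hdn, if_pos hnd, h0, one_mul, coeff_zero_eq_constantCoeff_apply, map_finsuppProd]
    subst hnd
    simp only [map_pow, constantCoeff_ufam π q hq]
    rw [Finsupp.prod, Finset.prod_pow_eq_pow_sum, Finsupp.degree_apply]
  · rw [if_neg hdn, if_neg]
    rintro rfl
    exact hdn le_rfl

variable [Finite σ]

/-- (T): the leading coefficients of `Φ(D)`. -/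
lemma coeff_Phi_of_degree_eq (hq : 2 ≤ q) (D : MvPowerSeries σ O) (s : ℕ)
    (hD : ∀ m : σ →₀ ℕ, m.degree < s → coeff m D = 0) (n : σ →₀ ℕ) (hn : n.degree = s) :
    coeff n (Phi π q σ D) = π ^ s * coeff n D := by
  have hq0 : q ≠ 0 := by omega
  rw [Phi, coeff_subst (hasSubst_fam π q hq0)]
  rw [finsum_eq_single _ n]
  · rw [coeff_prod_fam π q hq n n le_rfl, if_pos rfl, hn, smul_eq_mul, mul_comm]
  · intro d hd
    by_cases hds : d.degree < s
    · rw [hD d hds, zero_smul]
    · rw [coeff_prod_fam π q hq d n (by omega), if_neg hd, smul_zero]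

lemma coeff_Phi_of_degree_lt (hq : 2 ≤ q) (D : MvPowerSeries σ O) (s : ℕ)
    (hD : ∀ m : σ →₀ ℕ, m.degree < s → coeff m D = 0) (n : σ →₀ ℕ) (hn : n.degree < s) :
    coeff n (Phi π q σ D) = 0 := by
  have hq0 : q ≠ 0 := by omega
  rw [Phi, coeff_subst (hasSubst_fam π q hq0)]
  apply finsum_eq_zero_of_forall_eq_zero
  intro d
  by_cases hds : d.degree < s
  · rw [hD d hds, zero_smul]
  · rw [coeff_prod_fam π q hq d n (by omega), if_neg, smul_zero]
    rintro rfl
    omega

lemma Phi_sub (hq : q ≠ 0) (H H' : MvPowerSeries σ O) :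
    Phi π q σ (H - H') = Phi π q σ H - Phi π q σ H' :=
  subst_sub (hasSubst_fam π q hq) H H'

lemma Phi_add (hq : q ≠ 0) (H H' : MvPowerSeries σ O) :
    Phi π q σ (H + H') = Phi π q σ H + Phi π q σ H' :=
  subst_add (hasSubst_fam π q hq) H H'



omit [Finite σ] in
lemma coeff_pow_eq_of_agree (hq : 2 ≤ q) (H H' : MvPowerSeries σ O)
    (h0 : constantCoeff H = 0) (h0' : constantCoeff H' = 0) (s : ℕ)
    (hD : ∀ m : σ →₀ ℕ, m.degree < s → coeff m H = coeff m H') (n : σ →₀ ℕ)
    (hn : n.degree < s + 1) : coeff n (H ^ q) = coeff n (H' ^ q) := by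
  set S := ∑ i ∈ Finset.range q, H ^ i * H' ^ (q - 1 - i) with hS
  have h1 : S * (H - H') = H ^ q - H' ^ q := (Commute.all H H').geom_sum₂_mul q
  have hS0 : constantCoeff S = 0 := by
    rw [hS, map_sum]
    apply Finset.sum_eq_zero
    intro i hi
    rw [map_mul, map_pow, map_pow, h0, h0']
    rcases Nat.eq_zero_or_pos i with rfl | hi0
    · have : q - 1 - 0 ≠ 0 := by omega
      rw [zero_pow this, mul_zero]
    · rw [zero_pow (by omega), zero_mul]
  have hS1 : (1 : ℕ∞) ≤ S.order := one_le_order_iff_constCoeff_eq_zero.mpr hS0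
  have hD1 : (s : ℕ∞) ≤ (H - H').order := by
    apply nat_le_order
    intro d hd
    rw [map_sub, hD d hd, sub_self]
  have h2 : ((s + 1 : ℕ) : ℕ∞) ≤ (S * (H - H')).order := by
    refine le_trans ?_ le_order_mul
    push_cast
    rw [add_comm]
    exact add_le_add hS1 hD1
  have h3 : coeff n (S * (H - H')) = 0 := by
    apply coeff_of_lt_order
    refine lt_of_lt_of_le ?_ h2
    exact_mod_cast hn
  rw [h1, map_sub, sub_eq_zero] at h3
  exact h3

section Construction

variable (hnzd : ∀ x : O, π * x = 0 → x = 0)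

variable (N : MvPowerSeries σ O → MvPowerSeries σ O)

/-- division by `π` (junk value if not divisible) -/
noncomputable def divPi (x : O) : O := by
  classical
  exact if h : ∃ y, π * y = x then h.choose else 0

omit [Finite σ] in
lemma mul_divPi {x : O} (h : x ∈ Ideal.span {π}) : π * divPi π x = x := by
  classical
  rw [Ideal.mem_span_singleton'] at h
  have h' : ∃ y, π * y = x := by
    obtain ⟨y, hy⟩ := h
    exact ⟨y, by rw [mul_comm]; exact hy⟩
  rw [divPi, dif_pos h']
  exact h'.choose_spec

/-- the linear series with prescribed coefficients -/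
noncomputable def linSeries (a : σ → O) : MvPowerSeries σ O := by
  classical
  exact fun n => if h : ∃ i, n = Finsupp.single i 1 then a h.choose else 0

omit [Finite σ] in
lemma coeff_linSeries_single (a : σ → O) (i : σ) :
    coeff (Finsupp.single i 1) (linSeries a) = a i := by
  classical
  have h : ∃ j, Finsupp.single i 1 = Finsupp.single j 1 := ⟨i, rfl⟩
  rw [coeff_apply, linSeries, dif_pos h]
  have := h.choose_spec
  have h2 : i = h.choose := by
    have := Finsupp.single_left_injective (one_ne_zero) this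
    exact this
  rw [← h2]

omit [Finite σ] in
lemma coeff_linSeries_of_degree_ne (a : σ → O) (n : σ →₀ ℕ) (hn : n.degree ≠ 1) :
    coeff n (linSeries a) = 0 := by
  classical
  rw [coeff_apply, linSeries, dif_neg]
  rintro ⟨i, rfl⟩
  exact hn (Finsupp.degree_single i 1)

open Classical in
/-- the correction term of degree `r + 2` -/
noncomputable def corr (G : MvPowerSeries σ O) (r : ℕ) : MvPowerSeries σ O :=
  fun n => if n.degree = r + 2 then
    Ring.inverse (1 - π ^ (r + 1)) * divPi π (coeff n (Phi π q σ G - N G)) else 0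

omit [Finite σ] in
open Classical in
lemma coeff_corr (G : MvPowerSeries σ O) (r : ℕ) (n : σ →₀ ℕ) :
    coeff n (corr π q N G r) = if n.degree = r + 2 then
      Ring.inverse (1 - π ^ (r + 1)) * divPi π (coeff n (Phi π q σ G - N G)) else 0 := rfl

/-- the successive approximations -/
noncomputable def Gapprox (a : σ → O) : ℕ → MvPowerSeries σ O
  | 0 => 0
  | 1 => linSeries a
  | (r + 2) => Gapprox a (r + 1) + corr π q N (Gapprox a (r + 1)) r

/-- the limit series -/
noncomputable def Hlim (a : σ → O) : MvPowerSeries σ O :=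
  fun n => coeff n (Gapprox π q N a n.degree)

omit [Finite σ] in
lemma coeff_Gapprox_succ_succ (a : σ → O) (r : ℕ) (n : σ →₀ ℕ) :
    coeff n (Gapprox π q N a (r + 2)) = coeff n (Gapprox π q N a (r + 1)) +
      if n.degree = r + 2 then Ring.inverse (1 - π ^ (r + 1)) *
          divPi π (coeff n (Phi π q σ (Gapprox π q N a (r + 1)) - N (Gapprox π q N a (r + 1))))
      else 0 := by
  classical
  rw [Gapprox, map_add, coeff_corr]

omit [Finite σ] in
lemma coeff_Gapprox_of_lt (a : σ → O) (r : ℕ) (n : σ →₀ ℕ) (h : r < n.degree) :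
    coeff n (Gapprox π q N a r) = 0 := by
  induction r with
  | zero => simp [Gapprox]
  | succ r ih =>
    rcases r with _ | r
    · exact coeff_linSeries_of_degree_ne a n (by omega)
    · rw [coeff_Gapprox_succ_succ, ih (by omega), if_neg (by omega), add_zero]

omit [Finite σ] in
lemma coeff_Gapprox_of_le (a : σ → O) (r : ℕ) (n : σ →₀ ℕ) (h : n.degree ≤ r) :
    coeff n (Gapprox π q N a r) = coeff n (Hlim π q N a) := by
  have hH : coeff n (Hlim π q N a) = coeff n (Gapprox π q N a n.degree) := rfl
  rw [hH]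
  induction r with
  | zero =>
    have : n.degree = 0 := by omega
    rw [this]
  | succ r ih =>
    rcases Nat.lt_or_ge n.degree (r + 1) with h1 | h1
    · rw [← ih (by omega)]
      rcases r with _ | r
      · have h0 : n.degree = 0 := by omega
        have h2 : coeff n (Gapprox π q N a (0 + 1)) = coeff n (linSeries a) := rfl
        rw [h2, coeff_linSeries_of_degree_ne a n (by omega)]
        simp [Gapprox]
      · rw [coeff_Gapprox_succ_succ, if_neg (by omega), add_zero]
    · have : n.degree = r + 1 := by omega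
      rw [this]




theorem exists_series (hq : 2 ≤ q) (hunit : ∀ r, 1 ≤ r → IsUnit (1 - π ^ r))
    (hN0 : N 0 = 0)
    (hN : ∀ (H H' : MvPowerSeries σ O), constantCoeff H = 0 → constantCoeff H' = 0 → ∀ s : ℕ,
      (∀ m : σ →₀ ℕ, m.degree < s → coeff m H = coeff m H') → ∀ n : σ →₀ ℕ, n.degree < s + 1 →
      coeff n (N H) = coeff n (N H'))
    (hfrob : ∀ (G : MvPowerSeries σ O) (n : σ →₀ ℕ),
      coeff n (Phi π q σ G - N G) ∈ Ideal.span {π})
    (a : σ → O) :
    constantCoeff (Hlim π q N a) = 0 ∧ (∀ i, coeff (Finsupp.single i 1) (Hlim π q N a) = a i) ∧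
      π • Hlim π q N a + N (Hlim π q N a) = Phi π q σ (Hlim π q N a) := by
  have hq0 : q ≠ 0 := by omega
  set H := Hlim π q N a with hHdef
  have hH0 : constantCoeff H = 0 := by
    rw [← coeff_zero_eq_constantCoeff_apply, ← coeff_Gapprox_of_le π q N a 0 0 (by simp)]
    simp [Gapprox]
  have hH1 : ∀ i, coeff (Finsupp.single i 1) H = a i := by
    intro i
    rw [← coeff_Gapprox_of_le π q N a 1 (Finsupp.single i 1) (by simp)]
    exact coeff_linSeries_single a i
  refine ⟨hH0, hH1, ?_⟩
  have hlow : ∀ m : σ →₀ ℕ, m.degree < 1 → coeff m H = 0 := by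
    intro m hm
    have : m = 0 := (Finsupp.degree_eq_zero_iff m).mp (by omega)
    rw [this, coeff_zero_eq_constantCoeff_apply, hH0]
  ext n
  rw [map_add, coeff_smul]
  rcases hn : n.degree with _ | _ | r
  · -- degree 0
    rw [coeff_Phi_of_degree_lt π q hq H 1 hlow n (by omega)]
    have h2 : coeff n (N H) = coeff n (N 0) :=
      hN H 0 hH0 (map_zero _) 1 (fun m hm => by rw [hlow m hm, map_zero]) n (by omega)
    have : n = 0 := (Finsupp.degree_eq_zero_iff n).mp hn
    rw [h2, hN0, map_zero, add_zero, this, coeff_zero_eq_constantCoeff_apply, hH0, mul_zero]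
  · -- degree 1
    rw [coeff_Phi_of_degree_eq π q hq H 1 hlow n (by omega)]
    have h2 : coeff n (N H) = coeff n (N 0) :=
      hN H 0 hH0 (map_zero _) 1 (fun m hm => by rw [hlow m hm, map_zero]) n (by omega)
    rw [h2, hN0, map_zero, add_zero, pow_one]
  · -- degree r + 2
    set G := Gapprox π q N a (r + 1) with hG
    have hagree : ∀ m : σ →₀ ℕ, m.degree < r + 2 → coeff m H = coeff m G := by
      intro m hm
      exact (coeff_Gapprox_of_le π q N a (r + 1) m (by omega)).symm
    have hG0 : constantCoeff G = 0 := by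
      rw [← coeff_zero_eq_constantCoeff_apply, ← hagree 0 (by simp),
        coeff_zero_eq_constantCoeff_apply, hH0]
    have hD : ∀ m : σ →₀ ℕ, m.degree < r + 2 → coeff m (H - G) = 0 := by
      intro m hm
      rw [map_sub, hagree m hm, sub_self]
    have h1 : coeff n (Phi π q σ H) = coeff n (Phi π q σ G) + π ^ (r + 2) * coeff n (H - G) := by
      have : H = G + (H - G) := by ring
      conv_lhs => rw [this, Phi_add π q hq0, map_add]
      rw [coeff_Phi_of_degree_eq π q hq (H - G) (r + 2) hD n hn]
    have h2 : coeff n (N H) = coeff n (N G) :=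
      hN H G hH0 hG0 (r + 2) hagree n (by omega)
    have hGn : coeff n G = 0 := coeff_Gapprox_of_lt π q N a (r + 1) n (by omega)
    have hcn : coeff n H = Ring.inverse (1 - π ^ (r + 1)) *
        divPi π (coeff n (Phi π q σ G - N G)) := by
      rw [← coeff_Gapprox_of_le π q N a (r + 2) n (by omega), coeff_Gapprox_succ_succ, ← hG, hGn,
        zero_add, if_pos hn]
    have hx := mul_divPi π (hfrob G n)
    have hu := Ring.mul_inverse_cancel _ (hunit (r + 1) (by omega))
    rw [h1, h2, map_sub, hGn, sub_zero]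
    set c := coeff n H with hc
    set dv := divPi π (coeff n (Phi π q σ G - N G)) with hdv
    set iv := Ring.inverse (1 - π ^ (r + 1)) with hiv
    rw [map_sub] at hx
    have e1 : π ^ (r + 2) = π * π ^ (r + 1) := by ring
    rw [e1, hcn]
    linear_combination hx + (π * dv) * hu

theorem series_unique (hq : 2 ≤ q) (hnzd : ∀ x : O, π * x = 0 → x = 0)
    (hunit : ∀ r, 1 ≤ r → IsUnit (1 - π ^ r))
    (hN : ∀ (H H' : MvPowerSeries σ O), constantCoeff H = 0 → constantCoeff H' = 0 → ∀ s : ℕ,
      (∀ m : σ →₀ ℕ, m.degree < s → coeff m H = coeff m H') → ∀ n : σ →₀ ℕ, n.degree < s + 1 →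
      coeff n (N H) = coeff n (N H'))
    (H H' : MvPowerSeries σ O) (h0 : constantCoeff H = 0) (h0' : constantCoeff H' = 0)
    (hlin : ∀ i, coeff (Finsupp.single i 1) H = coeff (Finsupp.single i 1) H')
    (hH : π • H + N H = Phi π q σ H) (hH' : π • H' + N H' = Phi π q σ H') : H = H' := by
  have hq0 : q ≠ 0 := by omega
  suffices h : ∀ r : ℕ, ∀ n : σ →₀ ℕ, n.degree ≤ r → coeff n H = coeff n H' by
    ext n
    exact h n.degree n le_rfl
  intro r
  induction r with
  | zero =>
    intro n hn
    have : n = 0 := (Finsupp.degree_eq_zero_iff n).mp (by omega)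
    rw [this, coeff_zero_eq_constantCoeff_apply, coeff_zero_eq_constantCoeff_apply, h0, h0']
  | succ r ih =>
    intro n hn
    rcases Nat.lt_or_ge n.degree (r + 1) with h1 | h1
    · exact ih n (by omega)
    have hn' : n.degree = r + 1 := by omega
    rcases r with _ | r
    · -- degree one
      have hne : n ≠ 0 := by
        intro h
        rw [h] at hn'
        simp at hn'
      obtain ⟨i, hi⟩ : ∃ i, n i ≠ 0 := by
        by_contra hcon
        push Not at hcon
        exact hne (Finsupp.ext hcon)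
      have hle : Finsupp.single i 1 ≤ n := by
        intro j
        by_cases hj : j = i
        · subst hj
          simp only [Finsupp.single_eq_same]
          omega
        · rw [Finsupp.single_eq_of_ne hj]
          exact Nat.zero_le _
      have hsplit : n = Finsupp.single i 1 + (n - Finsupp.single i 1) :=
        (add_tsub_cancel_of_le hle).symm
      have hdeg : (n - Finsupp.single i 1).degree = 0 := by
        have := congrArg Finsupp.degree hsplit
        rw [map_add, Finsupp.degree_single, hn'] at this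
        omega
      have hz : n - Finsupp.single i 1 = 0 := (Finsupp.degree_eq_zero_iff _).mp hdeg
      rw [hz, add_zero] at hsplit
      rw [hsplit]
      exact hlin i
    · -- degree r + 2
      have hagree : ∀ m : σ →₀ ℕ, m.degree < r + 2 → coeff m H = coeff m H' :=
        fun m hm => ih m (by omega)
      have hD : ∀ m : σ →₀ ℕ, m.degree < r + 2 → coeff m (H - H') = 0 := by
        intro m hm
        rw [map_sub, hagree m hm, sub_self]
      have h2 := coeff_Phi_of_degree_eq π q hq (H - H') (r + 2) hD n hn'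
      rw [Phi_sub π q hq0, ← hH, ← hH', map_sub, map_add, map_add, coeff_smul, coeff_smul,
        hN H H' h0 h0' (r + 2) hagree n (by omega), map_sub] at h2
      have h3 : π * ((1 - π ^ (r + 1)) * (coeff n H - coeff n H')) = 0 := by
        have e1 : π ^ (r + 2) = π * π ^ (r + 1) := by ring
        rw [e1] at h2
        linear_combination h2
      have h4 := hnzd _ h3
      have h5 := (hunit (r + 1) (by omega)).mul_right_eq_zero.mp h4
      exact sub_eq_zero.mp h5

/-- the nonlinear term `G ↦ G ^ q` -/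
noncomputable def Npow (G : MvPowerSeries σ O) : MvPowerSeries σ O := G ^ q

omit [Finite σ] in
lemma Npow_zero (hq : q ≠ 0) : Npow q (0 : MvPowerSeries σ O) = 0 := by
  rw [Npow, zero_pow hq]

omit [Finite σ] in
lemma Npow_local (hq : 2 ≤ q) : ∀ (H H' : MvPowerSeries σ O), constantCoeff H = 0 →
    constantCoeff H' = 0 → ∀ s : ℕ,
    (∀ m : σ →₀ ℕ, m.degree < s → coeff m H = coeff m H') → ∀ n : σ →₀ ℕ, n.degree < s + 1 →
    coeff n (Npow q H) = coeff n (Npow q H') :=
  fun H H' h0 h0' s hD n hn => coeff_pow_eq_of_agree q hq H H' h0 h0' s hD n hn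

/-- the zero nonlinear term -/
def Nzero (_G : MvPowerSeries σ O) : MvPowerSeries σ O := 0

omit [Finite σ] in
lemma Nzero_local : ∀ (H H' : MvPowerSeries σ O), constantCoeff H = 0 →
    constantCoeff H' = 0 → ∀ s : ℕ,
    (∀ m : σ →₀ ℕ, m.degree < s → coeff m H = coeff m H') → ∀ n : σ →₀ ℕ, n.degree < s + 1 →
    coeff n (Nzero H) = coeff n (Nzero H') :=
  fun _ _ _ _ _ _ _ _ => rfl

end Construction


section DVR

variable {O : Type*} [CommRing O] [IsDomain O] [IsDiscreteValuationRing O]
  [Finite (IsLocalRing.ResidueField O)] (π : O) (hπ : Irreducible π)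

lemma two_le_card : 2 ≤ Nat.card (IsLocalRing.ResidueField O) := Finite.one_lt_card

include hπ in
lemma nzd_of_irreducible : ∀ x : O, π * x = 0 → x = 0 := by
  intro x hx
  rcases mul_eq_zero.mp hx with h | h
  · exact absurd h hπ.ne_zero
  · exact h

include hπ in
lemma isUnit_one_sub_pow : ∀ r, 1 ≤ r → IsUnit (1 - π ^ r) := by
  intro r hr
  apply IsLocalRing.isUnit_one_sub_self_of_mem_nonunits
  have h1 : π ∈ IsLocalRing.maximalIdeal O := (IsLocalRing.mem_maximalIdeal _).mpr hπ.not_isUnit
  have h2 : π ^ r ∈ IsLocalRing.maximalIdeal O := Ideal.pow_mem_of_mem _ h1 r (by omega)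
  exact (IsLocalRing.mem_maximalIdeal _).mp h2

include hπ in
lemma frob_congr {σ : Type*} [Finite σ] (G : MvPowerSeries σ O) (n : σ →₀ ℕ) :
    coeff n (Phi π (Nat.card (IsLocalRing.ResidueField O)) σ G -
      G ^ (Nat.card (IsLocalRing.ResidueField O))) ∈ Ideal.span {π} := by
  classical
  set k := IsLocalRing.ResidueField O with hk
  set q := Nat.card k with hqdef
  have hq2 : 2 ≤ q := two_le_card
  have hq0 : q ≠ 0 := by omega
  haveI : Fintype k := Fintype.ofFinite k
  obtain ⟨p, hp⟩ := CharP.exists k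
  haveI := hp
  obtain ⟨N, hpprime, hcard⟩ := FiniteField.card k p
  haveI : Fact p.Prime := ⟨hpprime⟩
  haveI : ExpChar k p := ExpChar.prime hpprime
  have hqN : q = p ^ (N : ℕ) := by rw [hqdef, Nat.card_eq_fintype_card, hcard]
  set ρ : O →+* k := IsLocalRing.residue O with hρ
  have hρπ : ρ π = 0 := by
    rw [hρ, IsLocalRing.residue_eq_zero_iff]
    exact (IsLocalRing.mem_maximalIdeal _).mpr hπ.not_isUnit
  have hmapfam : ∀ i, (fam π q σ i).map ρ = (X i : MvPowerSeries σ k) ^ q := by
    intro i
    simp only [fam, map_add, map_pow, map_X]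
    rw [smul_eq_C_mul, map_mul, map_C, hρπ, map_zero, zero_mul, zero_add]
  have h1 : (Phi π q σ G).map ρ = (G.map ρ) ^ q := by
    rw [Phi, map_subst (hasSubst_fam π q hq0)]
    have h2 : (fun i => (fam π q σ i).map ρ) = fun i => (X i : MvPowerSeries σ k) ^ q :=
      funext hmapfam
    rw [h2]
    have h3 : (G.map ρ).subst (fun i => (X i : MvPowerSeries σ k) ^ q)
        = expand q hq0 (G.map ρ) := by
      rw [expand, substAlgHom_apply]
    rw [h3]
    have h4 := map_iterateFrobenius_expand p hpprime.ne_zero (G.map ρ) (N : ℕ)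
    have h5 : iterateFrobenius k p (N : ℕ) = RingHom.id k := by
      ext x
      rw [iterateFrobenius_def, ← hqN, RingHom.id_apply, hqdef, Nat.card_eq_fintype_card,
        FiniteField.pow_card]
    rw [h5, MvPowerSeries.map_id, RingHom.id_apply] at h4
    have h46 : ∀ (q' : ℕ) (hq' : q' ≠ 0), q' = p ^ (N : ℕ) →
        expand q' hq' (G.map ρ) = (G.map ρ) ^ q' := by
      rintro q' hq' rfl
      exact h4
    exact h46 q hq0 hqN
  have h7 : (Phi π q σ G - G ^ q).map ρ = 0 := by
    rw [map_sub, h1, map_pow, sub_self]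
  have h8 : ρ (coeff n (Phi π q σ G - G ^ q)) = 0 := by
    rw [← coeff_map, h7, map_zero]
  rw [← hπ.maximalIdeal_eq]
  rw [hρ, IsLocalRing.residue_eq_zero_iff] at h8
  exact h8

end DVR


section Closure

variable {O : Type*} [CommRing O] (π : O) (q : ℕ)

lemma fam_subst {τ σ : Type*} [Finite τ] [Finite σ] (H : τ → MvPowerSeries σ O)
    (hH0 : ∀ j, constantCoeff (H j) = 0) (j : τ) :
    (fam π q τ j).subst H = π • H j + (H j) ^ q := by
  have hHs : HasSubst H := hasSubst_of_constantCoeff_zero hH0
  rw [fam, subst_add hHs, subst_smul hHs, subst_pow hHs, subst_X hHs]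

lemma Phi_X {σ : Type*} [Finite σ] (hq : q ≠ 0) (i : σ) :
    π • (X i : MvPowerSeries σ O) + (X i) ^ q = Phi π q σ (X i) := by
  rw [Phi, subst_X (hasSubst_fam π q hq)]
  rfl

/-- (C1): closure of the commutation property under substitution. -/
theorem comm_subst {τ σ : Type*} [Finite τ] [Finite σ] (hq : q ≠ 0) (G : MvPowerSeries τ O)
    (hG : π • G + G ^ q = Phi π q τ G) (H : τ → MvPowerSeries σ O)
    (hH0 : ∀ j, constantCoeff (H j) = 0)
    (hH : ∀ j, π • H j + (H j) ^ q = Phi π q σ (H j)) :
    π • G.subst H + (G.subst H) ^ q = Phi π q σ (G.subst H) := by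
  have hHs : HasSubst H := hasSubst_of_constantCoeff_zero hH0
  calc π • G.subst H + (G.subst H) ^ q = (π • G + G ^ q).subst H := by
        rw [subst_add hHs, subst_smul hHs, subst_pow hHs]
    _ = (Phi π q τ G).subst H := by rw [hG]
    _ = G.subst (fun j => (fam π q τ j).subst H) :=
        subst_comp_subst_apply (hasSubst_fam π q hq) hHs G
    _ = G.subst (fun j => (H j).subst (fam π q σ)) := by
        congr 1
        funext j
        rw [fam_subst π q H hH0 j, hH j]
        rfl
    _ = Phi π q σ (G.subst H) := (subst_comp_subst_apply hHs (hasSubst_fam π q hq) G).symm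

/-- linear coefficients of a substitution -/
theorem coeff_single_subst {τ σ : Type*} [Fintype τ] [Finite σ] (G : MvPowerSeries τ O)
    (hG0 : constantCoeff G = 0) (H : τ → MvPowerSeries σ O)
    (hH0 : ∀ j, constantCoeff (H j) = 0) (i : σ) :
    coeff (Finsupp.single i 1) (G.subst H) =
      ∑ j, coeff (Finsupp.single j 1) G * coeff (Finsupp.single i 1) (H j) := by
  classical
  have hHs : HasSubst H := hasSubst_of_constantCoeff_zero hH0
  set Lin : MvPowerSeries τ O := ∑ j, C (coeff (Finsupp.single j 1) G) * X j with hLin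
  set G₂ := G - Lin with hG₂
  have hLinsubst : Lin.subst H = ∑ j, coeff (Finsupp.single j 1) G • H j := by
    rw [hLin, ← substAlgHom_apply hHs, map_sum]
    apply Finset.sum_congr rfl
    intro j _
    rw [map_mul, substAlgHom_apply, substAlgHom_apply, subst_X hHs, subst_C, smul_eq_C_mul]
  have hord : (2 : ℕ∞) ≤ G₂.order := by
    have h2 : ((2 : ℕ) : ℕ∞) ≤ G₂.order := by
      apply nat_le_order
      intro m hm
      rw [hG₂, map_sub, hLin, map_sum]
      rcases hm' : m.degree with _ | _ | r
      · have : m = 0 := (Finsupp.degree_eq_zero_iff m).mp hm'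
        rw [this, coeff_zero_eq_constantCoeff_apply, hG0, zero_sub, neg_eq_zero]
        apply Finset.sum_eq_zero
        intro j _
        rw [coeff_zero_eq_constantCoeff_apply, map_mul, constantCoeff_X, mul_zero]
      · -- degree one: m = single j₀ 1
        have hne : m ≠ 0 := by
          intro h
          rw [h] at hm'
          simp at hm'
        obtain ⟨j₀, hj₀⟩ : ∃ j, m j ≠ 0 := by
          by_contra hcon
          push Not at hcon
          exact hne (Finsupp.ext hcon)
        have hle : Finsupp.single j₀ 1 ≤ m := by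
          intro j
          by_cases hj : j = j₀
          · subst hj
            simp only [Finsupp.single_eq_same]
            omega
          · rw [Finsupp.single_eq_of_ne hj]
            exact Nat.zero_le _
        have hsplit : m = Finsupp.single j₀ 1 + (m - Finsupp.single j₀ 1) :=
          (add_tsub_cancel_of_le hle).symm
        have hdeg : (m - Finsupp.single j₀ 1).degree = 0 := by
          have := congrArg Finsupp.degree hsplit
          rw [map_add, Finsupp.degree_single, hm'] at this
          omega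
        have hz : m - Finsupp.single j₀ 1 = 0 := (Finsupp.degree_eq_zero_iff _).mp hdeg
        rw [hz, add_zero] at hsplit
        rw [hsplit, sub_eq_zero, Finset.sum_eq_single j₀]
        · rw [coeff_C_mul, coeff_X, if_pos rfl, mul_one]
        · intro j _ hj
          rw [coeff_C_mul, coeff_X, if_neg, mul_zero]
          intro h
          exact hj (Finsupp.single_left_injective one_ne_zero h).symm
        · intro h
          exact absurd (Finset.mem_univ _) h
      · omega
    exact_mod_cast h2
  have hsplitG : G = Lin + G₂ := by rw [hG₂]; ring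
  have h3 : coeff (Finsupp.single i 1) (G₂.subst H) = 0 := by
    apply coeff_of_lt_order
    have h4 := le_order_subst hHs G₂
    have h5 : (1 : ℕ∞) ≤ ⨅ j, (H j).order :=
      le_iInf fun j => one_le_order_iff_constCoeff_eq_zero.mpr (hH0 j)
    have h6 : (2 : ℕ∞) ≤ (G₂.subst H).order := by
      refine le_trans ?_ h4
      calc (2 : ℕ∞) = 1 * 2 := by norm_num
        _ ≤ (⨅ j, (H j).order) * G₂.order := mul_le_mul' h5 hord
    refine lt_of_lt_of_le ?_ h6
    rw [Finsupp.degree_single]
    norm_num
  conv_lhs => rw [hsplitG, subst_add hHs, map_add, h3, add_zero, hLinsubst, map_sum]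
  apply Finset.sum_congr rfl
  intro j _
  rw [coeff_smul]

end Closure

section Translate

variable {O : Type*} [CommRing O] (π : O) (q : ℕ)

/-- the univariate series `f = π T + T^q` -/
noncomputable def fLT : PowerSeries O := π • PowerSeries.X + PowerSeries.X ^ q

lemma psubst_fLT {σ : Type*} (H : MvPowerSeries σ O) (hH : constantCoeff H = 0) :
    PowerSeries.subst H (fLT π q) = π • H + H ^ q := by
  have hs : PowerSeries.HasSubst H := PowerSeries.HasSubst.of_constantCoeff_zero hH
  rw [fLT, PowerSeries.subst_add hs, PowerSeries.subst_smul hs, PowerSeries.subst_pow hs,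
    PowerSeries.subst_X hs]

lemma psubst_X_fLT {σ : Type*} :
    (fun i : σ => PowerSeries.subst (X i : MvPowerSeries σ O) (fLT π q)) = fam π q σ := by
  funext i
  rw [psubst_fLT π q (X i) (constantCoeff_X i)]
  rfl

lemma fam_unit : fam π q Unit = fun _ => (fLT π q : MvPowerSeries Unit O) := by
  funext i
  rfl

lemma psubst_fLT_right (g : PowerSeries O) :
    PowerSeries.subst (fLT π q) g = Phi π q Unit g := by
  rw [Phi, fam_unit]
  rfl

/-- the commutation predicate -/
def Comm {σ : Type*} (H : MvPowerSeries σ O) : Prop := π • H + H ^ q = Phi π q σ H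

lemma comm_univ_iff (g : PowerSeries O) (hg0 : PowerSeries.constantCoeff g = 0) :
    PowerSeries.subst g (fLT π q) = PowerSeries.subst (fLT π q) g ↔ Comm π q (σ := Unit) g := by
  rw [psubst_fLT π q g hg0, psubst_fLT_right]
  rfl

lemma comm_two_iff {σ : Type*} (F : MvPowerSeries σ O) (hF0 : constantCoeff F = 0) :
    PowerSeries.subst F (fLT π q) =
      MvPowerSeries.subst (fun i : σ => PowerSeries.subst (X i : MvPowerSeries σ O) (fLT π q)) F
      ↔ Comm π q F := by
  rw [psubst_fLT π q F hF0, psubst_X_fLT]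
  rfl

lemma Comm_X {σ : Type*} [Finite σ] (hq : q ≠ 0) (i : σ) :
    Comm π q (X i : MvPowerSeries σ O) := Phi_X π q hq i

lemma Comm_subst {τ σ : Type*} [Finite τ] [Finite σ] (hq : q ≠ 0) (G : MvPowerSeries τ O)
    (hG : Comm π q G) (H : τ → MvPowerSeries σ O) (hH0 : ∀ j, constantCoeff (H j) = 0)
    (hH : ∀ j, Comm π q (H j)) : Comm π q (G.subst H) :=
  comm_subst π q hq G hG H hH0 hH

lemma constantCoeff_subst_zero {τ σ : Type*} [Finite τ] (G : MvPowerSeries τ O)
    (hG0 : constantCoeff G = 0) (H : τ → MvPowerSeries σ O)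
    (hH0 : ∀ j, constantCoeff (H j) = 0) : constantCoeff (G.subst H) = 0 :=
  constantCoeff_subst_eq_zero (hasSubst_of_constantCoeff_zero hH0) hH0 hG0

lemma lin_X {σ : Type*} [DecidableEq σ] (i j : σ) :
    coeff (Finsupp.single i 1) (X j : MvPowerSeries σ O) = if i = j then 1 else 0 := by
  rw [coeff_X]
  simp [Finsupp.single_left_inj]

lemma pair_const {σ : Type*} (a b : MvPowerSeries σ O) (ha : constantCoeff a = 0)
    (hb : constantCoeff b = 0) :
    ∀ j : Fin 2, constantCoeff ((![a, b] : Fin 2 → MvPowerSeries σ O) j) = 0 := by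
  intro j
  fin_cases j
  · exact ha
  · exact hb

lemma pair_comm {σ : Type*} (a b : MvPowerSeries σ O) (ha : Comm π q a) (hb : Comm π q b) :
    ∀ j : Fin 2, Comm π q ((![a, b] : Fin 2 → MvPowerSeries σ O) j) := by
  intro j
  fin_cases j
  · exact ha
  · exact hb

lemma lin_pair_subst {σ : Type*} [Finite σ] (F0 : MvPowerSeries (Fin 2) O)
    (hF00 : constantCoeff F0 = 0) (h0 : coeff (Finsupp.single 0 1) F0 = 1)
    (h1 : coeff (Finsupp.single 1 1) F0 = 1) (a b : MvPowerSeries σ O)
    (ha : constantCoeff a = 0) (hb : constantCoeff b = 0) (i : σ) :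
    coeff (Finsupp.single i 1) (F0.subst ![a, b]) =
      coeff (Finsupp.single i 1) a + coeff (Finsupp.single i 1) b := by
  rw [coeff_single_subst F0 hF00 _ (pair_const a b ha hb)]
  simp [Fin.sum_univ_two, h0, h1]

end Translate

section DVRmain

variable {O : Type*} [CommRing O] [IsDomain O] [IsDiscreteValuationRing O]
  [Finite (IsLocalRing.ResidueField O)] (π : O) (hπ : Irreducible π)

include hπ in
/-- uniqueness of commuting series over a DVR -/
theorem comm_unique {σ : Type*} [Finite σ] (H H' : MvPowerSeries σ O)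
    (h0 : constantCoeff H = 0) (h0' : constantCoeff H' = 0)
    (hlin : ∀ i, coeff (Finsupp.single i 1) H = coeff (Finsupp.single i 1) H')
    (hH : Comm π (Nat.card (IsLocalRing.ResidueField O)) H)
    (hH' : Comm π (Nat.card (IsLocalRing.ResidueField O)) H') : H = H' :=
  series_unique π _ (Npow _) two_le_card (nzd_of_irreducible π hπ) (isUnit_one_sub_pow π hπ)
    (Npow_local _ two_le_card) H H' h0 h0' hlin hH hH'

include hπ in
/-- existence of commuting series over a DVR -/
theorem comm_exists {σ : Type*} [Finite σ] (a : σ → O) :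
    ∃ H : MvPowerSeries σ O, constantCoeff H = 0 ∧ (∀ i, coeff (Finsupp.single i 1) H = a i) ∧
      Comm π (Nat.card (IsLocalRing.ResidueField O)) H := by
  have hq2 : 2 ≤ Nat.card (IsLocalRing.ResidueField O) := two_le_card
  exact ⟨_, exists_series π _ (Npow _) hq2 (isUnit_one_sub_pow π hπ)
    (Npow_zero _ (by omega)) (Npow_local _ hq2) (fun G n => frob_congr π hπ G n) a⟩

include hπ in
theorem S15050_main (f : PowerSeries O)
    (hf : f = π • PowerSeries.X + PowerSeries.X ^ Nat.card (IsLocalRing.ResidueField O)) (α : O) :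
    ∃! g : PowerSeries O, g.constantCoeff = 0 ∧ g.coeff 1 = α ∧
      PowerSeries.subst g f = PowerSeries.subst f g := by
  have hf' : f = fLT π (Nat.card (IsLocalRing.ResidueField O)) := hf
  subst hf'
  obtain ⟨g, hg0, hg1, hg2⟩ := comm_exists π hπ (fun _ : Unit => α)
  refine ⟨g, ⟨hg0, hg1 (), (comm_univ_iff π _ g hg0).mpr hg2⟩, ?_⟩
  rintro g' ⟨hg0', hg1', hg2'⟩
  refine comm_unique π hπ (σ := Unit) g' g hg0' hg0 ?_ ((comm_univ_iff π _ g' hg0').mp hg2') hg2
  intro i
  rw [hg1 i]
  exact hg1'

include hπ in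
theorem S15051_main (f : PowerSeries O)
    (hf : f = π • PowerSeries.X + PowerSeries.X ^ Nat.card (IsLocalRing.ResidueField O))
    (F : FormalGroup O)
    (hF : PowerSeries.subst F.toPowerSeries f =
        MvPowerSeries.subst (fun i : Fin 2 => PowerSeries.subst (MvPowerSeries.X i : MvPowerSeries (Fin 2) O) f) F.toPowerSeries)
    (g : PowerSeries O) (hg0 : g.constantCoeff = 0)
    (hgf : PowerSeries.subst g f = PowerSeries.subst f g) :
    PowerSeries.subst F.toPowerSeries g =
      MvPowerSeries.subst (fun i : Fin 2 => PowerSeries.subst (MvPowerSeries.X i : MvPowerSeries (Fin 2) O) g)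
        F.toPowerSeries := by
  have hf' : f = fLT π (Nat.card (IsLocalRing.ResidueField O)) := hf
  subst hf'
  have hq2 : 2 ≤ Nat.card (IsLocalRing.ResidueField O) := two_le_card
  have hq0 : Nat.card (IsLocalRing.ResidueField O) ≠ 0 := by omega
  have hFc := (comm_two_iff π _ F.toPowerSeries F.zero_constantCoeff).mp hF
  have hgc := (comm_univ_iff π _ g hg0).mp hgf
  have hg0' : constantCoeff (g : MvPowerSeries Unit O) = 0 := hg0
  have hgX0 : ∀ i : Fin 2, constantCoeff (MvPowerSeries.subst
      (fun _ : Unit => (X i : MvPowerSeries (Fin 2) O)) (g : MvPowerSeries Unit O)) = 0 :=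
    fun i => constantCoeff_subst_zero _ hg0' _ (fun _ => constantCoeff_X i)
  apply comm_unique π hπ (σ := Fin 2)
  · exact constantCoeff_subst_zero (g : MvPowerSeries Unit O) hg0' _
      (fun _ => F.zero_constantCoeff)
  · exact constantCoeff_subst_zero _ F.zero_constantCoeff _ hgX0
  · intro i
    have e1 : PowerSeries.subst F.toPowerSeries g
        = MvPowerSeries.subst (fun _ : Unit => F.toPowerSeries) (g : MvPowerSeries Unit O) := rfl
    have e2 : (fun i : Fin 2 => PowerSeries.subst (MvPowerSeries.X i : MvPowerSeries (Fin 2) O) g)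
        = fun i : Fin 2 => MvPowerSeries.subst
          (fun _ : Unit => (X i : MvPowerSeries (Fin 2) O)) (g : MvPowerSeries Unit O) := rfl
    rw [e1, e2, coeff_single_subst _ hg0' _ (fun _ => F.zero_constantCoeff),
      coeff_single_subst _ F.zero_constantCoeff _ hgX0]
    have e3 : ∀ j : Fin 2, coeff (Finsupp.single i 1) (MvPowerSeries.subst
      (fun _ : Unit => (X j : MvPowerSeries (Fin 2) O)) (g : MvPowerSeries Unit O))
        = coeff (Finsupp.single () 1) (g : MvPowerSeries Unit O) * if i = j then 1 else 0 := by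
      intro j
      rw [coeff_single_subst _ hg0' _ (fun _ => constantCoeff_X j)]
      simp [lin_X]
    simp only [e3, Fin.sum_univ_two, F.lin_coeff_X, F.lin_coeff_Y]
    fin_cases i <;> simp [F.lin_coeff_X, F.lin_coeff_Y]
  · exact Comm_subst π _ hq0 _ hgc _ (fun _ => F.zero_constantCoeff) (fun _ => hFc)
  · exact Comm_subst π _ hq0 _ hFc _ hgX0
      (fun i => Comm_subst π _ hq0 _ hgc _ (fun _ => constantCoeff_X i)
        (fun _ => Comm_X π _ hq0 i))


include hπ in
theorem S15060_main (f : PowerSeries O)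
    (hf : f = π • PowerSeries.X + PowerSeries.X ^ Nat.card (IsLocalRing.ResidueField O))
    (F : FormalGroup O)
    (hF : PowerSeries.subst F.toPowerSeries f =
        MvPowerSeries.subst (fun i : Fin 2 => PowerSeries.subst (MvPowerSeries.X i : MvPowerSeries (Fin 2) O) f)
          F.toPowerSeries)
    (α β : O) (gα gβ gαβ gs : PowerSeries O)
    (hα0 : gα.constantCoeff = 0) (hα1 : gα.coeff 1 = α) (hαf : PowerSeries.subst gα f = PowerSeries.subst f gα)
    (hβ0 : gβ.constantCoeff = 0) (hβ1 : gβ.coeff 1 = β) (hβf : PowerSeries.subst gβ f = PowerSeries.subst f gβ)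
    (hαβ0 : gαβ.constantCoeff = 0) (hαβ1 : gαβ.coeff 1 = α * β)
    (hαβf : PowerSeries.subst gαβ f = PowerSeries.subst f gαβ)
    (hs0 : gs.constantCoeff = 0) (hs1 : gs.coeff 1 = α + β) (hsf : PowerSeries.subst gs f = PowerSeries.subst f gs) :
    PowerSeries.subst gβ gα = gαβ ∧ F.toPowerSeries.subst ![gα, gβ] = gs := by
  have hf' : f = fLT π (Nat.card (IsLocalRing.ResidueField O)) := hf
  subst hf'
  have hq2 : 2 ≤ Nat.card (IsLocalRing.ResidueField O) := two_le_card
  have hq0 : Nat.card (IsLocalRing.ResidueField O) ≠ 0 := by omega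
  have hFc := (comm_two_iff π _ F.toPowerSeries F.zero_constantCoeff).mp hF
  have hαc := (comm_univ_iff π _ gα hα0).mp hαf
  have hβc := (comm_univ_iff π _ gβ hβ0).mp hβf
  have hαβc := (comm_univ_iff π _ gαβ hαβ0).mp hαβf
  have hsc := (comm_univ_iff π _ gs hs0).mp hsf
  have hα0' : constantCoeff (gα : MvPowerSeries Unit O) = 0 := hα0
  have hβ0' : constantCoeff (gβ : MvPowerSeries Unit O) = 0 := hβ0
  have hαβ0' : constantCoeff (gαβ : MvPowerSeries Unit O) = 0 := hαβ0
  have hs0' : constantCoeff (gs : MvPowerSeries Unit O) = 0 := hs0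
  have hα1' : coeff (Finsupp.single () 1) (gα : MvPowerSeries Unit O) = α := hα1
  have hβ1' : coeff (Finsupp.single () 1) (gβ : MvPowerSeries Unit O) = β := hβ1
  have hαβ1' : coeff (Finsupp.single () 1) (gαβ : MvPowerSeries Unit O) = α * β := hαβ1
  have hs1' : coeff (Finsupp.single () 1) (gs : MvPowerSeries Unit O) = α + β := hs1
  constructor
  · have e1 : PowerSeries.subst gβ gα
        = MvPowerSeries.subst (fun _ : Unit => (gβ : MvPowerSeries Unit O))
          (gα : MvPowerSeries Unit O) := rfl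
    rw [e1]
    apply comm_unique π hπ (σ := Unit)
    · exact constantCoeff_subst_zero _ hα0' _ (fun _ => hβ0')
    · exact hαβ0'
    · intro i
      rw [coeff_single_subst _ hα0' _ (fun _ => hβ0')]
      simp [hα1', hβ1', hαβ1']
    · exact Comm_subst π _ hq0 _ hαc _ (fun _ => hβ0') (fun _ => hβc)
    · exact hαβc
  · have hH0 : ∀ j : Fin 2, constantCoeff ((![gα, gβ] : Fin 2 → MvPowerSeries Unit O) j) = 0 := by
      intro j
      fin_cases j
      · exact hα0'
      · exact hβ0'
    have hHc : ∀ j : Fin 2, Comm π (Nat.card (IsLocalRing.ResidueField O))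
        ((![gα, gβ] : Fin 2 → MvPowerSeries Unit O) j) := by
      intro j
      fin_cases j
      · exact hαc
      · exact hβc
    apply comm_unique π hπ (σ := Unit)
    · exact constantCoeff_subst_zero _ F.zero_constantCoeff _ hH0
    · exact hs0'
    · intro i
      rw [coeff_single_subst _ F.zero_constantCoeff _ hH0]
      simp [Fin.sum_univ_two, F.lin_coeff_X, F.lin_coeff_Y, hα1', hβ1', hs1']
    · exact Comm_subst π _ hq0 _ hFc _ hH0 hHc
    · exact hsc


include hπ in
theorem S15049_main (f : PowerSeries O)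
    (hf : f = π • PowerSeries.X + PowerSeries.X ^ Nat.card (IsLocalRing.ResidueField O)) :
    ∃ F : FormalGroup O, F.IsComm ∧
      PowerSeries.subst F.toPowerSeries f =
        MvPowerSeries.subst (fun i : Fin 2 => PowerSeries.subst (MvPowerSeries.X i : MvPowerSeries (Fin 2) O) f) F.toPowerSeries ∧
      ∀ G : MvPowerSeries (Fin 2) O, G.constantCoeff = 0 → G.coeff (Finsupp.single 0 1) = 1 →
        G.coeff (Finsupp.single 1 1) = 1 →
        PowerSeries.subst G f =
        MvPowerSeries.subst (fun i : Fin 2 => PowerSeries.subst (MvPowerSeries.X i : MvPowerSeries (Fin 2) O) f) G →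
        G = F.toPowerSeries := by
  have hf' : f = fLT π (Nat.card (IsLocalRing.ResidueField O)) := hf
  subst hf'
  have hq2 : 2 ≤ Nat.card (IsLocalRing.ResidueField O) := two_le_card
  have hq0 : Nat.card (IsLocalRing.ResidueField O) ≠ 0 := by omega
  obtain ⟨F0, hF00, hF01, hF0c⟩ := comm_exists π hπ (fun _ : Fin 2 => (1 : O))
  have hX0 : ∀ {σ : Type} (i : σ), constantCoeff (X i : MvPowerSeries σ O) = 0 :=
    fun i => constantCoeff_X i
  have hassoc : F0.subst ![F0.subst ![(X 0 : MvPowerSeries (Fin 3) O), X 1], X 2]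
      = F0.subst ![(X 0 : MvPowerSeries (Fin 3) O), F0.subst ![X 1, X 2]] := by
    have hA0 : constantCoeff (F0.subst ![(X 0 : MvPowerSeries (Fin 3) O), X 1]) = 0 :=
      constantCoeff_subst_zero F0 hF00 _ (pair_const _ _ (hX0 _) (hX0 _))
    have hB0 : constantCoeff (F0.subst ![(X 1 : MvPowerSeries (Fin 3) O), X 2]) = 0 :=
      constantCoeff_subst_zero F0 hF00 _ (pair_const _ _ (hX0 _) (hX0 _))
    have hAc : Comm π (Nat.card (IsLocalRing.ResidueField O))
        (F0.subst ![(X 0 : MvPowerSeries (Fin 3) O), X 1]) :=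
      Comm_subst π _ hq0 F0 hF0c _ (pair_const _ _ (hX0 _) (hX0 _))
        (pair_comm π _ _ _ (Comm_X π _ hq0 _) (Comm_X π _ hq0 _))
    have hBc : Comm π (Nat.card (IsLocalRing.ResidueField O))
        (F0.subst ![(X 1 : MvPowerSeries (Fin 3) O), X 2]) :=
      Comm_subst π _ hq0 F0 hF0c _ (pair_const _ _ (hX0 _) (hX0 _))
        (pair_comm π _ _ _ (Comm_X π _ hq0 _) (Comm_X π _ hq0 _))
    apply comm_unique π hπ (σ := Fin 3)
    · exact constantCoeff_subst_zero F0 hF00 _ (pair_const _ _ hA0 (hX0 _))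
    · exact constantCoeff_subst_zero F0 hF00 _ (pair_const _ _ (hX0 _) hB0)
    · intro i
      rw [lin_pair_subst F0 hF00 (hF01 0) (hF01 1) _ _ hA0 (hX0 _),
        lin_pair_subst F0 hF00 (hF01 0) (hF01 1) _ _ (hX0 _) (hX0 _),
        lin_pair_subst F0 hF00 (hF01 0) (hF01 1) _ _ (hX0 _) hB0,
        lin_pair_subst F0 hF00 (hF01 0) (hF01 1) _ _ (hX0 _) (hX0 _)]
      simp only [lin_X]
      fin_cases i <;> simp
    · exact Comm_subst π _ hq0 F0 hF0c _ (pair_const _ _ hA0 (hX0 _))
        (pair_comm π _ _ _ hAc (Comm_X π _ hq0 _))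
    · exact Comm_subst π _ hq0 F0 hF0c _ (pair_const _ _ (hX0 _) hB0)
        (pair_comm π _ _ _ (Comm_X π _ hq0 _) hBc)
  refine ⟨⟨F0, hF00, hF01 0, hF01 1, hassoc⟩, ⟨?_⟩, ?_, ?_⟩
  · show F0 = F0.subst ![(X 1 : MvPowerSeries (Fin 2) O), X 0]
    apply comm_unique π hπ (σ := Fin 2)
    · exact hF00
    · exact constantCoeff_subst_zero F0 hF00 _ (pair_const _ _ (hX0 _) (hX0 _))
    · intro i
      rw [lin_pair_subst F0 hF00 (hF01 0) (hF01 1) _ _ (hX0 _) (hX0 _), hF01 i]
      simp only [lin_X]
      fin_cases i <;> simp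
    · exact hF0c
    · exact Comm_subst π _ hq0 F0 hF0c _ (pair_const _ _ (hX0 _) (hX0 _))
        (pair_comm π _ _ _ (Comm_X π _ hq0 _) (Comm_X π _ hq0 _))
  · exact (comm_two_iff π _ F0 hF00).mpr hF0c
  · intro G hG0 hG1 hG2 hGf
    apply comm_unique π hπ (σ := Fin 2) G F0 hG0 hF00
    · intro i
      fin_cases i
      · exact hG1.trans (hF01 0).symm
      · exact hG2.trans (hF01 1).symm
    · exact (comm_two_iff π _ G hG0).mp hGf
    · exact hF0c

end DVRmain

section LinearClosure

variable {O : Type*} [CommRing O] (π : O) (q : ℕ)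

/-- the `π`-linearity predicate `ℓ(f) = π ℓ` -/
def Lin {σ : Type*} (L : MvPowerSeries σ O) : Prop := π • L = Phi π q σ L

lemma Lin_iff {σ : Type*} (L : MvPowerSeries σ O) :
    Lin π q L ↔ π • L + Nzero L = Phi π q σ L := by
  rw [Lin, Nzero, add_zero]

lemma Lin_subst {τ σ : Type*} [Finite τ] [Finite σ] (hq : q ≠ 0) (L : MvPowerSeries τ O)
    (hL : Lin π q L) (H : τ → MvPowerSeries σ O) (hH0 : ∀ j, constantCoeff (H j) = 0)
    (hH : ∀ j, Comm π q (H j)) : Lin π q (L.subst H) := by
  have hHs : HasSubst H := hasSubst_of_constantCoeff_zero hH0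
  calc π • L.subst H = (π • L).subst H := by rw [subst_smul hHs]
    _ = (Phi π q τ L).subst H := by rw [hL]
    _ = L.subst (fun j => (fam π q τ j).subst H) :=
        subst_comp_subst_apply (hasSubst_fam π q hq) hHs L
    _ = L.subst (fun j => (H j).subst (fam π q σ)) := by
        congr 1
        funext j
        rw [fam_subst π q H hH0 j, hH j]
        rfl
    _ = Phi π q σ (L.subst H) := (subst_comp_subst_apply hHs (hasSubst_fam π q hq) L).symm

lemma Lin_add {σ : Type*} [Finite σ] (hq : q ≠ 0) (L L' : MvPowerSeries σ O)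
    (hL : Lin π q L) (hL' : Lin π q L') : Lin π q (L + L') := by
  rw [Lin, Phi_add π q hq, ← hL, ← hL', smul_add]

lemma Lin_smul {σ : Type*} [Finite σ] (hq : q ≠ 0) (c : O) (L : MvPowerSeries σ O)
    (hL : Lin π q L) : Lin π q (c • L) := by
  rw [Lin, Phi, subst_smul (hasSubst_fam π q hq), ← Phi, ← hL, smul_comm]

lemma map_fam {K : Type*} [CommRing K] (φ : O →+* K) {σ : Type*} (i : σ) :
    (fam π q σ i).map φ = fam (φ π) q σ i := by
  simp only [fam, map_add, map_pow, map_X, smul_eq_C_mul, map_mul, map_C]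

lemma map_Phi {K : Type*} [CommRing K] (φ : O →+* K) {σ : Type*} [Finite σ] (hq : q ≠ 0)
    (H : MvPowerSeries σ O) : (Phi π q σ H).map φ = Phi (φ π) q σ (H.map φ) := by
  rw [Phi, map_subst (hasSubst_fam π q hq), Phi]
  congr 1
  funext i
  exact map_fam π q φ i

lemma Comm_map {K : Type*} [CommRing K] (φ : O →+* K) {σ : Type*} [Finite σ] (hq : q ≠ 0)
    (H : MvPowerSeries σ O) (hH : Comm π q H) : Comm (φ π) q (H.map φ) := by
  have := congrArg (MvPowerSeries.map φ) hH
  rw [map_Phi π q φ hq, map_add, map_pow, smul_eq_C_mul, map_mul, map_C, ← smul_eq_C_mul] at this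
  exact this

lemma map_fLT {K : Type*} [CommRing K] (φ : O →+* K) :
    PowerSeries.map φ (fLT π q) = fLT (φ π) q := by
  simp only [fLT, map_add, map_pow, PowerSeries.map_X]
  congr 1
  ext n
  rw [PowerSeries.coeff_map, PowerSeries.coeff_smul, PowerSeries.coeff_smul, smul_eq_mul,
    smul_eq_mul, map_mul, ← PowerSeries.coeff_map, PowerSeries.map_X]

end LinearClosure


section FieldLog

variable {K : Type*} [Field K] (π : K) (q : ℕ)

theorem lin_unique {σ : Type*} [Finite σ] (hq : 2 ≤ q) (hπ0 : π ≠ 0)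
    (hπ1 : ∀ r, 1 ≤ r → π ^ r ≠ 1)
    (L L' : MvPowerSeries σ K) (h0 : constantCoeff L = 0) (h0' : constantCoeff L' = 0)
    (hlin : ∀ i, coeff (Finsupp.single i 1) L = coeff (Finsupp.single i 1) L')
    (hL : Lin π q L) (hL' : Lin π q L') : L = L' := by
  refine series_unique π q Nzero hq ?_ ?_ Nzero_local L L' h0 h0' hlin
    ((Lin_iff π q L).mp hL) ((Lin_iff π q L').mp hL')
  · intro x hx
    rcases mul_eq_zero.mp hx with h | h
    · exact absurd h hπ0
    · exact h
  · intro r hr
    rw [isUnit_iff_ne_zero, sub_ne_zero]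
    exact (hπ1 r hr).symm

theorem lin_exists {σ : Type*} [Finite σ] (hq : 2 ≤ q) (hπ0 : π ≠ 0)
    (hπ1 : ∀ r, 1 ≤ r → π ^ r ≠ 1) (a : σ → K) :
    ∃ L : MvPowerSeries σ K, constantCoeff L = 0 ∧
      (∀ i, coeff (Finsupp.single i 1) L = a i) ∧ Lin π q L := by
  have hu : ∀ r, 1 ≤ r → IsUnit (1 - π ^ r) := by
    intro r hr
    rw [isUnit_iff_ne_zero, sub_ne_zero]
    exact (hπ1 r hr).symm
  have hfr : ∀ (G : MvPowerSeries σ K) (n : σ →₀ ℕ),
      coeff n (Phi π q σ G - Nzero G) ∈ Ideal.span {π} := by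
    intro G n
    rw [Ideal.span_singleton_eq_top.mpr (isUnit_iff_ne_zero.mpr hπ0)]
    exact Submodule.mem_top
  obtain ⟨h0, h1, h2⟩ := exists_series π q Nzero hq (σ := σ) hu rfl Nzero_local hfr a
  exact ⟨_, h0, h1, (Lin_iff π q _).mpr h2⟩

end FieldLog

section S15052

variable {O : Type*} [CommRing O] [IsDomain O] [IsDiscreteValuationRing O]
  [Finite (IsLocalRing.ResidueField O)] (K : Type*) [Field K] [Algebra O K] [IsFractionRing O K]
  (π : O) (hπ : Irreducible π)

include hπ in
theorem S15052_main (f : PowerSeries O)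
    (hf : f = π • PowerSeries.X + PowerSeries.X ^ Nat.card (IsLocalRing.ResidueField O))
    (F : FormalGroup O)
    (hF : PowerSeries.subst F.toPowerSeries f =
        MvPowerSeries.subst (fun i : Fin 2 => PowerSeries.subst (MvPowerSeries.X i : MvPowerSeries (Fin 2) O) f) F.toPowerSeries) :
    ∃ ℓ : PowerSeries K, (ℓ.constantCoeff = 0 ∧ ℓ.coeff 1 = 1 ∧
      PowerSeries.subst (PowerSeries.map (algebraMap O K) f) ℓ = algebraMap O K π • ℓ) ∧
      (∀ ℓ' : PowerSeries K, ℓ'.constantCoeff = 0 → ℓ'.coeff 1 = 1 →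
        PowerSeries.subst (PowerSeries.map (algebraMap O K) f) ℓ' = algebraMap O K π • ℓ' → ℓ' = ℓ) ∧
      PowerSeries.subst ((F.toPowerSeries).map (algebraMap O K)) ℓ =
        PowerSeries.subst (MvPowerSeries.X (0 : Fin 2) : MvPowerSeries (Fin 2) K) ℓ +
          PowerSeries.subst (MvPowerSeries.X (1 : Fin 2) : MvPowerSeries (Fin 2) K) ℓ ∧
      (∀ (α : O) (g : PowerSeries O), g.constantCoeff = 0 → g.coeff 1 = α →
        PowerSeries.subst g f = PowerSeries.subst f g →
        PowerSeries.subst (PowerSeries.map (algebraMap O K) g) ℓ = algebraMap O K α • ℓ) := by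
  have hf' : f = fLT π (Nat.card (IsLocalRing.ResidueField O)) := hf
  subst hf'
  set q := Nat.card (IsLocalRing.ResidueField O) with hqdef
  have hq2 : 2 ≤ q := two_le_card
  have hq0 : q ≠ 0 := by omega
  set φ : O →+* K := algebraMap O K with hφ
  have hinj : Function.Injective φ := IsFractionRing.injective O K
  have hπK0 : φ π ≠ 0 := by
    intro h
    exact hπ.ne_zero (hinj (h.trans (map_zero φ).symm))
  have hπK1 : ∀ r, 1 ≤ r → φ π ^ r ≠ 1 := by
    intro r hr h
    have h1 : π ^ r = 1 := hinj (by rw [map_pow, h, map_one])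
    have h2 : IsUnit (π ^ r) := h1 ▸ isUnit_one
    exact hπ.not_isUnit ((isUnit_pow_iff (by omega)).mp h2)
  have hfK : PowerSeries.map φ (fLT π q) = fLT (φ π) q := map_fLT π q φ
  have hFc := (comm_two_iff π _ F.toPowerSeries F.zero_constantCoeff).mp hF
  have hFKc : Comm (φ π) q (F.toPowerSeries.map φ) := Comm_map π q φ hq0 _ hFc
  have hFK0 : constantCoeff (F.toPowerSeries.map φ) = 0 := by
    rw [← coeff_zero_eq_constantCoeff_apply, coeff_map, coeff_zero_eq_constantCoeff_apply,
      F.zero_constantCoeff, map_zero]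
  have hFK1 : ∀ i : Fin 2, coeff (Finsupp.single i 1) (F.toPowerSeries.map φ) = 1 := by
    intro i
    rw [coeff_map]
    fin_cases i
    · exact (congrArg φ F.lin_coeff_X).trans (map_one φ)
    · exact (congrArg φ F.lin_coeff_Y).trans (map_one φ)
  obtain ⟨ℓ, hℓ0, hℓ1, hℓc⟩ := lin_exists (φ π) q hq2 hπK0 hπK1 (fun _ : Unit => (1 : K))
  have key : ∀ L : PowerSeries K, PowerSeries.subst (PowerSeries.map φ (fLT π q)) L = φ π • L ↔
      Lin (φ π) q (σ := Unit) L := by
    intro L
    rw [hfK, psubst_fLT_right, Lin]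
    exact eq_comm
  have hX0 : ∀ i : Fin 2, constantCoeff (X i : MvPowerSeries (Fin 2) K) = 0 :=
    fun i => constantCoeff_X i
  refine ⟨ℓ, ⟨hℓ0, hℓ1 (), (key ℓ).mpr hℓc⟩, ?_, ?_, ?_⟩
  · intro ℓ' h0' h1' hc'
    refine lin_unique (φ π) q hq2 hπK0 hπK1 (σ := Unit) ℓ' ℓ h0' hℓ0 ?_ ((key ℓ').mp hc') hℓc
    intro i
    rw [hℓ1 i]
    exact h1'
  · have e1 : PowerSeries.subst (F.toPowerSeries.map φ) ℓ
        = MvPowerSeries.subst (fun _ : Unit => F.toPowerSeries.map φ)
          (ℓ : MvPowerSeries Unit K) := rfl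
    have e2 : ∀ i : Fin 2, PowerSeries.subst (X i : MvPowerSeries (Fin 2) K) ℓ
        = MvPowerSeries.subst (fun _ : Unit => (X i : MvPowerSeries (Fin 2) K))
          (ℓ : MvPowerSeries Unit K) := fun i => rfl
    rw [e1, e2 0, e2 1]
    apply lin_unique (φ π) q hq2 hπK0 hπK1 (σ := Fin 2)
    · exact constantCoeff_subst_zero _ hℓ0 _ (fun _ => hFK0)
    · rw [map_add, constantCoeff_subst_zero _ hℓ0 _ (fun _ => hX0 0),
        constantCoeff_subst_zero _ hℓ0 _ (fun _ => hX0 1), add_zero]
    · intro i
      rw [map_add, coeff_single_subst _ hℓ0 _ (fun _ => hFK0),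
        coeff_single_subst _ hℓ0 _ (fun _ => hX0 0), coeff_single_subst _ hℓ0 _ (fun _ => hX0 1)]
      simp only [Finset.univ_unique, Finset.sum_singleton, hℓ1, hFK1, lin_X, one_mul]
      fin_cases i <;> simp
    · exact Lin_subst (φ π) q hq0 _ hℓc _ (fun _ => hFK0) (fun _ => hFKc)
    · exact Lin_add (φ π) q hq0 _ _
        (Lin_subst (φ π) q hq0 _ hℓc _ (fun _ => hX0 0) (fun _ => Comm_X (φ π) q hq0 0))
        (Lin_subst (φ π) q hq0 _ hℓc _ (fun _ => hX0 1) (fun _ => Comm_X (φ π) q hq0 1))
  · intro α g hg0 hg1 hgf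
    have hgc := (comm_univ_iff π _ g hg0).mp hgf
    have hgKc : Comm (φ π) q (σ := Unit) (MvPowerSeries.map φ (g : MvPowerSeries Unit O)) :=
      Comm_map π q φ hq0 _ hgc
    have hgK0 : constantCoeff (MvPowerSeries.map φ (g : MvPowerSeries Unit O)) = 0 := by
      rw [← coeff_zero_eq_constantCoeff_apply, coeff_map, coeff_zero_eq_constantCoeff_apply]
      exact (congrArg φ hg0).trans (map_zero φ)
    have hgK1 : coeff (Finsupp.single () 1) (MvPowerSeries.map φ (g : MvPowerSeries Unit O))
        = φ α := by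
      rw [coeff_map]
      exact congrArg φ hg1
    have e1 : PowerSeries.subst (PowerSeries.map φ g) ℓ
        = MvPowerSeries.subst (fun _ : Unit => MvPowerSeries.map φ (g : MvPowerSeries Unit O))
          (ℓ : MvPowerSeries Unit K) := rfl
    rw [e1]
    apply lin_unique (φ π) q hq2 hπK0 hπK1 (σ := Unit)
    · exact constantCoeff_subst_zero _ hℓ0 _ (fun _ => hgK0)
    · show constantCoeff (φ α • (ℓ : MvPowerSeries Unit K)) = 0
      rw [smul_eq_C_mul, map_mul, hℓ0, mul_zero]
    · intro i
      rw [coeff_single_subst _ hℓ0 _ (fun _ => hgK0)]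
      show _ = coeff (Finsupp.single i 1) (φ α • (ℓ : MvPowerSeries Unit K))
      rw [coeff_smul]
      simp only [Finset.univ_unique, Finset.sum_singleton, hℓ1, hgK1, one_mul, mul_one]
    · exact Lin_subst (φ π) q hq0 _ hℓc _ (fun _ => hgK0) (fun _ => hgKc)
    · exact Lin_smul (φ π) q hq0 (φ α) _ hℓc

end S15052

end Groth.Agent.Lib.Helper26.LubinTate
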