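import Mathlib
import Groth.Agent.Lib.Helper26.LubinTate

set_option linter.unusedSectionVars false
set_option linter.style.haveILetI false
set_option linter.unusedVariables false

open MvPowerSeries

namespace Groth.Agent.Lib.Helper26.FGInverse

variable {R : Type*} [CommRing R]

open PowerSeries in
lemma dvd_key (g g' : PowerSeries R) (h0 : PowerSeries.constantCoeff g = 0)
    (h0' : PowerSeries.constantCoeff g' = 0) (s : ℕ)
    (h : (PowerSeries.X : PowerSeries R) ^ s ∣ g - g') (i j : ℕ) (hij : ¬ (i = 0 ∧ j = 1)) :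
    (PowerSeries.X : PowerSeries R) ^ (s + 1) ∣
      PowerSeries.X ^ i * g ^ j - PowerSeries.X ^ i * g' ^ j := by
  have e1 : PowerSeries.X ^ i * g ^ j - PowerSeries.X ^ i * g' ^ j
      = PowerSeries.X ^ i * ((∑ k ∈ Finset.range j, g ^ k * g' ^ (j - 1 - k)) * (g - g')) := by
    rw [(Commute.all g g').geom_sum₂_mul j]
    ring
  rw [e1]
  rcases Nat.lt_or_ge j 2 with hj | hj
  · interval_cases j
    · simp
    · have hi : 1 ≤ i := by
        by_contra hcon
        exact hij ⟨by omega, rfl⟩
      obtain ⟨i', rfl⟩ : ∃ i', i = i' + 1 := ⟨i - 1, by omega⟩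
      obtain ⟨c, hc⟩ := h
      simp only [Finset.range_one, Finset.sum_singleton, pow_zero, one_mul]
      rw [hc]
      exact ⟨PowerSeries.X ^ i' * c, by ring⟩
  · have hS : (PowerSeries.X : PowerSeries R) ∣ ∑ k ∈ Finset.range j, g ^ k * g' ^ (j - 1 - k) := by
      rw [PowerSeries.X_dvd_iff, map_sum]
      apply Finset.sum_eq_zero
      intro k hk
      rw [map_mul, map_pow, map_pow, h0, h0']
      rcases Nat.eq_zero_or_pos k with rfl | hk0
      · have : j - 1 - 0 ≠ 0 := by omega
        rw [zero_pow this, mul_zero]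
      · rw [zero_pow (by omega), zero_mul]
    obtain ⟨c, hc⟩ := h
    obtain ⟨c', hc'⟩ := hS
    rw [hc, hc']
    exact ⟨PowerSeries.X ^ i * c' * c, by ring⟩

/-- coefficients of `P'(X, g)` in degrees `≤ s` only depend on `g` below degree `s` -/
lemma contraction (P' : MvPowerSeries (Fin 2) R) (hP0 : constantCoeff P' = 0)
    (hP1 : coeff (Finsupp.single 1 1) P' = 0)
    (g g' : PowerSeries R) (h0 : PowerSeries.constantCoeff g = 0)
    (h0' : PowerSeries.constantCoeff g' = 0) (s : ℕ)
    (h : (PowerSeries.X : PowerSeries R) ^ s ∣ g - g') :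
    (PowerSeries.X : PowerSeries R) ^ (s + 1) ∣
      (P'.subst ![PowerSeries.X, g] : PowerSeries R) - P'.subst ![PowerSeries.X, g'] := by
  classical
  have hs : ∀ k : PowerSeries R, PowerSeries.constantCoeff k = 0 →
      HasSubst (![PowerSeries.X, k] : Fin 2 → MvPowerSeries Unit R) := by
    intro k hk
    apply hasSubst_of_constantCoeff_zero
    intro j
    fin_cases j
    · exact PowerSeries.constantCoeff_X
    · exact hk
  have hprod : ∀ (k : PowerSeries R) (d : Fin 2 →₀ ℕ),
      (d.prod fun s e => ((![PowerSeries.X, k] : Fin 2 → MvPowerSeries Unit R) s) ^ e)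
        = (PowerSeries.X ^ (d 0) * k ^ (d 1) : PowerSeries R) := by
    intro k d
    rw [Finsupp.prod_fintype _ _ (fun i => pow_zero _), Fin.prod_univ_two]
    rfl
  rw [PowerSeries.X_pow_dvd_iff]
  intro m hm
  rw [map_sub, sub_eq_zero]
  show MvPowerSeries.coeff (Finsupp.single () m) _ = MvPowerSeries.coeff (Finsupp.single () m) _
  rw [coeff_subst (hs g h0), coeff_subst (hs g' h0')]
  apply finsum_congr
  intro d
  rw [hprod, hprod]
  by_cases hd : d 0 = 0 ∧ d 1 = 1
  · have : d = Finsupp.single 1 1 := by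
      ext i
      fin_cases i
      · simpa using hd.1
      · simpa using hd.2
    rw [this, hP1, zero_smul, zero_smul]
  · have hk := dvd_key g g' h0 h0' s h (d 0) (d 1) hd
    rw [PowerSeries.X_pow_dvd_iff] at hk
    have := hk m hm
    rw [map_sub, sub_eq_zero] at this
    congr 1


lemma hasSubst_pair (a b : PowerSeries R) (ha : PowerSeries.constantCoeff a = 0)
    (hb : PowerSeries.constantCoeff b = 0) :
    HasSubst (![a, b] : Fin 2 → MvPowerSeries Unit R) := by
  apply hasSubst_of_constantCoeff_zero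
  intro j
  fin_cases j
  · exact ha
  · exact hb

/-- `Ψ(g) = -P'(X, g)` -/
noncomputable def Psi (P' : MvPowerSeries (Fin 2) R) (g : PowerSeries R) : PowerSeries R :=
  -(P'.subst ![PowerSeries.X, g])

lemma Psi_const (P' : MvPowerSeries (Fin 2) R) (hP0 : constantCoeff P' = 0) (g : PowerSeries R)
    (hg0 : PowerSeries.constantCoeff g = 0) : PowerSeries.constantCoeff (Psi P' g) = 0 := by
  rw [Psi, map_neg, neg_eq_zero]
  refine constantCoeff_subst_eq_zero (hasSubst_pair _ _ PowerSeries.constantCoeff_X hg0) ?_ hP0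
  intro j
  fin_cases j
  · exact PowerSeries.constantCoeff_X
  · exact hg0

lemma Psi_contr (P' : MvPowerSeries (Fin 2) R) (hP0 : constantCoeff P' = 0)
    (hP1 : coeff (Finsupp.single 1 1) P' = 0)
    (g g' : PowerSeries R) (h0 : PowerSeries.constantCoeff g = 0)
    (h0' : PowerSeries.constantCoeff g' = 0) (s : ℕ)
    (h : (PowerSeries.X : PowerSeries R) ^ s ∣ g - g') :
    (PowerSeries.X : PowerSeries R) ^ (s + 1) ∣ Psi P' g - Psi P' g' := by
  have := contraction P' hP0 hP1 g g' h0 h0' s h
  have e : Psi P' g - Psi P' g'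
      = -((P'.subst ![PowerSeries.X, g] : PowerSeries R) - P'.subst ![PowerSeries.X, g']) := by
    rw [Psi, Psi]
    ring
  rw [e]
  exact (dvd_neg).mpr this

/-- the iterates of `Ψ` -/
noncomputable def iter (P' : MvPowerSeries (Fin 2) R) : ℕ → PowerSeries R
  | 0 => 0
  | (k + 1) => Psi P' (iter P' k)

lemma iter_const (P' : MvPowerSeries (Fin 2) R) (hP0 : constantCoeff P' = 0) (k : ℕ) :
    PowerSeries.constantCoeff (iter P' k) = 0 := by
  induction k with
  | zero => simp [iter]
  | succ k ih => exact Psi_const P' hP0 _ ih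

lemma iter_agree_succ (P' : MvPowerSeries (Fin 2) R) (hP0 : constantCoeff P' = 0)
    (hP1 : coeff (Finsupp.single 1 1) P' = 0) (k : ℕ) :
    (PowerSeries.X : PowerSeries R) ^ k ∣ iter P' k - iter P' (k + 1) := by
  induction k with
  | zero => simp
  | succ k ih =>
    exact Psi_contr P' hP0 hP1 _ _ (iter_const P' hP0 k) (iter_const P' hP0 (k + 1)) k ih

lemma iter_agree (P' : MvPowerSeries (Fin 2) R) (hP0 : constantCoeff P' = 0)
    (hP1 : coeff (Finsupp.single 1 1) P' = 0) (k l : ℕ) (hkl : k ≤ l) :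
    (PowerSeries.X : PowerSeries R) ^ k ∣ iter P' k - iter P' l := by
  induction l, hkl using Nat.le_induction with
  | base => simp
  | succ l hkl ih =>
    have h1 := iter_agree_succ P' hP0 hP1 l
    have h2 : (PowerSeries.X : PowerSeries R) ^ k ∣ iter P' l - iter P' (l + 1) :=
      dvd_trans (pow_dvd_pow _ hkl) h1
    have e : iter P' k - iter P' (l + 1)
        = (iter P' k - iter P' l) + (iter P' l - iter P' (l + 1)) := by ring
    rw [e]
    exact dvd_add ih h2

/-- the limit -/
noncomputable def lim (P' : MvPowerSeries (Fin 2) R) : PowerSeries R :=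
  PowerSeries.mk fun n => PowerSeries.coeff n (iter P' (n + 1))

lemma lim_agree (P' : MvPowerSeries (Fin 2) R) (hP0 : constantCoeff P' = 0)
    (hP1 : coeff (Finsupp.single 1 1) P' = 0) (k : ℕ) :
    (PowerSeries.X : PowerSeries R) ^ k ∣ lim P' - iter P' k := by
  rw [PowerSeries.X_pow_dvd_iff]
  intro m hm
  have h1 := iter_agree P' hP0 hP1 (m + 1) k (by omega)
  rw [PowerSeries.X_pow_dvd_iff] at h1
  have h2 := h1 m (by omega)
  rw [map_sub, sub_eq_zero] at h2
  rw [map_sub, sub_eq_zero, lim, PowerSeries.coeff_mk, h2]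

lemma lim_const (P' : MvPowerSeries (Fin 2) R) (hP0 : constantCoeff P' = 0) :
    PowerSeries.constantCoeff (lim P') = 0 := by
  rw [← PowerSeries.coeff_zero_eq_constantCoeff_apply, lim, PowerSeries.coeff_mk,
    PowerSeries.coeff_zero_eq_constantCoeff_apply]
  exact iter_const P' hP0 1

lemma Psi_lim (P' : MvPowerSeries (Fin 2) R) (hP0 : constantCoeff P' = 0)
    (hP1 : coeff (Finsupp.single 1 1) P' = 0) : Psi P' (lim P') = lim P' := by
  ext m
  have h1 := Psi_contr P' hP0 hP1 _ _ (lim_const P' hP0) (iter_const P' hP0 m) m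
    (lim_agree P' hP0 hP1 m)
  have h2 := lim_agree P' hP0 hP1 (m + 1)
  have h3 : (PowerSeries.X : PowerSeries R) ^ (m + 1) ∣ Psi P' (lim P') - lim P' := by
    have e : Psi P' (lim P') - lim P'
        = (Psi P' (lim P') - Psi P' (iter P' m)) - (lim P' - iter P' (m + 1)) := by
      rw [iter]
      ring
    rw [e]
    exact dvd_sub h1 h2
  rw [PowerSeries.X_pow_dvd_iff] at h3
  have h4 := h3 m (by omega)
  rw [map_sub, sub_eq_zero] at h4
  exact h4

theorem implicit_exists (P : MvPowerSeries (Fin 2) R) (hP0 : constantCoeff P = 0)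
    (hP1 : coeff (Finsupp.single 1 1) P = 1) :
    ∃ g : PowerSeries R, PowerSeries.constantCoeff g = 0 ∧
      P.subst ![PowerSeries.X, g] = (0 : PowerSeries R) := by
  classical
  set P' := P - X 1 with hP'
  have hP'0 : constantCoeff P' = 0 := by
    rw [hP', map_sub, hP0, constantCoeff_X, sub_zero]
  have hP'1 : coeff (Finsupp.single 1 1) P' = 0 := by
    rw [hP', map_sub, hP1, coeff_X, if_pos rfl, sub_self]
  refine ⟨lim P', lim_const P' hP'0, ?_⟩
  have hs := hasSubst_pair (PowerSeries.X : PowerSeries R) (lim P') PowerSeries.constantCoeff_X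
    (lim_const P' hP'0)
  have e : P = P' + X 1 := by rw [hP']; ring
  have h1 := Psi_lim P' hP'0 hP'1
  rw [Psi] at h1
  have h2 := neg_eq_iff_eq_neg.mp h1
  rw [e, subst_add hs, subst_X hs, h2]
  simp only [Matrix.cons_val_one, Matrix.cons_val_zero]
  exact neg_add_cancel _


theorem main (F : FormalGroup R) :
    ∃ g : PowerSeries R, g.constantCoeff = 0 ∧
      F.toPowerSeries.subst ![PowerSeries.X, g] = (0 : PowerSeries R) ∧
      F.toPowerSeries.subst ![g, PowerSeries.X] = (0 : PowerSeries R) ∧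
      ∀ k : PowerSeries R, k.constantCoeff = 0 →
        (F.toPowerSeries.subst ![PowerSeries.X, k] = (0 : PowerSeries R) ∨
          F.toPowerSeries.subst ![k, PowerSeries.X] = (0 : PowerSeries R)) → k = g := by
  classical
  obtain ⟨g, hg0, hg⟩ := implicit_exists F.toPowerSeries F.zero_constantCoeff F.lin_coeff_Y
  -- the left inverse
  have hX0 : ∀ i : Fin 2, constantCoeff (X i : MvPowerSeries (Fin 2) R) = 0 :=
    fun i => constantCoeff_X i
  have hsw : HasSubst (![X 1, X 0] : Fin 2 → MvPowerSeries (Fin 2) R) :=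
    hasSubst_of_constantCoeff_zero (LubinTate.pair_const _ _ (hX0 1) (hX0 0))
  set P : MvPowerSeries (Fin 2) R := F.toPowerSeries.subst ![X 1, X 0] with hP
  have hP0 : constantCoeff P = 0 :=
    LubinTate.constantCoeff_subst_zero _ F.zero_constantCoeff _
      (LubinTate.pair_const _ _ (hX0 1) (hX0 0))
  have hP1 : coeff (Finsupp.single 1 1) P = 1 := by
    rw [hP, LubinTate.lin_pair_subst _ F.zero_constantCoeff F.lin_coeff_X F.lin_coeff_Y _ _
      (hX0 1) (hX0 0)]
    simp [LubinTate.lin_X]
  obtain ⟨h, hh0, hh⟩ := implicit_exists P hP0 hP1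
  have hh' : F.toPowerSeries.subst ![h, PowerSeries.X] = (0 : PowerSeries R) := by
    have hs := hasSubst_pair (PowerSeries.X : PowerSeries R) h PowerSeries.constantCoeff_X hh0
    rw [hP, subst_comp_subst_apply hsw hs] at hh
    rw [← hh]
    congr 1
    funext j
    fin_cases j
    · simp [subst_X hs]
    · simp [subst_X hs]
  -- the monoid of points
  have hsX : PowerSeries.HasSubst (PowerSeries.X : PowerSeries R) := PowerSeries.HasSubst.X'
  have hsub : ∀ k : PowerSeries R, k.constantCoeff = 0 → PowerSeries.HasSubst k :=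
    fun k hk => PowerSeries.HasSubst.of_constantCoeff_zero' hk
  let x : F.Point Unit := ⟨PowerSeries.X, hsX⟩
  let gg : F.Point Unit := ⟨g, hsub g hg0⟩
  let hhp : F.Point Unit := ⟨h, hsub h hh0⟩
  have e1 : x + gg = 0 := Subtype.ext hg
  have e2 : hhp + x = 0 := Subtype.ext hh'
  have e3 : hhp = gg := left_neg_eq_right_neg e2 e1
  have e4 : h = g := congrArg Subtype.val e3
  refine ⟨g, hg0, hg, e4 ▸ hh', ?_⟩
  intro k hk0 hk
  let kk : F.Point Unit := ⟨k, hsub k hk0⟩
  rcases hk with hk | hk
  · have e5 : x + kk = 0 := Subtype.ext hk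
    have e6 : hhp = kk := left_neg_eq_right_neg e2 e5
    exact (congrArg Subtype.val e6).symm.trans e4
  · have e5 : kk + x = 0 := Subtype.ext hk
    have e6 : kk = gg := left_neg_eq_right_neg e5 e1
    exact congrArg Subtype.val e6

end Groth.Agent.Lib.Helper26.FGInverse
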