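import Mathlib
set_option autoImplicit false
set_option linter.style.haveILetI false
universe u

namespace Groth.Agent.Lib.Helper26.FPDescent

open TensorProduct

section lift

variable {ι : Type u} [Preorder ι] [Nonempty ι] [IsDirectedOrder ι]
  (G : ι → Type u) [∀ i, CommRing (G i)] (f : ∀ i j, i ≤ j → G i →+* G j)
  [DirectedSystem G (fun i j h ↦ f i j h)]

/-- Finitely many elements of a direct limit of rings come from a common stage. -/
theorem exists_common_stage {α : Type*} [Finite α]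
    (t : α → Ring.DirectLimit G (fun i j h ↦ f i j h)) :
    ∃ (i : ι) (t' : α → G i), ∀ a, Ring.DirectLimit.of G (fun i j h ↦ f i j h) i (t' a) = t a := by
  classical
  induction α using Finite.induction_empty_option with
  | of_equiv e ih =>
    obtain ⟨i, t', ht'⟩ := ih (t ∘ e)
    exact ⟨i, t' ∘ e.symm, fun a => by simpa using ht' (e.symm a)⟩
  | h_empty => exact ⟨Classical.arbitrary ι, fun a => a.elim, fun a => a.elim⟩
  | h_option ih =>
    obtain ⟨i, t', ht'⟩ := ih (fun a => t (some a))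
    obtain ⟨j, x, hx⟩ := Ring.DirectLimit.exists_of (t none)
    obtain ⟨k, hik, hjk⟩ := exists_ge_ge i j
    refine ⟨k, fun a => a.elim (f j k hjk x) (fun a => f i k hik (t' a)), ?_⟩
    rintro (_ | a)
    · simp [hx]
    · simp [ht']

end lift

section bc

variable {R A : Type u} [CommRing R] [CommRing A] [Algebra R A] (n : ℕ) {σ : Type*}
  (r' : σ → (Fin n → R))

/-- Base change of a quotient of a finite free module by a span. -/
theorem baseChange_quotient_equiv :
    Nonempty (((Fin n → A) ⧸ Submodule.span A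
        (Set.range fun k => (fun l => algebraMap R A (r' k l)))) ≃ₗ[A]
      A ⊗[R] ((Fin n → R) ⧸ Submodule.span R (Set.range r'))) := by
  classical
  set K : Submodule A (Fin n → A) := Submodule.span A
    (Set.range fun k => (fun l => algebraMap R A (r' k l))) with hK
  set Ki : Submodule R (Fin n → R) := Submodule.span R (Set.range r') with hKi
  -- the map `R^n → A^n`
  let ofVec : (Fin n → R) →ₗ[R] (Fin n → A) := (Algebra.linearMap R A).compLeft (Fin n)
  have hofVec : ∀ v l, ofVec v l = algebraMap R A (v l) := fun v l => rfl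
  let φ0 : (Fin n → R) →ₗ[R] (Fin n → A) ⧸ K := (K.mkQ.restrictScalars R).comp ofVec
  have hφ0 : Ki ≤ LinearMap.ker φ0 := by
    rw [hKi, Submodule.span_le]
    rintro _ ⟨k, rfl⟩
    change K.mkQ (ofVec (r' k)) = 0
    rw [Submodule.mkQ_apply, Submodule.Quotient.mk_eq_zero]
    exact Submodule.subset_span ⟨k, rfl⟩
  let φ : ((Fin n → R) ⧸ Ki) →ₗ[R] (Fin n → A) ⧸ K := Ki.liftQ φ0 hφ0
  let Φ : A ⊗[R] ((Fin n → R) ⧸ Ki) →ₗ[A] (Fin n → A) ⧸ K := LinearMap.liftBaseChange A φ
  -- the inverse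
  let ψ : (Fin n → A) →ₗ[A] A ⊗[R] ((Fin n → R) ⧸ Ki) :=
    (Pi.basisFun A (Fin n)).constr A (fun l => (1 : A) ⊗ₜ[R] Ki.mkQ (Pi.single l 1))
  have hψ : ∀ v : Fin n → A, ψ v = ∑ l, v l ⊗ₜ[R] Ki.mkQ (Pi.single l 1) := by
    intro v
    simp only [ψ, Module.Basis.constr_apply_fintype, Pi.basisFun_equivFun, LinearEquiv.refl_apply,
      TensorProduct.smul_tmul', smul_eq_mul, mul_one]
  have hkey : ∀ v : Fin n → R, ψ (ofVec v) = (1 : A) ⊗ₜ[R] Ki.mkQ v := by
    intro v
    rw [hψ]
    have h1 : ∀ l, (ofVec v l) ⊗ₜ[R] Ki.mkQ (Pi.single l 1) =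
        (1 : A) ⊗ₜ[R] Ki.mkQ (v l • Pi.single l 1) := by
      intro l
      rw [map_smul, TensorProduct.tmul_smul, TensorProduct.smul_tmul', Algebra.smul_def, mul_one,
        hofVec]
    simp_rw [h1]
    rw [← TensorProduct.tmul_sum, ← map_sum]
    have h2 : ∑ l, v l • (Pi.single l 1 : Fin n → R) = v := by
      funext j
      simp [Finset.sum_apply, Pi.single_apply]
    rw [h2]
  have hψK : K ≤ LinearMap.ker ψ := by
    rw [hK, Submodule.span_le]
    rintro _ ⟨k, rfl⟩
    change ψ (ofVec (r' k)) = 0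
    rw [hkey]
    have : Ki.mkQ (r' k) = 0 := by
      rw [Submodule.mkQ_apply, Submodule.Quotient.mk_eq_zero]
      exact Submodule.subset_span ⟨k, rfl⟩
    rw [this, TensorProduct.tmul_zero]
  let Ψ : ((Fin n → A) ⧸ K) →ₗ[A] A ⊗[R] ((Fin n → R) ⧸ Ki) := K.liftQ ψ hψK
  refine ⟨LinearEquiv.ofLinearMap Ψ Φ ?_ ?_⟩
  · -- Ψ ∘ Φ = id
    apply TensorProduct.AlgebraTensorModule.ext
    intro a x
    obtain ⟨v, rfl⟩ := Ki.mkQ_surjective x
    have h1 : Φ (a ⊗ₜ[R] Ki.mkQ v) = a • K.mkQ (ofVec v) := by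
      simp only [Φ, LinearMap.liftBaseChange_tmul]
      rfl
    rw [LinearMap.comp_apply, h1, map_smul]
    have h2 : Ψ (K.mkQ (ofVec v)) = ψ (ofVec v) := rfl
    rw [h2, hkey, TensorProduct.smul_tmul', smul_eq_mul, mul_one]
    rfl
  · -- Φ ∘ Ψ = id
    apply Submodule.linearMap_qext
    apply (Pi.basisFun A (Fin n)).ext
    intro l
    simp only [LinearMap.comp_apply, Pi.basisFun_apply, LinearMap.id_apply]
    have h1 : Ψ (K.mkQ (Pi.single l 1)) = ψ (Pi.single l 1) := rfl
    have h2 : ψ (Pi.single l 1) = (1 : A) ⊗ₜ[R] Ki.mkQ (Pi.single l 1) := by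
      have := (Pi.basisFun A (Fin n)).constr_basis A
        (fun l => (1 : A) ⊗ₜ[R] Ki.mkQ (Pi.single l 1)) l
      rwa [Pi.basisFun_apply] at this
    rw [h1, h2]
    have h3 : Φ ((1 : A) ⊗ₜ[R] Ki.mkQ (Pi.single l 1)) = (1 : A) • K.mkQ (ofVec (Pi.single l 1)) := by
      simp only [Φ, LinearMap.liftBaseChange_tmul]
      rfl
    rw [h3, one_smul]
    congr 1
    funext j
    rw [hofVec]
    by_cases hjl : j = l
    · subst hjl; simp
    · simp [Pi.single_eq_of_ne hjl]

end bc

theorem main (ι : Type u) [Preorder ι] [Nonempty ι] [IsDirectedOrder ι]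
    (G : ι → Type u) [∀ i, CommRing (G i)] (f : ∀ i j, i ≤ j → G i →+* G j)
    [DirectedSystem G (fun i j h ↦ f i j h)] (M : Type u) [AddCommGroup M]
    [Module (Ring.DirectLimit G (fun i j h ↦ f i j h)) M]
    [Module.FinitePresentation (Ring.DirectLimit G (fun i j h ↦ f i j h)) M] :
    ∃ (i : ι) (Mi : Type u) (_ : AddCommGroup Mi) (_ : Module (G i) Mi), Module.FinitePresentation (G i) Mi ∧
      letI : Algebra (G i) (Ring.DirectLimit G (fun i j h ↦ f i j h)) :=
        (Ring.DirectLimit.of G (fun i j h ↦ f i j h) i).toAlgebra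
      Nonempty (M ≃ₗ[Ring.DirectLimit G (fun i j h ↦ f i j h)] (Ring.DirectLimit G (fun i j h ↦ f i j h)) ⊗[G i] Mi) := by
  classical
  obtain ⟨n, K, e, hKfg⟩ := Module.FinitePresentation.exists_fin
    (Ring.DirectLimit G (fun i j h ↦ f i j h)) M
  obtain ⟨s, hs⟩ := hKfg
  obtain ⟨i, t', ht'⟩ := exists_common_stage G f
    (fun p : ↥s × Fin n => (p.1 : Fin n → Ring.DirectLimit G (fun i j h ↦ f i j h)) p.2)
  let r' : ↥s → (Fin n → G i) := fun k l => t' (k, l)
  refine ⟨i, (Fin n → G i) ⧸ Submodule.span (G i) (Set.range r'), inferInstance, inferInstance,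
    ?_, ?_⟩
  · exact Module.finitePresentation_of_free_of_surjective (Submodule.mkQ _)
      (Submodule.mkQ_surjective _)
      (by rw [Submodule.ker_mkQ]; exact Submodule.fg_span (Set.finite_range r'))
  · letI : Algebra (G i) (Ring.DirectLimit G (fun i j h ↦ f i j h)) :=
      (Ring.DirectLimit.of G (fun i j h ↦ f i j h) i).toAlgebra
    obtain ⟨E⟩ := baseChange_quotient_equiv (R := G i)
      (A := Ring.DirectLimit G (fun i j h ↦ f i j h)) n r'
    have hKeq : Submodule.span (Ring.DirectLimit G (fun i j h ↦ f i j h))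
        (Set.range fun k => fun l =>
          algebraMap (G i) (Ring.DirectLimit G (fun i j h ↦ f i j h)) (r' k l)) = K := by
      rw [← hs]
      congr 1
      ext v
      constructor
      · rintro ⟨k, rfl⟩
        have : (fun l => algebraMap (G i) (Ring.DirectLimit G (fun i j h ↦ f i j h)) (r' k l)) =
            (k : Fin n → Ring.DirectLimit G (fun i j h ↦ f i j h)) := funext fun l => ht' (k, l)
        change (fun l => algebraMap (G i) (Ring.DirectLimit G (fun i j h ↦ f i j h)) (r' k l)) ∈ _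
        rw [this]
        exact k.2
      · intro hv
        exact ⟨⟨v, hv⟩, funext fun l => ht' (⟨v, hv⟩, l)⟩
    exact ⟨e.trans ((Submodule.quotEquivOfEq _ _ hKeq.symm).trans E)⟩

end Groth.Agent.Lib.Helper26.FPDescent
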