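import Mathlib
import Groth.Agent.Lib.Helper1.FibreCount2

set_option autoImplicit false
set_option backward.isDefEq.respectTransparency.types false
set_option maxHeartbeats 1000000
set_option linter.unusedSectionVars false
set_option linter.style.haveILetI false
universe u

open CategoryTheory CategoryTheory.Limits AlgebraicGeometry
open scoped TensorProduct

namespace Groth.Agent.Lib.Helper26.FibCnt

variable {k : Type u} [Field k] {X : Scheme.{u}} (sX : X ⟶ Spec (CommRingCat.of k))

/-- the structure map of the residue field at `x` over `k` -/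
noncomputable def resAlg (x : X) : k →+* X.residueField x :=
  (Spec.preimage (X.fromSpecResidueField x ≫ sX)).hom

lemma SpecMap_resAlg (x : X) :
    Spec.map (CommRingCat.ofHom (resAlg sX x)) = X.fromSpecResidueField x ≫ sX :=
  Spec.map_preimage _

lemma finite_resAlg [LocallyOfFiniteType sX] (x : X) (hx : IsClosed ({x} : Set X)) :
    (resAlg sX x).Finite := by
  have := isClosed_singleton_iff_isClosedImmersion.mp hx
  have h1 : IsFinite (X.fromSpecResidueField x ≫ sX) :=
    (isFinite_iff_locallyOfFiniteType_of_jacobsonSpace
      (f := X.fromSpecResidueField x ≫ sX)).mpr inferInstance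
  rw [← SpecMap_resAlg, IsFinite.SpecMap_iff] at h1
  exact h1

/-- the fibre of the base change projection `X_K → X` over `x` is `Spec (κ(x) ⊗ K)` -/
theorem card_fiber (K : Type u) [Field K] [Algebra k K] (x : X) :
    letI := (resAlg sX x).toAlgebra
    Nat.card ((pullback.fst sX (Spec.map (CommRingCat.ofHom (algebraMap k K)))).base ⁻¹' {x}) =
      Nat.card (PrimeSpectrum (K ⊗[k] X.residueField x)) := by
  letI := (resAlg sX x).toAlgebra
  set i := Spec.map (CommRingCat.ofHom (algebraMap k K)) with hi
  set π := pullback.fst sX i with hπ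
  have e1 : Nat.card (π.base ⁻¹' {x}) = Nat.card ↥(π.fiber x) :=
    (Nat.card_congr (π.fiberHomeo x).toEquiv).symm
  -- chain of isomorphisms
  let ι1 : π.fiber x ≅ pullback (X.fromSpecResidueField x) π := pullbackSymmetry _ _
  let ι2 : pullback (X.fromSpecResidueField x) π ≅ pullback (X.fromSpecResidueField x ≫ sX) i :=
    pullbackRightPullbackFstIso sX i (X.fromSpecResidueField x)
  let ι3 : pullback (X.fromSpecResidueField x ≫ sX) i ≅
      pullback (Spec.map (CommRingCat.ofHom (algebraMap k (X.residueField x)))) i :=
    pullback.congrHom (SpecMap_resAlg sX x).symm rfl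
  let ι4 : pullback (Spec.map (CommRingCat.ofHom (algebraMap k (X.residueField x)))) i ≅
      Spec (CommRingCat.of (X.residueField x ⊗[k] K)) := pullbackSpecIso k (X.residueField x) K
  let ι := ι1 ≪≫ ι2 ≪≫ ι3 ≪≫ ι4
  have e2 : Nat.card ↥(π.fiber x) = Nat.card ↥(Spec (CommRingCat.of (X.residueField x ⊗[k] K))) :=
    Nat.card_congr (Scheme.homeoOfIso ι).toEquiv
  have e3 : Nat.card ↥(Spec (CommRingCat.of (X.residueField x ⊗[k] K))) =
      Nat.card (PrimeSpectrum (K ⊗[k] X.residueField x)) :=
    (Nat.card_congr (PrimeSpectrum.comapEquiv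
      (Algebra.TensorProduct.comm k K (X.residueField x)).toRingEquiv).toEquiv).symm
  rw [e1, e2, e3]

/-- over a perfect field, the number of points of `X_K` over a closed point `x` is `[κ(x) : k]` -/
theorem encard_fiber [PerfectField k] [LocallyOfFiniteType sX] (K : Type u) [Field K] [Algebra k K]
    [IsAlgClosed K] [Normal k K] (x : X) (hx : IsClosed ({x} : Set X)) :
    letI := (resAlg sX x).toAlgebra
    Set.encard ((pullback.fst sX (Spec.map (CommRingCat.ofHom (algebraMap k K)))).base ⁻¹' {x}) =
        (Module.finrank k (X.residueField x) : ℕ∞) ∧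
      0 < Module.finrank k (X.residueField x) ∧ Module.Finite k (X.residueField x) := by
  letI := (resAlg sX x).toAlgebra
  haveI hfin : Module.Finite k (X.residueField x) := finite_resAlg sX x hx
  haveI : Algebra.IsSeparable k (X.residueField x) := Algebra.IsAlgebraic.isSeparable_of_perfectField
  have htop : separableClosure k (X.residueField x) = ⊤ := by
    rw [separableClosure.eq_top_iff]; infer_instance
  haveI : FiniteDimensional k (separableClosure k (X.residueField x)) := inferInstance
  let ι : separableClosure k (X.residueField x) →ₐ[k] K := IsAlgClosed.lift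
  have h1 := Groth.Agent.Lib.Helper1.FibreCount.card_primeSpectrum_tensor_eq_finrank k
    (X.residueField x) K ι
  rw [htop, IntermediateField.finrank_top'] at h1
  have h2 := card_fiber sX K x
  have hpos : 0 < Module.finrank k (X.residueField x) := Module.finrank_pos
  refine ⟨?_, hpos, hfin⟩
  have h3 : Nat.card ((pullback.fst sX (Spec.map (CommRingCat.ofHom (algebraMap k K)))).base ⁻¹' {x}) =
      Module.finrank k (X.residueField x) := h2.trans h1
  have hfinite : Finite ((pullback.fst sX (Spec.map (CommRingCat.ofHom (algebraMap k K)))).base ⁻¹' {x}) :=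
    Nat.finite_of_card_ne_zero (by rw [h3]; exact hpos.ne')
  have hsf : ((pullback.fst sX (Spec.map (CommRingCat.ofHom (algebraMap k K)))).base ⁻¹' {x}).Finite :=
    Set.toFinite _
  rw [← hsf.cast_ncard_eq, ← _root_.Nat.card_coe_set_eq, h3]

/-- compatibility of the residue field structure maps along a `k`-morphism -/
lemma resAlg_comp {Y : Scheme.{u}} (sY : Y ⟶ Spec (CommRingCat.of k)) (φ : X ⟶ Y)
    (hφ : φ ≫ sY = sX) (x : X) :
    (φ.residueFieldMap x).hom.comp (resAlg sY (φ.base x)) = resAlg sX x := by
  have h : Spec.map (CommRingCat.ofHom (resAlg sY (φ.base x)) ≫ φ.residueFieldMap x) =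
      Spec.map (CommRingCat.ofHom (resAlg sX x)) := by
    rw [Spec.map_comp, SpecMap_resAlg, SpecMap_resAlg, ← Category.assoc,
      Scheme.Hom.SpecMap_residueFieldMap_fromSpecResidueField, Category.assoc, hφ]
  have h2 := Spec.map_injective h
  exact congrArg CommRingCat.Hom.hom h2

theorem main [PerfectField k] {Y : Scheme.{u}} (sY : Y ⟶ Spec (CommRingCat.of k))
    [LocallyOfFiniteType sX] [LocallyOfFiniteType sY] (φ : X ⟶ Y) (hφ : φ ≫ sY = sX) [IsFinite φ]
    (K : Type u) [Field K] [Algebra k K] [IsAlgClosed K] [Normal k K]
    (x : X) (hx : IsClosed ({x} : Set X)) :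
    ((pullback.fst sY (Spec.map (CommRingCat.ofHom (algebraMap k K)))).base ⁻¹' {φ.base x}).encard ≤
        ((pullback.fst sX (Spec.map (CommRingCat.ofHom (algebraMap k K)))).base ⁻¹' {x}).encard ∧
      (((pullback.fst sY (Spec.map (CommRingCat.ofHom (algebraMap k K)))).base ⁻¹' {φ.base x}).encard =
          ((pullback.fst sX (Spec.map (CommRingCat.ofHom (algebraMap k K)))).base ⁻¹' {x}).encard ↔
        Function.Bijective (φ.residueFieldMap x).hom) := by
  have hy : IsClosed ({φ.base x} : Set Y) := by
    have := φ.isClosedMap _ hx
    rwa [Set.image_singleton] at this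
  obtain ⟨eX, posX, finX⟩ := encard_fiber sX K x hx
  obtain ⟨eY, posY, finY⟩ := encard_fiber sY K (φ.base x) hy
  rw [eX, eY]
  letI a1 : Algebra k (Y.residueField (φ.base x)) := (resAlg sY (φ.base x)).toAlgebra
  letI a2 : Algebra k (X.residueField x) := (resAlg sX x).toAlgebra
  letI a3 : Algebra (Y.residueField (φ.base x)) (X.residueField x) := (φ.residueFieldMap x).hom.toAlgebra
  haveI : IsScalarTower k (Y.residueField (φ.base x)) (X.residueField x) :=
    IsScalarTower.of_algebraMap_eq (fun c => by
      have := congrArg (fun f : k →+* X.residueField x => f c) (resAlg_comp sX sY φ hφ x)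
      exact this.symm)
  haveI : Module.Finite k (X.residueField x) := finX
  haveI : Module.Finite (Y.residueField (φ.base x)) (X.residueField x) :=
    Module.Finite.of_restrictScalars_finite k _ _
  have htower := Module.finrank_mul_finrank k (Y.residueField (φ.base x)) (X.residueField x)
  have hd : 0 < Module.finrank (Y.residueField (φ.base x)) (X.residueField x) := Module.finrank_pos
  constructor
  · rw [Nat.cast_le, ← htower]
    exact Nat.le_mul_of_pos_right _ hd
  · rw [Nat.cast_inj, ← htower]
    constructor
    · intro h
      have h1 : Module.finrank (Y.residueField (φ.base x)) (X.residueField x) = 1 := by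
        have : Module.finrank k (Y.residueField (φ.base x)) * 1 =
            Module.finrank k (Y.residueField (φ.base x)) *
              Module.finrank (Y.residueField (φ.base x)) (X.residueField x) := by
          rw [mul_one]; exact h
        exact (Nat.eq_of_mul_eq_mul_left posY this).symm
      refine ⟨(φ.residueFieldMap x).hom.injective, ?_⟩
      have h2 := Subalgebra.bot_eq_top_of_finrank_eq_one h1
      intro z
      have hz : z ∈ (⊥ : Subalgebra (Y.residueField (φ.base x)) (X.residueField x)) := by
        rw [h2]; trivial
      obtain ⟨w, hw⟩ := Algebra.mem_bot.mp hz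
      exact ⟨w, hw⟩
    · intro hb
      have h1 : Module.finrank (Y.residueField (φ.base x)) (X.residueField x) = 1 := by
        have e : Y.residueField (φ.base x) ≃ₗ[Y.residueField (φ.base x)] X.residueField x :=
          LinearEquiv.ofBijective (Algebra.linearMap _ _) hb
        rw [← e.finrank_eq, Module.finrank_self]
      rw [h1, mul_one]

end Groth.Agent.Lib.Helper26.FibCnt
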