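import Mathlib
set_option backward.isDefEq.respectTransparency.types false
set_option autoImplicit false
set_option linter.unusedSectionVars false
universe u
open TensorProduct

namespace Groth.Agent.Lib.Helper26.Pi0Alg

variable (k : Type u) [Field k] (B : Type u) [CommRing B] [Algebra k B]

/-- finite étale subalgebras -/
def IsFE (D : Subalgebra k B) : Prop := Module.Finite k D ∧ Algebra.FormallyUnramified k D

variable {k B}

lemma isFE_range {L : Type u} [CommRing L] [Algebra k L] [Module.Finite k L]
    [Algebra.FormallyUnramified k L] (φ : L →ₐ[k] B) : IsFE k B φ.range :=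
  ⟨Module.Finite.of_surjective φ.rangeRestrict.toLinearMap φ.rangeRestrict_surjective,
    Algebra.FormallyUnramified.of_surjective φ.rangeRestrict φ.rangeRestrict_surjective⟩

lemma isFE_bot : IsFE k B ⊥ := by
  rw [← Algebra.range_ofId]
  exact isFE_range (Algebra.ofId k B)

lemma isFE_sup {D D' : Subalgebra k B} (h : IsFE k B D) (h' : IsFE k B D') : IsFE k B (D ⊔ D') := by
  obtain ⟨h1, h2⟩ := h
  obtain ⟨h1', h2'⟩ := h'
  have e : (Algebra.TensorProduct.productMap D.val D'.val).range = D ⊔ D' := by
    rw [Algebra.TensorProduct.productMap_range, Subalgebra.range_val, Subalgebra.range_val]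
  rw [← e]
  haveI : Algebra.FormallyUnramified k (D ⊗[k] D') := Algebra.FormallyUnramified.comp k D _
  exact isFE_range _

lemma isUnit_of_isFE (hconn : ∀ e : B, IsIdempotentElem e → e = 0 ∨ e = 1)
    {D : Subalgebra k B} (h : IsFE k B D) (d : D) (hd : d ≠ 0) : IsUnit d := by
  obtain ⟨h1, h2⟩ := h
  haveI : IsArtinianRing D := isArtinian_of_tower k inferInstance
  haveI : IsReduced D := Algebra.FormallyUnramified.isReduced_of_field k D
  obtain ⟨n, y, hy⟩ := IsArtinian.exists_pow_succ_smul_dvd d (1 : D)
  simp only [smul_eq_mul, mul_one] at hy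
  have hnil : IsNilpotent (d * (1 - d * y)) := by
    refine ⟨n + 1, ?_⟩
    rw [mul_pow]
    have : d ^ n * (1 - d * y) = 0 := by
      rw [mul_sub, mul_one, ← mul_assoc, ← pow_succ, ← hy, sub_self]
    calc d ^ (n + 1) * (1 - d * y) ^ (n + 1)
        = d * (d ^ n * (1 - d * y)) * (1 - d * y) ^ n := by ring
      _ = 0 := by rw [this, mul_zero, zero_mul]
  have h0 : d * (1 - d * y) = 0 := hnil.eq_zero
  have hdy : d = d * (d * y) := by
    have : d - d * (d * y) = 0 := by rw [← h0]; ring
    exact sub_eq_zero.1 this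
  have hid : IsIdempotentElem ((d * y : D) : B) := by
    have : (d * y) * (d * y) = d * y := by
      calc (d * y) * (d * y) = (d * (d * y)) * y := by ring
        _ = d * y := by rw [← hdy]
    change ((d * y : D) : B) * ((d * y : D) : B) = _
    rw [← Subalgebra.coe_mul, this]
  rcases hconn _ hid with h | h
  · exfalso
    apply hd
    have : d * y = 0 := Subtype.ext h
    rw [hdy, this, mul_zero]
  · have : d * y = 1 := Subtype.ext h
    exact IsUnit.of_mul_eq_one y this

lemma isField_of_isFE [Nontrivial B] (hconn : ∀ e : B, IsIdempotentElem e → e = 0 ∨ e = 1)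
    {D : Subalgebra k B} (h : IsFE k B D) : IsField D where
  exists_pair_ne := ⟨0, 1, zero_ne_one⟩
  mul_comm := mul_comm
  mul_inv_cancel := fun {a} ha => (isUnit_of_isFE hconn h a ha).exists_right_inv

lemma finrank_le_of_isFE [Nontrivial B] (hconn : ∀ e : B, IsIdempotentElem e → e = 0 ∨ e = 1)
    {K : Type u} [Field K] [Algebra k K] (ev : B →ₐ[k] K)
    [FiniteDimensional k (separableClosure k K)]
    {D : Subalgebra k B} (h : IsFE k B D) :
    Module.finrank k D ≤ Module.finrank k (separableClosure k K) := by
  have hF := isField_of_isFE hconn h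
  obtain ⟨h1, h2⟩ := h
  letI := hF.toField
  haveI : Algebra.IsSeparable k D := Algebra.FormallyUnramified.isSeparable k D
  let φ : D →ₐ[k] K := ev.comp D.val
  have hφ : Function.Injective φ := φ.toRingHom.injective
  have hmem : ∀ d : D, φ d ∈ separableClosure k K := by
    intro d
    rw [mem_separableClosure_iff]
    have : IsSeparable k d := Algebra.IsSeparable.isSeparable k d
    unfold IsSeparable at this ⊢
    rwa [minpoly.algHom_eq φ hφ]
  let ψ : D →ₗ[k] separableClosure k K :=
    LinearMap.codRestrict (separableClosure k K).toSubalgebra.toSubmodule φ.toLinearMap hmem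
  have hψ : Function.Injective ψ := by
    intro a b hab
    apply hφ
    exact congrArg Subtype.val hab
  exact LinearMap.finrank_le_finrank_of_injective hψ

theorem exists_max [Nontrivial B] (hconn : ∀ e : B, IsIdempotentElem e → e = 0 ∨ e = 1)
    {K : Type u} [Field K] [Algebra k K] (ev : B →ₐ[k] K)
    [FiniteDimensional k (separableClosure k K)] :
    ∃ D : Subalgebra k B, IsFE k B D ∧ ∀ D', IsFE k B D' → D' ≤ D := by
  classical
  set N := Module.finrank k (separableClosure k K) with hN
  let P : ℕ → Prop := fun n => ∃ D : Subalgebra k B, IsFE k B D ∧ Module.finrank k D = n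
  have hP0 : P (Module.finrank k (⊥ : Subalgebra k B)) := ⟨⊥, isFE_bot, rfl⟩
  have hle0 : Module.finrank k (⊥ : Subalgebra k B) ≤ N := finrank_le_of_isFE hconn ev isFE_bot
  obtain ⟨D, hD, hDn⟩ : P (Nat.findGreatest P N) := Nat.findGreatest_spec hle0 hP0
  refine ⟨D, hD, fun D' hD' => ?_⟩
  have hsup := isFE_sup hD hD'
  have h1 : Module.finrank k ↥(D ⊔ D') ≤ Module.finrank k D := by
    rw [hDn]
    exact Nat.le_findGreatest (finrank_le_of_isFE hconn ev hsup) ⟨_, hsup, rfl⟩
  haveI := hsup.1
  have h2 : Subalgebra.toSubmodule D = Subalgebra.toSubmodule (D ⊔ D') :=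
    Submodule.eq_of_le_of_finrank_le (show Subalgebra.toSubmodule D ≤ Subalgebra.toSubmodule (D ⊔ D')
      from Subalgebra.toSubmodule.monotone (le_sup_left : D ≤ D ⊔ D')) h1
  have h3 : D = D ⊔ D' := Subalgebra.toSubmodule_injective h2
  rw [h3]
  exact le_sup_right

end Groth.Agent.Lib.Helper26.Pi0Alg
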