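import Mathlib
import Groth.Agent.Lib.Helper20.UnramifiedOverField
import Groth.Agent.Lib.Helper1.ResSepFin
import Groth.Agent.Lib.Helper16.LocNoeth
import Groth.Agent.Lib.Helper26.Pi0Alg
set_option backward.isDefEq.respectTransparency.types false
set_option autoImplicit false
set_option linter.unusedSectionVars false
set_option linter.style.haveILetI false
universe u
open CategoryTheory CategoryTheory.Limits AlgebraicGeometry

namespace Groth.Agent.Lib.Helper26.Pi0Sch

/-- every morphism to an affine scheme factors through `toSpecΓ` -/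
lemma toSpec_eq {Z : Scheme.{u}} {R : CommRingCat.{u}} (g : Z ⟶ Spec R) :
    Z.toSpecΓ ≫ Spec.map ((Scheme.ΓSpecIso R).inv ≫ g.appTop) = g := by
  rw [Spec.map_comp, ← Scheme.toSpecΓ_naturality_assoc, ← SpecMap_ΓSpecIso_hom, ← Spec.map_comp,
    Iso.inv_hom_id, Spec.map_id, Category.comp_id]

lemma toSpecΓ_cancel {Z : Scheme.{u}} {R : CommRingCat.{u}} (a b : R ⟶ Γ(Z, ⊤))
    (h : Z.toSpecΓ ≫ Spec.map a = Z.toSpecΓ ≫ Spec.map b) : a = b := by
  have h1 := congrArg Scheme.Hom.appTop h
  rw [Scheme.Hom.comp_appTop, Scheme.Hom.comp_appTop, Scheme.toSpecΓ_appTop,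
    Scheme.ΓSpecIso_naturality, Scheme.ΓSpecIso_naturality] at h1
  exact (cancel_epi _).1 h1

lemma SpecMap_Γevaluation {Z : Scheme.{u}} (z : Z) :
    Spec.map (Z.Γevaluation z) = Z.fromSpecResidueField z ≫ Z.toSpecΓ := by
  change Spec.map (Z.presheaf.germ ⊤ z trivial ≫ Z.residue z) = _
  rw [Spec.map_comp, ← Scheme.fromSpecStalk_toSpecΓ, ← Category.assoc]
  rfl

/-- idempotent global sections of a connected scheme are trivial -/
lemma idem_of_connected (Z : Scheme.{u}) [PreconnectedSpace Z] (e : Γ(Z, ⊤))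
    (he : IsIdempotentElem e) : e = 0 ∨ e = 1 := by
  have hdisj : ∀ x : Z, x ∈ Z.basicOpen e → x ∈ Z.basicOpen (1 - e) → False := by
    intro x h1 h2
    have h3 : x ∈ Z.basicOpen (e * (1 - e)) := by
      rw [Scheme.basicOpen_mul]; exact ⟨h1, h2⟩
    have h4 : e * (1 - e) = 0 := by rw [mul_sub, mul_one, he.eq, sub_self]
    rw [h4, Scheme.basicOpen_zero] at h3
    exact h3
  have hcov : ∀ x : Z, x ∈ Z.basicOpen e ∨ x ∈ Z.basicOpen (1 - e) := by
    intro x
    rw [Scheme.mem_basicOpen_top, Scheme.mem_basicOpen_top]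
    apply IsLocalRing.isUnit_or_isUnit_of_add_one
    rw [← map_add]
    simp
  have hclopen : IsClopen (Z.basicOpen e : Set Z) := by
    refine ⟨?_, (Z.basicOpen e).2⟩
    have : (Z.basicOpen e : Set Z)ᶜ = (Z.basicOpen (1 - e) : Set Z) := by
      ext x
      constructor
      · intro hx
        exact (hcov x).resolve_left hx
      · intro hx hx'
        exact hdisj x hx' hx
    rw [← isOpen_compl_iff, this]
    exact (Z.basicOpen (1 - e)).2
  rcases isClopen_iff.1 hclopen with h | h
  · left
    have hu : IsUnit (1 - e) := by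
      apply RingedSpace.isUnit_of_isUnit_germ Z.toLocallyRingedSpace.toRingedSpace ⊤
      intro x _
      have := (hcov x).resolve_left (by
        intro hx
        have : x ∈ (Z.basicOpen e : Set Z) := hx
        rw [h] at this
        exact this)
      exact (Scheme.mem_basicOpen_top Z _ x).1 this
    have h1 : IsIdempotentElem (1 - e) := he.one_sub
    have h2 : 1 - e = 1 := by
      obtain ⟨v, hv⟩ := hu.exists_right_inv
      calc 1 - e = (1 - e) * ((1 - e) * v) := by rw [hv, mul_one]
        _ = ((1 - e) * (1 - e)) * v := by ring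
        _ = 1 := by rw [h1.eq, hv]
    have : e = 1 - (1 - e) := by ring
    rw [this, h2, sub_self]
  · right
    have hu : IsUnit e := by
      apply RingedSpace.isUnit_of_isUnit_germ Z.toLocallyRingedSpace.toRingedSpace ⊤
      intro x _
      have : x ∈ (Z.basicOpen e : Set Z) := by rw [h]; trivial
      exact (Scheme.mem_basicOpen_top Z _ x).1 this
    obtain ⟨v, hv⟩ := hu.exists_right_inv
    calc e = e * (e * v) := by rw [hv, mul_one]
      _ = (e * e) * v := by ring
      _ = 1 := by rw [he.eq, hv]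

open Groth.Agent.Lib.Helper20 in
theorem component (k : Type u) [Field k] (Z : Scheme.{u}) [ConnectedSpace Z]
    (g : Z ⟶ Spec (CommRingCat.of k)) [LocallyOfFiniteType g] :
    ∃ (D : Type u) (_ : Field D) (a : k →+* D) (qz : Z ⟶ Spec (CommRingCat.of D)),
      qz ≫ Spec.map (CommRingCat.ofHom a) = g ∧ Etale (Spec.map (CommRingCat.ofHom a)) ∧
      (∀ (Y : Scheme.{u}) (gY : Y ⟶ Spec (CommRingCat.of k)) (h : Z ⟶ Y), Etale gY → h ≫ gY = g →
        ∃ t : Spec (CommRingCat.of D) ⟶ Y, t ≫ gY = Spec.map (CommRingCat.ofHom a) ∧ qz ≫ t = h) ∧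
      (∀ (Y : Scheme.{u}) (gY : Y ⟶ Spec (CommRingCat.of k))
        (t t' : Spec (CommRingCat.of D) ⟶ Y), Etale gY → qz ≫ t = qz ≫ t' → t = t') := by
  -- the ring of global sections as a `k`-algebra
  set ψ : CommRingCat.of k ⟶ Γ(Z, ⊤) := (Scheme.ΓSpecIso (CommRingCat.of k)).inv ≫ g.appTop with hψ
  have hψg : Z.toSpecΓ ≫ Spec.map ψ = g := toSpec_eq g
  letI : Algebra k Γ(Z, ⊤) := ψ.hom.toAlgebra
  haveI : Nonempty (⊤ : Z.Opens) := ⟨⟨Classical.arbitrary Z, trivial⟩⟩
  haveI : Nontrivial Γ(Z, ⊤) := Scheme.component_nontrivial Z ⊤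
  have hconn : ∀ e : Γ(Z, ⊤), IsIdempotentElem e → e = 0 ∨ e = 1 := idem_of_connected Z
  -- a point and the evaluation map
  let z : Z := Classical.arbitrary Z
  let φ : k →+* Z.residueField z := (Z.Γevaluation z).hom.comp ψ.hom
  letI : Algebra k (Z.residueField z) := φ.toAlgebra
  let ev : Γ(Z, ⊤) →ₐ[k] Z.residueField z :=
    { (Z.Γevaluation z).hom with commutes' := fun _ => rfl }
  have hφ : Spec.map (CommRingCat.ofHom φ) = Z.fromSpecResidueField z ≫ g := by
    have : CommRingCat.ofHom φ = ψ ≫ Z.Γevaluation z := rfl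
    rw [this, Spec.map_comp, SpecMap_Γevaluation, Category.assoc, hψg]
  haveI : FiniteDimensional k (separableClosure k (Z.residueField z)) :=
    Groth.Agent.Lib.Helper1.ResSepFin.finiteDimensional_separableClosure g z φ hφ
  obtain ⟨D, hD, hmax⟩ := Pi0Alg.exists_max hconn ev
  have hF : IsField D := Pi0Alg.isField_of_isFE hconn hD
  letI : Field D := hF.toField
  obtain ⟨hfin, hunr⟩ := hD
  let incl : CommRingCat.of D ⟶ Γ(Z, ⊤) := CommRingCat.ofHom D.val.toRingHom
  have hincl_inj : Function.Injective incl.hom := Subtype.val_injective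
  have hincl : CommRingCat.ofHom (algebraMap k D) ≫ incl = ψ := rfl
  refine ⟨D, inferInstance, algebraMap k D, Z.toSpecΓ ≫ Spec.map incl, ?_, ?_, ?_, ?_⟩
  · rw [Category.assoc, ← Spec.map_comp, hincl, hψg]
  · rw [HasRingHomProperty.Spec_iff (P := @Etale)]
    haveI : Algebra.IsSeparable k D := Algebra.FormallyUnramified.isSeparable k D
    have fe : Algebra.FormallyEtale k D := Algebra.FormallyEtale.of_isSeparable _ _
    have fp : Algebra.FinitePresentation k D :=
      Algebra.FinitePresentation.of_finiteType.mp inferInstance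
    have : Algebra.Etale k D := ⟨fe, fp⟩
    exact RingHom.etale_algebraMap.mpr this
  · intro Y gY h hgY hh
    haveI := hgY
    haveI : DiscreteTopology Y := discreteTopology_of_unramified k gY
    set V := pointOpen (h z) with hV
    have hVaff : IsAffineOpen V := isAffineOpen_pointOpen (h z)
    have hrange : Set.range h ⊆ Set.range hVaff.fromSpec := by
      rw [hVaff.range_fromSpec]
      rintro _ ⟨z', rfl⟩
      have : h z' = h z := PreconnectedSpace.constant inferInstance h.continuous
      change h z' ∈ ({h z} : Set Y)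
      rw [this]; rfl
    set h' := IsOpenImmersion.lift hVaff.fromSpec h hrange with hh'
    have eh' : h' ≫ hVaff.fromSpec = h := IsOpenImmersion.lift_fac _ _ _
    set lam0 : Γ(Y, V) ⟶ Γ(Z, ⊤) := (Scheme.ΓSpecIso Γ(Y, V)).inv ≫ h'.appTop with hlam0
    have elam0 : Z.toSpecΓ ≫ Spec.map lam0 = h' := toSpec_eq h'
    letI : Algebra k Γ(Y, V) := (sectionMap k gY hVaff).hom.toAlgebra
    obtain ⟨hLfin, hLunr⟩ := finite_of_sectionMap k gY hVaff
    have hcomm : sectionMap k gY hVaff ≫ lam0 = ψ := by
      apply toSpecΓ_cancel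
      rw [Spec.map_comp, ← Category.assoc, elam0, Spec_map_sectionMap, ← Category.assoc, eh', hh,
        hψg]
    let lam : Γ(Y, V) →ₐ[k] Γ(Z, ⊤) :=
      { lam0.hom with
        commutes' := fun x => congrArg (fun r => (CommRingCat.Hom.hom r) x) hcomm }
    have hle : lam.range ≤ D := hmax _ (Pi0Alg.isFE_range lam)
    let lam' : Γ(Y, V) →ₐ[k] D := lam.codRestrict D (fun x => hle ⟨x, rfl⟩)
    have e1 : CommRingCat.ofHom lam'.toRingHom ≫ incl = lam0 := rfl
    have e2 : sectionMap k gY hVaff ≫ CommRingCat.ofHom lam'.toRingHom =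
        CommRingCat.ofHom (algebraMap k D) := by
      ext x
      exact congrArg Subtype.val (lam'.commutes x)
    refine ⟨Spec.map (CommRingCat.ofHom lam'.toRingHom) ≫ hVaff.fromSpec, ?_, ?_⟩
    · rw [Category.assoc, ← Spec_map_sectionMap, ← Spec.map_comp, e2]
    · rw [Category.assoc, ← Spec.map_comp_assoc, e1, ← Category.assoc, elam0, eh']
  · intro Y gY t t' hgY htt
    haveI := hgY
    haveI : DiscreteTopology Y := discreteTopology_of_unramified k gY
    set q0 := Z.toSpecΓ ≫ Spec.map incl with hq0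
    set y := t (q0 z) with hy
    have hy' : t' (q0 z) = y := by
      have := congrArg (fun m : Z ⟶ Y => m z) htt
      simp only [Scheme.Hom.comp_apply] at this
      exact this.symm
    set V := pointOpen y with hV
    have hVaff : IsAffineOpen V := isAffineOpen_pointOpen y
    haveI : Subsingleton (Spec (CommRingCat.of D)) :=
      inferInstanceAs (Subsingleton (PrimeSpectrum D))
    have hr : Set.range t ⊆ Set.range hVaff.fromSpec := by
      rw [hVaff.range_fromSpec]
      rintro _ ⟨p, rfl⟩
      rw [Subsingleton.elim p (q0 z)]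
      rfl
    have hr' : Set.range t' ⊆ Set.range hVaff.fromSpec := by
      rw [hVaff.range_fromSpec]
      rintro _ ⟨p, rfl⟩
      rw [Subsingleton.elim p (q0 z), hy']
      rfl
    set s := IsOpenImmersion.lift hVaff.fromSpec t hr with hs
    set s' := IsOpenImmersion.lift hVaff.fromSpec t' hr' with hs'
    have es : s ≫ hVaff.fromSpec = t := IsOpenImmersion.lift_fac _ _ _
    have es' : s' ≫ hVaff.fromSpec = t' := IsOpenImmersion.lift_fac _ _ _
    have em : Spec.map (Spec.preimage s) = s := Spec.map_preimage _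
    have em' : Spec.map (Spec.preimage s') = s' := Spec.map_preimage _
    have key : Spec.preimage s ≫ incl = Spec.preimage s' ≫ incl := by
      apply toSpecΓ_cancel
      rw [Spec.map_comp, Spec.map_comp, em, em', ← cancel_mono hVaff.fromSpec]
      simp only [Category.assoc]
      rw [es, es']
      simpa only [hq0, Category.assoc] using htt
    have key2 : Spec.preimage s = Spec.preimage s' := by
      ext x
      exact congrArg (fun r => (CommRingCat.Hom.hom r) x) key
    rw [← es, ← es', ← em, ← em', key2]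


open scoped Function in
theorem main (k : Type u) [Field k] (X : Scheme.{u}) (f : X ⟶ Spec (CommRingCat.of k))
    [LocallyOfFiniteType f] :
    ∃ (P : Scheme.{u}) (g : P ⟶ Spec (CommRingCat.of k)) (q : X ⟶ P), Etale g ∧ q ≫ g = f ∧
      (∀ (Y : Scheme.{u}) (gY : Y ⟶ Spec (CommRingCat.of k)) (h : X ⟶ Y), Etale gY → h ≫ gY = f →
        ∃! t : P ⟶ Y, t ≫ gY = g ∧ q ≫ t = h) ∧
      Flat q ∧ Surjective q ∧
      ∀ x : ↥X, (fun x' : ↥X => q x') ⁻¹' {q x} = connectedComponent x := by
  haveI : IsLocallyNoetherian (Spec (CommRingCat.of k)) := inferInstance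
  haveI : IsLocallyNoetherian X := LocallyOfFiniteType.isLocallyNoetherian f
  haveI : LocallyConnectedSpace ↥X := by
    apply Groth.Agent.Lib.Helper16.locallyConnectedSpace_of_locallyNoetherian
    intro x
    obtain ⟨_, ⟨U, hU, rfl⟩, hxU, -⟩ := X.isBasis_affineOpens.exists_subset_of_mem_open
      (Set.mem_univ x) isOpen_univ
    refine ⟨(U : Set ↥X), U.2.mem_nhds hxU, ?_⟩
    have := IsLocallyNoetherian.component_noetherian (X := X) ⟨U, hU⟩
    exact noetherianSpace_of_isAffineOpen U hU
  -- the components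
  have hopen : ∀ c : _root_.ConnectedComponents X, IsOpen ((↑) ⁻¹' {c} : Set X) := by
    intro c
    obtain ⟨x, rfl⟩ := _root_.ConnectedComponents.surjective_coe c
    rw [connectedComponents_preimage_singleton]
    exact isOpen_connectedComponent
  let U : _root_.ConnectedComponents X → X.Opens := fun c => ⟨(↑) ⁻¹' {c}, hopen c⟩
  have hmemU : ∀ (c : _root_.ConnectedComponents X) (x : X), x ∈ U c ↔ (x : _root_.ConnectedComponents X) = c :=
    fun c x => Iff.rfl
  have hconnU : ∀ c, ConnectedSpace ↥(U c) := by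
    intro c
    obtain ⟨x, rfl⟩ := _root_.ConnectedComponents.surjective_coe c
    apply Subtype.connectedSpace
    change _root_.IsConnected ((↑) ⁻¹' {(x : _root_.ConnectedComponents X)} : Set X)
    rw [connectedComponents_preimage_singleton]
    exact isConnected_connectedComponent
  haveI : ∀ c, ConnectedSpace ↥((U c).toScheme) := hconnU
  choose D hDf a qz h1 h2 h3 h4 using fun c => component k (U c).toScheme ((U c).ι ≫ f)
  letI : ∀ c, Field (D c) := hDf
  -- `X` is the coproduct of its components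
  have hcov : ⨆ c, ((U c).ι).opensRange = ⊤ := by
    rw [eq_top_iff]
    intro x _
    refine TopologicalSpace.Opens.mem_iSup.mpr ⟨(x : _root_.ConnectedComponents X), ?_⟩
    rw [Scheme.Opens.opensRange_ι]
    exact rfl
  have hdisj : Pairwise (Disjoint on (fun c => ((U c).ι).opensRange)) := by
    intro c c' hcc'
    simp only [Function.onFun, Scheme.Opens.opensRange_ι]
    rw [← TopologicalSpace.Opens.coe_disjoint, Set.disjoint_left]
    intro x hx hx'
    exact hcc' (((hmemU c x).1 hx).symm.trans ((hmemU c' x).1 hx'))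
  obtain ⟨hc⟩ := nonempty_isColimit_cofanMk_of (fun c => (U c).ι) hcov hdisj
  let Pf : _root_.ConnectedComponents X → Scheme.{u} := fun c => Spec (CommRingCat.of (D c))
  let q : X ⟶ ∐ Pf := Cofan.IsColimit.desc hc (fun c => qz c ≫ Sigma.ι Pf c)
  have hq : ∀ c, (U c).ι ≫ q = qz c ≫ Sigma.ι Pf c := fun c => Cofan.IsColimit.fac hc _ c
  let g : ∐ Pf ⟶ Spec (CommRingCat.of k) := Sigma.desc (fun c => Spec.map (CommRingCat.ofHom (a c)))
  have hqg : q ≫ g = f := by
    refine Cofan.IsColimit.hom_ext hc _ _ fun c => ?_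
    change (U c).ι ≫ q ≫ g = (U c).ι ≫ f
    rw [← Category.assoc, hq, Category.assoc, Sigma.ι_desc, h1]
  haveI : ∀ c, Subsingleton (Pf c) := fun c => inferInstanceAs (Subsingleton (PrimeSpectrum (D c)))
  -- the value of `q`
  have hqx : ∀ x : X, ∃ p : Pf (x : _root_.ConnectedComponents X), q x = Sigma.ι Pf _ p := by
    intro x
    have hx : x ∈ U (x : _root_.ConnectedComponents X) := rfl
    refine ⟨qz _ ⟨x, hx⟩, ?_⟩
    have := congrArg (fun m : (U (x : _root_.ConnectedComponents X)).toScheme ⟶ ∐ Pf => m ⟨x, hx⟩) (hq _)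
    simp only [Scheme.Hom.comp_apply] at this
    exact this
  refine ⟨∐ Pf, g, q, ?_, hqg, ?_, ?_, ?_, ?_⟩
  · exact IsZariskiLocalAtSource.sigmaDesc (fun c => h2 c)
  · intro Y gY h hgY hh
    choose t ht1 ht2 using fun c => h3 c Y gY ((U c).ι ≫ h) hgY (by rw [Category.assoc, hh])
    refine ⟨Sigma.desc t, ⟨?_, ?_⟩, ?_⟩
    · refine Sigma.hom_ext _ _ fun c => ?_
      rw [Sigma.ι_desc_assoc, ht1, Sigma.ι_desc]
    · refine Cofan.IsColimit.hom_ext hc _ _ fun c => ?_
      change (U c).ι ≫ q ≫ Sigma.desc t = (U c).ι ≫ h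
      rw [← Category.assoc, hq, Category.assoc, Sigma.ι_desc, ht2]
    · rintro t' ⟨-, ht'⟩
      refine Sigma.hom_ext _ _ fun c => ?_
      rw [Sigma.ι_desc]
      apply h4 c Y gY _ _ hgY
      rw [ht2, ← Category.assoc, ← hq, Category.assoc, ht']
  · have hU : ⨆ c, U c = ⊤ := by
      rw [← hcov]; simp only [Scheme.Opens.opensRange_ι]
    let 𝒰 := X.openCoverOfIsOpenCover U (TopologicalSpace.IsOpenCover.mk hU)
    rw [IsZariskiLocalAtSource.iff_of_openCover (P := @Flat) 𝒰]
    intro c
    change Flat ((U c).ι ≫ q)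
    rw [hq]
    infer_instance
  · constructor
    intro p
    obtain ⟨⟨c, p0⟩, rfl⟩ := (sigmaMk Pf).surjective p
    rw [sigmaMk_mk]
    obtain ⟨x, hx⟩ : ∃ x : X, (x : _root_.ConnectedComponents X) = c := _root_.ConnectedComponents.surjective_coe c
    subst hx
    obtain ⟨p1, hp1⟩ := hqx x
    refine ⟨x, ?_⟩
    rw [hp1]
    change _ = Sigma.ι Pf _ p0
    rw [Subsingleton.elim p0 p1]
  · intro x
    ext x'
    simp only [Set.mem_preimage, Set.mem_singleton_iff]
    rw [← _root_.ConnectedComponents.coe_eq_coe']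
    obtain ⟨p, hp⟩ := hqx x
    obtain ⟨p', hp'⟩ := hqx x'
    rw [hp, hp', sigmaι_eq_iff]
    constructor
    · intro h
      exact congrArg Sigma.fst h
    · intro h
      refine Sigma.ext h ?_
      have : ∀ (c c' : _root_.ConnectedComponents X) (hcc : c = c') (p : Pf c) (p' : Pf c'), HEq p p' := by
        intro c c' hcc p p'
        subst hcc
        exact heq_of_eq (Subsingleton.elim _ _)
      exact this _ _ h _ _

end Groth.Agent.Lib.Helper26.Pi0Sch
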