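import Mathlib
import Groth.Agent.Lib.Helper26.Pi0Sch
set_option backward.isDefEq.respectTransparency.types false
set_option autoImplicit false
set_option linter.unusedSectionVars false
set_option linter.style.haveILetI false
universe u
open CategoryTheory CategoryTheory.Limits AlgebraicGeometry

namespace Groth.Agent.Lib.Helper26.FibContr

/-- a surjective morphism with injective maps on sections is an epimorphism -/
lemma eq_of_surj_inj {X' W Y : Scheme.{u}} (p : X' ⟶ W) (hs : Function.Surjective p)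
    (hinj : ∀ O : W.Opens, Function.Injective (p.app O).hom) (r r' : W ⟶ Y)
    (h : p ≫ r = p ≫ r') : r = r' := by
  have hbase : ∀ w : W, r w = r' w := by
    intro w
    obtain ⟨x, rfl⟩ := hs w
    have := congrArg (fun m : X' ⟶ Y => m x) h
    simpa only [Scheme.Hom.comp_apply] using this
  have hV : ∀ w : W, ∃ V : Y.Opens, IsAffineOpen V ∧ r w ∈ V := by
    intro w
    obtain ⟨_, ⟨V, hV, rfl⟩, hxV, -⟩ := Y.isBasis_affineOpens.exists_subset_of_mem_open
      (Set.mem_univ (r w)) isOpen_univ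
    exact ⟨V, hV, hxV⟩
  choose V hVaff hVmem using hV
  let O : W → W.Opens := fun w => r ⁻¹ᵁ V w ⊓ r' ⁻¹ᵁ V w
  have hO : ∀ w, w ∈ O w := fun w => ⟨hVmem w, by change r' w ∈ V w; rw [← hbase]; exact hVmem w⟩
  have hcov : ⨆ w, O w = ⊤ := by
    rw [eq_top_iff]
    intro w _
    exact TopologicalSpace.Opens.mem_iSup.mpr ⟨w, hO w⟩
  let 𝒰 := W.openCoverOfIsOpenCover O (TopologicalSpace.IsOpenCover.mk hcov)
  have key : ∀ w : W, (O w).ι ≫ r = (O w).ι ≫ r' := by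
    intro w
    have e1 : r.resLE (V w) (O w) inf_le_left ≫ (V w).ι = (O w).ι ≫ r := Scheme.Hom.resLE_comp_ι _ _
    have e2 : r'.resLE (V w) (O w) inf_le_right ≫ (V w).ι = (O w).ι ≫ r' :=
      Scheme.Hom.resLE_comp_ι _ _
    rw [← e1, ← e2]
    congr 1
    haveI : IsAffine (V w).toScheme := hVaff w
    apply ext_of_isAffine
    have h3 : (p ∣_ O w) ≫ r.resLE (V w) (O w) inf_le_left =
        (p ∣_ O w) ≫ r'.resLE (V w) (O w) inf_le_right := by
      rw [← cancel_mono (V w).ι, Category.assoc, Category.assoc, e1, e2, ← Category.assoc,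
        ← Category.assoc, morphismRestrict_ι, Category.assoc, Category.assoc, h]
    have h4 := congrArg Scheme.Hom.appTop h3
    rw [Scheme.Hom.comp_appTop, Scheme.Hom.comp_appTop] at h4
    have hmono : Function.Injective (p ∣_ O w).appTop.hom := by
      intro a b hab
      have e := morphismRestrict_appTop p (O w)
      have ea : (p ∣_ O w).appTop.hom a = (X'.presheaf.map (eqToHom
          (image_morphismRestrict_preimage p (O w) ⊤)).op).hom ((p.app ((O w).ι ''ᵁ ⊤)).hom a) :=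
        congrArg (fun m => (CommRingCat.Hom.hom m) a) e
      have eb : (p ∣_ O w).appTop.hom b = (X'.presheaf.map (eqToHom
          (image_morphismRestrict_preimage p (O w) ⊤)).op).hom ((p.app ((O w).ι ''ᵁ ⊤)).hom b) :=
        congrArg (fun m => (CommRingCat.Hom.hom m) b) e
      rw [ea, eb] at hab
      have h5 := (ConcreteCategory.bijective_of_isIso (X'.presheaf.map (eqToHom
        (image_morphismRestrict_preimage p (O w) ⊤)).op)).1 hab
      exact hinj _ h5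
    ext x
    apply hmono
    exact congrArg (fun m => (CommRingCat.Hom.hom m) x) h4
  exact 𝒰.hom_ext _ _ key

/-- restriction preserves the hypotheses -/
lemma restrict_surj {X S : Scheme.{u}} (ξ : X ⟶ S) (hs : Function.Surjective ξ) (W : S.Opens) :
    Function.Surjective (ξ ∣_ W) := by
  rintro ⟨w, hw⟩
  obtain ⟨x, rfl⟩ := hs w
  refine ⟨⟨x, hw⟩, ?_⟩
  apply Subtype.ext
  exact morphismRestrict_base_coe ξ W ⟨x, hw⟩

lemma restrict_inj {X S : Scheme.{u}} (ξ : X ⟶ S)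
    (hinj : ∀ O : S.Opens, Function.Injective (ξ.app O).hom) (W : S.Opens)
    (O : W.toScheme.Opens) : Function.Injective ((ξ ∣_ W).app O).hom := by
  intro a b hab
  have e := morphismRestrict_app ξ W O
  have ea : ((ξ ∣_ W).app O).hom a = (X.presheaf.map (eqToHom
      (image_morphismRestrict_preimage ξ W O)).op).hom ((ξ.app (W.ι ''ᵁ O)).hom a) :=
    congrArg (fun m => (CommRingCat.Hom.hom m) a) e
  have eb : ((ξ ∣_ W).app O).hom b = (X.presheaf.map (eqToHom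
      (image_morphismRestrict_preimage ξ W O)).op).hom ((ξ.app (W.ι ''ᵁ O)).hom b) :=
    congrArg (fun m => (CommRingCat.Hom.hom m) b) e
  rw [ea, eb] at hab
  have h5 := (ConcreteCategory.bijective_of_isIso (X.presheaf.map (eqToHom
    (image_morphismRestrict_preimage ξ W O)).op)).1 hab
  exact hinj _ h5

lemma restrict_appTop_bij {X S : Scheme.{u}} (ξ : X ⟶ S)
    (h0 : ∀ O : S.Opens, Function.Bijective (ξ.app O).hom) (W : S.Opens) :
    Function.Bijective (ξ ∣_ W).appTop.hom := by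
  have e := morphismRestrict_appTop ξ W
  have hb : Function.Bijective (ξ.app (W.ι ''ᵁ ⊤) ≫
      X.presheaf.map (eqToHom (image_morphismRestrict_preimage ξ W ⊤)).op).hom := by
    simp only [CommRingCat.hom_comp, RingHom.coe_comp]
    exact Function.Bijective.comp (ConcreteCategory.bijective_of_isIso (X.presheaf.map (eqToHom
      (image_morphismRestrict_preimage ξ W ⊤)).op)) (h0 _)
  rw [e]
  exact hb

open Groth.Agent.Lib.Helper26.Pi0Sch in
lemma local_factor {X Y S : Scheme.{u}} (ξ : X ⟶ S) (hclosed : IsClosedMap ξ)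
    (h0 : ∀ U : S.Opens, Function.Bijective (ξ.app U).hom) (f : X ⟶ Y)
    (s : S) (y : Y) (hy : ∀ x : X, ξ x = s → f x = y) :
    ∃ (W : S.Opens) (r : W.toScheme ⟶ Y), s ∈ W ∧ (ξ ∣_ W) ≫ r = (ξ ⁻¹ᵁ W).ι ≫ f := by
  obtain ⟨_, ⟨V, hV, rfl⟩, hyV, -⟩ := Y.isBasis_affineOpens.exists_subset_of_mem_open
    (Set.mem_univ y) isOpen_univ
  have hV : IsAffineOpen V := hV
  have hC : IsClosed ((f ⁻¹ᵁ V : Set X)ᶜ) := (f ⁻¹ᵁ V).2.isClosed_compl
  let W : S.Opens := ⟨(ξ '' (f ⁻¹ᵁ V : Set X)ᶜ)ᶜ, (hclosed _ hC).isOpen_compl⟩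
  have hsW : s ∈ W := by
    rintro ⟨x, hxC, hxs⟩
    apply hxC
    change f x ∈ V
    rw [hy x hxs]
    exact hyV
  have hWV : ξ ⁻¹ᵁ W ≤ f ⁻¹ᵁ V := by
    intro x hx
    by_contra hxV
    exact hx ⟨x, hxV, rfl⟩
  have hrange : Set.range ((ξ ⁻¹ᵁ W).ι ≫ f) ⊆ Set.range hV.fromSpec := by
    rw [hV.range_fromSpec]
    rintro _ ⟨x, rfl⟩
    exact hWV x.2
  set φ := IsOpenImmersion.lift hV.fromSpec ((ξ ⁻¹ᵁ W).ι ≫ f) hrange with hφ
  have eφ : φ ≫ hV.fromSpec = (ξ ⁻¹ᵁ W).ι ≫ f := IsOpenImmersion.lift_fac _ _ _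
  set β : Γ(Y, V) ⟶ Γ((ξ ⁻¹ᵁ W).toScheme, ⊤) := (Scheme.ΓSpecIso Γ(Y, V)).inv ≫ φ.appTop with hβ
  have eβ : (ξ ⁻¹ᵁ W).toScheme.toSpecΓ ≫ Spec.map β = φ := toSpec_eq φ
  haveI : IsIso (ξ ∣_ W).appTop :=
    (ConcreteCategory.isIso_iff_bijective _).2 (restrict_appTop_bij ξ h0 W)
  let ρ : Γ(Y, V) ⟶ Γ(W.toScheme, ⊤) := β ≫ inv (ξ ∣_ W).appTop
  have eρ : ρ ≫ (ξ ∣_ W).appTop = β := by
    rw [Category.assoc, IsIso.inv_hom_id, Category.comp_id]
  refine ⟨W, W.toScheme.toSpecΓ ≫ Spec.map ρ ≫ hV.fromSpec, hsW, ?_⟩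
  rw [Scheme.toSpecΓ_naturality_assoc, ← Spec.map_comp_assoc, eρ, ← Category.assoc, eβ, eφ]

lemma local_factor_apply {X Y S : Scheme.{u}} (ξ : X ⟶ S) (f : X ⟶ Y) (W : S.Opens)
    (r : W.toScheme ⟶ Y) (hr : (ξ ∣_ W) ≫ r = (ξ ⁻¹ᵁ W).ι ≫ f) (x : X) (hx : ξ x ∈ W) :
    f x = r ⟨ξ x, hx⟩ := by
  have h1 := congrArg (fun m : (ξ ⁻¹ᵁ W).toScheme ⟶ Y => m ⟨x, hx⟩) hr
  simp only [Scheme.Hom.comp_apply] at h1
  have h2 : (ξ ∣_ W) ⟨x, hx⟩ = ⟨ξ x, hx⟩ := Subtype.ext (morphismRestrict_base_coe ξ W ⟨x, hx⟩)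
  rw [h2] at h1
  exact h1.symm

lemma local_factor_over {X Y S : Scheme.{u}} (ξ : X ⟶ S) (hs : Function.Surjective ξ)
    (hinj : ∀ O : S.Opens, Function.Injective (ξ.app O).hom)
    (v : Y ⟶ S) (f : X ⟶ Y) (hf : f ≫ v = ξ) (W : S.Opens)
    (r : W.toScheme ⟶ Y) (hr : (ξ ∣_ W) ≫ r = (ξ ⁻¹ᵁ W).ι ≫ f) : r ≫ v = W.ι := by
  apply eq_of_surj_inj (ξ ∣_ W) (restrict_surj ξ hs W) (restrict_inj ξ hinj W)
  rw [← Category.assoc, hr, Category.assoc, hf, morphismRestrict_ι]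

/-- two local factorizations agree on overlaps -/
lemma compat {X Y S : Scheme.{u}} (ξ : X ⟶ S) (hs : Function.Surjective ξ)
    (hinj : ∀ O : S.Opens, Function.Injective (ξ.app O).hom) (f : X ⟶ Y)
    (W W' : S.Opens) (r : W.toScheme ⟶ Y) (r' : W'.toScheme ⟶ Y)
    (hr : (ξ ∣_ W) ≫ r = (ξ ⁻¹ᵁ W).ι ≫ f) (hr' : (ξ ∣_ W') ≫ r' = (ξ ⁻¹ᵁ W').ι ≫ f)
    {P : Scheme.{u}} (a : P ⟶ W.toScheme) (a' : P ⟶ W'.toScheme) (haa : a ≫ W.ι = a' ≫ W'.ι) :
    a ≫ r = a' ≫ r' := by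
  set W'' : S.Opens := W ⊓ W' with hW''
  have hrange : Set.range (a ≫ W.ι) ⊆ Set.range W''.ι := by
    rw [Scheme.Opens.range_ι]
    rintro _ ⟨p, rfl⟩
    refine ⟨?_, ?_⟩
    · exact (a p).2
    · rw [haa]; exact (a' p).2
  set b := IsOpenImmersion.lift W''.ι (a ≫ W.ι) hrange with hb
  have eb : b ≫ W''.ι = a ≫ W.ι := IsOpenImmersion.lift_fac _ _ _
  let i : W''.toScheme ⟶ W.toScheme := S.homOfLE inf_le_left
  let i' : W''.toScheme ⟶ W'.toScheme := S.homOfLE inf_le_right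
  have ei : i ≫ W.ι = W''.ι := Scheme.homOfLE_ι _ _
  have ei' : i' ≫ W'.ι = W''.ι := Scheme.homOfLE_ι _ _
  have ea : a = b ≫ i := by
    rw [← cancel_mono W.ι, Category.assoc, ei, eb]
  have ea' : a' = b ≫ i' := by
    rw [← cancel_mono W'.ι, Category.assoc, ei', eb, haa]
  have key : i ≫ r = i' ≫ r' := by
    apply eq_of_surj_inj (ξ ∣_ W'') (restrict_surj ξ hs W'') (restrict_inj ξ hinj W'')
    let j : (ξ ⁻¹ᵁ W'').toScheme ⟶ (ξ ⁻¹ᵁ W).toScheme :=
      X.homOfLE (by intro x hx; exact hx.1)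
    let j' : (ξ ⁻¹ᵁ W'').toScheme ⟶ (ξ ⁻¹ᵁ W').toScheme :=
      X.homOfLE (by intro x hx; exact hx.2)
    have ej : j ≫ (ξ ⁻¹ᵁ W).ι = (ξ ⁻¹ᵁ W'').ι := Scheme.homOfLE_ι _ _
    have ej' : j' ≫ (ξ ⁻¹ᵁ W').ι = (ξ ⁻¹ᵁ W'').ι := Scheme.homOfLE_ι _ _
    have e1 : (ξ ∣_ W'') ≫ i = j ≫ (ξ ∣_ W) := by
      rw [← cancel_mono W.ι, Category.assoc, ei, morphismRestrict_ι, Category.assoc,
        morphismRestrict_ι, ← Category.assoc, ej]
    have e1' : (ξ ∣_ W'') ≫ i' = j' ≫ (ξ ∣_ W') := by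
      rw [← cancel_mono W'.ι, Category.assoc, ei', morphismRestrict_ι, Category.assoc,
        morphismRestrict_ι, ← Category.assoc, ej']
    rw [← Category.assoc, e1, Category.assoc, hr, ← Category.assoc, ej,
      ← Category.assoc, e1', Category.assoc, hr', ← Category.assoc, ej']
  rw [ea, ea', Category.assoc, Category.assoc, key]

lemma surjective_of_geometricallyIntegral {X S : Scheme.{u}} (ξ : X ⟶ S)
    [GeometricallyIntegral ξ] : Function.Surjective ξ := by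
  intro s
  haveI : AlgebraicGeometry.IsIntegral (pullback ξ (S.fromSpecResidueField s)) :=
    GeometricallyIntegral.geometrically_isIntegral (f := ξ) (S.fromSpecResidueField s) _ _
      (IsPullback.of_hasPullback ξ (S.fromSpecResidueField s))
  obtain ⟨q⟩ : Nonempty ↥(pullback ξ (S.fromSpecResidueField s) : Scheme.{u}) := inferInstance
  refine ⟨(pullback.fst ξ (S.fromSpecResidueField s)) q, ?_⟩
  have h1 := congrArg (fun m : pullback ξ (S.fromSpecResidueField s) ⟶ S => m q)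
    (pullback.condition (f := ξ) (g := S.fromSpecResidueField s))
  simp only [Scheme.Hom.comp_apply] at h1
  rw [h1]
  exact Scheme.fromSpecResidueField_apply _ _

theorem main {X Y S : Scheme.{u}} (ξ : X ⟶ S) [IsProper ξ] [GeometricallyIntegral ξ]
    (h0 : ∀ U : S.Opens, Function.Bijective (ξ.app U).hom)
    (v : Y ⟶ S) (f : X ⟶ Y) (hf : f ≫ v = ξ) :
    IsOpen {s : ↥S | ∃ y : ↥Y, ∀ x : ↥X, ξ.base x = s → f.base x = y} ∧
    ∀ (T : Scheme.{u}) (τ : T ⟶ S),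
      ((∃ r : T ⟶ Y, r ≫ v = τ ∧ pullback.fst ξ τ ≫ f = pullback.snd ξ τ ≫ r) ↔
        ∀ t : ↥T, τ.base t ∈ {s : ↥S | ∃ y : ↥Y, ∀ x : ↥X, ξ.base x = s → f.base x = y}) := by
  have hs : Function.Surjective ξ := surjective_of_geometricallyIntegral ξ
  have hinj : ∀ O : S.Opens, Function.Injective (ξ.app O).hom := fun O => (h0 O).1
  have hclosed : IsClosedMap ξ := ξ.isClosedMap
  set 𝒰 : Set S := {s : ↥S | ∃ y : ↥Y, ∀ x : ↥X, ξ.base x = s → f.base x = y} with h𝒰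
  have loc : ∀ s ∈ 𝒰, ∃ (W : S.Opens) (r : W.toScheme ⟶ Y), s ∈ W ∧
      (ξ ∣_ W) ≫ r = (ξ ⁻¹ᵁ W).ι ≫ f := by
    rintro s ⟨y, hy⟩
    exact local_factor ξ hclosed h0 f s y hy
  have sub : ∀ (W : S.Opens) (r : W.toScheme ⟶ Y), (ξ ∣_ W) ≫ r = (ξ ⁻¹ᵁ W).ι ≫ f →
      (W : Set S) ⊆ 𝒰 := by
    intro W r hr s' hs'
    refine ⟨r ⟨s', hs'⟩, fun x hx => ?_⟩
    subst hx
    exact local_factor_apply ξ f W r hr x hs'
  refine ⟨?_, ?_⟩
  · rw [isOpen_iff_forall_mem_open]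
    intro s hsU
    obtain ⟨W, r, hsW, hr⟩ := loc s hsU
    exact ⟨W, sub W r hr, W.2, hsW⟩
  · intro T τ
    constructor
    · rintro ⟨r, hrv, hrf⟩ t
      refine ⟨r t, fun x hx => ?_⟩
      obtain ⟨q, hq1, hq2⟩ := Scheme.Pullback.exists_preimage_pullback x t hx
      have h1 := congrArg (fun m : pullback ξ τ ⟶ Y => m q) hrf
      simp only [Scheme.Hom.comp_apply] at h1
      rw [hq1, hq2] at h1
      exact h1
    · intro h
      choose W r hsW hr using fun t => loc (τ t) (h t)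
      let O : T → T.Opens := fun t => τ ⁻¹ᵁ W t
      have hcov : ⨆ t, O t = ⊤ := by
        rw [eq_top_iff]
        intro t _
        exact TopologicalSpace.Opens.mem_iSup.mpr ⟨t, hsW t⟩
      let 𝒯 := T.openCoverOfIsOpenCover O (TopologicalSpace.IsOpenCover.mk hcov)
      let g : ∀ t : T, (O t).toScheme ⟶ Y := fun t => (τ ∣_ W t) ≫ r t
      have hglue : ∀ t t' : T, pullback.fst ((O t).ι) ((O t').ι) ≫ g t =
          pullback.snd ((O t).ι) ((O t').ι) ≫ g t' := by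
        intro t t'
        change (pullback.fst ((O t).ι) ((O t').ι) ≫ (τ ∣_ W t)) ≫ r t =
          (pullback.snd ((O t).ι) ((O t').ι) ≫ (τ ∣_ W t')) ≫ r t'
        apply compat ξ hs hinj f (W t) (W t') (r t) (r t') (hr t) (hr t')
        rw [Category.assoc, Category.assoc, morphismRestrict_ι, morphismRestrict_ι,
          ← Category.assoc, ← Category.assoc, pullback.condition]
      let rT : T ⟶ Y := 𝒯.glueMorphisms g hglue
      have hrT : ∀ t : T, (O t).ι ≫ rT = g t := fun t => 𝒯.ι_glueMorphisms g hglue t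
      refine ⟨rT, ?_, ?_⟩
      · refine 𝒯.hom_ext _ _ fun (t : T) => ?_
        change (O t).ι ≫ rT ≫ v = (O t).ι ≫ τ
        rw [← Category.assoc, hrT]
        change ((τ ∣_ W t) ≫ r t) ≫ v = _
        rw [Category.assoc, local_factor_over ξ hs hinj v f hf (W t) (r t) (hr t),
          morphismRestrict_ι]
      · let Qo : T → (pullback ξ τ).Opens := fun t => (pullback.snd ξ τ) ⁻¹ᵁ O t
        have hQcov : ⨆ t, Qo t = ⊤ := by
          rw [eq_top_iff]
          intro q _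
          exact TopologicalSpace.Opens.mem_iSup.mpr ⟨(pullback.snd ξ τ) q, hsW _⟩
        let 𝒬 := (pullback ξ τ).openCoverOfIsOpenCover Qo (TopologicalSpace.IsOpenCover.mk hQcov)
        refine 𝒬.hom_ext _ _ fun (t : T) => ?_
        change (Qo t).ι ≫ pullback.fst ξ τ ≫ f = (Qo t).ι ≫ pullback.snd ξ τ ≫ rT
        have hrange : Set.range ((Qo t).ι ≫ pullback.fst ξ τ) ⊆ Set.range (ξ ⁻¹ᵁ W t).ι := by
          rw [Scheme.Opens.range_ι]
          rintro _ ⟨q, rfl⟩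
          change ξ ((pullback.fst ξ τ) q.1) ∈ W t
          have h1 := congrArg (fun m : pullback ξ τ ⟶ S => m q.1)
            (pullback.condition (f := ξ) (g := τ))
          simp only [Scheme.Hom.comp_apply] at h1
          rw [h1]
          exact q.2
        set c := IsOpenImmersion.lift (ξ ⁻¹ᵁ W t).ι ((Qo t).ι ≫ pullback.fst ξ τ) hrange with hc
        have ec : c ≫ (ξ ⁻¹ᵁ W t).ι = (Qo t).ι ≫ pullback.fst ξ τ :=
          IsOpenImmersion.lift_fac _ _ _
        have e1 : c ≫ (ξ ∣_ W t) = (pullback.snd ξ τ ∣_ O t) ≫ (τ ∣_ W t) := by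
          rw [← cancel_mono (W t).ι, Category.assoc, Category.assoc, morphismRestrict_ι,
            morphismRestrict_ι, ← Category.assoc, ec, ← Category.assoc, morphismRestrict_ι,
            Category.assoc, Category.assoc, pullback.condition]
        calc (Qo t).ι ≫ pullback.fst ξ τ ≫ f
            = c ≫ (ξ ⁻¹ᵁ W t).ι ≫ f := by rw [← Category.assoc, ← ec, Category.assoc]
          _ = c ≫ (ξ ∣_ W t) ≫ r t := by rw [hr t]
          _ = (pullback.snd ξ τ ∣_ O t) ≫ (τ ∣_ W t) ≫ r t := by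
              rw [← Category.assoc, e1, Category.assoc]
          _ = (pullback.snd ξ τ ∣_ O t) ≫ (O t).ι ≫ rT := by rw [hrT]
          _ = (Qo t).ι ≫ pullback.snd ξ τ ≫ rT := by
              rw [← Category.assoc, morphismRestrict_ι, Category.assoc]

end Groth.Agent.Lib.Helper26.FibContr
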