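import Mathlib

set_option autoImplicit false
universe u

namespace Groth.Agent.Lib.Helper26.FibFinA

theorem eq_of_le_of_isAlgebraic {A B : Type u} [CommRing A] [CommRing B] [Algebra A B]
    (q₁ q₂ : Ideal B) [q₁.IsPrime] [q₂.IsPrime] (h : q₁ ≤ q₂)
    (hc : q₂.under A ≤ q₁.under A)
    (halg : Algebra.IsAlgebraic (A ⧸ q₁.under A) (B ⧸ q₁)) : q₁ = q₂ := by
  by_contra hne
  obtain ⟨b, hb2, hb1⟩ := SetLike.exists_of_lt (lt_of_le_of_ne h hne)
  set I : Ideal (B ⧸ q₁) := q₂.map (Ideal.Quotient.mk q₁) with hI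
  have hx0 : Ideal.Quotient.mk q₁ b ≠ 0 := by
    rwa [Ne, Ideal.Quotient.eq_zero_iff_mem]
  have hxI : Ideal.Quotient.mk q₁ b ∈ I := Ideal.mem_map_of_mem _ hb2
  have hne' := Ideal.comap_ne_bot_of_algebraic_mem (R := A ⧸ q₁.under A) hx0 hxI
    (halg.isAlgebraic _)
  obtain ⟨a', ha'I, ha'0⟩ := (Submodule.ne_bot_iff _).mp hne'
  obtain ⟨a, rfl⟩ := Ideal.Quotient.mk_surjective a'
  apply ha'0
  rw [Ideal.Quotient.eq_zero_iff_mem]
  apply hc
  rw [Ideal.mem_comap] at ha'I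
  have e : algebraMap (A ⧸ q₁.under A) (B ⧸ q₁) (Ideal.Quotient.mk _ a) =
      Ideal.Quotient.mk q₁ (algebraMap A B a) := rfl
  rw [e, hI, Ideal.mem_quotient_iff_mem h] at ha'I
  exact ha'I

theorem finite_fibre_of_antichain {A B : Type u} [CommRing A] [CommRing B] [Algebra A B]
    [Algebra.FiniteType A B] (p : PrimeSpectrum A)
    (hanti : ∀ q₁ q₂ : PrimeSpectrum B, q₁.comap (algebraMap A B) = p →
      q₂.comap (algebraMap A B) = p → q₁ ≤ q₂ → q₁ = q₂) :
    (PrimeSpectrum.comap (algebraMap A B) ⁻¹' {p}).Finite := by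
  let e := PrimeSpectrum.preimageOrderIsoFiber A B p
  haveI : IsNoetherianRing (p.asIdeal.Fiber B) :=
    Algebra.FiniteType.isNoetherianRing p.asIdeal.ResidueField _
  have hmin : ∀ P : PrimeSpectrum (p.asIdeal.Fiber B), P.asIdeal ∈ minimalPrimes (p.asIdeal.Fiber B) := by
    intro P
    obtain ⟨P₀, hP₀, hle⟩ := Ideal.exists_minimalPrimes_le (bot_le : ⊥ ≤ P.asIdeal)
    let P₀' : PrimeSpectrum (p.asIdeal.Fiber B) := ⟨P₀, hP₀.1.1⟩
    have h1 : e.symm P₀' ≤ e.symm P := e.symm.monotone hle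
    have h2 : (e.symm P₀').1 = (e.symm P).1 :=
      hanti _ _ (e.symm P₀').2 (e.symm P).2 h1
    have h3 : P₀' = P := e.symm.injective (Subtype.ext h2)
    rw [← h3]
    exact hP₀
  have hfin : (minimalPrimes (p.asIdeal.Fiber B)).Finite :=
    minimalPrimes.finite_of_isNoetherianRing _
  haveI : Finite (PrimeSpectrum (p.asIdeal.Fiber B)) := by
    haveI := hfin.to_subtype
    refine Finite.of_injective (fun P => (⟨P.asIdeal, hmin P⟩ : minimalPrimes (p.asIdeal.Fiber B))) ?_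
    intro P Q hPQ
    exact PrimeSpectrum.ext (congrArg Subtype.val hPQ)
  rw [← Set.finite_coe_iff]
  exact Finite.of_equiv _ e.symm.toEquiv

end Groth.Agent.Lib.Helper26.FibFinA
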