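import Mathlib
import Groth.Agent.Lib.Helper18.SchDim2
import Groth.Agent.Lib.Helper16.LocNoeth
import Groth.Agent.Lib.Helper12.SchDense
import Groth.Agent.Lib.Helper9.DedFlat

set_option autoImplicit false
universe u

open CategoryTheory AlgebraicGeometry TopologicalSpace

namespace Groth.Agent.Lib.Helper26.FibFinB

/-- In a locally Noetherian scheme a dense open contains the generic points of the
irreducible components. -/
theorem mem_of_closure_mem_irreducibleComponents (Y : Scheme.{u}) [IsLocallyNoetherian Y]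
    (O : Y.Opens) (hO : Dense (O : Set Y)) (ξ : Y)
    (hξ : closure ({ξ} : Set Y) ∈ irreducibleComponents Y) : ξ ∈ O := by
  have hfin : ∀ x : Y, ∃ W : Set Y, IsOpen W ∧ x ∈ W ∧
      {Z ∈ irreducibleComponents Y | (Z ∩ W).Nonempty}.Finite := by
    intro x
    obtain ⟨_, ⟨W, hW, rfl⟩, hxW, -⟩ :=
      Y.isBasis_affineOpens.exists_subset_of_mem_open (Set.mem_univ x) isOpen_univ
    haveI : IsNoetherianRing Γ(Y, W) := IsLocallyNoetherian.component_noetherian ⟨W, hW⟩
    haveI : NoetherianSpace (W : Set Y) := noetherianSpace_of_isAffineOpen W hW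
    exact ⟨W, W.2, hxW, Groth.Agent.Lib.Helper16.finite_irreducibleComponents_meeting W.2⟩
  obtain ⟨v, hvO, hvZ⟩ :=
    Groth.Agent.Lib.Helper12.SchDense.inter_nonempty_of_dense_of_mem_irreducibleComponents
      hfin hO hξ
  have h1 : ξ ⤳ v := specializes_iff_mem_closure.mpr hvZ
  exact h1.mem_open O.2 hvO

/-- Over the locus where `f` is an isomorphism, residue field extensions are trivial. -/
theorem trdeg_eq_zero_of_mem {X Y : Scheme.{u}} (f : Y ⟶ X) (U : X.Opens) [IsIso (f ∣_ U)]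
    (ξ : Y) (hξ : ξ ∈ f ⁻¹ᵁ U) :
    @Algebra.trdeg (X.residueField (f ξ)) (Y.residueField ξ) _ _
      (f.residueFieldMap ξ).hom.toAlgebra = 0 := by
  letI := (f.residueFieldMap ξ).hom.toAlgebra
  have hj : (f ⁻¹ᵁ U).ι ≫ f = (f ∣_ U) ≫ U.ι := (morphismRestrict_ι f U).symm
  haveI : IsOpenImmersion ((f ⁻¹ᵁ U).ι ≫ f) := by rw [hj]; infer_instance
  let ξ' : (f ⁻¹ᵁ U).toScheme := ⟨ξ, hξ⟩
  have h1 : ((f ⁻¹ᵁ U).ι ≫ f).residueFieldMap ξ' =
      f.residueFieldMap ((f ⁻¹ᵁ U).ι ξ') ≫ (f ⁻¹ᵁ U).ι.residueFieldMap ξ' :=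
    Scheme.residueFieldMap_comp _ _ _
  have h0 : IsIso (((f ⁻¹ᵁ U).ι ≫ f).residueFieldMap ξ') := inferInstance
  rw [h1] at h0
  haveI : IsIso (f.residueFieldMap ((f ⁻¹ᵁ U).ι ξ')) :=
    @IsIso.of_isIso_comp_right _ _ _ _ _ (f.residueFieldMap ((f ⁻¹ᵁ U).ι ξ'))
      ((f ⁻¹ᵁ U).ι.residueFieldMap ξ') inferInstance h0
  have hsurj : Function.Surjective (f.residueFieldMap ξ).hom :=
    (ConcreteCategory.bijective_of_isIso (f.residueFieldMap ((f ⁻¹ᵁ U).ι ξ'))).2
  haveI : Algebra.IsAlgebraic (X.residueField (f ξ)) (Y.residueField ξ) := by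
    constructor
    intro z
    obtain ⟨w, rfl⟩ := hsurj z
    exact isAlgebraic_algebraMap w
  exact _root_.trdeg_eq_zero

end Groth.Agent.Lib.Helper26.FibFinB

namespace Groth.Agent.Lib.Helper26.FibFinB

open Groth.Agent.Lib.Helper18.SchDim

/-- all residue field extensions over a point of codimension `≤ 1` are algebraic -/
theorem trdeg_fibre_eq_zero {X Y : Scheme.{u}} [IsLocallyNoetherian X] [IsLocallyNoetherian Y]
    (f : Y ⟶ X) [LocallyOfFiniteType f] (U : X.Opens)
    (hU' : Dense ((f ⁻¹ᵁ U : Y.Opens) : Set Y)) (hiso : IsIso (f ∣_ U)) (y : Y)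
    (hdim : ringKrullDim (X.presheaf.stalk (f y)) ≤ 1) :
    @Algebra.trdeg (X.residueField (f y)) (Y.residueField y) _ _
      (f.residueFieldMap y).hom.toAlgebra = 0 := by
  obtain ⟨n, hn⟩ := exists_nat_trdeg_residueField f y
  have hE : ∀ ξ : Y, closure {ξ} ∈ irreducibleComponents ↥Y → ξ ⤳ y →
      @Algebra.trdeg (X.residueField (f ξ)) (Y.residueField ξ) _ _
        (f.residueFieldMap ξ).hom.toAlgebra ≤ ((0 : ℕ) : Cardinal) := by
    intro ξ hξ _
    rw [trdeg_eq_zero_of_mem f U ξ (mem_of_closure_mem_irreducibleComponents Y _ hU' ξ hξ)]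
    simp
  have h1 := stalk_dim_inequality f y n 0 hn hE
  rcases Nat.eq_zero_or_pos n with h0 | hpos
  · rw [hn, h0]; simp
  · exfalso
    -- dim O_{Y,y} ≤ 0
    have h2 : ringKrullDim (Y.presheaf.stalk y) + (n : WithBot ℕ∞) ≤ 1 := by
      refine h1.trans ?_
      simpa using hdim
    have hnn : (0 : WithBot ℕ∞) ≤ ringKrullDim (Y.presheaf.stalk y) :=
      ringKrullDim_nonneg_of_nontrivial
    have h3 : ringKrullDim (Y.presheaf.stalk y) ≤ 0 := by
      obtain ⟨m, hm⟩ := WithBot.ne_bot_iff_exists.mp (ne_bot_of_le_ne_bot (by simp) hnn)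
      rw [← hm] at h2 ⊢
      have h4 : ((m + (n : ℕ∞) : ℕ∞) : WithBot ℕ∞) ≤ ((1 : ℕ∞) : WithBot ℕ∞) := by
        simpa using h2
      rw [WithBot.coe_le_coe] at h4
      have h5 : m ≤ 0 := by
        induction m using ENat.recTopCoe with
        | top => simp at h4
        | coe k =>
          have : (k + n : ℕ) ≤ 1 := by exact_mod_cast h4
          have : k = 0 := by omega
          simp [this]
      exact_mod_cast h5
    have hgen : ∀ ξ' : Y, ξ' ⤳ y → ξ' = y := by
      intro ξ' hξ'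
      rw [ringKrullDim_stalk_eq_coheight] at h3
      have h6 : Order.coheight y = 0 := by
        have : (Order.coheight y : WithBot ℕ∞) ≤ ((0 : ℕ∞) : WithBot ℕ∞) := by simpa using h3
        rw [WithBot.coe_le_coe] at this
        exact le_antisymm this bot_le
      rw [Order.coheight_eq_zero] at h6
      have h7 : y ⤳ ξ' := h6 hξ'
      exact (hξ'.antisymm h7).eq
    have hcomp := Groth.Agent.Lib.Helper9.DedFlat.closure_mem_irreducibleComponents y hgen
    have h8 := trdeg_eq_zero_of_mem f U y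
      (mem_of_closure_mem_irreducibleComponents Y _ hU' y hcomp)
    rw [hn] at h8
    have : n = 0 := by exact_mod_cast h8
    omega

end Groth.Agent.Lib.Helper26.FibFinB
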