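import Mathlib
import Groth.Agent.Lib.Helper26.FibFinA
import Groth.Agent.Lib.Helper26.FibFinB

set_option autoImplicit false
universe u

open CategoryTheory AlgebraicGeometry TopologicalSpace

namespace Groth.Agent.Lib.Helper26.FibFinC

open Groth.Agent.Lib.Helper26 Groth.Agent.Lib.Helper18.SchDim

/-- affine piece -/
theorem finite_inter_affine {X Y : Scheme.{u}} [IsLocallyNoetherian X] [IsLocallyNoetherian Y]
    (f : Y ⟶ X) [LocallyOfFiniteType f] (U : X.Opens)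
    (hU' : Dense ((f ⁻¹ᵁ U : Y.Opens) : Set Y)) (hiso : IsIso (f ∣_ U))
    (x : X) (hx : ringKrullDim (X.presheaf.stalk x) ≤ 1)
    {V : X.Opens} (hV : IsAffineOpen V) (hxV : x ∈ V) {W : Y.Opens} (hW : IsAffineOpen W)
    (e : W ≤ f ⁻¹ᵁ V) : (f.base ⁻¹' {x} ∩ (W : Set Y)).Finite := by
  letI : Algebra Γ(X, V) Γ(Y, W) := (f.appLE V W e).hom.toAlgebra
  haveI : Algebra.FiniteType Γ(X, V) Γ(Y, W) :=
    HasRingHomProperty.appLE (P := @LocallyOfFiniteType) f inferInstance ⟨V, hV⟩ ⟨W, hW⟩ e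
  let p : PrimeSpectrum Γ(X, V) := hV.primeIdealOf ⟨x, hxV⟩
  have hfin : (PrimeSpectrum.comap (algebraMap Γ(X, V) Γ(Y, W)) ⁻¹' {p}).Finite := by
    apply FibFinA.finite_fibre_of_antichain
    intro q₁ q₂ h1 h2 hle
    -- points
    let y₁ : Y := hW.fromSpec q₁
    have hy₁W : y₁ ∈ W := (hW.isoSpec.inv _).2
    have hq₁ : hW.primeIdealOf ⟨y₁, hy₁W⟩ = q₁ :=
      hW.fromSpec.isOpenEmbedding.injective (hW.fromSpec_primeIdealOf ⟨y₁, hy₁W⟩)
    have hfy₁ : f y₁ = x := by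
      have h3 := comap_primeIdealOf f hW hV e y₁ hy₁W
      rw [hq₁] at h3
      have h4 : hV.primeIdealOf ⟨f y₁, e hy₁W⟩ = hV.primeIdealOf ⟨x, hxV⟩ := by
        apply PrimeSpectrum.ext
        rw [← h3]
        exact congrArg PrimeSpectrum.asIdeal h1
      have h5 := congrArg hV.fromSpec h4
      rw [hV.fromSpec_primeIdealOf, hV.fromSpec_primeIdealOf] at h5
      exact h5
    have htr := FibFinB.trdeg_fibre_eq_zero f U hU' hiso y₁ (by rw [hfy₁]; exact hx)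
    rw [trdeg_residueField f hW hV e y₁ hy₁W, hq₁] at htr
    haveI : (q₁.asIdeal.under Γ(X, V)).IsPrime := Ideal.comap_isPrime _ _
    have halg : Algebra.IsAlgebraic (Γ(X, V) ⧸ q₁.asIdeal.under Γ(X, V)) (Γ(Y, W) ⧸ q₁.asIdeal) :=
      trdeg_eq_zero_iff.mp htr
    apply PrimeSpectrum.ext
    refine FibFinA.eq_of_le_of_isAlgebraic q₁.asIdeal q₂.asIdeal hle ?_ halg
    have e1 : q₁.asIdeal.under Γ(X, V) = p.asIdeal := congrArg PrimeSpectrum.asIdeal h1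
    have e2 : q₂.asIdeal.under Γ(X, V) = p.asIdeal := congrArg PrimeSpectrum.asIdeal h2
    rw [e1, e2]
  refine (hfin.image hW.fromSpec).subset ?_
  rintro y ⟨hy1, hy2⟩
  refine ⟨hW.primeIdealOf ⟨y, hy2⟩, ?_, hW.fromSpec_primeIdealOf ⟨y, hy2⟩⟩
  show PrimeSpectrum.comap (algebraMap Γ(X, V) Γ(Y, W)) (hW.primeIdealOf ⟨y, hy2⟩) = p
  apply PrimeSpectrum.ext
  have h3 := comap_primeIdealOf f hW hV e y hy2
  show (hW.primeIdealOf ⟨y, hy2⟩).asIdeal.comap (algebraMap Γ(X, V) Γ(Y, W)) = p.asIdeal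
  rw [show algebraMap Γ(X, V) Γ(Y, W) = (f.appLE V W e).hom from rfl, h3]
  have hfy : f y = x := hy1
  simp only [p]
  congr 2
  exact Subtype.ext hfy

end Groth.Agent.Lib.Helper26.FibFinC

namespace Groth.Agent.Lib.Helper26.FibFinC

theorem main_13532 {X Y : Scheme.{u}}
    [IsLocallyNoetherian X] [IsLocallyNoetherian Y] (f : Y ⟶ X) [LocallyOfFiniteType f] [QuasiCompact f]
    (U : X.Opens) (hU : Dense (U : Set X)) (hU' : Dense ((f ⁻¹ᵁ U : Y.Opens) : Set Y)) (hiso : IsIso (f ∣_ U))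
    (x : X) (hx : ringKrullDim (X.presheaf.stalk x) ≤ 1) :
    (f.base ⁻¹' {x}).Finite := by
  obtain ⟨_, ⟨V, hV, rfl⟩, hxV, -⟩ :=
    X.isBasis_affineOpens.exists_subset_of_mem_open (Set.mem_univ x) isOpen_univ
  have hc : IsCompact ((f ⁻¹ᵁ V : Y.Opens) : Set Y) := f.isCompact_preimage hV.isCompact
  obtain ⟨s, hs, hsU⟩ := isCompact_iff_finite_and_eq_biUnion_affineOpens.mp hc
  have hsub : f.base ⁻¹' {x} ⊆ ⋃ W ∈ s, (f.base ⁻¹' {x} ∩ ((W : Y.Opens) : Set Y)) := by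
    intro y hy
    have hyV : y ∈ f ⁻¹ᵁ V := by
      show f y ∈ V
      have : f y = x := hy
      rw [this]; exact hxV
    rw [hsU] at hyV
    simp only [Opens.mem_iSup] at hyV
    obtain ⟨W, hW, hyW⟩ := hyV
    exact Set.mem_biUnion hW ⟨hy, hyW⟩
  refine (hs.biUnion fun W hW => ?_).subset hsub
  have e : (W : Y.Opens) ≤ f ⁻¹ᵁ V := by
    rw [hsU]
    exact le_iSup₂ (f := fun (i : Y.affineOpens) (_ : i ∈ s) => (i : Y.Opens)) W hW
  exact finite_inter_affine f U hU' hiso x hx hV hxV W.2 e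

end Groth.Agent.Lib.Helper26.FibFinC
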