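import Mathlib
import Groth.Agent.Lib.Helper26.FibFinC
import Groth.Agent.Lib.Helper29.VA7

set_option autoImplicit false
universe u

open CategoryTheory AlgebraicGeometry TopologicalSpace

namespace Groth.Agent.Lib.Helper26.FibFinD

open Groth.Agent.Lib.Helper26

theorem isIso_iSup {X Y : Scheme.{u}} (f : X ⟶ Y) {ι : Type u} (V : ι → Y.Opens)
    (hV : ∀ i, IsIso (f ∣_ V i)) : IsIso (f ∣_ ⨆ i, V i) := by
  let 𝒰 := Scheme.Opens.iSupOpenCover V
  refine (IsZariskiLocalAtTarget.iff_of_openCover (P := .isomorphisms _) 𝒰).mpr fun x ↦ ?_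
  refine (MorphismProperty.arrow_mk_iso_iff (.isomorphisms _)
      ((morphismRestrictRestrict ..).symm ≪≫ morphismRestrictOpensRange ..)).mp ?_
  have : Scheme.Opens.ι _ ''ᵁ (𝒰.f x).opensRange = V x := by
    simp only [Scheme.Opens.iSupOpenCover, 𝒰, ← Scheme.Hom.opensRange_comp, Scheme.homOfLE_ι,
      Scheme.Opens.opensRange_ι]
  convert! hV x

theorem bijective_app_restrict {X Y : Scheme.{u}} (f : X ⟶ Y)
    (hb : ∀ U : Y.Opens, Function.Bijective (f.app U)) (V : Y.Opens) (W : V.toScheme.Opens) :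
    Function.Bijective ((f ∣_ V).app W) := by
  have e := morphismRestrict_app f V W
  have h1 := hb (V.ι ''ᵁ W)
  have h2 : Function.Bijective (X.presheaf.map
      (eqToHom (image_morphismRestrict_preimage f V W)).op) :=
    ConcreteCategory.bijective_of_isIso _
  have key : ∀ a, ((f ∣_ V).app W).hom a =
      (X.presheaf.map (eqToHom (image_morphismRestrict_preimage f V W)).op).hom
        ((f.app (V.ι ''ᵁ W)).hom a) := by
    intro a
    rw [e]
    rfl
  have h3 := h2.comp h1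
  refine ⟨fun a b hab => h3.1 ?_, fun c => ?_⟩
  · exact ((key a).symm.trans hab).trans (key b)
  · obtain ⟨a, ha⟩ := h3.2 c
    exact ⟨a, (key a).trans ha⟩

theorem isIso_of_isAffineHom_of_bijective {X Y : Scheme.{u}} (h : X ⟶ Y) [IsAffineHom h]
    (hb : ∀ U : Y.Opens, Function.Bijective (h.app U)) : IsIso h := by
  have key : (MorphismProperty.isomorphisms Scheme) h := by
    rw [HasAffineProperty.eq_targetAffineLocally (P := MorphismProperty.isomorphisms Scheme)]
    intro U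
    refine ⟨?_, ?_⟩
    · exact IsAffineHom.isAffine_preimage (f := h) U.1 U.2
    · have h1 := bijective_app_restrict h hb U.1 ⊤
      exact (ConcreteCategory.isIso_iff_bijective _).mpr h1
  exact key

end Groth.Agent.Lib.Helper26.FibFinD

namespace Groth.Agent.Lib.Helper26.FibFinD

open Groth.Agent.Lib.Helper26

theorem main_7899 {X Y : Scheme.{u}} [IsNoetherian X] [IsNoetherian Y]
    [IsIntegral X] [IsIntegral Y] (f : X ⟶ Y)
    (n : ℕ) (i : X ⟶ CohB1.ProjSpaceOver n Y) [IsClosedImmersion i] (hi : i ≫ CohB1.ProjSpaceOver.toBase n Y = f)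
    (hbir : ∃ U : Y.Opens, (U : Set Y).Nonempty ∧ IsIso (f ∣_ U))
    (hO : ∀ U : Y.Opens, Function.Bijective (f.app U)) :
    ∃ V : Y.Opens, IsIso (f ∣_ V) ∧ ∀ y : Y, y ∉ (V : Set Y) → 2 ≤ ringKrullDim (Y.presheaf.stalk y) := by
  haveI : IsProper (CohB1.ProjSpaceOver.toBase n Y) :=
    Groth.Agent.Lib.Helper29.QCoh.isProper_toBase n Y
  haveI : IsProper f := by rw [← hi]; infer_instance
  obtain ⟨U₀, hU₀ne, hU₀iso⟩ := hbir
  have hU₀d : Dense (U₀ : Set Y) := U₀.2.dense hU₀ne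
  have hU₀d' : Dense ((f ⁻¹ᵁ U₀ : X.Opens) : Set X) := by
    refine (f ⁻¹ᵁ U₀).2.dense ?_
    obtain ⟨u, hu⟩ := hU₀ne
    obtain ⟨z, hz⟩ := (ConcreteCategory.bijective_of_isIso (f ∣_ U₀).base).2 ⟨u, hu⟩
    exact ⟨z.1, z.2⟩
  let I := {V' : Y.Opens // IsIso (f ∣_ V')}
  refine ⟨⨆ j : I, j.1, isIso_iSup f (fun j : I => j.1) (fun j => j.2), ?_⟩
  intro y hy
  by_contra hlt
  rw [not_le] at hlt
  have hdim : ringKrullDim (Y.presheaf.stalk y) ≤ 1 := by
    rw [← one_add_one_eq_two] at hlt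
    exact ENat.WithBot.lt_add_one_iff.mp hlt
  have hfin := FibFinC.main_13532 f U₀ hU₀d hU₀d' hU₀iso y hdim
  obtain ⟨V', hyV', hV'⟩ := exists_isFinite_morphismRestrict_of_finite_preimage_singleton f y hfin
  haveI := hV'
  have hiso : IsIso (f ∣_ V') :=
    isIso_of_isAffineHom_of_bijective (f ∣_ V') (bijective_app_restrict f hO V')
  apply hy
  simp only [Opens.coe_iSup, Set.mem_iUnion, SetLike.mem_coe]
  exact ⟨⟨V', hiso⟩, hyV'⟩

end Groth.Agent.Lib.Helper26.FibFinD
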