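import Mathlib

set_option autoImplicit false

universe u v u₂ v₂

namespace Groth.Agent.Lib.Helper26

open CategoryTheory CategoryTheory.Functor Opposite

variable {C : Type u} [Category.{v} C] {𝒳 : Type u₂} [Category.{v₂} 𝒳] (p : 𝒳 ⥤ C)

theorem isHomLift_op_iff {R S : C} {a b : 𝒳} (f : R ⟶ S) (φ : a ⟶ b) :
    p.op.IsHomLift f.op φ.op ↔ p.IsHomLift f φ := by
  constructor
  · intro h
    have h1 : p.obj b = S := Opposite.op_injective (IsHomLift.domain_eq p.op f.op φ.op)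
    have h2 : p.obj a = R := Opposite.op_injective (IsHomLift.codomain_eq p.op f.op φ.op)
    subst h1 h2
    have h3 : f.op = p.op.map φ.op := IsHomLift.eq_of_isHomLift p.op f.op φ.op
    have h4 : f = p.map φ := Quiver.Hom.op_inj h3
    subst h4
    infer_instance
  · intro h
    cases h
    exact Functor.IsHomLift.map (p := p.op) φ.op

theorem isHomLift_op_iff' {R S : Cᵒᵖ} {a b : 𝒳ᵒᵖ} (f : R ⟶ S) (φ : a ⟶ b) :
    p.op.IsHomLift f φ ↔ p.IsHomLift f.unop φ.unop :=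
  isHomLift_op_iff p f.unop φ.unop

/-- If `p` is fibered and `p.op` is prefibered, then `p.op` is fibered. -/
theorem op_isFibered_of_isFibered [p.IsFibered] [p.op.IsPreFibered] : p.op.IsFibered := by
  apply Functor.IsFibered.of_exists_isStronglyCartesian
  intro a' R' f'
  obtain ⟨b', φ', hφ'⟩ := Functor.IsPreFibered.exists_isCartesian' (p := p.op) f'
  refine ⟨b', φ', ⟨?_⟩⟩
  intro c' g' φ'' hφ''
  -- the cartesian lift of `g'.unop` in `p`
  obtain ⟨d, ψ, hψ⟩ := Functor.IsPreFibered.exists_isCartesian' (p := p) g'.unop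
  have hφ''u : p.IsHomLift (f'.unop ≫ g'.unop) φ''.unop := (isHomLift_op_iff' p _ _).mp hφ''
  let τ := IsStronglyCartesian.map p g'.unop ψ (f' := f'.unop ≫ g'.unop) rfl φ''.unop
  have hτ : p.IsHomLift f'.unop τ := IsStronglyCartesian.map_isHomLift p g'.unop ψ rfl φ''.unop
  have hτfac : τ ≫ ψ = φ''.unop := IsStronglyCartesian.fac p g'.unop ψ rfl φ''.unop
  have hτop : p.op.IsHomLift f' τ.op := (isHomLift_op_iff p f'.unop τ).mpr hτ
  let σ' := IsCartesian.map p.op f' φ' τ.op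
  have hσ' : p.op.IsHomLift (𝟙 R') σ' := IsCartesian.map_isHomLift p.op f' φ' τ.op
  have hσ'fac : σ' ≫ φ' = τ.op := IsCartesian.fac p.op f' φ' τ.op
  have hψop : p.op.IsHomLift g' ψ.op := (isHomLift_op_iff p g'.unop ψ).mpr inferInstance
  refine ⟨ψ.op ≫ σ', ⟨inferInstance, ?_⟩, ?_⟩
  · rw [Category.assoc, hσ'fac, ← op_comp, hτfac, Quiver.Hom.op_unop]
  · rintro π ⟨hπ, hπfac⟩
    have hπu : p.IsHomLift g'.unop π.unop := (isHomLift_op_iff' p g' π).mp hπ
    let σ₀ := IsCartesian.map p g'.unop ψ π.unop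
    have hσ₀ : p.IsHomLift (𝟙 _) σ₀ := IsCartesian.map_isHomLift p g'.unop ψ π.unop
    have hσ₀fac : σ₀ ≫ ψ = π.unop := IsCartesian.fac p g'.unop ψ π.unop
    have hφ'u : p.IsHomLift f'.unop φ'.unop := (isHomLift_op_iff' p f' φ').mp inferInstance
    have h1 : φ'.unop ≫ σ₀ = τ := by
      apply IsStronglyCartesian.map_uniq p g'.unop ψ rfl φ''.unop
      rw [Category.assoc, hσ₀fac, ← unop_comp, hπfac]
    have hσ₀op : p.op.IsHomLift (𝟙 R') σ₀.op :=
      (isHomLift_op_iff p (𝟙 R'.unop) σ₀).mpr hσ₀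
    have h2 : σ₀.op = σ' := by
      apply IsCartesian.map_uniq p.op f' φ' τ.op
      rw [← h1, op_comp, Quiver.Hom.op_unop]
    rw [← h2, ← op_comp, hσ₀fac, Quiver.Hom.op_unop]

/-- If `p.op` is fibered and `p` is prefibered, then `p` is fibered. -/
theorem isFibered_of_op_isFibered [p.op.IsFibered] [p.IsPreFibered] : p.IsFibered := by
  apply Functor.IsFibered.of_exists_isStronglyCartesian
  intro a R f
  obtain ⟨b, φ, hφ⟩ := Functor.IsPreFibered.exists_isCartesian' (p := p) f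
  refine ⟨b, φ, ⟨?_⟩⟩
  intro c g φ'' hφ''
  -- the cartesian lift of `g.op` in `p.op`
  obtain ⟨d', ψ', hψ'⟩ := Functor.IsPreFibered.exists_isCartesian' (p := p.op) (a := op c) g.op
  have hφ''o : p.op.IsHomLift (f.op ≫ g.op) φ''.op := by
    rw [← op_comp]; exact (isHomLift_op_iff p _ _).mpr hφ''
  let τ' := IsStronglyCartesian.map p.op g.op ψ' (f' := f.op ≫ g.op) rfl φ''.op
  have hτ' : p.op.IsHomLift f.op τ' := IsStronglyCartesian.map_isHomLift p.op g.op ψ' rfl φ''.op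
  have hτ'fac : τ' ≫ ψ' = φ''.op := IsStronglyCartesian.fac p.op g.op ψ' rfl φ''.op
  have hτu : p.IsHomLift f τ'.unop := (isHomLift_op_iff' p f.op τ').mp hτ'
  let σ := IsCartesian.map p f φ τ'.unop
  have hσ : p.IsHomLift (𝟙 R) σ := IsCartesian.map_isHomLift p f φ τ'.unop
  have hσfac : σ ≫ φ = τ'.unop := IsCartesian.fac p f φ τ'.unop
  have hψu : p.IsHomLift g ψ'.unop := (isHomLift_op_iff' p g.op ψ').mp inferInstance
  refine ⟨ψ'.unop ≫ σ, ⟨inferInstance, ?_⟩, ?_⟩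
  · rw [Category.assoc, hσfac, ← unop_comp, hτ'fac, Quiver.Hom.unop_op]
  · rintro π ⟨hπ, hπfac⟩
    have hπo : p.op.IsHomLift g.op π.op := (isHomLift_op_iff p g π).mpr hπ
    let σ₀ := IsCartesian.map p.op g.op ψ' π.op
    have hσ₀ : p.op.IsHomLift (𝟙 _) σ₀ := IsCartesian.map_isHomLift p.op g.op ψ' π.op
    have hσ₀fac : σ₀ ≫ ψ' = π.op := IsCartesian.fac p.op g.op ψ' π.op
    have hφo : p.op.IsHomLift f.op φ.op := (isHomLift_op_iff p f φ).mpr inferInstance
    have h1 : φ.op ≫ σ₀ = τ' := by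
      apply IsStronglyCartesian.map_uniq p.op g.op ψ' rfl φ''.op
      rw [Category.assoc, hσ₀fac, ← op_comp, hπfac]
    have hσ₀u : p.IsHomLift (𝟙 R) σ₀.unop :=
      (isHomLift_op_iff' p (𝟙 (op R)) σ₀).mp hσ₀
    have h2 : σ₀.unop = σ := by
      apply IsCartesian.map_uniq p f φ τ'.unop
      rw [← h1, unop_comp, Quiver.Hom.unop_op]
    rw [← h2, ← unop_comp, hσ₀fac, Quiver.Hom.unop_op]

end Groth.Agent.Lib.Helper26
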