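import Mathlib
import Groth.Agent.Lib.Helper26.FibrB
import Groth.Agent.Lib.Helper26.FibFinD
import Groth.Agent.Lib.Helper6.NormIsoD
import Groth.Agent.Lib.Helper18.SchDim3

set_option autoImplicit false
universe u

open CategoryTheory AlgebraicGeometry TopologicalSpace

namespace Groth.Agent.Lib.Helper26.FibrC

open Groth.Agent.Lib.Helper26
open Groth.Agent.Lib.Helper29.QCoh.NormalNorm
open Groth.Agent.Lib.Helper18.SchDim

theorem generic_fibre {X Y : Scheme.{u}} [IsIntegral X] [IsIntegral Y] [IsLocallyNoetherian Y]
    (f : X ⟶ Y) [LocallyOfFiniteType f]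
    (h0 : @Algebra.trdeg (Y.residueField (f (genericPoint X))) (X.residueField (genericPoint X)) _ _
      (f.residueFieldMap (genericPoint X)).hom.toAlgebra = 0)
    (x : X) (hx : f x = genericPoint Y) : x = genericPoint X := by
  obtain ⟨n, hn⟩ := exists_nat_trdeg_residueField f x
  have hE : ∀ ξ : X, closure {ξ} ∈ irreducibleComponents ↥X → ξ ⤳ x →
      @Algebra.trdeg (Y.residueField (f ξ)) (X.residueField ξ) _ _
        (f.residueFieldMap ξ).hom.toAlgebra ≤ ((0 : ℕ) : Cardinal) := by
    intro ξ hξ _
    have h1 : closure ({ξ} : Set X) = Set.univ := by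
      rw [irreducibleComponents_eq_singleton] at hξ
      exact hξ
    have h2 : ξ = genericPoint X := ((genericPoint_spec X).eq h1).symm
    rw [h2, h0]
    simp
  have h1 := stalk_dim_inequality f x n 0 hn hE
  have h2 : ringKrullDim (Y.presheaf.stalk (f x)) = 0 := by
    rw [hx, ringKrullDim_stalk_eq_coheight]
    have : Order.coheight (genericPoint Y) = 0 := by
      rw [Order.coheight_eq_zero]
      intro ξ' _
      exact (genericPoint_spec Y).specializes (Set.mem_univ ξ')
    rw [this]; rfl
  have h3 : ringKrullDim (X.presheaf.stalk x) ≤ 0 := by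
    calc ringKrullDim (X.presheaf.stalk x) ≤ ringKrullDim (X.presheaf.stalk x) + n :=
          le_add_of_nonneg_right (by exact_mod_cast zero_le)
      _ ≤ ringKrullDim (Y.presheaf.stalk (f x)) + (0 : ℕ) := h1
      _ = 0 := by rw [h2]; simp
  rw [ringKrullDim_stalk_eq_coheight] at h3
  have h6 : Order.coheight x = 0 := by
    have : (Order.coheight x : WithBot ℕ∞) ≤ ((0 : ℕ∞) : WithBot ℕ∞) := by simpa using h3
    rw [WithBot.coe_le_coe] at this
    exact le_antisymm this bot_le
  rw [Order.coheight_eq_zero] at h6
  have hηx : genericPoint X ⤳ x := (genericPoint_spec X).specializes (Set.mem_univ x)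
  have h7 : x ⤳ genericPoint X := h6 hηx
  exact (h7.antisymm hηx).eq

theorem bijective_fieldMap_of_fibration {X Y : Scheme.{u}} [IsIntegral X] [IsIntegral Y]
    [IsLocallyNoetherian Y] (f : X ⟶ Y) [IsProper f] [IsDominant f]
    (m : ℕ) (hm : topologicalKrullDim Y = m)
    (hdim : topologicalKrullDim X = topologicalKrullDim Y)
    (happ : ∀ U : Y.Opens, IsIso (f.app U))
    (hgen : f.base (genericPoint X) = genericPoint Y) :
    Function.Bijective (fieldMap f hgen) := by
  obtain ⟨n, hn⟩ := exists_nat_trdeg_residueField f (genericPoint X)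
  have h1 := (dim_le_and_eq_of_isClosedMap f n hn).2 f.isClosedMap
  rw [hdim, hm] at h1
  have hn0 : n = 0 := by
    have : ((m : ℕ) : WithBot ℕ∞) = ((m + n : ℕ) : WithBot ℕ∞) := by
      push_cast
      exact h1
    have h2 : m = m + n := by exact_mod_cast this
    omega
  have h0 : @Algebra.trdeg (Y.residueField (f (genericPoint X))) (X.residueField (genericPoint X)) _ _
      (f.residueFieldMap (genericPoint X)).hom.toAlgebra = 0 := by
    rw [hn, hn0]; simp
  have hfib : (f ⁻¹' {genericPoint Y}) = {genericPoint X} := by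
    ext x
    constructor
    · intro hx
      exact generic_fibre f h0 x hx
    · rintro rfl
      exact hgen
  obtain ⟨V, hηV, hfin⟩ := exists_isFinite_morphismRestrict_of_finite_preimage_singleton f
    (genericPoint Y) (by rw [hfib]; exact Set.finite_singleton _)
  have hb : ∀ U : Y.Opens, Function.Bijective (f.app U) := fun U =>
    ConcreteCategory.bijective_of_isIso (f.app U)
  haveI : IsIso (f ∣_ V) :=
    FibFinD.isIso_of_isAffineHom_of_bijective (f ∣_ V) (FibFinD.bijective_app_restrict f hb V)
  have hηX : genericPoint X ∈ f ⁻¹ᵁ V := by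
    show f (genericPoint X) ∈ V
    rw [hgen]; exact hηV
  have h3 : IsIso (f.stalkMap (genericPoint X)) :=
    (Groth.Agent.Lib.Helper6.NormIso.isIso_stalkMap_iff_restrict f V ⟨genericPoint X, hηX⟩).mp
      inferInstance
  have h4 : Function.Bijective (f.stalkMap (genericPoint X)).hom :=
    ConcreteCategory.bijective_of_isIso _
  have h5 : Function.Bijective (Y.presheaf.stalkSpecializes (specializes_of_eq hgen)).hom := by
    have hins : Inseparable (genericPoint Y) (f.base (genericPoint X)) := by
      rw [hgen]
    exact ConcreteCategory.bijective_of_isIso (Y.presheaf.stalkCongr hins).hom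
  exact h4.comp h5

end Groth.Agent.Lib.Helper26.FibrC
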