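import Mathlib
import Groth.Agent.Lib.Helper26.FibrC
import Groth.Agent.Lib.Helper10.OrbitDim2
import Groth.Prelude.Def_ega3
import Groth.Prelude.Def_Pi1

set_option autoImplicit false
universe u

open CategoryTheory AlgebraicGeometry TopologicalSpace

namespace Groth.Agent.Lib.Helper26.FibrD

open Groth.Agent.Lib.Helper26
open Groth.Agent.Lib.Helper29.QCoh.NormalNorm

theorem exists_nat_dim {Y : Scheme.{u}} [IrreducibleSpace Y] (h : topologicalKrullDim Y < ⊤) :
    ∃ m : ℕ, topologicalKrullDim Y = m := by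
  haveI : Nonempty (IrreducibleCloseds Y) :=
    ⟨⟨Set.univ, IrreducibleSpace.isIrreducible_univ _, isClosed_univ⟩⟩
  have h0 : (0 : WithBot ℕ∞) ≤ topologicalKrullDim Y := Order.krullDim_nonneg
  obtain ⟨d, hd⟩ := WithBot.ne_bot_iff_exists.mp (ne_bot_of_le_ne_bot (by simp) h0)
  rw [← hd] at h ⊢
  have hd' : d ≠ ⊤ := by
    rintro rfl
    exact lt_irrefl _ h
  obtain ⟨m, hm⟩ := ENat.ne_top_iff_exists.1 hd'
  exact ⟨m, by rw [← hm]; rfl⟩

theorem main_14822 (k : Type u) [Field k]
    (X Y : Scheme.{u}) [X.Over (Spec (CommRingCat.of k))] [Y.Over (Spec (CommRingCat.of k))]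
    [IsProper (X ↘ Spec (CommRingCat.of k))] [IsProper (Y ↘ Spec (CommRingCat.of k))] [IsIntegral X] [IsIntegral Y]
    (hY : Pi1.IsNormalScheme Y) (f : X ⟶ Y) [Surjective f] (hf : f ≫ (Y ↘ Spec (CommRingCat.of k)) = X ↘ Spec (CommRingCat.of k))
    (hdim : topologicalKrullDim ↥X = topologicalKrullDim ↥Y)
    (h : f.base (genericPoint ↥X) ⤳ genericPoint ↥Y) :
    (∀ U : Y.Opens, IsIso (f.app U)) ↔ Function.Bijective (CohIII.stalkToFunctionField f (genericPoint ↥Y) h) := by
  haveI : IsLocallyNoetherian Y :=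
    LocallyOfFiniteType.isLocallyNoetherian (Y ↘ (Spec (CommRingCat.of k)))
  haveI : IsProper (f ≫ (Y ↘ (Spec (CommRingCat.of k)))) := by rw [hf]; infer_instance
  haveI : IsProper f := IsProper.of_comp f (Y ↘ (Spec (CommRingCat.of k)))
  have hgen : f.base (genericPoint X) = genericPoint Y :=
    (h.antisymm ((genericPoint_spec Y).specializes (Set.mem_univ _))).eq
  have hmap : CohIII.stalkToFunctionField f (genericPoint ↥Y) h = fieldMap f hgen := rfl
  rw [hmap]
  constructor
  · intro happ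
    obtain ⟨m, hm⟩ := exists_nat_dim
      (Groth.Agent.Lib.Helper10.OrbitDim.dim_lt_top (Y ↘ (Spec (CommRingCat.of k))))
    exact FibrC.bijective_fieldMap_of_fibration f m hm hdim happ hgen
  · intro hbij U
    exact FibrB.isIso_app_of_birational f hgen hbij.2 (fun y => (hY y).2) U

end Groth.Agent.Lib.Helper26.FibrD
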