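import Mathlib
import Groth.Agent.Lib.Helper26.FibrB
import Groth.Prelude.Def_ega3
import Groth.Prelude.Def_Pi1

set_option autoImplicit false
universe u

open CategoryTheory AlgebraicGeometry TopologicalSpace Opposite

namespace Groth.Agent.Lib.Helper26.FibrE

open Groth.Agent.Lib.Helper26
open Groth.Agent.Lib.Helper29.QCoh.NormalNorm

/-- gluing sections inside the function field -/
theorem exists_section_of_local {X : Scheme.{u}} [IsIntegral X] (U : X.Opens)
    (hη : genericPoint X ∈ U) (s : X.functionField)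
    (h : ∀ W : X.Opens, IsAffineOpen W → W ≤ U → ∀ hW : genericPoint X ∈ W,
      ∃ b : Γ(X, W), (X.presheaf.germ W _ hW).hom b = s) :
    ∃ b : Γ(X, U), (X.presheaf.germ U _ hη).hom b = s := by
  let ι := {V : X.affineOpens // (V : X.Opens) ≤ U ∧ genericPoint X ∈ (V : X.Opens)}
  let W : ι → X.Opens := fun V => V.1.1
  have hcover : U ≤ iSup W := by
    intro y hy
    obtain ⟨_, ⟨V, hV, rfl⟩, hyV, hVU⟩ := X.isBasis_affineOpens.exists_subset_of_mem_open hy U.2
    have hηV : genericPoint X ∈ V :=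
      ((genericPoint_spec X).mem_open_set_iff V.isOpen).mpr ⟨y, trivial, hyV⟩
    exact Opens.mem_iSup.mpr ⟨⟨⟨V, hV⟩, hVU, hηV⟩, hyV⟩
  have hloc : ∀ i : ι, ∃ b : Γ(X, W i), (X.presheaf.germ (W i) _ i.2.2).hom b = s :=
    fun i => h _ i.1.2 i.2.1 i.2.2
  choose sf hsf using hloc
  have hcompat : TopCat.Presheaf.IsCompatible X.presheaf W sf := by
    intro i j
    have hηij : genericPoint X ∈ W i ⊓ W j := ⟨i.2.2, j.2.2⟩
    apply germ_injective_of_isIntegral X (genericPoint X) hηij
    have e1 := TopCat.Presheaf.germ_res_apply X.presheaf (homOfLE (inf_le_left : W i ⊓ W j ≤ W i))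
      (genericPoint X) hηij (sf i)
    have e2 := TopCat.Presheaf.germ_res_apply X.presheaf (homOfLE (inf_le_right : W i ⊓ W j ≤ W j))
      (genericPoint X) hηij (sf j)
    exact e1.trans ((hsf i).trans ((hsf j).symm.trans e2.symm))
  obtain ⟨b, hb, -⟩ := X.sheaf.existsUnique_gluing' W U (fun i => homOfLE i.2.1) hcover sf hcompat
  refine ⟨b, ?_⟩
  obtain ⟨i, hi⟩ := Opens.mem_iSup.mp (hcover hη)
  have e1 := TopCat.Presheaf.germ_res_apply X.presheaf (homOfLE i.2.1) (genericPoint X) i.2.2 b
  have e2 : (X.presheaf.map (homOfLE i.2.1).op).hom b = sf i := hb i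
  rw [← e1]
  exact (congrArg _ e2).trans (hsf i)

theorem germ_appLE {X Y : Scheme.{u}} [IsIntegral X] [IsIntegral Y] (f : X ⟶ Y)
    (hgen : f.base (genericPoint X) = genericPoint Y)
    (V : Y.Opens) (hηV : genericPoint Y ∈ V) (W : X.Opens) (e : W ≤ f ⁻¹ᵁ V)
    (hηW : genericPoint X ∈ W) (a : Γ(Y, V)) :
    (X.presheaf.germ W _ hηW).hom ((f.appLE V W e).hom a) = fieldMap f hgen (toK V hηV a) := by
  rw [fieldMap_toK]
  unfold toL
  rw [Scheme.Hom.appLE, CommRingCat.comp_apply]
  exact TopCat.Presheaf.germ_res_apply X.presheaf (homOfLE e) (genericPoint X) hηW _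

theorem mem_range_of_fibration {X Y : Scheme.{u}} [IsIntegral X] [IsIntegral Y] (f : X ⟶ Y)
    (hgen : f.base (genericPoint X) = genericPoint Y)
    (hX : ∀ x : X, IsIntegrallyClosed (X.presheaf.stalk x))
    (happ : ∀ U : Y.Opens, Function.Surjective (f.app U).hom)
    (t : X.functionField) (ht : (fieldMap f hgen).IsIntegralElem t) :
    t ∈ (fieldMap f hgen).range := by
  obtain ⟨_, ⟨V, hV, rfl⟩, hηV, -⟩ := Y.isBasis_affineOpens.exists_subset_of_mem_open
    (Set.mem_univ (genericPoint Y)) isOpen_univ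
  haveI : Nonempty V := ⟨⟨_, hηV⟩⟩
  haveI := functionField_isFractionRing_of_isAffineOpen Y V hV
  letI a1 : Algebra Y.functionField X.functionField := (fieldMap f hgen).toAlgebra
  letI a2 : Algebra Γ(Y, V) X.functionField :=
    ((fieldMap f hgen).comp (algebraMap Γ(Y, V) Y.functionField)).toAlgebra
  haveI : IsScalarTower Γ(Y, V) Y.functionField X.functionField :=
    IsScalarTower.of_algebraMap_eq (fun _ => rfl)
  have ht' : IsIntegral Y.functionField t := ht
  obtain ⟨⟨d, hd⟩, hdt⟩ := IsIntegral.exists_multiple_integral_of_isLocalization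
    (nonZeroDivisors Γ(Y, V)) t ht'
  set s : X.functionField := fieldMap f hgen (toK V hηV d) * t with hsdef
  have hs : IsIntegral Γ(Y, V) s := by
    have : (⟨d, hd⟩ : nonZeroDivisors Γ(Y, V)) • t = s := by
      rw [Submonoid.smul_def, Algebra.smul_def]
      rfl
    rw [← this]; exact hdt
  have hηX : genericPoint X ∈ f ⁻¹ᵁ V := mem_preimage f hgen hηV
  obtain ⟨b, hb⟩ := exists_section_of_local (f ⁻¹ᵁ V) hηX s (by
    intro W hW hWV hηW
    haveI : Nonempty W := ⟨⟨_, hηW⟩⟩
    haveI := functionField_isFractionRing_of_isAffineOpen X W hW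
    haveI : IsIntegrallyClosed Γ(X, W) := isIntegrallyClosed_of_isAffineOpen hX hW
    have hint : IsIntegral Γ(X, W) s := by
      obtain ⟨p, hp, hps⟩ := hs
      refine ⟨p.map (f.appLE V W hWV).hom, hp.map _, ?_⟩
      rw [Polynomial.eval₂_map]
      have : (algebraMap Γ(X, W) X.functionField).comp (f.appLE V W hWV).hom =
          algebraMap Γ(Y, V) X.functionField := by
        ext a
        exact germ_appLE f hgen V hηV W hWV hηW a
      rw [this]; exact hps
    obtain ⟨b, hb⟩ := IsIntegrallyClosed.isIntegral_iff.mp hint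
    exact ⟨b, hb⟩)
  obtain ⟨a, ha⟩ := happ V b
  have hsa : s = fieldMap f hgen (toK V hηV a) := by
    rw [fieldMap_toK, ha]; exact hb.symm
  have hd0 : toK V hηV d ≠ 0 := by
    intro h0
    have : d = 0 := toK_injective V hηV (by rw [h0, map_zero])
    exact (nonZeroDivisors.ne_zero hd) this
  refine ⟨toK V hηV a / toK V hηV d, ?_⟩
  rw [map_div₀, ← hsa, hsdef]
  have hd1 : fieldMap f hgen (toK V hηV d) ≠ 0 := by
    rw [Ne, map_eq_zero]; exact hd0
  field_simp

theorem mem_range_of_isIntegral' {X Y : Scheme.{u}} [IsIntegral X] [IsIntegral Y] (f : X ⟶ Y)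
    (hgen : f.base (genericPoint X) = genericPoint Y)
    (hcl : ∀ t : X.functionField, (fieldMap f hgen).IsIntegralElem t →
      t ∈ (fieldMap f hgen).range)
    (hY : ∀ y : Y, IsIntegrallyClosed (Y.presheaf.stalk y))
    {V : Y.Opens} (hV : IsAffineOpen V) (hη : genericPoint Y ∈ V)
    (b : Γ(X, f ⁻¹ᵁ V)) (hb : (f.app V).hom.IsIntegralElem b) :
    ∃ a : Γ(Y, V), (f.app V).hom a = b := by
  haveI : Nonempty V := ⟨⟨_, hη⟩⟩
  letI := (f.app V).hom.toAlgebra
  have h1 : (fieldMap f hgen).comp (toK V hη) =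
      (toL f hgen V hη).comp (f.app V).hom := by
    ext a
    exact fieldMap_toK f hgen V hη a
  obtain ⟨a', ha'⟩ := hcl (toL f hgen V hη b) (by
    obtain ⟨p, hp, hpb⟩ := hb
    refine ⟨p.map (toK V hη), hp.map _, ?_⟩
    rw [Polynomial.eval₂_map, h1, ← Polynomial.hom_eval₂, hpb, map_zero])
  haveI := functionField_isFractionRing_of_isAffineOpen Y V hV
  haveI : IsIntegrallyClosed Γ(Y, V) := isIntegrallyClosed_of_isAffineOpen hY hV
  have hint : IsIntegral Γ(Y, V) a' := by
    obtain ⟨p, hp, hpb⟩ := hb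
    refine ⟨p, hp, ?_⟩
    apply (fieldMap f hgen).injective
    rw [map_zero, Polynomial.hom_eval₂, ha']
    have h1' : (fieldMap f hgen).comp (algebraMap Γ(Y, V) Y.functionField) =
        (toL f hgen V hη).comp (f.app V).hom := h1
    rw [h1', ← Polynomial.hom_eval₂, hpb, map_zero]
  obtain ⟨a, ha⟩ := IsIntegrallyClosed.isIntegral_iff.mp hint
  refine ⟨a, ?_⟩
  apply toL_injective f hgen V hη
  rw [← fieldMap_toK, ← ha']
  congr 1

theorem isIso_app_of_algClosed {X Y : Scheme.{u}} [IsIntegral X] [IsIntegral Y] (f : X ⟶ Y)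
    [UniversallyClosed f]
    (hgen : f.base (genericPoint X) = genericPoint Y)
    (hcl : ∀ t : X.functionField, (fieldMap f hgen).IsIntegralElem t →
      t ∈ (fieldMap f hgen).range)
    (hY : ∀ y : Y, IsIntegrallyClosed (Y.presheaf.stalk y)) (U : Y.Opens) : IsIso (f.app U) := by
  have hinj := FibrB.app_injective' f hgen
  have hs : ∀ V : Y.Opens, IsAffineOpen V → Function.Surjective (f.app V).hom := by
    intro V hV b
    by_cases hne : (V : Set Y).Nonempty
    · have hη : genericPoint Y ∈ V :=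
        ((genericPoint_spec Y).mem_open_set_iff V.isOpen).mpr (by simpa using hne)
      exact mem_range_of_isIntegral' f hgen hcl hY hV hη b (FibrB.isIntegral_app f hV b)
    · have hV0 : V = ⊥ := by
        ext y
        simp only [Opens.coe_bot, Set.mem_empty_iff_false, iff_false]
        intro hy
        exact hne ⟨y, hy⟩
      subst hV0
      haveI : Subsingleton Γ(X, f ⁻¹ᵁ ⊥) := by
        rw [show f ⁻¹ᵁ ⊥ = ⊥ from rfl]
        infer_instance
      exact ⟨0, Subsingleton.elim _ _⟩
  have h3 := FibrA.surjective_app_of_affine f hinj hs U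
  exact (ConcreteCategory.isIso_iff_bijective _).mpr ⟨hinj U, h3⟩

theorem main_14821 (k : Type u) [Field k]
    (X Y : Scheme.{u}) [X.Over (Spec (CommRingCat.of k))] [Y.Over (Spec (CommRingCat.of k))]
    [IsProper (X ↘ Spec (CommRingCat.of k))] [IsProper (Y ↘ Spec (CommRingCat.of k))] [IsIntegral X] [IsIntegral Y]
    (hX : Pi1.IsNormalScheme X) (hY : Pi1.IsNormalScheme Y) (f : X ⟶ Y) [Surjective f] (hf : f ≫ (Y ↘ Spec (CommRingCat.of k)) = X ↘ Spec (CommRingCat.of k))
    (h : f.base (genericPoint ↥X) ⤳ genericPoint ↥Y) :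
    (∀ U : Y.Opens, IsIso (f.app U)) ↔
      ∀ x : ↑X.functionField, (CohIII.stalkToFunctionField f (genericPoint ↥Y) h).IsIntegralElem x → x ∈ (CohIII.stalkToFunctionField f (genericPoint ↥Y) h).range := by
  haveI : IsProper (f ≫ (Y ↘ (Spec (CommRingCat.of k)))) := by rw [hf]; infer_instance
  haveI : IsProper f := IsProper.of_comp f (Y ↘ (Spec (CommRingCat.of k)))
  have hgen : f.base (genericPoint X) = genericPoint Y :=
    (h.antisymm ((genericPoint_spec Y).specializes (Set.mem_univ _))).eq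
  have hmap : CohIII.stalkToFunctionField f (genericPoint ↥Y) h = fieldMap f hgen := rfl
  rw [hmap]
  constructor
  · intro happ t ht
    exact mem_range_of_fibration f hgen (fun x => (hX x).2)
      (fun U => (ConcreteCategory.bijective_of_isIso (f.app U)).2) t ht
  · intro hcl U
    exact isIso_app_of_algClosed f hgen hcl (fun y => (hY y).2) U

end Groth.Agent.Lib.Helper26.FibrE
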