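import Groth.Prelude.Def_ClSub2
import Groth.Agent.Lib.Helper21.PropH0
import Groth.Agent.Lib.Helper21.CDeg4
import Groth.Agent.Lib.Helper4.ZZ4
import Groth.Agent.Lib.Lead.LinLES.Basic
import Groth.Agent.Lib.Helper29.QCohIdealMod
import Groth.Agent.Lib.Helper29.QCohExact

set_option autoImplicit false
universe u
open CategoryTheory CategoryTheory.Limits AlgebraicGeometry

namespace Groth.Agent.Lib.Helper26.FinCovConn
open Groth.Agent.Lib.Helper29.QCoh

theorem app_injective_of_surjective {X Y : Scheme.{u}} (ρ : X ⟶ Y) [Surjective ρ] [IsReduced Y]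
    (U : Y.Opens) : Function.Injective (ρ.app U).hom := by
  rw [injective_iff_map_eq_zero]
  intro f hf
  rw [← basicOpen_eq_bot_iff]
  have h1 : ρ ⁻¹ᵁ Y.basicOpen f = ⊥ := by
    rw [Scheme.preimage_basicOpen, hf]
    exact Scheme.basicOpen_zero X _
  ext y
  simp only [TopologicalSpace.Opens.coe_bot, Set.mem_empty_iff_false, iff_false]
  intro hy
  obtain ⟨x, rfl⟩ := ρ.surjective y
  have : x ∈ ρ ⁻¹ᵁ Y.basicOpen f := hy
  rw [h1] at this
  exact this

theorem main
    (k : Type u) [Field k] (X Y : Scheme.{u}) (g : Y ⟶ Spec (CommRingCat.of k)) (ρ : X ⟶ Y)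
    [IsProper g] [GeometricallyConnected g] [GeometricallyReduced g]
    [IsFinite ρ] [Flat ρ] [Surjective ρ]
    (h0 : Subsingleton (Coh.HH Y (cokernel (ClSub.unitToPush ρ)) 0)) :
    GeometricallyConnected (ρ ≫ g) := by
  let _ : Y.Over (Spec (CommRingCat.of k)) := ⟨g⟩
  have hY := Groth.Agent.Lib.Helper21.PropH0.bijective_toGlobal_of_proper k Y g
  have : IsReduced Y := by
    have H : IsPullback (𝟙 Y) g g (𝟙 (Spec (CommRingCat.of k))) := IsPullback.of_id_fst
    exact GeometricallyReduced.geometrically_isReduced (f := g) (𝟙 (Spec (CommRingCat.of k))) _ _ H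
  have hmono : Mono (ClSub.unitToPush ρ) := by
    rw [mono_iff_app_injective]
    intro U s t hst
    rw [unitToPush_app, unitToPush_app] at hst
    have h1 := app_injective_of_surjective ρ U (congrArg fromUnit hst)
    exact congrArg toUnit h1
  let S : ShortComplex Y.Modules :=
    ShortComplex.mk (ClSub.unitToPush ρ) (cokernel.π _) (cokernel.condition _)
  have hS : S.ShortExact := ShortComplex.ShortExact.mk (ShortComplex.exact_cokernel _)
  have hex := Groth.Agent.Lib.Lead.LinLES.exact₂ k S hS 0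
  have hsurj : Function.Surjective (Canon.HHlin k (ClSub.unitToPush ρ) 0) := by
    intro x
    exact (hex x).mp (Subsingleton.elim _ _)
  have hsurj' : Function.Surjective ((ClSub.unitToPush ρ).app ⊤) :=
    (Groth.Agent.Lib.Helper21.CDeg.surjective_app_top_iff k _).mpr hsurj
  have hρ : Function.Bijective (ρ.appTop).hom := by
    refine ⟨app_injective_of_surjective ρ ⊤, fun b => ?_⟩
    obtain ⟨a, ha⟩ := hsurj' (toUnit b)
    refine ⟨fromUnit a, ?_⟩
    rw [unitToPush_app] at ha
    exact congrArg fromUnit ha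
  apply Groth.Agent.Lib.Helper4.ZZ.geometricallyConnected_of_bijective_toGlobal k (ρ ≫ g)
  rw [Scheme.Hom.comp_appTop, ← Category.assoc, CommRingCat.hom_comp]
  exact hρ.comp hY

end Groth.Agent.Lib.Helper26.FinCovConn
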