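import Mathlib.RingTheory.TotallySplit
import Mathlib.RingTheory.Finiteness.ModuleFinitePresentation
import Mathlib.RingTheory.Spectrum.Prime.FreeLocus
import Mathlib.RingTheory.Etale.Basic

/-!
# Finite étale algebras are étale locally (around a given prime) totally split
-/

open TensorProduct

namespace Groth.Agent.Lib.Helper26

universe u

/-- If `B` is finite étale over `R` and `p` is a prime of `R`, there are an étale `R`-algebra `T`
and a prime of `T` over `p` such that `T ⊗[R] B` is a finite product of copies of `T`. -/
theorem exists_etale_isFiniteSplit {R B : Type u} [CommRing R] [CommRing B] [Algebra R B]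
    [Algebra.Etale R B] [Module.Finite R B] (p : PrimeSpectrum R) :
    ∃ (T : Type u) (_ : CommRing T) (_ : Algebra R T) (_ : Algebra.Etale R T)
      (P : PrimeSpectrum T), P.comap (algebraMap R T) = p ∧
        Algebra.IsFiniteSplit T (T ⊗[R] B) := by
  have : Module.Flat R B := inferInstance
  have : Module.FinitePresentation R B :=
    Module.FinitePresentation.of_finite_of_finitePresentation R B
  have hlc := Module.isLocallyConstant_rankAtStalk (R := R) (M := B)
  let n := Module.rankAtStalk B p
  have hopen : IsOpen {q | Module.rankAtStalk B q = n} := hlc.isOpen_fiber n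
  obtain ⟨_, ⟨_, ⟨g, rfl⟩, rfl⟩, hpg, hg⟩ :=
    PrimeSpectrum.isBasis_basic_opens.exists_subset_of_mem_open
      (show p ∈ {q | Module.rankAtStalk B q = n} from rfl) hopen
  let R' := Localization.Away g
  let B' := R' ⊗[R] B
  have hrange := PrimeSpectrum.localization_away_comap_range R' g
  have hrank : Module.rankAtStalk (R := R') B' = n := by
    ext q
    rw [Module.rankAtStalk_baseChange]
    apply hg
    rw [← hrange]
    exact ⟨q, rfl⟩
  obtain ⟨T, _, _, hff, hfin, het, hsplit⟩ :=
    Algebra.IsFiniteSplit.exists_tensorProduct_of_etale (R := R') (S := B') hrank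
  algebraize [(algebraMap R' T).comp (algebraMap R R')]
  have : Algebra.Etale R R' := Algebra.Etale.of_isLocalizationAway g
  have : Algebra.Etale R T := Algebra.Etale.comp R R' T
  obtain ⟨p', hp'⟩ : p ∈ Set.range (PrimeSpectrum.comap (algebraMap R R')) := by
    rw [hrange]; exact hpg
  obtain ⟨P, hP⟩ := PrimeSpectrum.comap_surjective_of_faithfullyFlat (A := R') (B := T) p'
  refine ⟨T, inferInstance, inferInstance, inferInstance, P, ?_, ?_⟩
  · rw [IsScalarTower.algebraMap_eq R R' T, PrimeSpectrum.comap_comp]
    simp [hP, hp']
  · exact .of_algEquiv (Algebra.TensorProduct.cancelBaseChange R R' T T B)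

end Groth.Agent.Lib.Helper26
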