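import Mathlib
set_option autoImplicit false
set_option linter.style.haveILetI false
universe u
open AlgebraicGeometry CategoryTheory TopologicalSpace

namespace Groth.Agent.Lib.Helper26.GenericAffine

variable {X : Scheme.{u}}

/-- generic points of irreducible components have no proper generizations -/
lemma eq_of_specializes_of_mem_irreducibleComponents {η : X}
    (hη : closure ({η} : Set X) ∈ irreducibleComponents (X : Type u)) (y : X) (h : y ⤳ η) :
    y = η := by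
  have h1 : closure ({η} : Set X) ⊆ closure ({y} : Set X) := by
    apply closure_minimal _ isClosed_closure
    rw [Set.singleton_subset_iff]
    exact h.mem_closure
  have h2 : IsIrreducible (closure ({y} : Set X)) := isIrreducible_singleton.closure
  have h3 : closure ({y} : Set X) ⊆ closure ({η} : Set X) := hη.2 h2 h1
  have h4 : η ⤳ y := specializes_iff_mem_closure.mpr (h3 (subset_closure rfl))
  exact (h.antisymm h4).eq

lemma mem_basicOpen_iff_notMem_primeIdealOf {U : X.Opens} (hU : IsAffineOpen U)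
    (x : X) (hx : x ∈ U) (g : Γ(X, U)) :
    x ∈ X.basicOpen g ↔ g ∉ (hU.primeIdealOf ⟨x, hx⟩).asIdeal := by
  have h1 : (⟨x, hx⟩ : U) ∈ U.toSpecΓ ⁻¹ᵁ PrimeSpectrum.basicOpen g ↔
      g ∉ (hU.primeIdealOf ⟨x, hx⟩).asIdeal := Iff.rfl
  rw [← h1, Scheme.Opens.toSpecΓ_preimage_basicOpen]
  rfl

/-- the prime of a maximal point in an affine chart is a minimal prime -/
lemma primeIdealOf_mem_minimalPrimes {U : X.Opens} (hU : IsAffineOpen U) (η : X) (hηU : η ∈ U)
    (hη : ∀ y : X, y ⤳ η → y = η) :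
    (hU.primeIdealOf ⟨η, hηU⟩).asIdeal ∈ minimalPrimes Γ(X, U) := by
  refine ⟨⟨(hU.primeIdealOf ⟨η, hηU⟩).isPrime, bot_le⟩, ?_⟩
  rintro q ⟨hq, -⟩ hle
  let Q : PrimeSpectrum Γ(X, U) := ⟨q, hq⟩
  have h1 : Q ⤳ hU.primeIdealOf ⟨η, hηU⟩ := (PrimeSpectrum.le_iff_specializes _ _).mp hle
  have h2 : hU.fromSpec.base Q ⤳ hU.fromSpec.base (hU.primeIdealOf ⟨η, hηU⟩) :=
    h1.map hU.fromSpec.continuous
  rw [hU.fromSpec_primeIdealOf] at h2
  have h3 := hη _ h2
  have h4 : hU.fromSpec.base Q = hU.fromSpec.base (hU.primeIdealOf ⟨η, hηU⟩) := by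
    rw [h3, hU.fromSpec_primeIdealOf]
  have h5 : Q = hU.primeIdealOf ⟨η, hηU⟩ := hU.fromSpec.isOpenEmbedding.injective h4
  rw [← h5]

/-- in a ring, an element of a minimal prime is killed, up to a power, by an element outside. -/
lemma exists_mul_pow_eq_zero {A : Type*} [CommRing A] (p : Ideal A) (hp : p ∈ minimalPrimes A)
    (g : A) (hg : g ∈ p) : ∃ t ∉ p, ∃ n : ℕ, t * g ^ n = 0 := by
  haveI := hp.1.1
  have : Ring.KrullDimLE 0 (Localization.AtPrime p) := .of_isLocalization _ hp _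
  have h1 : algebraMap A (Localization.AtPrime p) g ∈
      IsLocalRing.maximalIdeal (Localization.AtPrime p) :=
    (IsLocalization.AtPrime.to_map_mem_maximal_iff _ p g).mpr hg
  rw [← Ring.KrullDimLE.nilradical_eq_maximalIdeal] at h1
  obtain ⟨n, hn⟩ := h1
  replace hn : algebraMap A (Localization.AtPrime p) g ^ n = 0 := hn
  rw [← map_pow, IsLocalization.map_eq_zero_iff p.primeCompl] at hn
  obtain ⟨t, ht⟩ := hn
  exact ⟨t.1, t.2, n, ht⟩

theorem exists_affine_disjoint [QuasiSeparatedSpace X] (η : X) (hη : ∀ y : X, y ⤳ η → y = η)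
    (O : X.Opens) (hO : IsCompact (O : Set X)) (hηO : η ∉ O) (N : X.Opens) (hηN : η ∈ N) :
    ∃ U : X.Opens, IsAffineOpen U ∧ η ∈ U ∧ U ≤ N ∧ Disjoint U O := by
  classical
  obtain ⟨W, hW, hηW, hWN⟩ : ∃ W : X.Opens, IsAffineOpen W ∧ η ∈ W ∧ W ≤ N :=
    Opens.isBasis_iff_nbhd.mp X.isBasis_affineOpens hηN
  set 𝔭 := (hW.primeIdealOf ⟨η, hηW⟩).asIdeal with h𝔭def
  have h𝔭 := primeIdealOf_mem_minimalPrimes hW η hηW hη
  have hcomp : IsCompact ((O ⊓ W : X.Opens) : Set X) :=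
    QuasiSeparatedSpace.inter_isCompact _ _ O.isOpen hO W.isOpen hW.isCompact
  have hcov : ∀ y : (O ⊓ W : X.Opens), ∃ g : Γ(X, W),
      X.basicOpen g ≤ O ⊓ W ∧ y.1 ∈ X.basicOpen g := fun y => hW.exists_basicOpen_le y y.2.2
  choose g hg1 hg2 using hcov
  obtain ⟨T, hT⟩ := hcomp.elim_finite_subcover
    (fun y : (O ⊓ W : X.Opens) => (X.basicOpen (g y) : Set X))
    (fun y => (X.basicOpen (g y)).isOpen)
    (fun z hz => Set.mem_iUnion.mpr ⟨⟨z, hz⟩, hg2 ⟨z, hz⟩⟩)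
  have hgp : ∀ y, g y ∈ 𝔭 := by
    intro y
    by_contra h
    have := (mem_basicOpen_iff_notMem_primeIdealOf hW η hηW (g y)).mpr h
    exact hηO (hg1 y this).1
  have hex : ∀ y, ∃ t ∉ 𝔭, ∃ n : ℕ, t * g y ^ n = 0 := fun y =>
    exists_mul_pow_eq_zero 𝔭 h𝔭 (g y) (hgp y)
  choose t ht n htn using hex
  let f : Γ(X, W) := ∏ y ∈ T, t y
  have hf𝔭 : f ∉ 𝔭 := by
    intro hf
    obtain ⟨y, _, hy⟩ := (h𝔭.1.1.prod_mem_iff).mp hf
    exact ht y hy
  refine ⟨X.basicOpen f, hW.basicOpen f,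
    (mem_basicOpen_iff_notMem_primeIdealOf hW η hηW f).mpr hf𝔭,
    (X.basicOpen_le f).trans hWN, ?_⟩
  rw [disjoint_iff, eq_bot_iff]
  rintro z ⟨hzf, hzO⟩
  have hzW : z ∈ W := X.basicOpen_le f hzf
  have hz : z ∈ ((O ⊓ W : X.Opens) : Set X) := ⟨hzO, hzW⟩
  obtain ⟨y, hyT, hzy⟩ : ∃ y ∈ T, z ∈ X.basicOpen (g y) := by
    have := hT hz
    simp only [Set.mem_iUnion] at this
    obtain ⟨y, hy, hzy⟩ := this
    exact ⟨y, hy, hzy⟩
  have h1 : z ∈ X.basicOpen (t y) := by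
    obtain ⟨c, hc⟩ := Finset.dvd_prod_of_mem t hyT
    have : X.basicOpen f ≤ X.basicOpen (t y) := by
      rw [show f = t y * c from hc, Scheme.basicOpen_mul]
      exact inf_le_left
    exact this hzf
  have h2 : z ∈ X.basicOpen (t y * g y ^ (n y + 1)) := by
    rw [Scheme.basicOpen_mul, Scheme.basicOpen_pow X (g y) (Nat.succ_pos (n y))]
    exact ⟨h1, hzy⟩
  rw [pow_succ, ← mul_assoc, htn, zero_mul, Scheme.basicOpen_zero] at h2
  exact h2

theorem exists_disjoint_affines [QuasiSeparatedSpace X] {ι : Type*} [Finite ι] (η : ι → X)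
    (hη : ∀ i, ∀ y : X, y ⤳ η i → y = η i) (hinj : Function.Injective η)
    (O₀ : X.Opens) (hO₀ : IsCompact (O₀ : Set X)) (hηO₀ : ∀ i, η i ∉ O₀) :
    ∃ U : ι → X.Opens, (∀ i, IsAffineOpen (U i) ∧ η i ∈ U i) ∧
      (∀ i j, i ≠ j → Disjoint (U i) (U j)) ∧ ∀ i, Disjoint (U i) O₀ := by
  classical
  have hnotmem : ∀ i j, i ≠ j → η i ∉ closure ({η j} : Set X) := by
    intro i j hij h
    have : η j ⤳ η i := specializes_iff_mem_closure.mpr h
    exact hij (hinj (hη i _ this)).symm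
  have hW : ∀ i, ∃ W : X.Opens, IsAffineOpen W ∧ η i ∈ W ∧ ∀ j, j ≠ i → η j ∉ W := by
    intro i
    let C : Set X := ⋃ j : {j // j ≠ i}, closure ({η j.1} : Set X)
    have hC : IsClosed C := isClosed_iUnion_of_finite (fun j => isClosed_closure)
    let N : X.Opens := ⟨Cᶜ, hC.isOpen_compl⟩
    have hiN : η i ∈ N := by
      intro hmem
      obtain ⟨j, hmem⟩ := Set.mem_iUnion.mp hmem
      exact hnotmem i j.1 (Ne.symm j.2) hmem
    obtain ⟨W, hWaff, hiW, hWN⟩ : ∃ W : X.Opens, IsAffineOpen W ∧ η i ∈ W ∧ W ≤ N :=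
      Opens.isBasis_iff_nbhd.mp X.isBasis_affineOpens hiN
    refine ⟨W, hWaff, hiW, fun j hj hjW => ?_⟩
    apply hWN hjW
    exact Set.mem_iUnion.mpr ⟨⟨j, hj⟩, subset_closure rfl⟩
  choose W hWaff hiW hjW using hW
  have hU : ∀ i, ∃ U : X.Opens, IsAffineOpen U ∧ η i ∈ U ∧ U ≤ W i ∧
      Disjoint U (O₀ ⊔ ⨆ j : {j // j ≠ i}, W j.1) := by
    intro i
    apply exists_affine_disjoint (η i) (hη i) _ ?_ ?_ (W i) (hiW i)
    · rw [Opens.coe_sup, Opens.coe_iSup]
      exact hO₀.union (isCompact_iUnion (fun j => (hWaff j.1).isCompact))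
    · rintro (h | h)
      · exact hηO₀ i h
      · rw [Opens.coe_iSup] at h
        obtain ⟨j, hj⟩ := Set.mem_iUnion.mp h
        exact hjW j.1 i (Ne.symm j.2) hj
  choose U hUaff hiU hUW hUdisj using hU
  refine ⟨U, fun i => ⟨hUaff i, hiU i⟩, ?_, ?_⟩
  · intro i j hij
    refine (hUdisj i).mono_right ((hUW j).trans (le_sup_of_le_right ?_))
    exact le_iSup (fun j : {j // j ≠ i} => W j.1) ⟨j, Ne.symm hij⟩
  · intro i
    exact (hUdisj i).mono_right le_sup_left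

open scoped Function in
theorem main1 (X : Scheme.{u}) [QuasiSeparatedSpace X] {n : ℕ} (η : Fin n → X)
    (hη : ∀ i, closure ({η i} : Set X) ∈ irreducibleComponents (X : Type u))
    (hinj : Function.Injective η) :
    ∃ U : Fin n → X.Opens, (∀ i, IsAffineOpen (U i) ∧ η i ∈ U i) ∧
      (∀ i j, i ≠ j → Disjoint (U i) (U j)) ∧ IsAffineOpen (⨆ i, U i) := by
  obtain ⟨U, h1, h2, -⟩ := exists_disjoint_affines η
    (fun i => eq_of_specializes_of_mem_irreducibleComponents (hη i)) hinj ⊥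
    (by simp) (fun i => by simp)
  exact ⟨U, h1, h2, IsAffineOpen.iSup_of_disjoint (fun i => (h1 i).1) (fun i j hij => h2 i j hij)⟩

open scoped Function in
theorem main2 (X : Scheme.{u}) [QuasiSeparatedSpace X] {n : ℕ} (η : Fin n → X)
    (hη : ∀ i, closure ({η i} : Set X) ∈ irreducibleComponents (X : Type u)) (x : X) :
    ∃ U : X.Opens, IsAffineOpen U ∧ x ∈ U ∧ ∀ i, η i ∈ U := by
  obtain ⟨W₀, hW₀, hxW₀, -⟩ : ∃ W : X.Opens, IsAffineOpen W ∧ x ∈ W ∧ W ≤ ⊤ :=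
    Opens.isBasis_iff_nbhd.mp X.isBasis_affineOpens (Opens.mem_top x)
  let S : Set X := {y | (∃ i, η i = y) ∧ y ∉ W₀}
  have hSfin : S.Finite := (Set.finite_range η).subset (fun y hy => hy.1)
  haveI : Finite S := hSfin.to_subtype
  obtain ⟨U, h1, h2, h3⟩ := exists_disjoint_affines (fun y : S => y.1)
    (fun y z hz => by
      obtain ⟨i, hi⟩ := y.2.1
      have := eq_of_specializes_of_mem_irreducibleComponents (hη i) z (by rw [hi]; exact hz)
      rw [this, hi])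
    Subtype.val_injective W₀ hW₀.isCompact (fun y => y.2.2)
  have haff : IsAffineOpen (⨆ y, U y) :=
    IsAffineOpen.iSup_of_disjoint (fun y => (h1 y).1) (fun y z hyz => h2 y z hyz)
  have hdisj : Disjoint W₀ (⨆ y, U y) := by
    rw [disjoint_iSup_iff]
    exact fun y => (h3 y).symm
  refine ⟨W₀ ⊔ ⨆ y, U y, hW₀.sup_of_disjoint haff hdisj, Or.inl hxW₀, ?_⟩
  intro i
  by_cases hi : η i ∈ W₀
  · exact Or.inl hi
  · right
    exact Opens.mem_iSup.mpr ⟨⟨η i, ⟨i, rfl⟩, hi⟩, (h1 _).2⟩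

end Groth.Agent.Lib.Helper26.GenericAffine
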