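import Mathlib
import Groth.Agent.Lib.Helper26.GenericAffine
import Groth.Agent.Lib.Helper29.QCohAss2

set_option linter.style.haveILetI false

namespace Groth.Agent.Lib.Helper26.FinitePushAss

open Groth.Agent.Lib.Helper26

/-- relative version: in `S`, for `q` minimal over `J` and `x ∈ q`, there are `y ∉ q` and `n`
with `y * x ^ n ∈ J`. -/
lemma exists_mul_pow_mem {S : Type*} [CommRing S] (J q : Ideal S) (hq : q ∈ J.minimalPrimes)
    (x : S) (hx : x ∈ q) : ∃ y ∉ q, ∃ n : ℕ, y * x ^ n ∈ J := by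
  have hq' := hq
  rw [Ideal.minimalPrimes_eq_comap] at hq'
  obtain ⟨q', hq'min, rfl⟩ := hq'
  obtain ⟨t, ht, n, htn⟩ := GenericAffine.exists_mul_pow_eq_zero q' hq'min
    (Ideal.Quotient.mk J x) hx
  obtain ⟨y, rfl⟩ := Ideal.Quotient.mk_surjective t
  refine ⟨y, ht, n, ?_⟩
  rw [← map_pow, ← map_mul, Ideal.Quotient.eq_zero_iff_mem] at htn
  exact htn

/-- Key ring lemma (Stacks 10.66.13 direction): `S` integral over `R` with finite fibre over
`p = q ∩ R`, `q` minimal over `J`: there is `y` such that `p` is minimal over `(J : y) ∩ R`. -/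
theorem key {R S : Type*} [CommRing R] [CommRing S] [Algebra R S] [Algebra.IsIntegral R S]
    (J q : Ideal S) (hq : q ∈ J.minimalPrimes)
    (hfin : ((q.comap (algebraMap R S)).primesOver S).Finite) :
    ∃ y : S, ∀ J' : Ideal S, (∀ r, r ∈ J' ↔ r * y ∈ J) →
      q.comap (algebraMap R S) ∈ (J'.comap (algebraMap R S)).minimalPrimes := by
  classical
  haveI hqp : q.IsPrime := hq.1.1
  set p := q.comap (algebraMap R S) with hp
  -- prime avoidance
  obtain ⟨x, hxq, hxQ⟩ : ∃ x ∈ q, ∀ Q ∈ p.primesOver S, Q ≠ q → x ∉ Q := by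
    by_contra hcon
    push Not at hcon
    have hsub : (q : Set S) ⊆ ⋃ Q ∈ ((hfin.toFinset.erase q : Finset (Ideal S)) : Set (Ideal S)),
        ((id Q : Ideal S) : Set S) := by
      intro x hx
      obtain ⟨Q, hQ, hQq, hxQ⟩ := hcon x hx
      refine Set.mem_biUnion (x := Q) ?_ hxQ
      simp only [Finset.coe_erase, Set.Finite.coe_toFinset, Set.mem_sdiff, Set.mem_singleton_iff]
      exact ⟨hQ, hQq⟩
    rw [Ideal.subset_union_prime (s := hfin.toFinset.erase q) (f := id) q q] at hsub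
    · obtain ⟨Q, hQ, hqQ⟩ := hsub
      simp only [Finset.mem_erase, Set.Finite.mem_toFinset] at hQ
      obtain ⟨hQne, hQp, hQo⟩ := hQ
      haveI := hQp
      apply hQne
      by_contra hne
      have hlt : q < Q := lt_of_le_of_ne hqQ (Ne.symm hne)
      have := Ideal.IsIntegral.comap_lt_comap (R := R) hlt
      rw [← hp] at this
      have h2 : p = Ideal.comap (algebraMap R S) Q := hQo.over
      rw [← h2] at this
      exact lt_irrefl _ this
    · intro Q hQ _ _
      simp only [Finset.mem_erase, Set.Finite.mem_toFinset] at hQ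
      exact hQ.2.1
  obtain ⟨y, hyq, n, hyn⟩ := exists_mul_pow_mem J q hq x hxq
  refine ⟨y, fun J' hJ' => ?_⟩
  have hJ'q : J' ≤ q := by
    intro r hr
    have := hq.1.2 ((hJ' r).mp hr)
    exact (hqp.mem_or_mem this).resolve_right hyq
  have hJJ' : J ≤ J' := fun r hr => (hJ' r).mpr (J.mul_mem_right _ hr)
  have hxJ' : x ^ n ∈ J' := (hJ' _).mpr (by rw [mul_comm]; exact hyn)
  refine ⟨⟨inferInstance, Ideal.comap_mono hJ'q⟩, ?_⟩
  rintro p' ⟨hp'prime, hp'J'⟩ hp'p
  haveI := hp'prime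
  obtain ⟨q', hq'J', hq'prime, hq'p'⟩ := Ideal.exists_ideal_over_prime_of_isIntegral p' J' hp'J'
  haveI := hq'prime
  obtain ⟨q'', hq''q', hq''prime, hq''p⟩ :=
    Ideal.exists_ideal_over_prime_of_isIntegral_of_isPrime p q' (by rw [hq'p']; exact hp'p)
  haveI := hq''prime
  have hq''q : q'' = q := by
    by_contra hne
    have hmem : q'' ∈ p.primesOver S := ⟨hq''prime, ⟨hq''p.symm⟩⟩
    exact hxQ q'' hmem hne (hq''prime.mem_of_pow_mem n (hq''q' (hq'J' hxJ')))
  have hq'q : q' ≤ q := hq''q ▸ hq''q'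
  have hqq' : q ≤ q' := hq.2 ⟨hq'prime, hJJ'.trans hq'J'⟩ hq'q
  rw [← hq'p']
  exact Ideal.comap_mono hqq'

universe u
open CategoryTheory CategoryTheory.Limits AlgebraicGeometry Opposite TopologicalSpace
open Groth.Agent.Lib.Helper29.QCoh

variable {X Y : Scheme.{u}}

theorem isWeakAssPoint_pushforward_of_isFinite (f : X ⟶ Y) [IsFinite f]
    (M : X.Modules) [M.IsQuasicoherent] (x : X)
    (hx : Curv2.IsWeakAssPoint M x) :
    Curv2.IsWeakAssPoint ((Scheme.Modules.pushforward f).obj M) (f x) := by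
  have := isQuasicoherent_pushforward_of_isAffineHom f M
  obtain ⟨V, hV, hsV, -⟩ := exists_isAffineOpen_mem_and_subset (x := f x) (U := ⊤) trivial
  have hW : IsAffineOpen (f ⁻¹ᵁ V) := hV.preimage f
  have hxW : x ∈ f ⁻¹ᵁ V := hsV
  obtain ⟨m, hm⟩ := exists_mem_minimalPrimes_of_isWeakAssPoint M hW x hxW hx
  have hfin := f.finite_app V hV
  letI := (f.app V).hom.toAlgebra
  haveI : Module.Finite Γ(Y, V) Γ(X, f ⁻¹ᵁ V) := hfin
  obtain ⟨y, hy⟩ := key (R := Γ(Y, V)) (annSection M m) _ hm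
    (Algebra.QuasiFinite.finite_primesOver _)
  have h1 := hy (annSection M (y • m))
    (fun r => by rw [mem_annSection, mem_annSection, smul_smul])
  apply isWeakAssPoint_of_mem_minimalPrimes _ hV
    (show Γ((Scheme.Modules.pushforward f).obj M, V) from (y • m)) (f x) hsV
  rw [annSection_pushforward, primeIdealOf_map f hV hW x hxW]
  exact h1

theorem main {X S : Scheme.{u}} (f : X ⟶ S) [IsFinite f] (F : X.Modules)
    (hF : Coh.IsQCoh F) :
    {s : S | Curv2.IsWeakAssPoint ((Scheme.Modules.pushforward f).obj F) s} =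
      f.base '' {x : X | Curv2.IsWeakAssPoint F x} := by
  haveI : F.IsQuasicoherent := hF
  ext s
  constructor
  · intro hs
    obtain ⟨x, hxs, hx⟩ := exists_isWeakAssPoint_of_pushforward f F s hs
    exact ⟨x, hx, hxs⟩
  · rintro ⟨x, hx, rfl⟩
    exact isWeakAssPoint_pushforward_of_isFinite f F x hx

end Groth.Agent.Lib.Helper26.FinitePushAss
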