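import Mathlib
import Groth.Prelude.Def_W4c2arithlefschetzNode

/-!
# Length of `B[[t]]` modulo the fixed ideal of an automorphism (helper26)

Used for S15321.
-/

set_option autoImplicit false
universe u

namespace Groth.Agent.Lib.Helper26.FixLen

open PowerSeries

section general

variable {B : Type u} [CommRing B] [IsDomain B] [IsDiscreteValuationRing B]

/-- reduction of coefficients mod the maximal ideal -/
noncomputable abbrev rho (B : Type u) [CommRing B] [IsDomain B] [IsDiscreteValuationRing B] :
    PowerSeries B →+* PowerSeries (IsLocalRing.ResidueField B) :=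
  PowerSeries.map (IsLocalRing.residue B)

lemma rho_surjective : Function.Surjective (rho B) := by
  intro g
  refine ⟨PowerSeries.mk fun n => (IsLocalRing.residue_surjective (coeff n g)).choose, ?_⟩
  ext n
  rw [PowerSeries.coeff_map, PowerSeries.coeff_mk]
  exact (IsLocalRing.residue_surjective (coeff n g)).choose_spec

lemma rho_eq_zero_iff {π : B} (hπ : Irreducible π) (a : PowerSeries B) :
    rho B a = 0 ↔ C π ∣ a := by
  constructor
  · intro h
    have h1 : ∀ n, ∃ c, coeff n a = π * c := by
      intro n
      have h2 : IsLocalRing.residue B (coeff n a) = 0 := by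
        have := congrArg (coeff n) h
        rwa [PowerSeries.coeff_map, map_zero] at this
      rw [IsLocalRing.residue_eq_zero_iff, hπ.maximalIdeal_eq, Ideal.mem_span_singleton] at h2
      exact h2
    choose c hc using h1
    refine ⟨PowerSeries.mk c, ?_⟩
    ext n
    rw [PowerSeries.coeff_C_mul, PowerSeries.coeff_mk, hc n]
  · rintro ⟨b, rfl⟩
    rw [map_mul]
    have : rho B (C π) = 0 := by
      rw [rho, PowerSeries.map_C]
      have : IsLocalRing.residue B π = 0 := by
        rw [IsLocalRing.residue_eq_zero_iff, hπ.maximalIdeal_eq]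
        exact Ideal.mem_span_singleton_self π
      rw [this, map_zero]
    rw [this, zero_mul]

lemma ker_rho {π : B} (hπ : Irreducible π) :
    RingHom.ker (rho B) = Ideal.span {C π} := by
  ext a
  rw [RingHom.mem_ker, rho_eq_zero_iff hπ, Ideal.mem_span_singleton]

lemma prime_dvd {π : B} (hπ : Irreducible π) {x y : PowerSeries B} (h : C π ∣ x * y) :
    C π ∣ x ∨ C π ∣ y := by
  rw [← rho_eq_zero_iff hπ, map_mul, mul_eq_zero] at h
  rcases h with h | h
  · exact Or.inl ((rho_eq_zero_iff hπ _).mp h)
  · exact Or.inr ((rho_eq_zero_iff hπ _).mp h)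

lemma Cpi_ne_zero {π : B} (hπ : Irreducible π) : (C π : PowerSeries B) ≠ 0 := by
  intro h
  have := congrArg (coeff 0) h
  rw [PowerSeries.coeff_zero_C, map_zero] at this
  exact hπ.ne_zero this

/-- the ideal `(π^j, f)`. -/
noncomputable abbrev J (π : B) (f : PowerSeries B) (j : ℕ) : Ideal (PowerSeries B) :=
  Ideal.span {C π ^ j, f}

lemma J_one_eq_comap {π : B} (hπ : Irreducible π) (f : PowerSeries B) :
    J π f 1 = (Ideal.span {rho B f}).comap (rho B) := by
  have h1 : Ideal.span {rho B f} = (Ideal.span {f}).map (rho B) := by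
    rw [Ideal.map_span, Set.image_singleton]
  rw [h1, Ideal.comap_map_of_surjective _ rho_surjective]
  have h2 : Ideal.comap (rho B) ⊥ = Ideal.span {C π} := by
    rw [← ker_rho hπ]; rfl
  rw [h2, J, pow_one, ← Ideal.span_union, Set.union_comm]
  rfl

lemma mulP_mem {π : B} (f : PowerSeries B) (j : ℕ) {a : PowerSeries B} (ha : a ∈ J π f j) :
    C π * a ∈ J π f (j + 1) := by
  rw [J, Ideal.mem_span_pair] at ha ⊢
  obtain ⟨c, d, rfl⟩ := ha
  exact ⟨c, C π * d, by ring⟩

lemma mem_of_mulP_mem {π : B} (hπ : Irreducible π) (f : PowerSeries B) (hf : ¬ C π ∣ f) (j : ℕ)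
    {a : PowerSeries B} (ha : C π * a ∈ J π f (j + 1)) : a ∈ J π f j := by
  rw [J, Ideal.mem_span_pair] at ha ⊢
  obtain ⟨c, d, hcd⟩ := ha
  have h1 : C π ∣ d * f := by
    have : d * f = C π * (a - c * C π ^ j) := by
      rw [mul_sub, ← hcd]; ring
    exact ⟨_, this⟩
  rcases prime_dvd hπ h1 with h | h
  · obtain ⟨d', rfl⟩ := h
    refine ⟨c, d', ?_⟩
    have h2 : C π * (c * C π ^ j + d' * f) = C π * a := by
      rw [← hcd]; ring
    exact mul_left_cancel₀ (Cpi_ne_zero hπ) h2
  · exact absurd h hf

lemma J_le {π : B} (f : PowerSeries B) (j : ℕ) : J π f (j + 1) ≤ J π f 1 := by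
  rw [J, Ideal.span_le]
  intro x hx
  rcases hx with rfl | hx
  · rw [pow_succ]
    exact Ideal.mul_mem_left _ _ (Ideal.subset_span (by simp))
  · rw [Set.mem_singleton_iff] at hx
    subst hx
    exact Ideal.subset_span (by simp)

lemma length_J {π : B} (hπ : Irreducible π) (f : PowerSeries B) (hf : ¬ C π ∣ f) (j : ℕ) :
    Module.length (PowerSeries B) (PowerSeries B ⧸ J π f j) =
      (j : ℕ∞) * Module.length (PowerSeries B) (PowerSeries B ⧸ J π f 1) := by
  induction j with
  | zero =>
    have : J π f 0 = ⊤ := by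
      rw [J, pow_zero, Ideal.eq_top_iff_one]
      exact Ideal.subset_span (by simp)
    rw [this, Nat.cast_zero, zero_mul, Module.length_eq_zero_iff]
    infer_instance
  | succ j ih =>
    let μ : (PowerSeries B ⧸ J π f j) →ₗ[PowerSeries B] (PowerSeries B ⧸ J π f (j + 1)) :=
      Submodule.mapQ (J π f j) (J π f (j + 1)) (LinearMap.mulLeft (PowerSeries B) (C π))
        (fun a ha => mulP_mem f j ha)
    let ν : (PowerSeries B ⧸ J π f (j + 1)) →ₗ[PowerSeries B] (PowerSeries B ⧸ J π f 1) :=
      Submodule.mapQ (J π f (j + 1)) (J π f 1) LinearMap.id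
        (fun a ha => J_le f j ha)
    have hμ : Function.Injective μ := by
      rw [← LinearMap.ker_eq_bot, LinearMap.ker_eq_bot']
      intro x hx
      obtain ⟨a, rfl⟩ := Submodule.Quotient.mk_surjective _ x
      have h1 : μ (Submodule.Quotient.mk a) = Submodule.Quotient.mk (C π * a) := rfl
      rw [h1, Submodule.Quotient.mk_eq_zero] at hx
      rw [Submodule.Quotient.mk_eq_zero]
      exact mem_of_mulP_mem hπ f hf j hx
    have hν : Function.Surjective ν := by
      intro y
      obtain ⟨a, rfl⟩ := Submodule.Quotient.mk_surjective _ y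
      exact ⟨Submodule.Quotient.mk a, rfl⟩
    have hex : Function.Exact μ ν := by
      intro y
      constructor
      · intro hy
        obtain ⟨a, rfl⟩ := Submodule.Quotient.mk_surjective _ y
        have h1 : ν (Submodule.Quotient.mk a) = Submodule.Quotient.mk a := rfl
        rw [h1, Submodule.Quotient.mk_eq_zero, J, Ideal.mem_span_pair] at hy
        obtain ⟨c, d, hcd⟩ := hy
        refine ⟨Submodule.Quotient.mk c, ?_⟩
        have h2 : μ (Submodule.Quotient.mk c) = Submodule.Quotient.mk (C π * c) := rfl
        rw [h2, Submodule.Quotient.eq]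
        have : C π * c - a = -(d * f) := by rw [← hcd]; ring
        rw [this]
        exact neg_mem (Ideal.mul_mem_left _ _ (Ideal.subset_span (by simp)))
      · rintro ⟨x, rfl⟩
        obtain ⟨a, rfl⟩ := Submodule.Quotient.mk_surjective _ x
        have h1 : ν (μ (Submodule.Quotient.mk a)) = Submodule.Quotient.mk (C π * a) := rfl
        rw [h1, Submodule.Quotient.mk_eq_zero]
        exact Ideal.mul_mem_right _ _ (Ideal.subset_span (by simp))
    rw [Module.length_eq_add_of_exact μ ν hμ hν hex, ih, Nat.cast_succ, add_mul, one_mul]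

lemma length_J_one {π : B} (hπ : Irreducible π) (f : PowerSeries B) :
    Module.length (PowerSeries B) (PowerSeries B ⧸ J π f 1) =
      Module.length (PowerSeries (IsLocalRing.ResidueField B))
        (PowerSeries (IsLocalRing.ResidueField B) ⧸
          Ideal.span ({rho B f} : Set (PowerSeries (IsLocalRing.ResidueField B)))) := by
  rw [Module.length_quotient, Module.length_quotient, J_one_eq_comap hπ,
    Ideal.coheight_comap_of_surjective _ rho_surjective]

/-- some power of `X` lies in `(π, f)` when `π ∤ f`. -/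
lemma X_pow_mem_one {π : B} (hπ : Irreducible π) (f : PowerSeries B) (hf : ¬ C π ∣ f) :
    ∃ m : ℕ, (X : PowerSeries B) ^ m ∈ J π f 1 := by
  have hne : rho B f ≠ 0 := fun h => hf ((rho_eq_zero_iff hπ f).mp h)
  obtain ⟨u, hu⟩ := PowerSeries.isUnit_divided_by_X_pow_order hne
  have h1 := PowerSeries.X_pow_order_mul_divXPowOrder (f := rho B f)
  rw [← hu] at h1
  generalize (rho B f).order.toNat = n at h1
  refine ⟨n, ?_⟩
  rw [J_one_eq_comap hπ, Ideal.mem_comap, map_pow, rho, PowerSeries.map_X,
    Ideal.mem_span_singleton]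
  refine ⟨(↑u⁻¹ : PowerSeries (IsLocalRing.ResidueField B)), ?_⟩
  rw [← h1, mul_assoc, Units.mul_inv, mul_one]

lemma X_pow_mem {π : B} (hπ : Irreducible π) (f : PowerSeries B) (hf : ¬ C π ∣ f) (j : ℕ) :
    ∃ N : ℕ, (X : PowerSeries B) ^ N ∈ J π f j := by
  obtain ⟨m, hm⟩ := X_pow_mem_one hπ f hf
  refine ⟨m * j, ?_⟩
  induction j with
  | zero =>
    rw [J, pow_zero]
    have : Ideal.span {(1 : PowerSeries B), f} = ⊤ := by
      rw [Ideal.eq_top_iff_one]; exact Ideal.subset_span (by simp)
    rw [this]; trivial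
  | succ j ih =>
    rw [J, Ideal.mem_span_pair] at hm ih ⊢
    obtain ⟨a, b, hab⟩ := hm
    obtain ⟨c, d, hcd⟩ := ih
    refine ⟨c * a, c * C π ^ j * b + d * (a * C π ^ 1 + b * f), ?_⟩
    have hpow : (X : PowerSeries B) ^ (m * (j + 1)) = X ^ (m * j) * X ^ m := by
      rw [mul_add, mul_one, pow_add]
    rw [hpow, ← hab, ← hcd]
    ring

end general

section main

variable {B : Type u} [CommRing B] [IsDomain B] [IsDiscreteValuationRing B]

/-- the set of elements moved by `σ` only within an ideal is a subring. -/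
def fixSubring (σ : PowerSeries B ≃+* PowerSeries B) (I : Ideal (PowerSeries B)) :
    Subring (PowerSeries B) where
  carrier := {a | σ a - a ∈ I}
  mul_mem' := by
    intro a b ha hb
    simp only [Set.mem_ofPred_eq] at ha hb ⊢
    have : σ (a * b) - a * b = σ a * (σ b - b) + b * (σ a - a) := by
      rw [map_mul]; ring
    rw [this]
    exact add_mem (Ideal.mul_mem_left _ _ hb) (Ideal.mul_mem_left _ _ ha)
  one_mem' := by
    simp only [Set.mem_ofPred_eq]
    rw [map_one, sub_self]; exact zero_mem _
  add_mem' := by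
    intro a b ha hb
    simp only [Set.mem_ofPred_eq] at ha hb ⊢
    have : σ (a + b) - (a + b) = (σ a - a) + (σ b - b) := by
      rw [map_add]; ring
    rw [this]; exact add_mem ha hb
  zero_mem' := by
    simp only [Set.mem_ofPred_eq]
    rw [map_zero, sub_self]; exact zero_mem _
  neg_mem' := by
    intro a ha
    simp only [Set.mem_ofPred_eq] at ha ⊢
    have : σ (-a) - (-a) = -(σ a - a) := by
      rw [map_neg]; ring
    rw [this]; exact neg_mem ha

lemma mem_fixSubring (σ : PowerSeries B ≃+* PowerSeries B) (I : Ideal (PowerSeries B))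
    (a : PowerSeries B) : a ∈ fixSubring σ I ↔ σ a - a ∈ I := Iff.rfl

lemma poly_mem (σ : PowerSeries B ≃+* PowerSeries B) (I : Ideal (PowerSeries B))
    (hC : ∀ b : B, C b ∈ fixSubring σ I) (hX : (X : PowerSeries B) ∈ fixSubring σ I)
    (p : Polynomial B) : (p : PowerSeries B) ∈ fixSubring σ I := by
  induction p using Polynomial.induction_on with
  | C a => rw [Polynomial.coe_C]; exact hC a
  | add p q hp hq => rw [Polynomial.coe_add]; exact add_mem hp hq
  | monomial n a h =>
    rw [Polynomial.coe_mul, Polynomial.coe_C, Polynomial.coe_pow, Polynomial.coe_X]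
    exact mul_mem (hC a) (pow_mem hX _)

theorem main (π : B) (hπ : Irreducible π)
    (j : ℕ) (γ : B) (hγ : IsUnit γ)
    (σ : PowerSeries B ≃+* PowerSeries B)
    (hσB : ∀ b : B, σ (algebraMap B (PowerSeries B) b) - algebraMap B (PowerSeries B) b ∈
      Ideal.span ({algebraMap B (PowerSeries B) (π ^ j)} : Set (PowerSeries B)))
    (hσπ : σ (algebraMap B (PowerSeries B) π) = algebraMap B (PowerSeries B) (π + γ * π ^ j))
    (h0 : ¬ (algebraMap B (PowerSeries B) π ∣ σ PowerSeries.X - PowerSeries.X)) :
    Module.length (PowerSeries B) (PowerSeries B ⧸ ArLef.fixIdeal σ) =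
      (j : ℕ∞) * Module.length (PowerSeries (IsLocalRing.ResidueField B))
        (PowerSeries (IsLocalRing.ResidueField B) ⧸
        Ideal.span ({PowerSeries.map (IsLocalRing.residue B) (σ PowerSeries.X - PowerSeries.X)} :
          Set (PowerSeries (IsLocalRing.ResidueField B)))) := by
  have halg : ∀ b : B, algebraMap B (PowerSeries B) b = C b := fun b => rfl
  simp only [halg] at hσB hσπ h0
  set f : PowerSeries B := σ X - X with hfdef
  -- the fixed ideal equals J
  have hJ : ArLef.fixIdeal σ = J π f j := by
    apply le_antisymm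
    · rw [ArLef.fixIdeal, Ideal.span_le]
      rintro _ ⟨a, rfl⟩
      show σ a - a ∈ J π f j
      rw [← mem_fixSubring]
      have hC : ∀ b : B, C b ∈ fixSubring σ (J π f j) := by
        intro b
        rw [mem_fixSubring]
        have := hσB b
        rw [Ideal.mem_span_singleton] at this
        obtain ⟨c, hc⟩ := this
        rw [hc, map_pow]
        exact Ideal.mul_mem_right _ _ (Ideal.subset_span (by simp))
      have hX : (X : PowerSeries B) ∈ fixSubring σ (J π f j) := by
        rw [mem_fixSubring]
        exact Ideal.subset_span (by simp [hfdef])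
      obtain ⟨N, hN⟩ := X_pow_mem hπ f h0 j
      have hsplit := PowerSeries.eq_X_pow_mul_shift_add_trunc N a
      rw [hsplit]
      refine add_mem ?_ (poly_mem σ _ hC hX _)
      rw [mem_fixSubring, map_mul, map_pow]
      have hσX : σ X = X + f := by rw [hfdef]; ring
      have h1 : (σ X) ^ N ∈ J π f j := by
        rw [hσX]
        have : ∀ n : ℕ, ∃ r, (X + f) ^ n = X ^ n + r * f := by
          intro n
          induction n with
          | zero => exact ⟨0, by simp⟩
          | succ n ih =>
            obtain ⟨r, hr⟩ := ih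
            exact ⟨X ^ n + r * X + r * f, by rw [pow_succ, hr]; ring⟩
        obtain ⟨r, hr⟩ := this N
        rw [hr]
        exact add_mem hN (Ideal.mul_mem_left _ _ (Ideal.subset_span (by simp)))
      exact sub_mem (Ideal.mul_mem_right _ _ h1) (Ideal.mul_mem_right _ _ hN)
    · rw [J, Ideal.span_le]
      intro x hx
      rcases hx with rfl | hx
      · have h1 : σ (C π) - C π ∈ ArLef.fixIdeal σ :=
          Ideal.subset_span ⟨C π, rfl⟩
        rw [hσπ, map_add, add_sub_cancel_left, map_mul, map_pow] at h1
        obtain ⟨u, hu⟩ := hγ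
        have h2 : C (↑u⁻¹ : B) * (C γ * C π ^ j) ∈ ArLef.fixIdeal σ :=
          Ideal.mul_mem_left _ _ h1
        rw [← mul_assoc, ← map_mul, ← hu, Units.inv_mul, map_one, one_mul] at h2
        exact h2
      · rw [Set.mem_singleton_iff] at hx
        subst hx
        exact Ideal.subset_span ⟨X, rfl⟩
  rw [hJ, length_J hπ f h0 j, length_J_one hπ f]

end main

end Groth.Agent.Lib.Helper26.FixLen
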