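import Mathlib
import Groth.Agent.Lib.Helper9.FlatCrit

set_option autoImplicit false
set_option linter.style.haveILetI false
set_option linter.unusedSectionVars false

namespace Groth.Agent.Lib.Helper26.FlatSq

open TensorProduct Function
open Groth.Agent.Lib.Helper9

universe u v

section Core

variable {R₂ : Type u} {S : Type u} [CommRing R₂] [CommRing S] [Algebra R₂ S]

theorem flat_of_sq_zero (hinj : Injective (algebraMap R₂ S)) (J : Ideal R₂) (hsq : J * J = ⊥)
    (M₂ : Type v) [AddCommGroup M₂] [Module R₂ M₂]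
    [Module.Flat S (S ⊗[R₂] M₂)] [Module.Flat (R₂ ⧸ J) ((R₂ ⧸ J) ⊗[R₂] M₂)] :
    Module.Flat R₂ M₂ := by
  apply flat_of_isNilpotent_of_rTensor_injective J ⟨2, by rw [pow_two, hsq]; rfl⟩
  set I' : Ideal S := J.map (algebraMap R₂ S) with hI'
  have hI'sq : I' * I' = ⊥ := by rw [hI', ← Ideal.map_mul, hsq, Ideal.map_bot]
  let j₁ : ↥J →ₗ[R₂] ↥I' :=
    { toFun := fun x => ⟨algebraMap R₂ S x, Ideal.mem_map_of_mem _ x.2⟩
      map_add' := fun x y => by
        apply Subtype.ext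
        simp
      map_smul' := fun r x => by
        apply Subtype.ext
        simp [Algebra.smul_def] }
  have hj₁ : Injective j₁ := by
    intro x y hxy
    apply Subtype.ext
    apply hinj
    exact congrArg Subtype.val hxy
  have hA : Module.IsTorsionBySet R₂ ↥J (J : Set R₂) := by
    rintro x ⟨a, ha⟩
    apply Subtype.ext
    have : a * (x : R₂) ∈ J * J := Ideal.mul_mem_mul ha x.2
    rw [hsq] at this
    simpa using this
  have hB : Module.IsTorsionBySet R₂ ↥I' (J : Set R₂) := by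
    rintro y ⟨a, ha⟩
    apply Subtype.ext
    have : algebraMap R₂ S a * (y : S) ∈ I' * I' :=
      Ideal.mul_mem_mul (Ideal.mem_map_of_mem _ ha) y.2
    rw [hI'sq] at this
    simpa [Algebra.smul_def] using this
  have h1 : Injective (j₁.rTensor M₂) := rTensor_injective_of_isTorsionBySet M₂ J hA hB j₁ hj₁
  let j₂ : ↥I' →ₗ[S] S := I'.subtype
  have h2 : Injective ((j₂.restrictScalars R₂).rTensor M₂) :=
    rTensor_injective_of_flat_baseChange M₂ S j₂ I'.injective_subtype
  have hcomp : (j₂.restrictScalars R₂) ∘ₗ j₁ = (Algebra.linearMap R₂ S) ∘ₗ J.subtype := by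
    ext x
    rfl
  have h3 : Injective (((Algebra.linearMap R₂ S) ∘ₗ J.subtype).rTensor M₂) := by
    rw [← hcomp, LinearMap.rTensor_comp, LinearMap.coe_comp]
    exact h2.comp h1
  rw [LinearMap.rTensor_comp, LinearMap.coe_comp] at h3
  exact Injective.of_comp h3

end Core

section Main

variable (R R' : Type u) [CommRing R] [CommRing R'] [Algebra R R'] (I : Ideal R)
  (M : Type u) [AddCommGroup M] [Module R M]

theorem main_6384 [Module.Flat (R ⧸ I) ((R ⧸ I) ⊗[R] M)] [Module.Flat R' (R' ⊗[R] M)] :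
    Module.Flat (R ⧸ ((I ^ 2).map (algebraMap R R')).comap (algebraMap R R'))
      ((R ⧸ ((I ^ 2).map (algebraMap R R')).comap (algebraMap R R')) ⊗[R] M) := by
  let J' : Ideal R' := (I ^ 2).map (algebraMap R R')
  let R₂ := R ⧸ J'.comap (algebraMap R R')
  let S := R' ⧸ J'
  let J : Ideal R₂ := I.map (Ideal.Quotient.mk (J'.comap (algebraMap R R')))
  have hsq : J * J = ⊥ := by
    rw [← Ideal.map_mul, ← pow_two, Ideal.map_eq_bot_iff_le_ker, Ideal.mk_ker]
    exact Ideal.le_comap_map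
  -- flatness over S
  haveI hS : Module.Flat S (S ⊗[R₂] (R₂ ⊗[R] M)) := by
    have hf : Module.Flat S (S ⊗[R'] (R' ⊗[R] M)) := inferInstance
    let e_a : S ⊗[R'] (R' ⊗[R] M) ≃ₗ[S] S ⊗[R] M :=
      AlgebraTensorModule.cancelBaseChange R R' S S M
    let e_b : S ⊗[R₂] (R₂ ⊗[R] M) ≃ₗ[S] S ⊗[R] M :=
      AlgebraTensorModule.cancelBaseChange R R₂ S S M
    exact Module.Flat.of_linearEquiv (e_b.trans e_a.symm)
  -- flatness over R₂ / J
  let T := R₂ ⧸ J
  let ψ : R ⧸ I →+* T := Ideal.Quotient.lift I (algebraMap R T) (fun a ha => by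
    have h1 : algebraMap R T a = Ideal.Quotient.mk J (Ideal.Quotient.mk _ a) := rfl
    rw [h1, Ideal.Quotient.eq_zero_iff_mem]
    exact Ideal.mem_map_of_mem _ ha)
  letI : Algebra (R ⧸ I) T := ψ.toAlgebra
  haveI : IsScalarTower R (R ⧸ I) T := IsScalarTower.of_algebraMap_eq (fun x => rfl)
  haveI hT : Module.Flat T (T ⊗[R₂] (R₂ ⊗[R] M)) := by
    have hf : Module.Flat T (T ⊗[R ⧸ I] ((R ⧸ I) ⊗[R] M)) := inferInstance
    let e_c : T ⊗[R ⧸ I] ((R ⧸ I) ⊗[R] M) ≃ₗ[T] T ⊗[R] M :=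
      AlgebraTensorModule.cancelBaseChange R (R ⧸ I) T T M
    let e_d : T ⊗[R₂] (R₂ ⊗[R] M) ≃ₗ[T] T ⊗[R] M :=
      AlgebraTensorModule.cancelBaseChange R R₂ T T M
    exact Module.Flat.of_linearEquiv (e_d.trans e_c.symm)
  exact flat_of_sq_zero (R₂ := R₂) (S := S) Ideal.algebraMap_quotient_injective J hsq (R₂ ⊗[R] M)

end Main

end Groth.Agent.Lib.Helper26.FlatSq
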