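import Mathlib

namespace Groth.Agent.Lib.Helper26.FliftA
universe u
open AlgebraicGeometry CategoryTheory

lemma eq_toSpecΓ_comp {X : Scheme.{u}} {D : CommRingCat.{u}} (g : X ⟶ Spec D) :
    g = X.toSpecΓ ≫ Spec.map ((Scheme.ΓSpecIso D).inv ≫ g.appTop) := by
  rw [Spec.map_comp, ← Category.assoc, ← Scheme.toSpecΓ_naturality, Category.assoc,
    toSpecΓ_SpecMap_ΓSpecIso_inv, Category.comp_id]

lemma ker_appTop_le_nilradical {T T' : Scheme.{u}} [CompactSpace T'] (i : T ⟶ T')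
    (hi : Function.Surjective i.base) :
    RingHom.ker i.appTop.hom ≤ nilradical Γ(T', ⊤) := by
  intro b hb
  rw [mem_nilradical, Scheme.isNilpotent_iff_basicOpen_eq_bot_of_isCompact (U := ⊤)
    (by simpa using CompactSpace.isCompact_univ)]
  have h1 : i ⁻¹ᵁ T'.basicOpen b = ⊥ := by
    rw [Scheme.preimage_basicOpen_top]
    have : i.appTop b = 0 := hb
    rw [this]
    exact Scheme.basicOpen_zero _ _
  ext y
  simp only [TopologicalSpace.Opens.coe_bot, Set.mem_empty_iff_false, iff_false]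
  intro hy
  obtain ⟨x, rfl⟩ := hi y
  have : x ∈ i ⁻¹ᵁ T'.basicOpen b := hy
  rw [h1] at this
  exact this

theorem exists_lift_of_formallySmooth {R D : Type u} [CommRing R] [CommRing D] [Algebra R D]
    [Algebra.FormallySmooth R D] {T T' : Scheme.{u}} [IsAffine T'] (i : T ⟶ T')
    [IsClosedImmersion i] (hi : Function.Surjective i.base) [IsNoetherianRing Γ(T', ⊤)]
    (σ' : T' ⟶ Spec (CommRingCat.of R)) (g : T ⟶ Spec (CommRingCat.of D))
    (hg : g ≫ Spec.map (CommRingCat.ofHom (algebraMap R D)) = i ≫ σ') :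
    ∃ g' : T' ⟶ Spec (CommRingCat.of D), i ≫ g' = g ∧
      g' ≫ Spec.map (CommRingCat.ofHom (algebraMap R D)) = σ' := by
  obtain ⟨hTaff, hsurj⟩ := IsClosedImmersion.isAffine_surjective_of_isAffine i
  -- ring maps
  let sR : CommRingCat.of R ⟶ Γ(T', ⊤) := (Scheme.ΓSpecIso (CommRingCat.of R)).inv ≫ σ'.appTop
  let gD : CommRingCat.of D ⟶ Γ(T, ⊤) := (Scheme.ΓSpecIso (CommRingCat.of D)).inv ≫ g.appTop
  have hcompat : CommRingCat.ofHom (algebraMap R D) ≫ gD = sR ≫ i.appTop := by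
    have h1 := congrArg Scheme.Hom.appTop hg
    rw [Scheme.Hom.comp_appTop, Scheme.Hom.comp_appTop] at h1
    simp only [gD, sR]
    rw [Scheme.ΓSpecIso_inv_naturality_assoc, h1, Category.assoc]
  letI algT' : Algebra R Γ(T', ⊤) := sR.hom.toAlgebra
  letI algT : Algebra R Γ(T, ⊤) := (sR ≫ i.appTop).hom.toAlgebra
  let π : Γ(T', ⊤) →ₐ[R] Γ(T, ⊤) := { i.appTop.hom with commutes' := fun r => rfl }
  let gA : D →ₐ[R] Γ(T, ⊤) :=
    { gD.hom with
      commutes' := fun r => by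
        have := congrArg (fun φ => φ.hom r) hcompat
        exact this }
  have hπsurj : Function.Surjective π := hsurj
  have hnil : IsNilpotent (RingHom.ker (π : Γ(T', ⊤) →+* Γ(T, ⊤))) := by
    obtain ⟨k, hk⟩ := IsNoetherianRing.isNilpotent_nilradical Γ(T', ⊤)
    refine ⟨k, ?_⟩
    have hle : RingHom.ker (π : Γ(T', ⊤) →+* Γ(T, ⊤)) ≤ nilradical Γ(T', ⊤) :=
      ker_appTop_le_nilradical i hi
    exact le_bot_iff.mp ((Ideal.pow_right_mono hle k).trans hk.le)
  let l : D →ₐ[R] Γ(T', ⊤) := Algebra.FormallySmooth.liftOfSurjective gA π hπsurj hnil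
  have hl : π.comp l = gA := Algebra.FormallySmooth.comp_liftOfSurjective gA π hπsurj hnil
  refine ⟨T'.toSpecΓ ≫ Spec.map (CommRingCat.ofHom l.toRingHom), ?_, ?_⟩
  · rw [← Category.assoc, Scheme.toSpecΓ_naturality, Category.assoc, ← Spec.map_comp]
    have h2 : CommRingCat.ofHom l.toRingHom ≫ i.appTop = gD := by
      ext d
      exact congrArg (fun φ : D →ₐ[R] Γ(T, ⊤) => φ d) hl
    rw [h2]
    exact (eq_toSpecΓ_comp g).symm
  · rw [Category.assoc, ← Spec.map_comp]
    have h3 : CommRingCat.ofHom (algebraMap R D) ≫ CommRingCat.ofHom l.toRingHom = sR := by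
      ext r
      exact l.commutes r
    rw [h3]
    exact (eq_toSpecΓ_comp σ').symm

end Groth.Agent.Lib.Helper26.FliftA
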