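import Mathlib
import Groth.Agent.Lib.Helper26.FliftA
import Groth.Agent.Lib.Helper1.FSchBasic

namespace Groth.Agent.Lib.Helper26.FliftB
universe u
open AlgebraicGeometry CategoryTheory CategoryTheory.Limits Groth.Agent.Lib.Helper1
  Groth.Agent.Lib.Helper26.FliftA

section general
variable {S : Scheme.{u}} (𝒥 : S.IdealSheafData) {U : Scheme.{u}} (u : U ⟶ S)

/-- the completion of `U` along the pullback ideal -/
noncomputable abbrev sysOf : FSch.Sys.{u} := FSch.completionAlong U (𝒥.comap u)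

/-- its map to the completion of `S` -/
noncomputable abbrev mapOf : sysOf 𝒥 u ⟶ FSch.completionAlong S 𝒥 :=
  FSch.completionMap u (𝒥.comap u) 𝒥 (powCompat_comap u 𝒥)

lemma isPullback_level (n : ℕ) : IsPullback (FSch.completionToX U (𝒥.comap u) n)
    ((mapOf 𝒥 u : FSch.Hom _ _).app n) u (FSch.completionToX S 𝒥 n) :=
  completion_isPullback u 𝒥 _ n

lemma smooth_level [Smooth u] (n : ℕ) : Smooth ((mapOf 𝒥 u : FSch.Hom _ _).app n) :=
  MorphismProperty.of_isPullback (P := @Smooth) (isPullback_level 𝒥 u n) inferInstance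

lemma ι_toX (n : ℕ) : (sysOf 𝒥 u).ι n ≫ FSch.completionToX U (𝒥.comap u) (n + 1) =
    FSch.completionToX U (𝒥.comap u) n :=
  Scheme.IdealSheafData.inclusion_subschemeι _

lemma ι_toS (n : ℕ) : (FSch.completionAlong S 𝒥).ι n ≫ FSch.completionToX S 𝒥 (n + 1) =
    FSch.completionToX S 𝒥 n :=
  Scheme.IdealSheafData.inclusion_subschemeι _

lemma isAdicHom_mapOf : FSch.IsAdicHom (mapOf 𝒥 u) := by
  intro n
  have s := (isPullback_level 𝒥 u n).flip
  have t := (isPullback_level 𝒥 u (n + 1)).flip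
  rw [← ι_toX 𝒥 u n, ← ι_toS 𝒥 n] at s
  exact (IsPullback.of_bot s ((mapOf 𝒥 u : FSch.Hom _ _).comm n) t).flip

end general

section affine
variable {S : Scheme.{u}} (𝒥 : S.IdealSheafData) {R C D : Type u} [CommRing R] [IsNoetherianRing R]
  [CommRing C] [CommRing D] [Algebra R C] [Algebra R D] [Algebra.Smooth R C] [Algebra.Smooth R D]
  (w : Spec (CommRingCat.of R) ⟶ S) [IsOpenImmersion w]

/-- the structure map of `Spec C` -/
noncomputable abbrev uOf (C : Type u) [CommRing C] [Algebra R C] : Spec (CommRingCat.of C) ⟶ S :=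
  Spec.map (CommRingCat.ofHom (algebraMap R C)) ≫ w

instance smooth_uOf : Smooth (uOf (C := C) w) := by
  have h1 : Smooth (Spec.map (CommRingCat.ofHom (algebraMap R C))) := by
    rw [HasRingHomProperty.Spec_iff (P := @Smooth)]
    exact RingHom.smooth_algebraMap.mpr inferInstance
  infer_instance

include w in
lemma isNoetherianRing_C : IsNoetherianRing C := Algebra.FiniteType.isNoetherianRing R C

/-- the structure map of the levels to `Spec R` -/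
noncomputable abbrev sigmaOf (n : ℕ) :
    (sysOf 𝒥 (uOf (C := C) w)).X n ⟶ Spec (CommRingCat.of R) :=
  FSch.completionToX _ (𝒥.comap (uOf (C := C) w)) n ≫
    Spec.map (CommRingCat.ofHom (algebraMap R C))

lemma ι_sigmaOf (n : ℕ) :
    (sysOf 𝒥 (uOf (C := C) w)).ι n ≫ sigmaOf (C := C) 𝒥 w (n + 1) = sigmaOf (C := C) 𝒥 w n := by
  unfold sigmaOf
  rw [← Category.assoc, ι_toX]

lemma step (n : ℕ) (g : (sysOf 𝒥 (uOf (C := C) w)).X n ⟶ Spec (CommRingCat.of D))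
    (hg : g ≫ Spec.map (CommRingCat.ofHom (algebraMap R D)) = sigmaOf (C := C) 𝒥 w n) :
    ∃ g' : (sysOf 𝒥 (uOf (C := C) w)).X (n + 1) ⟶ Spec (CommRingCat.of D),
      (sysOf 𝒥 (uOf (C := C) w)).ι n ≫ g' = g ∧
      g' ≫ Spec.map (CommRingCat.ofHom (algebraMap R D)) = sigmaOf (C := C) 𝒥 w (n + 1) := by
  haveI : IsNoetherianRing C := isNoetherianRing_C (C := C) w
  have hform := completionAlong_isFormal (Spec (CommRingCat.of C)) (𝒥.comap (uOf (C := C) w)) n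
  haveI : IsClosedImmersion ((sysOf 𝒥 (uOf (C := C) w)).ι n) := hform.1
  haveI hci : IsClosedImmersion (FSch.completionToX (Spec (CommRingCat.of C))
      (𝒥.comap (uOf (C := C) w)) (n + 1)) :=
    inferInstanceAs (IsClosedImmersion ((𝒥.comap (uOf (C := C) w)) ^ (n + 1 + 1)).subschemeι)
  haveI : IsAffine ((sysOf 𝒥 (uOf (C := C) w)).X (n + 1)) :=
    isAffine_of_isAffineHom (FSch.completionToX (Spec (CommRingCat.of C))
      (𝒥.comap (uOf (C := C) w)) (n + 1))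
  haveI : IsLocallyNoetherian ((sysOf 𝒥 (uOf (C := C) w)).X (n + 1)) :=
    (completionAlong_isLocNoethFormal (Spec (CommRingCat.of C)) (𝒥.comap (uOf (C := C) w))).2.2 _
  haveI : IsNoetherianRing Γ((sysOf 𝒥 (uOf (C := C) w)).X (n + 1), ⊤) :=
    IsLocallyNoetherian.component_noetherian ⟨⊤, isAffineOpen_top _⟩
  exact exists_lift_of_formallySmooth ((sysOf 𝒥 (uOf (C := C) w)).ι n) hform.2
    (sigmaOf (C := C) 𝒥 w (n + 1)) g (by rw [hg, ι_sigmaOf])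

section phi
variable (g₀ : (sysOf 𝒥 (uOf (C := C) w)).X 0 ⟶ (sysOf 𝒥 (uOf (C := D) w)).X 0)
  (hg₀ : g₀ ≫ (mapOf 𝒥 (uOf (C := D) w) : FSch.Hom _ _).app 0 =
    (mapOf 𝒥 (uOf (C := C) w) : FSch.Hom _ _).app 0)
include hg₀

lemma base_compat :
    (g₀ ≫ FSch.completionToX _ (𝒥.comap (uOf (C := D) w)) 0) ≫
      Spec.map (CommRingCat.ofHom (algebraMap R D)) = sigmaOf (C := C) 𝒥 w 0 := by
  rw [← cancel_mono w]
  simp only [Category.assoc]
  have h1 := (isPullback_level 𝒥 (uOf (C := D) w) 0).w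
  have h2 := (isPullback_level 𝒥 (uOf (C := C) w) 0).w
  simp only [uOf] at h1 h2
  rw [h1, ← Category.assoc, hg₀, ← h2]

/-- the compatible sequence of lifts -/
noncomputable def gseq : ∀ n : ℕ,
    {g : (sysOf 𝒥 (uOf (C := C) w)).X n ⟶ Spec (CommRingCat.of D) //
      g ≫ Spec.map (CommRingCat.ofHom (algebraMap R D)) = sigmaOf (C := C) 𝒥 w n}
  | 0 => ⟨g₀ ≫ FSch.completionToX _ (𝒥.comap (uOf (C := D) w)) 0, base_compat 𝒥 w g₀ hg₀⟩
  | n + 1 => ⟨Classical.choose (step (D := D) 𝒥 w n (gseq n).1 (gseq n).2),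
      (Classical.choose_spec (step (D := D) 𝒥 w n (gseq n).1 (gseq n).2)).2⟩

lemma gseq_succ (n : ℕ) :
    (sysOf 𝒥 (uOf (C := C) w)).ι n ≫ (gseq 𝒥 w g₀ hg₀ (n + 1)).1 = (gseq 𝒥 w g₀ hg₀ n).1 :=
  (Classical.choose_spec (step (D := D) 𝒥 w n (gseq 𝒥 w g₀ hg₀ n).1 (gseq 𝒥 w g₀ hg₀ n).2)).1

lemma gseq_comm (n : ℕ) : (gseq 𝒥 w g₀ hg₀ n).1 ≫ uOf (C := D) w =
    (mapOf 𝒥 (uOf (C := C) w) : FSch.Hom _ _).app n ≫ FSch.completionToX S 𝒥 n := by
  have h2 := (isPullback_level 𝒥 (uOf (C := C) w) n).w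
  rw [← h2]
  simp only [uOf]
  rw [← Category.assoc, (gseq 𝒥 w g₀ hg₀ n).2, Category.assoc]

/-- the levels of `Φ` -/
noncomputable def phiApp (n : ℕ) :
    (sysOf 𝒥 (uOf (C := C) w)).X n ⟶ (sysOf 𝒥 (uOf (C := D) w)).X n :=
  (isPullback_level 𝒥 (uOf (C := D) w) n).lift (gseq 𝒥 w g₀ hg₀ n).1
    ((mapOf 𝒥 (uOf (C := C) w) : FSch.Hom _ _).app n) (gseq_comm 𝒥 w g₀ hg₀ n)

lemma phiApp_fst (n : ℕ) : phiApp 𝒥 w g₀ hg₀ n ≫
    FSch.completionToX _ (𝒥.comap (uOf (C := D) w)) n = (gseq 𝒥 w g₀ hg₀ n).1 :=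
  (isPullback_level 𝒥 (uOf (C := D) w) n).lift_fst _ _ _

lemma phiApp_snd (n : ℕ) : phiApp 𝒥 w g₀ hg₀ n ≫
    (mapOf 𝒥 (uOf (C := D) w) : FSch.Hom _ _).app n =
      (mapOf 𝒥 (uOf (C := C) w) : FSch.Hom _ _).app n :=
  (isPullback_level 𝒥 (uOf (C := D) w) n).lift_snd _ _ _

theorem exists_Phi : ∃ Φ : sysOf 𝒥 (uOf (C := C) w) ⟶ sysOf 𝒥 (uOf (C := D) w),
    Φ ≫ mapOf 𝒥 (uOf (C := D) w) = mapOf 𝒥 (uOf (C := C) w) ∧
      (Φ : FSch.Hom _ _).app 0 = g₀ := by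
  refine ⟨⟨phiApp 𝒥 w g₀ hg₀, fun n => ?_⟩, ?_, ?_⟩
  · apply (isPullback_level 𝒥 (uOf (C := D) w) (n + 1)).hom_ext
    · rw [Category.assoc, Category.assoc, ι_toX, phiApp_fst, phiApp_fst, gseq_succ]
    · rw [Category.assoc, Category.assoc, ← (mapOf 𝒥 (uOf (C := D) w) : FSch.Hom _ _).comm n,
        ← Category.assoc, phiApp_snd, phiApp_snd,
        (mapOf 𝒥 (uOf (C := C) w) : FSch.Hom _ _).comm n]
  · apply FSch.Hom.ext
    funext n
    exact phiApp_snd 𝒥 w g₀ hg₀ n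
  · apply (isPullback_level 𝒥 (uOf (C := D) w) 0).hom_ext
    · show phiApp 𝒥 w g₀ hg₀ 0 ≫ _ = _
      rw [phiApp_fst]
      rfl
    · show phiApp 𝒥 w g₀ hg₀ 0 ≫ _ = _
      rw [phiApp_snd, hg₀]

end phi

end affine

end Groth.Agent.Lib.Helper26.FliftB
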