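import Mathlib

set_option autoImplicit false
universe u

namespace Groth.Agent.Lib.Helper26.SmLiftA

open MvPolynomial

variable {R : Type u} [CommRing R] (I : Ideal R) {A₀ : Type u} [CommRing A₀]
  [Algebra (R ⧸ I) A₀]

/-- Key identity: for a formally smooth `R/I`-algebra `A₀` presented as a quotient of `R[x]`
with kernel `J`, there are `ft i ∈ J` with `p ≡ ∑ ∂ᵢp · ft i` modulo `J² + I R[x]` for `p ∈ J`. -/
theorem exists_ft [Algebra.FormallySmooth (R ⧸ I) A₀] {n : ℕ}
    (ψ : MvPolynomial (Fin n) R →+* A₀) (hψ : Function.Surjective ψ)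
    (hC : ∀ r, ψ (C r) = algebraMap (R ⧸ I) A₀ (Ideal.Quotient.mk I r)) :
    ∃ ft : Fin n → MvPolynomial (Fin n) R, (∀ i, ft i ∈ RingHom.ker ψ) ∧
      ∀ p ∈ RingHom.ker ψ, p - ∑ i, pderiv i p * ft i ∈ (RingHom.ker ψ) ^ 2 ⊔ I.map C := by
  classical
  set P := MvPolynomial (Fin n) R
  set J : Ideal P := RingHom.ker ψ with hJ
  set L : Ideal P := J ^ 2 ⊔ I.map C with hL
  have hIJ : I.map (C : R →+* P) ≤ J := by
    rw [Ideal.map_le_iff_le_comap]
    intro a ha
    show ψ (C a) = 0
    rw [hC, Ideal.Quotient.eq_zero_iff_mem.mpr ha, map_zero]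
  have hLJ : L ≤ J := sup_le (Ideal.pow_le_self two_ne_zero) hIJ
  -- the R/I-algebra structure on T = P/L
  let T := P ⧸ L
  have hIT : ∀ a ∈ I, (algebraMap R T) a = 0 := by
    intro a ha
    show Ideal.Quotient.mk L (C a) = 0
    rw [Ideal.Quotient.eq_zero_iff_mem]
    exact le_sup_right (a := J ^ 2) (Ideal.mem_map_of_mem _ ha)
  letI algT : Algebra (R ⧸ I) T := (Ideal.Quotient.lift I (algebraMap R T) hIT).toAlgebra
  have halgT : ∀ r : R, algebraMap (R ⧸ I) T (Ideal.Quotient.mk I r) = Ideal.Quotient.mk L (C r) :=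
    fun r => rfl
  -- π : T → A₀
  let π₀ : T →+* A₀ := Ideal.Quotient.lift L ψ (fun x hx => hLJ hx)
  have hπ₀ : ∀ p : P, π₀ (Ideal.Quotient.mk L p) = ψ p := fun p => rfl
  let π : T →ₐ[R ⧸ I] A₀ :=
    { π₀ with
      commutes' := by
        intro r
        obtain ⟨r, rfl⟩ := Ideal.Quotient.mk_surjective r
        show π₀ (algebraMap (R ⧸ I) T (Ideal.Quotient.mk I r)) = _
        rw [halgT, hπ₀, hC] }
  have hπ : ∀ p : P, π (Ideal.Quotient.mk L p) = ψ p := fun p => rfl
  have hπsurj : Function.Surjective π := by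
    intro a
    obtain ⟨p, rfl⟩ := hψ a
    exact ⟨Ideal.Quotient.mk L p, rfl⟩
  -- kernel of π squares to zero
  have hker : ∀ u v : T, π u = 0 → π v = 0 → u * v = 0 := by
    intro u v hu hv
    obtain ⟨p, rfl⟩ := Ideal.Quotient.mk_surjective u
    obtain ⟨q, rfl⟩ := Ideal.Quotient.mk_surjective v
    rw [hπ] at hu hv
    rw [← map_mul, Ideal.Quotient.eq_zero_iff_mem]
    refine le_sup_left (b := I.map C) ?_
    rw [pow_two]
    exact Ideal.mul_mem_mul hu hv
  have hnil : IsNilpotent (RingHom.ker (π : T →+* A₀)) := by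
    refine ⟨2, ?_⟩
    have h2 : RingHom.ker (π : T →+* A₀) * RingHom.ker (π : T →+* A₀) ≤ ⊥ := by
      rw [Ideal.mul_le]
      intro u hu v hv
      rw [Ideal.mem_bot]
      exact hker u v hu hv
    have h3 : RingHom.ker (π : T →+* A₀) ^ 2 = RingHom.ker (π : T →+* A₀) * RingHom.ker (π : T →+* A₀) := by
      rw [show (2 : ℕ) = 1 + 1 from rfl, Submodule.pow_succ, Submodule.pow_one]
    exact le_bot_iff.mp (h3 ▸ h2)
  let s : A₀ →ₐ[R ⧸ I] T := Algebra.FormallySmooth.liftOfSurjective (AlgHom.id _ A₀) π hπsurj hnil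
  have hs : ∀ a, π (s a) = a := fun a =>
    Algebra.FormallySmooth.liftOfSurjective_apply (AlgHom.id _ A₀) π hπsurj hnil a
  -- δ p = mk p - s (ψ p)
  let δ : P → T := fun p => Ideal.Quotient.mk L p - s (ψ p)
  have hδker : ∀ p, π (δ p) = 0 := by
    intro p
    simp only [δ, map_sub, hπ, hs, sub_self]
  have hsC : ∀ r : R, s (ψ (C r)) = Ideal.Quotient.mk L (C r) := by
    intro r
    rw [hC, s.commutes, halgT]
  -- the key formula
  have key : ∀ p : P, δ p = ∑ i, Ideal.Quotient.mk L (pderiv i p) * δ (X i) := by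
    intro p
    induction p using MvPolynomial.induction_on with
    | C r =>
      simp only [δ, hsC, sub_self, pderiv_C, map_zero, zero_mul, Finset.sum_const_zero]
    | add p q hp hq =>
      have : δ (p + q) = δ p + δ q := by
        simp only [δ, map_add]; ring
      rw [this, hp, hq, ← Finset.sum_add_distrib]
      refine Finset.sum_congr rfl fun i _ => ?_
      rw [map_add, map_add, add_mul]
    | mul_X p k hp =>
      have h1 : δ (p * X k) = Ideal.Quotient.mk L p * δ (X k) + Ideal.Quotient.mk L (X k) * δ p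
          - δ p * δ (X k) := by
        simp only [δ, map_mul]; ring
      have h2 : δ p * δ (X k) = 0 := hker _ _ (hδker p) (hδker (X k))
      rw [h1, h2, sub_zero, hp]
      have h3 : ∀ i, Ideal.Quotient.mk L (pderiv i (p * X k)) * δ (X i) =
          Ideal.Quotient.mk L (X k) * (Ideal.Quotient.mk L (pderiv i p) * δ (X i)) +
            (if i = k then Ideal.Quotient.mk L p * δ (X k) else 0) := by
        intro i
        rw [Derivation.leibniz, pderiv_X]
        simp only [smul_eq_mul, map_add, map_mul]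
        by_cases hik : i = k
        · subst hik
          simp only [Pi.single_eq_same, map_one, mul_one, if_true]
          ring
        · simp only [Pi.single_eq_of_ne' hik, map_zero, mul_zero, zero_add, if_neg hik,
            add_zero]
          ring
      rw [Finset.sum_congr rfl (fun i _ => h3 i), Finset.sum_add_distrib, ← Finset.mul_sum,
        Finset.sum_ite_eq' Finset.univ k, if_pos (Finset.mem_univ k)]
      ring
  -- choose ft
  have hex : ∀ i, ∃ g : P, Ideal.Quotient.mk L g = δ (X i) := fun i =>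
    Ideal.Quotient.mk_surjective _
  choose ft hft using hex
  refine ⟨ft, ?_, ?_⟩
  · intro i
    show ψ (ft i) = 0
    rw [← hπ, hft, hδker]
  · intro p hp
    rw [← Ideal.Quotient.eq_zero_iff_mem, map_sub, map_sum]
    have h1 : δ p = Ideal.Quotient.mk L p := by
      have : ψ p = 0 := hp
      simp only [δ, this, map_zero, sub_zero]
    rw [← h1, key p, sub_eq_zero]
    refine Finset.sum_congr rfl fun i _ => ?_
    rw [map_mul, hft]

end Groth.Agent.Lib.Helper26.SmLiftA
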