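import Mathlib

set_option autoImplicit false
universe u

namespace Groth.Agent.Lib.Helper26.SmLiftB

open MvPolynomial

variable {R : Type u} [CommRing R] (I : Ideal R) {n : ℕ}

theorem pderiv_mem_map_C (j : Fin n) (x : MvPolynomial (Fin n) R)
    (hx : x ∈ I.map (C : R →+* MvPolynomial (Fin n) R)) :
    pderiv j x ∈ I.map (C : R →+* MvPolynomial (Fin n) R) := by
  have : x ∈ I.map (C : R →+* MvPolynomial (Fin n) R) ∧
      pderiv j x ∈ I.map (C : R →+* MvPolynomial (Fin n) R) := by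
    rw [Ideal.map, ] at hx ⊢
    induction hx using Submodule.span_induction with
    | mem x hx =>
      obtain ⟨a, ha, rfl⟩ := hx
      refine ⟨Ideal.subset_span ⟨a, ha, rfl⟩, ?_⟩
      rw [pderiv_C]
      exact Submodule.zero_mem _
    | zero => exact ⟨Submodule.zero_mem _, by rw [map_zero]; exact Submodule.zero_mem _⟩
    | add x y _ _ hx hy =>
      exact ⟨Submodule.add_mem _ hx.1 hy.1, by rw [map_add]; exact Submodule.add_mem _ hx.2 hy.2⟩
    | smul p x _ hx =>
      refine ⟨Ideal.mul_mem_left _ _ hx.1, ?_⟩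
      rw [smul_eq_mul, Derivation.leibniz]
      exact Submodule.add_mem _ (Ideal.mul_mem_left _ _ hx.2) (Ideal.mul_mem_right _ _ hx.1)
  exact this.2

theorem pderiv_mem_of_mem_sq_sup (J : Ideal (MvPolynomial (Fin n) R))
    (hIJ : I.map (C : R →+* MvPolynomial (Fin n) R) ≤ J) (j : Fin n)
    (x : MvPolynomial (Fin n) R) (hx : x ∈ J ^ 2 ⊔ I.map (C : R →+* MvPolynomial (Fin n) R)) :
    pderiv j x ∈ J := by
  have hJ2 : ∀ a ∈ J * J, pderiv j a ∈ J := by
    intro a ha
    induction ha using Submodule.mul_induction_on' with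
    | mem_mul_mem u hu v hv =>
      rw [Derivation.leibniz]
      exact J.add_mem (J.mul_mem_right _ hu) (J.mul_mem_right _ hv)
    | add x _ y _ hx hy =>
      rw [map_add]
      exact J.add_mem hx hy
  obtain ⟨a, ha, b, hb, rfl⟩ := Submodule.mem_sup.mp hx
  rw [map_add]
  rw [pow_two] at ha
  exact J.add_mem (hJ2 a ha) (hIJ (pderiv_mem_map_C I j b hb))

theorem ebar_idempotent (J : Ideal (MvPolynomial (Fin n) R))
    (hIJ : I.map (C : R →+* MvPolynomial (Fin n) R) ≤ J)
    (ft : Fin n → MvPolynomial (Fin n) R) (hft : ∀ i, ft i ∈ J)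
    (hKI : ∀ p ∈ J, p - ∑ i, pderiv i p * ft i ∈ J ^ 2 ⊔ I.map C)
    (Ebar : Matrix (Fin n) (Fin n) (MvPolynomial (Fin n) R ⧸ J))
    (hE : ∀ j k, Ebar j k = Ideal.Quotient.mk J (pderiv j (ft k))) :
    Ebar * Ebar = Ebar := by
  ext j i
  rw [Matrix.mul_apply]
  have h1 := pderiv_mem_of_mem_sq_sup I J hIJ j _ (hKI (ft i) (hft i))
  rw [map_sub, map_sum, ← Ideal.Quotient.eq_zero_iff_mem, map_sub, map_sum, sub_eq_zero] at h1
  rw [hE j i, h1]
  refine Finset.sum_congr rfl fun k _ => ?_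
  rw [Derivation.leibniz, map_add, smul_eq_mul, smul_eq_mul, map_mul, map_mul,
    Ideal.Quotient.eq_zero_iff_mem.mpr (hft k), zero_mul, add_zero, hE, hE, mul_comm]

end Groth.Agent.Lib.Helper26.SmLiftB
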