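import Mathlib

set_option autoImplicit false
universe u

namespace Groth.Agent.Lib.Helper26.SmLiftC

open KaehlerDifferential

/-- An `R`-derivation of `S` extends to a formally étale `S`-algebra `T`. -/
theorem exists_derivation_extension (R S T : Type*) [CommRing R] [CommRing S] [CommRing T]
    [Algebra R S] [Algebra R T] [Algebra S T] [IsScalarTower R S T] [Algebra.FormallyEtale S T]
    (d : Derivation R S S) :
    ∃ d' : Derivation R T T, ∀ s : S, d' (algebraMap S T s) = algebraMap S T (d s) := by
  have hbc := KaehlerDifferential.isBaseChange_of_formallyEtale R S T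
  let g : Ω[S⁄R] →ₗ[S] T := (Algebra.linearMap S T) ∘ₗ d.liftKaehlerDifferential
  let ℓ : Ω[T⁄R] →ₗ[T] T := hbc.lift g
  refine ⟨ℓ.compDer (KaehlerDifferential.D R T), fun s => ?_⟩
  show ℓ (KaehlerDifferential.D R T (algebraMap S T s)) = _
  have h1 : KaehlerDifferential.D R T (algebraMap S T s) =
      KaehlerDifferential.map R R S T (KaehlerDifferential.D R S s) := by
    rw [KaehlerDifferential.map_D]
  rw [h1]
  show hbc.lift g _ = _
  rw [hbc.lift_eq]
  simp [g]

end Groth.Agent.Lib.Helper26.SmLiftC
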