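import Mathlib

set_option autoImplicit false
universe u

namespace Groth.Agent.Lib.Helper26.SmLiftF

open MvPolynomial Matrix

variable {R : Type u} [CommRing R] (I : Ideal R) {n : ℕ}

section
variable (J : Ideal (MvPolynomial (Fin n) R))
  (ft : Fin n → MvPolynomial (Fin n) R) (hft : ∀ i, ft i ∈ J)
  (Ebar : Matrix (Fin n) (Fin n) (MvPolynomial (Fin n) R ⧸ J))
  (hEb : ∀ j k, Ebar j k = Ideal.Quotient.mk J (pderiv j (ft k)))
  (hEbi : Ebar * Ebar = Ebar)
  {P' : Type u} [CommRing P'] [Algebra R P'] [Algebra (MvPolynomial (Fin n) R) P']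
  [IsScalarTower R (MvPolynomial (Fin n) R) P']
  (φ' : P' →ₐ[MvPolynomial (Fin n) R] MvPolynomial (Fin n) R ⧸ J)
  (E' : Matrix (Fin n) (Fin n) P') (hE'map : E'.map φ' = Ebar)
  (d' : Fin n → Derivation R P' P')
  (hd' : ∀ j p, d' j (algebraMap (MvPolynomial (Fin n) R) P' p) =
    algebraMap (MvPolynomial (Fin n) R) P' (pderiv j p))

include hft hEb hEbi hE'map hd' in
/-- The determinant of `W = E C E + 1 - E` is `1` modulo the kernel of `φ'`. -/
theorem map_det_W :
    φ' ((E' * (Matrix.of fun j i => d' j (∑ k, E' k i * algebraMap _ P' (ft k))) * E' + 1 - E').det)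
      = 1 := by
  set f' : Fin n → P' := fun i => ∑ k, E' k i * algebraMap _ P' (ft k) with hf'
  set C' : Matrix (Fin n) (Fin n) P' := Matrix.of fun j i => d' j (f' i) with hC'
  have hφalg : ∀ p, φ' (algebraMap _ P' p) = Ideal.Quotient.mk J p := fun p => φ'.commutes p
  have hE'jk : ∀ j k, φ' (E' j k) = Ebar j k := fun j k => by rw [← hE'map]; rfl
  have hCmap : C'.map φ' = Ebar := by
    ext j i
    show φ' (d' j (f' i)) = Ebar j i
    rw [hf']
    simp only [map_sum, Derivation.leibniz, smul_eq_mul, map_add, map_mul, hd', hφalg, hE'jk]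
    have : ∀ k, Ebar k i * Ideal.Quotient.mk J (pderiv j (ft k)) +
        Ideal.Quotient.mk J (ft k) * φ' (d' j (E' k i)) = Ebar j k * Ebar k i := by
      intro k
      rw [Ideal.Quotient.eq_zero_iff_mem.mpr (hft k), zero_mul, add_zero, ← hEb, mul_comm]
    rw [Finset.sum_congr rfl (fun k _ => this k), ← Matrix.mul_apply, hEbi]
  have hW : (E' * C' * E' + 1 - E').map φ' = 1 := by
    have h1 : (E' * C' * E' + 1 - E').map φ' = φ'.toRingHom.mapMatrix (E' * C' * E' + 1 - E') := rfl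
    rw [h1, map_sub, map_add, map_mul, map_mul, map_one]
    have h2 : φ'.toRingHom.mapMatrix E' = Ebar := hE'map
    have h3 : φ'.toRingHom.mapMatrix C' = Ebar := hCmap
    rw [h2, h3, hEbi, hEbi, add_sub_cancel_left]
  have := RingHom.map_det φ'.toRingHom (E' * C' * E' + 1 - E')
  rw [RingHom.mapMatrix_apply] at this
  have h4 : (E' * C' * E' + 1 - E').map ⇑φ'.toRingHom = 1 := hW
  rw [h4, Matrix.det_one] at this
  exact this

end

theorem exists_nakayama (J : Ideal (MvPolynomial (Fin n) R))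
    (s : Finset (MvPolynomial (Fin n) R))
    (hs : J = I.map (C : R →+* MvPolynomial (Fin n) R) ⊔ Ideal.span (s : Set (MvPolynomial (Fin n) R)))
    (ft : Fin n → MvPolynomial (Fin n) R) (hft : ∀ i, ft i ∈ J)
    (hKI : ∀ p ∈ J, p - ∑ i, pderiv i p * ft i ∈ J ^ 2 ⊔ I.map C)
    {P' : Type u} [CommRing P'] [Algebra R P'] [Algebra (MvPolynomial (Fin n) R) P']
    [IsScalarTower R (MvPolynomial (Fin n) R) P']
    (φ' : P' →ₐ[MvPolynomial (Fin n) R] MvPolynomial (Fin n) R ⧸ J)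
    (hker : RingHom.ker φ'.toRingHom = J.map (algebraMap (MvPolynomial (Fin n) R) P'))
    (E' : Matrix (Fin n) (Fin n) P')
    (hE'map : ∀ j k, φ' (E' j k) = Ideal.Quotient.mk J (pderiv j (ft k))) :
    ∃ r : P', φ' r = 1 ∧ ∀ y, φ' y = 0 →
      r * y ∈ Ideal.span (Set.range fun i => ∑ k, E' k i * algebraMap _ P' (ft k)) ⊔
        I.map (algebraMap R P') := by
  classical
  set alg := algebraMap (MvPolynomial (Fin n) R) P' with halg
  set 𝔍 : Ideal P' := J.map alg with h𝔍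
  set f' : Fin n → P' := fun i => ∑ k, E' k i * alg (ft k) with hf'
  set L' : Ideal P' := Ideal.span (Set.range f') ⊔ I.map (algebraMap R P') with hL'
  have hφalg : ∀ p, φ' (alg p) = Ideal.Quotient.mk J p := fun p => φ'.commutes p
  have hmem𝔍 : ∀ y, φ' y = 0 ↔ y ∈ 𝔍 := by
    intro y
    rw [← hker]
    rfl
  have hIC : (I.map (C : R →+* MvPolynomial (Fin n) R)).map alg = I.map (algebraMap R P') := by
    rw [Ideal.map_map]
    congr 1
    ext r
    show alg (C r) = algebraMap R P' r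
    rw [IsScalarTower.algebraMap_apply R (MvPolynomial (Fin n) R) P']
    rfl
  -- images of J² ⊔ IP
  have hJ2 : ∀ q ∈ J ^ 2 ⊔ I.map (C : R →+* MvPolynomial (Fin n) R), alg q ∈ 𝔍 * 𝔍 ⊔ I.map (algebraMap R P') := by
    intro q hq
    have := Ideal.mem_map_of_mem alg hq
    rw [Ideal.map_sup, Ideal.map_pow, hIC, pow_two] at this
    exact this
  have hftJ : ∀ k, alg (ft k) ∈ 𝔍 := fun k => Ideal.mem_map_of_mem alg (hft k)
  -- alg (ft i) ∈ L' ⊔ 𝔍²
  have hfti : ∀ i, alg (ft i) ∈ L' ⊔ 𝔍 * 𝔍 := by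
    intro i
    have h1 := hJ2 _ (hKI (ft i) (hft i))
    rw [map_sub, map_sum] at h1
    have h2 : ∑ k, alg (pderiv k (ft i) * ft k) - f' i ∈ 𝔍 * 𝔍 := by
      rw [hf']
      simp only
      rw [← Finset.sum_sub_distrib]
      refine (𝔍 * 𝔍).sum_mem fun k _ => ?_
      rw [map_mul, ← sub_mul]
      refine Ideal.mul_mem_mul ?_ (hftJ k)
      rw [← hmem𝔍, map_sub, hφalg, hE'map, sub_self]
    have h3 : f' i ∈ L' := le_sup_left (a := Ideal.span (Set.range f'))
      (Ideal.subset_span ⟨i, rfl⟩)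
    have e : alg (ft i) = (alg (ft i) - ∑ k, alg (pderiv k (ft i) * ft k)) +
        (∑ k, alg (pderiv k (ft i) * ft k) - f' i) + f' i := by ring
    rw [e]
    refine Ideal.add_mem _ (Ideal.add_mem _ ?_ (le_sup_right (a := L') h2)) (le_sup_left (b := 𝔍 * 𝔍) h3)
    rcases Submodule.mem_sup.mp h1 with ⟨a, ha, b, hb, hab⟩
    rw [← hab]
    exact Ideal.add_mem _ (le_sup_right (a := L') ha)
      (le_sup_left (b := 𝔍 * 𝔍) (le_sup_right (a := Ideal.span (Set.range f')) hb))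
  -- 𝔍 ≤ L' ⊔ 𝔍²
  have h𝔍le : 𝔍 ≤ L' ⊔ 𝔍 * 𝔍 := by
    rw [h𝔍, Ideal.map_le_iff_le_comap]
    intro p hp
    show alg p ∈ L' ⊔ 𝔍 * 𝔍
    have h1 := hJ2 _ (hKI p hp)
    rw [map_sub, map_sum] at h1
    have e : alg p = (alg p - ∑ i, alg (pderiv i p * ft i)) + ∑ i, alg (pderiv i p * ft i) := by ring
    rw [e]
    refine Ideal.add_mem _ ?_ (Ideal.sum_mem _ fun i _ => ?_)
    · rcases Submodule.mem_sup.mp h1 with ⟨a, ha, b, hb, hab⟩
      rw [← hab]
      exact Ideal.add_mem _ (le_sup_right (a := L') ha)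
        (le_sup_left (b := 𝔍 * 𝔍) (le_sup_right (a := Ideal.span (Set.range f')) hb))
    · rw [map_mul]
      exact Ideal.mul_mem_left _ _ (hfti i)
  -- Nakayama
  let q : P' →ₗ[P'] P' ⧸ L' := Submodule.mkQ L'
  let N : Submodule P' (P' ⧸ L') := Submodule.map q 𝔍
  have hILq : Submodule.map q (I.map (algebraMap R P')) = ⊥ := by
    rw [eq_bot_iff]
    rintro _ ⟨x, hx, rfl⟩
    rw [Submodule.mem_bot]
    exact (Submodule.Quotient.mk_eq_zero L').mpr (le_sup_right (a := Ideal.span (Set.range f')) hx)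
  have h𝔍eq : 𝔍 = I.map (algebraMap R P') ⊔ Ideal.span (alg '' (s : Set (MvPolynomial (Fin n) R))) := by
    rw [h𝔍, hs, Ideal.map_sup, hIC, Ideal.map_span]
  have hNfg : N.FG := by
    have : N = Submodule.map q (Ideal.span (alg '' (s : Set (MvPolynomial (Fin n) R)))) := by
      show Submodule.map q 𝔍 = _
      rw [h𝔍eq, Submodule.map_sup, hILq, bot_sup_eq]
    rw [this]
    refine Submodule.FG.map q ?_
    exact Submodule.fg_span (s.finite_toSet.image alg)
  have hNle : N ≤ 𝔍 • N := by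
    rintro _ ⟨x, hx, rfl⟩
    have hx' := h𝔍le hx
    rcases Submodule.mem_sup.mp hx' with ⟨a, ha, b, hb, hab⟩
    have h1 : q x = q b := by
      rw [← hab, map_add]
      have : q a = 0 := (Submodule.Quotient.mk_eq_zero L').mpr ha
      rw [this, zero_add]
    rw [h1]
    have h2 : q b ∈ Submodule.map q (𝔍 • (𝔍 : Submodule P' P')) := by
      refine Submodule.mem_map_of_mem ?_
      have : 𝔍 * 𝔍 = 𝔍 • (𝔍 : Submodule P' P') := rfl
      rw [← this]
      exact hb
    rw [Submodule.map_smul''] at h2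
    exact h2
  obtain ⟨r, hr1, hr2⟩ :=
    Submodule.exists_sub_one_mem_and_smul_eq_zero_of_fg_of_le_smul 𝔍 N hNfg hNle
  refine ⟨r, ?_, ?_⟩
  · have := (hmem𝔍 (r - 1)).mpr hr1
    rw [map_sub, map_one, sub_eq_zero] at this
    exact this
  · intro y hy
    have hy' : y ∈ 𝔍 := (hmem𝔍 y).mp hy
    have := hr2 (q y) ⟨y, hy', rfl⟩
    rw [← map_smul, smul_eq_mul] at this
    exact (Submodule.Quotient.mk_eq_zero L').mp this


end Groth.Agent.Lib.Helper26.SmLiftF
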