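import Mathlib

set_option autoImplicit false
universe u

namespace Groth.Agent.Lib.Helper26.SmLiftD

open KaehlerDifferential TensorProduct Algebra

/-- Jacobian-type criterion: `A = P/(f)` with `P` formally smooth is formally smooth as soon as
there are derivations `d j` and a matrix `X` with `∑ₖ (X C)ₖᵢ fₖ ≡ fᵢ` modulo `(f)²`,
`C j i = d j (f i)`. -/
theorem formallySmooth_of_matrix {R P A : Type*} [CommRing R] [CommRing P] [CommRing A]
    [Algebra R P] [Algebra R A] [Algebra P A] [IsScalarTower R P A] [Algebra.FormallySmooth R P]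
    (hsurj : Function.Surjective (algebraMap P A)) {n : ℕ} (f : Fin n → P)
    (hf : RingHom.ker (algebraMap P A) = Ideal.span (Set.range f))
    (d : Fin n → Derivation R P P) (X : Matrix (Fin n) (Fin n) P)
    (hX : ∀ i, (∑ k, (∑ j, X k j * d j (f i)) * f k) - f i ∈
      (RingHom.ker (algebraMap P A)) ^ 2) :
    Algebra.FormallySmooth R A := by
  classical
  let Pe : Algebra.Extension R A :=
    { Ring := P, σ := Function.surjInv hsurj, algebraMap_σ := Function.surjInv_eq hsurj }
  haveI : Algebra.FormallySmooth R Pe.Ring := ‹Algebra.FormallySmooth R P›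
  rw [Pe.formallySmooth_iff_split_injection]
  have hfK : ∀ k, f k ∈ Pe.ker := fun k => by
    show f k ∈ RingHom.ker (algebraMap P A)
    rw [hf]; exact Ideal.subset_span ⟨k, rfl⟩
  let g : Fin n → (Ω[P⁄R] →ₗ[P] P) := fun k => ∑ j, X k j • (d j).liftKaehlerDifferential
  have hg : ∀ k (p : P), g k (D R P p) = ∑ j, X k j * d j p := by
    intro k p
    simp only [g, LinearMap.sum_apply, LinearMap.smul_apply, Derivation.liftKaehlerDifferential_comp_D,
      smul_eq_mul]
  let L₀ : Ω[Pe.Ring⁄R] →ₗ[Pe.Ring] Pe.Cotangent :=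
    ∑ k, (LinearMap.toSpanSingleton P Pe.Cotangent (Extension.Cotangent.mk ⟨f k, hfK k⟩)) ∘ₗ g k
  have hL₀ : ∀ p : P, L₀ (D R P p) =
      ∑ k, (∑ j, X k j * d j p) • (Extension.Cotangent.mk ⟨f k, hfK k⟩ : Pe.Cotangent) := by
    intro p
    simp only [L₀, LinearMap.sum_apply, LinearMap.comp_apply, LinearMap.toSpanSingleton_apply]
    refine Finset.sum_congr rfl fun k _ => ?_
    rw [hg]
  have hkill : ∀ (x : P) (hx : x ∈ Pe.ker) (m : Pe.Cotangent), x • m = 0 := by
    intro x hx m
    rw [← algebraMap_smul A x m]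
    have : algebraMap P A x = 0 := hx
    show algebraMap Pe.Ring A x • m = 0
    rw [this, zero_smul]
  have key : ∀ (y : P) (hy : y ∈ Ideal.span (Set.range f)) (hyK : y ∈ Pe.ker),
      L₀ (D R P y) = Extension.Cotangent.mk ⟨y, hyK⟩ := by
    intro y hy
    induction hy using Submodule.span_induction with
    | mem y hy =>
      obtain ⟨i, rfl⟩ := hy
      intro hyK
      rw [hL₀]
      have h0 : (⟨∑ k, (∑ j, X k j * d j (f i)) * f k,
          Pe.ker.sum_mem fun k _ => Pe.ker.mul_mem_left _ (hfK k)⟩ : Pe.ker) =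
          ∑ k, (∑ j, X k j * d j (f i)) • (⟨f k, hfK k⟩ : Pe.ker) := by
        apply Subtype.ext
        simp [Submodule.coe_sum]
      have h1 : (∑ k, (∑ j, X k j * d j (f i)) • (Extension.Cotangent.mk ⟨f k, hfK k⟩ : Pe.Cotangent))
          = Extension.Cotangent.mk (P := Pe) ⟨∑ k, (∑ j, X k j * d j (f i)) * f k,
              Pe.ker.sum_mem fun k _ => Pe.ker.mul_mem_left _ (hfK k)⟩ := by
        rw [h0, map_sum]
        refine Finset.sum_congr rfl fun k _ => ?_
        rw [map_smul]
      rw [h1, Extension.Cotangent.mk_eq_mk_iff_sub_mem]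
      exact hX i
    | zero =>
      intro hyK
      rw [map_zero, map_zero]
      symm
      exact (Extension.Cotangent.mk (P := Pe)).map_zero
    | add y z hy hz ihy ihz =>
      intro hyK
      have hy' : y ∈ Pe.ker := by
        show y ∈ RingHom.ker (algebraMap P A); rw [hf]; exact hy
      have hz' : z ∈ Pe.ker := by
        show z ∈ RingHom.ker (algebraMap P A); rw [hf]; exact hz
      rw [map_add, map_add, ihy hy', ihz hz', ← map_add]
      rfl
    | smul a y hy ihy =>
      intro hyK
      have hy' : y ∈ Pe.ker := by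
        show y ∈ RingHom.ker (algebraMap P A); rw [hf]; exact hy
      have e1 : D R P (a • y) = a • D R P y + y • D R P a := by
        rw [smul_eq_mul, Derivation.leibniz]
      have e2 : (⟨a • y, hyK⟩ : Pe.ker) = a • (⟨y, hy'⟩ : Pe.ker) := rfl
      rw [e1, e2, map_add, map_smul, map_smul, ihy hy', hkill y hy', add_zero, map_smul]
  refine ⟨LinearMap.liftBaseChange A L₀, ?_⟩
  ext x
  obtain ⟨x, rfl⟩ := Extension.Cotangent.mk_surjective x
  have hx : x.1 ∈ Ideal.span (Set.range f) := by
    rw [← hf]; exact x.2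
  rw [LinearMap.comp_apply, Extension.cotangentComplex_mk, LinearMap.liftBaseChange_tmul, one_smul,
    LinearMap.id_apply]
  exact key x.1 hx x.2

end Groth.Agent.Lib.Helper26.SmLiftD
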