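import Mathlib

set_option autoImplicit false
universe u

namespace Groth.Agent.Lib.Helper26.SmLiftE

open Matrix

theorem mul_mem_of_right {P : Type*} [CommRing P] {n : ℕ} (K : Ideal P)
    (M N : Matrix (Fin n) (Fin n) P) (hN : ∀ a b, N a b ∈ K) : ∀ a b, (M * N) a b ∈ K := by
  intro a b
  rw [Matrix.mul_apply]
  exact K.sum_mem fun k _ => K.mul_mem_left _ (hN k b)

theorem matrix_key {R P : Type*} [CommRing R] [CommRing P] [Algebra R P] {n : ℕ} (K : Ideal P)
    (f : Fin n → P) (hfK : ∀ i, f i ∈ K)
    (E : Matrix (Fin n) (Fin n) P) (hE : E * E = E) (hfE : ∀ i, f i = ∑ k, E k i * f k)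
    (d : Fin n → Derivation R P P) (V : Matrix (Fin n) (Fin n) P)
    (hWV : (E * (Matrix.of fun j i => d j (f i)) * E + 1 - E) * V = 1)
    (hVW : V * (E * (Matrix.of fun j i => d j (f i)) * E + 1 - E) = 1) :
    ∀ i, (∑ k, (∑ j, (V * E) k j * d j (f i)) * f k) - f i ∈ K ^ 2 := by
  set C : Matrix (Fin n) (Fin n) P := Matrix.of fun j i => d j (f i) with hC
  set W : Matrix (Fin n) (Fin n) P := E * C * E + 1 - E with hW
  -- (i)
  have h1 : ∀ j i, (C - C * E) j i ∈ K := by
    intro j i
    rw [Matrix.sub_apply, Matrix.mul_apply]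
    have e1 : C j i = d j (f i) := rfl
    have e2 : d j (f i) = ∑ k, (E k i * d j (f k) + f k * d j (E k i)) := by
      conv_lhs => rw [hfE i]
      rw [map_sum]
      refine Finset.sum_congr rfl fun k _ => ?_
      rw [Derivation.leibniz, smul_eq_mul, smul_eq_mul]
    rw [e1, e2, Finset.sum_add_distrib]
    have e3 : ∑ k, C j k * E k i = ∑ k, E k i * d j (f k) :=
      Finset.sum_congr rfl fun k _ => by rw [mul_comm]; rfl
    rw [e3, add_sub_cancel_left]
    exact K.sum_mem fun k _ => K.mul_mem_right _ (hfK k)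
  -- (ii)
  have hEW : E * W = E * C * E := by
    rw [hW, Matrix.mul_sub, Matrix.mul_add, Matrix.mul_one, hE, ← Matrix.mul_assoc,
      ← Matrix.mul_assoc, hE, add_sub_cancel_right]
  have hWE : W * E = E * C * E := by
    rw [hW, Matrix.sub_mul, Matrix.add_mul, Matrix.one_mul, hE, Matrix.mul_assoc (E * C) E E, hE,
      add_sub_cancel_right]
  have hVE : V * E = E * V := by
    calc V * E = V * E * (W * V) := by rw [hWV, Matrix.mul_one]
      _ = V * (E * W) * V := by simp only [Matrix.mul_assoc]
      _ = V * (W * E) * V := by rw [hEW, hWE]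
      _ = (V * W) * E * V := by simp only [Matrix.mul_assoc]
      _ = E * V := by rw [hVW, Matrix.one_mul]
  -- (iii)
  have h3 : E * (V * E) * C - E = V * E * (C - C * E) := by
    have e1 : V * E * (C * E) = E := by
      calc V * E * (C * E) = V * (E * C * E) := by simp only [Matrix.mul_assoc]
        _ = V * (W * E) := by rw [hWE]
        _ = (V * W) * E := by simp only [Matrix.mul_assoc]
        _ = E := by rw [hVW, Matrix.one_mul]
    rw [Matrix.mul_sub, e1, hVE, ← Matrix.mul_assoc E E V, hE]
  have h4 : ∀ a b, (E * (V * E) * C - E) a b ∈ K := by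
    rw [h3]
    exact mul_mem_of_right K _ _ h1
  -- (iv)
  intro i
  have e1 : ∀ k, (∑ j, (V * E) k j * d j (f i)) = ((V * E) * C) k i := by
    intro k
    rw [Matrix.mul_apply]
    rfl
  have e2 : (∑ k, (∑ j, (V * E) k j * d j (f i)) * f k) =
      ∑ l, (E * (V * E) * C) l i * f l := by
    calc (∑ k, (∑ j, (V * E) k j * d j (f i)) * f k)
        = ∑ k, ((V * E) * C) k i * ∑ l, E l k * f l := by
          refine Finset.sum_congr rfl fun k _ => ?_
          rw [e1, ← hfE k]
      _ = ∑ k, ∑ l, (E l k * ((V * E) * C) k i) * f l := by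
          refine Finset.sum_congr rfl fun k _ => ?_
          rw [Finset.mul_sum]
          refine Finset.sum_congr rfl fun l _ => ?_
          ring
      _ = ∑ l, ∑ k, (E l k * ((V * E) * C) k i) * f l := Finset.sum_comm
      _ = ∑ l, (E * (V * E) * C) l i * f l := by
          refine Finset.sum_congr rfl fun l _ => ?_
          rw [Matrix.mul_assoc E (V * E) C, Matrix.mul_apply, Finset.sum_mul]
  have e3 : (∑ l, (E * (V * E) * C) l i * f l) - f i =
      ∑ l, (E * (V * E) * C - E) l i * f l := by
    conv_lhs => rw [hfE i]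
    rw [← Finset.sum_sub_distrib]
    refine Finset.sum_congr rfl fun l _ => ?_
    rw [Matrix.sub_apply, sub_mul]
  rw [e2, e3]
  refine (K ^ 2).sum_mem fun l _ => ?_
  rw [pow_two]
  exact Ideal.mul_mem_mul (h4 l i) (hfK l)

end Groth.Agent.Lib.Helper26.SmLiftE
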