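import Mathlib
import Groth.Agent.Lib.Helper26.SmLiftC
import Groth.Agent.Lib.Helper26.SmLiftD
import Groth.Agent.Lib.Helper26.SmLiftE

set_option autoImplicit false
universe u

namespace Groth.Agent.Lib.Helper26.SmLiftG

open Matrix Groth.Agent.Lib.Helper26

set_option synthInstance.maxHeartbeats 200000 in
set_option maxHeartbeats 800000 in
theorem exists_lift_of_data {R : Type u} [CommRing R] (I : Ideal R) {A₀ : Type u} [CommRing A₀]
    [Algebra (R ⧸ I) A₀]
    {P' : Type u} [CommRing P'] [Algebra R P'] [Algebra.FormallySmooth R P']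
    [Algebra.FinitePresentation R P']
    (ψ' : P' →+* A₀) (hψ' : Function.Surjective ψ')
    (hψ'R : ∀ r, ψ' (algebraMap R P' r) = algebraMap (R ⧸ I) A₀ (Ideal.Quotient.mk I r))
    {n : ℕ} (f' : Fin n → P') (hf'ker : ∀ i, ψ' (f' i) = 0)
    (E' : Matrix (Fin n) (Fin n) P') (hE' : E' * E' = E')
    (hf'E : ∀ i, f' i = ∑ k, E' k i * f' k)
    (d' : Fin n → Derivation R P' P')
    (r : P')
    (hψh₁ : ψ' ((E' * (Matrix.of fun j i => d' j (f' i)) * E' + 1 - E').det) = 1)
    (hψr : ψ' r = 1)
    (hr : ∀ y, ψ' y = 0 → r * y ∈ Ideal.span (Set.range f') ⊔ I.map (algebraMap R P')) :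
    ∃ (A : Type u) (_ : CommRing A) (_ : Algebra R A), Algebra.Smooth R A ∧
      Nonempty ((A ⧸ I.map (algebraMap R A)) ≃ₐ[R ⧸ I] A₀) := by
  classical
  set C' : Matrix (Fin n) (Fin n) P' := Matrix.of fun j i => d' j (f' i) with hC'
  set W' : Matrix (Fin n) (Fin n) P' := E' * C' * E' + 1 - E' with hW'
  set h₁ : P' := W'.det with hh₁
  set h : P' := h₁ * r with hh
  let P'' := Localization.Away h
  let alg : P' →+* P'' := algebraMap P' P''
  have hunit_h : IsUnit (alg h) := IsLocalization.Away.algebraMap_isUnit h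
  have ehh : alg h = alg h₁ * alg r := map_mul alg h₁ r
  have hunit_h₁ : IsUnit (alg h₁) := by
    rw [ehh] at hunit_h
    exact isUnit_of_mul_isUnit_left hunit_h
  have hunit_r : IsUnit (alg r) := by
    rw [ehh] at hunit_h
    exact isUnit_of_mul_isUnit_right hunit_h
  haveI : Algebra.FormallyEtale P' P'' := Algebra.FormallyEtale.of_isLocalization (Submonoid.powers h)
  haveI : Algebra.FormallySmooth R P'' := Algebra.FormallySmooth.comp R P' P''
  haveI : Algebra.FinitePresentation P' P'' := IsLocalization.Away.finitePresentation h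
  haveI : Algebra.FinitePresentation R P'' := Algebra.FinitePresentation.trans R P' P''
  -- derivations on P''
  have hd'' : ∀ j, ∃ d'' : Derivation R P'' P'', ∀ x : P', d'' (alg x) = alg (d' j x) :=
    fun j => SmLiftC.exists_derivation_extension R P' P'' (d' j)
  choose d'' hd'' using hd''
  let f'' : Fin n → P'' := fun i => alg (f' i)
  let E'' : Matrix (Fin n) (Fin n) P'' := E'.map alg
  have hE'' : E'' * E'' = E'' := by
    have : E'' = alg.mapMatrix E' := rfl
    rw [this, ← map_mul, hE']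
  have hf''E : ∀ i, f'' i = ∑ k, E'' k i * f'' k := by
    intro i
    show alg (f' i) = ∑ k, alg (E' k i) * alg (f' k)
    conv_lhs => rw [hf'E i]
    rw [map_sum]
    refine Finset.sum_congr rfl fun k _ => ?_
    rw [map_mul]
  set C'' : Matrix (Fin n) (Fin n) P'' := Matrix.of fun j i => d'' j (f'' i) with hC''
  have hC''map : C'' = alg.mapMatrix C' := by
    ext j i
    show d'' j (alg (f' i)) = alg (d' j (f' i))
    exact hd'' j (f' i)
  set W'' : Matrix (Fin n) (Fin n) P'' := E'' * C'' * E'' + 1 - E'' with hW''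
  have hW''map : W'' = alg.mapMatrix W' := by
    rw [hW'', hW', map_sub, map_add, map_mul, map_mul, map_one, hC''map]
    rfl
  have hdet : IsUnit W''.det := by
    rw [hW''map]
    have := RingHom.map_det alg W'
    rw [← this]
    exact hunit_h₁
  let V : Matrix (Fin n) (Fin n) P'' := W''⁻¹
  have hWV : W'' * V = 1 := Matrix.mul_nonsing_inv W'' hdet
  have hVW : V * W'' = 1 := Matrix.nonsing_inv_mul W'' hdet
  -- the quotient
  let K : Ideal P'' := Ideal.span (Set.range f'')
  let A := P'' ⧸ K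
  have hkerA : RingHom.ker (algebraMap P'' A) = K := Ideal.mk_ker
  have hfK : ∀ i, f'' i ∈ RingHom.ker (algebraMap P'' A) := fun i => by
    rw [hkerA]; exact Ideal.subset_span ⟨i, rfl⟩
  have hsmooth : Algebra.FormallySmooth R A := by
    refine SmLiftD.formallySmooth_of_matrix (R := R) (P := P'') (A := A)
      Ideal.Quotient.mk_surjective f'' hkerA d'' (V * E'') ?_
    exact SmLiftE.matrix_key (R := R) (RingHom.ker (algebraMap P'' A)) f'' hfK E'' hE'' hf''E d'' V
      hWV hVW
  have hfp : Algebra.FinitePresentation R A := by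
    haveI : Algebra.FinitePresentation P'' A :=
      Algebra.FinitePresentation.of_surjective (f := Ideal.Quotient.mkₐ P'' K)
        Ideal.Quotient.mk_surjective (by
          have : RingHom.ker (Ideal.Quotient.mkₐ P'' K).toRingHom = K := Ideal.mk_ker
          rw [this]
          exact ⟨Finset.univ.image f'', by simp [K]⟩)
    exact Algebra.FinitePresentation.trans R P'' A
  refine ⟨A, inferInstance, inferInstance, ⟨hsmooth, hfp⟩, ?_⟩
  -- the comparison map
  have hψh : IsUnit (ψ' h) := by
    have : ψ' h = 1 := by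
      show ψ' (h₁ * r) = 1
      rw [map_mul, hψh₁, hψr, one_mul]
    rw [this]; exact isUnit_one
  let ψ'' : P'' →+* A₀ := IsLocalization.Away.lift h hψh
  have hψ'' : ∀ x, ψ'' (alg x) = ψ' x := fun x => IsLocalization.Away.lift_eq h hψh x
  have hK0 : ∀ a ∈ K, ψ'' a = 0 := by
    intro a ha
    induction ha using Submodule.span_induction with
    | mem a ha =>
      obtain ⟨i, rfl⟩ := ha
      show ψ'' (alg (f' i)) = 0
      rw [hψ'', hf'ker]
    | zero => exact map_zero _
    | add a b _ _ ha hb => rw [map_add, ha, hb, add_zero]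
    | smul c a _ ha => rw [smul_eq_mul, map_mul, ha, mul_zero]
  let χ₀ : A →+* A₀ := Ideal.Quotient.lift K ψ'' hK0
  have hχ₀ : ∀ y, χ₀ (Ideal.Quotient.mk K y) = ψ'' y := fun y => rfl
  have halgRA : ∀ r₀ : R, algebraMap R A r₀ = Ideal.Quotient.mk K (alg (algebraMap R P' r₀)) := by
    intro r₀
    rw [IsScalarTower.algebraMap_apply R P'' A, IsScalarTower.algebraMap_apply R P' P'']
    rfl
  have hχ₀R : ∀ r₀ : R, χ₀ (algebraMap R A r₀) =
      algebraMap (R ⧸ I) A₀ (Ideal.Quotient.mk I r₀) := by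
    intro r₀
    rw [halgRA, hχ₀, hψ'', hψ'R]
  have hI0 : ∀ a ∈ I.map (algebraMap R A), χ₀ a = 0 := by
    have : I.map (algebraMap R A) ≤ RingHom.ker χ₀ := by
      rw [Ideal.map_le_iff_le_comap]
      intro r₀ hr₀
      show χ₀ (algebraMap R A r₀) = 0
      rw [hχ₀R, Ideal.Quotient.eq_zero_iff_mem.mpr hr₀, map_zero]
    exact fun a ha => this ha
  let χ₁ : A ⧸ I.map (algebraMap R A) →+* A₀ := Ideal.Quotient.lift _ χ₀ hI0
  have hχ₁ : ∀ a, χ₁ (Ideal.Quotient.mk _ a) = χ₀ a := fun a => rfl
  -- kernel of ψ''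
  have hkerψ'' : ∀ y : P'', ψ'' y = 0 → y ∈ K ⊔ I.map (algebraMap R P'') := by
    intro y hy
    obtain ⟨⟨z, m⟩, hzm⟩ := IsLocalization.surj (Submonoid.powers h) y
    have hzm' : y * alg m = alg z := hzm
    have hz : ψ' z = 0 := by
      rw [← hψ'', ← hzm', map_mul, hy, zero_mul]
    have h1 := hr z hz
    have h2 : alg (r * z) ∈ K ⊔ I.map (algebraMap R P'') := by
      have := Ideal.mem_map_of_mem alg h1
      rw [Ideal.map_sup, Ideal.map_span, Ideal.map_map] at this
      have e1 : alg '' Set.range f' = Set.range f'' := by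
        ext x; constructor
        · rintro ⟨_, ⟨i, rfl⟩, rfl⟩; exact ⟨i, rfl⟩
        · rintro ⟨i, rfl⟩; exact ⟨_, ⟨i, rfl⟩, rfl⟩
      have e2 : alg.comp (algebraMap R P') = algebraMap R P'' := by
        ext r₀
        exact (IsScalarTower.algebraMap_apply R P' P'' r₀).symm
      rw [e1, e2] at this
      exact this
    have hm : IsUnit (alg m) := IsLocalization.map_units P'' m
    have e3 : alg (r * z) = (alg r * alg m) * y := by
      rw [map_mul, ← hzm']; ring
    rw [e3] at h2
    exact (Ideal.unit_mul_mem_iff_mem _ (hunit_r.mul hm)).mp h2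
  have hbij : Function.Bijective χ₁ := by
    constructor
    · refine (injective_iff_map_eq_zero χ₁).mpr ?_
      intro x hx
      obtain ⟨a, rfl⟩ := Ideal.Quotient.mk_surjective x
      obtain ⟨y, rfl⟩ := Ideal.Quotient.mk_surjective a
      rw [hχ₁, hχ₀] at hx
      have hy := hkerψ'' y hx
      rw [Ideal.Quotient.eq_zero_iff_mem]
      rcases Submodule.mem_sup.mp hy with ⟨a, ha, b, hb, hab⟩
      have h1 : Ideal.Quotient.mk K y = Ideal.Quotient.mk K b := by
        rw [← hab, map_add, Ideal.Quotient.eq_zero_iff_mem.mpr ha, zero_add]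
      rw [h1]
      have h2 := Ideal.mem_map_of_mem (Ideal.Quotient.mk K) hb
      rw [Ideal.map_map] at h2
      have e : (Ideal.Quotient.mk K).comp (algebraMap R P'') = algebraMap R A := by
        ext r₀
        exact (IsScalarTower.algebraMap_apply R P'' A r₀).symm
      rw [e] at h2
      exact h2
    · intro a₀
      obtain ⟨x, rfl⟩ := hψ' a₀
      exact ⟨Ideal.Quotient.mk _ (Ideal.Quotient.mk K (alg x)), by rw [hχ₁, hχ₀, hψ'']⟩
  let χ : (A ⧸ I.map (algebraMap R A)) →ₐ[R ⧸ I] A₀ :=
    { χ₁ with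
      commutes' := by
        intro r₀
        obtain ⟨r₀, rfl⟩ := Ideal.Quotient.mk_surjective r₀
        show χ₁ (Ideal.Quotient.mk _ (algebraMap R A r₀)) = _
        rw [hχ₁, hχ₀R] }
  exact ⟨AlgEquiv.ofBijective χ hbij⟩

end Groth.Agent.Lib.Helper26.SmLiftG
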