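import Mathlib
import Groth.Agent.Lib.Helper4.EtLift3
import Groth.Agent.Lib.Helper26.SmLiftA
import Groth.Agent.Lib.Helper26.SmLiftB
import Groth.Agent.Lib.Helper26.SmLiftC
import Groth.Agent.Lib.Helper26.SmLiftF
import Groth.Agent.Lib.Helper26.SmLiftG

set_option autoImplicit false
universe u

namespace Groth.Agent.Lib.Helper26.SmLiftH

open MvPolynomial Matrix Groth.Agent.Lib.Helper26 Groth.Agent.Lib.Helper4

set_option synthInstance.maxHeartbeats 200000 in
set_option maxHeartbeats 800000 in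
theorem main_6827 {R A₀ : Type u} [CommRing R] (I : Ideal R) [CommRing A₀]
    [Algebra (R ⧸ I) A₀] [Algebra.Smooth (R ⧸ I) A₀] :
    ∃ (A : Type u) (_ : CommRing A) (_ : Algebra R A), Algebra.Smooth R A ∧
      Nonempty ((A ⧸ I.map (algebraMap R A)) ≃ₐ[R ⧸ I] A₀) := by
  classical
  haveI : Algebra.FormallySmooth (R ⧸ I) A₀ := Algebra.Smooth.formallySmooth
  haveI : Algebra.FinitePresentation (R ⧸ I) A₀ := Algebra.Smooth.finitePresentation
  obtain ⟨n, α₀, hα₀, hα₀fg⟩ := Algebra.FinitePresentation.out (R := R ⧸ I) (A := A₀)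
  obtain ⟨t₀, ht₀⟩ := hα₀fg
  -- ψ
  let mp : MvPolynomial (Fin n) R →+* MvPolynomial (Fin n) (R ⧸ I) :=
    MvPolynomial.map (Ideal.Quotient.mk I)
  have hmp : Function.Surjective mp := MvPolynomial.map_surjective _ Ideal.Quotient.mk_surjective
  let ψ : MvPolynomial (Fin n) R →+* A₀ := (α₀ : _ →+* A₀).comp mp
  have hψ : Function.Surjective ψ := hα₀.comp hmp
  have hC : ∀ r, ψ (C r) = algebraMap (R ⧸ I) A₀ (Ideal.Quotient.mk I r) := by
    intro r
    show α₀ (MvPolynomial.map (Ideal.Quotient.mk I) (C r)) = _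
    rw [MvPolynomial.map_C, ← MvPolynomial.algebraMap_eq, α₀.commutes]
  set J : Ideal (MvPolynomial (Fin n) R) := RingHom.ker ψ with hJ
  have hkmp : RingHom.ker mp = I.map (C : R →+* MvPolynomial (Fin n) R) := by
    show RingHom.ker (MvPolynomial.map (Ideal.Quotient.mk I)) = _
    rw [MvPolynomial.ker_map, Ideal.mk_ker]
  -- J = IP ⊔ span s
  obtain ⟨s, hs⟩ : ∃ s : Finset (MvPolynomial (Fin n) R),
      J = I.map (C : R →+* MvPolynomial (Fin n) R) ⊔ Ideal.span (s : Set (MvPolynomial (Fin n) R)) := by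
    refine ⟨t₀.image (Function.surjInv hmp), ?_⟩
    have h1 : J = Ideal.comap mp (RingHom.ker (α₀ : _ →+* A₀)) := by
      rw [hJ]; exact (RingHom.comap_ker (α₀ : _ →+* A₀) mp).symm
    have h2 : RingHom.ker (α₀ : _ →+* A₀) =
        Ideal.map mp (Ideal.span ((t₀.image (Function.surjInv hmp) : Finset _) : Set _)) := by
      rw [Ideal.map_span]
      refine ht₀.symm.trans ?_
      congr 1
      ext x
      simp only [Finset.coe_image, Set.mem_image, Finset.mem_coe]
      constructor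
      · intro hx
        exact ⟨_, ⟨x, hx, rfl⟩, Function.surjInv_eq hmp x⟩
      · rintro ⟨_, ⟨y, hy, rfl⟩, rfl⟩
        rw [Function.surjInv_eq hmp y]; exact hy
    rw [h1, h2, Ideal.comap_map_of_surjective mp hmp, ← RingHom.ker_eq_comap_bot, hkmp, sup_comm]
  have hIJ : I.map (C : R →+* MvPolynomial (Fin n) R) ≤ J := by
    rw [hs]; exact le_sup_left
  obtain ⟨ft, hft, hKI⟩ := SmLiftA.exists_ft I ψ hψ hC
  let Ebar : Matrix (Fin n) (Fin n) (MvPolynomial (Fin n) R ⧸ J) :=
    fun j k => Ideal.Quotient.mk J (pderiv j (ft k))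
  have hEbi : Ebar * Ebar = Ebar :=
    SmLiftB.ebar_idempotent I J hIJ ft hft hKI Ebar (fun _ _ => rfl)
  obtain ⟨P', _, _, hP', φ', hker, E', hE', hE'map⟩ :=
    EtLift.exists_etale_idempotent_matrix_lift J Ebar hEbi
  letI : Algebra R P' := Algebra.compHom P' (algebraMap R (MvPolynomial (Fin n) R))
  haveI : IsScalarTower R (MvPolynomial (Fin n) R) P' := IsScalarTower.of_algebraMap_eq (fun _ => rfl)
  haveI : Algebra.FormallyEtale (MvPolynomial (Fin n) R) P' := hP'.formallyEtale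
  haveI : Algebra.FinitePresentation (MvPolynomial (Fin n) R) P' := hP'.finitePresentation
  haveI : Algebra.FormallySmooth R P' := Algebra.FormallySmooth.comp R (MvPolynomial (Fin n) R) P'
  haveI : Algebra.FinitePresentation R P' :=
    Algebra.FinitePresentation.trans R (MvPolynomial (Fin n) R) P'
  have hd' : ∀ j, ∃ d' : Derivation R P' P', ∀ p : MvPolynomial (Fin n) R,
      d' (algebraMap _ P' p) = algebraMap _ P' (pderiv j p) :=
    fun j => SmLiftC.exists_derivation_extension R (MvPolynomial (Fin n) R) P' (pderiv j)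
  choose d' hd' using hd'
  let f' : Fin n → P' := fun i => ∑ k, E' k i * algebraMap _ P' (ft k)
  have hdet := SmLiftF.map_det_W J ft hft Ebar (fun _ _ => rfl) hEbi φ' E' hE'map d'
    (fun j p => hd' j p)
  have hE'jk : ∀ j k, φ' (E' j k) = Ideal.Quotient.mk J (pderiv j (ft k)) := by
    intro j k
    have : (E'.map φ') j k = Ebar j k := by rw [hE'map]
    exact this
  obtain ⟨r, hr1, hr2⟩ := SmLiftF.exists_nakayama I J s hs ft hft hKI φ' hker E' hE'jk
  -- ψ'
  let e : (MvPolynomial (Fin n) R ⧸ J) ≃+* A₀ := RingHom.quotientKerEquivOfSurjective hψ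
  have he : ∀ p, e (Ideal.Quotient.mk J p) = ψ p := fun p => rfl
  let ψ' : P' →+* A₀ := (e : _ →+* A₀).comp φ'.toRingHom
  have hψ'def : ∀ x, ψ' x = e (φ' x) := fun x => rfl
  have hφalg : ∀ p, φ' (algebraMap _ P' p) = Ideal.Quotient.mk J p := fun p => φ'.commutes p
  have hψ'surj : Function.Surjective ψ' := by
    intro a
    obtain ⟨p, rfl⟩ := hψ a
    exact ⟨algebraMap _ P' p, by rw [hψ'def, hφalg, he]⟩
  have hψ'R : ∀ r₀, ψ' (algebraMap R P' r₀) = algebraMap (R ⧸ I) A₀ (Ideal.Quotient.mk I r₀) := by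
    intro r₀
    have : algebraMap R P' r₀ = algebraMap _ P' (C r₀ : MvPolynomial (Fin n) R) := rfl
    rw [this, hψ'def, hφalg, he, hC]
  have hψ'zero : ∀ y, ψ' y = 0 ↔ φ' y = 0 := by
    intro y
    rw [hψ'def]
    exact map_eq_zero_iff e e.injective
  have hf'ker : ∀ i, ψ' (f' i) = 0 := by
    intro i
    rw [hψ'zero]
    show φ' (∑ k, E' k i * algebraMap _ P' (ft k)) = 0
    rw [map_sum]
    refine Finset.sum_eq_zero fun k _ => ?_
    rw [map_mul, hφalg, Ideal.Quotient.eq_zero_iff_mem.mpr (hft k), mul_zero]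
  have hf'E : ∀ i, f' i = ∑ k, E' k i * f' k := by
    intro i
    show ∑ l, E' l i * algebraMap _ P' (ft l) = ∑ k, E' k i * ∑ l, E' l k * algebraMap _ P' (ft l)
    have : ∀ k, E' k i * ∑ l, E' l k * algebraMap _ P' (ft l) =
        ∑ l, (E' l k * E' k i) * algebraMap _ P' (ft l) := by
      intro k
      rw [Finset.mul_sum]
      refine Finset.sum_congr rfl fun l _ => ?_
      ring
    rw [Finset.sum_congr rfl (fun k _ => this k), Finset.sum_comm]
    refine Finset.sum_congr rfl fun l _ => ?_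
    rw [← Finset.sum_mul, ← Matrix.mul_apply, hE']
  refine SmLiftG.exists_lift_of_data I ψ' hψ'surj hψ'R f' hf'ker E' hE' hf'E d' r ?_ ?_ ?_
  · rw [hψ'def]
    have : φ' ((E' * (Matrix.of fun j i => d' j (f' i)) * E' + 1 - E').det) = 1 := hdet
    rw [this, map_one]
  · rw [hψ'def, hr1, map_one]
  · intro y hy
    exact hr2 y ((hψ'zero y).mp hy)

end Groth.Agent.Lib.Helper26.SmLiftH
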