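import Mathlib
import Groth.Agent.Lib.Helper26.SmLiftH

namespace Groth.Agent.Lib.Helper26.FliftC
universe u
open CategoryTheory CategoryTheory.Limits

theorem exists_smooth_lift_pushout {R R₀ C₀ : Type u} [CommRing R] [CommRing R₀] [CommRing C₀]
    (ρ : R →+* R₀) (hρ : Function.Surjective ρ) (α : R₀ →+* C₀) (hα : α.Smooth) :
    ∃ (C : Type u) (_ : CommRing C) (_ : Algebra R C), Algebra.Smooth R C ∧
      ∃ γ : C →+* C₀, IsPushout (CommRingCat.ofHom (algebraMap R C)) (CommRingCat.ofHom ρ)
        (CommRingCat.ofHom γ) (CommRingCat.ofHom α) := by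
  let e₀ : R ⧸ RingHom.ker ρ ≃+* R₀ := RingHom.quotientKerEquivOfSurjective hρ
  letI : Algebra (R ⧸ RingHom.ker ρ) C₀ := (α.comp e₀.toRingHom).toAlgebra
  haveI : Algebra.Smooth (R ⧸ RingHom.ker ρ) C₀ :=
    (RingHom.Smooth.of_bijective e₀.bijective).comp hα
  obtain ⟨C, _, _, hsm, ⟨e⟩⟩ := Groth.Agent.Lib.Helper26.SmLiftH.main_6827 (R := R) (A₀ := C₀)
    (RingHom.ker ρ)
  let γ : C →+* C₀ := (e : _ →+* C₀).comp (Ideal.Quotient.mk ((RingHom.ker ρ).map (algebraMap R C)))
  have hγsurj : Function.Surjective γ := e.surjective.comp Ideal.Quotient.mk_surjective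
  have hγker : RingHom.ker γ = (RingHom.ker ρ).map (algebraMap R C) := by
    ext c
    simp only [γ, RingHom.mem_ker, RingHom.comp_apply]
    rw [← Ideal.Quotient.eq_zero_iff_mem]
    exact ⟨fun h => e.injective (by rw [map_zero]; exact h), fun h => by rw [h]; exact map_zero _⟩
  have hcomm : ∀ r : R, γ (algebraMap R C r) = α (ρ r) := by
    intro r
    have h1 := e.commutes (Ideal.Quotient.mk (RingHom.ker ρ) r)
    have h2 : algebraMap (R ⧸ RingHom.ker ρ) C₀ (Ideal.Quotient.mk (RingHom.ker ρ) r) =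
        α (ρ r) := by
      show α (e₀ _) = _
      rw [RingHom.quotientKerEquivOfSurjective_apply_mk]
    rw [h2] at h1
    rw [← h1]
    rfl
  refine ⟨C, inferInstance, inferInstance, hsm, γ, ⟨⟨?_⟩, ⟨?_⟩⟩⟩
  · ext r
    exact hcomm r
  · have hker : ∀ (T : CommRingCat.{u}) (h₁ : CommRingCat.of C ⟶ T) (h₂ : CommRingCat.of R₀ ⟶ T),
        CommRingCat.ofHom (algebraMap R C) ≫ h₁ = CommRingCat.ofHom ρ ≫ h₂ →
        RingHom.ker γ ≤ RingHom.ker h₁.hom := by
      intro T h₁ h₂ hc
      rw [hγker, Ideal.map_le_iff_le_comap]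
      intro r hr
      rw [Ideal.mem_comap, RingHom.mem_ker]
      have := congrArg (fun φ => φ.hom r) hc
      simp only [CommRingCat.hom_comp, CommRingCat.hom_ofHom, RingHom.comp_apply] at this
      rw [this, (RingHom.mem_ker).mp hr, map_zero]
    refine PushoutCocone.IsColimit.mk _
      (fun s => CommRingCat.ofHom (RingHom.liftOfSurjective γ hγsurj
        ⟨s.inl.hom, hker _ s.inl s.inr s.condition⟩)) ?_ ?_ ?_
    · intro s
      ext c
      exact RingHom.liftOfRightInverse_comp_apply γ _ (Function.rightInverse_surjInv hγsurj)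
        ⟨s.inl.hom, hker _ s.inl s.inr s.condition⟩ c
    · intro s
      ext r₀
      obtain ⟨r, rfl⟩ := hρ r₀
      simp only [CommRingCat.hom_comp, CommRingCat.hom_ofHom, RingHom.comp_apply]
      rw [← hcomm r]
      have h1 := RingHom.liftOfRightInverse_comp_apply γ _ (Function.rightInverse_surjInv hγsurj)
        ⟨s.inl.hom, hker _ s.inl s.inr s.condition⟩ (algebraMap R C r)
      have h2 := congrArg (fun φ => φ.hom r) s.condition
      simp only [CommRingCat.hom_comp, CommRingCat.hom_ofHom, RingHom.comp_apply] at h2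
      rw [← h2]
      exact h1
    · intro s m hm₁ _
      ext c₀
      obtain ⟨c, rfl⟩ := hγsurj c₀
      have h1 := RingHom.liftOfRightInverse_comp_apply γ _ (Function.rightInverse_surjInv hγsurj)
        ⟨s.inl.hom, hker _ s.inl s.inr s.condition⟩ c
      have h2 := congrArg (fun φ => φ.hom c) hm₁
      simp only [CommRingCat.hom_comp, CommRingCat.hom_ofHom, RingHom.comp_apply] at h2
      simp only [CommRingCat.hom_ofHom]
      rw [h2]
      exact h1.symm

end Groth.Agent.Lib.Helper26.FliftC
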