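import Mathlib
import Groth.Agent.Lib.Helper26.FliftB
import Groth.Agent.Lib.Helper26.FliftC

namespace Groth.Agent.Lib.Helper26.FliftD
universe u
open AlgebraicGeometry CategoryTheory CategoryTheory.Limits Groth.Agent.Lib.Helper1
  Groth.Agent.Lib.Helper26.FliftA Groth.Agent.Lib.Helper26.FliftB Groth.Agent.Lib.Helper26.FliftC

section
variable {S : Scheme.{u}} [IsLocallyNoetherian S] (𝒥 : S.IdealSheafData) {X₀ : Scheme.{u}}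
  (a : X₀ ⟶ (FSch.completionAlong S 𝒥).X 0) [Smooth a]
  (W : S.Opens) (hW : IsAffineOpen W) (U₀ : X₀.Opens) (hU₀ : IsAffineOpen U₀)
  (hUW : U₀ ≤ a ⁻¹ᵁ ((FSch.completionToX S 𝒥 0) ⁻¹ᵁ W))

include hU₀ hUW in
/-- a smooth algebraic model of an affine open of a smooth `S₀`-scheme -/
theorem exists_model :
    ∃ (C : Type u) (_ : CommRing C) (_ : Algebra Γ(S, W) C), Algebra.Smooth Γ(S, W) C ∧
      ∃ eU : (sysOf 𝒥 (uOf (C := C) hW.fromSpec)).X 0 ≅ U₀.toScheme,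
        eU.hom ≫ U₀.ι ≫ a = (mapOf 𝒥 (uOf (C := C) hW.fromSpec) : FSch.Hom _ _).app 0 := by
  set ι₀ := FSch.completionToX S 𝒥 0 with hι₀
  haveI : IsClosedImmersion ι₀ := inferInstanceAs (IsClosedImmersion (𝒥 ^ (0 + 1)).subschemeι)
  have hW₀ : IsAffineOpen (ι₀ ⁻¹ᵁ W) := hW.preimage ι₀
  let ρ : Γ(S, W) →+* Γ((FSch.completionAlong S 𝒥).X 0, ι₀ ⁻¹ᵁ W) :=
    (ι₀.appLE W (ι₀ ⁻¹ᵁ W) le_rfl).hom
  have hρ : Function.Surjective ρ := by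
    have := ι₀.app_surjective W hW
    rw [Scheme.Hom.app_eq_appLE] at this
    exact this
  let α : Γ((FSch.completionAlong S 𝒥).X 0, ι₀ ⁻¹ᵁ W) →+* Γ(X₀, U₀) :=
    (a.appLE (ι₀ ⁻¹ᵁ W) U₀ hUW).hom
  have hα : α.Smooth :=
    HasRingHomProperty.appLE (P := @Smooth) a inferInstance ⟨_, hW₀⟩ ⟨U₀, hU₀⟩ hUW
  obtain ⟨C, _, _, hsm, γ, hpo⟩ := exists_smooth_lift_pushout ρ hρ α hα
  refine ⟨C, inferInstance, inferInstance, hsm, ?_⟩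
  have sqA := isPullback_SpecMap_of_isPushout _ _ _ _ hpo
  have sqB : IsPullback (Spec.map (CommRingCat.ofHom ρ)) hW₀.fromSpec hW.fromSpec ι₀ := by
    refine IsOpenImmersion.isPullback _ _ _ _ ?_ ?_
    · have := IsAffineOpen.SpecMap_appLE_fromSpec ι₀ hW hW₀ le_rfl
      rw [← this]
      rfl
    · rw [IsAffineOpen.opensRange_fromSpec, IsAffineOpen.opensRange_fromSpec]
  have sq := sqA.paste_vert sqB
  let e1 := (isPullback_level 𝒥 (uOf (C := C) hW.fromSpec) 0).isoIsPullback _ _ sq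
  refine ⟨e1 ≪≫ hU₀.isoSpec.symm, ?_⟩
  have h1 : e1.hom ≫ (Spec.map (CommRingCat.ofHom α) ≫ hW₀.fromSpec) =
      (mapOf 𝒥 (uOf (C := C) hW.fromSpec) : FSch.Hom _ _).app 0 :=
    IsPullback.isoIsPullback_hom_snd _ _ _ _
  rw [← h1]
  simp only [Iso.trans_hom, Iso.symm_hom, Category.assoc]
  congr 1
  rw [← Category.assoc, IsAffineOpen.isoSpec_inv_ι]
  exact (IsAffineOpen.SpecMap_appLE_fromSpec a hW₀ hU₀ hUW).symm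

end

theorem main_14006 (S : Scheme.{u}) [IsLocallyNoetherian S]
    (𝒥 : S.IdealSheafData) {X₀ Y₀ : Scheme.{u}}
    (a : X₀ ⟶ (FSch.completionAlong S 𝒥).X 0) (b : Y₀ ⟶ (FSch.completionAlong S 𝒥).X 0)
    [Smooth a] [Smooth b] (f : X₀ ⟶ Y₀) (w : f ≫ b = a) (x : X₀) :
    ∃ (U₀ : X₀.Opens) (V₀ : Y₀.Opens) (hU : x ∈ U₀) (hUV : U₀ ≤ f ⁻¹ᵁ V₀)
      (𝔘 𝔙 : FSch.Sys.{u}) (p : 𝔘 ⟶ FSch.completionAlong S 𝒥) (q : 𝔙 ⟶ FSch.completionAlong S 𝒥)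
      (Φ : 𝔘 ⟶ 𝔙) (eU : 𝔘.X 0 ≅ U₀.toScheme) (eV : 𝔙.X 0 ≅ V₀.toScheme),
      Φ ≫ q = p ∧ FSch.IsAdicHom p ∧ FSch.IsAdicHom q ∧
      (∀ n : ℕ, Smooth ((p : FSch.Hom 𝔘 _).app n)) ∧
      (∀ n : ℕ, Smooth ((q : FSch.Hom 𝔙 _).app n)) ∧
      eU.hom ≫ U₀.ι ≫ a = (p : FSch.Hom 𝔘 _).app 0 ∧
      eV.hom ≫ V₀.ι ≫ b = (q : FSch.Hom 𝔙 _).app 0 ∧
      (Φ : FSch.Hom 𝔘 𝔙).app 0 ≫ eV.hom = eU.hom ≫ f.resLE V₀ U₀ hUV := by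
  obtain ⟨W, hW, hsW, -⟩ := exists_isAffineOpen_mem_and_subset
    (x := (FSch.completionToX S 𝒥 0).base (a.base x)) (U := ⊤) trivial
  have hfx : f.base x ∈ b ⁻¹ᵁ ((FSch.completionToX S 𝒥 0) ⁻¹ᵁ W) := by
    show (FSch.completionToX S 𝒥 0).base (b.base (f.base x)) ∈ W
    have : b.base (f.base x) = a.base x := by
      rw [← w]
      simp
    rw [this]
    exact hsW
  obtain ⟨V₀, hV₀, hxV, hVW'⟩ := exists_isAffineOpen_mem_and_subset hfx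
  have hVW : V₀ ≤ b ⁻¹ᵁ ((FSch.completionToX S 𝒥 0) ⁻¹ᵁ W) := hVW'
  have hx : x ∈ f ⁻¹ᵁ V₀ := hxV
  obtain ⟨U₀, hU₀, hxU, hUV'⟩ := exists_isAffineOpen_mem_and_subset hx
  have hUV : U₀ ≤ f ⁻¹ᵁ V₀ := hUV'
  have hUW : U₀ ≤ a ⁻¹ᵁ ((FSch.completionToX S 𝒥 0) ⁻¹ᵁ W) := by
    intro y hy
    have h1 : f.base y ∈ b ⁻¹ᵁ ((FSch.completionToX S 𝒥 0) ⁻¹ᵁ W) := hVW (hUV hy)
    show (FSch.completionToX S 𝒥 0).base (a.base y) ∈ W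
    have : b.base (f.base y) = a.base y := by
      rw [← w]
      simp
    rw [← this]
    exact h1
  obtain ⟨C, _, _, hC, eU, heU⟩ := exists_model 𝒥 a W hW U₀ hU₀ hUW
  obtain ⟨D, _, _, hD, eV, heV⟩ := exists_model 𝒥 b W hW V₀ hV₀ hVW
  haveI : IsNoetherianRing Γ(S, W) := IsLocallyNoetherian.component_noetherian ⟨W, hW⟩
  have hg₀ : (eU.hom ≫ f.resLE V₀ U₀ hUV ≫ eV.inv) ≫
      (mapOf 𝒥 (uOf (C := D) hW.fromSpec) : FSch.Hom _ _).app 0 =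
      (mapOf 𝒥 (uOf (C := C) hW.fromSpec) : FSch.Hom _ _).app 0 := by
    rw [← heU, ← heV]
    simp only [Category.assoc, Iso.inv_hom_id_assoc]
    rw [Scheme.Hom.resLE_comp_ι_assoc, w]
  obtain ⟨Φ, hΦ, hΦ0⟩ := exists_Phi 𝒥 hW.fromSpec (eU.hom ≫ f.resLE V₀ U₀ hUV ≫ eV.inv) hg₀
  refine ⟨U₀, V₀, hxU, hUV, _, _, mapOf 𝒥 (uOf (C := C) hW.fromSpec),
    mapOf 𝒥 (uOf (C := D) hW.fromSpec), Φ, eU, eV, hΦ, isAdicHom_mapOf _ _, isAdicHom_mapOf _ _,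
    fun n => smooth_level _ _ n, fun n => smooth_level _ _ n, heU, heV, ?_⟩
  rw [hΦ0]
  simp only [Category.assoc, Iso.inv_hom_id, Category.comp_id]

end Groth.Agent.Lib.Helper26.FliftD
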