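import Mathlib
import Groth.Prelude.Def_W4stkadequateTF

/-!
# Tangent functors of module-valued functors: functoriality and exactness

For a short exact sequence `0 → F → G → H → 0` of module-valued functors the sequences
`0 → TF(B,N) → TG(B,N) → TH(B,N) → 0` are exact (`tangentNat_f_injective`, `tangentNat_exact`,
`tangentNat_g_surjective`); `RightExact F` is the right exactness of the tangent functors;
`rightExact_right`, `rightExact_mid`, `coprod_bijective`.
-/

set_option autoImplicit false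
universe u
open CategoryTheory Limits

namespace Groth.Agent.Lib.Helper26.TF

variable {A : Type u} [CommRing A] (B : Adeq.Alg A)

theorem extMap_comp {N N' N'' : ModuleCat.{u} B} (g : N ⟶ N') (h : N' ⟶ N'') :
    AdeqTF.map B (g ≫ h) = AdeqTF.map B g ≫ AdeqTF.map B h := by
  apply CommAlgCat.hom_ext
  refine AlgHom.ext fun x => ?_
  show TrivSqZeroExt.map (g ≫ h).hom x = TrivSqZeroExt.map h.hom (TrivSqZeroExt.map g.hom x)
  rw [ModuleCat.hom_comp]
  exact AlgHom.congr_fun (TrivSqZeroExt.map_comp_map g.hom h.hom) x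

theorem extMap_id (N : ModuleCat.{u} B) : AdeqTF.map B (𝟙 N) = 𝟙 _ := by
  apply CommAlgCat.hom_ext
  refine AlgHom.ext fun x => ?_
  show TrivSqZeroExt.map (𝟙 N : N ⟶ N).hom x = x
  rw [ModuleCat.hom_id, TrivSqZeroExt.map_id]
  rfl

theorem extMap_zero (N N' : ModuleCat.{u} B) :
    AdeqTF.map B (0 : N ⟶ N') = AdeqTF.fst B N ≫ AdeqTF.inl B N' := by
  apply CommAlgCat.hom_ext
  refine AlgHom.ext fun x => ?_
  show TrivSqZeroExt.map (0 : N ⟶ N').hom x = algebraMap B (TrivSqZeroExt B N') (TrivSqZeroExt.fst x)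
  rw [ModuleCat.hom_zero, TrivSqZeroExt.algebraMap_eq_inl]
  ext
  · rw [TrivSqZeroExt.fst_map, TrivSqZeroExt.fst_inl]
  · rw [TrivSqZeroExt.snd_map, TrivSqZeroExt.snd_inl, LinearMap.zero_apply]

theorem inl_fst (N : ModuleCat.{u} B) : AdeqTF.inl B N ≫ AdeqTF.fst B N = 𝟙 B := by
  apply CommAlgCat.hom_ext
  refine AlgHom.ext fun x => ?_
  show TrivSqZeroExt.fst (algebraMap B (TrivSqZeroExt B N) x) = x
  rw [TrivSqZeroExt.algebraMap_eq_inl, TrivSqZeroExt.fst_inl]

section mapA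

variable (F : Adeq.MVF A)

/-- the transition map of a module-valued functor as an additive map (well typed) -/
noncomputable def mapA {X Y : Adeq.Alg A} (f : X ⟶ Y) : F.obj (Adeq.pt X) →+ F.obj (Adeq.pt Y) :=
  (F.map (Adeq.ptHom f)).hom.toAddMonoidHom

theorem mapA_apply {X Y : Adeq.Alg A} (f : X ⟶ Y) (x : F.obj (Adeq.pt X)) :
    mapA F f x = F.map (Adeq.ptHom f) x := rfl

theorem mapA_comp {X Y Z : Adeq.Alg A} (f : X ⟶ Y) (g : Y ⟶ Z) (x : F.obj (Adeq.pt X)) :
    mapA F (f ≫ g) x = mapA F g (mapA F f x) :=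
  F.map_comp_apply (Adeq.ptHom f) (Adeq.ptHom g) x

theorem mapA_id {X : Adeq.Alg A} (x : F.obj (Adeq.pt X)) : mapA F (𝟙 X) x = x := by
  rw [mapA_apply]
  change F.map (𝟙 _) x = x
  rw [F.map_id]
  rfl

variable {F} in
/-- component of a morphism as an additive map -/
noncomputable def appA {G : Adeq.MVF A} (φ : F ⟶ G) (X : Adeq.Alg A) :
    F.obj (Adeq.pt X) →+ G.obj (Adeq.pt X) :=
  (φ.app (Adeq.pt X)).hom.toAddMonoidHom

variable {F} in
theorem appA_mapA {G : Adeq.MVF A} (φ : F ⟶ G) {X Y : Adeq.Alg A} (f : X ⟶ Y)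
    (x : F.obj (Adeq.pt X)) : appA φ Y (mapA F f x) = mapA G f (appA φ X x) :=
  PresheafOfModules.naturality_apply φ (Adeq.ptHom f) x

end mapA

variable (F : Adeq.MVF A)

theorem mem_tangent {N : ModuleCat.{u} B} (x : F.obj (Adeq.pt (AdeqTF.ext B N))) :
    x ∈ AdeqTF.tangent B N F ↔ mapA F (AdeqTF.fst B N) x = 0 := Iff.rfl

theorem tangentMap_coe {N N' : ModuleCat.{u} B} (g : N ⟶ N') (x : AdeqTF.tangent B N F) :
    (AdeqTF.tangentMap B F g x : F.obj (Adeq.pt (AdeqTF.ext B N'))) =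
      mapA F (AdeqTF.map B g) (x : F.obj (Adeq.pt (AdeqTF.ext B N))) := rfl

theorem tangentMap_comp {N N' N'' : ModuleCat.{u} B} (g : N ⟶ N') (h : N' ⟶ N'')
    (x : AdeqTF.tangent B N F) :
    AdeqTF.tangentMap B F (g ≫ h) x = AdeqTF.tangentMap B F h (AdeqTF.tangentMap B F g x) := by
  apply Subtype.ext
  rw [tangentMap_coe, tangentMap_coe, tangentMap_coe, extMap_comp, mapA_comp]

theorem tangentMap_id {N : ModuleCat.{u} B} (x : AdeqTF.tangent B N F) :
    AdeqTF.tangentMap B F (𝟙 N) x = x := by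
  apply Subtype.ext
  rw [tangentMap_coe, extMap_id, mapA_id]

theorem tangentMap_zero {N N' : ModuleCat.{u} B} (x : AdeqTF.tangent B N F) :
    AdeqTF.tangentMap B F (0 : N ⟶ N') x = 0 := by
  apply Subtype.ext
  rw [tangentMap_coe, extMap_zero, mapA_comp, (mem_tangent B F _).1 x.2, map_zero]
  rfl

theorem tangentMap_eq_zero_of_eq_zero {N N' : ModuleCat.{u} B} (g : N ⟶ N') (hg : g = 0)
    (x : AdeqTF.tangent B N F) : AdeqTF.tangentMap B F g x = 0 := by
  subst hg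
  exact tangentMap_zero B F x

variable {F}

/-- the map on tangent modules induced by a morphism of module-valued functors -/
noncomputable def tangentNat {G : Adeq.MVF A} (φ : F ⟶ G) (N : ModuleCat.{u} B) :
    AdeqTF.tangent B N F →+ AdeqTF.tangent B N G :=
  ((appA φ (AdeqTF.ext B N)).comp (AdeqTF.tangent B N F).subtype).codRestrict
    (AdeqTF.tangent B N G) (fun x => by
      rw [mem_tangent]
      change mapA G (AdeqTF.fst B N) (appA φ _ x.1) = 0
      rw [← appA_mapA, (mem_tangent B F _).1 x.2, map_zero])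

theorem tangentNat_coe {G : Adeq.MVF A} (φ : F ⟶ G) (N : ModuleCat.{u} B)
    (x : AdeqTF.tangent B N F) :
    (tangentNat B φ N x : G.obj (Adeq.pt (AdeqTF.ext B N))) =
      appA φ (AdeqTF.ext B N) (x : F.obj (Adeq.pt (AdeqTF.ext B N))) := rfl

theorem tangentNat_tangentMap {G : Adeq.MVF A} (φ : F ⟶ G) {N N' : ModuleCat.{u} B} (g : N ⟶ N')
    (x : AdeqTF.tangent B N F) :
    tangentNat B φ N' (AdeqTF.tangentMap B F g x) = AdeqTF.tangentMap B G g (tangentNat B φ N x) := by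
  apply Subtype.ext
  rw [tangentNat_coe, tangentMap_coe, tangentMap_coe, tangentNat_coe, appA_mapA]

section exact

variable {C : ShortComplex (Adeq.MVF A)} (hC : C.ShortExact)
include hC

omit hC in
instance evalAdditive (X : (Adeq.Alg A)ᵒᵖᵒᵖ) :
    (PresheafOfModules.evaluation.{u + 1} (Adeq.ringOf A) X).Additive :=
  PresheafOfModules.instAdditiveModuleCatCarrierObjOppositeRingCatEvaluation (Adeq.ringOf A) X

omit hC in
instance evalFinLim (X : (Adeq.Alg A)ᵒᵖᵒᵖ) :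
    PreservesFiniteLimits (PresheafOfModules.evaluation.{u + 1} (Adeq.ringOf A) X) :=
  PresheafOfModules.evaluation_preservesFiniteLimits (Adeq.ringOf A) X

omit hC in
instance evalFinColim (X : (Adeq.Alg A)ᵒᵖᵒᵖ) :
    PreservesFiniteColimits (PresheafOfModules.evaluation.{u + 1} (Adeq.ringOf A) X) :=
  PresheafOfModules.Finite.evaluation_preservesFiniteColimits (Adeq.ringOf A) X

theorem app_shortExact (X : (Adeq.Alg A)ᵒᵖᵒᵖ) :
    (C.map (PresheafOfModules.evaluation.{u + 1} (Adeq.ringOf A) X)).ShortExact :=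
  hC.map_of_exact _

theorem appA_injective (X : Adeq.Alg A) : Function.Injective (appA C.f X) :=
  (app_shortExact hC (Adeq.pt X)).moduleCat_injective_f

theorem appA_surjective (X : Adeq.Alg A) : Function.Surjective (appA C.g X) :=
  (app_shortExact hC (Adeq.pt X)).moduleCat_surjective_g

theorem appA_exact (X : Adeq.Alg A) (y : C.X₂.obj (Adeq.pt X)) (hy : appA C.g X y = 0) :
    ∃ x : C.X₁.obj (Adeq.pt X), appA C.f X x = y :=
  ((ShortComplex.moduleCat_exact_iff _).1 (app_shortExact hC (Adeq.pt X)).exact) y hy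

omit hC in
theorem appA_zero (X : Adeq.Alg A) (x : C.X₁.obj (Adeq.pt X)) : appA C.g X (appA C.f X x) = 0 := by
  have h : C.f ≫ C.g = 0 := C.zero
  have h2 := congrArg (fun φ => appA φ X x) h
  exact h2

/-- `TF → TG` is injective -/
theorem tangentNat_f_injective (N : ModuleCat.{u} B) : Function.Injective (tangentNat B C.f N) := by
  intro x y hxy
  apply Subtype.ext
  apply appA_injective hC
  have := congrArg Subtype.val hxy
  exact this

/-- `TG → TH` is surjective -/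
theorem tangentNat_g_surjective (N : ModuleCat.{u} B) :
    Function.Surjective (tangentNat B C.g N) := by
  intro y
  obtain ⟨x, hx⟩ := appA_surjective hC _ (y : C.X₃.obj (Adeq.pt (AdeqTF.ext B N)))
  -- correct x
  let b : C.X₂.obj (Adeq.pt B) := mapA C.X₂ (AdeqTF.fst B N) x
  let x' : C.X₂.obj (Adeq.pt (AdeqTF.ext B N)) := x - mapA C.X₂ (AdeqTF.inl B N) b
  have hb : appA C.g B b = 0 := by
    change appA C.g B (mapA C.X₂ (AdeqTF.fst B N) x) = 0
    rw [appA_mapA, hx]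
    exact (mem_tangent B C.X₃ _).1 y.2
  have hx' : x' ∈ AdeqTF.tangent B N C.X₂ := by
    rw [mem_tangent]
    change mapA C.X₂ (AdeqTF.fst B N) (x - mapA C.X₂ (AdeqTF.inl B N) b) = 0
    rw [map_sub, ← mapA_comp, inl_fst, mapA_id, sub_self]
  refine ⟨⟨x', hx'⟩, ?_⟩
  apply Subtype.ext
  rw [tangentNat_coe]
  change appA C.g _ (x - mapA C.X₂ (AdeqTF.inl B N) b) = _
  rw [map_sub, appA_mapA, hb, map_zero, sub_zero, hx]

/-- exactness at `TG` -/
theorem tangentNat_exact (N : ModuleCat.{u} B) (x : AdeqTF.tangent B N C.X₂)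
    (hx : tangentNat B C.g N x = 0) : ∃ z, tangentNat B C.f N z = x := by
  have hx0 : appA C.g _ (x : C.X₂.obj (Adeq.pt (AdeqTF.ext B N))) = 0 := congrArg Subtype.val hx
  obtain ⟨z, hz⟩ := appA_exact hC _ _ hx0
  have hz' : z ∈ AdeqTF.tangent B N C.X₁ := by
    rw [mem_tangent]
    apply appA_injective hC
    rw [appA_mapA, hz, (mem_tangent B C.X₂ _).1 x.2, map_zero]
  exact ⟨⟨z, hz'⟩, Subtype.ext hz⟩

omit hC in
theorem tangentNat_zero (N : ModuleCat.{u} B) (z : AdeqTF.tangent B N C.X₁) :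
    tangentNat B C.g N (tangentNat B C.f N z) = 0 :=
  Subtype.ext (appA_zero _ _)

end exact


/-- right exactness of the tangent functors -/
def RightExact (F : Adeq.MVF A) : Prop :=
  ∀ (B : Adeq.Alg A) (S : ShortComplex (ModuleCat.{u} B)), S.ShortExact →
    Function.Surjective (AdeqTF.tangentMap B F S.g) ∧
      (AdeqTF.tangentMap B F S.g).ker = (AdeqTF.tangentMap B F S.f).range

theorem range_le_ker (F : Adeq.MVF A) (B : Adeq.Alg A) (S : ShortComplex (ModuleCat.{u} B)) :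
    (AdeqTF.tangentMap B F S.f).range ≤ (AdeqTF.tangentMap B F S.g).ker := by
  rintro _ ⟨x, rfl⟩
  rw [AddMonoidHom.mem_ker, ← tangentMap_comp]
  exact tangentMap_eq_zero_of_eq_zero B F _ S.zero _

theorem rightExact_right {C : ShortComplex (Adeq.MVF A)} (hC : C.ShortExact)
    (h₁ : RightExact C.X₁) (h₂ : RightExact C.X₂) : RightExact C.X₃ := by
  intro B S hS
  obtain ⟨s1, k1⟩ := h₁ B S hS
  obtain ⟨s2, k2⟩ := h₂ B S hS
  constructor
  · intro y
    obtain ⟨x, rfl⟩ := tangentNat_g_surjective B hC S.X₃ y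
    obtain ⟨x', rfl⟩ := s2 x
    exact ⟨tangentNat B C.g S.X₂ x', (tangentNat_tangentMap B C.g S.g x').symm⟩
  · apply le_antisymm
    · intro h hh
      rw [AddMonoidHom.mem_ker] at hh
      obtain ⟨x, rfl⟩ := tangentNat_g_surjective B hC S.X₂ h
      have h1 : tangentNat B C.g S.X₃ (AdeqTF.tangentMap B C.X₂ S.g x) = 0 := by
        rw [tangentNat_tangentMap]; exact hh
      obtain ⟨z₂, hz₂⟩ := tangentNat_exact B hC S.X₃ _ h1
      obtain ⟨z, rfl⟩ := s1 z₂
      have h2 : AdeqTF.tangentMap B C.X₂ S.g (x - tangentNat B C.f S.X₂ z) = 0 := by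
        rw [map_sub, ← tangentNat_tangentMap, hz₂, sub_self]
      have h3 : x - tangentNat B C.f S.X₂ z ∈ (AdeqTF.tangentMap B C.X₂ S.g).ker := h2
      rw [k2] at h3
      obtain ⟨x₁, hx₁⟩ := h3
      refine ⟨tangentNat B C.g S.X₁ x₁, ?_⟩
      rw [← tangentNat_tangentMap, hx₁, map_sub, tangentNat_zero, sub_zero]
    · exact range_le_ker _ B S

theorem rightExact_mid {C : ShortComplex (Adeq.MVF A)} (hC : C.ShortExact)
    (h₁ : RightExact C.X₁) (h₃ : RightExact C.X₃) : RightExact C.X₂ := by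
  intro B S hS
  obtain ⟨s1, k1⟩ := h₁ B S hS
  obtain ⟨s3, k3⟩ := h₃ B S hS
  constructor
  · intro y
    obtain ⟨h, hh⟩ := s3 (tangentNat B C.g S.X₃ y)
    obtain ⟨x, rfl⟩ := tangentNat_g_surjective B hC S.X₂ h
    have h1 : tangentNat B C.g S.X₃ (y - AdeqTF.tangentMap B C.X₂ S.g x) = 0 := by
      rw [map_sub, tangentNat_tangentMap, hh, sub_self]
    obtain ⟨z₃, hz₃⟩ := tangentNat_exact B hC S.X₃ _ h1
    obtain ⟨z, rfl⟩ := s1 z₃
    refine ⟨x + tangentNat B C.f S.X₂ z, ?_⟩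
    rw [map_add, ← tangentNat_tangentMap, hz₃]
    abel
  · apply le_antisymm
    · intro x hx
      rw [AddMonoidHom.mem_ker] at hx
      have h1 : tangentNat B C.g S.X₂ x ∈ (AdeqTF.tangentMap B C.X₃ S.g).ker := by
        rw [AddMonoidHom.mem_ker, ← tangentNat_tangentMap, hx, map_zero]
      rw [k3] at h1
      obtain ⟨h₁', hh₁⟩ := h1
      obtain ⟨x₁, rfl⟩ := tangentNat_g_surjective B hC S.X₁ h₁'
      have h2 : tangentNat B C.g S.X₂ (x - AdeqTF.tangentMap B C.X₂ S.f x₁) = 0 := by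
        rw [map_sub, tangentNat_tangentMap, hh₁, sub_self]
      obtain ⟨z, hz⟩ := tangentNat_exact B hC S.X₂ _ h2
      have h3 : AdeqTF.tangentMap B C.X₁ S.g z = 0 := by
        apply tangentNat_f_injective B hC
        rw [tangentNat_tangentMap, hz, map_sub, hx, map_zero, zero_sub, neg_eq_zero]
        exact range_le_ker _ B S ⟨x₁, rfl⟩
      have h4 : z ∈ (AdeqTF.tangentMap B C.X₁ S.g).ker := h3
      rw [k1] at h4
      obtain ⟨z₁, rfl⟩ := h4
      refine ⟨x₁ + tangentNat B C.f S.X₁ z₁, ?_⟩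
      rw [map_add, ← tangentNat_tangentMap, hz]
      abel
    · exact range_le_ker _ B S


theorem coprod_bijective (F : Adeq.MVF A) (hF : RightExact F) (B : Adeq.Alg A)
    (N₁ N₂ : ModuleCat.{u} B) :
    Function.Bijective ((AdeqTF.tangentMap B F (biprod.inl : N₁ ⟶ N₁ ⊞ N₂)).coprod
      (AdeqTF.tangentMap B F (biprod.inr : N₂ ⟶ N₁ ⊞ N₂))) := by
  have hS : (ShortComplex.mk (biprod.inl : N₁ ⟶ N₁ ⊞ N₂) (biprod.snd : N₁ ⊞ N₂ ⟶ N₂)
      (by simp)).ShortExact := (ShortComplex.Splitting.ofHasBinaryBiproduct N₁ N₂).shortExact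
  obtain ⟨_, k⟩ := hF B _ hS
  have e1 : ∀ x, AdeqTF.tangentMap B F (biprod.fst : N₁ ⊞ N₂ ⟶ N₁)
      (AdeqTF.tangentMap B F (biprod.inl : N₁ ⟶ N₁ ⊞ N₂) x) = x := by
    intro x
    rw [← tangentMap_comp, biprod.inl_fst, tangentMap_id]
  have e2 : ∀ x, AdeqTF.tangentMap B F (biprod.snd : N₁ ⊞ N₂ ⟶ N₂)
      (AdeqTF.tangentMap B F (biprod.inr : N₂ ⟶ N₁ ⊞ N₂) x) = x := by
    intro x
    rw [← tangentMap_comp, biprod.inr_snd, tangentMap_id]
  have e3 : ∀ x, AdeqTF.tangentMap B F (biprod.snd : N₁ ⊞ N₂ ⟶ N₂)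
      (AdeqTF.tangentMap B F (biprod.inl : N₁ ⟶ N₁ ⊞ N₂) x) = 0 := by
    intro x
    rw [← tangentMap_comp]
    exact tangentMap_eq_zero_of_eq_zero B F _ biprod.inl_snd _
  have e4 : ∀ x, AdeqTF.tangentMap B F (biprod.fst : N₁ ⊞ N₂ ⟶ N₁)
      (AdeqTF.tangentMap B F (biprod.inr : N₂ ⟶ N₁ ⊞ N₂) x) = 0 := by
    intro x
    rw [← tangentMap_comp]
    exact tangentMap_eq_zero_of_eq_zero B F _ biprod.inr_fst _
  constructor
  · rw [injective_iff_map_eq_zero]
    rintro ⟨x₁, x₂⟩ hx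
    rw [AddMonoidHom.coprod_apply] at hx
    have h1 := congrArg (AdeqTF.tangentMap B F (biprod.fst : N₁ ⊞ N₂ ⟶ N₁)) hx
    have h2 := congrArg (AdeqTF.tangentMap B F (biprod.snd : N₁ ⊞ N₂ ⟶ N₂)) hx
    rw [map_add, e1, e4, add_zero, map_zero] at h1
    rw [map_add, e3, e2, zero_add, map_zero] at h2
    exact Prod.ext h1 h2
  · intro y
    have hy : y - AdeqTF.tangentMap B F (biprod.inr : N₂ ⟶ N₁ ⊞ N₂)
        (AdeqTF.tangentMap B F (biprod.snd : N₁ ⊞ N₂ ⟶ N₂) y) ∈
        (AdeqTF.tangentMap B F (biprod.snd : N₁ ⊞ N₂ ⟶ N₂)).ker := by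
      rw [AddMonoidHom.mem_ker, map_sub, e2, sub_self]
    rw [k] at hy
    obtain ⟨x₁, hx₁⟩ := hy
    refine ⟨(x₁, AdeqTF.tangentMap B F (biprod.snd : N₁ ⊞ N₂ ⟶ N₂) y), ?_⟩
    rw [AddMonoidHom.coprod_apply]
    change AdeqTF.tangentMap B F (biprod.inl : N₁ ⟶ N₁ ⊞ N₂) x₁ + _ = y
    have hx₁' : AdeqTF.tangentMap B F (biprod.inl : N₁ ⟶ N₁ ⊞ N₂) x₁ = _ := hx₁
    rw [hx₁']
    abel

end Groth.Agent.Lib.Helper26.TF
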