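import Mathlib
import Groth.Agent.Lib.Helper26.TangentFunctor

/-!
# Free module-valued functors on representable functors

`rep C : Adeq.MVF A` is the module-valued functor `D ↦ D[Hom_A(C, D)]` (values lifted one universe up),
`yon F x : rep C ⟶ F` the Yoneda map of `x ∈ F(C)`, `pre π : rep C ⟶ rep C'` the precomposition with
`π : C' ⟶ C`, a monomorphism when `π` is surjective.  As an application, injective module-valued
functors have right exact (surjective) tangent maps: `tangentMap_surjective_of_injective`.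
-/

set_option autoImplicit false
universe u
open CategoryTheory Limits

namespace Groth.Agent.Lib.Helper26.FreeRep

open Groth.Agent.Lib.Helper26.TF

variable {A : Type u} [CommRing A] (C : Adeq.Alg A)

/-- value of the free module-valued functor on the functor represented by `C` -/
abbrev V (D : Adeq.Alg A) : Type (u + 1) := ULift.{u + 1} (C ⟶ D) →₀ D

/-- transition maps -/
noncomputable def tr {D D' : Adeq.Alg A} (f : D ⟶ D') : V C D →+ V C D' :=
  (Finsupp.mapDomain.addMonoidHom
      (fun g : ULift.{u + 1} (C ⟶ D) => (⟨g.down ≫ f⟩ : ULift.{u + 1} (C ⟶ D')))).comp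
    (Finsupp.mapRange.addMonoidHom (f.hom : D →+ D'))

theorem tr_single {D D' : Adeq.Alg A} (f : D ⟶ D') (g : ULift.{u + 1} (C ⟶ D)) (d : D) :
    tr C f (Finsupp.single g d) = Finsupp.single ⟨g.down ≫ f⟩ (f.hom d) := by
  simp [tr]

theorem tr_id (D : Adeq.Alg A) : tr C (𝟙 D) = AddMonoidHom.id _ := by
  apply Finsupp.addHom_ext
  intro g d
  rw [tr_single]
  simp

theorem tr_comp {D D' D'' : Adeq.Alg A} (f : D ⟶ D') (f' : D' ⟶ D'') :
    tr C (f ≫ f') = (tr C f').comp (tr C f) := by
  apply Finsupp.addHom_ext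
  intro g d
  rw [tr_single, AddMonoidHom.comp_apply, tr_single, tr_single]
  simp

theorem tr_smul {D D' : Adeq.Alg A} (f : D ⟶ D') (r : D) (m : V C D) :
    tr C f (r • m) = f.hom r • tr C f m := by
  induction m using Finsupp.induction_linear with
  | zero => simp
  | add x y hx hy => rw [smul_add, map_add, map_add, smul_add, hx, hy]
  | single g d =>
    rw [Finsupp.smul_single, tr_single, tr_single, Finsupp.smul_single]
    simp

/-- the underlying functor to abelian groups -/
noncomputable abbrev repAb : (Adeq.Alg A)ᵒᵖᵒᵖ ⥤ Ab.{u + 1} where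
  obj X := AddCommGrpCat.of (V C X.unop.unop)
  map {X Y} f := AddCommGrpCat.ofHom (tr C f.unop.unop)
  map_id X := by
    apply AddCommGrpCat.hom_ext
    change tr C (𝟙 X.unop.unop) = AddMonoidHom.id _
    exact tr_id C _
  map_comp {X Y Z} f g := by
    apply AddCommGrpCat.hom_ext
    change tr C (f.unop.unop ≫ g.unop.unop) = (tr C g.unop.unop).comp (tr C f.unop.unop)
    exact tr_comp C _ _

/-- the free module-valued functor on the functor represented by `C` -/
noncomputable def rep : Adeq.MVF A :=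
  PresheafOfModules.ofPresheaf (repAb C) (by
    intro X Y f r m
    exact tr_smul C f.unop.unop r m)


section yoneda

variable {C} (F : Adeq.MVF A)

theorem mapA_smul {D D' : Adeq.Alg A} (f : D ⟶ D') (d : D) (y : F.obj (Adeq.pt D)) :
    mapA F f (d • y) = f.hom d • mapA F f y :=
  F.map_smul (Adeq.ptHom f) d y

variable (x : F.obj (Adeq.pt C))

/-- components of the Yoneda map -/
noncomputable def yonApp (D : Adeq.Alg A) : V C D →+ F.obj (Adeq.pt D) :=
  Finsupp.liftAddHom (fun g : ULift.{u + 1} (C ⟶ D) =>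
    ((smulAddHom D (F.obj (Adeq.pt D))).flip (mapA F g.down x)))

theorem yonApp_single (D : Adeq.Alg A) (g : ULift.{u + 1} (C ⟶ D)) (d : D) :
    yonApp F x D (Finsupp.single g d) = d • mapA F g.down x := by
  simp [yonApp]

theorem yonApp_smul (D : Adeq.Alg A) (r : D) (m : V C D) :
    yonApp F x D (r • m) = r • yonApp F x D m := by
  induction m using Finsupp.induction_linear with
  | zero => simp
  | add a b ha hb => rw [smul_add, map_add, map_add, smul_add, ha, hb]
  | single g d =>
    rw [Finsupp.smul_single, yonApp_single, yonApp_single, smul_eq_mul, mul_smul]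

theorem yonApp_tr {D D' : Adeq.Alg A} (f : D ⟶ D') (m : V C D) :
    yonApp F x D' (tr C f m) = mapA F f (yonApp F x D m) := by
  induction m using Finsupp.induction_linear with
  | zero => simp
  | add a b ha hb => rw [map_add, map_add, map_add, map_add, ha, hb]
  | single g d =>
    rw [tr_single, yonApp_single, yonApp_single, mapA_smul, mapA_comp]

/-- the Yoneda map `rep C ⟶ F` attached to an element of `F(C)` -/
noncomputable def yon : rep C ⟶ F :=
  PresheafOfModules.homMk (M₁ := rep C) (M₂ := F)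
    { app := fun X => AddCommGrpCat.ofHom (yonApp F x X.unop.unop)
      naturality := fun X Y f => by
        apply AddCommGrpCat.hom_ext
        apply AddMonoidHom.ext
        intro m
        exact yonApp_tr F x f.unop.unop m }
    (fun X r m => yonApp_smul F x X.unop.unop r m)

theorem yon_app (D : Adeq.Alg A) (m : V C D) :
    appA (yon F x) D m = yonApp F x D m := rfl

theorem yon_app_id : appA (yon F x) C (Finsupp.single ⟨𝟙 C⟩ 1) = x := by
  rw [yon_app, yonApp_single, one_smul]
  exact mapA_id F x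

end yoneda


section precomp

variable {C} {C' : Adeq.Alg A} (π : C' ⟶ C)

theorem mapA_rep {D D' : Adeq.Alg A} (f : D ⟶ D') (m : V C' D) :
    mapA (rep C') f m = tr C' f m := rfl

theorem smul_rep {D : Adeq.Alg A} (d : D) (m : V C' D) :
    (d • (show (rep C').obj (Adeq.pt D) from m) : (rep C').obj (Adeq.pt D)) = (d • m : V C' D) := rfl

/-- precomposition with `π` -/
noncomputable def pre : rep C ⟶ rep C' :=
  yon (rep C') (show (rep C').obj (Adeq.pt C) from (Finsupp.single ⟨π⟩ 1 : V C' C))

/-- `pre π` on values, as a map of finitely supported functions -/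
noncomputable def preV (D : Adeq.Alg A) : V C D →+ V C' D := appA (pre π) D

theorem preV_eq (D : Adeq.Alg A) :
    preV π D = Finsupp.mapDomain.addMonoidHom (fun g : ULift.{u + 1} (C ⟶ D) =>
      (⟨π ≫ g.down⟩ : ULift.{u + 1} (C' ⟶ D))) := by
  apply Finsupp.addHom_ext
  intro g d
  change yonApp (rep C') _ D (Finsupp.single g d) = _
  rw [yonApp_single, mapA_rep, tr_single, smul_rep, Finsupp.smul_single]
  have h1 : g.down.hom (1 : C) = 1 := map_one _
  rw [h1, smul_eq_mul, mul_one]
  change _ = Finsupp.mapDomain _ (Finsupp.single g d)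
  rw [Finsupp.mapDomain_single]

theorem pre_mono (hπ : Function.Surjective π.hom) : Mono (pre π) := by
  apply PresheafOfModules.mono_of_injective
  intro X
  have hinj : Function.Injective (fun g : ULift.{u + 1} (C ⟶ X.unop.unop) =>
      (⟨π ≫ g.down⟩ : ULift.{u + 1} (C' ⟶ X.unop.unop))) := by
    intro g g' h
    have h1 : π ≫ g.down = π ≫ g'.down := congrArg ULift.down h
    apply ULift.ext
    apply CommAlgCat.hom_ext
    apply AlgHom.ext
    intro c
    obtain ⟨c', rfl⟩ := hπ c
    have h2 := congrArg (fun φ => φ.hom c') h1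
    exact h2
  change Function.Injective (preV π X.unop.unop)
  rw [preV_eq]
  exact Finsupp.mapDomain_injective hinj

end precomp


theorem appA_comp {F G H : Adeq.MVF A} (φ : F ⟶ G) (ψ : G ⟶ H) (D : Adeq.Alg A)
    (m : F.obj (Adeq.pt D)) : appA (φ ≫ ψ) D m = appA ψ D (appA φ D m) := rfl

theorem tangentMap_surjective_of_injective (I : Adeq.MVF A) [Injective I] (B : Adeq.Alg A)
    (S : ShortComplex (ModuleCat.{u} B)) (hS : S.ShortExact) :
    Function.Surjective (AdeqTF.tangentMap B I S.g) := by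
  intro y
  have hπ : Function.Surjective (AdeqTF.map B S.g).hom := by
    intro c
    obtain ⟨n, hn⟩ := hS.moduleCat_surjective_g (TrivSqZeroExt.snd c)
    refine ⟨TrivSqZeroExt.inl (TrivSqZeroExt.fst c) + TrivSqZeroExt.inr n, ?_⟩
    change TrivSqZeroExt.map S.g.hom _ = c
    ext
    · rw [TrivSqZeroExt.fst_map]
      simp
    · rw [TrivSqZeroExt.snd_map]
      simp only [TrivSqZeroExt.snd_add, TrivSqZeroExt.snd_inl, TrivSqZeroExt.snd_inr, zero_add]
      exact hn
  have := pre_mono (AdeqTF.map B S.g) hπ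
  let ψ : rep (AdeqTF.ext B S.X₃) ⟶ I := yon I (y : I.obj (Adeq.pt (AdeqTF.ext B S.X₃)))
  let ψ' : rep (AdeqTF.ext B S.X₂) ⟶ I := Injective.factorThru ψ (pre (AdeqTF.map B S.g))
  have hψ' : pre (AdeqTF.map B S.g) ≫ ψ' = ψ := Injective.comp_factorThru _ _
  let e' : (rep (AdeqTF.ext B S.X₂)).obj (Adeq.pt (AdeqTF.ext B S.X₂)) :=
    (Finsupp.single ⟨𝟙 (AdeqTF.ext B S.X₂)⟩ 1 : V (AdeqTF.ext B S.X₂) (AdeqTF.ext B S.X₂))
  let e : (rep (AdeqTF.ext B S.X₃)).obj (Adeq.pt (AdeqTF.ext B S.X₃)) :=
    (Finsupp.single ⟨𝟙 (AdeqTF.ext B S.X₃)⟩ 1 : V (AdeqTF.ext B S.X₃) (AdeqTF.ext B S.X₃))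
  let x' : I.obj (Adeq.pt (AdeqTF.ext B S.X₂)) := appA ψ' (AdeqTF.ext B S.X₂) e'
  have hkey : mapA (rep (AdeqTF.ext B S.X₂)) (AdeqTF.map B S.g) e' =
      appA (pre (AdeqTF.map B S.g)) (AdeqTF.ext B S.X₃) e := by
    change tr _ (AdeqTF.map B S.g) (Finsupp.single ⟨𝟙 (AdeqTF.ext B S.X₂)⟩ 1) =
      preV (AdeqTF.map B S.g) (AdeqTF.ext B S.X₃) (Finsupp.single ⟨𝟙 (AdeqTF.ext B S.X₃)⟩ 1)
    rw [preV_eq, tr_single]
    change _ = Finsupp.mapDomain _ (Finsupp.single _ _)
    rw [Finsupp.mapDomain_single, map_one, Category.id_comp, Category.comp_id]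
  have hx' : mapA I (AdeqTF.map B S.g) x' = y := by
    change mapA I (AdeqTF.map B S.g) (appA ψ' (AdeqTF.ext B S.X₂) e') = _
    rw [← appA_mapA, hkey, ← appA_comp, hψ']
    exact yon_app_id I _
  have hmem : x' ∈ AdeqTF.tangent B S.X₂ I := by
    rw [mem_tangent, ← AdeqTF.map_fst B S.g, mapA_comp, hx']
    exact (mem_tangent B I _).1 y.2
  exact ⟨⟨x', hmem⟩, Subtype.ext hx'⟩

end Groth.Agent.Lib.Helper26.FreeRep
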