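import Mathlib

set_option autoImplicit false
set_option linter.unusedVariables false
set_option linter.style.haveILetI false

namespace Groth.Agent.Lib.Helper26.FrobRed

open TensorProduct

universe u

theorem main (k : Type u) [Field k] (p : ℕ) [Fact p.Prime] [CharP k p]
    (R : Type u) [CommRing R] [Algebra k R] [Algebra.FiniteType k R] :
    ∃ n : ℕ, Algebra.IsGeometricallyReduced k
      ↥(Algebra.adjoin k (Set.range (fun x : R => x ^ (p ^ n)))) := by
  let K := AlgebraicClosure k
  let RK := K ⊗[k] R
  haveI : Algebra.FiniteType K RK := inferInstance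
  haveI : IsNoetherianRing RK := Algebra.FiniteType.isNoetherianRing K RK
  obtain ⟨m, hm⟩ := IsNoetherianRing.isNilpotent_nilradical RK
  have hnil : ∀ x : RK, IsNilpotent x → x ^ m = 0 := by
    intro x hx
    have : x ^ m ∈ (nilradical RK) ^ m := Ideal.pow_mem_pow (mem_nilradical.mpr hx) m
    rw [hm] at this
    exact this
  obtain ⟨n, hn⟩ : ∃ n, m ≤ p ^ n := ⟨m, (Nat.lt_pow_self (Fact.out : p.Prime).one_lt).le⟩
  refine ⟨n, ?_⟩
  set S := Algebra.adjoin k (Set.range (fun x : R => x ^ (p ^ n))) with hS
  rw [Algebra.isGeometricallyReduced_field_iff]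
  let j : K ⊗[k] S →ₐ[K] RK := Algebra.TensorProduct.map (AlgHom.id K K) S.val
  have hj : Function.Injective j :=
    Module.Flat.lTensor_preserves_injective_linearMap (M := K) S.val.toLinearMap
      Subtype.val_injective
  by_cases htriv : Nontrivial RK
  swap
  · rw [not_nontrivial_iff_subsingleton] at htriv
    constructor
    intro z hz
    apply hj
    exact Subsingleton.elim _ _
  haveI : CharP K p := charP_of_injective_algebraMap (algebraMap k K).injective p
  haveI : CharP RK p := charP_of_injective_algebraMap (algebraMap K RK).injective p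
  have hpn : 0 < p ^ n := pow_pos (Fact.out : p.Prime).pos n
  have hKroot : ∀ c : K, (c ⊗ₜ[k] (1 : R) : RK) ∈ (iterateFrobenius RK p n).range := by
    intro c
    obtain ⟨d, hd⟩ := IsAlgClosed.exists_pow_nat_eq c hpn
    refine ⟨d ⊗ₜ 1, ?_⟩
    rw [iterateFrobenius_def, Algebra.TensorProduct.tmul_pow, hd, one_pow]
  have hSrange : ∀ s : R, s ∈ S → ((1 : K) ⊗ₜ[k] s : RK) ∈ (iterateFrobenius RK p n).range := by
    intro s hs
    induction hs using Algebra.adjoin_induction with
    | mem x hx =>
      obtain ⟨r, rfl⟩ := hx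
      refine ⟨1 ⊗ₜ r, ?_⟩
      rw [iterateFrobenius_def, Algebra.TensorProduct.tmul_pow, one_pow]
    | algebraMap c' =>
      have : ((1 : K) ⊗ₜ[k] (algebraMap k R c') : RK) = (algebraMap k K c') ⊗ₜ[k] (1 : R) := by
        rw [Algebra.algebraMap_eq_smul_one, Algebra.algebraMap_eq_smul_one, TensorProduct.smul_tmul]
      rw [this]
      exact hKroot _
    | add x y _ _ hx hy =>
      rw [TensorProduct.tmul_add]
      exact Subring.add_mem _ hx hy
    | mul x y _ _ hx hy =>
      have : ((1 : K) ⊗ₜ[k] (x * y) : RK) = ((1 : K) ⊗ₜ[k] x) * ((1 : K) ⊗ₜ[k] y) := by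
        rw [Algebra.TensorProduct.tmul_mul_tmul, one_mul]
      rw [this]
      exact Subring.mul_mem _ hx hy
  have hrange : ∀ z : K ⊗[k] S, j z ∈ (iterateFrobenius RK p n).range := by
    intro z
    induction z using TensorProduct.induction_on with
    | zero =>
      rw [map_zero]
      exact Subring.zero_mem _
    | add x y hx hy =>
      rw [map_add]
      exact Subring.add_mem _ hx hy
    | tmul c s =>
      have h1 : j (c ⊗ₜ s) = (c ⊗ₜ[k] (1 : R)) * ((1 : K) ⊗ₜ[k] (s : R)) := by
        rw [Algebra.TensorProduct.tmul_mul_tmul, mul_one, one_mul]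
        rfl
      rw [h1]
      exact Subring.mul_mem _ (hKroot c) (hSrange s.1 s.2)
  constructor
  intro z hz
  obtain ⟨x, hx⟩ := hrange z
  rw [iterateFrobenius_def] at hx
  have hxnil : IsNilpotent x := by
    have h1 : IsNilpotent (j z) := hz.map j
    rw [← hx] at h1
    exact (IsNilpotent.pow_iff_pos hpn.ne').mp h1
  have hx0 : x ^ (p ^ n) = 0 := pow_eq_zero_of_le hn (hnil x hxnil)
  have : j z = 0 := by rw [← hx, hx0]
  exact (map_eq_zero_iff j hj).mp this

end Groth.Agent.Lib.Helper26.FrobRed
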