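import Mathlib
import Groth.Agent.Lib.Helper9.RelFrobSmooth

namespace Groth.Agent.Lib.Helper26.FrobSmA
open scoped TensorProduct
open Groth.Agent.Lib.Helper9.RelFrobSmooth

universe u
variable (p : ℕ) [Fact p.Prime] (k : Type u) [Field k] [CharP k p] [PerfectRing k p]
  (A : Type u) [CommRing A] [Algebra k A] [CharP A p]

theorem includeLeft_bijective :
    Function.Bijective (Algebra.TensorProduct.includeLeft : A →ₐ[k] A ⊗[k] FrobAlg.Twist p k) := by
  have hbij : Function.Bijective (Algebra.ofId k (FrobAlg.Twist p k)) := by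
    have : ⇑(Algebra.ofId k (FrobAlg.Twist p k)) = ⇑(frobenius k p) := by
      ext c
      rfl
    rw [this]
    exact bijective_frobenius k p
  let e : k ≃ₐ[k] FrobAlg.Twist p k := AlgEquiv.ofBijective _ hbij
  let E : A ≃ₐ[k] A ⊗[k] FrobAlg.Twist p k :=
    (Algebra.TensorProduct.rid k k A).symm.trans (Algebra.TensorProduct.congr AlgEquiv.refl e)
  have : ⇑(Algebra.TensorProduct.includeLeft : A →ₐ[k] A ⊗[k] FrobAlg.Twist p k) = ⇑E := by
    ext a
    simp [E, e]
  rw [this]
  exact E.bijective

theorem frobenius_eq_comp :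
    frobenius A p = (FrobAlg.relFrob p k A).comp
      (Algebra.TensorProduct.includeLeft : A →ₐ[k] A ⊗[k] FrobAlg.Twist p k).toRingHom := by
  ext a
  simp only [RingHom.comp_apply, AlgHom.toRingHom_eq_coe, RingHom.coe_coe,
    Algebra.TensorProduct.includeLeft_apply]
  rw [relFrob_tmul]
  simp [frobenius_def]

theorem frobenius_flat [Algebra.Smooth k A] : (frobenius A p).Flat := by
  rw [frobenius_eq_comp p k A]
  exact RingHom.Flat.comp (RingHom.Flat.of_bijective (includeLeft_bijective p k A))
    (flat_relFrob_of_smooth p k A)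

theorem comap_frobenius (q : PrimeSpectrum A) : PrimeSpectrum.comap (frobenius A p) q = q := by
  ext a
  simp only [PrimeSpectrum.comap_asIdeal, Ideal.mem_comap, frobenius_def]
  exact ⟨fun h => q.isPrime.mem_of_pow_mem _ h, fun h => Ideal.pow_mem_of_mem _ h _ (Fact.out : p.Prime).pos⟩

theorem frobenius_faithfullyFlat [Algebra.Smooth k A] : (frobenius A p).FaithfullyFlat := by
  rw [RingHom.FaithfullyFlat.iff_flat_and_comap_surjective]
  exact ⟨frobenius_flat p k A, fun q => ⟨q, comap_frobenius p A q⟩⟩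

end Groth.Agent.Lib.Helper26.FrobSmA
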