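import Mathlib
import Groth.Prelude.Def_W4c2gaugesfzipsQuiet

namespace Groth.Agent.Lib.Helper26.FrobSmB
open Polynomial

universe u

section pb
variable (p : ℕ) [Fact p.Prime] {A : Type u} [CommRing A] (a : A)

lemma monic_rootPoly : (X ^ p - C a : A[X]).Monic :=
  monic_X_pow_sub_C a (Fact.out : p.Prime).ne_zero

lemma natDegree_rootPoly [Nontrivial A] : (X ^ p - C a : A[X]).natDegree = p :=
  natDegree_X_pow_sub_C

/-- coordinates in the root ring -/
theorem exists_coord_equiv :
    ∃ e : (Fin p → A) ≃ Quiet.RootRing p A a, ∀ c, e c =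
      ∑ j, AdjoinRoot.of (X ^ p - C a : A[X]) (c j) * AdjoinRoot.root (X ^ p - C a : A[X]) ^ (j : ℕ) := by
  rcases subsingleton_or_nontrivial A with h | h
  · haveI : Subsingleton (Quiet.RootRing p A a) :=
      (AdjoinRoot.of (X ^ p - C a : A[X])).codomain_trivial
    refine ⟨⟨fun _ => 0, fun _ => 0, fun _ => Subsingleton.elim _ _,
      fun _ => Subsingleton.elim _ _⟩, fun _ => Subsingleton.elim _ _⟩
  · have hdim : (AdjoinRoot.powerBasis' (monic_rootPoly p a)).dim = p := by
      rw [AdjoinRoot.powerBasis'_dim, natDegree_rootPoly]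
    let B0 : Module.Basis (Fin p) A (Quiet.RootRing p A a) :=
      (AdjoinRoot.powerBasis' (monic_rootPoly p a)).basis.reindex (finCongr hdim)
    refine ⟨B0.equivFun.symm.toEquiv, fun c => ?_⟩
    rw [LinearEquiv.coe_toEquiv, Module.Basis.equivFun_symm_apply]
    refine Finset.sum_congr rfl fun j _ => ?_
    rw [Module.Basis.reindex_apply, PowerBasis.basis_eq_pow, AdjoinRoot.powerBasis'_gen,
      Algebra.smul_def, AdjoinRoot.algebraMap_eq]
    rfl

end pb

/-- the `p`-basis evaluation map -/
def pbMap (p : ℕ) {A B : Type u} [CommRing A] [CommRing B] [Algebra A B] {n : ℕ}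
    (b : Fin n → B) : ((Fin n → Fin p) → A) → B :=
  fun c => ∑ α, algebraMap A B (c α) * ∏ i, b i ^ ((α i : Fin p) : ℕ)

theorem isRootTower_of_pb (p : ℕ) [Fact p.Prime] : ∀ (n : ℕ) (A B : Type u) [CommRing A]
    [CommRing B] [Algebra A B] (a : Fin n → A) (b : Fin n → B)
    (_ : ∀ i, b i ^ p = algebraMap A B (a i))
    (_ : Function.Bijective (pbMap p (A := A) b)), Quiet.IsRootTower p n A B := by
  intro n
  induction n with
  | zero =>
    intro A B _ _ _ a b hab hb
    have h1 : Function.Bijective (algebraMap A B) := by
      have : (pbMap p (A := A) b) = (algebraMap A B) ∘ (fun c => c default) := by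
        funext c
        simp only [pbMap, Function.comp_apply]
        rw [Fintype.sum_unique, Finset.univ_eq_empty, Finset.prod_empty, mul_one]
        exact congrArg _ (congrArg c (Subsingleton.elim _ _))
      rw [this] at hb
      have h2 : Function.Bijective (fun c : (Fin 0 → Fin p) → A => c default) := by
        refine ⟨fun c d h => ?_, fun x => ⟨fun _ => x, rfl⟩⟩
        funext α
        rw [Subsingleton.elim α default]; exact h
      exact (Function.Bijective.of_comp_iff _ h2).mp hb
    exact ⟨(AlgEquiv.ofBijective (Algebra.ofId A B) h1).symm⟩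
  | succ n ih =>
    intro A B _ _ _ a b hab hb
    have hroot : (X ^ p - C (a 0) : A[X]).eval₂ (algebraMap A B) (b 0) = 0 := by
      rw [eval₂_sub, eval₂_pow, eval₂_X, eval₂_C, hab 0, sub_self]
    letI alg' : Algebra (Quiet.RootRing p A (a 0)) B :=
      (AdjoinRoot.lift (algebraMap A B) (b 0) hroot).toAlgebra
    have halg : ∀ x, algebraMap (Quiet.RootRing p A (a 0)) B x =
        AdjoinRoot.lift (algebraMap A B) (b 0) hroot x := fun _ => rfl
    haveI tower : IsScalarTower A (Quiet.RootRing p A (a 0)) B :=
      IsScalarTower.of_algebraMap_eq fun x => by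
        rw [halg, AdjoinRoot.algebraMap_eq, AdjoinRoot.lift_of]
    refine ⟨a 0, alg', tower, ?_⟩
    apply ih (Quiet.RootRing p A (a 0)) B
      (fun i => AdjoinRoot.of (X ^ p - C (a 0) : A[X]) (a i.succ)) (fun i => b i.succ)
    · intro i
      rw [halg, AdjoinRoot.lift_of]; exact hab i.succ
    · obtain ⟨e, he⟩ := exists_coord_equiv p (a 0)
      -- θ
      let θ : ((Fin (n + 1) → Fin p) → A) → ((Fin n → Fin p) → Quiet.RootRing p A (a 0)) :=
        fun c β => e (fun j => c (Fin.cons j β))
      have hθ : Function.Bijective θ := by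
        constructor
        · intro c d h
          funext α
          have h1 := congrFun h (Fin.tail α)
          have h2 := congrFun (e.injective h1) (α 0)
          simpa using h2
        · intro c'
          refine ⟨fun α => e.symm (c' (Fin.tail α)) (α 0), ?_⟩
          funext β
          simp only [θ, Fin.tail_cons, Fin.cons_zero]
          exact e.apply_symm_apply _
      have hcomp : pbMap p (A := Quiet.RootRing p A (a 0)) (fun i => b i.succ) ∘ θ =
          pbMap p (A := A) b := by
        funext c
        simp only [Function.comp_apply, pbMap, θ]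
        rw [← (Fin.consEquiv (fun _ : Fin (n + 1) => Fin p)).sum_comp, Fintype.sum_prod_type,
          Finset.sum_comm]
        refine Finset.sum_congr rfl fun β _ => ?_
        rw [he, map_sum, Finset.sum_mul]
        refine Finset.sum_congr rfl fun j _ => ?_
        rw [map_mul, map_pow, halg, halg, AdjoinRoot.lift_of, AdjoinRoot.lift_root,
          Fin.prod_univ_succ]
        simp only [Fin.consEquiv_apply, Fin.cons_zero, Fin.cons_succ]
        have : (Fin.consEquiv fun _ : Fin (n + 1) => Fin p) (j, β) = Fin.cons j β := rfl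
        rw [this]
        ring
      rw [← hcomp] at hb
      exact (Function.Bijective.of_comp_iff _ hθ).mp hb

end Groth.Agent.Lib.Helper26.FrobSmB
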