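import Mathlib
import Groth.Agent.Lib.Helper9.RelFrobSmooth
import Groth.Agent.Lib.Helper26.FrobSmB

namespace Groth.Agent.Lib.Helper26.FrobSmC
open scoped TensorProduct
open Groth.Agent.Lib.Helper9.RelFrobSmooth Groth.Agent.Lib.Helper26.FrobSmB

universe u

/-- the `p`-basis evaluation map for a ring hom -/
def pbMapHom (p : ℕ) {A B : Type*} [CommRing A] [CommRing B] (φ : A →+* B) {n : ℕ}
    (b : Fin n → B) : ((Fin n → Fin p) → A) → B :=
  fun c => ∑ α, φ (c α) * ∏ i, b i ^ ((α i : Fin p) : ℕ)

lemma pbMap_eq (p : ℕ) {A B : Type u} [CommRing A] [CommRing B] (φ : A →+* B) {n : ℕ}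
    (b : Fin n → B) :
    letI := φ.toAlgebra
    pbMap p (A := A) b = pbMapHom p φ b := rfl

theorem pb_transfer (p : ℕ) {A B A' B' : Type*} [CommRing A] [CommRing B] [CommRing A']
    [CommRing B'] (φ : A →+* B) (φ' : A' →+* B') (eA : A ≃+* A') (eB : B ≃+* B')
    (h : ∀ a, φ' (eA a) = eB (φ a)) {n : ℕ} (b : Fin n → B)
    (hb : Function.Bijective (pbMapHom p φ b)) :
    Function.Bijective (pbMapHom p φ' (fun i => eB (b i))) := by
  have : pbMapHom p φ' (fun i => eB (b i)) =
      eB ∘ pbMapHom p φ b ∘ (fun c' α => eA.symm (c' α)) := by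
    funext c'
    simp only [pbMapHom, Function.comp_apply, map_sum, map_mul, map_prod, map_pow]
    refine Finset.sum_congr rfl fun α _ => ?_
    rw [← h, RingEquiv.apply_symm_apply]
  rw [this]
  refine eB.bijective.comp (hb.comp ?_)
  refine ⟨fun c d hcd => ?_, fun c => ⟨fun α => eA (c α), by funext α; simp⟩⟩
  funext α
  exact eA.symm.injective (congrFun hcd α)

section poly
open MvPolynomial
variable (p : ℕ) [Fact p.Prime] (k : Type u) [Field k] [CharP k p] [PerfectRing k p] (n : ℕ)

theorem prod_X_pow (α : Fin n → Fin p) :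
    ∏ i, (X i : MvPolynomial (Fin n) k) ^ ((α i : Fin p) : ℕ) = bmon p α := by
  rw [bmon, MvPolynomial.monomial_eq, C_1, one_mul, Finsupp.prod_fintype]
  · rfl
  · intro i; exact pow_zero _

theorem pb_poly : Function.Bijective
    (pbMapHom p (frobenius (MvPolynomial (Fin n) k) p) (fun i => (X i : MvPolynomial (Fin n) k))) := by
  have : NeZero p := ⟨(Fact.out : p.Prime).ne_zero⟩
  let μ : MvPolynomial (Fin n) k ≃+* MvPolynomial (Fin n) k :=
    MvPolynomial.mapEquiv (Fin n) (frobeniusEquiv k p)
  let G : ((Fin n → Fin p) → MvPolynomial (Fin n) k) → MvPolynomial (Fin n) k :=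
    fun g => ∑ α, expand p (g α) * bmon p α
  have hG : Function.Bijective G := by
    constructor
    · intro g g' h
      have h1 : G (g - g') = 0 := by
        simp only [G, Pi.sub_apply, map_sub, sub_mul, Finset.sum_sub_distrib]
        exact sub_eq_zero.mpr h
      have := linearIndependent_expand p (g - g') h1
      exact sub_eq_zero.mp this
    · intro x
      obtain ⟨g, hg⟩ := span_expand p x
      exact ⟨g, hg.symm⟩
  have hcomp : pbMapHom p (frobenius (MvPolynomial (Fin n) k) p)
      (fun i => (X i : MvPolynomial (Fin n) k)) = G ∘ (fun c α => μ (c α)) := by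
    funext c
    simp only [pbMapHom, G, Function.comp_apply]
    refine Finset.sum_congr rfl fun α _ => ?_
    rw [prod_X_pow, frobenius_def, ← map_frobenius_expand, MvPolynomial.map_expand]
    rfl
  rw [hcomp]
  refine hG.comp ⟨fun c d hcd => ?_, fun c => ⟨fun α => μ.symm (c α), by funext α; simp⟩⟩
  funext α
  exact μ.injective (congrFun hcd α)

end poly

section etale
open MvPolynomial
variable (p : ℕ) [Fact p.Prime] (k : Type u) [Field k] [CharP k p] [PerfectRing k p] (n : ℕ)
  (C : Type u) [CommRing C] [Algebra (MvPolynomial (Fin n) k) C] [CharP C p]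
  [Algebra.Etale (MvPolynomial (Fin n) k) C]

/-- the `P`-linear equivalence `(ι → P) ≃ Twist p P` given by the monomial `p`-basis -/
noncomputable def twistEquiv :
    ((Fin n → Fin p) → MvPolynomial (Fin n) k) ≃ₗ[MvPolynomial (Fin n) k]
      FrobAlg.Twist p (MvPolynomial (Fin n) k) :=
  LinearEquiv.ofBijective
    { toFun := fun c => FrobAlg.toTwist p _ (pbMapHom p (frobenius (MvPolynomial (Fin n) k) p)
        (fun i => (X i : MvPolynomial (Fin n) k)) c)
      map_add' := fun c d => by
        rw [← map_add]
        congr 1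
        simp only [pbMapHom, Pi.add_apply, map_add, add_mul, Finset.sum_add_distrib]
      map_smul' := fun r c => by
        have h1 : pbMapHom p (frobenius (MvPolynomial (Fin n) k) p)
            (fun i => (X i : MvPolynomial (Fin n) k)) (r • c) =
            r ^ p * pbMapHom p (frobenius (MvPolynomial (Fin n) k) p)
              (fun i => (X i : MvPolynomial (Fin n) k)) c := by
          simp only [pbMapHom, Pi.smul_apply, smul_eq_mul, map_mul, frobenius_def, Finset.mul_sum,
            mul_assoc]
        have h2 : ∀ t : FrobAlg.Twist p (MvPolynomial (Fin n) k),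
            r • t = FrobAlg.toTwist p _ (r ^ p) * t := fun t => by
          rw [Algebra.smul_def, FrobAlg.algebraMap_twist]
        rw [RingHom.id_apply, h1, h2, map_mul] }
    ((FrobAlg.toTwist p _).bijective.comp (pb_poly p k n))

lemma twistEquiv_apply (c : (Fin n → Fin p) → MvPolynomial (Fin n) k) :
    twistEquiv p k n c = FrobAlg.toTwist p _ (pbMapHom p (frobenius (MvPolynomial (Fin n) k) p)
        (fun i => (X i : MvPolynomial (Fin n) k)) c) := rfl

theorem pb_etale : Function.Bijective
    (pbMapHom p (frobenius C p) (fun i => algebraMap (MvPolynomial (Fin n) k) C (X i))) := by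
  classical
  let bT : Module.Basis (Fin n → Fin p) (MvPolynomial (Fin n) k)
      (FrobAlg.Twist p (MvPolynomial (Fin n) k)) :=
    Module.Basis.ofEquivFun (twistEquiv p k n).symm
  have hbT : ∀ α, bT α = FrobAlg.toTwist p _ (bmon (R := k) p α) := by
    intro α
    rw [Module.Basis.coe_ofEquivFun, LinearEquiv.symm_symm]
    show twistEquiv p k n (Pi.single α 1) = _
    rw [twistEquiv_apply]
    congr 1
    simp only [pbMapHom]
    rw [Finset.sum_eq_single α]
    · rw [Pi.single_eq_same, map_one, one_mul, prod_X_pow]
    · intro β _ hβ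
      rw [Pi.single_eq_of_ne hβ, map_zero, zero_mul]
    · intro h; exact absurd (Finset.mem_univ _) h
  let bC := Algebra.TensorProduct.basis C bT
  have hcomp : pbMapHom p (frobenius C p)
      (fun i => algebraMap (MvPolynomial (Fin n) k) C (X i)) =
      (FrobAlg.relFrob p (MvPolynomial (Fin n) k) C) ∘ bC.equivFun.symm := by
    funext c
    simp only [pbMapHom, Function.comp_apply]
    rw [Module.Basis.equivFun_symm_apply, map_sum]
    refine Finset.sum_congr rfl fun α _ => ?_
    rw [Algebra.TensorProduct.basis_apply, TensorProduct.smul_tmul', smul_eq_mul, mul_one, hbT,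
      relFrob_tmul, RingEquiv.symm_apply_apply, frobenius_def, ← prod_X_pow, map_prod]
    simp only [map_pow]
  rw [hcomp]
  exact (bijective_relFrob_of_etale p (MvPolynomial (Fin n) k) C).comp bC.equivFun.symm.bijective

end etale

end Groth.Agent.Lib.Helper26.FrobSmC
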