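import Mathlib
import Groth.Agent.Lib.Helper26.FrobSmC

namespace Groth.Agent.Lib.Helper26.FrobSmD
open scoped TensorProduct
open Groth.Agent.Lib.Helper9.RelFrobSmooth Groth.Agent.Lib.Helper26.FrobSmB
  Groth.Agent.Lib.Helper26.FrobSmC

universe u

theorem away_of_away_pow {A L : Type*} [CommRing A] [CommRing L] [Algebra A L] (g : A) (p : ℕ)
    (hp : 0 < p) [IsLocalization.Away (g ^ p) L] : IsLocalization.Away g L := by
  refine IsLocalization.Away.mk g ?_ ?_ ?_
  · have h := IsLocalization.Away.algebraMap_isUnit (S := L) (g ^ p)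
    rw [map_pow] at h
    exact (isUnit_pow_iff hp.ne').mp h
  · intro s
    obtain ⟨n, a, hn⟩ := IsLocalization.Away.surj (g ^ p) s
    refine ⟨p * n, a, ?_⟩
    rw [← hn, map_pow, pow_mul]
  · intro a b hab
    obtain ⟨n, hn⟩ := IsLocalization.Away.exists_of_eq (g ^ p) hab
    refine ⟨p * n, ?_⟩
    rw [pow_mul]; exact hn

theorem main_ring (p : ℕ) [Fact p.Prime] (k : Type u) [Field k] [CharP k p] [PerfectRing k p]
    (A : Type u) [CommRing A] [Algebra k A] [CharP A p] (g : A)
    [Algebra.IsStandardSmooth k (Localization.Away g)] [Nontrivial (Localization.Away g)]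
    {L L' : Type u} [CommRing L] [CommRing L'] (ιL : A →+* L) (ιL' : A →+* L')
    (hL : @IsLocalization.Away _ _ g L _ ιL.toAlgebra)
    (hL' : @IsLocalization.Away _ _ (g ^ p) L' _ ιL'.toAlgebra)
    (φ : L →+* L') (hφ : ∀ a, φ (ιL a) = ιL' (a ^ p)) :
    letI := φ.toAlgebra
    ∃ n, Quiet.IsRootTower p n L L' := by
  have hC : CharP (Localization.Away g) p := charP_of_algebra p A (Localization.Away g)
  obtain ⟨ι, σ, _, _, ⟨Pr⟩⟩ := Algebra.IsStandardSmooth.out (R := k) (S := Localization.Away g)
  have hrel : Algebra.IsStandardSmoothOfRelativeDimension Pr.dimension k (Localization.Away g) :=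
    Pr.isStandardSmoothOfRelativeDimension rfl
  obtain ⟨gP, hgP⟩ := Algebra.IsStandardSmoothOfRelativeDimension.exists_etale_mvPolynomial
    Pr.dimension k (Localization.Away g)
  letI algPC : Algebra (MvPolynomial (Fin Pr.dimension) k) (Localization.Away g) :=
    gP.toRingHom.toAlgebra
  have het : Algebra.Etale (MvPolynomial (Fin Pr.dimension) k) (Localization.Away g) := hgP
  have hpbC := pb_etale p k Pr.dimension (Localization.Away g)
  letI algL : Algebra A L := ιL.toAlgebra
  letI algL' : Algebra A L' := ιL'.toAlgebra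
  haveI : IsLocalization.Away g L := hL
  haveI : IsLocalization.Away (g ^ p) L' := hL'
  haveI : IsLocalization.Away g L' := away_of_away_pow g p (Fact.out : p.Prime).pos
  let e₁ : Localization.Away g ≃ₐ[A] L := IsLocalization.algEquiv (Submonoid.powers g) _ _
  let e₂ : L ≃ₐ[A] L' := IsLocalization.algEquiv (Submonoid.powers g) _ _
  haveI hLp : CharP L p := charP_of_injective_ringHom (f := (e₁ : Localization.Away g →+* L))
    e₁.injective p
  have hφ' : φ = (e₂ : L →+* L').comp (frobenius L p) := by
    apply IsLocalization.ringHom_ext (Submonoid.powers g)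
    ext a
    simp only [RingHom.comp_apply]
    have h1 : algebraMap A L a = ιL a := rfl
    rw [h1, hφ, frobenius_def, ← map_pow]
    have h2 : ((e₂ : L →+* L') (ιL (a ^ p))) = e₂ (algebraMap A L (a ^ p)) := rfl
    rw [h2, e₂.commutes]
    rfl
  have hφx : ∀ x : L, φ x = e₂ (x ^ p) := fun x => by rw [hφ']; rfl
  have hpb := pb_transfer p (frobenius (Localization.Away g) p) φ
    (e₁ : Localization.Away g ≃+* L) ((e₁ : Localization.Away g ≃+* L).trans (e₂ : L ≃+* L'))
    (fun c => by
      rw [hφx, frobenius_def]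
      simp)
    _ hpbC
  refine ⟨Pr.dimension, ?_⟩
  letI := φ.toAlgebra
  refine isRootTower_of_pb p Pr.dimension L L'
    (fun i => e₁ (algebraMap (MvPolynomial (Fin Pr.dimension) k) (Localization.Away g)
      (MvPolynomial.X i)))
    (fun i => e₂ (e₁ (algebraMap (MvPolynomial (Fin Pr.dimension) k) (Localization.Away g)
      (MvPolynomial.X i)))) ?_ ?_
  · intro i
    show _ = φ _
    rw [hφx, map_pow]
  · exact hpb

end Groth.Agent.Lib.Helper26.FrobSmD
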