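import Mathlib
import Groth.Agent.Lib.Helper26.FrobSmA
import Groth.Agent.Lib.Helper26.FrobSmD

namespace Groth.Agent.Lib.Helper26.FrobSmE
open CategoryTheory AlgebraicGeometry Opposite
open Groth.Agent.Lib.Helper26.FrobSmA Groth.Agent.Lib.Helper26.FrobSmD

universe u

lemma nontrivial_away {A : Type*} [CommRing A] (g : A) (q : Ideal A) [q.IsPrime] (hg : g ∉ q) :
    Nontrivial (Localization.Away g) := by
  have hu : IsUnit (algebraMap A (Localization.AtPrime q) g) :=
    IsLocalization.map_units (M := q.primeCompl) (Localization.AtPrime q) ⟨g, hg⟩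
  exact (IsLocalization.Away.lift (S := Localization.Away g) g hu).domain_nontrivial

/-- the comparison map `A → Γ(Spec A, V)` -/
noncomputable def iotaV (A : Type u) [CommRing A] (V : (Spec (CommRingCat.of A)).Opens) :
    A →+* Γ(Spec (CommRingCat.of A), V) :=
  ((Spec (CommRingCat.of A)).presheaf.map (homOfLE (le_top : V ≤ ⊤)).op).hom.comp
    ((Scheme.ΓSpecIso (CommRingCat.of A)).commRingCatIsoToRingEquiv.symm :
      A ≃+* Γ(Spec (CommRingCat.of A), ⊤)).toRingHom

lemma iotaV_apply (A : Type u) [CommRing A] (V : (Spec (CommRingCat.of A)).Opens) (a : A) :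
    iotaV A V a = ((Spec (CommRingCat.of A)).presheaf.map (homOfLE (le_top : V ≤ ⊤)).op).hom
      ((Scheme.ΓSpecIso (CommRingCat.of A)).inv.hom a) := rfl

lemma appTop_inv (A : Type u) [CommRing A] (F : A →+* A) (a : A) :
    (Spec.map (CommRingCat.ofHom F)).appTop.hom ((Scheme.ΓSpecIso (CommRingCat.of A)).inv.hom a) =
      (Scheme.ΓSpecIso (CommRingCat.of A)).inv.hom (F a) := by
  have := congrArg (fun φ => φ.hom a) (Scheme.ΓSpecIso_inv_naturality (CommRingCat.ofHom F))
  exact this.symm

theorem isLocalization_iotaV (A : Type u) [CommRing A] (g : A)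
    (V : (Spec (CommRingCat.of A)).Opens)
    (hV : V = (Spec (CommRingCat.of A)).basicOpen ((Scheme.ΓSpecIso (CommRingCat.of A)).inv g)) :
    @IsLocalization.Away _ _ g Γ(Spec (CommRingCat.of A), V) _ (iotaV A V).toAlgebra := by
  have h1 := (isAffineOpen_top (Spec (CommRingCat.of A))).isLocalization_of_eq_basicOpen
    ((Scheme.ΓSpecIso (CommRingCat.of A)).inv g) (homOfLE (le_top : V ≤ ⊤)) hV
  letI := ((Spec (CommRingCat.of A)).presheaf.map (homOfLE (le_top : V ≤ ⊤)).op).hom.toAlgebra
  have h2 := IsLocalization.isLocalization_of_base_ringEquiv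
    (Submonoid.powers ((Scheme.ΓSpecIso (CommRingCat.of A)).inv g))
    Γ(Spec (CommRingCat.of A), V) (Scheme.ΓSpecIso (CommRingCat.of A)).commRingCatIsoToRingEquiv
  have h3 : Submonoid.map ((Scheme.ΓSpecIso (CommRingCat.of A)).commRingCatIsoToRingEquiv)
      (Submonoid.powers ((Scheme.ΓSpecIso (CommRingCat.of A)).inv g)) = Submonoid.powers g := by
    rw [Submonoid.map_powers]
    congr 1
    exact Iso.inv_hom_id_apply (Scheme.ΓSpecIso (CommRingCat.of A)) g
  rw [h3] at h2
  exact h2

theorem main_15046 (p : ℕ) [Fact p.Prime]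
    (k : Type u) [Field k] [CharP k p] [PerfectRing k p] (A : Type u) [CommRing A] [Algebra k A]
    [CharP A p] [Algebra.Smooth k A] :
    (frobenius A p).FaithfullyFlat ∧
      Quiet.IsPthRoot p (Spec.map (CommRingCat.ofHom (frobenius A p))) := by
  refine ⟨frobenius_faithfullyFlat p k A, ?_⟩
  intro x
  obtain ⟨s, hs, h⟩ := Algebra.Smooth.exists_span_eq_top_isStandardSmooth k A
  obtain ⟨g, hgs, hgx⟩ : ∃ g ∈ s, g ∉ x.asIdeal := by
    by_contra hcon
    push Not at hcon
    have : Ideal.span s ≤ x.asIdeal := Ideal.span_le.mpr hcon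
    rw [hs] at this
    exact x.isPrime.ne_top (top_le_iff.mp this)
  haveI := h g hgs
  haveI : Nontrivial (Localization.Away g) :=
    @nontrivial_away _ _ g x.asIdeal x.isPrime hgx
  have hU : IsAffineOpen ((Spec (CommRingCat.of A)).basicOpen
      ((Scheme.ΓSpecIso (CommRingCat.of A)).inv g)) :=
    (isAffineOpen_top (Spec (CommRingCat.of A))).basicOpen _
  refine ⟨⟨(Spec (CommRingCat.of A)).basicOpen ((Scheme.ΓSpecIso (CommRingCat.of A)).inv g), hU⟩,
    ?_, ?_, ?_⟩
  · show x ∈ (Spec (CommRingCat.of A)).basicOpen ((Scheme.ΓSpecIso (CommRingCat.of A)).inv g)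
    rw [basicOpen_eq_of_affine]
    exact hgx
  · exact hU.preimage _
  · have hV : (Spec.map (CommRingCat.ofHom (frobenius A p))) ⁻¹ᵁ
        ((Spec (CommRingCat.of A)).basicOpen ((Scheme.ΓSpecIso (CommRingCat.of A)).inv g)) =
        (Spec (CommRingCat.of A)).basicOpen ((Scheme.ΓSpecIso (CommRingCat.of A)).inv (g ^ p)) := by
      rw [Scheme.preimage_basicOpen_top]
      congr 1
      exact appTop_inv A (frobenius A p) g
    have hL := isLocalization_iotaV A g _ rfl
    have hL' := isLocalization_iotaV A (g ^ p) _ hV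
    refine main_ring p k A g (iotaV A _) (iotaV A _) hL hL'
      ((Spec.map (CommRingCat.ofHom (frobenius A p))).app _).hom ?_
    intro a
    rw [iotaV_apply, iotaV_apply]
    have hnat := (Spec.map (CommRingCat.ofHom (frobenius A p))).naturality
      (homOfLE (le_top : (Spec (CommRingCat.of A)).basicOpen
        ((Scheme.ΓSpecIso (CommRingCat.of A)).inv g) ≤ ⊤)).op
    have h3 := congrArg (fun φ => φ.hom ((Scheme.ΓSpecIso (CommRingCat.of A)).inv a)) hnat
    simp only [CommRingCat.hom_comp, RingHom.comp_apply] at h3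
    rw [h3]
    have h4 := appTop_inv A (frobenius A p) a
    rw [frobenius_def] at h4
    erw [h4]
    rfl

end Groth.Agent.Lib.Helper26.FrobSmE
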