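import Mathlib

open Polynomial

namespace Groth.Agent.Lib.Helper26.FunEq

variable {k : Type*} [Field k]

noncomputable def homog (n : ℕ) (p : k[X]) (s t : MvPolynomial (Fin 2) k) : MvPolynomial (Fin 2) k :=
  ∑ i ∈ Finset.range (n + 1), MvPolynomial.C (p.coeff i) * s ^ i * t ^ (n - i)

lemma eval₂_div_mul_pow {L : Type*} [Field L] (ι : MvPolynomial (Fin 2) k →+* L)
    (n : ℕ) (p : k[X]) (hp : p.natDegree ≤ n) (s t : MvPolynomial (Fin 2) k) (ht : ι t ≠ 0) :
    p.eval₂ (ι.comp MvPolynomial.C) (ι s / ι t) * (ι t) ^ n = ι (homog n p s t) := by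
  rw [Polynomial.eval₂_eq_sum_range' _ (Nat.lt_succ_of_le hp), Finset.sum_mul, homog, map_sum]
  apply Finset.sum_congr rfl
  intro i hi
  have hi' : i ≤ n := Nat.lt_succ_iff.mp (Finset.mem_range.mp hi)
  rw [map_mul, map_mul, map_pow, map_pow, div_pow]
  have : (ι t) ^ n = (ι t) ^ i * (ι t) ^ (n - i) := by rw [← pow_add]; congr 1; omega
  rw [this]
  simp only [RingHom.comp_apply]
  field_simp

lemma hom_homog {K : Type*} [CommRing K] (φ : MvPolynomial (Fin 2) k →+* K)
    (n : ℕ) (p : k[X]) (hp : p.natDegree ≤ n) (s t : MvPolynomial (Fin 2) k) (r : K)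
    (hr : φ s = r * φ t) :
    φ (homog n p s t) = p.eval₂ (φ.comp MvPolynomial.C) r * (φ t) ^ n := by
  rw [Polynomial.eval₂_eq_sum_range' _ (Nat.lt_succ_of_le hp), Finset.sum_mul, homog, map_sum]
  apply Finset.sum_congr rfl
  intro i hi
  have hi' : i ≤ n := Nat.lt_succ_iff.mp (Finset.mem_range.mp hi)
  rw [map_mul, map_mul, map_pow, map_pow, hr, mul_pow]
  have : (φ t) ^ n = (φ t) ^ i * (φ t) ^ (n - i) := by rw [← pow_add]; congr 1; omega
  rw [this]
  simp only [RingHom.comp_apply]
  ring

/-- `p ↦ p(X i)` is injective. -/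
lemma aevalX_injective (i : Fin 2) :
    Function.Injective (fun p : k[X] => Polynomial.aeval (MvPolynomial.X i : MvPolynomial (Fin 2) k) p) := by
  intro p q h
  have h2 := congrArg (MvPolynomial.aeval (fun _ : Fin 2 => (Polynomial.X : k[X]))) h
  simp only [← Polynomial.aeval_algHom_apply, MvPolynomial.aeval_X, Polynomial.aeval_X_left_apply] at h2
  exact h2



section StepA

variable (F : RatFunc k)

/-- The polynomial identity behind the functional equation. -/
theorem poly_identity (h0 : F.denom.eval 0 ≠ 0) (h1 : F.num.eval 0 = F.denom.eval 0)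
    (hFE : RatFunc.eval (algebraMap k (FractionRing (MvPolynomial (Fin 2) k)))
        (algebraMap (MvPolynomial (Fin 2) k) (FractionRing (MvPolynomial (Fin 2) k)) (MvPolynomial.X 0) +
          algebraMap (MvPolynomial (Fin 2) k) (FractionRing (MvPolynomial (Fin 2) k)) (MvPolynomial.X 1) *
            RatFunc.eval (algebraMap k (FractionRing (MvPolynomial (Fin 2) k)))
              (algebraMap (MvPolynomial (Fin 2) k) (FractionRing (MvPolynomial (Fin 2) k)) (MvPolynomial.X 0)) F) F =
      RatFunc.eval (algebraMap k (FractionRing (MvPolynomial (Fin 2) k)))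
          (algebraMap (MvPolynomial (Fin 2) k) (FractionRing (MvPolynomial (Fin 2) k)) (MvPolynomial.X 0)) F *
        RatFunc.eval (algebraMap k (FractionRing (MvPolynomial (Fin 2) k)))
          (algebraMap (MvPolynomial (Fin 2) k) (FractionRing (MvPolynomial (Fin 2) k)) (MvPolynomial.X 1)) F)
    (n : ℕ) (hnP : F.num.natDegree ≤ n) (hnQ : F.denom.natDegree ≤ n) :
    homog n F.num
        (MvPolynomial.X 0 * Polynomial.aeval (MvPolynomial.X 0 : MvPolynomial (Fin 2) k) F.denom +
          MvPolynomial.X 1 * Polynomial.aeval (MvPolynomial.X 0 : MvPolynomial (Fin 2) k) F.num)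
        (Polynomial.aeval (MvPolynomial.X 0 : MvPolynomial (Fin 2) k) F.denom) *
      Polynomial.aeval (MvPolynomial.X 0 : MvPolynomial (Fin 2) k) F.denom *
      Polynomial.aeval (MvPolynomial.X 1 : MvPolynomial (Fin 2) k) F.denom =
    homog n F.denom
        (MvPolynomial.X 0 * Polynomial.aeval (MvPolynomial.X 0 : MvPolynomial (Fin 2) k) F.denom +
          MvPolynomial.X 1 * Polynomial.aeval (MvPolynomial.X 0 : MvPolynomial (Fin 2) k) F.num)
        (Polynomial.aeval (MvPolynomial.X 0 : MvPolynomial (Fin 2) k) F.denom) *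
      Polynomial.aeval (MvPolynomial.X 0 : MvPolynomial (Fin 2) k) F.num *
      Polynomial.aeval (MvPolynomial.X 1 : MvPolynomial (Fin 2) k) F.num := by
  simp only [RatFunc.eval] at hFE
  set A := MvPolynomial (Fin 2) k with hA
  set L := FractionRing A with hL
  set ι : A →+* L := algebraMap A L with hι
  have hιinj : Function.Injective ι := IsFractionRing.injective A L
  have hcomp : ι.comp MvPolynomial.C = algebraMap k L := by
    ext c
    change algebraMap A L (MvPolynomial.C c) = algebraMap k L c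
    rw [IsScalarTower.algebraMap_apply k A L c]
    rfl
  set P := F.num with hP
  set Q := F.denom with hQ
  have hQ0 : Q ≠ 0 := F.denom_ne_zero
  have hP0 : P ≠ 0 := by
    intro h
    rw [h, Polynomial.eval_zero] at h1
    exact h0 h1.symm
  -- evaluation of polynomials at images
  have hev : ∀ (p : k[X]) (z : A), p.eval₂ (algebraMap k L) (ι z) = ι (Polynomial.aeval z p) := by
    intro p z
    rw [← hcomp, Polynomial.aeval_def, Polynomial.hom_eval₂, MvPolynomial.algebraMap_eq]
  have hne : ∀ (p : k[X]) (i : Fin 2), p ≠ 0 → ι (Polynomial.aeval (MvPolynomial.X i : A) p) ≠ 0 := by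
    intro p i hp h
    rw [← map_zero ι] at h
    have h2 := hιinj h
    have h3 : Polynomial.aeval (MvPolynomial.X i : A) p = Polynomial.aeval (MvPolynomial.X i : A) (0 : k[X]) := by
      rw [h2, map_zero]
    exact hp (aevalX_injective i h3)
  set Px := Polynomial.aeval (MvPolynomial.X 0 : A) P with hPx
  set Qx := Polynomial.aeval (MvPolynomial.X 0 : A) Q with hQx
  set Py := Polynomial.aeval (MvPolynomial.X 1 : A) P with hPy
  set Qy := Polynomial.aeval (MvPolynomial.X 1 : A) Q with hQy
  have hPx0 : ι Px ≠ 0 := hne P 0 hP0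
  have hQx0 : ι Qx ≠ 0 := hne Q 0 hQ0
  have hPy0 : ι Py ≠ 0 := hne P 1 hP0
  have hQy0 : ι Qy ≠ 0 := hne Q 1 hQ0
  set s : A := MvPolynomial.X 0 * Qx + MvPolynomial.X 1 * Px with hs
  rw [hev, hev, hev, hev] at hFE
  have hw : ι (MvPolynomial.X 0) + ι (MvPolynomial.X 1) * (ι Px / ι Qx) = ι s / ι Qx := by
    rw [hs, map_add, map_mul, map_mul, eq_div_iff hQx0, add_mul, mul_assoc, div_mul_cancel₀ _ hQx0]
  rw [hw] at hFE
  have hP' := eval₂_div_mul_pow ι n P hnP s Qx hQx0
  have hQ' := eval₂_div_mul_pow ι n Q hnQ s Qx hQx0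
  rw [hcomp] at hP' hQ'
  set a := Polynomial.eval₂ (algebraMap k L) (ι s / ι Qx) P with ha
  set b := Polynomial.eval₂ (algebraMap k L) (ι s / ι Qx) Q with hb
  have hb0 : b ≠ 0 := by
    intro hb0
    rw [hb0, div_zero] at hFE
    have : ι Px / ι Qx * (ι Py / ι Qy) ≠ 0 :=
      mul_ne_zero (div_ne_zero hPx0 hQx0) (div_ne_zero hPy0 hQy0)
    exact this hFE.symm
  have hkey : a * ι Qx * ι Qy = b * ι Px * ι Py := by
    have h2 : a = (ι Px / ι Qx) * (ι Py / ι Qy) * b := (div_eq_iff hb0).mp hFE
    rw [h2]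
    calc ι Px / ι Qx * (ι Py / ι Qy) * b * ι Qx * ι Qy
        = b * (ι Px / ι Qx * ι Qx) * (ι Py / ι Qy * ι Qy) := by ring
      _ = b * ι Px * ι Py := by rw [div_mul_cancel₀ _ hQx0, div_mul_cancel₀ _ hQy0]
  apply hιinj
  rw [map_mul, map_mul, map_mul, map_mul, ← hP', ← hQ']
  linear_combination (ι Qx) ^ n * hkey

end StepA



section StepB

lemma const_of_root {K : Type*} [Field K] [IsAlgClosed K] (z : RatFunc K) (p : K[X]) (hp : p ≠ 0)
    (hz : p.eval₂ (algebraMap K (RatFunc K)) z = 0) :
    ∃ c : K, z = algebraMap K (RatFunc K) c := by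
  have halg : IsAlgebraic K z := ⟨p, hp, by rwa [Polynomial.aeval_def]⟩
  have hint : IsIntegral K z := halg.isIntegral
  have hirr := minpoly.irreducible hint
  have hdeg := IsAlgClosed.degree_eq_one_of_irreducible K hirr
  obtain ⟨c, hc⟩ := minpoly.mem_range_of_degree_eq_one K z hdeg
  exact ⟨c, hc.symm⟩

variable (F : RatFunc k)

theorem main (h0 : F.denom.eval 0 ≠ 0) (h1 : F.num.eval 0 = F.denom.eval 0)
    (hFE : RatFunc.eval (algebraMap k (FractionRing (MvPolynomial (Fin 2) k)))
        (algebraMap (MvPolynomial (Fin 2) k) (FractionRing (MvPolynomial (Fin 2) k)) (MvPolynomial.X 0) +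
          algebraMap (MvPolynomial (Fin 2) k) (FractionRing (MvPolynomial (Fin 2) k)) (MvPolynomial.X 1) *
            RatFunc.eval (algebraMap k (FractionRing (MvPolynomial (Fin 2) k)))
              (algebraMap (MvPolynomial (Fin 2) k) (FractionRing (MvPolynomial (Fin 2) k)) (MvPolynomial.X 0)) F) F =
      RatFunc.eval (algebraMap k (FractionRing (MvPolynomial (Fin 2) k)))
          (algebraMap (MvPolynomial (Fin 2) k) (FractionRing (MvPolynomial (Fin 2) k)) (MvPolynomial.X 0)) F *
        RatFunc.eval (algebraMap k (FractionRing (MvPolynomial (Fin 2) k)))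
          (algebraMap (MvPolynomial (Fin 2) k) (FractionRing (MvPolynomial (Fin 2) k)) (MvPolynomial.X 1)) F) :
    ∃ a : k, F = 1 + RatFunc.C a * RatFunc.X := by
  have hid := poly_identity F h0 h1 hFE (max F.num.natDegree F.denom.natDegree)
    (le_max_left _ _) (le_max_right _ _)
  set n := max F.num.natDegree F.denom.natDegree with hn
  have hnP : F.num.natDegree ≤ n := le_max_left _ _
  have hnQ : F.denom.natDegree ≤ n := le_max_right _ _
  set P := F.num with hP
  set Q := F.denom with hQ
  have hcop : IsCoprime P Q := F.isCoprime_num_denom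
  have hQmonic : Q.Monic := F.monic_denom
  have hQ0 : Q ≠ 0 := F.denom_ne_zero
  have hP0 : P ≠ 0 := by
    intro h
    rw [h, Polynomial.eval_zero] at h1
    exact h0 h1.symm
  have hF : F = algebraMap k[X] (RatFunc k) P / algebraMap k[X] (RatFunc k) Q :=
    (RatFunc.num_div_denom F).symm
  -- final step, given degree information
  have hfinal : Q.natDegree = 0 → P.natDegree ≤ 1 → ∃ a : k, F = 1 + RatFunc.C a * RatFunc.X := by
    intro hQd hPd
    have hQ1 : Q = 1 := by
      rw [Polynomial.eq_C_of_natDegree_eq_zero hQd]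
      have : Q.coeff 0 = 1 := by
        have := hQmonic.coeff_natDegree
        rwa [hQd] at this
      rw [this, map_one]
    have hPe := Polynomial.eq_X_add_C_of_natDegree_le_one hPd
    have hp0 : P.coeff 0 = 1 := by
      rw [Polynomial.coeff_zero_eq_eval_zero, h1, hQ1, Polynomial.eval_one]
    have hPe' : algebraMap k[X] (RatFunc k) P = RatFunc.C (P.coeff 1) * RatFunc.X + 1 := by
      conv_lhs => rw [hPe, hp0]
      rw [map_add, map_mul, RatFunc.algebraMap_C, RatFunc.algebraMap_C, RatFunc.algebraMap_X,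
        map_one]
    refine ⟨P.coeff 1, ?_⟩
    rw [hF, hQ1, map_one, div_one, hPe', add_comm]
  by_cases hdeg : (P * Q).natDegree = 0
  · rw [Polynomial.natDegree_mul hP0 hQ0] at hdeg
    exact hfinal (by omega) (by omega)
  · set K := AlgebraicClosure k with hK
    set i : k →+* K := algebraMap k K with hi
    have hiinj : Function.Injective i := (algebraMap k K).injective
    have hdeg' : ((P * Q).map i).degree ≠ 0 := by
      rw [Polynomial.degree_map]
      intro h
      exact hdeg (Polynomial.natDegree_eq_of_degree_eq_some h)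
    obtain ⟨ρ, hρ⟩ := IsAlgClosed.exists_root ((P * Q).map i) hdeg'
    rw [Polynomial.IsRoot.def, Polynomial.map_mul, Polynomial.eval_mul, mul_eq_zero] at hρ
    set alg : K →+* RatFunc K := algebraMap K (RatFunc K) with halg
    set j : k →+* RatFunc K := alg.comp i with hj
    set P' := P.map i with hP'
    set Q' := Q.map i with hQ'
    have hP'0 : P' ≠ 0 := (Polynomial.map_ne_zero_iff hiinj).mpr hP0
    have hQ'0 : Q' ≠ 0 := (Polynomial.map_ne_zero_iff hiinj).mpr hQ0
    set Pt : RatFunc K := algebraMap K[X] (RatFunc K) P' with hPt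
    set Qt : RatFunc K := algebraMap K[X] (RatFunc K) Q' with hQt
    have hainj : Function.Injective (algebraMap K[X] (RatFunc K)) := RatFunc.algebraMap_injective K
    have hPt0 : Pt ≠ 0 := fun h => hP'0 (hainj (by rw [map_zero]; exact h))
    have hQt0 : Qt ≠ 0 := fun h => hQ'0 (hainj (by rw [map_zero]; exact h))
    set y₀ : RatFunc K := (RatFunc.C ρ - RatFunc.X) * Qt / Pt with hy₀
    have hy₀' : y₀ * Pt = (RatFunc.C ρ - RatFunc.X) * Qt := div_mul_cancel₀ _ hPt0
    set φ : MvPolynomial (Fin 2) k →+* RatFunc K := MvPolynomial.eval₂Hom j ![RatFunc.X, y₀] with hφ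
    have hφC : φ.comp MvPolynomial.C = j := by
      ext c
      simp [hφ]
    have hφ0 : φ (MvPolynomial.X 0) = RatFunc.X := by simp [hφ]
    have hφ1 : φ (MvPolynomial.X 1) = y₀ := by simp [hφ]
    have hev : ∀ (p : k[X]) (z : MvPolynomial (Fin 2) k),
        φ (Polynomial.aeval z p) = (p.map i).eval₂ alg (φ z) := by
      intro p z
      rw [Polynomial.aeval_def, Polynomial.hom_eval₂, MvPolynomial.algebraMap_eq, hφC,
        Polynomial.eval₂_map]
    have hφx : ∀ p : k[X], φ (Polynomial.aeval (MvPolynomial.X 0 : MvPolynomial (Fin 2) k) p)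
        = algebraMap K[X] (RatFunc K) (p.map i) := by
      intro p
      rw [hev, hφ0, halg, ← Polynomial.aeval_def, RatFunc.aeval_X_left_eq_algebraMap]
    have hφy : ∀ p : k[X], φ (Polynomial.aeval (MvPolynomial.X 1 : MvPolynomial (Fin 2) k) p)
        = (p.map i).eval₂ alg y₀ := by
      intro p
      rw [hev, hφ1]
    set Qx := Polynomial.aeval (MvPolynomial.X 0 : MvPolynomial (Fin 2) k) Q with hQx
    set Px := Polynomial.aeval (MvPolynomial.X 0 : MvPolynomial (Fin 2) k) P with hPx
    set s : MvPolynomial (Fin 2) k := MvPolynomial.X 0 * Qx + MvPolynomial.X 1 * Px with hs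
    have hr : φ s = alg ρ * φ Qx := by
      rw [hs, map_add, map_mul, map_mul, hφ0, hφ1, hφx, hφx, ← hPt, ← hQt, hy₀', halg,
        RatFunc.algebraMap_eq_C]
      ring
    have hhP := hom_homog φ n P hnP s Qx (alg ρ) hr
    have hhQ := hom_homog φ n Q hnQ s Qx (alg ρ) hr
    rw [hφC, hj, ← Polynomial.eval₂_map, Polynomial.eval₂_at_apply, hφx, ← hQt] at hhP hhQ
    have hid' := congrArg φ hid
    rw [map_mul, map_mul, map_mul, map_mul, hhP, hhQ, hφx, hφx, hφy, hφy, ← hPt, ← hQt] at hid'
    -- coprimality at ρ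
    obtain ⟨u, v, huv⟩ := hcop
    have huv' : (u.map i).eval ρ * P'.eval ρ + (v.map i).eval ρ * Q'.eval ρ = 1 := by
      have := congrArg (fun p => (p.map i).eval ρ) huv
      simpa using this
    have hconst : ∃ c : K, y₀ = alg c := by
      rcases hρ with h | h
      · have hq : Q'.eval ρ ≠ 0 := by
          intro hq
          rw [h, hq] at huv'
          simp at huv'
        rw [h, map_zero, zero_mul, zero_mul, zero_mul] at hid'
        have h3 : Polynomial.eval₂ alg y₀ P' = 0 := by
          have hne : alg (Polynomial.eval ρ Q') * Qt ^ n * Pt ≠ 0 :=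
            mul_ne_zero (mul_ne_zero ((map_ne_zero alg).mpr hq) (pow_ne_zero _ hQt0)) hPt0
          exact (mul_eq_zero.mp hid'.symm).resolve_left hne
        exact const_of_root y₀ P' hP'0 h3
      · have hp : P'.eval ρ ≠ 0 := by
          intro hp
          rw [h, hp] at huv'
          simp at huv'
        rw [h, map_zero, zero_mul, zero_mul, zero_mul] at hid'
        have h3 : Polynomial.eval₂ alg y₀ Q' = 0 := by
          have hne : alg (Polynomial.eval ρ P') * Qt ^ n * Qt ≠ 0 :=
            mul_ne_zero (mul_ne_zero ((map_ne_zero alg).mpr hp) (pow_ne_zero _ hQt0)) hQt0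
          exact (mul_eq_zero.mp hid').resolve_left hne
        exact const_of_root y₀ Q' hQ'0 h3
    obtain ⟨c, hc⟩ := hconst
    -- polynomial identity in K[X]
    have hpoly : (Polynomial.C ρ - Polynomial.X) * Q' = Polynomial.C c * P' := by
      apply hainj
      rw [map_mul, map_mul, map_sub, RatFunc.algebraMap_C, RatFunc.algebraMap_C,
        RatFunc.algebraMap_X, ← hPt, ← hQt, ← hy₀', hc, halg, RatFunc.algebraMap_eq_C]
    have hlin0 : (Polynomial.C ρ - Polynomial.X : K[X]) ≠ 0 := by
      intro h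
      have := Polynomial.X_sub_C_ne_zero ρ
      apply this
      rw [← neg_sub, h, neg_zero]
    have hc0 : c ≠ 0 := by
      intro h
      rw [h, map_zero, zero_mul] at hpoly
      rcases mul_eq_zero.mp hpoly with h | h
      · exact hlin0 h
      · exact hQ'0 h
    have hCu : IsUnit (Polynomial.C c : K[X]) := Polynomial.isUnit_C.mpr (isUnit_iff_ne_zero.mpr hc0)
    have hQP : Q' ∣ P' := by
      have : Q' ∣ Polynomial.C c * P' := Dvd.intro_left _ hpoly
      exact (IsUnit.dvd_mul_left hCu).mp this
    have hcop' : IsCoprime P' Q' := by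
      refine ⟨u.map i, v.map i, ?_⟩
      have := congrArg (Polynomial.map i) huv
      simpa using this
    have hQu : IsUnit Q' := hcop'.isUnit_of_dvd' hQP dvd_rfl
    have hQd : Q.natDegree = 0 := by
      have := Polynomial.natDegree_eq_zero_of_isUnit hQu
      rwa [hQ', Polynomial.natDegree_map] at this
    have hPd : P.natDegree ≤ 1 := by
      have h1 : Q' = Polynomial.C (Q'.coeff 0) := Polynomial.eq_C_of_natDegree_eq_zero
        (Polynomial.natDegree_eq_zero_of_isUnit hQu)
      have h2 : P'.natDegree ≤ 1 := by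
        have h3 : P' = Polynomial.C c⁻¹ * ((Polynomial.C ρ - Polynomial.X) * Q') := by
          rw [hpoly, ← mul_assoc, ← Polynomial.C_mul, inv_mul_cancel₀ hc0, map_one, one_mul]
        rw [h3, h1]
        refine (Polynomial.natDegree_C_mul_le _ _).trans ?_
        refine (Polynomial.natDegree_mul_C_le _ _).trans ?_
        refine (Polynomial.natDegree_sub_le _ _).trans ?_
        simp
      rwa [hP', Polynomial.natDegree_map] at h2
    exact hfinal hQd hPd

end StepB

end Groth.Agent.Lib.Helper26.FunEq
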