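import Mathlib
import Groth.Agent.Lib.Helper26.FunFldLocal
import Groth.Agent.S18175

/-!
# Weights of a linear series at two points of a rational curve in the presence of a cusp
-/

set_option autoImplicit false
open scoped WithZero IntermediateField
open FunFld
open Groth.Agent.Lib.Helper2.FF

namespace Groth.Agent.Lib.Helper26.FunFldCusp

open Groth.Agent.Lib.Helper26.FunFldAlgClosed Groth.Agent.Lib.Helper26.FunFldSeries
open Groth.Agent.Lib.Helper26.FunFldLocal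

variable {k K : Type*} [Field k] [Field K] [Algebra k K]

/-- If the weights at two distinct places are large, there are two members of `V` whose divisors
(relative to `D`) are `n₁ P + (d - n₁) Q` and `n₂ P + (d - n₂) Q` with `n₁ < n₂ ≤ d`. -/
theorem exists_two_sections [IsAlgClosed k] (hK : IsFunctionField k K)
    (d r : ℕ) (D : Divisor k K) (hD : D.deg = d)
    (V : Submodule k K) (hV : V ≤ L D) (hVr : Module.finrank k ↥V = r + 1)
    (P Q : FunFld.Place k K) (hPQ : P ≠ Q)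
    (hw : (r + 1) * d + 1 ≤ wsum d D V P + wsum d D V Q + r) :
    ∃ n₁ n₂ : ℕ, n₁ < n₂ ∧ n₂ ≤ d ∧ ∃ s₁ s₂ : K, s₁ ≠ 0 ∧ s₂ ≠ 0 ∧ s₁ ∈ V ∧ s₂ ∈ V ∧
      FunFld.div k s₁ + D = Finsupp.single P (n₁ : ℤ) + Finsupp.single Q ((d : ℤ) - n₁) ∧
      FunFld.div k s₂ + D = Finsupp.single P (n₂ : ℤ) + Finsupp.single Q ((d : ℤ) - n₂) := by
  classical
  have hVfin : Module.Finite k V := Module.finite_of_finrank_pos (by omega)
  set p : ℕ → ℕ := fun n => Module.finrank k ↥(V ⊓ FunFld.L (D - Finsupp.single P (n : ℤ))) with hp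
  set q : ℕ → ℕ := fun n => Module.finrank k ↥(V ⊓ FunFld.L (D - Finsupp.single Q (n : ℤ))) with hq
  have hp0 : p 0 = r + 1 := by
    have : (D - Finsupp.single P ((0 : ℕ) : ℤ)) = D := by simp
    show Module.finrank k ↥(V ⊓ FunFld.L (D - Finsupp.single P ((0 : ℕ) : ℤ))) = r + 1
    rw [this, inf_eq_left.2 hV, hVr]
  have hq0 : q 0 = r + 1 := by
    have : (D - Finsupp.single Q ((0 : ℕ) : ℤ)) = D := by simp
    show Module.finrank k ↥(V ⊓ FunFld.L (D - Finsupp.single Q ((0 : ℕ) : ℤ))) = r + 1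
    rw [this, inf_eq_left.2 hV, hVr]
  have hpS : ∀ n : ℕ, p (n + 1) =
      Module.finrank k ↥(V ⊓ FunFld.L (D - Finsupp.single P ((n : ℤ) + 1))) := fun n => by
    show Module.finrank k ↥(V ⊓ FunFld.L (D - Finsupp.single P ((n + 1 : ℕ) : ℤ))) = _
    rw [Nat.cast_succ]
  have hqS : ∀ n : ℕ, q (n + 1) =
      Module.finrank k ↥(V ⊓ FunFld.L (D - Finsupp.single Q ((n : ℤ) + 1))) := fun n => by
    show Module.finrank k ↥(V ⊓ FunFld.L (D - Finsupp.single Q ((n + 1 : ℕ) : ℤ))) = _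
    rw [Nat.cast_succ]
  have hw' : (r + 1) * d + 1 ≤ (∑ n ∈ Finset.range d, p (n + 1)) + (∑ n ∈ Finset.range d, q (n + 1)) + r := by
    simp only [hpS, hqS]
    exact hw
  have key := fun n (hn : n < d + 1) =>
    finrank_add_finrank_le_succ hK D V P Q hPQ (n : ℤ) ((d - n : ℕ) : ℤ) (by
      rw [hD]
      have : ((d - n : ℕ) : ℤ) = (d : ℤ) - n := by omega
      rw [this]; linarith)
  set c : ℕ → ℕ := fun n => p n + q (d - n) with hc
  have hcle : ∀ n < d + 1, c n ≤ (r + 1) + 1 := by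
    intro n hn
    have := (key n hn).1
    rw [hVr] at this
    exact this
  have hsum : (r + 1) * (d + 1) + 2 ≤ ∑ n ∈ Finset.range (d + 1), c n := by
    have h1 : ∑ n ∈ Finset.range (d + 1), c n =
        (∑ n ∈ Finset.range (d + 1), p n) + ∑ n ∈ Finset.range (d + 1), q n := by
      simp only [hc]
      rw [Finset.sum_add_distrib]
      congr 1
      have := Finset.sum_range_reflect (fun n => q n) (d + 1)
      simp only [Nat.add_sub_cancel] at this
      exact this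
    rw [h1, Finset.sum_range_succ' p d, Finset.sum_range_succ' q d, hp0, hq0]
    nlinarith [hw']
  obtain ⟨n₁, n₂, h12, h2d, hc1, hc2⟩ := exists_two_large (d + 1) (r + 1) c hcle hsum
  have h1d : n₁ < d + 1 := h12.trans h2d
  obtain ⟨s₁, hs₁0, hs₁V, hs₁⟩ := (key n₁ h1d).2 (by rw [hVr]; exact hc1)
  obtain ⟨s₂, hs₂0, hs₂V, hs₂⟩ := (key n₂ h2d).2 (by rw [hVr]; exact hc2)
  have hdeg : ∀ n < d + 1, (D - Finsupp.single P (n : ℤ) - Finsupp.single Q ((d - n : ℕ) : ℤ)).deg = 0 := by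
    intro n hn
    rw [deg_sub, deg_sub, deg_single, deg_single, deg_eq_one hK P, deg_eq_one hK Q, hD]
    have : ((d - n : ℕ) : ℤ) = (d : ℤ) - n := by omega
    rw [this]; push_cast; ring
  have hd1 := div_eq_neg_of_mem_L hK (hdeg n₁ h1d) hs₁0 hs₁
  have hd2 := div_eq_neg_of_mem_L hK (hdeg n₂ h2d) hs₂0 hs₂
  have e1 : ((d - n₁ : ℕ) : ℤ) = (d : ℤ) - n₁ := by omega
  have e2 : ((d - n₂ : ℕ) : ℤ) = (d : ℤ) - n₂ := by omega
  refine ⟨n₁, n₂, h12, by omega, s₁, s₂, hs₁0, hs₂0, hs₁V, hs₂V, ?_, ?_⟩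
  · rw [hd1, e1]; abel
  · rw [hd2, e2]; abel

/-- Three-point bound on a rational curve when the third point is a cusp:
`w(V,P) + w(V,P') + r ≤ (r+1)(d-r)`, in the form of sums. -/
theorem wsum_add_wsum_add_le_of_cusp [IsAlgClosed k] [CharZero k] (hK : IsFunctionField k K)
    (hg0 : genus k K = 0) (d r : ℕ) (D : Divisor k K) (hD : D.deg = d)
    (V : Submodule k K) (hV : V ≤ L D) (hVr : Module.finrank k ↥V = r + 1)
    (Q : FunFld.Place k K)
    (hcusp : r ≤ Module.finrank k ↥(V ⊓ L (D - Finsupp.single Q ((2 : ℤ)))))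
    (P P' : FunFld.Place k K) (hPP' : P ≠ P') (hP : P ≠ Q) (hP' : P' ≠ Q) :
    wsum d D V P + wsum d D V P' + r ≤ (r + 1) * d := by
  classical
  by_contra hlt
  push_neg at hlt
  obtain ⟨n₁, n₂, h12, h2d, s₁, s₂, hs₁0, hs₂0, hs₁V, hs₂V, hd1, hd2⟩ :=
    exists_two_sections hK d r D hD V hV hVr P P' hPP' (by omega)
  have hsupp : ∀ (s : K) (n : ℕ), FunFld.div k s + D =
      Finsupp.single P (n : ℤ) + Finsupp.single P' ((d : ℤ) - n) →
      ∀ R : FunFld.Place k K, R ≠ P → R ≠ P' → (FunFld.div k s + D) R = 0 := by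
    intro s n hs R h1 h2
    rw [hs]
    simp [Finsupp.single_apply, Ne.symm h1, Ne.symm h2]
  obtain ⟨c, hc⟩ := Groth.Agent.S18175.result k K hK hg0 d r D hD V hV hVr Q hcusp P P' hP hP'
    s₁ s₂ hs₁V hs₂V hs₁0 hs₂0 (hsupp s₁ n₁ hd1) (hsupp s₂ n₂ hd2)
  have hc0 : c ≠ 0 := by
    rintro rfl
    rw [zero_smul] at hc
    exact hs₂0 hc
  have hdiv : FunFld.div k s₂ = FunFld.div k s₁ := by
    ext R
    rw [div_apply hK, div_apply hK, hc, ord_def, ord_def, v_smul R c s₁ hc0]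
  have h3 : (Finsupp.single P (n₁ : ℤ) + Finsupp.single P' ((d : ℤ) - n₁) : Divisor k K) =
      Finsupp.single P (n₂ : ℤ) + Finsupp.single P' ((d : ℤ) - n₂) := by
    rw [← hd1, ← hd2, hdiv]
  have h4 := DFunLike.congr_fun h3 P
  simp [Finsupp.single_apply, hPP'.symm] at h4
  omega

end Groth.Agent.Lib.Helper26.FunFldCusp
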