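import Mathlib
import Groth.Agent.Lib.Helper26.FunFldSeries

/-!
# One-point bounds for the weight sums of a linear series
-/

set_option autoImplicit false
open scoped WithZero IntermediateField
open FunFld
open Groth.Agent.Lib.Helper2.FF

namespace Groth.Agent.Lib.Helper26.FunFldWeights

open Groth.Agent.Lib.Helper26.FunFldAlgClosed Groth.Agent.Lib.Helper26.FunFldSeries

/-- iterated unit-step bound -/
theorem le_add_of_step (p : ℕ → ℕ) (hstep : ∀ j, p j ≤ p (j + 1) + 1) (j m : ℕ) :
    p j ≤ p (j + m) + m := by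
  induction m with
  | zero => simp
  | succ m ih =>
    have := hstep (j + m)
    show p j ≤ p (j + m + 1) + (m + 1)
    omega

/-- A sequence decreasing by at most one at each step, starting at height `t`, has sum at least
the triangular number `t(t+1)/2` over any range of length at least `t`. -/
theorem sum_ge_triangle (p : ℕ → ℕ) (hstep : ∀ j, p j ≤ p (j + 1) + 1) (j0 t N : ℕ)
    (h0 : t ≤ p j0) (hN : t ≤ N) : t * (t + 1) / 2 ≤ ∑ j ∈ Finset.range N, p (j0 + j) := by
  have h1 : ∑ j ∈ Finset.range t, p (j0 + j) ≤ ∑ j ∈ Finset.range N, p (j0 + j) :=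
    Finset.sum_le_sum_of_subset (Finset.range_mono hN)
  have h2 : ∑ j ∈ Finset.range t, (t - j) ≤ ∑ j ∈ Finset.range t, p (j0 + j) := by
    apply Finset.sum_le_sum
    intro j _
    have := le_add_of_step p hstep j0 j
    omega
  have h3 : ∑ j ∈ Finset.range t, (t - j) = t * (t + 1) / 2 := by
    have h4 : ∑ j ∈ Finset.range t, (t - j) = ∑ j ∈ Finset.range (t + 1), j := by
      rw [Finset.sum_range_succ', add_zero]
      rw [← Finset.sum_range_reflect]
      apply Finset.sum_congr rfl
      intro j hj
      rw [Finset.mem_range] at hj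
      omega
    have h5 := Finset.sum_range_id_mul_two (t + 1)
    rw [Nat.add_sub_cancel] at h5
    have h6 : t * (t + 1) = 2 * ∑ j ∈ Finset.range (t + 1), j := by
      rw [mul_comm t, ← h5, mul_comm]
    rw [h4]
    omega
  omega

variable {k K : Type*} [Field k] [Field K] [Algebra k K]

section onepoint

variable [IsAlgClosed k] (hK : IsFunctionField k K) (d r : ℕ) (D : Divisor k K) (hD : D.deg = d)
  (V : Submodule k K) (hV : V ≤ L D) (hVr : Module.finrank k ↥V = r + 1) (P : FunFld.Place k K)

/-- the dimension function `n ↦ dim V(-nP)` -/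
noncomputable def pdim (D : Divisor k K) (V : Submodule k K) (P : FunFld.Place k K) (n : ℕ) : ℕ :=
  Module.finrank k ↥(V ⊓ L (D - Finsupp.single P (n : ℤ)))

theorem wsum_eq_sum_pdim : wsum d D V P = ∑ j ∈ Finset.range d, pdim D V P (1 + j) := by
  rw [wsum_def]
  apply Finset.sum_congr rfl
  intro j _
  unfold pdim
  have : ((1 + j : ℕ) : ℤ) = (j : ℤ) + 1 := by push_cast; ring
  rw [this]

include hV hVr in
theorem pdim_zero : pdim D V P 0 = r + 1 := by
  unfold pdim
  have : (D - Finsupp.single P ((0 : ℕ) : ℤ)) = D := by simp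
  rw [this, inf_eq_left.2 hV, hVr]

include hK hVr in
theorem pdim_step (j : ℕ) : pdim D V P j ≤ pdim D V P (j + 1) + 1 := by
  have hVfin : Module.Finite k V := Module.finite_of_finrank_pos (by omega)
  unfold pdim
  have := finrank_inf_L_le hK V (D - Finsupp.single P (j : ℤ)) P
  have e : D - Finsupp.single P (j : ℤ) - (Finsupp.single P 1 : Divisor k K) =
      D - Finsupp.single P ((j + 1 : ℕ) : ℤ) := by
    rw [Nat.cast_succ, Finsupp.single_add]; abel
  rw [e] at this
  exact this

include hVr in
theorem pdim_anti (j : ℕ) : pdim D V P (j + 1) ≤ pdim D V P j := by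
  have hVfin : Module.Finite k V := Module.finite_of_finrank_pos (by omega)
  unfold pdim
  haveI : Module.Finite k ↥(V ⊓ L (D - Finsupp.single P (j : ℤ))) := finite_inf V _
  apply Submodule.finrank_mono
  refine inf_le_inf le_rfl (L_mono ?_)
  intro R
  classical
  simp only [Finsupp.coe_sub, Pi.sub_apply, Finsupp.single_apply]
  split_ifs <;> push_cast <;> linarith

include hK hD in
theorem pdim_eq_zero (j : ℕ) (hj : d < j) : pdim D V P j = 0 := by
  unfold pdim
  have hdeg : (D - Finsupp.single P (j : ℤ)).deg < 0 := by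
    rw [deg_sub, deg_single, deg_eq_one hK P, hD]
    have : (d : ℤ) < j := by exact_mod_cast hj
    push_cast
    linarith
  rw [inf_L_eq_bot_of_deg_neg hK V hdeg, finrank_bot]

include hK hD hV hVr P in
theorem r_le_d : r ≤ d := by
  have h1 := le_add_of_step (pdim D V P) (pdim_step hK r D V hVr P) 0 (d + 1)
  rw [pdim_zero r D V hV hVr P, zero_add, pdim_eq_zero hK d D hD V P (d + 1) (by omega)] at h1
  omega

include hK hD hV hVr in
/-- `w(V,P) ≥ 0`. -/
theorem wsum_ge : r * (r + 1) / 2 ≤ wsum d D V P := by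
  rw [wsum_eq_sum_pdim]
  apply sum_ge_triangle (pdim D V P) (pdim_step hK r D V hVr P) 1 r d
  · have := pdim_step hK r D V hVr P 0
    rw [pdim_zero r D V hV hVr P, zero_add] at this
    omega
  · exact r_le_d hK d r D hD V hV hVr P

include hK hD hV hVr in
/-- `w(V,P) ≤ (r+1)(d-r)`. -/
theorem wsum_le : wsum d D V P + r * (r + 1) / 2 ≤ (r + 1) * d := by
  set q : ℕ → ℕ := fun m => (r + 1) - pdim D V P (d + 1 - m) with hq
  have hple : ∀ j, pdim D V P j ≤ r + 1 := by
    intro j
    induction j with
    | zero => rw [pdim_zero r D V hV hVr P]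
    | succ j ih => exact (pdim_anti r D V hVr P j).trans ih
  have hqstep : ∀ m, q m ≤ q (m + 1) + 1 := by
    intro m
    simp only [hq]
    by_cases hm : m ≤ d
    · have e : d + 1 - m = (d + 1 - (m + 1)) + 1 := by omega
      have := pdim_step hK r D V hVr P (d + 1 - (m + 1))
      rw [← e] at this
      have := hple (d + 1 - m)
      omega
    · have e1 : d + 1 - m = 0 := by omega
      rw [e1, pdim_zero r D V hV hVr P]
      omega
  have hq1 : r ≤ q 1 := by
    simp only [hq]
    have : d + 1 - 1 = d := by omega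
    rw [this]
    have h1 := pdim_step hK r D V hVr P d
    rw [pdim_eq_zero hK d D hD V P (d + 1) (by omega)] at h1
    omega
  have h1 := sum_ge_triangle q hqstep 1 r d hq1 (r_le_d hK d r D hD V hV hVr P)
  have h2 : ∑ j ∈ Finset.range d, q (1 + j) + wsum d D V P = (r + 1) * d := by
    rw [wsum_eq_sum_pdim, ← Finset.sum_range_reflect (fun j => pdim D V P (1 + j)) d,
      ← Finset.sum_add_distrib]
    calc _ = ∑ _j ∈ Finset.range d, (r + 1) := by
          apply Finset.sum_congr rfl
          intro j hj
          rw [Finset.mem_range] at hj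
          simp only [hq]
          have e : d + 1 - (1 + j) = 1 + (d - 1 - j) := by omega
          rw [e]
          have := hple (1 + (d - 1 - j))
          omega
      _ = (r + 1) * d := by rw [Finset.sum_const, Finset.card_range, smul_eq_mul, mul_comm]
  omega

include hK hD hV hVr in
/-- A cusp forces `d ≥ r + 1` unless `r = 0`. -/
theorem succ_le_of_cusp (hcusp : r ≤ Module.finrank k ↥(V ⊓ L (D - Finsupp.single P ((2 : ℤ)))))
    (hr : 1 ≤ r) : r + 1 ≤ d := by
  have h2 : r ≤ pdim D V P 2 := by
    unfold pdim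
    have : ((2 : ℕ) : ℤ) = 2 := by norm_num
    rw [this]; exact hcusp
  rcases Nat.lt_or_ge d 2 with hd | hd
  · rw [pdim_eq_zero hK d D hD V P 2 hd] at h2
    omega
  · have h1 := le_add_of_step (pdim D V P) (pdim_step hK r D V hVr P) 2 (d - 1)
    have e : 2 + (d - 1) = d + 1 := by omega
    rw [e, pdim_eq_zero hK d D hD V P (d + 1) (by omega)] at h1
    omega

include hK hD hV hVr in
/-- A cusp has weight at least `r`. -/
theorem wsum_ge_of_cusp (hcusp : r ≤ Module.finrank k ↥(V ⊓ L (D - Finsupp.single P ((2 : ℤ))))) :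
    r * (r + 1) / 2 + r ≤ wsum d D V P := by
  rcases Nat.eq_zero_or_pos r with hr0 | hr
  · subst hr0; simp
  have hd := succ_le_of_cusp hK d r D hD V hV hVr P hcusp hr
  have h2 : r ≤ pdim D V P 2 := by
    unfold pdim
    have : ((2 : ℕ) : ℤ) = 2 := by norm_num
    rw [this]; exact hcusp
  have h1 : r ≤ pdim D V P 1 := h2.trans (pdim_anti r D V hVr P 1)
  rw [wsum_eq_sum_pdim]
  obtain ⟨d', rfl⟩ : ∃ d', d = d' + 1 := ⟨d - 1, by omega⟩
  rw [Finset.sum_range_succ']
  have h3 := sum_ge_triangle (pdim D V P) (pdim_step hK r D V hVr P) 2 r d' h2 (by omega)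
  have h4 : ∑ j ∈ Finset.range d', pdim D V P (1 + (j + 1)) =
      ∑ j ∈ Finset.range d', pdim D V P (2 + j) := by
    apply Finset.sum_congr rfl
    intro j _
    congr 1; omega
  rw [h4]
  simp only [add_zero]
  omega

end onepoint

end Groth.Agent.Lib.Helper26.FunFldWeights
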