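import Mathlib
import Groth.Agent.Lib.Helper26.FunFldCusp
import Groth.Agent.Lib.Helper26.FunFldWeights

/-!
# Backbones of rational curves carrying cusps: propagation of weights along the chain
-/

set_option autoImplicit false
open scoped WithZero IntermediateField
open FunFld
open Groth.Agent.Lib.Helper2.FF

namespace Groth.Agent.Lib.Helper26.FunFldBackbone

open Groth.Agent.Lib.Helper26.FunFldAlgClosed Groth.Agent.Lib.Helper26.FunFldSeries
open Groth.Agent.Lib.Helper26.FunFldLocal Groth.Agent.Lib.Helper26.FunFldCusp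
open Groth.Agent.Lib.Helper26.FunFldWeights

theorem even_half (r : ℕ) : r * (r + 1) = 2 * (r * (r + 1) / 2) := by
  obtain ⟨t, ht⟩ := Nat.even_mul_succ_self r
  rw [ht]; omega

section cards

variable {N : ℕ} (T : Finset (Fin (N + 1)))

/-- number of marked indices below `i` -/
def below (i : ℕ) : ℕ := (T.filter (fun j : Fin (N + 1) => (j : ℕ) < i)).card

/-- number of marked indices above `i` -/
def above (i : ℕ) : ℕ := (T.filter (fun j : Fin (N + 1) => i < (j : ℕ))).card

theorem below_zero : below T 0 = 0 := by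
  unfold below
  rw [Finset.card_eq_zero, Finset.filter_eq_empty_iff]
  intro j _
  omega

theorem below_succ (i : Fin (N + 1)) :
    below T ((i : ℕ) + 1) = below T i + (if i ∈ T then 1 else 0) := by
  classical
  unfold below
  have h : T.filter (fun j : Fin (N + 1) => (j : ℕ) < (i : ℕ) + 1) =
      T.filter (fun j : Fin (N + 1) => (j : ℕ) < i) ∪ T.filter (fun j => j = i) := by
    ext j
    simp only [Finset.mem_filter, Finset.mem_union]
    constructor
    · rintro ⟨h1, h2⟩
      rcases Nat.lt_succ_iff_lt_or_eq.1 h2 with h3 | h3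
      · exact Or.inl ⟨h1, h3⟩
      · exact Or.inr ⟨h1, Fin.ext h3⟩
    · rintro (⟨h1, h2⟩ | ⟨h1, h2⟩)
      · exact ⟨h1, by omega⟩
      · exact ⟨h1, by rw [h2]; omega⟩
  rw [h, Finset.card_union_of_disjoint]
  · congr 1
    rw [Finset.filter_eq']
    split_ifs <;> simp
  · rw [Finset.disjoint_left]
    intro j hj1 hj2
    simp only [Finset.mem_filter] at hj1 hj2
    rw [hj2.2] at hj1
    exact lt_irrefl _ hj1.2

theorem above_last : above T N = 0 := by
  unfold above
  rw [Finset.card_eq_zero, Finset.filter_eq_empty_iff]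
  intro j _
  have := j.isLt
  omega

theorem above_pred (i : Fin (N + 1)) (hi : 0 < (i : ℕ)) :
    above T ((i : ℕ) - 1) = above T i + (if i ∈ T then 1 else 0) := by
  classical
  unfold above
  have h : T.filter (fun j : Fin (N + 1) => (i : ℕ) - 1 < (j : ℕ)) =
      T.filter (fun j : Fin (N + 1) => (i : ℕ) < (j : ℕ)) ∪ T.filter (fun j => j = i) := by
    ext j
    simp only [Finset.mem_filter, Finset.mem_union]
    constructor
    · rintro ⟨h1, h2⟩
      by_cases h3 : (i : ℕ) < j
      · exact Or.inl ⟨h1, h3⟩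
      · exact Or.inr ⟨h1, Fin.ext (by omega)⟩
    · rintro (⟨h1, h2⟩ | ⟨h1, h2⟩)
      · exact ⟨h1, by omega⟩
      · exact ⟨h1, by rw [h2]; omega⟩
  rw [h, Finset.card_union_of_disjoint]
  · congr 1
    rw [Finset.filter_eq']
    split_ifs <;> simp
  · rw [Finset.disjoint_left]
    intro j hj1 hj2
    simp only [Finset.mem_filter] at hj1 hj2
    rw [hj2.2] at hj1
    exact lt_irrefl _ hj1.2

theorem card_eq_below_add (i : Fin (N + 1)) :
    T.card = below T i + above T i + (if i ∈ T then 1 else 0) := by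
  classical
  unfold below above
  have h : T = (T.filter (fun j : Fin (N + 1) => (j : ℕ) < i) ∪ T.filter (fun j : Fin (N + 1) => (i : ℕ) < (j : ℕ))) ∪
      T.filter (fun j => j = i) := by
    ext j
    simp only [Finset.mem_filter, Finset.mem_union]
    constructor
    · intro hj
      rcases lt_trichotomy (j : ℕ) i with h1 | h1 | h1
      · exact Or.inl (Or.inl ⟨hj, h1⟩)
      · exact Or.inr ⟨hj, Fin.ext h1⟩
      · exact Or.inl (Or.inr ⟨hj, h1⟩)
    · rintro ((h1 | h1) | h1) <;> exact h1.1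
  conv_lhs => rw [h]
  rw [Finset.card_union_of_disjoint, Finset.card_union_of_disjoint]
  · congr 1
    rw [Finset.filter_eq']
    split_ifs <;> simp
  · rw [Finset.disjoint_left]
    intro j hj1 hj2
    simp only [Finset.mem_filter] at hj1 hj2
    omega
  · rw [Finset.disjoint_left]
    intro j hj1 hj2
    simp only [Finset.mem_filter, Finset.mem_union] at hj1 hj2
    rw [hj2.2] at hj1
    rcases hj1 with h1 | h1 <;> exact lt_irrefl _ h1.2

theorem card_erase_eq (i : Fin (N + 1)) : (T.erase i).card = below T i + above T i := by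
  classical
  have := card_eq_below_add T i
  by_cases hi : i ∈ T
  · rw [Finset.card_erase_of_mem hi]
    rw [if_pos hi] at this
    omega
  · rw [Finset.erase_eq_of_notMem hi]
    rw [if_neg hi] at this
    omega

end cards

section chain

variable (k : Type*) [Field k] [IsAlgClosed k] [CharZero k]
  (N : ℕ) (Z : Fin (N + 1) → Type*) [∀ i, Field (Z i)] [∀ i, Algebra k (Z i)]
  (hZ : ∀ i, FunFld.IsFunctionField k (Z i)) (hrat : ∀ i, FunFld.genus k (Z i) = 0)
  (d r : ℕ) (D : ∀ i, FunFld.Divisor k (Z i)) (hD : ∀ i, (D i).deg = d)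
  (V : ∀ i, Submodule k (Z i)) (hV : ∀ i, V i ≤ FunFld.L (D i))
  (hVr : ∀ i, Module.finrank k ↥(V i) = r + 1)
  (A B : ∀ i, FunFld.Place k (Z i))
  (hAB : ∀ i : Fin (N + 1), 0 < (i : ℕ) → (i : ℕ) < N → A i ≠ B i)
  (hcomp : ∀ (l : Fin N) (m : ℕ), m ≤ d + 1 →
    Module.finrank k ↥((V l.castSucc) ⊓ FunFld.L ((D l.castSucc) - Finsupp.single (B l.castSucc) ((m : ℤ)))) +
      Module.finrank k ↥((V l.succ) ⊓ FunFld.L ((D l.succ) - Finsupp.single (A l.succ) ((d : ℤ) + 1 - m))) = r + 1)
  (T : Finset (Fin (N + 1))) (Q : ∀ i, FunFld.Place k (Z i))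
  (hQA : ∀ i ∈ T, 0 < (i : ℕ) → Q i ≠ A i) (hQB : ∀ i ∈ T, (i : ℕ) < N → Q i ≠ B i)
  (hcusp : ∀ i ∈ T, r ≤ Module.finrank k ↥((V i) ⊓ FunFld.L ((D i) - Finsupp.single (Q i) ((2 : ℤ)))))

/-- the contribution `r` of a marked component -/
def tau {N : ℕ} (T : Finset (Fin (N + 1))) (r : ℕ) (i : Fin (N + 1)) : ℕ := if i ∈ T then r else 0

theorem mul_below_succ {N : ℕ} (T : Finset (Fin (N + 1))) (r : ℕ) (i : Fin (N + 1)) :
    r * below T ((i : ℕ) + 1) = r * below T i + tau T r i := by
  rw [below_succ, mul_add]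
  unfold tau
  split_ifs <;> simp

theorem mul_above_pred {N : ℕ} (T : Finset (Fin (N + 1))) (r : ℕ) (i : Fin (N + 1))
    (hi : 0 < (i : ℕ)) : r * above T ((i : ℕ) - 1) = r * above T i + tau T r i := by
  rw [above_pred T i hi, mul_add]
  unfold tau
  split_ifs <;> simp

theorem mul_card_eq {N : ℕ} (T : Finset (Fin (N + 1))) (r : ℕ) (i : Fin (N + 1)) :
    r * T.card = r * below T i + r * above T i + tau T r i := by
  rw [card_eq_below_add T i, mul_add, mul_add]
  unfold tau
  split_ifs <;> simp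

include hZ hrat hD hV hVr hAB hQA hQB hcusp in
/-- inner components: `w(A) + w(B) + τ ≤ (r+1)(d-r)` -/
theorem inner_ineq (i : Fin (N + 1)) (h0 : 0 < (i : ℕ)) (hN : (i : ℕ) < N) :
    wsum d (D i) (V i) (A i) + wsum d (D i) (V i) (B i) + tau T r i ≤ (r + 1) * d := by
  unfold tau
  split_ifs with hi
  · exact wsum_add_wsum_add_le_of_cusp (hZ i) (hrat i) d r (D i) (hD i) (V i) (hV i) (hVr i) (Q i)
      (hcusp i hi) (A i) (B i) (hAB i h0 hN) (hQA i hi h0).symm (hQB i hi hN).symm
  · simpa using wsum_add_wsum_le (hZ i) d r (D i) (hD i) (V i) (hVr i) (A i) (B i) (hAB i h0 hN)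

include hZ hD hV hVr hQB hcusp in
/-- first component -/
theorem first_ineq (i : Fin (N + 1)) (hN : (i : ℕ) < N) :
    wsum d (D i) (V i) (B i) + tau T r i + r * (r + 1) / 2 ≤ (r + 1) * d := by
  unfold tau
  split_ifs with hi
  · have h1 := wsum_add_wsum_le (hZ i) d r (D i) (hD i) (V i) (hVr i) (B i) (Q i) (hQB i hi hN).symm
    have h2 := wsum_ge_of_cusp (hZ i) d r (D i) (hD i) (V i) (hV i) (hVr i) (Q i) (hcusp i hi)
    omega
  · simpa using wsum_le (hZ i) d r (D i) (hD i) (V i) (hV i) (hVr i) (B i)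

include hZ hD hV hVr hQA hcusp in
/-- last component -/
theorem last_ineq (i : Fin (N + 1)) (h0 : 0 < (i : ℕ)) :
    wsum d (D i) (V i) (A i) + tau T r i + r * (r + 1) / 2 ≤ (r + 1) * d := by
  unfold tau
  split_ifs with hi
  · have h1 := wsum_add_wsum_le (hZ i) d r (D i) (hD i) (V i) (hVr i) (A i) (Q i) (hQA i hi h0).symm
    have h2 := wsum_ge_of_cusp (hZ i) d r (D i) (hD i) (V i) (hV i) (hVr i) (Q i) (hcusp i hi)
    omega
  · simpa using wsum_le (hZ i) d r (D i) (hD i) (V i) (hV i) (hVr i) (A i)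

include hcomp in
theorem node_eq (l : Fin N) : wsum d (D l.castSucc) (V l.castSucc) (B l.castSucc) +
    wsum d (D l.succ) (V l.succ) (A l.succ) = (r + 1) * d :=
  wsum_add_wsum_eq_of_compatible d r _ _ _ _ _ _ (hcomp l)

include hZ hrat hD hV hVr hAB hcomp hQA hQB hcusp in
/-- weights at the upper nodes grow along the backbone -/
theorem backbone_left (i : Fin (N + 1)) (h0 : 0 < (i : ℕ)) :
    r * (r + 1) / 2 + r * below T i ≤ wsum d (D i) (V i) (A i) := by
  classical
  have main : ∀ n : ℕ, ∀ l : Fin (N + 1), (l : ℕ) = n + 1 →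
      r * (r + 1) / 2 + r * below T l ≤ wsum d (D l) (V l) (A l) := by
    intro n
    induction n with
    | zero =>
      intro l hl
      have hN : 0 < N := by have := l.isLt; omega
      have hnode := node_eq k N Z d r D V A B hcomp ⟨0, hN⟩
      have e2 : (⟨0, hN⟩ : Fin N).succ = l := Fin.ext (by simp [hl])
      rw [e2] at hnode
      have hfirst := first_ineq k N Z hZ d r D hD V hV hVr B T Q hQB hcusp
        (⟨0, hN⟩ : Fin N).castSucc (by simpa using hN)
      have hb := mul_below_succ T r (⟨0, hN⟩ : Fin N).castSucc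
      have e3 : (((⟨0, hN⟩ : Fin N).castSucc : Fin (N + 1)) : ℕ) = 0 := by simp
      rw [e3, below_zero, mul_zero] at hb
      simp only [zero_add] at hb
      rw [hl]
      simp only [zero_add]
      omega
    | succ n ih =>
      intro l hl
      have hlt : n + 1 < N := by have := l.isLt; omega
      have hnode := node_eq k N Z d r D V A B hcomp ⟨n + 1, hlt⟩
      have e2 : (⟨n + 1, hlt⟩ : Fin N).succ = l := Fin.ext (by simp [hl])
      rw [e2] at hnode
      have h1 := ih (⟨n + 1, hlt⟩ : Fin N).castSucc (by simp)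
      have h2 := inner_ineq k N Z hZ hrat d r D hD V hV hVr A B hAB T Q hQA hQB hcusp
        (⟨n + 1, hlt⟩ : Fin N).castSucc (by simp) (by simpa using hlt)
      have hb := mul_below_succ T r (⟨n + 1, hlt⟩ : Fin N).castSucc
      have e3 : (((⟨n + 1, hlt⟩ : Fin N).castSucc : Fin (N + 1)) : ℕ) = n + 1 := by simp
      rw [e3] at hb h1
      rw [hl]
      omega
  obtain ⟨n, hn⟩ : ∃ n, (i : ℕ) = n + 1 := ⟨(i : ℕ) - 1, by omega⟩
  exact main n i hn

include hZ hrat hD hV hVr hAB hcomp hQA hQB hcusp in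
/-- weights at the lower nodes grow up the backbone -/
theorem backbone_right (i : Fin (N + 1)) (hN : (i : ℕ) < N) :
    r * (r + 1) / 2 + r * above T i ≤ wsum d (D i) (V i) (B i) := by
  classical
  have main : ∀ n : ℕ, ∀ l : Fin (N + 1), (l : ℕ) + n + 1 = N →
      r * (r + 1) / 2 + r * above T l ≤ wsum d (D l) (V l) (B l) := by
    intro n
    induction n with
    | zero =>
      intro l hl
      have hlt : (l : ℕ) < N := by omega
      have hnode := node_eq k N Z d r D V A B hcomp ⟨l, hlt⟩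
      have e1 : (⟨l, hlt⟩ : Fin N).castSucc = l := Fin.ext (by simp)
      rw [e1] at hnode
      have hlast := last_ineq k N Z hZ d r D hD V hV hVr A T Q hQA hcusp
        (⟨l, hlt⟩ : Fin N).succ (by simp)
      have ha := mul_above_pred T r (⟨l, hlt⟩ : Fin N).succ (by simp)
      have e3 : (((⟨l, hlt⟩ : Fin N).succ : Fin (N + 1)) : ℕ) = N := by simp; omega
      have e4 : N - 1 = (l : ℕ) := by omega
      rw [e3, above_last, mul_zero, zero_add, e4] at ha
      omega
    | succ n ih =>
      intro l hl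
      have hlt : (l : ℕ) < N := by omega
      have hnode := node_eq k N Z d r D V A B hcomp ⟨l, hlt⟩
      have e1 : (⟨l, hlt⟩ : Fin N).castSucc = l := Fin.ext (by simp)
      rw [e1] at hnode
      have h1 := ih (⟨l, hlt⟩ : Fin N).succ (by simp; omega)
      have h2 := inner_ineq k N Z hZ hrat d r D hD V hV hVr A B hAB T Q hQA hQB hcusp
        (⟨l, hlt⟩ : Fin N).succ (by simp) (by simp; omega)
      have ha := mul_above_pred T r (⟨l, hlt⟩ : Fin N).succ (by simp)
      have e3 : (((⟨l, hlt⟩ : Fin N).succ : Fin (N + 1)) : ℕ) = (l : ℕ) + 1 := by simp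
      rw [e3] at ha h1
      rw [Nat.add_sub_cancel] at ha
      omega
  exact main (N - 1 - i) i (by omega)

end chain

end Groth.Agent.Lib.Helper26.FunFldBackbone
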