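import Mathlib
import Groth.Agent.Lib.Helper26.FunFldSeries
import Groth.Agent.Lib.Helper2.FunFld.Rational

/-!
# Positive genus: no pencils of degree one
-/

set_option autoImplicit false
open scoped WithZero IntermediateField
open FunFld
open Groth.Agent.Lib.Helper2.FF

namespace Groth.Agent.Lib.Helper26.FunFldPosGenus

open Groth.Agent.Lib.Helper26.FunFldAlgClosed Groth.Agent.Lib.Helper26.FunFldSeries

variable {k K : Type*} [Field k] [Field K] [Algebra k K]

/-- Two non-proportional members of `L(E)` with `deg E = 1` force genus zero. -/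
theorem genus_eq_zero_of_pencil (hK : IsFunctionField k K) {E : Divisor k K} (hE : E.deg = 1)
    {s₁ s₂ : K} (h1 : s₁ ∈ L E) (h2 : s₂ ∈ L E) (hs₁ : s₁ ≠ 0)
    (hnp : ¬ ∃ c : k, c • s₁ = s₂) : genus k K = 0 := by
  have hs₂ : s₂ ≠ 0 := by
    rintro rfl
    exact hnp ⟨0, by simp⟩
  set x : K := s₂ * s₁⁻¹ with hx
  have hx0 : x ≠ 0 := mul_ne_zero hs₂ (inv_ne_zero hs₁)
  have hxr : x ∉ Set.range (algebraMap k K) := by
    rintro ⟨c, hc⟩
    apply hnp
    refine ⟨c, ?_⟩
    rw [Algebra.smul_def, hc, hx, mul_assoc, inv_mul_cancel₀ hs₁, mul_one]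
  have htr := transcendental_of_not_mem_range hK hxr
  set F : Divisor k K := FunFld.div k s₁ + E with hF
  have hF0 : 0 ≤ F := (mem_L_iff_div hK hs₁).1 h1
  have hFdeg : F.deg = 1 := by rw [hF, deg_add, deg_div hK, hE]; ring
  have hxF : x ∈ L F := by
    rw [mem_L_iff_div hK hx0, hx, div_mul hK hs₂ (inv_ne_zero hs₁), div_inv hK, hF]
    have := (mem_L_iff_div hK hs₂).1 h2
    have e : FunFld.div k s₂ + -FunFld.div k s₁ + (FunFld.div k s₁ + E) = FunFld.div k s₂ + E := by
      abel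
    rw [e]; exact this
  have hp := pdiv_le_of_mem_L hK hF0 hxF
  have hpd := deg_mono hp
  rw [hFdeg, deg_pdiv hK htr] at hpd
  haveI := finiteDimensional_adjoin_simple hK htr
  have hpos : 0 < Module.finrank k⟮x⟯ K := Module.finrank_pos
  apply genus_eq_zero_of_deg_pdiv hK htr
  rw [deg_pdiv hK htr]
  have : Module.finrank k⟮x⟯ K = 1 := by
    have : (Module.finrank k⟮x⟯ K : ℤ) ≤ 1 := hpd
    omega
  rw [this]; rfl

/-- On a curve of positive genus, a linear system cut down to a divisor of degree one has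
dimension at most one. -/
theorem finrank_inf_L_le_one_of_pos_genus (hK : IsFunctionField k K) (hg : 0 < genus k K)
    (V : Submodule k K) [Module.Finite k V] {E : Divisor k K} (hE : E.deg = 1) :
    Module.finrank k ↥(V ⊓ L E) ≤ 1 := by
  haveI : Module.Finite k ↥(V ⊓ L E) := finite_inf V _
  rw [finrank_le_one_iff]
  by_cases h : ∃ s ∈ V ⊓ L E, s ≠ 0
  · obtain ⟨s, hs, hs0⟩ := h
    refine ⟨⟨s, hs⟩, fun w => ?_⟩
    by_contra hno
    have := genus_eq_zero_of_pencil hK hE hs.2 w.2.2 hs0 (by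
      rintro ⟨c, hc⟩
      exact hno ⟨c, Subtype.ext hc⟩)
    omega
  · push_neg at h
    refine ⟨0, fun w => ⟨0, ?_⟩⟩
    apply Subtype.ext
    simp [h w.1 w.2]

end Groth.Agent.Lib.Helper26.FunFldPosGenus
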