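import Mathlib
import Groth.Agent.Lib.Helper26.FunFldPosGenus
import Groth.Agent.Lib.Helper26.FunFldWeights

/-!
# Chains of rational curves ending in a curve of positive genus: cusps at the lower nodes
-/

set_option autoImplicit false
open scoped WithZero IntermediateField
open FunFld
open Groth.Agent.Lib.Helper2.FF

namespace Groth.Agent.Lib.Helper26.FunFldChain

open Groth.Agent.Lib.Helper26.FunFldAlgClosed Groth.Agent.Lib.Helper26.FunFldSeries
open Groth.Agent.Lib.Helper26.FunFldPosGenus Groth.Agent.Lib.Helper26.FunFldWeights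

/-- Along a chain whose last component has positive genus, every aspect has at least a cusp at
its lower node. -/
theorem chain_cusp
    (k : Type*) [Field k] [IsAlgClosed k] [CharZero k]
    (n : ℕ) (U : Fin (n + 1) → Type*) [∀ l, Field (U l)] [∀ l, Algebra k (U l)]
    (hU : ∀ l, FunFld.IsFunctionField k (U l))
    (d r : ℕ) (hd : 1 ≤ d) (D : ∀ l, FunFld.Divisor k (U l)) (hD : ∀ l, (D l).deg = d)
    (V : ∀ l, Submodule k (U l))
    (hVr : ∀ l, Module.finrank k ↥(V l) = r + 1)
    (A B : ∀ l, FunFld.Place k (U l))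
    (hAB : ∀ l : Fin (n + 1), 0 < (l : ℕ) → (l : ℕ) < n → A l ≠ B l)
    (hcomp : ∀ (l : Fin n) (m : ℕ), m ≤ d + 1 →
      Module.finrank k ↥((V l.castSucc) ⊓ FunFld.L ((D l.castSucc) - Finsupp.single (B l.castSucc) ((m : ℤ)))) +
        Module.finrank k ↥((V l.succ) ⊓ FunFld.L ((D l.succ) - Finsupp.single (A l.succ) ((d : ℤ) + 1 - m))) = r + 1)
    (hpos : 0 < FunFld.genus k (U (Fin.last n)))
    (l : Fin (n + 1)) (hl : (l : ℕ) < n) :
    r ≤ Module.finrank k ↥((V l) ⊓ FunFld.L ((D l) - Finsupp.single (B l) ((2 : ℤ)))) := by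
  classical
  have hVfin : ∀ j, Module.Finite k (V j) := fun j =>
    Module.finite_of_finrank_pos (by rw [hVr]; omega)
  have main : ∀ i : ℕ, ∀ l : Fin (n + 1), (l : ℕ) + i = n → 0 < (l : ℕ) →
      Module.finrank k ↥((V l) ⊓ FunFld.L ((D l) - Finsupp.single (A l) ((d : ℤ) + 1 - (2 : ℕ)))) ≤ 1 := by
    intro i
    induction i with
    | zero =>
      intro l hl _
      have e : l = Fin.last n := Fin.ext (by simp at hl ⊢; exact hl)
      subst e
      haveI := hVfin (Fin.last n)
      apply finrank_inf_L_le_one_of_pos_genus (hU _) hpos (V _)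
      rw [deg_sub, deg_single, deg_eq_one (hU _) (A _), hD]
      push_cast; ring
    | succ i ih =>
      intro l hl h0
      have hlt : (l : ℕ) < n := by omega
      have h1 := ih (⟨l, hlt⟩ : Fin n).succ (by simp; omega) (by simp)
      have h2 := hcomp ⟨l, hlt⟩ 2 (by omega)
      have e1 : (⟨l, hlt⟩ : Fin n).castSucc = l := Fin.ext (by simp)
      rw [e1] at h2
      haveI := hVfin l
      have h3 := finrank_add_finrank_le (hU l) (D l) (V l) (A l) (B l) (hAB l h0 hlt)
        ((d : ℤ) + 1 - (2 : ℕ)) ((2 : ℕ) : ℤ) (by rw [hD l]; push_cast; linarith)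
      rw [hVr l] at h3
      omega
  have h1 := main (n - ((l : ℕ) + 1)) (⟨l, hl⟩ : Fin n).succ (by simp; omega) (by simp)
  have h2 := hcomp ⟨l, hl⟩ 2 (by omega)
  have e1 : (⟨l, hl⟩ : Fin n).castSucc = l := Fin.ext (by simp)
  rw [e1] at h2
  have e : ((2 : ℕ) : ℤ) = 2 := by norm_num
  rw [e] at h1 h2
  omega

end Groth.Agent.Lib.Helper26.FunFldChain
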