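import Mathlib

/-!
# The Wronskian of a family of polynomials: vanishing orders, degree, nonvanishing
-/

set_option autoImplicit false
open Polynomial

namespace Groth.Agent.Lib.Helper26.PolyWronskian

variable {k : Type*} [Field k]

/-- The Wronskian determinant `det (f_i^{(j)})`. -/
noncomputable def wr {n : ℕ} (f : Fin n → k[X]) : k[X] :=
  (Matrix.of fun i j : Fin n => derivative^[(j : ℕ)] (f i)).det

theorem wr_eq_sum {n : ℕ} (f : Fin n → k[X]) :
    wr f = ∑ σ : Equiv.Perm (Fin n), ((Equiv.Perm.sign σ : ℤ) : k[X]) *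
      ∏ i : Fin n, derivative^[(i : ℕ)] (f (σ i)) := by
  unfold wr
  rw [Matrix.det_apply']
  rfl

theorem sum_fin_id (n : ℕ) : ∑ i : Fin n, (i : ℕ) = n * (n - 1) / 2 := by
  rw [Fin.sum_univ_eq_sum_range (fun i => i) n, Finset.sum_range_id]

/-- change of basis -/
theorem wr_lin {n : ℕ} (M : Matrix (Fin n) (Fin n) k) (f : Fin n → k[X]) :
    wr (fun i => ∑ j, C (M i j) * f j) = C M.det * wr f := by
  unfold wr
  have h : (Matrix.of fun i j : Fin n => derivative^[(j : ℕ)] (∑ l, C (M i l) * f l)) =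
      (C.mapMatrix M) * (Matrix.of fun i j : Fin n => derivative^[(j : ℕ)] (f i)) := by
    apply Matrix.ext
    intro i j
    simp only [Matrix.of_apply, Matrix.mul_apply, RingHom.mapMatrix_apply, Matrix.map_apply]
    rw [iterate_derivative_sum]
    apply Finset.sum_congr rfl
    intro l _
    rw [iterate_derivative_C_mul]
  rw [h, Matrix.det_mul, ← RingHom.map_det]

/-- divisibility of the Wronskian by a power of `X - a` -/
theorem pow_dvd_wr {n : ℕ} (f : Fin n → k[X]) (a : k) (m : Fin n → ℕ)
    (hm : ∀ i, (X - C a) ^ (m i) ∣ f i) :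
    (X - C a) ^ (∑ i, m i - n * (n - 1) / 2) ∣ wr f := by
  rw [wr_eq_sum]
  apply Finset.dvd_sum
  intro σ _
  apply Dvd.dvd.mul_left
  have h1 : (X - C a) ^ (∑ i : Fin n, (m (σ i) - (i : ℕ))) ∣ ∏ i : Fin n, derivative^[(i : ℕ)] (f (σ i)) := by
    rw [← Finset.prod_pow_eq_pow_sum]
    apply Finset.prod_dvd_prod_of_dvd
    intro i _
    exact pow_sub_dvd_iterate_derivative_of_pow_dvd _ (hm (σ i))
  refine (pow_dvd_pow _ ?_).trans h1
  have h2 : ∑ i, m (σ i) = ∑ i, m i := Equiv.sum_comp σ m
  have h3 : ∑ i, m (σ i) ≤ ∑ i : Fin n, (m (σ i) - (i : ℕ)) + ∑ i : Fin n, (i : ℕ) := by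
    rw [← Finset.sum_add_distrib]
    apply Finset.sum_le_sum
    intro i _
    omega
  rw [sum_fin_id] at h3
  omega

theorem coeff_prod_of_natDegree_le' {ι : Type*} (s : Finset ι) (g : ι → k[X]) (b : ι → ℕ)
    (h : ∀ i ∈ s, natDegree (g i) ≤ b i) :
    coeff (∏ i ∈ s, g i) (∑ i ∈ s, b i) = ∏ i ∈ s, coeff (g i) (b i) := by
  classical
  induction s using Finset.induction_on with
  | empty => simp
  | insert a s ha ih =>
    rw [Finset.prod_insert ha, Finset.sum_insert ha, Finset.prod_insert ha]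
    rw [coeff_mul_add_eq_of_natDegree_le (h a (Finset.mem_insert_self a s))
      ((natDegree_prod_le s g).trans (Finset.sum_le_sum fun i hi =>
        h i (Finset.mem_insert_of_mem hi)))]
    rw [ih (fun i hi => h i (Finset.mem_insert_of_mem hi))]

/-- A permutation is good for the degree bounds `e` when `i ≤ e (σ i)` for all `i`. -/
theorem term_eq_zero_of_bad {n : ℕ} (f : Fin n → k[X]) (e : Fin n → ℕ)
    (he : ∀ i, natDegree (f i) ≤ e i) (σ : Equiv.Perm (Fin n))
    (hbad : ∃ i : Fin n, e (σ i) < (i : ℕ)) : ∏ i : Fin n, derivative^[(i : ℕ)] (f (σ i)) = 0 := by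
  obtain ⟨i, hi⟩ := hbad
  apply Finset.prod_eq_zero (Finset.mem_univ i)
  exact iterate_derivative_eq_zero ((he (σ i)).trans_lt hi)

theorem sum_sub_of_good {n : ℕ} (e : Fin n → ℕ) (σ : Equiv.Perm (Fin n))
    (hgood : ∀ i : Fin n, (i : ℕ) ≤ e (σ i)) :
    ∑ i : Fin n, (e (σ i) - (i : ℕ)) + n * (n - 1) / 2 = ∑ i, e i := by
  rw [← sum_fin_id, ← Finset.sum_add_distrib, ← Equiv.sum_comp σ e]
  apply Finset.sum_congr rfl
  intro i _
  have := hgood i
  omega

/-- degree bound for the Wronskian -/
theorem natDegree_wr_le {n : ℕ} (f : Fin n → k[X]) (e : Fin n → ℕ)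
    (he : ∀ i, natDegree (f i) ≤ e i) (hne : wr f ≠ 0) :
    natDegree (wr f) + n * (n - 1) / 2 ≤ ∑ i, e i := by
  classical
  -- some permutation is good
  have hex : ∃ σ : Equiv.Perm (Fin n), ∀ i : Fin n, (i : ℕ) ≤ e (σ i) := by
    by_contra hno
    push Not at hno
    apply hne
    rw [wr_eq_sum]
    apply Finset.sum_eq_zero
    intro σ _
    rw [term_eq_zero_of_bad f e he σ (hno σ), mul_zero]
  obtain ⟨σ₀, hσ₀⟩ := hex
  have hsum := sum_sub_of_good e σ₀ hσ₀
  have hle : natDegree (wr f) ≤ ∑ i, e i - n * (n - 1) / 2 := by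
    rw [wr_eq_sum]
    apply natDegree_sum_le_of_forall_le
    intro σ _
    by_cases hgood : ∀ i : Fin n, (i : ℕ) ≤ e (σ i)
    · have h1 := sum_sub_of_good e σ hgood
      refine (natDegree_mul_le).trans ?_
      have h2 : natDegree (((Equiv.Perm.sign σ : ℤ) : k[X])) = 0 := by
        rw [← map_intCast (C : k →+* k[X])]; exact natDegree_C _
      rw [h2, zero_add]
      refine (natDegree_prod_le _ _).trans ?_
      have h3 : ∑ i : Fin n, natDegree (derivative^[(i : ℕ)] (f (σ i))) ≤ ∑ i : Fin n, (e (σ i) - (i : ℕ)) := by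
        apply Finset.sum_le_sum
        intro i _
        exact (natDegree_iterate_derivative _ _).trans (Nat.sub_le_sub_right (he (σ i)) _)
      omega
    · push Not at hgood
      rw [term_eq_zero_of_bad f e he σ hgood, mul_zero, natDegree_zero]
      exact Nat.zero_le _
  omega

/-- the coefficient of the Wronskian in the top possible degree -/
theorem coeff_wr {n : ℕ} (f : Fin n → k[X]) (e : Fin n → ℕ)
    (he : ∀ i, natDegree (f i) ≤ e i) :
    coeff (wr f) (∑ i, e i - n * (n - 1) / 2) =
      (Matrix.of fun i j : Fin n => coeff (f i) (e i) * ((e i).descFactorial (j : ℕ) : k)).det := by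
  classical
  rw [wr_eq_sum, Matrix.det_apply', finsetSum_coeff]
  apply Finset.sum_congr rfl
  intro σ _
  have hint : ((Equiv.Perm.sign σ : ℤ) : k[X]) = C ((Equiv.Perm.sign σ : ℤ) : k) := by
    rw [map_intCast]
  rw [hint, coeff_C_mul]
  congr 1
  by_cases hgood : ∀ i : Fin n, (i : ℕ) ≤ e (σ i)
  · have h1 := sum_sub_of_good e σ hgood
    have h2 : ∑ i, e i - n * (n - 1) / 2 = ∑ i : Fin n, (e (σ i) - (i : ℕ)) := by omega
    rw [h2, coeff_prod_of_natDegree_le' Finset.univ (fun i : Fin n => derivative^[(i : ℕ)] (f (σ i)))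
      (fun i : Fin n => e (σ i) - (i : ℕ)) (fun i _ =>
        (natDegree_iterate_derivative _ _).trans (Nat.sub_le_sub_right (he (σ i)) _))]
    apply Finset.prod_congr rfl
    intro i _
    rw [coeff_iterate_derivative, Nat.sub_add_cancel (hgood i), Matrix.of_apply, nsmul_eq_mul,
      mul_comm]
  · push Not at hgood
    rw [term_eq_zero_of_bad f e he σ hgood, coeff_zero]
    obtain ⟨i, hi⟩ := hgood
    symm
    apply Finset.prod_eq_zero (Finset.mem_univ i)
    rw [Matrix.of_apply, Nat.descFactorial_eq_zero_iff_lt.2 hi]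
    simp

/-- In characteristic zero, polynomials of pairwise distinct degrees have a nonzero Wronskian. -/
theorem wr_ne_zero_of_injective [CharZero k] {n : ℕ} (f : Fin n → k[X]) (e : Fin n → ℕ)
    (he : ∀ i, natDegree (f i) = e i) (hf : ∀ i, f i ≠ 0) (hinj : Function.Injective e) :
    wr f ≠ 0 := by
  classical
  intro h0
  have h1 := coeff_wr f e (fun i => (he i).le)
  rw [h0, coeff_zero] at h1
  have h2 : (Matrix.of fun i j : Fin n => coeff (f i) (e i) * ((e i).descFactorial (j : ℕ) : k)).det =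
      (∏ i, coeff (f i) (e i)) *
        (Matrix.of fun i j : Fin n => ((e i).descFactorial (j : ℕ) : k)).det :=
    Matrix.det_mul_column (fun i => coeff (f i) (e i))
      (Matrix.of fun i j : Fin n => ((e i).descFactorial (j : ℕ) : k))
  have h3 : (Matrix.of fun i j : Fin n => ((e i).descFactorial (j : ℕ) : k)).det =
      (Matrix.vandermonde fun i => (e i : k)).det := by
    rw [Matrix.det_eval_matrixOfPolynomials_eq_det_vandermonde (fun i => (e i : k))
      (fun j => descPochhammer k (j : ℕ)) (fun i => descPochhammer_natDegree k i)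
      (fun i => monic_descPochhammer k i)]
    congr 1
    ext i j
    rw [Matrix.of_apply, Matrix.of_apply, descPochhammer_eval_eq_descFactorial]
  rw [h2, h3] at h1
  have h4 : (Matrix.vandermonde fun i => (e i : k)).det ≠ 0 := by
    rw [Matrix.det_vandermonde_ne_zero_iff]
    intro i j hij
    exact hinj (Nat.cast_injective hij)
  have h5 : (∏ i, coeff (f i) (e i)) ≠ 0 := by
    rw [Finset.prod_ne_zero_iff]
    intro i _
    rw [← he i]
    exact leadingCoeff_ne_zero.2 (hf i)
  exact (mul_ne_zero h5 h4) h1.symm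

/-- the vanishing orders of a nonzero polynomial at distinct points add up to at most the degree -/
theorem sum_rootMultiplicity_le (W : k[X]) (hW : W ≠ 0) (s : Finset k) :
    ∑ a ∈ s, rootMultiplicity a W ≤ natDegree W := by
  classical
  have h1 : ∑ a ∈ s, rootMultiplicity a W = ∑ a ∈ s, W.roots.count a := by
    apply Finset.sum_congr rfl
    intro a _
    rw [count_roots]
  rw [h1]
  have h2 : ∑ a ∈ s, W.roots.count a ≤ ∑ a ∈ s ∪ W.roots.toFinset, W.roots.count a :=
    Finset.sum_le_sum_of_subset Finset.subset_union_left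
  have h3 : ∑ a ∈ s ∪ W.roots.toFinset, W.roots.count a = Multiset.card W.roots :=
    Multiset.sum_count_eq_card (fun a ha => Finset.mem_union_right _ (Multiset.mem_toFinset.2 ha))
  exact (h2.trans h3.le).trans (card_roots' W)

end Groth.Agent.Lib.Helper26.PolyWronskian
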