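import Mathlib
import Groth.Agent.Lib.Helper26.AdaptedBasis
import Groth.Agent.Lib.Helper26.PolyWronskian

/-!
# The Plücker inequality for spaces of polynomials (characteristic zero)
-/

set_option autoImplicit false
open Polynomial

namespace Groth.Agent.Lib.Helper26.PolyPlucker

open Groth.Agent.Lib.Helper26.AdaptedBasis Groth.Agent.Lib.Helper26.PolyWronskian

variable {k : Type*} [Field k]

/-- polynomials divisible by `(X - a)^j` -/
noncomputable def Fa (a : k) (j : ℕ) : Submodule k k[X] :=
  (Ideal.span {(X - C a) ^ j}).restrictScalars k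

theorem mem_Fa {a : k} {j : ℕ} {p : k[X]} : p ∈ Fa a j ↔ (X - C a) ^ j ∣ p := by
  unfold Fa
  rw [Submodule.restrictScalars_mem, Ideal.mem_span_singleton]

theorem Fa_antitone (a : k) : Antitone (Fa a) := by
  intro i j hij p hp
  rw [mem_Fa] at hp ⊢
  exact (pow_dvd_pow _ hij).trans hp

theorem Fa_zero (a : k) : Fa a 0 = ⊤ := by
  ext p
  simp [mem_Fa]

theorem inf_Fa_eq_bot (a : k) (d : ℕ) (V : Submodule k k[X]) (hV : V ≤ degreeLT k (d + 1)) :
    V ⊓ Fa a (d + 1) = ⊥ := by
  rw [eq_bot_iff]
  rintro p ⟨hpV, hpF⟩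
  have hpF := mem_Fa.1 hpF
  have hpV : p ∈ V := hpV
  by_contra hp0
  have hp0' : p ≠ 0 := by simpa using hp0
  have h1 := mem_degreeLT.1 (hV hpV)
  have h2 : natDegree p < d + 1 := (natDegree_lt_iff_degree_lt hp0').2 h1
  obtain ⟨q, rfl⟩ := hpF
  have hq0 : q ≠ 0 := by
    rintro rfl
    exact hp0' (mul_zero _)
  rw [natDegree_mul (pow_ne_zero _ (X_sub_C_ne_zero a)) hq0, natDegree_pow, natDegree_X_sub_C] at h2
  omega

/-- the degree filtration -/
noncomputable def Gd (d : ℕ) (j : ℕ) : Submodule k k[X] := degreeLT k (d + 1 - j)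

theorem Gd_antitone (d : ℕ) : Antitone (Gd (k := k) d) := by
  intro i j hij
  exact degreeLT_mono (by omega)

theorem Gd_last (d : ℕ) : Gd (k := k) d (d + 1) = ⊥ := by
  unfold Gd
  rw [Nat.sub_self]
  rw [eq_bot_iff]
  intro p hp
  rw [mem_degreeLT] at hp
  have : p = 0 := by
    by_contra h
    have := degree_eq_natDegree h
    rw [this] at hp
    simp at hp
  simpa using this

/-- change of basis between two bases of the same subspace -/
theorem exists_matrix {E : Type*} [AddCommGroup E] [Module k E] {n : ℕ} (b b' : Fin n → E)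
    (hb : LinearIndependent k b) (hspan : Submodule.span k (Set.range b) =
      Submodule.span k (Set.range b')) :
    ∃ M : Matrix (Fin n) (Fin n) k, M.det ≠ 0 ∧ ∀ i, b' i = ∑ j, M i j • b j := by
  classical
  have h1 : ∀ i, ∃ c : Fin n → k, ∑ j, c j • b j = b' i := by
    intro i
    apply (Submodule.mem_span_range_iff_exists_fun k).1
    rw [hspan]
    exact Submodule.subset_span ⟨i, rfl⟩
  have h2 : ∀ i, ∃ c : Fin n → k, ∑ j, c j • b' j = b i := by
    intro i
    apply (Submodule.mem_span_range_iff_exists_fun k).1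
    rw [← hspan]
    exact Submodule.subset_span ⟨i, rfl⟩
  choose M hM using h1
  choose M' hM' using h2
  refine ⟨Matrix.of M, ?_, fun i => (hM i).symm⟩
  have hprod : (Matrix.of M' : Matrix (Fin n) (Fin n) k) * Matrix.of M = 1 := by
    apply Matrix.ext
    intro i l
    have h3 : ∑ l, (∑ j, M' i j * M j l) • b l = b i := by
      conv_rhs => rw [← hM' i]
      have : ∀ j, M' i j • b' j = ∑ l, (M' i j * M j l) • b l := by
        intro j
        rw [← hM j, Finset.smul_sum]
        apply Finset.sum_congr rfl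
        intro l _
        rw [smul_smul]
      simp_rw [this]
      rw [Finset.sum_comm]
      apply Finset.sum_congr rfl
      intro l _
      rw [Finset.sum_smul]
    have h4 : ∑ l, ((∑ j, M' i j * M j l) - (if i = l then 1 else 0)) • b l = 0 := by
      simp_rw [sub_smul]
      rw [Finset.sum_sub_distrib, h3]
      simp
    have h5 := (Fintype.linearIndependent_iff.1 hb) _ h4 l
    rw [Matrix.mul_apply, Matrix.one_apply]
    simp only [Matrix.of_apply]
    exact sub_eq_zero.1 h5
  intro hdet
  have := congrArg Matrix.det hprod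
  rw [Matrix.det_mul, hdet, mul_zero, Matrix.det_one] at this
  exact zero_ne_one this

theorem even_half' (r : ℕ) : r * (r + 1) = 2 * (r * (r + 1) / 2) := by
  obtain ⟨t, ht⟩ := Nat.even_mul_succ_self r
  rw [ht]; omega

/-- **Plücker inequality** for a space `V` of polynomials of degree at most `d`. -/
theorem poly_plucker [CharZero k] (d r : ℕ) (V : Submodule k k[X])
    (hV : V ≤ degreeLT k (d + 1)) (hVr : Module.finrank k V = r + 1)
    (hstep : ∀ j, Module.finrank k ↥(V ⊓ Gd d j) ≤ Module.finrank k ↥(V ⊓ Gd d (j + 1)) + 1)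
    (s : Finset k) :
    ∑ a ∈ s, ∑ j ∈ Finset.range (d + 1), Module.finrank k ↥(V ⊓ Fa a (j + 1)) +
      ∑ j ∈ Finset.range (d + 1), Module.finrank k ↥(V ⊓ Gd d (j + 1)) + r * (r + 1) ≤
      (r + 1) * d + (s.card + 1) * (r * (r + 1) / 2) := by
  classical
  have hfin : Module.Finite k V := Module.finite_of_finrank_pos (by omega)
  set t := r * (r + 1) / 2 with ht
  have htn : (r + 1) * (r + 1 - 1) / 2 = t := by
    rw [Nat.add_sub_cancel, mul_comm]
  -- basis adapted to the degree filtration
  obtain ⟨b, m, hli, hspan, hmem, hnmem, hsum, hstrict⟩ :=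
    exists_adapted_basis (Gd (k := k) d) (Gd_antitone d) (d + 1) (r + 1) V hVr hfin
      (by unfold Gd; simpa using hV) (by rw [Gd_last, inf_bot_eq])
  have hsa := hstrict hstep
  have hb0 : ∀ i, b i ≠ 0 := fun i => hli.ne_zero i
  have hmd : ∀ i, m i ≤ d ∧ natDegree (b i) = d - m i := by
    intro i
    have h1 := hmem i
    have h2 := hnmem i
    unfold Gd at h1 h2
    rw [mem_degreeLT] at h1 h2
    rw [degree_eq_natDegree (hb0 i)] at h1 h2
    have h1' : natDegree (b i) < d + 1 - m i := by exact_mod_cast h1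
    have h2' : ¬ natDegree (b i) < d + 1 - (m i + 1) := by exact_mod_cast h2
    omega
  set e : Fin (r + 1) → ℕ := fun i => d - m i with he
  have hinj : Function.Injective e := by
    intro i j hij
    simp only [he] at hij
    have hi := (hmd i).1
    have hj := (hmd j).1
    have : m i = m j := by omega
    exact hsa.injective this
  have hW : wr b ≠ 0 := wr_ne_zero_of_injective b e (fun i => (hmd i).2) hb0 hinj
  have hdeg := natDegree_wr_le b e (fun i => (hmd i).2.le) hW
  rw [htn] at hdeg
  have hem : ∑ i, e i + ∑ i, m i = (r + 1) * d := by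
    rw [← Finset.sum_add_distrib]
    have : ∀ i ∈ (Finset.univ : Finset (Fin (r + 1))), e i + m i = d := by
      intro i _
      have := (hmd i).1
      simp only [he]; omega
    rw [Finset.sum_congr rfl this, Finset.sum_const, Finset.card_univ, Fintype.card_fin,
      smul_eq_mul]
  -- each point
  have hpt : ∀ a ∈ s, ∑ j ∈ Finset.range (d + 1), Module.finrank k ↥(V ⊓ Fa a (j + 1)) - t ≤
      rootMultiplicity a (wr b) := by
    intro a _
    obtain ⟨b', m', hli', hspan', hmem', -, hsum', -⟩ :=
      exists_adapted_basis (Fa a) (Fa_antitone a) (d + 1) (r + 1) V hVr hfin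
        (by rw [Fa_zero]; exact le_top) (inf_Fa_eq_bot a d V hV)
    obtain ⟨M, hM, hMb⟩ := exists_matrix b b' hli (by rw [hspan, hspan'])
    have hwr : wr b' = C M.det * wr b := by
      rw [← wr_lin]
      congr 1
      ext i
      rw [hMb i]
      simp_rw [smul_eq_C_mul]
    have hdvd := pow_dvd_wr b' a m' (fun i => mem_Fa.1 (hmem' i))
    rw [hwr, htn, hsum'] at hdvd
    have hunit : IsUnit (C M.det : k[X]) := isUnit_C.2 (isUnit_iff_ne_zero.2 hM)
    rw [hunit.dvd_mul_left] at hdvd
    exact (le_rootMultiplicity_iff hW).2 hdvd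
  have hroots := sum_rootMultiplicity_le (wr b) hW s
  have h1 : ∑ a ∈ s, ∑ j ∈ Finset.range (d + 1), Module.finrank k ↥(V ⊓ Fa a (j + 1)) ≤
      ∑ a ∈ s, (rootMultiplicity a (wr b) + t) := by
    apply Finset.sum_le_sum
    intro a ha
    have := hpt a ha
    omega
  rw [Finset.sum_add_distrib, Finset.sum_const, smul_eq_mul] at h1
  have h2 := even_half' r
  rw [← hsum]
  have h3 : (s.card + 1) * t = s.card * t + t := by ring
  rw [h3]
  omega

end Groth.Agent.Lib.Helper26.PolyPlucker
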