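import Mathlib
import Groth.Agent.Lib.Helper26.FunFldCoord
import Groth.Agent.Lib.Helper26.FunFldWeights
import Groth.Agent.Lib.Helper26.PolyPlucker

/-!
# The Plücker inequality on a function field of genus zero (characteristic zero)
-/

set_option autoImplicit false
open scoped WithZero IntermediateField
open FunFld Polynomial
open Groth.Agent.Lib.Helper2.FF

namespace Groth.Agent.Lib.Helper26.FunFldPlucker

open Groth.Agent.Lib.Helper26.FunFldAlgClosed Groth.Agent.Lib.Helper26.FunFldSeries
open Groth.Agent.Lib.Helper26.FunFldLocal Groth.Agent.Lib.Helper26.FunFldCoord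
open Groth.Agent.Lib.Helper26.FunFldWeights Groth.Agent.Lib.Helper26.PolyPlucker

variable {k K : Type*} [Field k] [Field K] [Algebra k K]

/-- multiplication by a nonzero element as a `k`-linear equivalence -/
noncomputable def mulEquiv' (z : K) (hz : z ≠ 0) : K ≃ₗ[k] K :=
  LinearEquiv.ofLinear (LinearMap.mulLeft k z) (LinearMap.mulLeft k z⁻¹)
    (by ext y; simp [← mul_assoc, mul_inv_cancel₀ hz]) (by ext y; simp [← mul_assoc, inv_mul_cancel₀ hz])

@[simp] theorem mulEquiv'_apply (z : K) (hz : z ≠ 0) (y : K) :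
    mulEquiv' (k := k) z hz y = z * y := rfl

/-- twisting by a function -/
theorem mul_mem_L_iff' (hK : IsFunctionField k K) {D D' : Divisor k K} {z : K} (hz : z ≠ 0)
    (hdiv : FunFld.div k z = D - D') (G : Divisor k K) (y : K) :
    z * y ∈ L (D' - G) ↔ y ∈ L (D - G) := by
  by_cases hy : y = 0
  · subst hy; simp
  rw [mem_L_iff_div hK (mul_ne_zero hz hy), mem_L_iff_div hK hy, div_mul hK hz hy, hdiv]
  have : D - D' + FunFld.div k y + (D' - G) = FunFld.div k y + (D - G) := by abel
  rw [this]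

theorem map_L (hK : IsFunctionField k K) {D D' : Divisor k K} {z : K} (hz : z ≠ 0)
    (hdiv : FunFld.div k z = D - D') (G : Divisor k K) :
    (L (D - G)).map (mulEquiv' (k := k) z hz : K →ₗ[k] K) = L (D' - G) := by
  ext w
  constructor
  · rintro ⟨y, hy, rfl⟩
    exact (mul_mem_L_iff' hK hz hdiv G y).2 hy
  · intro hw
    refine ⟨z⁻¹ * w, ?_, ?_⟩
    · apply (mul_mem_L_iff' hK hz hdiv G _).1
      rw [← mul_assoc, mul_inv_cancel₀ hz, one_mul]; exact hw
    · simp [← mul_assoc, mul_inv_cancel₀ hz]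

theorem mem_L_sub_nat_iff (E : Divisor k K) (R : FunFld.Place k K) (n : ℕ) (y : K) :
    y ∈ L (E - Finsupp.single R (n : ℤ)) ↔ y ∈ L E ∧ v R y ≤ WithZero.exp (E R - n) := by
  classical
  constructor
  · intro h
    refine ⟨L_mono ?_ h, by simpa using h R⟩
    intro S
    simp only [Finsupp.coe_sub, Pi.sub_apply, Finsupp.single_apply]
    split_ifs <;> omega
  · rintro ⟨h1, h2⟩ S
    by_cases hS : R = S
    · subst hS; simpa using h2
    · have : (E - Finsupp.single R (n : ℤ)) S = E S := by
        simp [Finsupp.single_apply, hS]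
      rw [this]; exact h1 S

section main

variable [IsAlgClosed k] [CharZero k] (hK : IsFunctionField k K) (hg0 : genus k K = 0)

include hK hg0 in
/-- On a function field of genus zero, `L(d P∞)` consists of the polynomials of degree `≤ d`
in a coordinate. -/
theorem exists_poly_of_mem_L {Pinf : FunFld.Place k K} {x : K} (hx : IsCoord Pinf x) (d : ℕ)
    (y : K) (hy : y ∈ L (Finsupp.single Pinf (d : ℤ) : Divisor k K)) :
    ∃ p ∈ degreeLT k (d + 1), aeval x p = y := by
  classical
  set φ : k[X] →ₗ[k] K := (aeval x).toLinearMap with hφ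
  have hφinj : Function.Injective φ := by
    have := (transcendental_iff_injective.1 (hx.transcendental hK))
    exact this
  have hle : (degreeLT k (d + 1)).map φ ≤ L (Finsupp.single Pinf (d : ℤ) : Divisor k K) := by
    rintro w ⟨p, hp, rfl⟩
    have hp' : p ∈ degreeLT k (d + 1) := hp
    intro R
    by_cases hR : R = Pinf
    · subst hR
      simp only [Finsupp.single_eq_same]
      refine (hx.v_aeval_le hK p).trans ?_
      rw [WithZero.exp_le_exp]
      by_cases hp0 : p = 0
      · subst hp0; simp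
      · have := (natDegree_lt_iff_degree_lt hp0).2 (mem_degreeLT.1 hp')
        have : natDegree p ≤ d := by omega
        exact_mod_cast this
    · have : (Finsupp.single Pinf (d : ℤ) : Divisor k K) R = 0 := by
        simp [Finsupp.single_apply, Ne.symm hR]
      rw [this, WithZero.exp_zero]
      exact hx.v_aeval_finite_le_one hK hR p
  haveI := finiteDimensional_L hK (Finsupp.single Pinf (d : ℤ) : Divisor k K)
  have hdimL : Module.finrank k ↥(L (Finsupp.single Pinf (d : ℤ) : Divisor k K)) = d + 1 := by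
    have h := ell_eq_of_deg_ge hK (Finsupp.single Pinf (d : ℤ) : Divisor k K)
      (by rw [hg0, deg_single, deg_eq_one hK Pinf]; push_cast; nlinarith)
    rw [hg0, deg_single, deg_eq_one hK Pinf] at h
    rw [ell_def] at h
    push_cast at h
    have : (Module.finrank k ↥(L (Finsupp.single Pinf (d : ℤ) : Divisor k K)) : ℤ) = d + 1 := by
      linarith
    exact_mod_cast this
  have hdimP : Module.finrank k ↥((degreeLT k (d + 1)).map φ) = d + 1 := by
    rw [← (Submodule.equivMapOfInjective φ hφinj (degreeLT k (d + 1))).finrank_eq,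
      (degreeLTEquiv k (d + 1)).finrank_eq, Module.finrank_fin_fun]
  have heq := Submodule.eq_of_le_of_finrank_eq hle (by rw [hdimL, hdimP])
  rw [← heq] at hy
  obtain ⟨p, hp, hpy⟩ := hy
  exact ⟨p, hp, hpy⟩

theorem sum_pdim_eq_wsum (hK : IsFunctionField k K) (d : ℕ) (D : Divisor k K) (hD : D.deg = d)
    (V : Submodule k K) (R : FunFld.Place k K) :
    ∑ j ∈ Finset.range (d + 1), pdim D V R (j + 1) = wsum d D V R := by
  rw [Finset.sum_range_succ, pdim_eq_zero hK d D hD V R (d + 1) (by omega), add_zero,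
    wsum_eq_sum_pdim]
  apply Finset.sum_congr rfl
  intro j _
  rw [add_comm]

include hK hg0 in
/-- **Plücker inequality** on a function field of genus zero: the weights of a linear series at
finitely many distinct places add up to at most `(r+1)(d-r)`. -/
theorem plucker (d r : ℕ) (D : Divisor k K) (hD : D.deg = d) (V : Submodule k K) (hV : V ≤ L D)
    (hVr : Module.finrank k ↥V = r + 1) (S : Finset (FunFld.Place k K)) (hS : S.Nonempty) :
    ∑ R ∈ S, wsum d D V R + r * (r + 1) ≤ (r + 1) * d + S.card * (r * (r + 1) / 2) := by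
  classical
  obtain ⟨Pinf, hPinf⟩ := hS
  obtain ⟨x, hx⟩ := exists_isCoord hK hg0 Pinf
  have hVfin : Module.Finite k V := Module.finite_of_finrank_pos (by omega)
  set Dinf : Divisor k K := Finsupp.single Pinf (d : ℤ) with hDinf
  have hE : (Dinf - D).deg = 0 := by
    rw [deg_sub, hDinf, deg_single, deg_eq_one hK Pinf, hD]; push_cast; ring
  have hell : (ell (Dinf - D) : ℤ) = 1 := by
    rw [ell_eq_of_deg_ge hK _ (by rw [hg0, hE]; norm_num), hE, hg0]; norm_num
  obtain ⟨z, hz0, hzE⟩ := exists_ne_zero_mem_L hK (D := Dinf - D) (by omega)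
  have hdivz : FunFld.div k z = D - Dinf := by
    rw [div_eq_neg_of_mem_L hK hE hz0 hzE]; abel
  set μ : K ≃ₗ[k] K := mulEquiv' z hz0 with hμ
  set Vz : Submodule k K := V.map (μ : K →ₗ[k] K) with hVz
  have E2 : ∀ G : Divisor k K, (V ⊓ L (D - G)).map (μ : K →ₗ[k] K) = Vz ⊓ L (Dinf - G) := by
    intro G
    rw [Submodule.map_inf _ μ.injective, map_L hK hz0 hdivz G]
  have hVzL : Vz ≤ L Dinf := by
    have h := E2 0
    rw [sub_zero, sub_zero, inf_eq_left.2 hV] at h
    rw [← hVz] at h
    exact inf_eq_left.1 h.symm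
  set φ : k[X] →ₗ[k] K := (aeval x).toLinearMap with hφ
  have hφinj : Function.Injective φ := transcendental_iff_injective.1 (hx.transcendental hK)
  set V2 : Submodule k k[X] := Vz.comap φ with hV2
  have E1 : ∀ U : Submodule k K, U ≤ L Dinf →
      Module.finrank k ↥(U.comap φ) = Module.finrank k ↥U := by
    intro U hU
    have hrange : U ≤ LinearMap.range φ := fun y hy => by
      obtain ⟨p, -, hp⟩ := exists_poly_of_mem_L hK hg0 hx d y (hU hy)
      exact ⟨p, hp⟩
    have h := Submodule.map_comap_eq_of_le hrange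
    rw [(Submodule.equivMapOfInjective φ hφinj (U.comap φ)).finrank_eq, h]
  have hpiece : ∀ (R : FunFld.Place k K) (n : ℕ), pdim D V R n =
      Module.finrank k ↥((Vz ⊓ L (Dinf - Finsupp.single R (n : ℤ))).comap φ) := by
    intro R n
    unfold pdim
    rw [E1 _ (inf_le_left.trans hVzL), ← E2, LinearEquiv.finrank_map_eq]
  have hDinfR : ∀ R : FunFld.Place k K, R ≠ Pinf → Dinf R = 0 := by
    intro R hR
    simp [hDinf, Finsupp.single_apply, Ne.symm hR]
  have hDinfP : Dinf Pinf = d := by simp [hDinf]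
  have E3 : ∀ (R : FunFld.Place k K), R ≠ Pinf → ∀ n : ℕ,
      (Vz ⊓ L (Dinf - Finsupp.single R (n : ℤ))).comap φ = V2 ⊓ Fa (cval x R) n := by
    intro R hR n
    ext p
    simp only [Submodule.mem_comap, Submodule.mem_inf, mem_Fa, hV2]
    constructor
    · rintro ⟨hpV, hpL⟩
      refine ⟨hpV, (hx.v_aeval_le_iff hK hR p n).1 ?_⟩
      have := ((mem_L_sub_nat_iff Dinf R n _).1 hpL).2
      rw [hDinfR R hR, zero_sub] at this
      exact this
    · rintro ⟨hpV, hdvd⟩
      refine ⟨hpV, (mem_L_sub_nat_iff Dinf R n _).2 ⟨hVzL hpV, ?_⟩⟩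
      rw [hDinfR R hR, zero_sub]
      exact (hx.v_aeval_le_iff hK hR p n).2 hdvd
  have E4 : ∀ n : ℕ,
      (Vz ⊓ L (Dinf - Finsupp.single Pinf (n : ℤ))).comap φ = V2 ⊓ Gd d n := by
    intro n
    ext p
    simp only [Submodule.mem_comap, Submodule.mem_inf, hV2]
    unfold Gd
    rw [mem_degreeLT]
    constructor
    · rintro ⟨hpV, hpL⟩
      refine ⟨hpV, ?_⟩
      by_cases hp0 : p = 0
      · subst hp0
        rw [degree_zero]
        exact WithBot.bot_lt_coe _
      · have h1 := ((mem_L_sub_nat_iff Dinf Pinf n _).1 hpL).2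
        have h2 : φ p = aeval x p := rfl
        rw [hDinfP, h2, hx.v_aeval hK hp0, WithZero.exp_le_exp] at h1
        rw [degree_eq_natDegree hp0]
        have : natDegree p < d + 1 - n := by omega
        exact_mod_cast this
    · rintro ⟨hpV, hdeg⟩
      refine ⟨hpV, (mem_L_sub_nat_iff Dinf Pinf n _).2 ⟨hVzL hpV, ?_⟩⟩
      by_cases hp0 : p = 0
      · subst hp0; simp
      · have h2 : φ p = aeval x p := rfl
        rw [hDinfP, h2, hx.v_aeval hK hp0, WithZero.exp_le_exp]
        rw [degree_eq_natDegree hp0] at hdeg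
        have : natDegree p < d + 1 - n := by exact_mod_cast hdeg
        omega
  have hV2le : V2 ≤ degreeLT k (d + 1) := by
    have h := E4 0
    simp only [Nat.cast_zero, Finsupp.single_zero, sub_zero] at h
    rw [inf_eq_left.2 hVzL] at h
    have : V2 ≤ Gd d 0 := by
      rw [hV2, h]; exact inf_le_right
    simpa [Gd] using this
  have hV2r : Module.finrank k ↥V2 = r + 1 := by
    rw [hV2, E1 Vz hVzL, hVz, LinearEquiv.finrank_map_eq, hVr]
  have hstep : ∀ j, Module.finrank k ↥(V2 ⊓ Gd d j) ≤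
      Module.finrank k ↥(V2 ⊓ Gd d (j + 1)) + 1 := by
    intro j
    rw [← E4, ← E4, ← hpiece, ← hpiece]
    exact pdim_step hK r D V hVr Pinf j
  set S' := S.erase Pinf with hS'
  have hS'ne : ∀ R ∈ S', R ≠ Pinf := fun R hR => Finset.ne_of_mem_erase hR
  have hinj : Set.InjOn (cval x) (S' : Set (FunFld.Place k K)) := by
    intro R hR R' hR' h
    exact hx.cval_injective hK (hS'ne R hR) (hS'ne R' hR') h
  have hmain := poly_plucker d r V2 hV2le hV2r hstep (S'.image (cval x))
  rw [Finset.sum_image hinj, Finset.card_image_of_injOn hinj] at hmain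
  have h1 : ∑ R ∈ S', ∑ j ∈ Finset.range (d + 1), Module.finrank k ↥(V2 ⊓ Fa (cval x R) (j + 1)) =
      ∑ R ∈ S', wsum d D V R := by
    apply Finset.sum_congr rfl
    intro R hR
    rw [← sum_pdim_eq_wsum hK d D hD V R]
    apply Finset.sum_congr rfl
    intro j _
    rw [hpiece, E3 R (hS'ne R hR)]
  have h2 : ∑ j ∈ Finset.range (d + 1), Module.finrank k ↥(V2 ⊓ Gd d (j + 1)) =
      wsum d D V Pinf := by
    rw [← sum_pdim_eq_wsum hK d D hD V Pinf]
    apply Finset.sum_congr rfl
    intro j _
    rw [hpiece, E4]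
  rw [h1, h2] at hmain
  have h3 : ∑ R ∈ S, wsum d D V R = wsum d D V Pinf + ∑ R ∈ S', wsum d D V R :=
    (Finset.add_sum_erase S _ hPinf).symm
  have h4 : S.card = S'.card + 1 := (Finset.card_erase_add_one hPinf).symm
  rw [h3, h4]
  omega

include hK hg0 in
theorem plucker3 (d r : ℕ) (D : Divisor k K) (hD : D.deg = d) (V : Submodule k K) (hV : V ≤ L D)
    (hVr : Module.finrank k ↥V = r + 1) (P₁ P₂ P₃ : FunFld.Place k K)
    (h12 : P₁ ≠ P₂) (h13 : P₁ ≠ P₃) (h23 : P₂ ≠ P₃) :
    wsum d D V P₁ + wsum d D V P₂ + wsum d D V P₃ + r * (r + 1) ≤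
      (r + 1) * d + 3 * (r * (r + 1) / 2) := by
  classical
  have h := plucker hK hg0 d r D hD V hV hVr {P₁, P₂, P₃} ⟨P₁, by simp⟩
  rw [Finset.sum_insert (by simp [h12, h13]), Finset.sum_insert (by simp [h23]),
    Finset.sum_singleton, Finset.card_insert_of_notMem (by simp [h12, h13]),
    Finset.card_insert_of_notMem (by simp [h23]), Finset.card_singleton] at h
  omega

include hK hg0 in
theorem plucker4 (d r : ℕ) (D : Divisor k K) (hD : D.deg = d) (V : Submodule k K) (hV : V ≤ L D)
    (hVr : Module.finrank k ↥V = r + 1) (P₁ P₂ P₃ P₄ : FunFld.Place k K)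
    (h12 : P₁ ≠ P₂) (h13 : P₁ ≠ P₃) (h14 : P₁ ≠ P₄) (h23 : P₂ ≠ P₃) (h24 : P₂ ≠ P₄)
    (h34 : P₃ ≠ P₄) :
    wsum d D V P₁ + wsum d D V P₂ + wsum d D V P₃ + wsum d D V P₄ + r * (r + 1) ≤
      (r + 1) * d + 4 * (r * (r + 1) / 2) := by
  classical
  have h := plucker hK hg0 d r D hD V hV hVr {P₁, P₂, P₃, P₄} ⟨P₁, by simp⟩
  rw [Finset.sum_insert (by simp [h12, h13, h14]), Finset.sum_insert (by simp [h23, h24]),
    Finset.sum_insert (by simp [h34]),
    Finset.sum_singleton, Finset.card_insert_of_notMem (by simp [h12, h13, h14]),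
    Finset.card_insert_of_notMem (by simp [h23, h24]),
    Finset.card_insert_of_notMem (by simp [h34]), Finset.card_singleton] at h
  omega

end main

end Groth.Agent.Lib.Helper26.FunFldPlucker
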