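import Mathlib

set_option autoImplicit false

namespace Groth.Agent.Lib.Helper26.GITChain

open Finset

/-- hinge-sum function -/
noncomputable def rho (L : ℕ) (b : ℝ) (m : ℕ → ℝ) (x : ℕ) : ℝ :=
  b + ∑ s ∈ range (L + 1), m s * ((s - x : ℕ) : ℝ)

lemma rho_affine (L : ℕ) (b : ℝ) (m : ℕ → ℝ) (t : ℕ) (hm : ∀ s, m s ≠ 0 → t ≤ s) (x : ℕ)
    (hx : x ≤ t) :
    rho L b m x = rho L b m t + (∑ s ∈ range (L + 1), m s) * ((t : ℝ) - x) := by
  unfold rho
  rw [add_assoc, sum_mul, ← sum_add_distrib]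
  congr 1
  refine sum_congr rfl fun s _ => ?_
  by_cases h0 : m s = 0
  · simp [h0]
  · have hts := hm s h0
    rw [Nat.cast_sub (hx.trans hts), Nat.cast_sub hts]
    ring

lemma rho_add_single (L : ℕ) (b : ℝ) (m : ℕ → ℝ) (t : ℕ) (ht : t ≤ L) (a : ℝ) (x : ℕ) :
    rho L b (fun s => m s + if s = t then a else 0) x = rho L b m x + a * ((t - x : ℕ) : ℝ) := by
  unfold rho
  rw [add_assoc]
  congr 1
  simp only [add_mul, sum_add_distrib, ite_mul, zero_mul]
  rw [sum_ite_eq' (range (L + 1)) t, if_pos (mem_range.mpr (by omega))]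

lemma rho_antitone (L : ℕ) (b : ℝ) (m : ℕ → ℝ) (hm : ∀ s, 0 ≤ m s) {x y : ℕ} (hxy : x ≤ y) :
    rho L b m y ≤ rho L b m x := by
  unfold rho
  refine add_le_add le_rfl (sum_le_sum fun s _ => ?_)
  refine mul_le_mul_of_nonneg_left ?_ (hm s)
  exact_mod_cast Nat.sub_le_sub_left hxy s

/-- trapezoid sum of an affine piece -/
lemma trap_affine (f : ℕ → ℝ) (α β : ℝ) (a c : ℕ) (hac : a ≤ c)
    (hf : ∀ x, a ≤ x → x ≤ c → f x = α + β * x) :
    ∑ x ∈ Ico a c, (f x + f (x + 1)) = ((c : ℝ) - a) * (f a + f c) := by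
  induction c, hac using Nat.le_induction with
  | base => simp
  | succ c hac ih =>
    rw [sum_Ico_succ_top hac, ih fun x h1 h2 => hf x h1 (by omega)]
    rw [hf a le_rfl (by omega), hf c hac (by omega), hf (c + 1) (by omega) le_rfl]
    push_cast
    ring

/-- trapezoid sum of a hinge -/
lemma trap_hinge (L s : ℕ) :
    ∑ x ∈ range L, (((s - x : ℕ) : ℝ) + ((s - (x + 1) : ℕ) : ℝ)) =
      (s : ℝ) ^ 2 - ((s - L : ℕ) : ℝ) ^ 2 := by
  induction L with
  | zero => simp
  | succ L ih =>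
    rw [sum_range_succ, ih]
    rcases le_or_gt s L with h | h
    · rw [Nat.sub_eq_zero_of_le h, Nat.sub_eq_zero_of_le (by omega : s ≤ L + 1)]
      simp
    · rw [Nat.cast_sub h.le, Nat.cast_sub (by omega : L + 1 ≤ s)]
      push_cast
      ring

lemma trap_rho (L : ℕ) (b : ℝ) (m : ℕ → ℝ) :
    ∑ x ∈ range L, (rho L b m x + rho L b m (x + 1)) =
      2 * L * b + ∑ s ∈ range (L + 1), m s * (s : ℝ) ^ 2 := by
  unfold rho
  have h1 : ∀ x, (b + ∑ s ∈ range (L + 1), m s * ((s - x : ℕ) : ℝ)) +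
      (b + ∑ s ∈ range (L + 1), m s * ((s - (x + 1) : ℕ) : ℝ)) =
      2 * b + ∑ s ∈ range (L + 1), m s * (((s - x : ℕ) : ℝ) + ((s - (x + 1) : ℕ) : ℝ)) := by
    intro x
    rw [show (2 : ℝ) * b = b + b by ring]
    simp only [mul_add, sum_add_distrib]
    ring
  simp only [h1]
  rw [sum_add_distrib, sum_const, card_range, sum_comm]
  congr 1
  · simp; ring
  · refine sum_congr rfl fun s hs => ?_
    rw [← mul_sum, trap_hinge, Nat.sub_eq_zero_of_le (by rw [mem_range] at hs; omega)]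
    simp


section March
variable {n : ℕ} (e : Fin (n + 1) → ℕ) (r : Fin (n + 1) → ℝ) (L : ℕ)

/-- edge contribution -/
noncomputable def F (a b : Fin (n + 1)) : ℝ := ((e b : ℝ) - (e a : ℝ)) * (r b + r a)

lemma sum_cons {μ : ℕ} (u : Fin (n + 1)) (c : Fin (μ + 1) → Fin (n + 1)) :
    ∑ j : Fin (μ + 1), F e r ((Fin.cons u c : Fin (μ + 2) → Fin (n + 1)) j.castSucc)
        ((Fin.cons u c : Fin (μ + 2) → Fin (n + 1)) j.succ) =
      F e r u (c 0) + ∑ j : Fin μ, F e r (c j.castSucc) (c j.succ) := by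
  rw [Fin.sum_univ_succ]
  congr 1

lemma last_cons {μ : ℕ} (u : Fin (n + 1)) (c : Fin (μ + 1) → Fin (n + 1)) :
    (Fin.cons u c : Fin (μ + 2) → Fin (n + 1)) (Fin.last (μ + 1)) = c (Fin.last μ) := by
  rw [← Fin.succ_last, Fin.cons_succ]

lemma march (he0 : e 0 = 0) (hen : e (Fin.last n) = L) (hmono : Monotone e) :
    ∀ (k : ℕ) (v : Fin (n + 1)), v.val = k → ∀ (b : ℝ) (m : ℕ → ℝ) (μ : ℕ)
      (c : Fin (μ + 1) → Fin (n + 1)),
      (∀ s, 0 ≤ m s) → (∀ s, m s ≠ 0 → e v ≤ s) → StrictMono c → c 0 = v →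
      c (Fin.last μ) = Fin.last n →
      rho L b m (e v) = r v → (∀ i, rho L b m (e i) ≤ r i) →
      (∑ j : Fin μ, F e r (c j.castSucc) (c j.succ) =
        ∑ x ∈ Ico (e v) L, (rho L b m x + rho L b m (x + 1))) →
      ∃ (b' : ℝ) (m' : ℕ → ℝ) (μ' : ℕ) (c' : Fin (μ' + 1) → Fin (n + 1)),
        (∀ s, 0 ≤ m' s) ∧ StrictMono c' ∧ c' 0 = 0 ∧ c' (Fin.last μ') = Fin.last n ∧
        (∀ i, rho L b' m' (e i) ≤ r i) ∧
        ∑ j : Fin μ', F e r (c' j.castSucc) (c' j.succ) =
          ∑ x ∈ range L, (rho L b' m' x + rho L b' m' (x + 1)) := by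
  intro k
  induction k using Nat.strong_induction_on with
  | _ k ih =>
  intro v hv b m μ c hm hsupp hc hc0 hcl hrv hle hsum
  rcases Nat.eq_zero_or_pos (e v) with hev | hev
  · by_cases hv0 : v = 0
    · subst hv0
      refine ⟨b, m, μ, c, hm, hc, hc0, hcl, hle, ?_⟩
      rw [hsum, hev, range_eq_Ico]
    · refine ⟨b, m, μ + 1, Fin.cons 0 c, hm, ?_, Fin.cons_zero _ _, ?_, hle, ?_⟩
      · refine Fin.strictMono_cons.mpr ⟨fun j => ?_, hc⟩
        have h1 : (0 : Fin (n + 1)) < c 0 := by rw [hc0]; exact Fin.pos_iff_ne_zero.mpr hv0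
        exact lt_of_lt_of_le h1 (hc.monotone (Fin.zero_le j))
      · rw [last_cons, hcl]
      · rw [sum_cons, hsum, hev, range_eq_Ico, hc0, F, hev, he0]
        simp
  · set U := univ.filter (fun u : Fin (n + 1) => e u < e v) with hU
    have hUne : U.Nonempty := ⟨0, by simp [hU, he0, hev]⟩
    set slope : Fin (n + 1) → ℝ := fun u => (r v - r u) / ((e v : ℝ) - e u) with hslope
    obtain ⟨u, huU, hmax⟩ := exists_max_image U slope hUne
    have hu : e u < e v := (mem_filter.mp huU).2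
    have huv : u < v := by
      by_contra h
      push Not at h
      have := hmono h
      omega
    have hevL : e v ≤ L := hen ▸ hmono (Fin.le_last v)
    set σ : ℝ := -∑ s ∈ range (L + 1), m s with hσdef
    have hform : ∀ x ≤ e v, rho L b m x = r v - σ * ((e v : ℝ) - x) := by
      intro x hx
      rw [rho_affine L b m (e v) hsupp x hx, hrv, hσdef]
      ring
    have hslope_mul : ∀ i, e i < e v → slope i * ((e v : ℝ) - e i) = r v - r i := by
      intro i hi
      have : (0 : ℝ) < (e v : ℝ) - e i := by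
        rw [sub_pos]; exact_mod_cast hi
      rw [hslope]
      exact div_mul_cancel₀ _ this.ne'
    have hd : (0 : ℝ) < (e v : ℝ) - e u := by
      rw [sub_pos]; exact_mod_cast hu
    have hσ : slope u ≤ σ := by
      have h1 := hle u
      rw [hform (e u) hu.le] at h1
      have h2 := hslope_mul u hu
      by_contra hcon
      push Not at hcon
      have := mul_lt_mul_of_pos_right hcon hd
      linarith
    set a : ℝ := σ - slope u with ha
    have ha0 : 0 ≤ a := sub_nonneg.mpr hσ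
    set m' : ℕ → ℝ := fun s => m s + if s = e v then a else 0 with hm'
    have hrho' : ∀ x, rho L b m' x = rho L b m x + a * ((e v - x : ℕ) : ℝ) :=
      rho_add_single L b m (e v) hevL a
    have hform' : ∀ x ≤ e v, rho L b m' x = r v - slope u * ((e v : ℝ) - x) := by
      intro x hx
      rw [hrho', hform x hx, Nat.cast_sub hx, ha]
      ring
    have hge : ∀ x, e v ≤ x → rho L b m' x = rho L b m x := by
      intro x hx
      rw [hrho', Nat.sub_eq_zero_of_le hx]
      simp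
    have huk : u.val < k := by
      rw [← hv]; exact huv
    apply ih u.val huk u rfl b m' (μ + 1) (Fin.cons u c)
    · intro s
      rw [hm']
      refine add_nonneg (hm s) ?_
      split_ifs
      · exact ha0
      · exact le_rfl
    · intro s hs
      by_cases hse : s = e v
      · rw [hse]; exact hu.le
      · rw [hm'] at hs
        simp only [if_neg hse, add_zero] at hs
        exact hu.le.trans (hsupp s hs)
    · refine Fin.strictMono_cons.mpr ⟨fun j => ?_, hc⟩
      have h1 : u < c 0 := by rw [hc0]; exact huv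
      exact lt_of_lt_of_le h1 (hc.monotone (Fin.zero_le j))
    · exact Fin.cons_zero _ _
    · rw [last_cons, hcl]
    · rw [hform' (e u) hu.le, hslope_mul u hu]
      ring
    · intro i
      by_cases hi : e v ≤ e i
      · rw [hge _ hi]; exact hle i
      · push Not at hi
        rw [hform' (e i) hi.le]
        have h1 : slope i ≤ slope u := hmax i (mem_filter.mpr ⟨mem_univ _, hi⟩)
        have h2 := hslope_mul i hi
        have h3 : (0 : ℝ) < (e v : ℝ) - e i := by
          rw [sub_pos]; exact_mod_cast hi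
        have := mul_le_mul_of_nonneg_right h1 h3.le
        linarith
    · rw [sum_cons, hsum, ← sum_Ico_consecutive _ hu.le hevL]
      have h1 : ∑ x ∈ Ico (e v) L, (rho L b m' x + rho L b m' (x + 1)) =
          ∑ x ∈ Ico (e v) L, (rho L b m x + rho L b m (x + 1)) := by
        refine sum_congr rfl fun x hx => ?_
        rw [mem_Ico] at hx
        rw [hge x hx.1, hge (x + 1) (by omega)]
      have h2 := trap_affine (rho L b m') (r v - slope u * (e v : ℝ)) (slope u) (e u) (e v) hu.le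
        (fun x _ hx => by rw [hform' x hx]; ring)
      rw [h1, h2, hform' (e u) hu.le, hform' (e v) le_rfl, hslope_mul u hu, hc0, F]
      ring

end March


lemma A_formula (t u : ℕ) :
    2 * ∑ i ∈ range u, ((t - i : ℕ) : ℝ) =
      (t : ℝ) * (t + 1) - ((t - u : ℕ) : ℝ) * (((t - u : ℕ) : ℝ) + 1) := by
  induction u with
  | zero => simp
  | succ u ih =>
    rw [sum_range_succ, mul_add, ih]
    rcases le_or_gt t u with h | h
    · rw [Nat.sub_eq_zero_of_le h, Nat.sub_eq_zero_of_le (by omega : t ≤ u + 1)]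
      simp
    · rw [Nat.cast_sub h.le, Nat.cast_sub (by omega : u + 1 ≤ t)]
      push_cast
      ring

/-- the extremal sequence -/
def eps (n g : ℕ) (i : ℕ) : ℕ := if i ≤ n - g then i else i + g

lemma T_formula (n g : ℕ) (hg : 1 ≤ g) (hn : 2 * g ≤ n) (s : ℕ) (hs : s ≤ n + g) :
    2 * ∑ i ∈ range (n + 1), ((s - eps n g i : ℕ) : ℝ) =
      (s : ℝ) * (s + 1) - ((s - (n - g + 1) : ℕ) : ℝ) * (((s - (n - g + 1) : ℕ) : ℝ) + 1) +
        ((s - (n + 1) : ℕ) : ℝ) * (((s - (n + 1) : ℕ) : ℝ) + 1) := by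
  have h1 : n + 1 = (n - g + 1) + g := by omega
  rw [h1, sum_range_add, mul_add]
  have h2 : ∑ i ∈ range (n - g + 1), ((s - eps n g i : ℕ) : ℝ) =
      ∑ i ∈ range (n - g + 1), ((s - i : ℕ) : ℝ) := by
    refine sum_congr rfl fun i hi => ?_
    rw [mem_range] at hi
    rw [eps, if_pos (by omega)]
  have h3 : ∑ j ∈ range g, ((s - eps n g (n - g + 1 + j) : ℕ) : ℝ) =
      ∑ j ∈ range g, ((s - (n + 1) - j : ℕ) : ℝ) := by
    refine sum_congr rfl fun j hj => ?_
    rw [mem_range] at hj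
    rw [eps, if_neg (by omega)]
    congr 1
    omega
  rw [h2, h3, A_formula, A_formula, ← h1]
  have h4 : s - (n + 1) - g = 0 := by omega
  rw [h4]
  simp

lemma key (n g : ℕ) (hg : 1 ≤ g) (hn : 2 * g ≤ n) (s : ℕ) (hs : s ≤ n + g) (hs1 : 1 ≤ s) :
    ((n : ℝ) + 1) * (s : ℝ) ^ 2 <
      2 * ((n : ℝ) + g) * ∑ i ∈ range (n + 1), ((s - eps n g i : ℕ) : ℝ) := by
  have hT := T_formula n g hg hn s hs
  have hgR : (1 : ℝ) ≤ g := by exact_mod_cast hg
  have hnR : 2 * (g : ℝ) ≤ n := by exact_mod_cast hn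
  have hsR : (1 : ℝ) ≤ s := by exact_mod_cast hs1
  have hsL : (s : ℝ) ≤ n + g := by exact_mod_cast hs
  rcases le_or_gt s (n - g + 1) with h1 | h1
  · -- range 1
    rw [Nat.sub_eq_zero_of_le h1, Nat.sub_eq_zero_of_le (by omega : s ≤ n + 1)] at hT
    simp only [Nat.cast_zero, zero_mul, sub_zero, add_zero] at hT
    nlinarith [mul_nonneg (sub_nonneg.mpr hgR) (by linarith : (0 : ℝ) ≤ s)]
  · rcases le_or_gt s (n + 1) with h2 | h2
    · -- range 2
      rw [Nat.sub_eq_zero_of_le h2, Nat.cast_sub h1.le] at hT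
      have hu : ((n - g + 1 : ℕ) : ℝ) = n - g + 1 := by
        rw [Nat.cast_add, Nat.cast_sub (by omega)]; simp
      rw [hu] at hT
      simp only [Nat.cast_zero, zero_mul, add_zero] at hT
      have h3 : (n : ℝ) - g + 1 ≤ s := by
        have : ((n - g + 1 : ℕ) : ℝ) ≤ s := by exact_mod_cast h1.le
        rwa [hu] at this
      have h4 : (s : ℝ) ≤ n + 1 := by exact_mod_cast h2
      set S : ℝ := (s : ℝ) with hS
      set N : ℝ := (n : ℝ) with hN
      set G : ℝ := (g : ℝ) with hG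
      set T : ℝ := ∑ i ∈ range (n + 1), ((s - eps n g i : ℕ) : ℝ) with hTdef
      have fu : (1 : ℝ) ≤ (N - G + 1) * ((G - 1) * (N - G + 1) + N + G) := by
        nlinarith [mul_nonneg (sub_nonneg.mpr hgR) (by linarith : (0 : ℝ) ≤ N - G + 1)]
      have fN : (1 : ℝ) ≤ (N + 1 - G) * (G * (N + 1) - 1) - G ^ 3 := by
        have hx : (0 : ℝ) ≤ N - 2 * G := by linarith
        have hg0 : (0 : ℝ) ≤ G - 1 := by linarith
        nlinarith [mul_nonneg hx hg0, mul_nonneg hx hx, mul_nonneg (mul_nonneg hx hg0) hg0,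
          mul_nonneg (mul_nonneg hx hx) hg0, mul_nonneg hg0 hg0,
          mul_nonneg (mul_nonneg hg0 hg0) hg0]
      have hid : G * (2 * (N + G) * T - (N + 1) * S ^ 2) =
          (N + 1 - S) * ((N - G + 1) * ((G - 1) * (N - G + 1) + N + G)) +
          (S - (N - G + 1)) * ((N + 1 - G) * (G * (N + 1) - 1) - G ^ 3) +
          (N + 1) * G * (S - (N - G + 1)) * (N + 1 - S) := by
        have : 2 * (N + G) * T = (N + G) * (2 * T) := by ring
        rw [this, hT]
        ring
      have h5 : 0 < G * (2 * (N + G) * T - (N + 1) * S ^ 2) := by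
        rw [hid]
        have e1 : (0 : ℝ) ≤ N + 1 - S := by linarith
        have e2 : (0 : ℝ) ≤ S - (N - G + 1) := by linarith
        nlinarith [mul_nonneg e1 (by linarith : (0 : ℝ) ≤ (N - G + 1) * ((G - 1) * (N - G + 1) + N + G) - 1),
          mul_nonneg e2 (by linarith : (0 : ℝ) ≤ (N + 1 - G) * (G * (N + 1) - 1) - G ^ 3 - 1),
          mul_nonneg (mul_nonneg (mul_nonneg (by linarith : (0 : ℝ) ≤ N + 1) (by linarith : (0 : ℝ) ≤ G)) e2) e1]
      have h6 : 0 < 2 * (N + G) * T - (N + 1) * S ^ 2 := by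
        by_contra hcon
        push Not at hcon
        have : G * (2 * (N + G) * T - (N + 1) * S ^ 2) ≤ 0 :=
          mul_nonpos_of_nonneg_of_nonpos (by linarith) hcon
        linarith
      linarith
    · -- range 3
      rw [Nat.cast_sub h2.le, Nat.cast_sub h1.le] at hT
      have hu : ((n - g + 1 : ℕ) : ℝ) = n - g + 1 := by
        rw [Nat.cast_add, Nat.cast_sub (by omega)]; simp
      rw [hu] at hT
      push_cast at hT
      have h4 : (n : ℝ) + 1 ≤ s := by exact_mod_cast h2.le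
      set S : ℝ := (s : ℝ) with hS
      set N : ℝ := (n : ℝ) with hN
      set G : ℝ := (g : ℝ) with hG
      set T : ℝ := ∑ i ∈ range (n + 1), ((s - eps n g i : ℕ) : ℝ) with hTdef
      have hid : 2 * (N + G) * T - (N + 1) * S ^ 2 =
          (N + G) * G * (N + 1 - 2 * G) + (N + G - S) * (N + 1) +
            (G - 1) * (N + G - S) * (N + G - S + 1) := by
        have : 2 * (N + G) * T = (N + G) * (2 * T) := by ring
        rw [this, hT]
        ring
      have e1 : (0 : ℝ) ≤ N + G - S := by linarith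
      have e2 : (0 : ℝ) ≤ G - 1 := by linarith
      have e3 : (0 : ℝ) < (N + G) * G * (N + 1 - 2 * G) := by
        have : (0 : ℝ) < N + 1 - 2 * G := by linarith
        positivity
      have e4 : (0 : ℝ) ≤ (N + G - S) * (N + 1) := mul_nonneg e1 (by linarith)
      have e5 : (0 : ℝ) ≤ (G - 1) * (N + G - S) * (N + G - S + 1) :=
        mul_nonneg (mul_nonneg e2 e1) (by linarith)
      linarith


theorem main (n g : ℕ) (hg : 1 ≤ g) (hn : 2 * g ≤ n)
    (e : Fin (n + 1) → ℕ) (he0 : e 0 = 0) (hen : e (Fin.last n) = n + g) (hmono : Monotone e)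
    (hle : ∀ i : Fin (n + 1), (i : ℕ) ≤ n - g → e i ≤ (i : ℕ))
    (hle' : ∀ i : Fin (n + 1), e i ≤ (i : ℕ) + g)
    (r : Fin (n + 1) → ℝ) (hanti : Antitone r) (hsum : ∑ i, r i = 0) (hr : r ≠ 0) :
    ∃ (μ : ℕ) (c : Fin (μ + 1) → Fin (n + 1)), StrictMono c ∧ c 0 = 0 ∧
      c (Fin.last μ) = Fin.last n ∧
      ∑ j : Fin μ, ((e (c j.succ) : ℝ) - (e (c j.castSucc) : ℝ)) *
        (r (c j.succ) + r (c j.castSucc)) < 0 := by
  set L := n + g with hL
  obtain ⟨b, m, μ, c, hm, hc, hc0, hcl, hρ, hS⟩ :=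
    march e r L he0 hen hmono n (Fin.last n) rfl (r (Fin.last n)) 0 0 (fun _ => Fin.last n)
      (by simp) (by simp) (fun i j hij => by have hi := i.isLt; have hj := j.isLt; have := Fin.lt_def.mp hij; omega) rfl rfl (by simp [rho])
      (fun i => by simpa [rho] using hanti (Fin.le_last i)) (by simp [hen])
  refine ⟨μ, c, hc, hc0, hcl, ?_⟩
  change ∑ j : Fin μ, F e r (c j.castSucc) (c j.succ) < 0
  rw [hS, trap_rho]
  -- r_last < 0
  have hrl : r (Fin.last n) < 0 := by
    by_contra hcon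
    push Not at hcon
    have hnn : ∀ i ∈ (univ : Finset (Fin (n + 1))), 0 ≤ r i :=
      fun i _ => hcon.trans (hanti (Fin.le_last i))
    have := (sum_eq_zero_iff_of_nonneg hnn).mp hsum
    exact hr (funext fun i => this i (mem_univ i))
  -- b ≤ r_last
  have hb : b ≤ r (Fin.last n) := by
    have h1 := hρ (Fin.last n)
    rw [hen] at h1
    have h2 : rho L b m L = b := by
      unfold rho
      rw [add_eq_left]
      refine sum_eq_zero fun s hs => ?_
      rw [mem_range] at hs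
      rw [Nat.sub_eq_zero_of_le (by omega)]
      simp
    rwa [h2] at h1
  -- sample sums
  have h1 : ∑ i : Fin (n + 1), rho L b m (e i) ≤ 0 := by
    rw [← hsum]; exact sum_le_sum fun i _ => hρ i
  have h2 : ∀ i : Fin (n + 1), rho L b m (eps n g i) ≤ rho L b m (e i) := by
    intro i
    apply rho_antitone L b m hm
    unfold eps
    split_ifs with h
    · exact hle i h
    · exact hle' i
  have h3 : ∑ i : Fin (n + 1), rho L b m (eps n g i) =
      ((n : ℝ) + 1) * b + ∑ s ∈ range (L + 1), m s *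
        ∑ i ∈ range (n + 1), ((s - eps n g i : ℕ) : ℝ) := by
    rw [Fin.sum_univ_eq_sum_range (fun i => rho L b m (eps n g i)) (n + 1)]
    unfold rho
    rw [sum_add_distrib, sum_const, card_range, sum_comm]
    congr 1
    · simp
    · refine sum_congr rfl fun s _ => ?_
      rw [mul_sum]
  have h4 : ((n : ℝ) + 1) * b + ∑ s ∈ range (L + 1), m s *
        ∑ i ∈ range (n + 1), ((s - eps n g i : ℕ) : ℝ) ≤ 0 := by
    rw [← h3]
    exact (sum_le_sum fun i _ => h2 i).trans h1
  by_contra hcon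
  push Not at hcon
  have hLpos : (0 : ℝ) < L := by
    have : 0 < L := by omega
    exact_mod_cast this
  have hLc : (L : ℝ) = (n : ℝ) + g := by rw [hL]; push_cast; ring
  -- some m s > 0 with s ≥ 1
  have hpos : 0 < ∑ s ∈ range (L + 1), m s * (s : ℝ) ^ 2 := by
    nlinarith [mul_pos hLpos (by linarith : (0 : ℝ) < -b)]
  have hex : ∃ s ∈ range (L + 1), 0 < m s * (s : ℝ) ^ 2 := by
    by_contra h
    push Not at h
    exact absurd (sum_nonpos h) (not_le.mpr hpos)
  obtain ⟨s₀, hs₀, hs₀pos⟩ := hex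
  have hs₀1 : 1 ≤ s₀ := by
    rcases Nat.eq_zero_or_pos s₀ with h | h
    · rw [h] at hs₀pos; simp at hs₀pos
    · exact h
  have hms₀ : 0 < m s₀ := by
    rcases (hm s₀).lt_or_eq with h | h
    · exact h
    · rw [← h] at hs₀pos; simp at hs₀pos
  have hstrict : ∑ s ∈ range (L + 1), m s * (((n : ℝ) + 1) * (s : ℝ) ^ 2) <
      ∑ s ∈ range (L + 1), m s * (2 * ((n : ℝ) + g) *
        ∑ i ∈ range (n + 1), ((s - eps n g i : ℕ) : ℝ)) := by
    apply sum_lt_sum
    · intro s hs
      rw [mem_range] at hs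
      refine mul_le_mul_of_nonneg_left ?_ (hm s)
      rcases Nat.eq_zero_or_pos s with h | h
      · subst h; simp
      · exact (key n g hg hn s (by omega) h).le
    · refine ⟨s₀, hs₀, ?_⟩
      rw [mem_range] at hs₀
      exact mul_lt_mul_of_pos_left (key n g hg hn s₀ (by omega) hs₀1) hms₀
  have e1 : ∑ s ∈ range (L + 1), m s * (((n : ℝ) + 1) * (s : ℝ) ^ 2) =
      ((n : ℝ) + 1) * ∑ s ∈ range (L + 1), m s * (s : ℝ) ^ 2 := by
    rw [mul_sum]; refine sum_congr rfl fun s _ => by ring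
  have e2 : ∑ s ∈ range (L + 1), m s * (2 * ((n : ℝ) + g) *
        ∑ i ∈ range (n + 1), ((s - eps n g i : ℕ) : ℝ)) =
      2 * ((n : ℝ) + g) * ∑ s ∈ range (L + 1), m s *
        ∑ i ∈ range (n + 1), ((s - eps n g i : ℕ) : ℝ) := by
    rw [mul_sum]; refine sum_congr rfl fun s _ => by ring
  rw [e1, e2] at hstrict
  have hn0 : (0 : ℝ) ≤ n := Nat.cast_nonneg n
  have hg0 : (0 : ℝ) ≤ g := Nat.cast_nonneg g
  rw [hLc] at hcon hLpos
  nlinarith [mul_nonneg (by linarith : (0 : ℝ) ≤ (n : ℝ) + 1) hcon,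
    mul_nonneg hLpos.le (neg_nonneg.mpr h4)]

end Groth.Agent.Lib.Helper26.GITChain
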