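import Mathlib
import Groth.Prelude.Def_EtRam
import Groth.Agent.Lib.Helper26.TameSub
import Groth.Agent.Lib.Helper26.UnrBC
import Groth.Agent.Lib.Helper26.TameBC

set_option autoImplicit false
set_option linter.unusedVariables false
set_option linter.style.haveILetI false
set_option linter.unusedSectionVars false
set_option linter.unusedSimpArgs false

universe u

namespace Groth.Agent.Lib.Helper26.GalClos

open IsLocalRing TensorProduct Groth.Agent.Lib.Helper26.TameSub

section Generic

-- a predicate on extensions (such as "unramified" or "tamely ramified")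
variable (P : ∀ (A : Type u) [CommRing A] [IsLocalRing A] {L : Type u} [Field L] (g : A →+* L), Prop)

/-- stable under sub-extensions -/
def HSub : Prop :=
  ∀ (A K : Type u) [CommRing A] [IsDomain A] [IsDiscreteValuationRing A] [Field K] [Algebra A K]
    [IsFractionRing A K] (L M : Type u) [Field L] [Field M] [Algebra K L] [Algebra K M] [Algebra L M]
    [IsScalarTower K L M] [FiniteDimensional K M] [Algebra.IsSeparable K M],
    P A ((algebraMap K M).comp (algebraMap A K)) → P A ((algebraMap K L).comp (algebraMap A K))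

/-- transitive -/
def HTrans : Prop :=
  ∀ (A K : Type u) [CommRing A] [IsDomain A] [IsDiscreteValuationRing A] [Field K] [Algebra A K]
    [IsFractionRing A K] (L M : Type u) [Field L] [Field M] [Algebra K L] [Algebra K M] [Algebra L M]
    [IsScalarTower K L M] [FiniteDimensional K M] [Algebra.IsSeparable K M],
    P A ((algebraMap K L).comp (algebraMap A K)) →
    (∀ (V : ValuationSubring L), EtRam.Dominates A ((algebraMap K L).comp (algebraMap A K)) V →
      P V ((algebraMap L M).comp V.subtype)) →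
    P A ((algebraMap K M).comp (algebraMap A K))

/-- stable under base change -/
def HBC : Prop :=
  ∀ (A B K L K' : Type u) [CommRing A] [IsDomain A] [IsDiscreteValuationRing A] [CommRing B] [IsDomain B]
    [IsDiscreteValuationRing B] [Algebra A B] [IsLocalHom (algebraMap A B)] [Field K] [Field L] [Field K']
    [Algebra A K] [IsFractionRing A K] [Algebra B L] [IsFractionRing B L] [Algebra K L]
    [Algebra A L] [IsScalarTower A K L] [IsScalarTower A B L] [Algebra K K'] [FiniteDimensional K K']
    (F : Type u) [Field F] [Algebra (K' ⊗[K] L) F] [Algebra.IsSeparable K K'],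
    Function.Injective (algebraMap A B) →
    P A ((algebraMap K K').comp (algebraMap A K)) →
    Function.Surjective (algebraMap (K' ⊗[K] L) F) →
    P B ((algebraMap (K' ⊗[K] L) F).comp
      ((Algebra.TensorProduct.includeRight : L →ₐ[K] K' ⊗[K] L).toRingHom.comp (algebraMap B L)))

variable {P}

variable (A K : Type u) [CommRing A] [IsDomain A] [IsDiscreteValuationRing A] [Field K] [Algebra A K]
  [IsFractionRing A K]

/-- the compositum lemma -/
theorem compositum (hT : HTrans P) (hB : HBC P)
    (E₁ E₂ F : Type u) [Field E₁] [Field E₂] [Field F] [Algebra K E₁] [Algebra K E₂] [Algebra K F]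
    [FiniteDimensional K E₁] [Algebra.IsSeparable K E₁] [FiniteDimensional K E₂]
    [Algebra.IsSeparable K E₂]
    (i₁ : E₁ →ₐ[K] F) (i₂ : E₂ →ₐ[K] F)
    (hsurj : Function.Surjective (Algebra.TensorProduct.productMap i₁ i₂))
    (h₁ : P A ((algebraMap K E₁).comp (algebraMap A K)))
    (h₂ : P A ((algebraMap K E₂).comp (algebraMap A K))) :
    FiniteDimensional K F ∧ Algebra.IsSeparable K F ∧
      P A ((algebraMap K F).comp (algebraMap A K)) := by
  haveI hfin : FiniteDimensional K F :=
    Module.Finite.of_surjective (Algebra.TensorProduct.productMap i₁ i₂).toLinearMap hsurj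
  haveI : Algebra.FormallyUnramified K E₁ := Algebra.FormallyUnramified.of_isSeparable _ _
  haveI : Algebra.FormallyUnramified K E₂ := Algebra.FormallyUnramified.of_isSeparable _ _
  haveI : Algebra.FormallyUnramified E₁ (E₁ ⊗[K] E₂) := inferInstance
  haveI : Algebra.FormallyUnramified K (E₁ ⊗[K] E₂) := Algebra.FormallyUnramified.comp K E₁ _
  haveI : Algebra.FormallyUnramified K F :=
    Algebra.FormallyUnramified.of_surjective (Algebra.TensorProduct.productMap i₁ i₂) hsurj
  haveI hsepF : Algebra.IsSeparable K F := Algebra.FormallyUnramified.isSeparable K F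
  refine ⟨hfin, hsepF, ?_⟩
  letI algTF : Algebra (E₁ ⊗[K] E₂) F := (Algebra.TensorProduct.productMap i₁ i₂).toRingHom.toAlgebra
  letI algE₂F : Algebra E₂ F := i₂.toRingHom.toAlgebra
  haveI : IsScalarTower K E₂ F := IsScalarTower.of_algebraMap_eq (fun x => (i₂.commutes x).symm)
  apply hT A K E₂ F h₂
  intro V hV
  haveI hVdvr : IsDiscreteValuationRing V := isDVR_of_dominates A K E₂ V hV
  letI algAV : Algebra A V :=
    (RingHom.codRestrict ((algebraMap K E₂).comp (algebraMap A K)) V hV.1).toAlgebra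
  haveI hlocAV : IsLocalHom (algebraMap A V) := isLocalHom_of_dominates A _ _ hV
  letI algAE₂ : Algebra A E₂ := ((algebraMap K E₂).comp (algebraMap A K)).toAlgebra
  haveI : IsScalarTower A K E₂ := IsScalarTower.of_algebraMap_eq (fun _ => rfl)
  haveI : IsScalarTower A V E₂ := IsScalarTower.of_algebraMap_eq (fun _ => rfl)
  have hinjAV : Function.Injective (algebraMap A V) := by
    intro a b hab
    have h1 : ((algebraMap K E₂).comp (algebraMap A K)) a = ((algebraMap K E₂).comp (algebraMap A K)) b :=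
      congrArg Subtype.val hab
    exact (IsFractionRing.injective A K) ((algebraMap K E₂).injective h1)
  have hres := hB A V K E₂ E₁ F hinjAV h₁ hsurj
  have heq : ((algebraMap (E₁ ⊗[K] E₂) F).comp
      ((Algebra.TensorProduct.includeRight : E₂ →ₐ[K] E₁ ⊗[K] E₂).toRingHom.comp (algebraMap V E₂))) =
      (algebraMap E₂ F).comp V.subtype := by
    ext v
    show Algebra.TensorProduct.productMap i₁ i₂ ((1 : E₁) ⊗ₜ[K] (v : E₂)) = i₂ (v : E₂)
    rw [Algebra.TensorProduct.productMap_apply_tmul, map_one, one_mul]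
  rw [heq] at hres
  exact hres

/-- two extensions with property `P` embed into a common one -/
theorem common_ext (hT : HTrans P) (hB : HBC P)
    (L₁ L₂ : Type u) [Field L₁] [Field L₂] [Algebra K L₁] [Algebra K L₂]
    [FiniteDimensional K L₁] [FiniteDimensional K L₂]
    [Algebra.IsSeparable K L₁] [Algebra.IsSeparable K L₂]
    (h₁ : P A ((algebraMap K L₁).comp (algebraMap A K)))
    (h₂ : P A ((algebraMap K L₂).comp (algebraMap A K))) :
    ∃ (M : Type u) (_ : Field M) (_ : Algebra K M) (_ : FiniteDimensional K M)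
      (_ : Algebra.IsSeparable K M) (_ : L₁ →ₐ[K] M) (_ : L₂ →ₐ[K] M),
      P A ((algebraMap K M).comp (algebraMap A K)) := by
  obtain ⟨𝔪, h𝔪⟩ := Ideal.exists_maximal (L₁ ⊗[K] L₂)
  letI : Field ((L₁ ⊗[K] L₂) ⧸ 𝔪) := Ideal.Quotient.field 𝔪
  let q : L₁ ⊗[K] L₂ →ₐ[K] (L₁ ⊗[K] L₂) ⧸ 𝔪 := Ideal.Quotient.mkₐ K 𝔪
  let i₁ : L₁ →ₐ[K] (L₁ ⊗[K] L₂) ⧸ 𝔪 := q.comp Algebra.TensorProduct.includeLeft
  let i₂ : L₂ →ₐ[K] (L₁ ⊗[K] L₂) ⧸ 𝔪 := q.comp Algebra.TensorProduct.includeRight
  have hq : ∀ x, Algebra.TensorProduct.productMap i₁ i₂ x = q x := by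
    intro x
    induction x using TensorProduct.induction_on with
    | zero => rw [map_zero, map_zero]
    | tmul a b =>
      rw [Algebra.TensorProduct.productMap_apply_tmul]
      show q (a ⊗ₜ 1) * q (1 ⊗ₜ b) = q (a ⊗ₜ b)
      rw [← map_mul, Algebra.TensorProduct.tmul_mul_tmul, mul_one, one_mul]
    | add a b ha hb => rw [map_add, map_add, ha, hb]
  have hsurj : Function.Surjective (Algebra.TensorProduct.productMap i₁ i₂) := by
    intro y
    obtain ⟨x, rfl⟩ := Ideal.Quotient.mk_surjective y
    exact ⟨x, hq x⟩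
  obtain ⟨hfin, hsep, hP⟩ := compositum A K hT hB L₁ L₂ _ i₁ i₂ hsurj h₁ h₂
  exact ⟨_, _, _, hfin, hsep, i₁, i₂, hP⟩

section Closure

variable (L : Type u) [Field L] [Algebra K L] [FiniteDimensional K L] [Algebra.IsSeparable K L]

/-- the property of intermediate fields used in the induction -/
def Q (P : ∀ (A : Type u) [CommRing A] [IsLocalRing A] {L : Type u} [Field L] (g : A →+* L), Prop)
    (E : IntermediateField K (AlgebraicClosure L)) : Prop :=
  FiniteDimensional K E ∧ Algebra.IsSeparable K E ∧ P A ((algebraMap K E).comp (algebraMap A K))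

theorem Q_bot (hS : HSub P) (h : P A ((algebraMap K L).comp (algebraMap A K))) :
    Q A K L P (⊥ : IntermediateField K (AlgebraicClosure L)) := by
  refine ⟨inferInstance, inferInstance, ?_⟩
  letI algbot : Algebra (⊥ : IntermediateField K (AlgebraicClosure L)) L :=
    ((algebraMap K L).comp
      (IntermediateField.botEquiv K (AlgebraicClosure L)).toAlgHom.toRingHom).toAlgebra
  haveI : IsScalarTower K (⊥ : IntermediateField K (AlgebraicClosure L)) L :=
    IsScalarTower.of_algebraMap_eq (fun k => by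
      show algebraMap K L k = algebraMap K L ((IntermediateField.botEquiv K (AlgebraicClosure L))
        (algebraMap K (⊥ : IntermediateField K (AlgebraicClosure L)) k))
      rw [IntermediateField.botEquiv_def])
  exact hS A K (⊥ : IntermediateField K (AlgebraicClosure L)) L h

theorem Q_step (hT : HTrans P) (hB : HBC P) (h : P A ((algebraMap K L).comp (algebraMap A K)))
    (σ : L →ₐ[K] AlgebraicClosure L) (E : IntermediateField K (AlgebraicClosure L))
    (hE : Q A K L P E) : Q A K L P (σ.fieldRange ⊔ E) := by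
  obtain ⟨hfin, hsep, hPE⟩ := hE
  haveI := hfin
  haveI := hsep
  have hmem : ∀ x : L, σ x ∈ σ.fieldRange ⊔ E := fun x =>
    (le_sup_left : σ.fieldRange ≤ σ.fieldRange ⊔ E) ⟨x, rfl⟩
  let i₁ : L →ₐ[K] ↥(σ.fieldRange ⊔ E) :=
    { toFun := fun x => ⟨σ x, hmem x⟩
      map_one' := Subtype.ext (map_one σ)
      map_mul' := fun x y => Subtype.ext (map_mul σ x y)
      map_zero' := Subtype.ext (map_zero σ)
      map_add' := fun x y => Subtype.ext (map_add σ x y)
      commutes' := fun k => Subtype.ext (σ.commutes k) }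
  let i₂ : ↥E →ₐ[K] ↥(σ.fieldRange ⊔ E) := IntermediateField.inclusion le_sup_right
  have hsurj : Function.Surjective (Algebra.TensorProduct.productMap i₁ i₂) := by
    intro y
    let T : Subalgebra K (AlgebraicClosure L) :=
      (Algebra.TensorProduct.productMap i₁ i₂).range.map (σ.fieldRange ⊔ E).val
    have h1 : σ.fieldRange.toSubalgebra ≤ T := by
      rintro _ ⟨x, rfl⟩
      refine ⟨i₁ x, ⟨x ⊗ₜ 1, ?_⟩, rfl⟩
      show Algebra.TensorProduct.productMap i₁ i₂ (x ⊗ₜ 1) = i₁ x
      rw [Algebra.TensorProduct.productMap_apply_tmul, map_one, mul_one]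
    have h2 : E.toSubalgebra ≤ T := by
      intro x hx
      refine ⟨i₂ ⟨x, hx⟩, ⟨1 ⊗ₜ ⟨x, hx⟩, ?_⟩, rfl⟩
      show Algebra.TensorProduct.productMap i₁ i₂ (1 ⊗ₜ ⟨x, hx⟩) = i₂ ⟨x, hx⟩
      rw [Algebra.TensorProduct.productMap_apply_tmul, map_one, one_mul]
    have h3 : (σ.fieldRange ⊔ E).toSubalgebra ≤ T := by
      rw [IntermediateField.sup_toSubalgebra_of_isAlgebraic_right]
      exact sup_le h1 h2
    obtain ⟨z, ⟨x, hx⟩, hz⟩ := h3 y.2
    refine ⟨x, ?_⟩
    apply Subtype.ext
    rw [← hz]
    exact congrArg Subtype.val hx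
  obtain ⟨h1, h2, h3⟩ := compositum A K hT hB L E ↥(σ.fieldRange ⊔ E) i₁ i₂ hsurj h hPE
  exact ⟨h1, h2, h3⟩

theorem Q_sup (hS : HSub P) (hT : HTrans P) (hB : HBC P)
    (h : P A ((algebraMap K L).comp (algebraMap A K)))
    (S : Finset (L →ₐ[K] AlgebraicClosure L)) :
    Q A K L P (S.sup (fun σ => σ.fieldRange)) := by
  classical
  induction S using Finset.induction_on with
  | empty => rw [Finset.sup_empty]; exact Q_bot A K L hS h
  | insert σ S' _ ih => rw [Finset.sup_insert]; exact Q_step A K L hT hB h σ _ ih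

theorem galois_closure (hS : HSub P) (hT : HTrans P) (hB : HBC P)
    (h : P A ((algebraMap K L).comp (algebraMap A K))) :
    ∃ (M : Type u) (_ : Field M) (_ : Algebra K M) (_ : FiniteDimensional K M) (_ : IsGalois K M)
      (_ : L →ₐ[K] M), P A ((algebraMap K M).comp (algebraMap A K)) := by
  classical
  have hQ := Q_sup A K L hS hT hB h Finset.univ
  rw [Finset.sup_univ_eq_iSup, ← normalClosure_def] at hQ
  obtain ⟨hfin, hsep, hP⟩ := hQ
  haveI := hsep
  exact ⟨IntermediateField.normalClosure K L (AlgebraicClosure L), inferInstance, inferInstance,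
    hfin, ⟨⟩, IsScalarTower.toAlgHom K L _, hP⟩

end Closure

end Generic

section Instances

theorem hSub_unram : HSub (fun A _ _ _ _ g => EtRam.IsUnramifiedExt A g) := by
  intro A K _ _ _ _ _ _ L M _ _ _ _ _ _ _ _ h
  exact main_1989_unram A K L M h

theorem hSub_tame : HSub (fun A _ _ _ _ g => EtRam.IsTamelyRamified A g) := by
  intro A K _ _ _ _ _ _ L M _ _ _ _ _ _ _ _ h
  exact main_1989_tame A K L M h

theorem hTrans_unram : HTrans (fun A _ _ _ _ g => EtRam.IsUnramifiedExt A g) := by
  intro A K _ _ _ _ _ _ L M _ _ _ _ _ _ _ _ h1 h2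
  exact main_1990_unram A K L M h1 h2

theorem hTrans_tame : HTrans (fun A _ _ _ _ g => EtRam.IsTamelyRamified A g) := by
  intro A K _ _ _ _ _ _ L M _ _ _ _ _ _ _ _ h1 h2
  exact main_1990_tame A K L M h1 h2

theorem hBC_unram : HBC (fun A _ _ _ _ g => EtRam.IsUnramifiedExt A g) := by
  intro A B K L K' _ _ _ _ _ _ _ _ _ _ _ _ _ _ _ _ _ _ _ _ _ F _ _ _ hinj h hF
  exact UnrBC.main_9306 A B K L K' F hinj h hF

theorem hBC_tame : HBC (fun A _ _ _ _ g => EtRam.IsTamelyRamified A g) := by
  intro A B K L K' _ _ _ _ _ _ _ _ _ _ _ _ _ _ _ _ _ _ _ _ _ F _ _ _ hinj h hF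
  exact TameBC.main_9307 A B K L K' F hinj h hF

theorem main_1991 (A K : Type u) [CommRing A] [IsDomain A] [IsDiscreteValuationRing A] [Field K] [Algebra A K] [IsFractionRing A K] :
    (∀ (L : Type u) [Field L] [Algebra K L] [FiniteDimensional K L] [Algebra.IsSeparable K L],
      (EtRam.IsUnramifiedExt A ((algebraMap K L).comp (algebraMap A K)) →
        ∃ (M : Type u) (_ : Field M) (_ : Algebra K M) (_ : FiniteDimensional K M) (_ : IsGalois K M) (_ : L →ₐ[K] M),
          EtRam.IsUnramifiedExt A ((algebraMap K M).comp (algebraMap A K))) ∧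
      (EtRam.IsTamelyRamified A ((algebraMap K L).comp (algebraMap A K)) →
        ∃ (M : Type u) (_ : Field M) (_ : Algebra K M) (_ : FiniteDimensional K M) (_ : IsGalois K M) (_ : L →ₐ[K] M),
          EtRam.IsTamelyRamified A ((algebraMap K M).comp (algebraMap A K)))) ∧
    (∀ (L₁ L₂ : Type u) [Field L₁] [Field L₂] [Algebra K L₁] [Algebra K L₂] [FiniteDimensional K L₁] [FiniteDimensional K L₂]
      [Algebra.IsSeparable K L₁] [Algebra.IsSeparable K L₂],
      (EtRam.IsUnramifiedExt A ((algebraMap K L₁).comp (algebraMap A K)) →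
        EtRam.IsUnramifiedExt A ((algebraMap K L₂).comp (algebraMap A K)) →
        ∃ (M : Type u) (_ : Field M) (_ : Algebra K M) (_ : FiniteDimensional K M) (_ : Algebra.IsSeparable K M)
          (_ : L₁ →ₐ[K] M) (_ : L₂ →ₐ[K] M), EtRam.IsUnramifiedExt A ((algebraMap K M).comp (algebraMap A K))) ∧
      (EtRam.IsTamelyRamified A ((algebraMap K L₁).comp (algebraMap A K)) →
        EtRam.IsTamelyRamified A ((algebraMap K L₂).comp (algebraMap A K)) →
        ∃ (M : Type u) (_ : Field M) (_ : Algebra K M) (_ : FiniteDimensional K M) (_ : Algebra.IsSeparable K M)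
          (_ : L₁ →ₐ[K] M) (_ : L₂ →ₐ[K] M), EtRam.IsTamelyRamified A ((algebraMap K M).comp (algebraMap A K)))) := by
  refine ⟨fun L _ _ _ _ => ⟨fun h => ?_, fun h => ?_⟩, fun L₁ L₂ _ _ _ _ _ _ _ _ => ⟨fun h₁ h₂ => ?_, fun h₁ h₂ => ?_⟩⟩
  · exact galois_closure (P := fun A _ _ _ _ g => EtRam.IsUnramifiedExt A g) A K L
      hSub_unram hTrans_unram hBC_unram h
  · exact galois_closure (P := fun A _ _ _ _ g => EtRam.IsTamelyRamified A g) A K L
      hSub_tame hTrans_tame hBC_tame h
  · exact common_ext (P := fun A _ _ _ _ g => EtRam.IsUnramifiedExt A g) A K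
      hTrans_unram hBC_unram L₁ L₂ h₁ h₂
  · exact common_ext (P := fun A _ _ _ _ g => EtRam.IsTamelyRamified A g) A K
      hTrans_tame hBC_tame L₁ L₂ h₁ h₂

end Instances

end Groth.Agent.Lib.Helper26.GalClos
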