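import Mathlib
set_option linter.style.haveILetI false
set_option linter.unusedSectionVars false
open Finset

namespace Groth.Agent.Lib.Helper26.GcdProd

lemma padicValNat_prod {ι : Type*} (q : ℕ) [Fact q.Prime] (s : Finset ι) (f : ι → ℕ)
    (hf : ∀ i ∈ s, f i ≠ 0) :
    padicValNat q (∏ i ∈ s, f i) = ∑ i ∈ s, padicValNat q (f i) := by
  classical
  induction s using Finset.induction_on with
  | empty => simp
  | insert a s ha ih =>
    rw [Finset.prod_insert ha, Finset.sum_insert ha, padicValNat.mul, ih]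
    · exact fun i hi => hf i (Finset.mem_insert_of_mem hi)
    · exact hf a (Finset.mem_insert_self a s)
    · exact Finset.prod_ne_zero_iff.mpr fun i hi => hf i (Finset.mem_insert_of_mem hi)

lemma sum_multiples (h g : ℕ) (hh : 0 < h) (F : ℕ → ℕ) :
    ∑ a ∈ Icc 1 g, (if h ∣ a then F (a / h) else 0) = ∑ i ∈ Icc 1 (g / h), F i := by
  rw [← Finset.sum_filter]
  refine Finset.sum_nbij' (fun a => a / h) (fun i => i * h) ?_ ?_ ?_ ?_ ?_
  · intro a ha
    simp only [Finset.mem_filter, Finset.mem_Icc] at ha ⊢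
    obtain ⟨⟨h1, h2⟩, k, rfl⟩ := ha
    rw [Nat.mul_div_cancel_left _ hh]
    constructor
    · rcases Nat.eq_zero_or_pos k with rfl | hk
      · simp at h1
      · exact hk
    · rw [Nat.le_div_iff_mul_le hh, mul_comm]; exact h2
  · intro i hi
    simp only [Finset.mem_filter, Finset.mem_Icc] at hi ⊢
    refine ⟨⟨?_, ?_⟩, Dvd.intro_left i rfl⟩
    · exact Nat.mul_pos hi.1 hh
    · exact (Nat.le_div_iff_mul_le hh).mp hi.2
  · intro a ha
    simp only [Finset.mem_filter, Finset.mem_Icc] at ha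
    exact Nat.div_mul_cancel ha.2
  · intro i _
    exact Nat.mul_div_cancel i hh
  · intro a _
    rfl

lemma pow_sub_one_ne_zero (ℓ a : ℕ) (hℓ : 2 ≤ ℓ) (ha : 1 ≤ a) : ℓ ^ (2 * a) - 1 ≠ 0 := by
  have : 1 < ℓ ^ (2 * a) := Nat.one_lt_pow (by omega) (by omega)
  omega

/-- the `2`-adic valuation of `ℓ^(2a) - 1` -/
lemma two_val (ℓ : ℕ) (hℓ : 1 < ℓ) (hodd : ¬ 2 ∣ ℓ) (a : ℕ) (ha : a ≠ 0) :
    padicValNat 2 (ℓ ^ (2 * a) - 1) =
      padicValNat 2 (ℓ + 1) + padicValNat 2 (ℓ - 1) + padicValNat 2 a := by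
  have h1 := padicValNat.pow_two_sub_one hℓ hodd (n := 2 * a) (by omega) (even_two_mul a)
  rw [padicValNat.mul (by norm_num) ha, padicValNat_self] at h1
  omega

lemma two_val_base_ge (ℓ : ℕ) (hℓ : 1 < ℓ) (hodd : ¬ 2 ∣ ℓ) :
    3 ≤ padicValNat 2 (ℓ + 1) + padicValNat 2 (ℓ - 1) := by
  have h1 := padicValNat.pow_two_sub_one hℓ hodd (n := 2) (by omega) even_two
  have h2 := padicValNat.pow_two_sub_one_ge hℓ hodd (n := 2) (by omega) even_two
  rw [padicValNat_self] at h1 h2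
  omega

lemma two_val_base_eq (ℓ : ℕ) (hℓ : ℓ % 8 = 3) :
    padicValNat 2 (ℓ + 1) + padicValNat 2 (ℓ - 1) = 3 := by
  obtain ⟨k, rfl⟩ : ∃ k, ℓ = 8 * k + 3 := ⟨ℓ / 8, by omega⟩
  have e1 : 8 * k + 3 + 1 = 2 ^ 2 * (2 * k + 1) := by ring
  have e2 : 8 * k + 3 - 1 = 2 ^ 1 * (4 * k + 1) := by omega
  rw [e1, e2, padicValNat.mul (by norm_num) (by omega), padicValNat.mul (by norm_num) (by omega),
    padicValNat.prime_pow, padicValNat.prime_pow,
    padicValNat.eq_zero_of_not_dvd (by omega), padicValNat.eq_zero_of_not_dvd (by omega)]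

lemma sum_val_eq_factorial (q : ℕ) [Fact q.Prime] (g : ℕ) :
    ∑ a ∈ Icc 1 g, padicValNat q a = padicValNat q g.factorial := by
  induction g with
  | zero => simp
  | succ g ih =>
    rw [Finset.sum_Icc_succ_top (by omega), ih, Nat.factorial_succ,
      padicValNat.mul (by omega) (Nat.factorial_ne_zero g), add_comm]

/-- the product -/
def P (g ℓ : ℕ) : ℕ := ∏ a ∈ Icc 1 g, (ℓ ^ (2 * a) - 1)

lemma P_ne_zero (g ℓ : ℕ) (hℓ : 2 ≤ ℓ) : P g ℓ ≠ 0 :=
  Finset.prod_ne_zero_iff.mpr fun a ha => pow_sub_one_ne_zero ℓ a hℓ (Finset.mem_Icc.mp ha).1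

lemma val_P (q : ℕ) [Fact q.Prime] (g ℓ : ℕ) (hℓ : 2 ≤ ℓ) :
    padicValNat q (P g ℓ) = ∑ a ∈ Icc 1 g, padicValNat q (ℓ ^ (2 * a) - 1) :=
  padicValNat_prod q _ _ fun a ha => pow_sub_one_ne_zero ℓ a hℓ (Finset.mem_Icc.mp ha).1

lemma two_P_ge (g ℓ : ℕ) (hℓ : 1 < ℓ) (hodd : ¬ 2 ∣ ℓ) :
    3 * g + padicValNat 2 g.factorial ≤ padicValNat 2 (P g ℓ) := by
  rw [val_P 2 g ℓ hℓ, ← sum_val_eq_factorial]
  have h3 := two_val_base_ge ℓ hℓ hodd
  calc 3 * g + ∑ a ∈ Icc 1 g, padicValNat 2 a = ∑ a ∈ Icc 1 g, (3 + padicValNat 2 a) := by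
        rw [Finset.sum_add_distrib, Finset.sum_const, Nat.card_Icc]; simp [mul_comm]
    _ ≤ _ := by
        refine Finset.sum_le_sum fun a ha => ?_
        have ha1 := (Finset.mem_Icc.mp ha).1
        rw [two_val ℓ hℓ hodd a (by omega)]
        omega

lemma two_P_eq (g ℓ : ℕ) (hℓ : ℓ % 8 = 3) :
    padicValNat 2 (P g ℓ) = 3 * g + padicValNat 2 g.factorial := by
  have hℓ1 : 1 < ℓ := by omega
  have hodd : ¬ 2 ∣ ℓ := by omega
  rw [val_P 2 g ℓ hℓ1, ← sum_val_eq_factorial]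
  have h3 := two_val_base_eq ℓ hℓ
  calc _ = ∑ a ∈ Icc 1 g, (3 + padicValNat 2 a) := by
        refine Finset.sum_congr rfl fun a ha => ?_
        have ha1 := (Finset.mem_Icc.mp ha).1
        rw [two_val ℓ hℓ1 hodd a (by omega), h3]
    _ = _ := by
        rw [Finset.sum_add_distrib, Finset.sum_const, Nat.card_Icc]; simp [mul_comm]

variable (q : ℕ) [hq : Fact q.Prime]

lemma dvd_pow_sub_one_iff (n ℓ k : ℕ) (hℓ : 1 ≤ ℓ) :
    n ∣ ℓ ^ k - 1 ↔ ((ℓ : ZMod n)) ^ k = 1 := by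
  have h1 : 1 ≤ ℓ ^ k := Nat.one_le_pow _ _ hℓ
  rw [← ZMod.natCast_eq_zero_iff, Nat.cast_sub h1, Nat.cast_pow, Nat.cast_one, sub_eq_zero]

lemma fermat (ℓ : ℕ) (hℓ : 1 ≤ ℓ) (hqℓ : ¬ q ∣ ℓ) : q ∣ ℓ ^ (q - 1) - 1 := by
  rw [dvd_pow_sub_one_iff q ℓ (q - 1) hℓ]
  apply ZMod.pow_card_sub_one_eq_one
  rwa [Ne, ZMod.natCast_eq_zero_iff]

/-- LTE for multiples of `q - 1`. -/
lemma odd_val_mult (hodd : Odd q) (ℓ : ℕ) (hℓ : 1 < ℓ) (hqℓ : ¬ q ∣ ℓ) (i : ℕ) (hi : i ≠ 0) :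
    padicValNat q (ℓ ^ ((q - 1) * i) - 1) = padicValNat q (ℓ ^ (q - 1) - 1) + padicValNat q i := by
  have hq1 : 0 < q - 1 := by have := hq.out.two_le; omega
  have hx : 1 < ℓ ^ (q - 1) := Nat.one_lt_pow hq1.ne' hℓ
  have h1 := padicValNat.pow_sub_pow (p := q) hodd (x := ℓ ^ (q - 1)) (y := 1) hx
    (fermat q ℓ hℓ.le hqℓ) (fun h => hqℓ (hq.out.dvd_of_dvd_pow h)) hi
  rwa [one_pow, ← pow_mul] at h1

lemma exists_special (hodd : Odd q) (B : ℕ) : ∃ ℓ : ℕ, ℓ.Prime ∧ B < ℓ ∧ ¬ q ∣ ℓ ∧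
    padicValNat q (ℓ ^ (q - 1) - 1) = 1 ∧ ∀ k : ℕ, q ∣ ℓ ^ k - 1 → (q - 1) ∣ k := by
  have hq2 := hq.out.two_le
  have hq1 : 0 < q - 1 := by omega
  haveI : NeZero (q ^ 2) := ⟨pow_ne_zero 2 hq.out.ne_zero⟩
  have hq3 : q ≠ 2 := fun h => by rw [h] at hodd; exact absurd hodd (by decide)
  haveI hcyc : IsCyclic (ZMod (q ^ 2))ˣ := ZMod.isCyclic_units_of_prime_pow q hq.out hq3 2
  obtain ⟨u, hu⟩ := hcyc.exists_generator
  have hord : orderOf u = q * (q - 1) := by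
    rw [orderOf_eq_card_of_forall_mem_zpowers hu, Nat.card_eq_fintype_card,
      ZMod.card_units_eq_totient, Nat.totient_prime_pow hq.out (by norm_num)]
    simp
  obtain ⟨ℓ, hℓB, hℓp, hℓmod⟩ := Nat.forall_exists_prime_gt_and_modEq B (q := q ^ 2)
    (a := (u : ZMod (q ^ 2)).val) (NeZero.ne _) (ZMod.val_coe_unit_coprime u)
  have hcast : (ℓ : ZMod (q ^ 2)) = u := by
    rw [← ZMod.natCast_zmod_val (u : ZMod (q ^ 2))]
    exact (ZMod.natCast_eq_natCast_iff _ _ _).mpr hℓmod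
  have hℓ1 : 1 < ℓ := hℓp.one_lt
  have hkey : ∀ k : ℕ, q ^ 2 ∣ ℓ ^ k - 1 ↔ q * (q - 1) ∣ k := by
    intro k
    rw [dvd_pow_sub_one_iff (q ^ 2) ℓ k hℓ1.le, hcast, ← hord, orderOf_dvd_iff_pow_eq_one,
      ← Units.val_pow_eq_pow_val, Units.val_eq_one]
  have hqℓ : ¬ q ∣ ℓ := by
    intro h
    -- then ℓ is not a unit mod q^2
    have h1 : IsUnit ((ℓ : ZMod (q ^ 2))) := by rw [hcast]; exact u.isUnit
    rw [ZMod.isUnit_iff_coprime] at h1
    have h2 : q ∣ Nat.gcd ℓ (q ^ 2) := Nat.dvd_gcd h (dvd_pow_self q (by norm_num))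
    rw [h1] at h2
    exact hq.out.one_lt.ne' (Nat.dvd_one.mp h2)
  refine ⟨ℓ, hℓp, hℓB, hqℓ, ?_, ?_⟩
  · -- valuation exactly one
    have hne : ℓ ^ (q - 1) - 1 ≠ 0 := by
      have : 1 < ℓ ^ (q - 1) := Nat.one_lt_pow hq1.ne' hℓ1
      omega
    have h1 : 1 ≤ padicValNat q (ℓ ^ (q - 1) - 1) := by
      rw [← padicValNat_dvd_iff_le hne, pow_one]
      exact fermat q ℓ hℓ1.le hqℓ
    have h2 : ¬ 2 ≤ padicValNat q (ℓ ^ (q - 1) - 1) := by
      rw [← padicValNat_dvd_iff_le hne, hkey]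
      intro h
      have := Nat.le_of_dvd hq1 h
      nlinarith
    omega
  · intro k hk
    rcases Nat.eq_zero_or_pos k with rfl | hkpos
    · exact dvd_zero _
    -- q^2 ∣ ℓ^(k*q) - 1
    have hx : 1 < ℓ ^ k := Nat.one_lt_pow hkpos.ne' hℓ1
    have h1 := padicValNat.pow_sub_pow (p := q) hodd (x := ℓ ^ k) (y := 1) hx hk
      (fun h => hqℓ (hq.out.dvd_of_dvd_pow h)) (n := q) hq.out.ne_zero
    rw [one_pow, ← pow_mul, padicValNat_self] at h1
    have hne : ℓ ^ k - 1 ≠ 0 := by omega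
    have h2 : 1 ≤ padicValNat q (ℓ ^ k - 1) := by
      rw [← padicValNat_dvd_iff_le hne, pow_one]; exact hk
    have hne' : ℓ ^ (k * q) - 1 ≠ 0 := by
      have : 1 < ℓ ^ (k * q) := Nat.one_lt_pow (Nat.mul_pos hkpos hq.out.pos).ne' hℓ1
      omega
    have h3 : q ^ 2 ∣ ℓ ^ (k * q) - 1 := by
      rw [padicValNat_dvd_iff_le hne']; omega
    rw [hkey, mul_comm k q] at h3
    exact (Nat.mul_dvd_mul_iff_left hq.out.pos).mp h3


/-- the exponent for odd `q` -/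
def E (g : ℕ) : ℕ := (2 * g) / (q - 1) + ∑ i ∈ Icc 1 ((2 * g) / (q - 1)), padicValNat q i

lemma E_eq (hodd : Odd q) (g : ℕ) :
    E q g = ∑ a ∈ Icc 1 g, (if (q - 1) / 2 ∣ a then 1 + padicValNat q (a / ((q - 1) / 2)) else 0) := by
  obtain ⟨h, hh⟩ := hodd
  have hq2 := hq.out.two_le
  have hh0 : 0 < h := by omega
  have e1 : q - 1 = 2 * h := by omega
  have e2 : (q - 1) / 2 = h := by omega
  rw [e2, sum_multiples h g hh0 (fun i => 1 + padicValNat q i), E, e1,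
    Nat.mul_div_mul_left g h two_pos, Finset.sum_add_distrib, Finset.sum_const, Nat.card_Icc]
  simp

lemma odd_P_ge (hodd : Odd q) (g ℓ : ℕ) (hℓ : 1 < ℓ) (hqℓ : ¬ q ∣ ℓ) :
    E q g ≤ padicValNat q (P g ℓ) := by
  rw [val_P q g ℓ hℓ, E_eq q hodd]
  refine Finset.sum_le_sum fun a ha => ?_
  have ha1 := (Finset.mem_Icc.mp ha).1
  split_ifs with hdvd
  · obtain ⟨i, rfl⟩ := hdvd
    obtain ⟨h, hh⟩ := hodd
    have hq2 := hq.out.two_le
    have hh0 : 0 < h := by omega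
    have e2 : (q - 1) / 2 = h := by omega
    have e1 : q - 1 = 2 * h := by omega
    rw [e2] at ha1 ⊢
    have hi : i ≠ 0 := by rintro rfl; simp at ha1
    rw [Nat.mul_div_cancel_left _ hh0]
    have hodd' : Odd q := ⟨h, hh⟩
    have h1 := odd_val_mult q hodd' ℓ hℓ hqℓ i hi
    rw [e1] at h1
    rw [← mul_assoc, h1]
    have hq1 : 0 < 2 * h := by omega
    have hne : ℓ ^ (2 * h) - 1 ≠ 0 := by
      have : 1 < ℓ ^ (2 * h) := Nat.one_lt_pow hq1.ne' hℓ
      omega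
    have h2 : 1 ≤ padicValNat q (ℓ ^ (2 * h) - 1) := by
      rw [← padicValNat_dvd_iff_le hne, pow_one, ← e1]
      exact fermat q ℓ hℓ.le hqℓ
    omega
  · exact Nat.zero_le _

lemma odd_P_eq (hodd : Odd q) (g B : ℕ) : ∃ ℓ : ℕ, ℓ.Prime ∧ B < ℓ ∧
    padicValNat q (P g ℓ) = E q g := by
  obtain ⟨ℓ, hℓp, hℓB, hqℓ, hval, hord⟩ := exists_special q hodd B
  refine ⟨ℓ, hℓp, hℓB, ?_⟩
  have hℓ : 1 < ℓ := hℓp.one_lt
  rw [val_P q g ℓ hℓ, E_eq q hodd]
  refine Finset.sum_congr rfl fun a ha => ?_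
  have ha1 := (Finset.mem_Icc.mp ha).1
  obtain ⟨h, hh⟩ := hodd
  have hq2 := hq.out.two_le
  have hh0 : 0 < h := by omega
  have e2 : (q - 1) / 2 = h := by omega
  have e1 : q - 1 = 2 * h := by omega
  have hodd' : Odd q := ⟨h, hh⟩
  rw [e2]
  split_ifs with hdvd
  · obtain ⟨i, rfl⟩ := hdvd
    have hi : i ≠ 0 := by rintro rfl; simp at ha1
    rw [Nat.mul_div_cancel_left _ hh0]
    have h1 := odd_val_mult q hodd' ℓ hℓ hqℓ i hi
    rw [e1] at h1 hval
    rw [← mul_assoc, h1, hval]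
  · apply padicValNat.eq_zero_of_not_dvd
    intro hd
    have := hord _ hd
    rw [e1] at this
    exact hdvd ((Nat.mul_dvd_mul_iff_left two_pos).mp this)


lemma val_le_of_dvd (q : ℕ) [Fact q.Prime] {d n : ℕ} (hn : n ≠ 0) (h : d ∣ n) :
    padicValNat q d ≤ padicValNat q n :=
  (padicValNat_dvd_iff_le hn).mp (dvd_trans pow_padicValNat_dvd h)

lemma E_eq_zero (q g : ℕ) (hq : 2 * g + 1 < q) : E q g = 0 := by
  have : (2 * g) / (q - 1) = 0 := Nat.div_eq_of_lt (by omega)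
  simp [E, this]

theorem main (g B d : ℕ) (hB : 2 * g + 1 ≤ B) :
    (∀ ℓ : ℕ, ℓ.Prime → B < ℓ → d ∣ P g ℓ) ↔
      d ∣ 2 ^ (3 * g + padicValNat 2 g.factorial) *
        ∏ p ∈ (Icc 3 (2 * g + 1)).filter Nat.Prime, p ^ E p g := by
  set A := 3 * g + padicValNat 2 g.factorial with hA
  set S := (Icc 3 (2 * g + 1)).filter Nat.Prime with hS
  have hSprime : ∀ p ∈ S, p.Prime := fun p hp => (Finset.mem_filter.mp hp).2
  have hSodd : ∀ p ∈ S, Odd p := fun p hp => by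
    have h1 := (Finset.mem_Icc.mp (Finset.mem_filter.mp hp).1).1
    exact (hSprime p hp).odd_of_ne_two (by omega)
  have hSle : ∀ p ∈ S, p ≤ 2 * g + 1 := fun p hp =>
    (Finset.mem_Icc.mp (Finset.mem_filter.mp hp).1).2
  have hNne : 2 ^ A * ∏ p ∈ S, p ^ E p g ≠ 0 := by
    apply mul_ne_zero (by positivity)
    exact Finset.prod_ne_zero_iff.mpr fun p hp => pow_ne_zero _ (hSprime p hp).ne_zero
  constructor
  · intro H
    obtain ⟨ℓ0, hℓ0B, hℓ0p⟩ := Nat.exists_infinite_primes (B + 1)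
    have hd0 : d ≠ 0 := by
      rintro rfl
      have := H ℓ0 hℓ0p (by omega)
      exact P_ne_zero g ℓ0 hℓ0p.two_le (zero_dvd_iff.mp this)
    rw [← Nat.factorization_prime_le_iff_dvd hd0 hNne]
    intro q hqp
    haveI : Fact q.Prime := ⟨hqp⟩
    rw [Nat.factorization_def _ hqp, Nat.factorization_def _ hqp]
    by_cases hq2 : q = 2
    · subst hq2
      obtain ⟨ℓ, hℓB, hℓp, hℓmod⟩ := Nat.forall_exists_prime_gt_and_modEq B (q := 8) (a := 3)
        (by norm_num) (by norm_num)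
      have hℓ8 : ℓ % 8 = 3 := hℓmod
      have h1 := val_le_of_dvd 2 (P_ne_zero g ℓ hℓp.two_le) (H ℓ hℓp hℓB)
      rw [two_P_eq g ℓ hℓ8] at h1
      refine h1.trans ?_
      rw [← padicValNat_dvd_iff_le hNne]
      exact dvd_mul_right _ _
    · have hodd : Odd q := hqp.odd_of_ne_two hq2
      obtain ⟨ℓ, hℓp, hℓB, hval⟩ := odd_P_eq q hodd g B
      have h1 := val_le_of_dvd q (P_ne_zero g ℓ hℓp.two_le) (H ℓ hℓp hℓB)
      rw [hval] at h1
      refine h1.trans ?_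
      by_cases hqS : q ∈ S
      · rw [← padicValNat_dvd_iff_le hNne]
        exact dvd_mul_of_dvd_right (Finset.dvd_prod_of_mem (fun p => p ^ E p g) hqS) _
      · have : 2 * g + 1 < q := by
          by_contra hle
          push Not at hle
          apply hqS
          rw [hS, Finset.mem_filter, Finset.mem_Icc]
          have := hqp.two_le
          exact ⟨⟨by omega, hle⟩, hqp⟩
        rw [E_eq_zero q g this]
        exact Nat.zero_le _
  · intro hd ℓ hℓp hℓB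
    refine dvd_trans hd ?_
    rcases Nat.eq_zero_or_pos g with rfl | hg
    · have : S = ∅ := by
        rw [hS]; apply Finset.filter_eq_empty_iff.mpr
        intro x hx; simp at hx
      simp [hA, this, P]
    have hℓ1 : 1 < ℓ := hℓp.one_lt
    have hℓodd : ¬ 2 ∣ ℓ := by
      intro h
      have := (Nat.prime_dvd_prime_iff_eq Nat.prime_two hℓp).mp h
      omega
    have hPne := P_ne_zero g ℓ hℓp.two_le
    apply Nat.Coprime.mul_dvd_of_dvd_of_dvd
    · apply Nat.Coprime.prod_right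
      intro p hp
      apply Nat.Coprime.pow
      rw [Nat.coprime_primes Nat.prime_two (hSprime p hp)]
      intro h
      have := hSodd p hp
      rw [← h] at this
      exact absurd this (by decide)
    · rw [padicValNat_dvd_iff_le hPne]
      exact two_P_ge g ℓ hℓ1 hℓodd
    · apply Finset.prod_dvd_of_isRelPrime
      · intro p hp p' hp' hne
        rw [Function.onFun, ← Nat.coprime_iff_isRelPrime]
        apply Nat.Coprime.pow
        exact (Nat.coprime_primes (hSprime p hp) (hSprime p' hp')).mpr hne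
      · intro p hp
        haveI : Fact p.Prime := ⟨hSprime p hp⟩
        rw [padicValNat_dvd_iff_le hPne]
        apply odd_P_ge p (hSodd p hp) g ℓ hℓ1
        intro h
        have := (Nat.prime_dvd_prime_iff_eq (hSprime p hp) hℓp).mp h
        have := hSle p hp
        omega


end Groth.Agent.Lib.Helper26.GcdProd
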