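import Mathlib
import Groth.Agent.Lib.Helper2.FunFld.Ramif
import Groth.Agent.Lib.Helper2.FunFld.Gaps
import Groth.Agent.Lib.Helper26.PlaneModel2
set_option autoImplicit false
open scoped WithZero IntermediateField
open FunFld
open Groth.Agent.Lib.Helper2.FF

namespace Groth.Agent.Lib.Helper26.GenParam

variable {k K : Type*} [Field k] [Field K] [Algebra k K]

/-- the valuation of a polynomial in `x` at a place where `x - c` vanishes -/
theorem v_aeval_eq_pow (Q : FunFld.Place k K) (x : K) (c : k)
    (hc : v Q (x - algebraMap k K c) < 1) (r : Polynomial k) (hr : r ≠ 0) :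
    v Q (Polynomial.aeval x r) = v Q (x - algebraMap k K c) ^ (r.rootMultiplicity c) := by
  obtain ⟨r', hr', hnd⟩ := Polynomial.exists_eq_pow_rootMultiplicity_mul_and_not_dvd r hr c
  have h1 : Polynomial.aeval x r =
      (x - algebraMap k K c) ^ (r.rootMultiplicity c) * Polynomial.aeval x r' := by
    conv_lhs => rw [hr']
    simp
  rw [h1, map_mul, map_pow]
  have h2 : v Q (Polynomial.aeval x r') = 1 := by
    have hne : r'.eval c ≠ 0 := by
      intro h0
      exact hnd ((Polynomial.dvd_iff_isRoot).2 h0)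
    obtain ⟨q, hq⟩ : (Polynomial.X - Polynomial.C c) ∣ (r' - Polynomial.C (r'.eval c)) := by
      rw [Polynomial.dvd_iff_isRoot]; simp
    have h3 : Polynomial.aeval x r' =
        algebraMap k K (r'.eval c) + (x - algebraMap k K c) * Polynomial.aeval x q := by
      have := congrArg (Polynomial.aeval x) hq
      simp only [map_sub, map_mul, Polynomial.aeval_X, Polynomial.aeval_C] at this
      rw [← this]; ring
    have hq1 : v Q (Polynomial.aeval x q) ≤ 1 := by
      have hx1 : v Q x ≤ 1 := by
        have : x = (x - algebraMap k K c) + algebraMap k K c := by ring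
        rw [this]
        exact Valuation.map_add_le _ hc.le (v_algebraMap_le Q c)
      rw [Polynomial.aeval_eq_sum_range]
      apply Valuation.map_sum_le
      intro i _
      rw [Algebra.smul_def, map_mul, map_pow]
      exact mul_le_one' (v_algebraMap_le Q _) (pow_le_one₀ zero_le hx1)
    rw [h3]
    have h4 : v Q ((x - algebraMap k K c) * Polynomial.aeval x q) <
        v Q (algebraMap k K (r'.eval c)) := by
      rw [v_algebraMap Q hne, map_mul]
      calc v Q (x - algebraMap k K c) * v Q (Polynomial.aeval x q)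
          ≤ v Q (x - algebraMap k K c) * 1 := mul_le_mul' le_rfl hq1
        _ < 1 := by rw [mul_one]; exact hc
    rw [Valuation.map_add_eq_of_lt_left _ h4, v_algebraMap Q hne]
  rw [h2, mul_one]

/-- at an unramified place where `x` is finite, `x - x(Q)` is a local parameter -/
theorem exists_sub_eq_exp [IsAlgClosed k] (hK : IsFunctionField k K) (x : K)
    (Q : FunFld.Place k K)
    (hsurj : Function.Surjective (Q.1.comap (algebraMap k⟮x⟯ K))) (hx : v Q x ≤ 1) :
    ∃ c : k, v Q (x - algebraMap k K c) = WithZero.exp (-1 : ℤ) := by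
  have hQ := deg_eq_one_of_isAlgClosed hK Q
  obtain ⟨c, hc⟩ := exists_sub_lt_one Q hQ hx
  refine ⟨c, ?_⟩
  obtain ⟨u, hu⟩ := hsurj (WithZero.exp (-1 : ℤ))
  rw [Valuation.comap_apply] at hu
  obtain ⟨r, s, hrs⟩ := (IntermediateField.mem_adjoin_simple_iff k (u : K)).1 u.2
  change v Q (u : K) = _ at hu
  have hu0 : (u : K) ≠ 0 := by
    intro h0; rw [h0, map_zero] at hu; exact WithZero.exp_ne_zero hu.symm
  have hr0 : r ≠ 0 := by
    rintro rfl; apply hu0; rw [hrs]; simp
  have hs0 : s ≠ 0 := by
    rintro rfl; apply hu0; rw [hrs]; simp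
  have hsx : Polynomial.aeval x s ≠ 0 := by
    intro h0; apply hu0; rw [hrs, h0, div_zero]
  have hrx : Polynomial.aeval x r ≠ 0 := by
    intro h0; apply hu0; rw [hrs, h0, zero_div]
  have h1 := v_aeval_eq_pow Q x c hc r hr0
  have h2 := v_aeval_eq_pow Q x c hc s hs0
  have h3 : v Q (u : K) * v Q (Polynomial.aeval x s) = v Q (Polynomial.aeval x r) := by
    rw [← map_mul, hrs, div_mul_cancel₀ _ hsx]
  rw [hu, h1, h2] at h3
  have hd0 : x - algebraMap k K c ≠ 0 := by
    intro h0
    rw [h0, map_zero] at h1 h2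
    have hm1 : r.rootMultiplicity c = 0 := by
      by_contra hne
      rw [zero_pow hne] at h1
      exact hrx ((map_eq_zero _).1 h1)
    have hm2 : s.rootMultiplicity c = 0 := by
      by_contra hne
      rw [zero_pow hne] at h2
      exact hsx ((map_eq_zero _).1 h2)
    rw [h0, map_zero, hm1, hm2, pow_zero, mul_one, ← WithZero.exp_zero,
      WithZero.exp_inj] at h3
    omega
  rw [v_eq_exp_neg_ord Q hd0] at h3 ⊢
  have hpos := (v_lt_one_iff Q hd0).1 hc
  rw [← WithZero.exp_nsmul, ← WithZero.exp_nsmul, ← WithZero.exp_add, WithZero.exp_inj] at h3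
  rw [WithZero.exp_inj]
  simp only [nsmul_eq_mul] at h3
  have h4 : Q.ord (x - algebraMap k K c) *
      ((r.rootMultiplicity c : ℤ) - (s.rootMultiplicity c : ℤ)) = 1 := by linarith
  have h5 := Int.eq_one_or_neg_one_of_mul_eq_one h4
  omega

end Groth.Agent.Lib.Helper26.GenParam
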