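import Mathlib
import Groth.Agent.Lib.Helper26.GenParam
set_option autoImplicit false
open scoped WithZero IntermediateField
open FunFld
open Groth.Agent.Lib.Helper2.FF
open Groth.Agent.Lib.Helper26.GenParam

namespace Groth.Agent.Lib.Helper26.GenParam2

variable {k K : Type*} [Field k] [Field K] [Algebra k K]

theorem transcendental_of_isSeparable (hK : IsFunctionField k K) (x : K)
    (hsep : Algebra.IsSeparable k⟮x⟯ K) : Transcendental k x := by
  intro halg
  have h1 : Algebra.IsAlgebraic k k⟮x⟯ := IntermediateField.isAlgebraic_adjoin_simple halg.isIntegral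
  have h2 : Algebra.IsAlgebraic k⟮x⟯ K := Algebra.IsSeparable.isAlgebraic _ _
  have h3 : Algebra.IsAlgebraic k K := Algebra.IsAlgebraic.trans k k⟮x⟯ K
  obtain ⟨⟨x₀, hx₀, -⟩, -⟩ := hK
  exact hx₀ (Algebra.IsAlgebraic.isAlgebraic x₀)

/-- S11051: a generator `y` with `1, x, y` containing local parameters everywhere -/
theorem exists_generator [IsAlgClosed k] (hK : IsFunctionField k K) (x : K)
    (hsep : Algebra.IsSeparable k⟮x⟯ K) :
    ∃ y : K, IntermediateField.adjoin k ({x, y} : Set K) = ⊤ ∧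
      ∀ P : FunFld.Place k K, ∃ f ∈ Submodule.span k ({1, x, y} : Set K),
        P.1 f = WithZero.exp (-1 : ℤ) := by
  classical
  have hxt := transcendental_of_isSeparable hK x hsep
  have hK' : IsFunctionField k k⟮x⟯ := Groth.Agent.Lib.Helper26.PlaneModel2.isFunctionField_adjoin hK hxt
  haveI hfin : FiniteDimensional k⟮x⟯ K := finiteDimensional_adjoin_simple hK hxt
  haveI : Infinite k := IsAlgClosed.instInfinite
  -- the exceptional set
  obtain ⟨S, hSdef⟩ : ∃ S : Set (FunFld.Place k K), S =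
      {Q : FunFld.Place k K | ¬ Function.Surjective (Q.1.comap (algebraMap k⟮x⟯ K))} ∪
        {Q : FunFld.Place k K | 1 < v Q x} := ⟨_, rfl⟩
  have hSfin : S.Finite := by
    rw [hSdef]
    exact (finite_ramified (K := k⟮x⟯) (K' := K) hK').union (finite_poles hK hxt)
  have hgood : ∀ Q : FunFld.Place k K, Q ∉ S →
      ∃ c : k, v Q (x - algebraMap k K c) = WithZero.exp (-1 : ℤ) := by
    intro Q hQ
    rw [hSdef, Set.mem_union, not_or] at hQ
    simp only [Set.mem_setOf_eq, not_not, not_lt] at hQ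
    exact exists_sub_eq_exp hK x Q hQ.1 hQ.2
  haveI : Finite S := hSfin.to_subtype
  -- y₀ with order one on S
  obtain ⟨y₀, -, hy₀⟩ := exists_ord_eq (fun P : S => (P : FunFld.Place k K))
    Subtype.val_injective (fun _ => (-1 : ℤ))
  -- a primitive element
  obtain ⟨θ, hθ⟩ := Field.exists_primitive_element k⟮x⟯ K
  haveI : Finite (IntermediateField k⟮x⟯ K) :=
    Field.finite_intermediateField_of_exists_primitive_element k⟮x⟯ K ⟨θ, hθ⟩
  -- bounds for θ on S
  have hM : ∀ P : S, ∃ n : ℕ, v (P : FunFld.Place k K) θ ≤ WithZero.exp ((n : ℤ) - 2) := by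
    intro P
    by_cases h0 : θ = 0
    · exact ⟨0, by rw [h0, map_zero]; exact zero_le⟩
    · refine ⟨(2 - (P : FunFld.Place k K).ord θ).toNat, ?_⟩
      rw [v_eq_exp_neg_ord _ h0, WithZero.exp_le_exp]
      have := Int.self_le_toNat (2 - (P : FunFld.Place k K).ord θ)
      omega
  choose M hMs using hM
  letI := Fintype.ofFinite S
  obtain ⟨N, hN⟩ : ∃ N : ℕ, ∀ P : S, M P ≤ N :=
    ⟨∑ P : S, M P, fun P => Finset.single_le_sum (f := M) (fun _ _ => Nat.zero_le _)
      (Finset.mem_univ P)⟩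
  -- places below
  have hbelow : ∀ P : S, ∃ (p : FunFld.Place k k⟮x⟯) (e : ℕ),
      IsOverWith (P : FunFld.Place k K) p e := fun P => exists_isOverWith hK' P.1
  choose p e hpe using hbelow
  haveI : Finite (Set.range p) := Set.finite_range p |>.to_subtype
  obtain ⟨w, hw0, hw⟩ := exists_ord_eq (fun q : Set.range p => (q : FunFld.Place k k⟮x⟯))
    Subtype.val_injective (fun _ => -(N : ℤ))
  have hwS : ∀ P : S, v (P : FunFld.Place k K) (w : K) ≤ WithZero.exp (-(N : ℤ)) := by
    intro P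
    have h1 := hpe P w
    have h2 := hw ⟨p P, P, rfl⟩
    have he := isOverWith_one_le (hpe P)
    change v (P : FunFld.Place k K) (w : K) = _ at h1
    change v (p P) w = _ at h2
    rw [h1, h2, ← WithZero.exp_nsmul, WithZero.exp_le_exp]
    simp only [nsmul_eq_mul]
    have : (1 : ℤ) ≤ e P := by exact_mod_cast he
    nlinarith
  obtain ⟨z', hz'⟩ : ∃ z' : K, z' = (w : K) * θ := ⟨_, rfl⟩
  have hz'S : ∀ P : S, v (P : FunFld.Place k K) z' ≤ WithZero.exp (-2 : ℤ) := by
    intro P
    rw [hz', map_mul]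
    calc v (P : FunFld.Place k K) (w : K) * v (P : FunFld.Place k K) θ
        ≤ WithZero.exp (-(N : ℤ)) * WithZero.exp ((M P : ℤ) - 2) :=
          mul_le_mul' (hwS P) (hMs P)
      _ ≤ WithZero.exp (-2 : ℤ) := by
          rw [← WithZero.exp_add, WithZero.exp_le_exp]
          have : (M P : ℤ) ≤ N := by exact_mod_cast hN P
          omega
  -- pigeonhole
  obtain ⟨c, c', hcc', hF⟩ := Finite.exists_ne_map_eq_of_infinite
    (fun c : k => (k⟮x⟯)⟮y₀ + c • z'⟯)
  change (k⟮x⟯)⟮y₀ + c • z'⟯ = (k⟮x⟯)⟮y₀ + c' • z'⟯ at hF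
  have hw0' : (w : K) ≠ 0 := by
    intro h; exact hw0 (Subtype.ext h)
  have htop : (k⟮x⟯)⟮y₀ + c • z'⟯ = ⊤ := by
    rw [eq_top_iff, ← hθ, IntermediateField.adjoin_simple_le_iff]
    have h1 : y₀ + c • z' ∈ (k⟮x⟯)⟮y₀ + c • z'⟯ :=
      IntermediateField.mem_adjoin_simple_self _ _
    have h2 : y₀ + c' • z' ∈ (k⟮x⟯)⟮y₀ + c • z'⟯ := by
      rw [hF]; exact IntermediateField.mem_adjoin_simple_self _ _
    have h3 : (c - c') • z' ∈ (k⟮x⟯)⟮y₀ + c • z'⟯ := by
      have : (c - c') • z' = (y₀ + c • z') - (y₀ + c' • z') := by rw [sub_smul]; ring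
      rw [this]; exact sub_mem h1 h2
    have hcc0 : c - c' ≠ 0 := sub_ne_zero.2 hcc'
    have h4 : z' ∈ (k⟮x⟯)⟮y₀ + c • z'⟯ := by
      have h6 : (c - c')⁻¹ • ((c - c') • z') ∈ (k⟮x⟯)⟮y₀ + c • z'⟯ := by
        rw [Algebra.smul_def ((c - c')⁻¹)]
        refine mul_mem ?_ h3
        rw [IsScalarTower.algebraMap_apply k k⟮x⟯ K]
        exact IntermediateField.algebraMap_mem _ _
      rwa [smul_smul, inv_mul_cancel₀ hcc0, one_smul] at h6
    have h5 : (w : K)⁻¹ * z' = θ := by rw [hz']; field_simp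
    rw [← h5]
    refine mul_mem (inv_mem ?_) h4
    exact IntermediateField.algebraMap_mem _ w
  refine ⟨y₀ + c • z', ?_, ?_⟩
  · have h1 := IntermediateField.adjoin_simple_adjoin_simple k (E := K) (α := x) (y₀ + c • z')
    rw [← h1, htop]
    rfl
  · intro P
    by_cases hP : P ∈ S
    · refine ⟨y₀ + c • z', Submodule.subset_span (by simp), ?_⟩
      have h1 := hy₀ ⟨P, hP⟩
      have h2 := hz'S ⟨P, hP⟩
      simp only at h1 h2
      have h3 : v P (c • z') < v P y₀ := by
        rw [h1]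
        refine lt_of_le_of_lt ((v_smul_le P c z').trans h2) ?_
        rw [WithZero.exp_lt_exp]; norm_num
      change v P (y₀ + c • z') = _
      rw [Valuation.map_add_eq_of_lt_left _ h3, h1]
    · obtain ⟨a, ha⟩ := hgood P hP
      refine ⟨x - algebraMap k K a, ?_, ha⟩
      apply Submodule.sub_mem
      · exact Submodule.subset_span (by simp)
      · rw [Algebra.algebraMap_eq_smul_one]
        exact Submodule.smul_mem _ _ (Submodule.subset_span (by simp))

end Groth.Agent.Lib.Helper26.GenParam2
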