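import Mathlib

set_option autoImplicit false
set_option linter.style.haveILetI false
set_option linter.unusedSectionVars false
universe u
open CategoryTheory AlgebraicGeometry Opposite TopologicalSpace

namespace Groth.Agent.Lib.Helper26.GenericStalk

section Ring

variable {A B KA KB : Type*} [CommRing A] [CommRing B] [IsDomain B] [Field KA] [Field KB]
  [Algebra A KA] [Algebra B KB] [IsFractionRing B KB]
  (φ : A →+* B) (σ : KA →+* KB)
  (hσ : ∀ a, σ (algebraMap A KA a) = algebraMap B KB (φ a))

include hσ

omit [IsDomain B] [IsFractionRing B KB] in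
theorem isIntegralElem_algebraMap (b : B) (hb : φ.IsIntegralElem b) :
    σ.IsIntegralElem (algebraMap B KB b) := by
  obtain ⟨p, hp, hpb⟩ := hb
  refine ⟨p.map (algebraMap A KA), hp.map _, ?_⟩
  rw [Polynomial.eval₂_map]
  have e : σ.comp (algebraMap A KA) = (algebraMap B KB).comp φ := RingHom.ext hσ
  rw [e, ← Polynomial.hom_eval₂, hpb, map_zero]

theorem isIntegral_of_isIntegral (hφ : φ.IsIntegral) : σ.IsIntegral := by
  letI := σ.toAlgebra
  intro x
  obtain ⟨b, s, -, rfl⟩ := IsFractionRing.div_surjective (A := B) x
  have hb : IsIntegral KA (algebraMap B KB b) := isIntegralElem_algebraMap φ σ hσ b (hφ b)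
  have hs : IsIntegral KA (algebraMap B KB s) := isIntegralElem_algebraMap φ σ hσ s (hφ s)
  have hs' : IsIntegral KA (algebraMap B KB s)⁻¹ := hs.inv
  rw [div_eq_mul_inv]
  exact hb.mul hs'

theorem finite_of_finite (hφ : φ.Finite) : σ.Finite := by
  letI := σ.toAlgebra
  letI := φ.toAlgebra
  have hφint : φ.IsIntegral := hφ.to_isIntegral
  have hint := isIntegral_of_isIntegral φ σ hσ hφint
  haveI : Algebra.IsIntegral KA KB := ⟨hint⟩
  obtain ⟨t, ht⟩ := (show Module.Finite A B from hφ).fg_top
  let T : Set KB := (algebraMap B KB) '' (t : Set B)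
  have hT : T.Finite := t.finite_toSet.image _
  haveI : FiniteDimensional KA (IntermediateField.adjoin KA T) :=
    IntermediateField.finiteDimensional_adjoin (fun x _ => Algebra.IsIntegral.isIntegral x)
  -- the adjoined field contains the image of `B`
  have hB : ∀ b : B, algebraMap B KB b ∈ IntermediateField.adjoin KA T := by
    intro b
    have hb : b ∈ Submodule.span A (t : Set B) := by rw [ht]; trivial
    induction hb using Submodule.span_induction with
    | mem y hy => exact IntermediateField.subset_adjoin KA T ⟨y, hy, rfl⟩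
    | zero => rw [map_zero]; exact zero_mem _
    | add y z _ _ hy hz => rw [map_add]; exact add_mem hy hz
    | smul a y _ hy =>
      have : algebraMap B KB (a • y) = algebraMap KA KB (algebraMap A KA a) * algebraMap B KB y := by
        rw [Algebra.smul_def, map_mul]
        congr 1
        exact (hσ a).symm
      rw [this]
      exact mul_mem (IntermediateField.algebraMap_mem _ _) hy
  have htop : IntermediateField.adjoin KA T = ⊤ := by
    rw [eq_top_iff]
    intro x _
    obtain ⟨b, s, -, rfl⟩ := IsFractionRing.div_surjective (A := B) x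
    exact div_mem (hB b) (hB s)
  rw [htop] at this
  exact Module.Finite.equiv (IntermediateField.topEquiv (F := KA) (E := KB)).toLinearEquiv

end Ring

section Sch

variable {X S : Scheme.{u}} [IsIntegral X] [IsIntegral S]

theorem map_genericPoint (f : X ⟶ S) [IsDominant f] : f (genericPoint X) = genericPoint S := by
  have h1 : IsGenericPoint (f (genericPoint X)) (closure (f '' Set.univ)) :=
    (genericPoint_spec X).image f.continuous
  rw [Set.image_univ, f.denseRange.closure_range] at h1
  exact ((genericPoint_spec S).eq h1).symm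

theorem core (f : X ⟶ S) [IsDominant f] [IsAffineHom f] {V : S.Opens} (hV : IsAffineOpen V)
    (hηV : f (genericPoint X) ∈ V) :
    ((f.app V).hom.IsIntegral → (f.stalkMap (genericPoint X)).hom.IsIntegral) ∧
      ((f.app V).hom.Finite → (f.stalkMap (genericPoint X)).hom.Finite) := by
  have e := map_genericPoint f
  have hU : IsAffineOpen (f ⁻¹ᵁ V) := hV.preimage f
  haveI : Nonempty (f ⁻¹ᵁ V : X.Opens) := ⟨⟨genericPoint X, hηV⟩⟩
  letI : Field (S.presheaf.stalk (f (genericPoint X))) :=
    (isField_stalk_of_closure_mem_irreducibleComponents S _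
      (by rw [e]; simp [irreducibleComponents_eq_singleton])).toField
  letI : Algebra Γ(S, V) (S.presheaf.stalk (f (genericPoint X))) :=
    (S.presheaf.germ V (f (genericPoint X)) hηV).hom.toAlgebra
  haveI : IsFractionRing Γ(X, f ⁻¹ᵁ V) X.functionField :=
    functionField_isFractionRing_of_isAffineOpen X _ hU
  have hσ : ∀ a : Γ(S, V), (f.stalkMap (genericPoint X)).hom
      (algebraMap Γ(S, V) (S.presheaf.stalk (f (genericPoint X))) a) =
      algebraMap Γ(X, f ⁻¹ᵁ V) X.functionField ((f.app V).hom a) := fun a =>
    f.germ_stalkMap_apply V (genericPoint X) hηV a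
  exact ⟨isIntegral_of_isIntegral (KB := X.functionField) (f.app V).hom _ hσ,
    finite_of_finite (KB := X.functionField) (f.app V).hom _ hσ⟩

theorem main (f : X ⟶ S) [IsDominant f] :
    (IsIntegralHom f → (f.stalkMap (genericPoint X)).hom.IsIntegral) ∧
      (IsFinite f → (f.stalkMap (genericPoint X)).hom.Finite) := by
  obtain ⟨V, hV, hηV, -⟩ := exists_isAffineOpen_mem_and_subset (x := f (genericPoint X))
    (U := ⊤) trivial
  constructor
  · intro h
    exact (core f hV hηV).1 (f.isIntegral_app V hV)
  · intro h
    exact (core f hV hηV).2 (f.finite_app V hV)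

end Sch

end Groth.Agent.Lib.Helper26.GenericStalk
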