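import Mathlib

namespace Groth.Agent.Lib.Helper26.GlueA
universe u
open IsLocalRing

/-- abstract gluing data -/
structure Data (A : Type u) [CommRing A] (t : A) (L : Type u) [CommRing L] [Algebra A L]
    (r : ℕ) where
  q : Fin r → Ideal A
  hq : ∀ i, (q i).IsPrime
  B : Fin r → Type u
  [instB : ∀ i, CommRing (B i)]
  [instAB : ∀ i, Algebra A (B i)]
  Li : Fin r → Type u
  [instLi : ∀ i, CommRing (Li i)]
  [instBLi : ∀ i, Algebra (B i) (Li i)]
  φ : ∀ i, L →+* Li i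
  hφ : ∀ i a, φ i (algebraMap A L a) = algebraMap (B i) (Li i) (algebraMap A (B i) a)
  hι : ∀ i, Function.Injective (algebraMap (B i) (Li i))
  n : ℕ
  hker : ∀ i (a : A), algebraMap A (B i) a = 0 → ∃ s, s ∉ q i ∧ s * a = 0
  hfin : ∀ i (b : B i), ∃ a s : A, s ∉ q i ∧
    algebraMap A (B i) s * (algebraMap A (B i) t) ^ n * b = algebraMap A (B i) a
  hrad : ∀ i j, j ≠ i → ∃ σ : A, σ ∉ q i ∧ ∃ w : B j,
    algebraMap A (B j) σ = (algebraMap A (B j) t) ^ n * w
  htunit : ∀ i, IsUnit (algebraMap (B i) (Li i) (algebraMap A (B i) t))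
  hunit : ∀ i (s : A), s ∉ q i → IsUnit (algebraMap A (B i) s)

attribute [instance] Data.instB Data.instAB Data.instLi Data.instBLi

variable {A : Type u} [CommRing A] {t : A} {L : Type u} [CommRing L] [Algebra A L] {r : ℕ}
  (D : Data A t L r)

/-- the module `M_k`: elements of `t^{-k}A` mapping into `B_i` for all `i` -/
def Mk (k : ℕ) : Submodule A L where
  carrier := {x | (∃ a : A, algebraMap A L (t ^ k) * x = algebraMap A L a) ∧
    ∀ i, D.φ i x ∈ (algebraMap (D.B i) (D.Li i)).range}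
  add_mem' := by
    rintro x y ⟨⟨a, ha⟩, hx⟩ ⟨⟨b, hb⟩, hy⟩
    refine ⟨⟨a + b, by rw [mul_add, ha, hb, map_add]⟩, fun i => ?_⟩
    rw [map_add]
    exact add_mem (hx i) (hy i)
  zero_mem' := ⟨⟨0, by simp⟩, fun i => by rw [map_zero]; exact zero_mem _⟩
  smul_mem' := by
    rintro c x ⟨⟨a, ha⟩, hx⟩
    refine ⟨⟨c * a, ?_⟩, fun i => ?_⟩
    · rw [Algebra.smul_def, map_mul, ← ha]; ring
    · rw [Algebra.smul_def, map_mul, D.hφ]
      exact mul_mem ⟨_, rfl⟩ (hx i)

lemma mem_Mk {k : ℕ} {x : L} : x ∈ Mk D k ↔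
    (∃ a : A, algebraMap A L (t ^ k) * x = algebraMap A L a) ∧
      ∀ i, D.φ i x ∈ (algebraMap (D.B i) (D.Li i)).range := Iff.rfl

lemma algebraMap_mem_Mk (k : ℕ) (a : A) : algebraMap A L a ∈ Mk D k :=
  ⟨⟨t ^ k * a, by rw [map_mul]⟩, fun i => by rw [D.hφ]; exact ⟨_, rfl⟩⟩

lemma mul_mem_Mk {k l : ℕ} {x y : L} (hx : x ∈ Mk D k) (hy : y ∈ Mk D l) :
    x * y ∈ Mk D (k + l) := by
  obtain ⟨⟨a, ha⟩, hx⟩ := hx
  obtain ⟨⟨b, hb⟩, hy⟩ := hy
  refine ⟨⟨a * b, ?_⟩, fun i => ?_⟩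
  · rw [map_mul, ← ha, ← hb, pow_add, map_mul]; ring
  · rw [map_mul]; exact mul_mem (hx i) (hy i)

lemma Mk_mono {k l : ℕ} (h : k ≤ l) : Mk D k ≤ Mk D l := by
  rintro x ⟨⟨a, ha⟩, hx⟩
  refine ⟨⟨t ^ (l - k) * a, ?_⟩, hx⟩
  rw [map_mul, ← ha, ← mul_assoc, ← map_mul, ← pow_add, Nat.sub_add_cancel h]

variable [IsLocalization.Away t L]

/-- Key lemma: the kernel of `φ_i` is `q_i`-torsion. -/
lemma exists_smul_eq_zero (i : Fin r) (y : L) (hy : D.φ i y = 0) :
    ∃ s : A, s ∉ D.q i ∧ s • y = 0 := by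
  obtain ⟨⟨a, ⟨_, k, rfl⟩⟩, hak⟩ := IsLocalization.surj (Submonoid.powers t) y
  simp only at hak
  have h1 : algebraMap A (D.B i) a = 0 := by
    apply D.hι i
    rw [← D.hφ, ← hak, map_mul, hy, zero_mul, map_zero]
  obtain ⟨s, hs, hsa⟩ := D.hker i a h1
  refine ⟨s, hs, ?_⟩
  have hu : IsUnit (algebraMap A L (t ^ k)) :=
    IsLocalization.map_units L (⟨t ^ k, k, rfl⟩ : Submonoid.powers t)
  apply hu.mul_left_injective
  simp only
  rw [zero_mul, Algebra.smul_def, mul_assoc, hak, ← map_mul, hsa, map_zero]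

lemma Mk_fg [IsNoetherianRing A] (k : ℕ) : (Mk D k).FG := by
  have hu : IsUnit (algebraMap A L (t ^ k)) :=
    IsLocalization.map_units L (⟨t ^ k, k, rfl⟩ : Submonoid.powers t)
  obtain ⟨v, hv⟩ := hu.exists_right_inv
  have hle : Mk D k ≤ Submodule.span A {v} := by
    rintro x ⟨⟨a, ha⟩, -⟩
    rw [Submodule.mem_span_singleton]
    refine ⟨a, ?_⟩
    rw [Algebra.smul_def, ← ha]
    linear_combination x * hv
  haveI : IsNoetherian A (Submodule.span A {v}) := isNoetherian_span_of_finite A (Set.finite_singleton v)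
  haveI : IsNoetherian A (Mk D k) := isNoetherian_of_le hle
  exact Module.Finite.iff_fg.mp inferInstance

lemma fg_of_le_Mk [IsNoetherianRing A] {k : ℕ} {N : Submodule A L} (h : N ≤ Mk D k) : N.FG := by
  have h1 : IsNoetherian A (Mk D k) := isNoetherian_of_fg_of_noetherian _ (Mk_fg D k)
  have h2 : IsNoetherian A N := isNoetherian_of_le h
  exact Module.Finite.iff_fg.mp inferInstance

section supp
variable [IsNoetherianRing A] [IsLocalRing A]
  (hV : ∀ p : Ideal A, p.IsPrime → t ∈ p → p = maximalIdeal A ∨ ∃ i, p = D.q i)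
include hV

lemma exists_smul_mem_Mk (x : L) (hx : x ∈ Mk D (D.n + D.n)) (p : Ideal A) [p.IsPrime]
    (hp : p ≠ maximalIdeal A) : ∃ s : A, s ∉ p ∧ s • x ∈ Mk D D.n := by
  by_cases htp : t ∈ p
  · rcases hV p inferInstance htp with h | ⟨i, rfl⟩
    · exact absurd h hp
    · obtain ⟨b, hb⟩ := hx.2 i
      obtain ⟨a', s', hs', h1⟩ := D.hfin i b
      have h2 : D.φ i (s' • (algebraMap A L (t ^ D.n) * x) - algebraMap A L a') = 0 := by
        rw [map_sub, Algebra.smul_def, map_mul, map_mul, D.hφ, D.hφ, D.hφ, ← hb, ← map_mul,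
          ← map_mul, ← map_sub, map_pow, ← mul_assoc, h1, sub_self, map_zero]
      obtain ⟨s'', hs'', h3⟩ := exists_smul_eq_zero D i _ h2
      refine ⟨s'' * s', fun h => ?_, ⟨⟨s'' * a', ?_⟩, ((Mk D (D.n + D.n)).smul_mem _ hx).2⟩⟩
      · rcases (D.hq i).mem_or_mem h with h | h
        · exact hs'' h
        · exact hs' h
      · rw [smul_sub, sub_eq_zero] at h3
        rw [map_mul, ← Algebra.smul_def s'' (algebraMap A L a'), ← h3]
        simp only [Algebra.smul_def, map_mul]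
        ring
  · refine ⟨t ^ (D.n + D.n), fun h => htp (Ideal.IsPrime.mem_of_pow_mem inferInstance _ h), ?_⟩
    obtain ⟨⟨a, ha⟩, -⟩ := hx
    rw [Algebra.smul_def, ha]
    exact algebraMap_mem_Mk D _ a

lemma exists_pow_smul_span_le (x : L) (hx : x ∈ Mk D (D.n + D.n)) :
    ∃ c : ℕ, (maximalIdeal A) ^ c • Submodule.span A {x} ≤ Mk D D.n := by
  set J : Ideal A := (Mk D D.n).colon {x} with hJ
  have h1 : maximalIdeal A ≤ J.radical := by
    rw [Ideal.radical_eq_sInf]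
    refine le_sInf ?_
    rintro P ⟨hJP, hP⟩
    by_contra hcon
    have hPm : P ≠ maximalIdeal A := fun h => hcon h.ge
    obtain ⟨s, hs, hsx⟩ := exists_smul_mem_Mk D hV x hx P hPm
    exact hs (hJP (Submodule.mem_colon_singleton.mpr hsx))
  obtain ⟨c, hc⟩ := Ideal.exists_pow_le_of_le_radical_of_fg_radical h1 (IsNoetherian.noetherian _)
  refine ⟨c, Submodule.smul_le.mpr fun r hr m hm => ?_⟩
  obtain ⟨a, rfl⟩ := Submodule.mem_span_singleton.mp hm
  rw [smul_comm]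
  exact (Mk D D.n).smul_mem a (Submodule.mem_colon_singleton.mp (hc hr))

lemma exists_pow_smul_le : ∃ c : ℕ, (maximalIdeal A) ^ c • Mk D (D.n + D.n) ≤ Mk D D.n := by
  have key : ∀ N : Submodule A L, N.FG → N ≤ Mk D (D.n + D.n) →
      ∃ c : ℕ, (maximalIdeal A) ^ c • N ≤ Mk D D.n := by
    intro N hN
    induction N, hN using Submodule.fg_induction with
    | singleton x =>
      intro hx
      exact exists_pow_smul_span_le D hV x (hx (Submodule.mem_span_singleton_self x))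
    | sup N₁ N₂ _ _ ih₁ ih₂ =>
      intro h
      obtain ⟨c₁, h₁⟩ := ih₁ (le_sup_left.trans h)
      obtain ⟨c₂, h₂⟩ := ih₂ (le_sup_right.trans h)
      refine ⟨max c₁ c₂, ?_⟩
      rw [Submodule.smul_sup]
      refine sup_le ?_ ?_
      · exact (Submodule.smul_mono_left (Ideal.pow_le_pow_right (le_max_left _ _))).trans h₁
      · exact (Submodule.smul_mono_left (Ideal.pow_le_pow_right (le_max_right _ _))).trans h₂
  exact key _ (Mk_fg D _) le_rfl

end supp

end Groth.Agent.Lib.Helper26.GlueA
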