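import Mathlib
import Groth.Agent.Lib.Helper26.GlueA

namespace Groth.Agent.Lib.Helper26.GlueB
universe u
open IsLocalRing Groth.Agent.Lib.Helper26.GlueA

variable {A : Type u} [CommRing A] {t : A} {L : Type u} [CommRing L] [Algebra A L] {r : ℕ}
  (D : Data A t L r) [IsLocalRing A] (c : ℕ)

/-- the underlying submodule of the glued algebra -/
def Csub : Submodule A L :=
  Submodule.span A {1} ⊔ (maximalIdeal A) ^ (c + 1) • Mk D D.n

lemma Csub_le : Csub D c ≤ Mk D D.n := by
  refine sup_le ?_ Submodule.smul_le_right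
  rw [Submodule.span_singleton_le_iff_mem]
  have := algebraMap_mem_Mk D D.n 1
  rwa [map_one] at this

variable (hc : (maximalIdeal A) ^ c • Mk D (D.n + D.n) ≤ Mk D D.n)
include hc

lemma smul_mul_mem {y y' : L} (hy : y ∈ (maximalIdeal A) ^ (c + 1) • Mk D D.n)
    (hy' : y' ∈ (maximalIdeal A) ^ (c + 1) • Mk D D.n) :
    y * y' ∈ (maximalIdeal A) ^ (c + 1) • Mk D D.n := by
  refine Submodule.smul_induction_on hy (fun r hr m hm => ?_)
    (fun u v hu hv => by rw [add_mul]; exact add_mem hu hv)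
  refine Submodule.smul_induction_on hy' (fun r' hr' m' hm' => ?_)
    (fun u v hu hv => by rw [mul_add]; exact add_mem hu hv)
  have h1 : r • m * r' • m' = r • (r' • (m * m')) := by
    rw [smul_mul_smul_comm, mul_smul]
  rw [h1]
  refine Submodule.smul_mem_smul hr (hc ?_)
  exact Submodule.smul_mem_smul (Ideal.pow_le_pow_right (Nat.le_succ c) hr')
    (mul_mem_Mk D hm hm')

lemma Csub_mul_mem {x x' : L} (hx : x ∈ Csub D c) (hx' : x' ∈ Csub D c) : x * x' ∈ Csub D c := by
  obtain ⟨u, hu, y, hy, rfl⟩ := Submodule.mem_sup.mp hx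
  obtain ⟨u', hu', y', hy', rfl⟩ := Submodule.mem_sup.mp hx'
  obtain ⟨a, rfl⟩ := Submodule.mem_span_singleton.mp hu
  obtain ⟨a', rfl⟩ := Submodule.mem_span_singleton.mp hu'
  have h1 : (a • (1 : L) + y) * (a' • (1 : L) + y') =
      (a * a') • (1 : L) + (a • y' + a' • y + y * y') := by
    simp only [Algebra.smul_def, map_mul]; ring
  rw [h1]
  refine Submodule.add_mem_sup (Submodule.mem_span_singleton.mpr ⟨_, rfl⟩) ?_
  exact add_mem (add_mem (Submodule.smul_mem _ _ hy') (Submodule.smul_mem _ _ hy))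
    (smul_mul_mem D c hc hy hy')

/-- the glued algebra -/
def Calg : Subalgebra A L :=
  (Csub D c).toSubalgebra (Submodule.mem_sup_left (Submodule.mem_span_singleton_self 1))
    (fun _ _ hx hy => Csub_mul_mem D c hc hx hy)

lemma mem_Calg {x : L} : x ∈ Calg D c hc ↔ x ∈ Csub D c := Iff.rfl

lemma Calg_le {x : L} (hx : x ∈ Calg D c hc) : x ∈ Mk D D.n := Csub_le D c hx

variable [IsLocalization.Away t L]

omit hc [IsLocalRing A] [IsLocalization.Away t L] in
lemma phi_eq_of_mul (j : Fin r) (z : L) (a : A) (β : D.B j)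
    (h : algebraMap A L (t ^ D.n) * z = algebraMap A L a)
    (hβ : algebraMap A (D.B j) a = (algebraMap A (D.B j) t) ^ D.n * β) :
    D.φ j z = algebraMap (D.B j) (D.Li j) β := by
  have h1 := congrArg (D.φ j) h
  rw [map_mul, D.hφ, D.hφ, hβ, map_mul, map_pow, map_pow] at h1
  exact ((D.htunit j).pow D.n).mul_right_injective h1

omit hc [IsLocalRing A] [IsLocalization.Away t L] in
lemma exists_sigma (i : Fin r) : ∃ σ : A, σ ∉ D.q i ∧ ∀ j, j ≠ i → ∃ w : D.B j,
    algebraMap A (D.B j) σ = (algebraMap A (D.B j) t) ^ D.n * w := by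
  classical
  choose! σ hσ w hw using fun j (hj : j ≠ i) => D.hrad i j hj
  refine ⟨∏ j ∈ Finset.univ.erase i, σ j, fun h => ?_, fun j hj => ?_⟩
  · obtain ⟨j, hj, hj'⟩ := ((D.hq i).prod_mem_iff).mp h
    exact hσ j (Finset.ne_of_mem_erase hj) hj'
  · have hmem : j ∈ Finset.univ.erase i := Finset.mem_erase.mpr ⟨hj, Finset.mem_univ _⟩
    rw [← Finset.mul_prod_erase _ _ hmem, map_mul, hw j hj]
    exact ⟨w j * algebraMap A (D.B j) (∏ x ∈ (Finset.univ.erase i).erase j, σ x), by ring⟩

/-- `B_i ≃ range` -/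
noncomputable def rangeEquiv (i : Fin r) : D.B i ≃+* (algebraMap (D.B i) (D.Li i)).range :=
  RingEquiv.ofBijective (algebraMap (D.B i) (D.Li i)).rangeRestrict
    ⟨fun x y h => D.hι i (congrArg Subtype.val h), (algebraMap (D.B i) (D.Li i)).rangeRestrict_surjective⟩

omit [IsLocalization.Away t L] in
/-- the map to `B_i` as a ring hom -/
noncomputable def psiRing (i : Fin r) : Calg D c hc →+* D.B i :=
  (rangeEquiv D i).symm.toRingHom.comp
    (((D.φ i).comp (Calg D c hc).val.toRingHom).codRestrict _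
      (fun x => (Calg_le D c hc x.2).2 i))

omit [IsLocalization.Away t L] in
lemma algebraMap_psiRing (i : Fin r) (x : Calg D c hc) :
    algebraMap (D.B i) (D.Li i) (psiRing D c hc i x) = D.φ i x := by
  have h1 : ((rangeEquiv D i) (psiRing D c hc i x) : D.Li i) = D.φ i x := by
    unfold psiRing
    simp only [RingEquiv.toRingHom_eq_coe, RingHom.coe_comp, RingHom.coe_coe, Function.comp_apply,
      RingEquiv.apply_symm_apply]
    rfl
  exact h1

omit [IsLocalization.Away t L] in
/-- the map to `B_i` -/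
noncomputable def psi (i : Fin r) : Calg D c hc →ₐ[A] D.B i :=
  { psiRing D c hc i with
    commutes' := fun a => by
      apply D.hι i
      show algebraMap (D.B i) (D.Li i) (psiRing D c hc i _) = _
      rw [algebraMap_psiRing, ← D.hφ]
      rfl }

omit [IsLocalization.Away t L] in
lemma algebraMap_psi (i : Fin r) (x : Calg D c hc) :
    algebraMap (D.B i) (D.Li i) (psi D c hc i x) = D.φ i x := algebraMap_psiRing D c hc i x

theorem isLocalizedModule_psi (hqm : ∀ i, D.q i ≠ maximalIdeal A) (i : Fin r) :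
    haveI := D.hq i
    IsLocalizedModule (D.q i).primeCompl (psi D c hc i).toLinearMap := by
  haveI := D.hq i
  refine ⟨fun s => ?_, fun b => ?_, @fun x₁ x₂ h => ?_⟩
  · have h1 : algebraMap A (Module.End A (D.B i)) s =
        Algebra.lmul A (D.B i) (algebraMap A (D.B i) s) := by
      ext b
      simp [Algebra.smul_def]
    rw [h1]
    exact (D.hunit i s s.2).map _
  · -- surjectivity
    obtain ⟨a', s', hs', h1⟩ := D.hfin i b
    obtain ⟨σ, hσ, hσw⟩ := exists_sigma D i
    have hlt : D.q i < maximalIdeal A :=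
      lt_of_le_of_ne (IsLocalRing.le_maximalIdeal (D.hq i).ne_top) (hqm i)
    obtain ⟨μ₀, hμ₀, hμ₀'⟩ := SetLike.exists_of_lt hlt
    have hu : IsUnit (algebraMap A L (t ^ D.n)) :=
      IsLocalization.map_units L (⟨t ^ D.n, D.n, rfl⟩ : Submonoid.powers t)
    obtain ⟨v, hv⟩ := hu.exists_right_inv
    set x₁ : L := algebraMap A L (σ * a') * v with hx₁
    have e1 : algebraMap A L (t ^ D.n) * x₁ = algebraMap A L (σ * a') := by
      rw [hx₁]; linear_combination (algebraMap A L (σ * a')) * hv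
    have hx₁i : D.φ i x₁ = algebraMap (D.B i) (D.Li i) (algebraMap A (D.B i) (σ * s') * b) := by
      apply phi_eq_of_mul D i x₁ (σ * a') _ e1
      rw [map_mul, map_mul, ← h1]; ring
    have hx₁M : x₁ ∈ Mk D D.n := by
      refine ⟨⟨σ * a', e1⟩, fun j => ?_⟩
      by_cases hj : j = i
      · subst hj; rw [hx₁i]; exact ⟨_, rfl⟩
      · obtain ⟨w, hw⟩ := hσw j hj
        have : D.φ j x₁ = algebraMap (D.B j) (D.Li j) (w * algebraMap A (D.B j) a') := by
          apply phi_eq_of_mul D j x₁ (σ * a') _ e1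
          rw [map_mul, hw]; ring
        rw [this]; exact ⟨_, rfl⟩
    have hxC : (μ₀ ^ (c + 1)) • x₁ ∈ Calg D c hc :=
      Submodule.mem_sup_right (Submodule.smul_mem_smul (Ideal.pow_mem_pow hμ₀ _) hx₁M)
    have hs : μ₀ ^ (c + 1) * (σ * s') ∈ (D.q i).primeCompl := by
      intro h
      rcases (D.hq i).mem_or_mem h with h | h
      · exact hμ₀' ((D.hq i).mem_of_pow_mem _ h)
      · rcases (D.hq i).mem_or_mem h with h | h
        · exact hσ h
        · exact hs' h
    refine ⟨⟨⟨_, hxC⟩, ⟨_, hs⟩⟩, ?_⟩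
    apply D.hι i
    simp only [AlgHom.toLinearMap_apply]
    rw [algebraMap_psi]
    show algebraMap (D.B i) (D.Li i) ((μ₀ ^ (c + 1) * (σ * s')) • b) = D.φ i ((μ₀ ^ (c + 1)) • x₁)
    rw [Algebra.smul_def (μ₀ ^ (c + 1)) x₁, map_mul (D.φ i), D.hφ, hx₁i, ← map_mul, Algebra.smul_def,
      map_mul (algebraMap A (D.B i)), mul_assoc]
  · have h1 : D.φ i ((x₁ : L) - (x₂ : L)) = 0 := by
      rw [map_sub, ← algebraMap_psi D c hc, ← algebraMap_psi D c hc]
      simp only [AlgHom.toLinearMap_apply] at h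
      rw [h, sub_self]
    obtain ⟨s, hs, hs0⟩ := exists_smul_eq_zero D i _ h1
    refine ⟨⟨s, hs⟩, Subtype.ext ?_⟩
    rw [smul_sub, sub_eq_zero] at hs0
    exact hs0

omit [IsLocalization.Away t L] in
lemma exists_tn_mul (x : Calg D c hc) :
    ∃ a : A, algebraMap A L (t ^ D.n) * (x : L) = algebraMap A L a := (Calg_le D c hc x.2).1

lemma Calg_finite [IsNoetherianRing A] : Module.Finite A (Calg D c hc) := by
  have h1 : (Subalgebra.toSubmodule (Calg D c hc)).FG := fg_of_le_Mk D (Csub_le D c)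
  exact Module.Finite.iff_fg.mpr h1

end Groth.Agent.Lib.Helper26.GlueB
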