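import Mathlib
import Groth.Agent.Lib.Helper26.GlueB
import Groth.Prelude.Def_CycAlg

namespace Groth.Agent.Lib.Helper26.GlueC
universe u
open IsLocalRing Groth.Agent.Lib.Helper26.GlueA Groth.Agent.Lib.Helper26.GlueB

lemma no_chain {A : Type u} [CommRing A] [IsLocalRing A] (hA : ringKrullDim A = 2) (t : A)
    (htnz : t ∈ nonZeroDivisors A) (p p' : Ideal A) [hp : p.IsPrime] [hp' : p'.IsPrime] (htp : t ∈ p)
    (hpp' : p < p') (hp'm : p' ≠ maximalIdeal A) : False := by
  obtain ⟨p₀, hp₀, hp₀p⟩ := Ideal.exists_minimalPrimes_le (bot_le : (⊥ : Ideal A) ≤ p)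
  have hp₀' : p₀.IsPrime := hp₀.1.1
  have hne : p₀ ≠ p := by
    rintro rfl
    exact Set.disjoint_left.mp (Ideal.disjoint_nonZeroDivisors_of_mem_minimalPrimes hp₀) htp htnz
  let P0 : PrimeSpectrum A := ⟨p₀, hp₀'⟩
  let P1 : PrimeSpectrum A := ⟨p, hp⟩
  let P2 : PrimeSpectrum A := ⟨p', hp'⟩
  let P3 : PrimeSpectrum A := ⟨maximalIdeal A, inferInstance⟩
  have l01 : P0 < P1 := lt_of_le_of_ne hp₀p (fun h => hne (congrArg PrimeSpectrum.asIdeal h))
  have l12 : P1 < P2 := hpp'
  have l23 : P2 < P3 := lt_of_le_of_ne (IsLocalRing.le_maximalIdeal hp'.ne_top)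
    (fun h => hp'm (congrArg PrimeSpectrum.asIdeal h))
  have hfin : ∀ x : PrimeSpectrum A, Order.height x < ⊤ := by
    intro x
    have h1 := Order.height_le_krullDim x
    rw [show Order.krullDim (PrimeSpectrum A) = ringKrullDim A from rfl, hA] at h1
    have h1' : ((Order.height x : ℕ∞) : WithBot ℕ∞) ≤ ((2 : ℕ∞) : WithBot ℕ∞) := h1
    have h2 : Order.height x ≤ 2 := WithBot.coe_le_coe.mp h1'
    exact lt_of_le_of_lt h2 (by decide)
  have h1 := Order.height_strictMono l01 (hfin _)
  have h2 := Order.height_strictMono l12 (hfin _)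
  have h3 := Order.height_strictMono l23 (hfin _)
  have e1 : (1 : ℕ∞) ≤ Order.height P1 := by
    have h0 : (0 : ℕ∞) < Order.height P1 := lt_of_le_of_lt (by simp) h1
    have := Order.add_one_le_of_lt h0
    simpa using this
  have e2 : (2 : ℕ∞) ≤ Order.height P2 := by
    have := Order.add_one_le_of_lt h2
    calc (2 : ℕ∞) = 1 + 1 := by norm_num
      _ ≤ Order.height P1 + 1 := by gcongr
      _ ≤ _ := this
  have e3 : (3 : ℕ∞) ≤ Order.height P3 := by
    have := Order.add_one_le_of_lt h3
    calc (3 : ℕ∞) = 2 + 1 := by norm_num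
      _ ≤ Order.height P2 + 1 := by gcongr
      _ ≤ _ := this
  have h4 := Order.height_le_krullDim P3
  rw [show Order.krullDim (PrimeSpectrum A) = ringKrullDim A from rfl, hA] at h4
  have h4' : ((Order.height P3 : ℕ∞) : WithBot ℕ∞) ≤ ((2 : ℕ∞) : WithBot ℕ∞) := h4
  have h5 : Order.height P3 ≤ 2 := WithBot.coe_le_coe.mp h4'
  have := e3.trans h5
  exact absurd this (by decide)

open TensorProduct in
theorem main_6481 (A : Type u) [CommRing A] [IsNoetherianRing A] [IsLocalRing A]
    (hA : ringKrullDim A = 2) (t : A) (ht : t ∈ IsLocalRing.maximalIdeal A)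
    (htnz : t ∈ nonZeroDivisors A) (r : ℕ) (q : Fin r → Ideal A) (hq : ∀ i, (q i).IsPrime)
    (hinj : Function.Injective q) (hqm : ∀ i, q i ≠ IsLocalRing.maximalIdeal A)
    (htq : ∀ i, t ∈ q i)
    (hV : ∀ p : Ideal A, p.IsPrime → t ∈ p → p = IsLocalRing.maximalIdeal A ∨ ∃ i, p = q i)
    (B : Fin r → Type u) [∀ i, CommRing (B i)] [∀ i, Algebra (Localization.AtPrime (q i)) (B i)]
    (hB : ∀ i, CycAlg.IsFinExt (Localization.AtPrime (q i)) (B i)
      (Ideal.span {algebraMap A (Localization.AtPrime (q i)) t}))
    (htB : ∀ i, IsSMulRegular (B i) (algebraMap A (Localization.AtPrime (q i)) t)) :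
    ∃ (C : Type u) (_ : CommRing C) (_ : Algebra A C), CycAlg.IsFinExt A C (Ideal.span {t}) ∧
      ∀ i, Nonempty (TensorProduct A (Localization.AtPrime (q i)) C
        ≃ₐ[Localization.AtPrime (q i)] B i) := by
  classical
  letI instAB : ∀ i, Algebra A (B i) := fun i =>
    ((algebraMap (Localization.AtPrime (q i)) (B i)).comp
      (algebraMap A (Localization.AtPrime (q i)))).toAlgebra
  haveI tower : ∀ i, IsScalarTower A (Localization.AtPrime (q i)) (B i) := fun i =>
    IsScalarTower.of_algebraMap_eq (fun _ => rfl)
  have hρ : ∀ i (a : A), algebraMap A (B i) a =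
      algebraMap (Localization.AtPrime (q i)) (B i) (algebraMap A (Localization.AtPrime (q i)) a) :=
    fun _ _ => rfl
  -- incomparability
  have hincomp : ∀ i j, q j ≤ q i → j = i := by
    intro i j hji
    by_contra hne
    have hlt : q j < q i := lt_of_le_of_ne hji (fun h => hne (hinj h))
    exact no_chain hA t htnz (q j) (q i) (htq j) hlt (hqm i)
  -- the exponent
  choose nn hnn using fun i => (hB i).2.2
  set n := ∑ i, nn i with hn
  have hnle : ∀ i, nn i ≤ n := fun i =>
    Finset.single_le_sum (fun _ _ => Nat.zero_le _) (Finset.mem_univ i)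
  have htn : ∀ i (b : B i), ∃ z : Localization.AtPrime (q i),
      algebraMap _ (B i) z = (algebraMap A (B i) t) ^ n * b := by
    intro i b
    have hmem : (algebraMap A (Localization.AtPrime (q i)) t) ^ n ∈
        (Ideal.span {algebraMap A (Localization.AtPrime (q i)) t}) ^ (nn i) :=
      Ideal.pow_le_pow_right (hnle i) (Ideal.pow_mem_pow (Ideal.mem_span_singleton_self _) n)
    obtain ⟨z, hz⟩ := hnn i _ hmem b
    refine ⟨z, ?_⟩
    rw [hz, Algebra.smul_def, map_pow, hρ]
  have hfin : ∀ i (b : B i), ∃ a s : A, s ∉ q i ∧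
      algebraMap A (B i) s * (algebraMap A (B i) t) ^ n * b = algebraMap A (B i) a := by
    intro i b
    obtain ⟨z, hz⟩ := htn i b
    obtain ⟨⟨a, s⟩, has⟩ := IsLocalization.surj (q i).primeCompl z
    refine ⟨a, s, s.2, ?_⟩
    rw [mul_assoc, ← hz, hρ, hρ, ← map_mul, mul_comm, has]
  have hker : ∀ i (a : A), algebraMap A (B i) a = 0 → ∃ s, s ∉ q i ∧ s * a = 0 := by
    intro i a ha
    have h1 : algebraMap A (Localization.AtPrime (q i)) a = 0 := by
      apply (hB i).1
      rw [map_zero, ← hρ, ha]
    obtain ⟨s, hs⟩ := (IsLocalization.map_eq_zero_iff (q i).primeCompl _ a).mp h1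
    exact ⟨s, s.2, hs⟩
  have hunit : ∀ i (s : A), s ∉ q i → IsUnit (algebraMap A (B i) s) := by
    intro i s hs
    rw [hρ]
    exact (IsLocalization.map_units (Localization.AtPrime (q i))
      (⟨s, hs⟩ : (q i).primeCompl)).map _
  have hrad : ∀ i j, j ≠ i → ∃ σ : A, σ ∉ q i ∧ ∃ w : B j,
      algebraMap A (B j) σ = (algebraMap A (B j) t) ^ n * w := by
    intro i j hji
    have hnle' : ¬ q j ≤ q i := fun h => hji (hincomp i j h)
    obtain ⟨s, hsj, hsi⟩ := SetLike.not_le_iff_exists.mp hnle'
    have hrad' : maximalIdeal (Localization.AtPrime (q j)) ≤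
        (Ideal.span {(algebraMap A (Localization.AtPrime (q j)) t) ^ n}).radical := by
      rw [Ideal.radical_eq_sInf]
      refine le_sInf ?_
      rintro P ⟨hP, hPprime⟩
      have htP : algebraMap A (Localization.AtPrime (q j)) t ∈ P :=
        hPprime.mem_of_pow_mem n (hP (Ideal.mem_span_singleton_self _))
      have hcP : (P.comap (algebraMap A (Localization.AtPrime (q j)))).IsPrime := inferInstance
      have hle : P.comap (algebraMap A (Localization.AtPrime (q j))) ≤ q j := by
        have := Ideal.comap_mono (f := algebraMap A (Localization.AtPrime (q j)))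
          (IsLocalRing.le_maximalIdeal hPprime.ne_top)
        have h2 : (maximalIdeal (Localization.AtPrime (q j))).comap
            (algebraMap A (Localization.AtPrime (q j))) = q j :=
          IsLocalization.AtPrime.comap_maximalIdeal (Localization.AtPrime (q j)) (q j)
        rwa [h2] at this
      have heq : P.comap (algebraMap A (Localization.AtPrime (q j))) = q j := by
        rcases hV _ hcP htP with h | ⟨l, hl⟩
        · rw [h] at hle
          exact absurd (le_antisymm hle (IsLocalRing.le_maximalIdeal (hq j).ne_top)).symm (hqm j)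
        · rw [hl] at hle
          rw [hl, hincomp j l hle]
      have : P = maximalIdeal (Localization.AtPrime (q j)) := by
        rw [← IsLocalization.map_comap (q j).primeCompl (Localization.AtPrime (q j)) P,
          show Ideal.under A P = q j from heq, Localization.AtPrime.map_eq_maximalIdeal]
      rw [this]
    have hsm : algebraMap A (Localization.AtPrime (q j)) s ∈
        maximalIdeal (Localization.AtPrime (q j)) := by
      rw [← Localization.AtPrime.map_eq_maximalIdeal]
      exact Ideal.mem_map_of_mem _ hsj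
    obtain ⟨e, he⟩ := hrad' hsm
    obtain ⟨w', hw'⟩ := Ideal.mem_span_singleton'.mp he
    refine ⟨s ^ e, fun h => hsi ((hq i).mem_of_pow_mem _ h), algebraMap _ (B j) w', ?_⟩
    rw [hρ, map_pow, ← hw', map_mul, map_pow, hρ, mul_comm]
  have hι : ∀ i, Function.Injective
      (algebraMap (B i) (Localization.Away (algebraMap A (B i) t))) := by
    intro i
    apply IsLocalization.injective _ (M := Submonoid.powers (algebraMap A (B i) t))
    rw [Submonoid.powers_le, mem_nonZeroDivisors_iff_left]
    intro x hx
    apply htB i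
    simp only [smul_zero]
    rw [Algebra.smul_def, ← hρ, hx]
  let D : Data A t (Localization.Away t) r :=
    { q := q
      hq := hq
      B := B
      Li := fun i => Localization.Away (algebraMap A (B i) t)
      φ := fun i => IsLocalization.Away.lift (S := Localization.Away t) t
        (g := (algebraMap (B i) (Localization.Away (algebraMap A (B i) t))).comp
          (algebraMap A (B i)))
        (IsLocalization.Away.algebraMap_isUnit (R := B i)
          (S := Localization.Away (algebraMap A (B i) t)) (algebraMap A (B i) t))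
      hφ := fun i a => IsLocalization.Away.lift_eq (S := Localization.Away t) t _ a
      hι := hι
      n := n
      hker := hker
      hfin := hfin
      hrad := hrad
      htunit := fun i => IsLocalization.Away.algebraMap_isUnit (R := B i)
          (S := Localization.Away (algebraMap A (B i) t)) (algebraMap A (B i) t)
      hunit := hunit }
  obtain ⟨c, hc⟩ := exists_pow_smul_le D hV
  refine ⟨Calg D c hc, inferInstance, inferInstance, ⟨?_, Calg_finite D c hc, n, ?_⟩, fun i => ?_⟩
  · -- injective
    intro a a' haa'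
    have h1 : algebraMap A (Localization.Away t) a = algebraMap A (Localization.Away t) a' :=
      congrArg Subtype.val haa'
    exact IsLocalization.injective (Localization.Away t)
      (Submonoid.powers_le.mpr htnz) h1
  · -- t^n C ⊆ A
    intro x hx b
    rw [Ideal.span_singleton_pow, Ideal.mem_span_singleton'] at hx
    obtain ⟨a, rfl⟩ := hx
    obtain ⟨ab, hab⟩ := exists_tn_mul D c hc b
    refine ⟨a * ab, Subtype.ext ?_⟩
    show algebraMap A (Localization.Away t) (a * ab) = (a * t ^ n) • (b : Localization.Away t)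
    rw [Algebra.smul_def, map_mul, map_mul, ← hab]
    ring
  · -- the tensor product
    haveI := hq i
    have hloc : IsLocalizedModule (q i).primeCompl (psi D c hc i).toLinearMap :=
      isLocalizedModule_psi D c hc hqm i
    have hbc : IsBaseChange (Localization.AtPrime (q i)) (psi D c hc i).toLinearMap :=
      IsLocalizedModule.isBaseChange (q i).primeCompl (Localization.AtPrime (q i)) _
    let g : (Localization.AtPrime (q i)) ⊗[A] (Calg D c hc) →ₐ[Localization.AtPrime (q i)] B i :=
      Algebra.TensorProduct.lift (Algebra.ofId _ _) (psi D c hc i) (fun _ _ => Commute.all _ _)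
    have hg : (g : (Localization.AtPrime (q i)) ⊗[A] (Calg D c hc) → B i) = hbc.equiv := by
      funext z
      induction z using TensorProduct.induction_on with
      | zero => simp
      | tmul a x =>
        rw [IsBaseChange.equiv_tmul]
        simp only [g, Algebra.TensorProduct.lift_tmul, Algebra.ofId_apply, Algebra.smul_def]
        rfl
      | add u v hu hv => rw [map_add, map_add, hu, hv]
    have hgb : Function.Bijective g := by
      rw [hg]; exact hbc.equiv.bijective
    exact ⟨AlgEquiv.ofBijective g hgb⟩

end Groth.Agent.Lib.Helper26.GlueC
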