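import Mathlib

namespace Groth.Agent.Lib.Helper26.GrSmA
open scoped TensorProduct
open KaehlerDifferential

universe u

section retract
variable {R A₀ A : Type u} [CommRing R] [CommRing A₀] [CommRing A] [Algebra R A₀] [Algebra R A]
  [Algebra A₀ A] [IsScalarTower R A₀ A] (ε : A →ₐ[A₀] A₀)

include ε in
theorem formallySmooth_of_retract [Algebra.FormallySmooth R A] : Algebra.FormallySmooth R A₀ := by
  apply Algebra.FormallySmooth.of_comp_surjective
  intro E _ _ J hJ g
  obtain ⟨h, hh⟩ := Algebra.FormallySmooth.comp_surjective R A J hJ (g.comp (ε.restrictScalars R))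
  refine ⟨h.comp (IsScalarTower.toAlgHom R A₀ A), ?_⟩
  ext a₀
  have := congrArg (fun f => f (algebraMap A₀ A a₀)) hh
  simpa using this

theorem cotangent_finite_projective [Algebra.FormallySmooth R A] [Algebra.FiniteType R A] :
    Module.Finite A₀ (RingHom.ker (ε : A →+* A₀)).Cotangent ∧
      Module.Projective A₀ (RingHom.ker (ε : A →+* A₀)).Cotangent := by
  letI : Algebra A A₀ := (ε : A →+* A₀).toAlgebra
  have hε : ∀ a, algebraMap A A₀ a = ε a := fun _ => rfl
  haveI : IsScalarTower R A A₀ := IsScalarTower.of_algebraMap_eq fun r => by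
    rw [hε, IsScalarTower.algebraMap_apply R A₀ A, ε.commutes]; rfl
  haveI : IsScalarTower A₀ A A₀ := IsScalarTower.of_algebraMap_eq fun a₀ => by
    rw [hε, ε.commutes]
  have hsurj : Function.Surjective (algebraMap A A₀) := fun a₀ => ⟨algebraMap A₀ A a₀, ε.commutes a₀⟩
  haveI : Algebra.FormallySmooth R A₀ := formallySmooth_of_retract ε
  obtain ⟨l, hl⟩ := (Algebra.FormallySmooth.iff_split_injection (R := R) (P := A) (A := A₀)
    hsurj).mp inferInstance
  let i' : (RingHom.ker (algebraMap A A₀)).Cotangent →ₗ[A₀] A₀ ⊗[A] Ω[A⁄R] :=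
    (kerCotangentToTensor R A A₀).restrictScalars A₀
  let l' : A₀ ⊗[A] Ω[A⁄R] →ₗ[A₀] (RingHom.ker (algebraMap A A₀)).Cotangent := l.restrictScalars A₀
  have hli : l' ∘ₗ i' = LinearMap.id := by
    ext x
    exact LinearMap.congr_fun hl x
  haveI : Module.Projective A (Ω[A⁄R]) := inferInstance
  haveI : Module.Finite A (Ω[A⁄R]) := inferInstance
  haveI : Module.Projective A₀ (A₀ ⊗[A] Ω[A⁄R]) := inferInstance
  haveI : Module.Finite A₀ (A₀ ⊗[A] Ω[A⁄R]) := inferInstance
  have hsurj' : Function.Surjective l' := fun x => ⟨i' x, LinearMap.congr_fun hli x⟩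
  exact ⟨Module.Finite.of_surjective l' hsurj', Module.Projective.of_split i' l' hli⟩

end retract

end Groth.Agent.Lib.Helper26.GrSmA
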