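import Mathlib
import Groth.Agent.Lib.Helper3.SymGrading

namespace Groth.Agent.Lib.Helper26.GrSmB
open Groth.Agent.Lib.Helper3.SymGr

universe u
variable (C P : Type u) [CommRing C] [AddCommGroup P] [Module C P]

/-- the augmentation ideal `B₊` of the symmetric algebra -/
def aug : Ideal (SymmetricAlgebra C P) := Ideal.span (Set.range (SymmetricAlgebra.ι C P))

/-- elements with vanishing components in degrees `< n` -/
def lowZero (n : ℕ) : Ideal (SymmetricAlgebra C P) where
  carrier := {x | ∀ i < n, (DirectSum.decompose (symDeg C P) x i : SymmetricAlgebra C P) = 0}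
  add_mem' := by
    intro x y hx hy i hi
    rw [DirectSum.decompose_add, DirectSum.add_apply, Submodule.coe_add, hx i hi, hy i hi, add_zero]
  zero_mem' := by
    intro i _
    rw [DirectSum.decompose_zero]; rfl
  smul_mem' := by
    intro b x hx
    rw [smul_eq_mul]
    induction b using DirectSum.Decomposition.inductionOn (symDeg C P) with
    | zero => intro i _; rw [zero_mul, DirectSum.decompose_zero]; rfl
    | homogeneous b =>
      rename_i j
      intro i hi
      by_cases hji : j ≤ i
      · rw [DirectSum.coe_decompose_mul_of_left_mem_of_le (symDeg C P) b.2 hji,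
          hx (i - j) (by omega), mul_zero]
      · rw [DirectSum.coe_decompose_mul_of_left_mem_of_not_le (symDeg C P) b.2 hji]
    | add b b' hb hb' =>
      intro i hi
      rw [add_mul, DirectSum.decompose_add, DirectSum.add_apply, Submodule.coe_add, hb i hi,
        hb' i hi, add_zero]

lemma mem_lowZero {n : ℕ} {x : SymmetricAlgebra C P} :
    x ∈ lowZero C P n ↔
      ∀ i < n, (DirectSum.decompose (symDeg C P) x i : SymmetricAlgebra C P) = 0 := Iff.rfl

lemma ι_mul_mem (n : ℕ) (p : P) (x : SymmetricAlgebra C P) (hx : x ∈ lowZero C P n) :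
    SymmetricAlgebra.ι C P p * x ∈ lowZero C P (n + 1) := by
  intro i hi
  have hp : SymmetricAlgebra.ι C P p ∈ symDeg C P 1 := by
    rw [symDeg, pow_one]; exact LinearMap.mem_range_self _ p
  by_cases h1 : 1 ≤ i
  · rw [DirectSum.coe_decompose_mul_of_left_mem_of_le (symDeg C P) hp h1,
      hx (i - 1) (by omega), mul_zero]
  · rw [DirectSum.coe_decompose_mul_of_left_mem_of_not_le (symDeg C P) hp h1]

lemma aug_pow_le (n : ℕ) : aug C P ^ n ≤ lowZero C P n := by
  induction n with
  | zero =>
    intro x _ i hi
    omega
  | succ n ih =>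
    rw [pow_succ', Ideal.mul_le]
    intro u hu x hx
    have hx' := ih hx
    unfold aug at hu
    induction hu using Submodule.span_induction with
    | mem u hu =>
      obtain ⟨p, rfl⟩ := hu
      exact ι_mul_mem C P n p x hx'
    | zero => rw [zero_mul]; exact Ideal.zero_mem _
    | add u v _ _ hu hv => rw [add_mul]; exact Ideal.add_mem _ hu hv
    | smul b u _ hu =>
      rw [smul_eq_mul, mul_assoc]
      exact Ideal.mul_mem_left _ _ hu

theorem eq_zero_of_mem_aug_pow (x : SymmetricAlgebra C P) (hx : ∀ n, x ∈ aug C P ^ n) : x = 0 := by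
  apply (DirectSum.decompose (symDeg C P)).injective
  rw [DirectSum.decompose_zero]
  ext i
  have := aug_pow_le C P (i + 1) (hx (i + 1)) i (by omega)
  rw [this]; rfl

end Groth.Agent.Lib.Helper26.GrSmB
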