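import Mathlib
import Groth.Agent.Lib.Helper26.GrSmA
import Groth.Agent.Lib.Helper26.GrSmB

namespace Groth.Agent.Lib.Helper26.GrSmC
open scoped TensorProduct
open KaehlerDifferential
open Groth.Agent.Lib.Helper26.GrSmA Groth.Agent.Lib.Helper26.GrSmB

universe u

section symalg
variable {C P : Type u} [CommRing C] [AddCommGroup P] [Module C P]

theorem formallySmooth_symAlg [Module.Projective C P] :
    Algebra.FormallySmooth C (SymmetricAlgebra C P) := by
  apply Algebra.FormallySmooth.of_comp_surjective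
  intro E _ _ I hI g
  obtain ⟨l, hl⟩ := Module.projective_lifting_property (Ideal.Quotient.mkₐ C I).toLinearMap
    (g.toLinearMap ∘ₗ SymmetricAlgebra.ι C P) Ideal.Quotient.mk_surjective
  refine ⟨SymmetricAlgebra.lift l, ?_⟩
  apply SymmetricAlgebra.algHom_ext
  ext p
  have := congrArg (fun f => f p) hl
  simpa using this

/-- every element is `a₀ + ι p + q` with `q ∈ B₊²` -/
theorem exists_decomp (b : SymmetricAlgebra C P) :
    ∃ (c : C) (p : P) (q : SymmetricAlgebra C P), q ∈ aug C P ^ 2 ∧
      b = algebraMap C _ c + SymmetricAlgebra.ι C P p + q := by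
  induction b using SymmetricAlgebra.induction with
  | algebraMap r => exact ⟨r, 0, 0, Ideal.zero_mem _, by simp⟩
  | ι x => exact ⟨0, x, 0, Ideal.zero_mem _, by simp⟩
  | mul a b ha hb =>
    obtain ⟨c, p, q, hq, rfl⟩ := ha
    obtain ⟨c', p', q', hq', rfl⟩ := hb
    have hι : ∀ p : P, SymmetricAlgebra.ι C P p ∈ aug C P := fun p =>
      Ideal.subset_span ⟨p, rfl⟩
    refine ⟨c * c', c • p' + c' • p,
      SymmetricAlgebra.ι C P p * SymmetricAlgebra.ι C P p' +
        (algebraMap C _ c + SymmetricAlgebra.ι C P p) * q' +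
        q * (algebraMap C _ c' + SymmetricAlgebra.ι C P p' + q'), ?_, ?_⟩
    · refine Ideal.add_mem _ (Ideal.add_mem _ ?_ (Ideal.mul_mem_left _ _ hq'))
        (Ideal.mul_mem_right _ _ hq)
      rw [pow_two]
      exact Ideal.mul_mem_mul (hι p) (hι p')
    · rw [map_mul, map_add, map_smul, map_smul, Algebra.smul_def, Algebra.smul_def]
      ring
  | add a b ha hb =>
    obtain ⟨c, p, q, hq, rfl⟩ := ha
    obtain ⟨c', p', q', hq', rfl⟩ := hb
    refine ⟨c + c', p + p', q + q', Ideal.add_mem _ hq hq', ?_⟩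
    rw [map_add, map_add]; ring

end symalg

section core
variable {R B A : Type u} [CommRing R] [CommRing B] [CommRing A] [Algebra R B] [Algebra R A]
  [Algebra B A] [IsScalarTower R B A]

theorem ker_le_mul_ker [Algebra.FormallySmooth R B] [Algebra.FormallySmooth R A]
    (hsurj : Function.Surjective (algebraMap B A)) (J : Ideal B)
    (hK2 : RingHom.ker (algebraMap B A) ≤ J ^ 2) :
    RingHom.ker (algebraMap B A) ≤ J * RingHom.ker (algebraMap B A) := by
  obtain ⟨l, hl⟩ := (Algebra.FormallySmooth.iff_split_injection (R := R)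
    (P := B) (A := A) hsurj).mp inferInstance
  have hD : ∀ x ∈ J ^ 2, D R B x ∈ (J • ⊤ : Submodule B (Ω[B⁄R])) := by
    intro x hx
    rw [pow_two] at hx
    induction hx using Submodule.mul_induction_on' with
    | mem_mul_mem u hu v hv =>
      rw [Derivation.leibniz]
      exact Submodule.add_mem _ (Submodule.smul_mem_smul hu trivial)
        (Submodule.smul_mem_smul hv trivial)
    | add x _ y _ hx hy => rw [map_add]; exact Submodule.add_mem _ hx hy
  intro x hx
  have e1 : (RingHom.ker (algebraMap B A)).toCotangent ⟨x, hx⟩ = l (1 ⊗ₜ D R _ x) := by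
    have := LinearMap.congr_fun hl ((RingHom.ker (algebraMap B A)).toCotangent ⟨x, hx⟩)
    rw [LinearMap.comp_apply, kerCotangentToTensor_toCotangent] at this
    exact this.symm
  let Φ : Ω[B⁄R] →ₗ[B] (RingHom.ker (algebraMap B A)).Cotangent :=
    l ∘ₗ (TensorProduct.mk B A (Ω[B⁄R]) 1)
  have e2 : Φ (D R _ x) ∈ (J • ⊤ : Submodule B (RingHom.ker (algebraMap B A)).Cotangent) := by
    have h1 := Submodule.mem_map_of_mem (f := Φ) (hD x (hK2 hx))
    rw [Submodule.map_smul''] at h1
    exact Submodule.smul_mono le_rfl le_top h1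
  have e3 : (J • ⊤ : Submodule B (RingHom.ker (algebraMap B A)).Cotangent) =
      Submodule.map (RingHom.ker (algebraMap B A)).toCotangent (J • ⊤) := by
    rw [Submodule.map_smul'', Submodule.map_top,
      LinearMap.range_eq_top.mpr (RingHom.ker (algebraMap B A)).toCotangent_surjective]
  rw [e3] at e2
  obtain ⟨y, hy, hyx⟩ := e2
  have e4 : (RingHom.ker (algebraMap B A)).toCotangent y =
      (RingHom.ker (algebraMap B A)).toCotangent ⟨x, hx⟩ := by rw [hyx, e1]; rfl
  rw [Ideal.toCotangent_eq] at e4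
  have e5 : (y : B) ∈ J * RingHom.ker (algebraMap B A) := by
    have h1 := Submodule.mem_map_of_mem (f := (RingHom.ker (algebraMap B A)).subtype) hy
    rw [Submodule.map_smul'', Submodule.map_subtype_top] at h1
    exact h1
  have e6 : RingHom.ker (algebraMap B A) ^ 2 ≤ J * RingHom.ker (algebraMap B A) := by
    rw [pow_two]
    exact Ideal.mul_mono_left (hK2.trans (Ideal.pow_le_self two_ne_zero))
  have := Ideal.sub_mem _ e5 (e6 e4)
  simpa using this

end core

section inj
variable {R A₀ A : Type u} [CommRing R] [CommRing A₀] [CommRing A] [Algebra R A₀] [Algebra R A]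
  [Algebra A₀ A] [IsScalarTower R A₀ A] (ε : A →ₐ[A₀] A₀) (I : Ideal A)
  (s : I.Cotangent →ₗ[A₀] A)

include ε in
theorem lift_injective [Algebra.FormallySmooth R A] [Module.Projective A₀ I.Cotangent]
    (hI : ∀ a, a ∈ I ↔ ε a = 0)
    (hs : ∀ p, ∃ x : I, s p = x ∧ I.toCotangent x = p)
    (hsurj : Function.Surjective (SymmetricAlgebra.lift s)) :
    Function.Injective (SymmetricAlgebra.lift s) := by
  haveI : Algebra.FormallySmooth R A₀ := formallySmooth_of_retract ε
  haveI : Algebra.FormallySmooth A₀ (SymmetricAlgebra A₀ I.Cotangent) :=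
    formallySmooth_symAlg
  haveI : Algebra.FormallySmooth R (SymmetricAlgebra A₀ I.Cotangent) :=
    Algebra.FormallySmooth.comp R A₀ _
  letI algBA : Algebra (SymmetricAlgebra A₀ I.Cotangent) A :=
    (SymmetricAlgebra.lift s).toRingHom.toAlgebra
  have hΨ : ∀ b, algebraMap (SymmetricAlgebra A₀ I.Cotangent) A b =
      SymmetricAlgebra.lift s b := fun _ => rfl
  haveI : IsScalarTower R (SymmetricAlgebra A₀ I.Cotangent) A :=
    IsScalarTower.of_algebraMap_eq fun r => by
      rw [hΨ, IsScalarTower.algebraMap_apply R A₀ (SymmetricAlgebra A₀ _), AlgHom.commutes,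
        ← IsScalarTower.algebraMap_apply]
  have hsurj' : Function.Surjective
      (algebraMap (SymmetricAlgebra A₀ I.Cotangent) A) := hsurj
  have hΨι : ∀ p, SymmetricAlgebra.lift s (SymmetricAlgebra.ι A₀ I.Cotangent p) = s p :=
    fun p => SymmetricAlgebra.lift_ι_apply s p
  have hsI : ∀ p, s p ∈ I := by
    intro p
    obtain ⟨x, hx, -⟩ := hs p
    rw [hx]; exact x.2
  have haug : aug A₀ I.Cotangent ≤ Ideal.comap (SymmetricAlgebra.lift s) I := by
    unfold aug
    rw [Ideal.span_le]
    rintro _ ⟨p, rfl⟩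
    simp only [SetLike.mem_coe, Ideal.mem_comap]
    rw [hΨι]; exact hsI p
  have haug2 : aug A₀ I.Cotangent ^ 2 ≤ Ideal.comap (SymmetricAlgebra.lift s) (I ^ 2) :=
    (Ideal.pow_right_mono haug 2).trans (Ideal.le_comap_pow _ 2)
  have hεI : ∀ a ∈ I, ε a = 0 := fun a ha => (hI a).mp ha
  have hK2 : RingHom.ker (algebraMap (SymmetricAlgebra A₀ I.Cotangent) A) ≤
      aug A₀ I.Cotangent ^ 2 := by
    intro b hb
    obtain ⟨c, p, q, hq, rfl⟩ := exists_decomp b
    have hb' : algebraMap A₀ A c + s p + SymmetricAlgebra.lift s q = 0 := by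
      have : SymmetricAlgebra.lift s (algebraMap A₀ _ c + SymmetricAlgebra.ι A₀ I.Cotangent p + q)
          = 0 := hb
      rwa [map_add, map_add, AlgHom.commutes, hΨι] at this
    have hq2 : SymmetricAlgebra.lift s q ∈ I ^ 2 := haug2 hq
    have hq1 : SymmetricAlgebra.lift s q ∈ I := Ideal.pow_le_self two_ne_zero hq2
    have hc : c = 0 := by
      have := congrArg ε hb'
      rw [map_add, map_add, AlgHom.commutes, hεI _ (hsI p), hεI _ hq1, map_zero, add_zero,
        add_zero] at this
      exact this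
    obtain ⟨x, hx1, hx2⟩ := hs p
    have hx3 : (x : A) ∈ I ^ 2 := by
      rw [← hx1]
      have : s p = - SymmetricAlgebra.lift s q := by
        rw [hc, map_zero, zero_add] at hb'
        exact eq_neg_of_add_eq_zero_left hb'
      rw [this]; exact (Ideal.neg_mem_iff _).mpr hq2
    have hp : p = 0 := by
      rw [← hx2, Ideal.toCotangent_eq_zero]; exact hx3
    rw [hc, hp, map_zero, map_zero, zero_add, zero_add]
    exact hq
  have key := ker_le_mul_ker (R := R) hsurj' (aug A₀ I.Cotangent) hK2
  have hpow : ∀ n : ℕ, RingHom.ker (algebraMap (SymmetricAlgebra A₀ I.Cotangent) A) ≤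
      aug A₀ I.Cotangent ^ n * RingHom.ker (algebraMap (SymmetricAlgebra A₀ I.Cotangent) A) := by
    intro n
    induction n with
    | zero => rw [pow_zero, one_mul]
    | succ n ih =>
      calc RingHom.ker (algebraMap (SymmetricAlgebra A₀ I.Cotangent) A)
          ≤ aug A₀ I.Cotangent ^ n *
            RingHom.ker (algebraMap (SymmetricAlgebra A₀ I.Cotangent) A) := ih
        _ ≤ aug A₀ I.Cotangent ^ n * (aug A₀ I.Cotangent *
            RingHom.ker (algebraMap (SymmetricAlgebra A₀ I.Cotangent) A)) :=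
            Ideal.mul_mono_right key
        _ = aug A₀ I.Cotangent ^ (n + 1) *
            RingHom.ker (algebraMap (SymmetricAlgebra A₀ I.Cotangent) A) := by
            rw [pow_succ, mul_assoc]
  rw [injective_iff_map_eq_zero]
  intro x hx
  have hxK : x ∈ RingHom.ker (algebraMap (SymmetricAlgebra A₀ I.Cotangent) A) := by
    rw [RingHom.mem_ker, hΨ]; exact hx
  have h2 : ∀ n, x ∈ aug A₀ I.Cotangent ^ n := by
    intro n
    exact Ideal.mul_le_left (hpow n hxK)
  exact eq_zero_of_mem_aug_pow A₀ I.Cotangent x h2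

end inj

end Groth.Agent.Lib.Helper26.GrSmC
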