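import Mathlib

namespace Groth.Agent.Lib.Helper26.GrSmD
open DirectSum

universe u
variable {R A : Type u} [CommRing R] [CommRing A] [Algebra R A] {N : Type} [AddCommMonoid N]
  [DecidableEq N] (𝒜 : N → Submodule R A) [GradedAlgebra 𝒜]

lemma coe_decompose_of_mem {x : A} {i : N} (hx : x ∈ 𝒜 i) (j : N) :
    (decompose 𝒜 x j : A) = if i = j then x else 0 := by
  split_ifs with h
  · subst h; exact decompose_of_mem_same 𝒜 hx
  · exact decompose_of_mem_ne 𝒜 hx h

lemma add_eq_zero_left (hsharp : ∀ n : N, IsAddUnit n → n = 0) {j k : N} (h : j + k = 0) :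
    j = 0 := hsharp j (isAddUnit_iff_exists_neg.mpr ⟨k, h⟩)

lemma add_eq_zero_right (hsharp : ∀ n : N, IsAddUnit n → n = 0) {j k : N} (h : j + k = 0) :
    k = 0 := add_eq_zero_left hsharp (by rwa [add_comm] at h)

lemma proj0_mul (hsharp : ∀ n : N, IsAddUnit n → n = 0) (a b : A) :
    (decompose 𝒜 (a * b) 0 : A) = (decompose 𝒜 a 0 : A) * (decompose 𝒜 b 0 : A) := by
  induction a using DirectSum.Decomposition.inductionOn 𝒜 with
  | zero => simp
  | homogeneous a =>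
    rename_i j
    induction b using DirectSum.Decomposition.inductionOn 𝒜 with
    | zero => simp
    | homogeneous b =>
      rename_i k
      have hab : (a : A) * (b : A) ∈ 𝒜 (j + k) := SetLike.GradedMul.mul_mem a.2 b.2
      rw [coe_decompose_of_mem 𝒜 hab, coe_decompose_of_mem 𝒜 a.2, coe_decompose_of_mem 𝒜 b.2]
      by_cases hj : j = 0
      · by_cases hk : k = 0
        · simp [hj, hk]
        · have : j + k ≠ 0 := fun h => hk (add_eq_zero_right hsharp h)
          simp [this, hk]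
      · have : j + k ≠ 0 := fun h => hj (add_eq_zero_left hsharp h)
        simp [this, hj]
    | add b b' hb hb' =>
      rw [mul_add, decompose_add, DirectSum.add_apply, Submodule.coe_add, hb, hb', decompose_add, DirectSum.add_apply,
        Submodule.coe_add, mul_add]
  | add a a' ha ha' =>
    rw [add_mul, decompose_add, DirectSum.add_apply, Submodule.coe_add, ha, ha', decompose_add, DirectSum.add_apply,
      Submodule.coe_add, add_mul]

/-- the augmentation `A → A₀` -/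
noncomputable def eps (hsharp : ∀ n : N, IsAddUnit n → n = 0) : A →ₐ[↥(𝒜 0)] ↥(𝒜 0) where
  toFun a := decompose 𝒜 a 0
  map_one' := by
    apply Subtype.ext
    exact decompose_of_mem_same 𝒜 (SetLike.GradedOne.one_mem)
  map_mul' a b := by
    apply Subtype.ext
    exact proj0_mul 𝒜 hsharp a b
  map_zero' := by rw [decompose_zero]; rfl
  map_add' a b := by rw [decompose_add]; rfl
  commutes' a₀ := by
    apply Subtype.ext
    exact decompose_of_mem_same 𝒜 a₀.2

lemma coe_eps (hsharp : ∀ n : N, IsAddUnit n → n = 0) (a : A) :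
    ((eps 𝒜 hsharp a : ↥(𝒜 0)) : A) = (decompose 𝒜 a 0 : A) := rfl

/-- the homogeneous component as an `A₀`-linear map -/
noncomputable def pr (n : N) : A →ₗ[↥(𝒜 0)] A where
  toFun a := (decompose 𝒜 a n : A)
  map_add' a b := by rw [decompose_add, DirectSum.add_apply, Submodule.coe_add]
  map_smul' a₀ a := by
    rw [RingHom.id_apply, Algebra.smul_def, Algebra.smul_def]
    exact coe_decompose_mul_of_left_mem_zero 𝒜 a₀.2

lemma pr_apply (n : N) (a : A) : pr 𝒜 n a = (decompose 𝒜 a n : A) := rfl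

lemma pr_mem (n : N) (a : A) : pr 𝒜 n a ∈ 𝒜 n := (decompose 𝒜 a n).2

lemma pr_of_mem {n : N} {a : A} (ha : a ∈ 𝒜 n) (m : N) : pr 𝒜 m a = if n = m then a else 0 :=
  coe_decompose_of_mem 𝒜 ha m

/-- the irrelevant ideal -/
noncomputable def irr (hsharp : ∀ n : N, IsAddUnit n → n = 0) : Ideal A :=
  RingHom.ker (eps 𝒜 hsharp : A →+* ↥(𝒜 0))

lemma mem_irr (hsharp : ∀ n : N, IsAddUnit n → n = 0) (a : A) :
    a ∈ irr 𝒜 hsharp ↔ eps 𝒜 hsharp a = 0 := Iff.rfl

lemma mem_irr' (hsharp : ∀ n : N, IsAddUnit n → n = 0) (a : A) :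
    a ∈ irr 𝒜 hsharp ↔ pr 𝒜 0 a = 0 := by
  rw [mem_irr, pr_apply, ← coe_eps 𝒜 hsharp]
  exact ⟨fun h => by rw [h]; rfl, fun h => Subtype.ext h⟩

lemma mem_irr_of_mem (hsharp : ∀ n : N, IsAddUnit n → n = 0) {n : N} (hn : n ≠ 0) {a : A}
    (ha : a ∈ 𝒜 n) : a ∈ irr 𝒜 hsharp := by
  rw [mem_irr', pr_of_mem 𝒜 ha, if_neg hn]

lemma pr_pr (m n : N) (a : A) : pr 𝒜 m (pr 𝒜 n a) = if n = m then pr 𝒜 n a else 0 :=
  pr_of_mem 𝒜 (pr_mem 𝒜 n a) m

lemma irr_isHomogeneous (hsharp : ∀ n : N, IsAddUnit n → n = 0) :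
    (irr 𝒜 hsharp).IsHomogeneous 𝒜 := by
  intro i a ha
  rw [mem_irr'] at ha ⊢
  have := pr_pr 𝒜 0 i a
  rw [← pr_apply, this]
  split_ifs with h
  · subst h; exact ha
  · rfl

lemma irr_sq_isHomogeneous (hsharp : ∀ n : N, IsAddUnit n → n = 0) :
    (irr 𝒜 hsharp ^ 2).IsHomogeneous 𝒜 := by
  rw [pow_two]
  exact (irr_isHomogeneous 𝒜 hsharp).mul (irr_isHomogeneous 𝒜 hsharp)

lemma pr_mem_irr (hsharp : ∀ n : N, IsAddUnit n → n = 0) (n : N) {a : A}
    (ha : a ∈ irr 𝒜 hsharp) : pr 𝒜 n a ∈ irr 𝒜 hsharp := irr_isHomogeneous 𝒜 hsharp n ha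

lemma pr_mem_irr_sq (hsharp : ∀ n : N, IsAddUnit n → n = 0) (n : N) {a : A}
    (ha : a ∈ irr 𝒜 hsharp ^ 2) : pr 𝒜 n a ∈ irr 𝒜 hsharp ^ 2 :=
  irr_sq_isHomogeneous 𝒜 hsharp n ha

open Classical in
lemma sum_pr (a : A) : a = ∑ n ∈ (decompose 𝒜 a).support, pr 𝒜 n a :=
  (DirectSum.sum_support_decompose 𝒜 a).symm

end Groth.Agent.Lib.Helper26.GrSmD
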