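import Mathlib
import Groth.Agent.Lib.Helper26.GrSmD

namespace Groth.Agent.Lib.Helper26.GrSmE
open DirectSum Groth.Agent.Lib.Helper26.GrSmD

universe u
variable {R A : Type u} [CommRing R] [CommRing A] [Algebra R A] {N : Type} [AddCommMonoid N]
  [DecidableEq N] (𝒜 : N → Submodule R A) [GradedAlgebra 𝒜]
  (hsharp : ∀ n : N, IsAddUnit n → n = 0)

instance : IsScalarTower R ↥(𝒜 0) A := IsScalarTower.of_algebraMap_eq fun _ => rfl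

/-- `toCotangent` as an `A₀`-linear map -/
noncomputable def piI : ↥(irr 𝒜 hsharp) →ₗ[↥(𝒜 0)] (irr 𝒜 hsharp).Cotangent :=
  (irr 𝒜 hsharp).toCotangent.restrictScalars ↥(𝒜 0)

lemma piI_apply (x : ↥(irr 𝒜 hsharp)) : piI 𝒜 hsharp x = (irr 𝒜 hsharp).toCotangent x := rfl

lemma piI_surjective : Function.Surjective (piI 𝒜 hsharp) :=
  (irr 𝒜 hsharp).toCotangent_surjective

lemma piI_eq_zero (x : ↥(irr 𝒜 hsharp)) : piI 𝒜 hsharp x = 0 ↔ (x : A) ∈ irr 𝒜 hsharp ^ 2 :=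
  Ideal.toCotangent_eq_zero _ x

/-- the component map on `I` -/
noncomputable def prI (n : N) : ↥(irr 𝒜 hsharp) →ₗ[↥(𝒜 0)] ↥(irr 𝒜 hsharp) :=
  LinearMap.codRestrict ((irr 𝒜 hsharp).restrictScalars ↥(𝒜 0))
    ((pr 𝒜 n).comp (((irr 𝒜 hsharp).restrictScalars ↥(𝒜 0)).subtype))
    (fun x => pr_mem_irr 𝒜 hsharp n x.2)

lemma coe_prI (n : N) (x : ↥(irr 𝒜 hsharp)) : ((prI 𝒜 hsharp n x : ↥(irr 𝒜 hsharp)) : A) =
    pr 𝒜 n (x : A) := rfl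

/-- (H) -/
lemma piI_prI_eq_zero (n : N) (w : ↥(irr 𝒜 hsharp)) (hw : piI 𝒜 hsharp w = 0) :
    piI 𝒜 hsharp (prI 𝒜 hsharp n w) = 0 := by
  rw [piI_eq_zero] at hw ⊢
  rw [coe_prI]
  exact pr_mem_irr_sq 𝒜 hsharp n hw

section sect
variable (s₀ : (irr 𝒜 hsharp).Cotangent →ₗ[↥(𝒜 0)] ↥(irr 𝒜 hsharp)) (F : Finset N)

/-- the graded section -/
noncomputable def sI : (irr 𝒜 hsharp).Cotangent →ₗ[↥(𝒜 0)] ↥(irr 𝒜 hsharp) :=
  ∑ n ∈ F, (prI 𝒜 hsharp n) ∘ₗ s₀ ∘ₗ (piI 𝒜 hsharp) ∘ₗ (prI 𝒜 hsharp n) ∘ₗ s₀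

lemma sI_apply (p : (irr 𝒜 hsharp).Cotangent) :
    sI 𝒜 hsharp s₀ F p =
      ∑ n ∈ F, prI 𝒜 hsharp n (s₀ (piI 𝒜 hsharp (prI 𝒜 hsharp n (s₀ p)))) := by
  simp [sI, LinearMap.sum_apply]

lemma prI_prI (m n : N) (x : ↥(irr 𝒜 hsharp)) :
    prI 𝒜 hsharp m (prI 𝒜 hsharp n x) = if n = m then prI 𝒜 hsharp n x else 0 := by
  apply Subtype.ext
  rw [coe_prI, coe_prI, pr_pr]
  split_ifs <;> rfl

variable (hs₀ : ∀ p, piI 𝒜 hsharp (s₀ p) = p)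
include hs₀

lemma term_eq (p : (irr 𝒜 hsharp).Cotangent) (n : N) :
    piI 𝒜 hsharp (prI 𝒜 hsharp n (s₀ (piI 𝒜 hsharp (prI 𝒜 hsharp n (s₀ p))))) =
      piI 𝒜 hsharp (prI 𝒜 hsharp n (s₀ p)) := by
  set y := prI 𝒜 hsharp n (s₀ p) with hy
  have hw : piI 𝒜 hsharp (s₀ (piI 𝒜 hsharp y) - y) = 0 := by
    rw [map_sub, hs₀, sub_self]
  have h1 : s₀ (piI 𝒜 hsharp y) = y + (s₀ (piI 𝒜 hsharp y) - y) := by abel
  rw [h1, map_add, map_add, piI_prI_eq_zero 𝒜 hsharp n _ hw, add_zero, hy, prI_prI, if_pos rfl]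

lemma piI_sI (hF : ∀ p, ∀ n ∉ F, prI 𝒜 hsharp n (s₀ p) = 0) (p : (irr 𝒜 hsharp).Cotangent) :
    piI 𝒜 hsharp (sI 𝒜 hsharp s₀ F p) = p := by
  classical
  rw [sI_apply, map_sum]
  simp_rw [term_eq 𝒜 hsharp s₀ hs₀]
  rw [← map_sum]
  have : ∑ n ∈ F, prI 𝒜 hsharp n (s₀ p) = s₀ p := by
    apply Subtype.ext
    rw [AddSubmonoidClass.coe_finsetSum]
    simp_rw [coe_prI]
    conv_rhs => rw [sum_pr 𝒜 (s₀ p : A)]
    symm
    apply Finset.sum_subset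
    · intro n hn
      by_contra hnF
      have h0 := hF p n hnF
      have h1 : pr 𝒜 n (s₀ p : A) = 0 := by rw [← coe_prI, h0]; rfl
      rw [DFinsupp.mem_support_iff] at hn
      apply hn
      apply Subtype.ext
      exact h1
    · intro n _ hn
      rw [DFinsupp.notMem_support_iff] at hn
      rw [pr_apply, hn]; rfl
  rw [this, hs₀]

lemma sI_homog {n : N} (hn : n ≠ 0) {a : A} (ha : a ∈ 𝒜 n) :
    ((sI 𝒜 hsharp s₀ F (piI 𝒜 hsharp ⟨a, mem_irr_of_mem 𝒜 hsharp hn ha⟩) :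
      ↥(irr 𝒜 hsharp)) : A) ∈ 𝒜 n := by
  set a' : ↥(irr 𝒜 hsharp) := ⟨a, mem_irr_of_mem 𝒜 hsharp hn ha⟩ with ha'
  set p := piI 𝒜 hsharp a' with hp
  rw [sI_apply, AddSubmonoidClass.coe_finsetSum]
  refine Submodule.sum_mem _ fun m _ => ?_
  have hw : piI 𝒜 hsharp (s₀ p - a') = 0 := by rw [map_sub, hs₀, sub_self]
  have h1 : s₀ p = a' + (s₀ p - a') := by abel
  have h2 : piI 𝒜 hsharp (prI 𝒜 hsharp m (s₀ p)) = if n = m then p else 0 := by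
    rw [h1, map_add, map_add, piI_prI_eq_zero 𝒜 hsharp m _ hw, add_zero]
    have : prI 𝒜 hsharp m a' = if n = m then a' else 0 := by
      apply Subtype.ext
      rw [coe_prI, pr_of_mem 𝒜 ha]
      split_ifs <;> rfl
    rw [this]
    split_ifs
    · rfl
    · rw [map_zero]
  rw [h2]
  split_ifs with hnm
  · subst hnm
    rw [coe_prI]; exact pr_mem 𝒜 n _
  · rw [map_zero, map_zero]; exact Submodule.zero_mem _

end sect

end Groth.Agent.Lib.Helper26.GrSmE
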