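import Mathlib

namespace Groth.Agent.Lib.Helper26.MonSmA

variable {N : Type*} [AddCommMonoid N] [DecidableEq N]

/-- the linear-combination map attached to a finite subset -/
noncomputable abbrev L (S : Finset N) : (↥S →₀ ℕ) →ₗ[ℕ] N :=
  Finsupp.linearCombination ℕ (Subtype.val : ↥S → N)

lemma L_surjective (S : Finset N) (hS : AddSubmonoid.closure (S : Set N) = ⊤) :
    Function.Surjective (L S) := by
  intro n
  have h1 : n ∈ Submodule.span ℕ (Set.range (Subtype.val : ↥S → N)) := by
    have : (Submodule.span ℕ (Set.range (Subtype.val : ↥S → N))).toAddSubmonoid = ⊤ := by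
      rw [Submodule.span_nat_eq_addSubmonoidClosure]
      simpa using hS
    have h2 : n ∈ (Submodule.span ℕ (Set.range (Subtype.val : ↥S → N))).toAddSubmonoid := by
      rw [this]; trivial
    exact h2
  rw [← Finsupp.range_linearCombination] at h1
  exact h1

/-- Claim B -/
lemma L_eq_zero (S : Finset N) (hsharp : ∀ n : N, IsAddUnit n → n = 0) (h0 : (0 : N) ∉ S)
    (a : ↥S →₀ ℕ) (ha : L S a = 0) : a = 0 := by
  by_contra hne
  obtain ⟨t, ht⟩ : ∃ t, a t ≠ 0 := by
    by_contra hcon
    push Not at hcon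
    exact hne (Finsupp.ext hcon)
  obtain ⟨c, hc⟩ : ∃ c, a t = c + 1 := ⟨a t - 1, by omega⟩
  have hdec : a = Finsupp.single t (a t) + a.erase t := (Finsupp.single_add_erase t a).symm
  rw [hdec, map_add, Finsupp.linearCombination_single, hc, succ_nsmul] at ha
  have hu : IsAddUnit (t : N) := by
    rw [isAddUnit_iff_exists_neg]
    refine ⟨c • (t : N) + L S (a.erase t), ?_⟩
    rw [← ha]; abel
  have := hsharp _ hu
  exact h0 (this ▸ t.2)

/-- Claim A -/
lemma L_eq_gen [IsCancelAdd N] (S : Finset N) (hsharp : ∀ n : N, IsAddUnit n → n = 0)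
    (h0 : (0 : N) ∉ S) (s : ↥S)
    (hs : (s : N) ∉ AddSubmonoid.closure ((S.erase (s : N) : Finset N) : Set N))
    (a : ↥S →₀ ℕ) (ha : L S a = (s : N)) : a = Finsupp.single s 1 := by
  classical
  by_cases hsa : a s = 0
  · exfalso
    apply hs
    have hsup : a ∈ Finsupp.supported ℕ ℕ ({t : ↥S | t ≠ s}) := by
      rw [Finsupp.mem_supported]
      intro t ht
      simp only [Finset.mem_coe, Finsupp.mem_support_iff] at ht
      simp only [Set.mem_setOf_eq]
      rintro rfl
      exact ht hsa
    have h1 : L S a ∈ Submodule.span ℕ ((Subtype.val : ↥S → N) '' {t : ↥S | t ≠ s}) := by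
      rw [Finsupp.mem_span_image_iff_linearCombination]
      exact ⟨a, hsup, rfl⟩
    have h2 : (Subtype.val : ↥S → N) '' {t : ↥S | t ≠ s} ⊆ ((S.erase (s : N) : Finset N) : Set N) := by
      rintro _ ⟨t, ht, rfl⟩
      simp only [Finset.coe_erase, Set.mem_diff, Finset.mem_coe, Set.mem_singleton_iff]
      exact ⟨t.2, fun h => ht (Subtype.ext h)⟩
    have h3 := Submodule.span_mono (R := ℕ) h2 h1
    rw [ha] at h3
    have h4 : (s : N) ∈ (Submodule.span ℕ ((S.erase (s : N) : Finset N) : Set N)).toAddSubmonoid := h3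
    rwa [Submodule.span_nat_eq_addSubmonoidClosure] at h4
  · obtain ⟨c, hc⟩ : ∃ c, a s = c + 1 := ⟨a s - 1, by omega⟩
    have hdec : a = Finsupp.single s (a s) + a.erase s := (Finsupp.single_add_erase s a).symm
    have ha' := ha
    rw [hdec, map_add, Finsupp.linearCombination_single, hc, succ_nsmul, add_comm (c • (s:N)),
      add_assoc, add_eq_left] at ha'
    have h5 : L S (Finsupp.single s c + a.erase s) = 0 := by
      rw [map_add, Finsupp.linearCombination_single]; exact ha'
    have h6 := L_eq_zero S hsharp h0 _ h5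
    have h7 : c = 0 := by
      have := DFunLike.congr_fun h6 s
      simpa using this
    have h8 : a.erase s = 0 := by
      rw [h7] at h6
      simpa using h6
    rw [hdec, hc, h7, h8]; simp

/-- minimal generating finset -/
lemma exists_min_gen [AddMonoid.FG N] :
    ∃ S : Finset N, AddSubmonoid.closure (S : Set N) = ⊤ ∧
      ∀ s ∈ S, s ∉ AddSubmonoid.closure ((S.erase s : Finset N) : Set N) := by
  classical
  have hfg : (⊤ : AddSubmonoid N).FG := AddMonoid.fg_def.mp inferInstance
  have hex : ∃ c : ℕ, ∃ S : Finset N, S.card = c ∧ AddSubmonoid.closure (S : Set N) = ⊤ := by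
    obtain ⟨S, hS⟩ := hfg
    exact ⟨S.card, S, rfl, hS⟩
  obtain ⟨S, hSc, hS⟩ := Nat.find_spec hex
  refine ⟨S, hS, ?_⟩
  intro s hs hmem
  have hcl : AddSubmonoid.closure ((S.erase s : Finset N) : Set N) = ⊤ := by
    rw [eq_top_iff, ← hS, AddSubmonoid.closure_le]
    intro t ht
    by_cases hts : t = s
    · rw [hts]; exact hmem
    · exact AddSubmonoid.subset_closure (by simp [hts, Finset.mem_coe.mp ht])
  have hlt : (S.erase s).card < Nat.find hex := by
    rw [← hSc, Finset.card_erase_of_mem hs]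
    have : 0 < S.card := Finset.card_pos.mpr ⟨s, hs⟩
    omega
  exact Nat.find_min hex hlt ⟨S.erase s, rfl, hcl⟩

lemma zero_notMem_of_min (S : Finset N)
    (hmin : ∀ s ∈ S, s ∉ AddSubmonoid.closure ((S.erase s : Finset N) : Set N)) :
    (0 : N) ∉ S := fun h => hmin 0 h (zero_mem _)

end Groth.Agent.Lib.Helper26.MonSmA
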