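import Mathlib
import Groth.Agent.Lib.Helper26.MonSmA
import Groth.Agent.Lib.Helper26.GrSmE

namespace Groth.Agent.Lib.Helper26.GrSmF
open DirectSum Groth.Agent.Lib.Helper26.GrSmD Groth.Agent.Lib.Helper26.GrSmE

section wf
variable {N : Type} [AddCommMonoid N] [DecidableEq N]

/-- strict divisibility -/
def dlt (m n : N) : Prop := ∃ c, c ≠ 0 ∧ m + c = n

lemma dlt_trans (hsharp : ∀ n : N, IsAddUnit n → n = 0) {a b c : N} (h1 : dlt a b)
    (h2 : dlt b c) : dlt a c := by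
  obtain ⟨x, hx, rfl⟩ := h1
  obtain ⟨y, hy, rfl⟩ := h2
  exact ⟨x + y, fun h => hx (add_eq_zero_left hsharp h), (add_assoc _ _ _).symm⟩

theorem dlt_wf [AddMonoid.FG N] [IsCancelAdd N] (hsharp : ∀ n : N, IsAddUnit n → n = 0) :
    WellFounded (dlt : N → N → Prop) := by
  classical
  rw [wellFounded_iff_isEmpty_descending_chain]
  refine ⟨fun ⟨f, hf⟩ => ?_⟩
  have hall : ∀ i j, i < j → dlt (f j) (f i) := by
    intro i j hij
    induction j, hij using Nat.le_induction with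
    | base => exact hf i
    | succ j _ ih => exact dlt_trans hsharp (hf j) ih
  obtain ⟨S, hS⟩ := AddMonoid.fg_def.mp (inferInstance : AddMonoid.FG N)
  have hsurj := Groth.Agent.Lib.Helper26.MonSmA.L_surjective S hS
  choose a ha using fun i => hsurj (f i)
  obtain ⟨i, j, hij, hle⟩ := wellQuasiOrdered_le a
  obtain ⟨c, hc, hc'⟩ := hall i j hij
  have h1 : a i + (a j - a i) = a j := add_tsub_cancel_of_le hle
  have h2 : f i + Groth.Agent.Lib.Helper26.MonSmA.L S (a j - a i) = f j := by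
    rw [← ha i, ← ha j, ← map_add, h1]
  have h3 : f i + (Groth.Agent.Lib.Helper26.MonSmA.L S (a j - a i) + c) = f i := by
    rw [← add_assoc, h2, hc']
  have h4 : Groth.Agent.Lib.Helper26.MonSmA.L S (a j - a i) + c = 0 := by
    simpa using h3
  exact hc (add_eq_zero_right hsharp h4)

end wf

universe u
variable {R A : Type u} [CommRing R] [CommRing A] [Algebra R A] {N : Type} [AddCommMonoid N]
  [DecidableEq N] (𝒜 : N → Submodule R A) [GradedAlgebra 𝒜]
  (hsharp : ∀ n : N, IsAddUnit n → n = 0)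

/-- Lemma Z -/
lemma pr_mem_of_mem_sq (T : Subalgebra ↥(𝒜 0) A) (n : N)
    (hT : ∀ m, dlt m n → ∀ a ∈ 𝒜 m, a ∈ T) (z : A) (hz : z ∈ irr 𝒜 hsharp ^ 2) :
    pr 𝒜 n z ∈ T := by
  classical
  rw [pow_two] at hz
  induction hz using Submodule.mul_induction_on' with
  | mem_mul_mem x hx y hy =>
    rw [pr_apply, decompose_mul, DirectSum.coe_mul_apply]
    refine Subalgebra.sum_mem _ fun jk hjk => ?_
    rw [Finset.mem_filter, Finset.mem_product] at hjk
    obtain ⟨⟨hj, hk⟩, hjkn⟩ := hjk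
    have hj0 : jk.1 ≠ 0 := by
      rintro h0
      rw [DFinsupp.mem_support_iff] at hj
      apply hj
      apply Subtype.ext
      rw [h0]
      exact (mem_irr' 𝒜 hsharp x).mp hx
    have hk0 : jk.2 ≠ 0 := by
      rintro h0
      rw [DFinsupp.mem_support_iff] at hk
      apply hk
      apply Subtype.ext
      rw [h0]
      exact (mem_irr' 𝒜 hsharp y).mp hy
    refine Subalgebra.mul_mem _ (hT jk.1 ⟨jk.2, hk0, hjkn⟩ _ (decompose 𝒜 x jk.1).2)
      (hT jk.2 ⟨jk.1, hj0, by rw [add_comm]; exact hjkn⟩ _ (decompose 𝒜 y jk.2).2)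
  | add x _ y _ hx hy => rw [map_add]; exact Subalgebra.add_mem _ hx hy

theorem lift_surjective [AddMonoid.FG N] [IsCancelAdd N]
    (s : (irr 𝒜 hsharp).Cotangent →ₗ[↥(𝒜 0)] A)
    (hs : ∀ n, n ≠ 0 → ∀ a ∈ 𝒜 n, ∃ p, s p ∈ 𝒜 n ∧ a - s p ∈ irr 𝒜 hsharp ^ 2) :
    Function.Surjective (SymmetricAlgebra.lift s) := by
  classical
  have key : ∀ n, ∀ a ∈ 𝒜 n, a ∈ (SymmetricAlgebra.lift s).range := by
    intro n
    induction n using (dlt_wf hsharp).induction with
    | _ n ih =>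
      intro a ha
      by_cases hn : n = 0
      · subst hn
        exact ⟨algebraMap ↥(𝒜 0) (SymmetricAlgebra ↥(𝒜 0) (irr 𝒜 hsharp).Cotangent) ⟨a, ha⟩,
          (SymmetricAlgebra.lift s).commutes _⟩
      · obtain ⟨p, hp1, hp2⟩ := hs n hn a ha
        have h1 : s p ∈ (SymmetricAlgebra.lift s).range :=
          ⟨SymmetricAlgebra.ι _ _ p, SymmetricAlgebra.lift_ι_apply s p⟩
        have h2 : a - s p ∈ 𝒜 n := Submodule.sub_mem _ ha hp1
        have h3 := pr_mem_of_mem_sq 𝒜 hsharp (SymmetricAlgebra.lift s).range n ih (a - s p) hp2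
        rw [pr_of_mem 𝒜 h2, if_pos rfl] at h3
        have := Subalgebra.add_mem _ h3 h1
        rwa [sub_add_cancel] at this
  intro a
  rw [sum_pr 𝒜 a]
  exact Subalgebra.sum_mem _ fun n _ => key n _ (pr_mem 𝒜 n a)

end Groth.Agent.Lib.Helper26.GrSmF
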