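import Mathlib
import Groth.Agent.Lib.Helper26.GrSmC
import Groth.Agent.Lib.Helper26.GrSmF

namespace Groth.Agent.Lib.Helper26.GrSmG
open DirectSum Groth.Agent.Lib.Helper26.GrSmA Groth.Agent.Lib.Helper26.GrSmC
  Groth.Agent.Lib.Helper26.GrSmD Groth.Agent.Lib.Helper26.GrSmE Groth.Agent.Lib.Helper26.GrSmF

universe u

theorem main_18239 (R : Type u) [CommRing R] (A : Type u)
    [CommRing A] [Algebra R A] (N : Type) [AddCommMonoid N] [DecidableEq N] [AddMonoid.FG N]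
    [IsCancelAdd N]
    (hsharp : ∀ n : N, IsAddUnit n → n = 0) (𝒜 : N → Submodule R A) [GradedAlgebra 𝒜]
    [Algebra.Smooth R A] :
    ∃ (P : Type u) (_ : AddCommGroup P) (_ : Module (𝒜 0) P), Module.Finite (𝒜 0) P ∧
      Module.Projective (𝒜 0) P ∧ Nonempty (A ≃ₐ[𝒜 0] SymmetricAlgebra (𝒜 0) P) := by
  obtain ⟨hfin, hproj⟩ := cotangent_finite_projective (R := R) (eps 𝒜 hsharp)
  change Module.Finite ↥(𝒜 0) (irr 𝒜 hsharp).Cotangent at hfin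
  change Module.Projective ↥(𝒜 0) (irr 𝒜 hsharp).Cotangent at hproj
  obtain ⟨s₀, hs₀'⟩ := Module.projective_lifting_property (piI 𝒜 hsharp) LinearMap.id
    (piI_surjective 𝒜 hsharp)
  have hs₀ : ∀ p, piI 𝒜 hsharp (s₀ p) = p := fun p => LinearMap.congr_fun hs₀' p
  obtain ⟨G, hG⟩ := hfin.fg_top
  classical
  let F : Finset N := G.biUnion (fun g => (decompose 𝒜 ((s₀ g : ↥(irr 𝒜 hsharp)) : A)).support)
  have hF : ∀ p, ∀ n ∉ F, prI 𝒜 hsharp n (s₀ p) = 0 := by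
    intro p n hn
    have hp : p ∈ Submodule.span ↥(𝒜 0) (G : Set (irr 𝒜 hsharp).Cotangent) := by
      rw [hG]; trivial
    induction hp using Submodule.span_induction with
    | mem g hg =>
      apply Subtype.ext
      rw [coe_prI, pr_apply]
      have : n ∉ (decompose 𝒜 ((s₀ g : ↥(irr 𝒜 hsharp)) : A)).support := fun h =>
        hn (Finset.mem_biUnion.mpr ⟨g, hg, h⟩)
      rw [DFinsupp.notMem_support_iff] at this
      rw [this]; rfl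
    | zero => rw [map_zero, map_zero]
    | add x y _ _ hx hy => rw [map_add, map_add, hx, hy, add_zero]
    | smul c x _ hx => rw [map_smul, map_smul, hx, smul_zero]
  let s : (irr 𝒜 hsharp).Cotangent →ₗ[↥(𝒜 0)] A :=
    ((irr 𝒜 hsharp).subtype.restrictScalars ↥(𝒜 0)) ∘ₗ sI 𝒜 hsharp s₀ F
  have hs_inj : ∀ p, ∃ x : ↥(irr 𝒜 hsharp), s p = x ∧ (irr 𝒜 hsharp).toCotangent x = p :=
    fun p => ⟨sI 𝒜 hsharp s₀ F p, rfl, piI_sI 𝒜 hsharp s₀ F hs₀ hF p⟩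
  have hs_surj : ∀ n, n ≠ 0 → ∀ a ∈ 𝒜 n, ∃ p, s p ∈ 𝒜 n ∧ a - s p ∈ irr 𝒜 hsharp ^ 2 := by
    intro n hn a ha
    refine ⟨piI 𝒜 hsharp ⟨a, mem_irr_of_mem 𝒜 hsharp hn ha⟩,
      sI_homog 𝒜 hsharp s₀ F hs₀ hn ha, ?_⟩
    have := (piI_eq_zero 𝒜 hsharp (⟨a, mem_irr_of_mem 𝒜 hsharp hn ha⟩ -
      sI 𝒜 hsharp s₀ F (piI 𝒜 hsharp ⟨a, mem_irr_of_mem 𝒜 hsharp hn ha⟩))).mp
      (by rw [map_sub, piI_sI 𝒜 hsharp s₀ F hs₀ hF, sub_self])
    exact this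
  have hsurj := lift_surjective 𝒜 hsharp s hs_surj
  have hinj := lift_injective (R := R) (eps 𝒜 hsharp) (irr 𝒜 hsharp) s
    (fun a => mem_irr 𝒜 hsharp a) hs_inj hsurj
  exact ⟨(irr 𝒜 hsharp).Cotangent, inferInstance, inferInstance, hfin, hproj,
    ⟨(AlgEquiv.ofBijective (SymmetricAlgebra.lift s) ⟨hinj, hsurj⟩).symm⟩⟩

end Groth.Agent.Lib.Helper26.GrSmG
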