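import Mathlib
set_option autoImplicit false
set_option linter.style.haveILetI false
universe u
open AlgebraicGeometry CategoryTheory DirectSum

namespace Groth.Agent.Lib.Helper26.GradedAvoid

section avoid
variable {ι σ A : Type*} [CommRing A] [SetLike σ A] [AddSubgroupClass σ A] (𝒜 : ℕ → σ)
  [GradedRing 𝒜]

/-- a homogeneous ideal inside the irrelevant ideal, not contained in a prime `p`,
has a homogeneous element of positive degree outside `p`. -/
lemma exists_homogeneous_notMem (I : Ideal A) (hI : I.IsHomogeneous 𝒜)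
    (hI0 : ∀ a ∈ I, GradedRing.proj 𝒜 0 a = 0) (p : Ideal A) (hp : ¬ I ≤ p) :
    ∃ d : ℕ, 0 < d ∧ ∃ f ∈ 𝒜 d, f ∈ I ∧ f ∉ p := by
  classical
  obtain ⟨a, haI, hap⟩ := Set.not_subset.mp hp
  have hex : ∃ d, (decompose 𝒜 a d : A) ∉ p := by
    by_contra hcon
    push Not at hcon
    apply hap
    rw [← DirectSum.sum_support_decompose 𝒜 a]
    exact Ideal.sum_mem _ (fun d _ => hcon d)
  obtain ⟨d, hd⟩ := hex
  refine ⟨d, ?_, (decompose 𝒜 a d : A), SetLike.coe_mem _, hI d haI, hd⟩
  rcases Nat.eq_zero_or_pos d with rfl | h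
  · exfalso
    apply hd
    have := hI0 a haI
    rw [GradedRing.proj_apply] at this
    rw [this]
    exact p.zero_mem
  · exact h

theorem graded_avoid (I : Ideal A) (hI : I.IsHomogeneous 𝒜)
    (hI0 : ∀ a ∈ I, GradedRing.proj 𝒜 0 a = 0) (p : ι → Ideal A) :
    ∀ (n : ℕ) (s : Finset ι), s.card = n → (∀ i ∈ s, (p i).IsPrime) → (∀ i ∈ s, ¬ I ≤ p i) →
    ∃ d : ℕ, 0 < d ∧ ∃ f ∈ 𝒜 d, f ∈ I ∧ ∀ i ∈ s, f ∉ p i := by
  classical
  intro n
  induction n using Nat.strong_induction_on with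
  | _ n ih =>
    intro s hcard hprime hnot
    rcases Nat.lt_or_ge s.card 2 with hlt | hge
    · -- card 0 or 1
      rcases Nat.eq_zero_or_pos s.card with h0 | hpos
      · rw [Finset.card_eq_zero] at h0
        subst h0
        exact ⟨1, one_pos, 0, zero_mem _, I.zero_mem, by simp⟩
      · have h1 : s.card = 1 := by omega
        obtain ⟨i, rfl⟩ := Finset.card_eq_one.mp h1
        obtain ⟨d, hd, f, hfd, hfI, hfp⟩ := exists_homogeneous_notMem 𝒜 I hI hI0 (p i)
          (hnot i (Finset.mem_singleton_self i))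
        exact ⟨d, hd, f, hfd, hfI, fun j hj => by rw [Finset.mem_singleton.mp hj]; exact hfp⟩
    · -- card ≥ 2
      have hrec : ∀ j ∈ s, ∃ d : ℕ, 0 < d ∧ ∃ f ∈ 𝒜 d, f ∈ I ∧ ∀ i ∈ s.erase j, f ∉ p i := by
        intro j hj
        apply ih (s.erase j).card (by rw [Finset.card_erase_of_mem hj]; omega) (s.erase j) rfl
        · exact fun i hi => hprime i (Finset.mem_of_mem_erase hi)
        · exact fun i hi => hnot i (Finset.mem_of_mem_erase hi)
      choose! d hd f hfd hfI hfp using hrec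
      by_cases hall : ∀ j ∈ s, f j ∈ p j
      · obtain ⟨i₀, hi₀⟩ : s.Nonempty := Finset.card_pos.mp (by omega)
        set t := s.erase i₀ with ht
        have htne : t.Nonempty := by
          rw [← Finset.card_pos, Finset.card_erase_of_mem hi₀]
          omega
        have hts : ∀ j ∈ t, j ∈ s := fun j hj => Finset.mem_of_mem_erase hj
        set D := ∑ j ∈ t, d j with hD
        have hDpos : 0 < D := by
          obtain ⟨j, hj⟩ := htne
          exact lt_of_lt_of_le (hd j (hts j hj))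
            (Finset.single_le_sum (fun k _ => Nat.zero_le (d k)) hj)
        set g := ∏ j ∈ t, f j with hg
        have hgD : g ∈ 𝒜 D := SetLike.prod_mem_graded 𝒜 d f (fun j hj => hfd j (hts j hj))
        have hgI : g ∈ I := by
          obtain ⟨j, hj⟩ := htne
          rw [hg, ← Finset.mul_prod_erase t f hj]
          exact I.mul_mem_right _ (hfI j (hts j hj))
        have hdi : 0 < d i₀ := hd i₀ hi₀
        refine ⟨D * d i₀, Nat.mul_pos hDpos hdi, f i₀ ^ D + g ^ (d i₀), ?_, ?_, ?_⟩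
        · apply add_mem
          · have := SetLike.pow_mem_graded (A := 𝒜) D (hfd i₀ hi₀)
            rwa [smul_eq_mul] at this
          · have := SetLike.pow_mem_graded (A := 𝒜) (d i₀) hgD
            rwa [smul_eq_mul, mul_comm] at this
        · exact I.add_mem (I.pow_mem_of_mem (hfI i₀ hi₀) D hDpos) (I.pow_mem_of_mem hgI _ hdi)
        · intro j hj hmem
          by_cases hji : j = i₀
          · subst hji
            haveI := hprime j hj
            have h1 : f j ^ D ∈ p j := (p j).pow_mem_of_mem (hall j hj) D hDpos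
            have h2 : g ^ (d j) ∈ p j := by
              have := (p j).sub_mem hmem h1
              rwa [add_sub_cancel_left] at this
            have h3 : g ∈ p j := (hprime j hj).mem_of_pow_mem _ h2
            rw [hg, (hprime j hj).prod_mem_iff] at h3
            obtain ⟨k, hk, hkj⟩ := h3
            exact hfp k (hts k hk) j (Finset.mem_erase.mpr ⟨(Finset.ne_of_mem_erase hk).symm, hj⟩) hkj
          · have hjt : j ∈ t := Finset.mem_erase.mpr ⟨hji, hj⟩
            have h1 : g ∈ p j := by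
              rw [hg, ← Finset.mul_prod_erase t f hjt]
              exact (p j).mul_mem_right _ (hall j hj)
            have h2 : g ^ (d i₀) ∈ p j := (p j).pow_mem_of_mem h1 _ hdi
            have h3 : f i₀ ^ D ∈ p j := by
              have := (p j).sub_mem hmem h2
              rwa [add_sub_cancel_right] at this
            have h4 : f i₀ ∈ p j := (hprime j hj).mem_of_pow_mem _ h3
            exact hfp i₀ hi₀ j (Finset.mem_erase.mpr ⟨hji, hj⟩) h4
      · push Not at hall
        obtain ⟨j, hj, hfj⟩ := hall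
        refine ⟨d j, hd j hj, f j, hfd j hj, hfI j hj, ?_⟩
        intro i hi
        by_cases hij : i = j
        · rw [hij]; exact hfj
        · exact hfp j hj i (Finset.mem_erase.mpr ⟨hij, hi⟩)

end avoid

section proj
variable {R A : Type u} [CommRing R] [CommRing A] [Algebra R A] (𝒜 : ℕ → Submodule R A)
  [GradedAlgebra 𝒜]

lemma exists_basicOpen_of_finite (U : (Proj 𝒜).Opens) (s : Set (Proj 𝒜)) (hs : s.Finite)
    (hsU : s ⊆ U) :
    ∃ (f : A) (m : ℕ), 0 < m ∧ f ∈ 𝒜 m ∧ s ⊆ Proj.basicOpen 𝒜 f ∧ Proj.basicOpen 𝒜 f ≤ U := by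
  classical
  let Z : Set (ProjectiveSpectrum 𝒜) := (U : Set (Proj 𝒜))ᶜ
  have hZ : IsClosed Z := U.isOpen.isClosed_compl
  let J := ProjectiveSpectrum.vanishingIdeal Z
  have hJZ : ProjectiveSpectrum.zeroLocus 𝒜 (J : Set A) = Z := by
    rw [ProjectiveSpectrum.zeroLocus_vanishingIdeal_eq_closure, hZ.closure_eq]
  let I : Ideal A := J.toIdeal * (HomogeneousIdeal.irrelevant 𝒜).toIdeal
  have hIhom : I.IsHomogeneous 𝒜 :=
    J.isHomogeneous.mul (HomogeneousIdeal.irrelevant 𝒜).isHomogeneous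
  have hI0 : ∀ a ∈ I, GradedRing.proj 𝒜 0 a = 0 := fun a ha =>
    (HomogeneousIdeal.mem_irrelevant_iff 𝒜 a).mp (Ideal.mul_le_right ha)
  have hnot : ∀ x ∈ s, ¬ I ≤ x.asHomogeneousIdeal.toIdeal := by
    intro x hx hle
    rcases (x.isPrime.mul_le).mp hle with h | h
    · have : x ∈ ProjectiveSpectrum.zeroLocus 𝒜 (J : Set A) := h
      rw [hJZ] at this
      exact this (hsU hx)
    · exact x.not_irrelevant_le h
  have hprime : ∀ x ∈ hs.toFinset, (x.asHomogeneousIdeal.toIdeal).IsPrime := fun x _ => x.isPrime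
  have hnot' : ∀ x ∈ hs.toFinset, ¬ I ≤ x.asHomogeneousIdeal.toIdeal := fun x hx =>
    hnot x (hs.mem_toFinset.mp hx)
  obtain ⟨d, hd, f, hfd, hfI, hfp⟩ := graded_avoid (ι := ProjectiveSpectrum 𝒜) 𝒜 I hIhom hI0
    (fun x => x.asHomogeneousIdeal.toIdeal) hs.toFinset.card hs.toFinset rfl hprime hnot'
  refine ⟨f, d, hd, hfd, ?_, ?_⟩
  · intro x hx
    exact hfp x (hs.mem_toFinset.mpr hx)
  · intro y hy
    by_contra hyU
    have : y ∈ ProjectiveSpectrum.zeroLocus 𝒜 (J : Set A) := by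
      rw [hJZ]
      exact hyU
    exact hy (this (Ideal.mul_le_left hfI))

theorem main {X : Scheme.{u}} (ι : X ⟶ Proj 𝒜) [IsImmersion ι] (E : Set X) (hE : E.Finite) :
    ∃ U : X.Opens, IsAffineOpen U ∧ E ⊆ U := by
  obtain ⟨f, m, hm, hfm, hf1, hf2⟩ := exists_basicOpen_of_finite 𝒜 ι.coborderRange (ι '' E)
    (hE.image _) (by rintro _ ⟨e, _, rfl⟩; exact subset_coborder ⟨e, rfl⟩)
  have hD : IsAffineOpen (Proj.basicOpen 𝒜 f) := Proj.isAffineOpen_basicOpen 𝒜 f hfm hm
  have h1 : IsAffineOpen (ι.coborderRange.ι ⁻¹ᵁ (Proj.basicOpen 𝒜 f)) :=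
    hD.preimage_of_isOpenImmersion ι.coborderRange.ι (by
      rw [Scheme.Opens.opensRange_ι]; exact hf2)
  have h2 := h1.preimage ι.liftCoborder
  refine ⟨ι ⁻¹ᵁ (Proj.basicOpen 𝒜 f), ?_, ?_⟩
  · rw [← Scheme.Hom.comp_preimage, ι.liftCoborder_ι] at h2
    exact h2
  · intro e he
    exact hf1 ⟨e, he, rfl⟩

end proj

end Groth.Agent.Lib.Helper26.GradedAvoid
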