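import Mathlib
import Groth.Agent.Lib.Helper26.GroupCohTorsion

set_option linter.unusedSectionVars false
set_option linter.style.haveILetI false
set_option linter.unusedVariables false

open CategoryTheory CategoryTheory.Limits Opposite

namespace Groth.Agent.Lib.Helper26.GroupCohElem

open Groth.Agent.Lib.Helper26.GroupCohML Groth.Agent.Lib.Helper26.GroupCohTorsion
open groupCohomology

universe u

variable {k G : Type u} [CommRing k] [Group G]

/-- the cocycle function of a cocycle -/
noncomputable def cocFun (A : Rep.{u} k G) (n : ℕ) (z : cocycles A n) : (Fin n → G) → A :=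
  (iCocycles A n).hom z

lemma cocFun_d (A : Rep.{u} k G) (n : ℕ) (z : cocycles A n) : dfun A n (cocFun A n z) = 0 := by
  have h := (inhomogeneousCochains A).iCycles_d n (n + 1)
  rw [inhomogeneousCochains.d_def] at h
  have := congrArg (fun φ => φ.hom z) h
  exact this

lemma cocFun_injective (A : Rep.{u} k G) (n : ℕ) : Function.Injective (cocFun A n) :=
  (ModuleCat.mono_iff_injective _).mp (inferInstance : Mono (iCocycles A n))

lemma exists_cocycle (A : Rep.{u} k G) (n : ℕ) (f : (Fin n → G) → A) (hf : dfun A n f = 0) :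
    ∃ z : cocycles A n, cocFun A n z = f :=
  ⟨cocyclesMk f hf, iCocycles_mk f hf⟩

lemma cocFun_toCocycles (A : Rep.{u} k G) (n : ℕ) (b : (Fin n → G) → A) :
    cocFun A (n + 1) ((toCocycles A n (n + 1)).hom b) = dfun A n b := by
  have h3 := (inhomogeneousCochains A).toCycles_i n (n + 1)
  rw [inhomogeneousCochains.d_def] at h3
  have := congrArg (fun φ => φ.hom b) h3
  exact this

lemma π_eq_zero_iff (A : Rep.{u} k G) (n : ℕ) (z : cocycles A (n + 1)) :
    (π A (n + 1)).hom z = 0 ↔ ∃ b : (Fin n → G) → A, dfun A n b = cocFun A (n + 1) z := by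
  constructor
  · intro h
    let K := inhomogeneousCochains A
    let S := ShortComplex.mk (K.toCycles n (n + 1)) (K.homologyπ (n + 1))
      (K.toCycles_comp_homologyπ n (n + 1))
    have hS : S.Exact :=
      ShortComplex.exact_of_g_is_cokernel S (K.homologyIsCokernel n (n + 1) (by simp))
    rw [ShortComplex.moduleCat_exact_iff] at hS
    obtain ⟨b, hb⟩ := hS z h
    refine ⟨b, ?_⟩
    rw [← cocFun_toCocycles]
    exact congrArg (cocFun A (n + 1)) hb
  · rintro ⟨b, hb⟩
    have hz : z = (toCocycles A n (n + 1)).hom b := by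
      apply cocFun_injective
      rw [cocFun_toCocycles, hb]
    rw [hz]
    have h3 := (inhomogeneousCochains A).toCycles_comp_homologyπ n (n + 1)
    have := congrArg (fun φ => φ.hom b) h3
    exact this

lemma π_surjective (A : Rep.{u} k G) (n : ℕ) : Function.Surjective (π A n).hom := by
  intro x
  induction x using groupCohomology_induction_on with
  | h z => exact ⟨z, rfl⟩

lemma map_π {A B : Rep.{u} k G} (φ : A ⟶ B) (n : ℕ) (z : cocycles A n) :
    (map (MonoidHom.id G) φ n).hom ((π A n).hom z)
      = (π B n).hom ((cocyclesMap (MonoidHom.id G) φ n).hom z) := by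
  have h := π_map (MonoidHom.id G) φ n
  have := congrArg (fun ψ => ψ.hom z) h
  exact this

lemma cocFun_cocyclesMap {A B : Rep.{u} k G} (φ : A ⟶ B) (n : ℕ) (z : cocycles A n) :
    cocFun B n ((cocyclesMap (MonoidHom.id G) φ n).hom z) = post φ (cocFun A n z) := by
  have h := HomologicalComplex.cyclesMap_i (cochainsMap (MonoidHom.id G) φ) n
  have := congrArg (fun ψ => ψ.hom z) h
  exact this


section Abstract

variable {A B : Rep.{u} k G}

/-- vanishing of the cohomology of `ker φ` in degree `n + 1`, at the level of cochains -/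
def KerVanish (φ : A ⟶ B) (n : ℕ) : Prop :=
  ∀ z : (Fin (n + 1) → G) → A, post φ z = 0 → dfun A (n + 1) z = 0 →
    ∃ b : (Fin n → G) → A, post φ b = 0 ∧ dfun A n b = z

lemma post_zero (φ : A ⟶ B) {X : Type*} : post φ (0 : X → A) = 0 := by
  funext g
  simp [post]

theorem map_bijective (φ : A ⟶ B) (hφ : Function.Surjective φ.hom) (n : ℕ)
    (h1 : KerVanish φ n) (h2 : KerVanish φ (n + 1)) :
    Function.Bijective (map (MonoidHom.id G) φ (n + 1)).hom := by
  have hlift : ∀ {X : Type u} (f : X → B), ∃ f' : X → A, post φ f' = f := by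
    intro X f
    choose f' hf' using fun x => hφ (f x)
    exact ⟨f', funext hf'⟩
  constructor
  · rw [injective_iff_map_eq_zero]
    intro x hx
    obtain ⟨z, rfl⟩ := π_surjective A (n + 1) x
    rw [map_π, π_eq_zero_iff, cocFun_cocyclesMap] at hx
    obtain ⟨bb, hbb⟩ := hx
    obtain ⟨b, hb⟩ := hlift bb
    set f := cocFun A (n + 1) z with hf
    have hz' : post φ (f - dfun A n b) = 0 := by
      rw [post_sub, ← dfun_post, hb, hbb, sub_self]
    have hdz' : dfun A (n + 1) (f - dfun A n b) = 0 := by
      rw [map_sub, hf, cocFun_d, dfun_comp, sub_self]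
    obtain ⟨b', _, hb'⟩ := h1 _ hz' hdz'
    rw [π_eq_zero_iff]
    refine ⟨b + b', ?_⟩
    rw [map_add, hb', ← hf]
    abel
  · intro y
    obtain ⟨zz, rfl⟩ := π_surjective B (n + 1) y
    set ff := cocFun B (n + 1) zz with hff
    obtain ⟨f, hf⟩ := hlift ff
    have hw : post φ (dfun A (n + 1) f) = 0 := by
      rw [← dfun_post, hf, hff, cocFun_d]
    have hdw : dfun A (n + 1 + 1) (dfun A (n + 1) f) = 0 := dfun_comp A (n + 1) f
    obtain ⟨u, hu0, hu⟩ := h2 _ hw hdw
    have hdf' : dfun A (n + 1) (f - u) = 0 := by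
      rw [map_sub, hu, sub_self]
    obtain ⟨z, hz⟩ := exists_cocycle A (n + 1) (f - u) hdf'
    refine ⟨(π A (n + 1)).hom z, ?_⟩
    rw [map_π]
    congr 1
    apply cocFun_injective
    rw [cocFun_cocyclesMap, hz, post_sub, hf, hu0, sub_zero]

theorem kerVanish_of_div [Fintype G] (φ : A ⟶ B)
    (hdiv : ∀ u : A, φ.hom u = 0 → ∃ v : A, φ.hom v = 0 ∧ Fintype.card G • v = u)
    (htors : ∀ v : A, φ.hom v = 0 → Fintype.card G • v = 0 → v = 0) (n : ℕ) :
    KerVanish φ n := by
  intro z hz hdz
  have h1 := card_smul_eq_d A n z hdz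
  set b₀ : (Fin n → G) → A := ((-1 : k) ^ (n + 1)) • hsum A n z with hb₀
  have hb₀ker : ∀ g, φ.hom (b₀ g) = 0 := by
    intro g
    rw [hb₀, Pi.smul_apply, map_smul, hsum, map_sum]
    rw [Finset.sum_eq_zero, smul_zero]
    intro x _
    exact congrFun hz _
  choose b₁ hb₁ker hb₁ using fun g => hdiv (b₀ g) (hb₀ker g)
  refine ⟨b₁, funext hb₁ker, ?_⟩
  have hb₁' : Fintype.card G • b₁ = b₀ := funext hb₁
  funext g
  have hker : φ.hom (dfun A n b₁ g - z g) = 0 := by
    rw [map_sub]
    have e1 : φ.hom (dfun A n b₁ g) = dfun B n (post φ b₁) g := by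
      rw [dfun_post]
      rfl
    have e2 : post φ b₁ = 0 := funext hb₁ker
    rw [e1, e2, map_zero, Pi.zero_apply, zero_sub, neg_eq_zero]
    exact congrFun hz g
  have htor : Fintype.card G • (dfun A n b₁ g - z g) = 0 := by
    have e3 : Fintype.card G • dfun A n b₁ = dfun A n b₀ := by
      rw [← map_nsmul, hb₁']
    have e4 := congrFun e3 g
    have e5 := congrFun h1 g
    rw [Pi.smul_apply] at e4 e5
    rw [nsmul_sub, e4, e5, sub_self]
  exact sub_eq_zero.mp (htors _ hker htor)

end Abstract


section Concrete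

open IsLocalRing Polynomial

attribute [local instance] Units.mulDistribMulActionRight

section Conv

variable {M H : Type} [Monoid M] [CommGroup H] [MulDistribMulAction M H]

/-- the underlying group element -/
def un (a : Rep.ofMulDistribMulAction M H) : H := Additive.toMul (Rep.toAdditive a)

/-- the element of the representation -/
def mk (x : H) : Rep.ofMulDistribMulAction M H := Rep.toAdditive.symm (Additive.ofMul x)

lemma un_mk (x : H) : un (mk (M := M) x) = x := rfl
lemma mk_un (a : Rep.ofMulDistribMulAction M H) : mk (un a) = a := rfl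
lemma un_zero : un (0 : Rep.ofMulDistribMulAction M H) = 1 := rfl
lemma un_nsmul (n : ℕ) (a : Rep.ofMulDistribMulAction M H) : un (n • a) = un a ^ n := rfl
lemma un_injective : Function.Injective (un (M := M) (H := H)) := fun a b h => by
  have : mk (M := M) (un a) = mk (un b) := by rw [h]
  exact this

end Conv

theorem main (R : Type) [CommRing R]
    [HenselianLocalRing R] (p : ℕ) [CharP (IsLocalRing.ResidueField R) p]
    (G : Type) [Group G] [Finite G] [MulSemiringAction G R] (hp : ¬ p ∣ Nat.card G)
    (φ : Rep.ofMulDistribMulAction G Rˣ ⟶ Rep.ofMulDistribMulAction G (IsLocalRing.ResidueField R)ˣ)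
    (hφ : ∀ x : Rˣ, Additive.toMul (φ.hom (Additive.ofMul x)) = Units.map (IsLocalRing.residue R).toMonoidHom x)
    (n : ℕ) (hn : 1 ≤ n) :
    Function.Bijective ((groupCohomology.functor ℤ G n).map φ).hom := by
  classical
  haveI : Fintype G := Fintype.ofFinite G
  obtain ⟨m, rfl⟩ : ∃ m, n = m + 1 := ⟨n - 1, by omega⟩
  set N := Fintype.card G with hN
  have hNcard : Nat.card G = N := Nat.card_eq_fintype_card
  have hN0 : N ≠ 0 := Fintype.card_ne_zero
  have hNk : ((N : ℕ) : IsLocalRing.ResidueField R) ≠ 0 := by
    rw [Ne, CharP.cast_eq_zero_iff (IsLocalRing.ResidueField R) p]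
    rwa [← hNcard]
  have hφ' : ∀ a : Rep.ofMulDistribMulAction G Rˣ,
      un (φ.hom a) = Units.map (IsLocalRing.residue R).toMonoidHom (un a) := fun a => hφ (un a)
  -- characterisation of the kernel
  have hker : ∀ a : Rep.ofMulDistribMulAction G Rˣ,
      φ.hom a = 0 ↔ residue R ((un a : Rˣ) : R) = 1 := by
    intro a
    constructor
    · intro h0
      have h := hφ' a
      rw [h0, un_zero] at h
      have := congrArg (fun u : (IsLocalRing.ResidueField R)ˣ => (u : IsLocalRing.ResidueField R)) h
      simp only [Units.val_one, Units.coe_map] at this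
      exact this.symm
    · intro h1
      apply un_injective
      rw [hφ' a, un_zero]
      apply Units.ext
      rw [Units.coe_map, Units.val_one]
      exact h1
  have hunit_of_res : ∀ r : R, residue R r ≠ 0 → IsUnit r := by
    intro r hr
    by_contra hnu
    exact hr ((residue_eq_zero_iff r).mpr ((mem_maximalIdeal r).mpr hnu))
  -- surjectivity
  have hsurj : Function.Surjective φ.hom := by
    intro y
    obtain ⟨r, hr⟩ := residue_surjective (R := R) ((un y : (IsLocalRing.ResidueField R)ˣ) : IsLocalRing.ResidueField R)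
    have hru : IsUnit r := hunit_of_res r (by rw [hr]; exact (un y).ne_zero)
    refine ⟨mk hru.unit, ?_⟩
    apply un_injective
    rw [hφ', un_mk]
    apply Units.ext
    rw [Units.coe_map]
    exact hr
  -- divisibility
  have hdiv : ∀ u : Rep.ofMulDistribMulAction G Rˣ, φ.hom u = 0 →
      ∃ v : Rep.ofMulDistribMulAction G Rˣ, φ.hom v = 0 ∧ N • v = u := by
    intro u hu
    rw [hker] at hu
    set r : R := ((un u : Rˣ) : R) with hr
    have hmonic : (X ^ N - C r : R[X]).Monic := monic_X_pow_sub_C r hN0
    have h1 : (X ^ N - C r : R[X]).eval 1 ∈ maximalIdeal R := by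
      rw [← residue_eq_zero_iff]
      simp [hu]
    have h2 : IsUnit ((X ^ N - C r : R[X]).derivative.eval 1) := by
      have e : (X ^ N - C r : R[X]).derivative.eval 1 = (N : R) := by
        rw [derivative_sub, derivative_C, sub_zero, derivative_X_pow, eval_mul, eval_C, eval_pow,
          eval_X, one_pow, mul_one]
      rw [e]
      apply hunit_of_res
      rw [map_natCast]
      exact hNk
    obtain ⟨a, ha, ha1⟩ := HenselianLocalRing.is_henselian _ hmonic 1 h1 h2
    have hares : residue R a = 1 := by
      rw [← residue_eq_zero_iff, map_sub, map_one, sub_eq_zero] at ha1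
      exact ha1
    have hau : IsUnit a := hunit_of_res a (by rw [hares]; exact one_ne_zero)
    have haN : a ^ N = r := by
      have : (X ^ N - C r : R[X]).eval a = 0 := ha
      simpa [sub_eq_zero] using this
    refine ⟨mk hau.unit, ?_, ?_⟩
    · refine (hker _).mpr ?_
      rw [un_mk, IsUnit.unit_spec]
      exact hares
    · apply un_injective
      apply Units.ext
      rw [un_nsmul, un_mk, Units.val_pow_eq_pow_val, IsUnit.unit_spec, haN]
  -- torsion
  have htors : ∀ v : Rep.ofMulDistribMulAction G Rˣ, φ.hom v = 0 → N • v = 0 → v = 0 := by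
    intro v hv hNv
    rw [hker] at hv
    set a : R := ((un v : Rˣ) : R) with ha
    have haN : a ^ N = 1 := by
      have h := congrArg un hNv
      rw [un_nsmul, un_zero] at h
      rw [ha, ← Units.val_pow_eq_pow_val, h, Units.val_one]
    have hgeom : (∑ i ∈ Finset.range N, a ^ i) * (a - 1) = 0 := by
      rw [geom_sum_mul, haN, sub_self]
    have hSunit : IsUnit (∑ i ∈ Finset.range N, a ^ i) := by
      apply hunit_of_res
      rw [map_sum]
      simp only [map_pow, hv, one_pow, Finset.sum_const, Finset.card_range, nsmul_eq_mul, mul_one]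
      exact hNk
    have ha1 : a = 1 := by
      have := (hSunit.mul_right_eq_zero).mp hgeom
      exact sub_eq_zero.mp this
    apply un_injective
    apply Units.ext
    rw [un_zero, Units.val_one]
    exact ha1
  exact map_bijective φ hsurj m (kerVanish_of_div φ hdiv htors m) (kerVanish_of_div φ hdiv htors (m + 1))

end Concrete

end Groth.Agent.Lib.Helper26.GroupCohElem
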