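import Mathlib
import Groth.Agent.Lib.Helper26.GroupCohTorsion

set_option linter.unusedSectionVars false
set_option linter.style.haveILetI false
set_option linter.unusedVariables false

open CategoryTheory CategoryTheory.Limits Opposite

namespace Groth.Agent.Lib.Helper26.GroupCohUnits

open Groth.Agent.Lib.Helper26.GroupCohML Groth.Agent.Lib.Helper26.GroupCohTorsion

variable {Q : Type} [Group Q]

/-- morphism of trivial representations induced by an additive hom -/
noncomputable def tmap {V W : Type} [AddCommGroup V] [AddCommGroup W] (ψ : V →+ W) :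
    Rep.trivial ℤ Q V ⟶ Rep.trivial ℤ Q W :=
  Rep.ofHom ⟨ψ.toIntLinearMap, fun _ => rfl⟩

lemma dfun_tmap {V W : Type} [AddCommGroup V] [AddCommGroup W] (ψ : V →+ W) (n : ℕ)
    (f : (Fin n → Q) → V) :
    dfun (Rep.trivial ℤ Q W) n (fun g => ψ (f g)) = fun g => ψ (dfun (Rep.trivial ℤ Q V) n f g) :=
  dfun_post (tmap (Q := Q) ψ) n f


theorem main [Finite Q] (hQ : Subsingleton (groupCohomology (Rep.trivial ℤ Q ℤ) 3))
    (k : Type) [Field k] [IsSepClosed k] (p : ℕ) [CharP k p] (hp : ¬ p ∣ Nat.card Q) :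
    Subsingleton (groupCohomology (Rep.trivial ℤ Q (Additive kˣ)) 2) := by
  classical
  haveI : Fintype Q := Fintype.ofFinite Q
  set N := Fintype.card Q with hN
  have hNcard : Nat.card Q = N := Nat.card_eq_fintype_card
  have hN0 : N ≠ 0 := Fintype.card_ne_zero
  haveI : NeZero N := ⟨hN0⟩
  haveI : NeZero (N : k) := ⟨by
    rw [Ne, CharP.cast_eq_zero_iff k p]
    rwa [← hNcard]⟩
  -- divisibility
  have hdiv : ∀ x : Additive kˣ, ∃ y : Additive kˣ, N • y = x := by
    intro x
    obtain ⟨z, hz⟩ := IsSepClosed.exists_pow_nat_eq ((Additive.toMul x : kˣ) : k) N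
    have hz0 : z ≠ 0 := by
      intro h
      rw [h, zero_pow hN0] at hz
      exact (Additive.toMul x).ne_zero hz.symm
    refine ⟨Additive.ofMul (Units.mk0 z hz0), ?_⟩
    apply Additive.toMul.injective
    apply Units.ext
    rw [toMul_nsmul, toMul_ofMul, Units.val_pow_eq_pow_val, Units.val_mk0, hz]
  -- primitive root
  obtain ⟨ζ, hζ⟩ := HasEnoughRootsOfUnity.exists_primitiveRoot k N
  have hζ0 : ζ ≠ 0 := hζ.ne_zero hN0
  set ζu : kˣ := Units.mk0 ζ hζ0 with hζudef
  have hζu : IsPrimitiveRoot ζu N := by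
    rw [← IsPrimitiveRoot.coe_units_iff]
    exact hζ
  set ζa : Additive kˣ := Additive.ofMul ζu with hζa
  set ι : ℤ →+ Additive kˣ := zmultiplesHom (Additive kˣ) ζa with hι
  have hιapp : ∀ m : ℤ, ι m = m • ζa := fun m => rfl
  have hιker : ∀ m : ℤ, ι m = 0 → (N : ℤ) ∣ m := by
    intro m hm
    rw [hιapp] at hm
    have h1 : ζu ^ m = 1 := by
      have := congrArg Additive.toMul hm
      rwa [toMul_zsmul, toMul_ofMul, toMul_zero] at this
    exact (hζu.zpow_eq_one_iff_dvd m).mp h1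
  have hNζ : N • ζa = 0 := by
    apply Additive.toMul.injective
    rw [toMul_nsmul, toMul_ofMul, toMul_zero]
    exact hζu.pow_eq_one
  have hιim : ∀ x : Additive kˣ, N • x = 0 → ∃ m : ℤ, ι m = x := by
    intro x hx
    have h1 : (Additive.toMul x) ^ N = 1 := by
      have := congrArg Additive.toMul hx
      rwa [toMul_nsmul, toMul_zero] at this
    have h1' : ((Additive.toMul x : kˣ) : k) ^ N = 1 := by
      rw [← Units.val_pow_eq_pow_val, h1, Units.val_one]
    obtain ⟨i, _, hi⟩ := hζ.eq_pow_of_pow_eq_one h1'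
    refine ⟨(i : ℤ), ?_⟩
    rw [hιapp]
    apply Additive.toMul.injective
    rw [toMul_zsmul, toMul_ofMul, zpow_natCast]
    apply Units.ext
    rw [Units.val_pow_eq_pow_val, hζudef, Units.val_mk0, hi]
  -- the N-th root of ζ
  obtain ⟨ζ', hζ'⟩ := hdiv ζa
  set ι' : ℤ →+ Additive kˣ := zmultiplesHom (Additive kˣ) ζ' with hι'
  have hιι' : ∀ m : ℤ, ι m = N • ι' m := by
    intro m
    show m • ζa = N • (m • ζ')
    rw [← hζ', ← natCast_zsmul, ← natCast_zsmul, smul_smul, smul_smul, mul_comm]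
  -- start
  rw [GroupCohML.subsingleton_iff]
  intro c hc
  -- step 1: N c = d b₀
  have h1 := card_smul_eq_d (Rep.trivial ℤ Q (Additive kˣ)) 1 c hc
  set b₀ : (Fin 1 → Q) → Additive kˣ :=
    ((-1 : ℤ) ^ (1 + 1)) • hsum (Rep.trivial ℤ Q (Additive kˣ)) 1 c with hb₀
  -- step 2: divide b₀ by N
  choose b₁ hb₁ using fun g => hdiv (b₀ g)
  have hb₁' : N • b₁ = b₀ := funext hb₁
  -- step 3
  set c' : (Fin 2 → Q) → Additive kˣ := c - dfun (Rep.trivial ℤ Q (Additive kˣ)) 1 b₁ with hc'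
  have hNc' : N • c' = 0 := by
    have e1 : N • c' = N • c - dfun (Rep.trivial ℤ Q (Additive kˣ)) 1 (N • b₁) := by
      rw [hc', map_nsmul, nsmul_sub]
    rw [e1, hb₁', ← h1, sub_self]
  have hdc' : dfun (Rep.trivial ℤ Q (Additive kˣ)) 2 c' = 0 := by
    rw [hc', map_sub, hc, dfun_comp, sub_self]
  -- step 5: lift to ℤ
  choose ct hct using fun g => hιim (c' g) (congrFun hNc' g)
  have hct' : (fun g => ι (ct g)) = c' := funext hct
  -- step 6
  have h6 : ∀ g, (N : ℤ) ∣ dfun (Rep.trivial ℤ Q ℤ) 2 ct g := by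
    intro g
    apply hιker
    have := congrFun (dfun_tmap (Q := Q) ι 2 ct) g
    rw [← this, hct', hdc']
    rfl
  choose e he using h6
  have he' : dfun (Rep.trivial ℤ Q ℤ) 2 ct = N • e := by
    funext g
    rw [he g]
    simp
  -- step 7
  have hde : dfun (Rep.trivial ℤ Q ℤ) 3 e = 0 := by
    have h7 : N • dfun (Rep.trivial ℤ Q ℤ) 3 e = 0 := by
      rw [← map_nsmul, ← he', dfun_comp]
    funext g
    have := congrFun h7 g
    simp only [Pi.smul_apply, Pi.zero_apply, nsmul_eq_mul] at this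
    rcases mul_eq_zero.mp this with h | h
    · exact absurd (by exact_mod_cast h) hN0
    · exact h
  -- step 8
  obtain ⟨a, ha⟩ := (GroupCohML.subsingleton_iff _ 2).mp hQ e hde
  -- step 9
  set z : (Fin 2 → Q) → ℤ := ct - N • a with hz
  have hdz : dfun (Rep.trivial ℤ Q ℤ) 2 z = 0 := by
    rw [hz, map_sub, map_nsmul, ha, he', sub_self]
  have hιz : (fun g => ι (z g)) = c' := by
    funext g
    rw [hz]
    simp only [Pi.sub_apply, Pi.smul_apply, map_sub, map_nsmul]
    rw [hct g, hιapp, ← natCast_zsmul, smul_smul, mul_comm, ← smul_smul, natCast_zsmul, hNζ,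
      smul_zero, sub_zero]
  -- step 10
  have hι'z : dfun (Rep.trivial ℤ Q (Additive kˣ)) 2 (fun g => ι' (z g)) = 0 := by
    rw [dfun_tmap (Q := Q) ι' 2 z, hdz]
    funext g
    simp
  have h10 := card_smul_eq_d (Rep.trivial ℤ Q (Additive kˣ)) 1 (fun g => ι' (z g)) hι'z
  have hc'eq : c' = N • (fun g => ι' (z g)) := by
    rw [← hιz]
    funext g
    rw [hιι']
    rfl
  -- step 11
  refine ⟨((-1 : ℤ) ^ (1 + 1)) • hsum (Rep.trivial ℤ Q (Additive kˣ)) 1 (fun g => ι' (z g)) + b₁, ?_⟩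
  rw [map_add, ← h10, ← hc'eq, hc']
  abel

end Groth.Agent.Lib.Helper26.GroupCohUnits
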