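import Mathlib
import Groth.Agent.Lib.Helper26.GrpFlatB
import Groth.Agent.Lib.Helper14.SchemeDim

set_option autoImplicit false
universe u
open AlgebraicGeometry CategoryTheory CategoryTheory.Limits MonObj
open Groth.Agent.Lib.Helper26

namespace Groth.Agent.Lib.Helper26.GrpFlatC

theorem main_7801 {S : Scheme.{u}} (X Y : Over S) [GrpObj X] [IsProper X.hom] [Flat X.hom]
    [LocallyOfFinitePresentation X.hom] [GeometricallyReduced X.hom]
    [GeometricallyConnected X.hom]
    [GrpObj Y] [IsProper Y.hom] [Flat Y.hom] [LocallyOfFinitePresentation Y.hom]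
    [GeometricallyReduced Y.hom] [GeometricallyConnected Y.hom]
    (f : X ⟶ Y) [IsMonHom f] [IsFinite f.left] [Surjective f.left] :
    Flat f.left ∧
      ∀ s : S, topologicalKrullDim ↥(X.hom.fiber s) = topologicalKrullDim ↥(Y.hom.fiber s) := by
  have hflat : Flat f.left := (GrpFlatB.main_7800 X Y f).1
  refine ⟨hflat, fun s => ?_⟩
  obtain ⟨i1, i2, i3, hsq⟩ := GrpFlatB.exists_fibre_hom X Y f s
  haveI : Surjective ((Over.pullback (S.fromSpecResidueField s)).map f).left :=
    MorphismProperty.of_isPullback (P := @Surjective) hsq inferInstance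
  haveI : Flat ((Over.pullback (S.fromSpecResidueField s)).map f).left :=
    MorphismProperty.of_isPullback (P := @Flat) hsq hflat
  haveI : IsFinite ((Over.pullback (S.fromSpecResidueField s)).map f).left :=
    MorphismProperty.of_isPullback (P := @IsFinite) hsq inferInstance
  have h := Groth.Agent.Lib.Helper14.AS.topologicalKrullDim_eq_of_flat_lqf_surjective
    ((Over.pullback (S.fromSpecResidueField s)).map f).left
  exact h

end Groth.Agent.Lib.Helper26.GrpFlatC
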