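import Mathlib
import Groth.Agent.Lib.Helper26.GrpFlatB
import Groth.Agent.Lib.Helper10.SmoothReduced2
import Groth.Agent.Lib.Helper14.LfpOfComp

set_option autoImplicit false
universe u
open AlgebraicGeometry CategoryTheory CategoryTheory.Limits MonObj
open Groth.Agent.Lib.Helper26

namespace Groth.Agent.Lib.Helper26.GrpFlatD

theorem flat_of_surjective_of_reduced_fibres {S : Scheme.{u}} (G H : Over S) [GrpObj G] [GrpObj H]
    [LocallyOfFinitePresentation G.hom] [Flat G.hom] [LocallyOfFiniteType H.hom]
    (hred : ∀ s : S, IsReduced (H.hom.fiber s))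
    (f : G ⟶ H) [IsMonHom f] [Surjective f.left] : Flat f.left ∧ Flat H.hom := by
  have hmain := GrpFlatA.flat_of_fibrewise f.left H.hom G.hom (Over.w f) (fun s => by
    obtain ⟨i1, i2, i3, hsq⟩ := GrpFlatB.exists_fibre_hom G H f s
    refine ⟨((Over.pullback (S.fromSpecResidueField s)).map f).left, hsq.w.symm,
      Over.w ((Over.pullback (S.fromSpecResidueField s)).map f), ?_⟩
    haveI : Surjective ((Over.pullback (S.fromSpecResidueField s)).map f).left :=
      MorphismProperty.of_isPullback (P := @Surjective) hsq inferInstance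
    haveI : IsReduced ((Over.pullback (S.fromSpecResidueField s)).obj H).left := hred s
    exact GrpFlatA.flat_of_surjective_reduced (k := S.residueField s)
      ((Over.pullback (S.fromSpecResidueField s)).map f) (Surjective.surj))
  refine ⟨hmain.1, ?_⟩
  rw [Flat.iff_flat_stalkMap]
  intro y
  obtain ⟨x, rfl⟩ := (Surjective.surj (f := f.left)) y
  exact hmain.2 x

theorem isReduced_fiber_of_smooth {X S : Scheme.{u}} (p : X ⟶ S) [Smooth p] (s : S) :
    IsReduced (p.fiber s) := by
  haveI : Smooth (p.fiberToSpecResidueField s) :=
    (inferInstance : Smooth (pullback.snd p (S.fromSpecResidueField s)))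
  exact Groth.Agent.Lib.Helper10.SmoothReduced.isReduced_of_smooth_scheme
    (p.fiberToSpecResidueField s)

theorem main_19659 {S : Scheme.{u}} (A B : Over S) [GrpObj A] [IsProper A.hom] [Smooth A.hom]
    [GeometricallyConnected A.hom]
    [GrpObj B] [IsProper B.hom] [Smooth B.hom] [GeometricallyConnected B.hom]
    (f : A ⟶ B) [IsMonHom f] :
    Flat f.left ↔ Surjective f.left := by
  have hw : f.left ≫ B.hom = A.hom := Over.w f
  constructor
  · intro hflat
    haveI := hflat
    haveI : LocallyOfFinitePresentation (f.left ≫ B.hom) := by rw [hw]; infer_instance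
    haveI : LocallyOfFinitePresentation f.left :=
      Groth.Agent.Lib.Helper14.AS.locallyOfFinitePresentation_of_comp f.left B.hom
        inferInstance inferInstance
    haveI : IsProper (f.left ≫ B.hom) := by rw [hw]; infer_instance
    haveI : IsProper f.left := IsProper.of_comp f.left B.hom
    have hopen : IsOpen (Set.range f.left) := f.left.isOpenMap.isOpen_range
    have hclosed : IsClosed (Set.range f.left) := f.left.isClosedMap.isClosed_range
    refine ⟨fun b => ?_⟩
    have hconn := (B.hom.isConnected_preimage_singleton (B.hom b)).isPreconnected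
    refine hconn.subset_isClopen ⟨hclosed, hopen⟩ ?_ (show b ∈ B.hom ⁻¹' {B.hom b} from rfl)
    -- the unit section
    let eA : S ⟶ A.left := η[A].left
    let eB : S ⟶ B.left := η[B].left
    have h1 : eA ≫ f.left = eB := by
      have := congrArg (fun φ => φ.left) (IsMonHom.one_hom (f := f))
      exact this
    have h2 : eB ≫ B.hom = 𝟙 S := by
      have := Over.w η[B]
      exact this
    refine ⟨eB (B.hom b), ?_, ?_⟩
    · change B.hom (eB (B.hom b)) = B.hom b
      rw [← Scheme.Hom.comp_apply, h2]
      rfl
    · refine ⟨eA (B.hom b), ?_⟩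
      rw [← Scheme.Hom.comp_apply, h1]
  · intro hs
    haveI := hs
    exact (flat_of_surjective_of_reduced_fibres A B
      (fun s => isReduced_fiber_of_smooth B.hom s) f).1

end Groth.Agent.Lib.Helper26.GrpFlatD
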