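import Mathlib
import Groth.Agent.Lib.Helper26.GrpFlatB
import Groth.Agent.Lib.Helper18.FlG
import Groth.Agent.Lib.Helper14.LfpOfComp

set_option autoImplicit false
set_option backward.isDefEq.respectTransparency.types false
universe u
open AlgebraicGeometry CategoryTheory CategoryTheory.Limits MonoidalCategory
  CartesianMonoidalCategory MonObj GrpObj
open Groth.Agent.Lib.Helper26

namespace Groth.Agent.Lib.Helper26.GrpLocA

/-- pointwise fibre criterion -/
theorem flatAt_of_fibre_flatAt {X Y S : Scheme.{u}} (f : X ⟶ Y) (q : Y ⟶ S) (p : X ⟶ S)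
    (hw : f ≫ q = p) [Flat p] [LocallyOfFinitePresentation p] [LocallyOfFiniteType q]
    (s : S) (fs : p.fiber s ⟶ q.fiber s) (h1 : fs ≫ q.fiberι s = p.fiberι s ≫ f)
    (h2 : fs ≫ q.fiberToSpecResidueField s = p.fiberToSpecResidueField s)
    (x' : p.fiber s) (h : (fs.stalkMap x').hom.Flat) :
    (f.stalkMap (p.fiberι s x')).hom.Flat := by
  subst hw
  have hfl1 : ((f ≫ q).stalkMap ((f ≫ q).fiberι s x')).hom.Flat :=
    (Flat.iff_flat_stalkMap (f ≫ q)).1 inferInstance _
  exact (Groth.Agent.Lib.Helper14.AS.flat_of_fibre_flat_fp f q s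
    ((f ≫ q).fiberι s) ((f ≫ q).fiberToSpecResidueField s)
    (q.fiberι s) (q.fiberToSpecResidueField s)
    (IsPullback.of_hasPullback _ _) (IsPullback.of_hasPullback _ _) fs h1 h2 x' hfl1 h).2

open Groth.Agent.Lib.Helper10 in
/-- homogeneity of flatness for a homomorphism over a field -/
theorem flat_of_flatAt_field {k : Type u} [Field k]
    {G H : Over (Spec (CommRingCat.of k))} [GrpObj G] [GrpObj H]
    (f : G ⟶ H) [IsMonHom f] (x : G.left) (h : (f.left.stalkMap x).hom.Flat) : Flat f.left := by
  haveI : Subsingleton ↥(Spec (CommRingCat.of k)) :=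
    inferInstanceAs (Subsingleton (PrimeSpectrum k))
  haveI : Flat G.hom := inferInstance
  exact FlatPt.flat_of_flatAt (TrivLoc.translAction f) f
    (fun g g' => FlatPt.hom_equivariant f g g') x h

theorem main_5312 (S : Scheme.{u}) (G H : Over S) [GrpObj G] [GrpObj H] (u : G ⟶ H) [IsMonHom u]
    [Flat G.hom] [LocallyOfFinitePresentation G.hom] [LocallyOfFiniteType H.hom] :
    IsOpen {s : S | Flat ((Over.pullback (S.fromSpecResidueField s)).map u).left} ∧
    {x : G.left | (u.left.stalkMap x).hom.Flat} =
      G.hom.base ⁻¹' {s : S | Flat ((Over.pullback (S.fromSpecResidueField s)).map u).left} := by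
  have hw : u.left ≫ H.hom = G.hom := Over.w u
  haveI : LocallyOfFinitePresentation u.left :=
    Groth.Agent.Lib.Helper14.AS.locallyOfFinitePresentation_of_comp u.left H.hom
      (by rw [hw]; infer_instance) inferInstance
  have hW : IsOpen {x : G.left | (u.left.stalkMap x).hom.Flat} :=
    Groth.Agent.Lib.Helper18.Fl.isOpen_flatLocus_scheme u.left
  -- pointwise equivalence
  have key : ∀ x : G.left, (u.left.stalkMap x).hom.Flat ↔
      Flat ((Over.pullback (S.fromSpecResidueField (G.hom x))).map u).left := by
    intro x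
    obtain ⟨i1, i2, i3, hsq⟩ := GrpFlatB.exists_fibre_hom G H u (G.hom x)
    have hx : x ∈ Set.range (G.hom.fiberι (G.hom x)) := by
      rw [Scheme.Hom.range_fiberι]
      rfl
    obtain ⟨x', hx'⟩ := hx
    constructor
    · intro h
      have h1 := Groth.Agent.Lib.Helper10.FlatPt.flatAt_of_isPullback hsq x' (by rw [hx']; exact h)
      exact flat_of_flatAt_field (k := S.residueField (G.hom x))
        ((Over.pullback (S.fromSpecResidueField (G.hom x))).map u) x' h1
    · intro h
      have h1 := flatAt_of_fibre_flatAt u.left H.hom G.hom hw (G.hom x)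
        ((Over.pullback (S.fromSpecResidueField (G.hom x))).map u).left hsq.w.symm
        (Over.w ((Over.pullback (S.fromSpecResidueField (G.hom x))).map u)) x'
        ((Flat.iff_flat_stalkMap _).1 h x')
      rw [hx'] at h1
      exact h1
  have hset : {x : G.left | (u.left.stalkMap x).hom.Flat} =
      G.hom.base ⁻¹' {s : S | Flat ((Over.pullback (S.fromSpecResidueField s)).map u).left} := by
    ext x
    exact key x
  refine ⟨?_, hset⟩
  -- openness via the unit section
  let ε : S ⟶ G.left := η[G].left
  have hε : ε ≫ G.hom = 𝟙 S := Over.w η[G]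
  have : {s : S | Flat ((Over.pullback (S.fromSpecResidueField s)).map u).left} =
      ε.base ⁻¹' {x : G.left | (u.left.stalkMap x).hom.Flat} := by
    ext s
    rw [hset]
    have e1 : G.hom (ε s) = s := by
      rw [← Scheme.Hom.comp_apply, hε]
      rfl
    change _ ↔ Flat ((Over.pullback (S.fromSpecResidueField (G.hom (ε s)))).map u).left
    rw [e1]
    rfl
  rw [this]
  exact hW.preimage ε.continuous

end Groth.Agent.Lib.Helper26.GrpLocA
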