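import Mathlib
import Groth.Agent.Lib.Helper26.GrpLocA
import Groth.Agent.Lib.Helper26.GrpLocC
import Groth.Agent.Lib.Helper25.FiberSmoothGlobal
import Groth.Agent.Lib.Helper25.FiberSmoothScheme2
import Groth.Agent.S2155

set_option autoImplicit false
set_option backward.isDefEq.respectTransparency.types false
universe u v
open AlgebraicGeometry CategoryTheory CategoryTheory.Limits MonoidalCategory
  CartesianMonoidalCategory MonObj GrpObj
open Groth.Agent.Lib.Helper26 Groth.Agent.Lib.Helper20

namespace Groth.Agent.Lib.Helper26.GrpLocD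

/-- a point of the smooth locus is a point of flatness -/
theorem flatAt_of_mem_smoothLocus {X Y : Scheme.{u}} (f : X ⟶ Y) [LocallyOfFinitePresentation f]
    (x : X) (hx : x ∈ f.smoothLocus) : (f.stalkMap x).hom.Flat := by
  have hsm : Smooth (f.smoothLocus.ι ≫ f) :=
    Groth.Agent.Lib.Helper13.smooth_ι_comp_of_le_smoothLocus f _ le_rfl
  have hfl : Flat (f.smoothLocus.ι ≫ f) := inferInstance
  have := (Flat.iff_flat_stalkMap _).1 hfl ⟨x, hx⟩
  exact (Groth.Agent.Lib.Helper13.stalkMap_ι_comp_iff RingHom.Flat.respectsIso f f.smoothLocus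
    ⟨x, hx⟩).1 this

/-- smooth near a point iff in the smooth locus -/
theorem smooth_near_iff {X Y : Scheme.{u}} (f : X ⟶ Y) [LocallyOfFinitePresentation f] (x : X) :
    (∃ W : X.Opens, x ∈ W ∧ Smooth (W.ι ≫ f)) ↔ x ∈ f.smoothLocus := by
  constructor
  · rintro ⟨W, hxW, hW⟩
    exact Groth.Agent.Lib.Helper13.le_smoothLocus_of_smooth_ι_comp f W hxW
  · intro hx
    exact ⟨f.smoothLocus, hx, Groth.Agent.Lib.Helper13.smooth_ι_comp_of_le_smoothLocus f _ le_rfl⟩

/-- homogeneity of smoothness for a flat lfp homomorphism of group schemes over a one point base -/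
theorem formallySmooth_hom_const {S : Scheme.{u}} [Subsingleton S] {G H : Over S}
    [GrpObj G] [GrpObj H] (f : G ⟶ H) [IsMonHom f] [LocallyOfFinitePresentation f.left]
    [Flat f.left] (x y : G.left) :
    (f.left.stalkMap x).hom.FormallySmooth = (f.left.stalkMap y).hom.FormallySmooth := by
  refine GrpLocC.hom_const
    (fun {X Y} (f : X ⟶ Y) (x : X) => (f.stalkMap x).hom.FormallySmooth)
    (@LocallyOfFinitePresentation ⊓ @Flat) ?_ f ⟨inferInstance, inferInstance⟩ x y
  intro X' X S' S g' f' f g hsq hf x'
  haveI : LocallyOfFinitePresentation f := hf.1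
  haveI : Flat f := hf.2
  haveI : LocallyOfFinitePresentation f' :=
    MorphismProperty.of_isPullback (P := @LocallyOfFinitePresentation) hsq inferInstance
  have e := Groth.Agent.S2155.result f g f' g' hsq (Or.inl inferInstance)
  apply propext
  change x' ∈ f'.smoothLocus ↔ x' ∈ g' ⁻¹ᵁ f.smoothLocus
  rw [e]

/-- pointwise criterion: `u` is smooth near `x` iff the fibre hom `u_s` is smooth -/
theorem key_smooth (S : Scheme.{u}) (G H : Over S) [GrpObj G] [GrpObj H] (u : G ⟶ H) [IsMonHom u]
    [Flat G.hom] [LocallyOfFinitePresentation G.hom] [LocallyOfFiniteType H.hom]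
    [LocallyOfFinitePresentation u.left] (x : G.left) :
    x ∈ u.left.smoothLocus ↔
      Smooth ((Over.pullback (S.fromSpecResidueField (G.hom x))).map u).left := by
  have hw : u.left ≫ H.hom = G.hom := Over.w u
  have hs : G.hom x = H.hom (u.left x) := by
    rw [← hw]
    rfl
  rw [hs]
  generalize hsdef : H.hom (u.left x) = s at *
  obtain ⟨i1, i2, i3, hsq0⟩ := GrpFlatB.exists_fibre_hom G H u s
  have hsq : IsPullback (P := ((Over.pullback (S.fromSpecResidueField s)).obj G).left)
      (Y := ((Over.pullback (S.fromSpecResidueField s)).obj H).left)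
      (G.hom.fiberι s) ((Over.pullback (S.fromSpecResidueField s)).map u).left u.left
      (H.hom.fiberι s) := hsq0
  have ilfp : LocallyOfFinitePresentation
      ((Over.pullback (S.fromSpecResidueField s)).map u).left :=
    MorphismProperty.of_isPullback (P := @LocallyOfFinitePresentation) hsq inferInstance
  haveI : Subsingleton ↥(Spec (S.residueField s)) :=
    inferInstanceAs (Subsingleton (PrimeSpectrum (S.residueField s)))
  have hx : x ∈ Set.range (G.hom.fiberι s) := by
    rw [Scheme.Hom.range_fiberι]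
    exact hs
  obtain ⟨x', hx'⟩ : ∃ x' : ((Over.pullback (S.fromSpecResidueField s)).obj G).left,
      G.hom.fiberι s x' = x := hx
  constructor
  · intro h
    have h1 : x' ∈ ((Over.pullback (S.fromSpecResidueField s)).map u).left.smoothLocus :=
      Groth.Agent.Lib.Helper25.FiberSmoothScheme.preimage_smoothLocus_le_of_isPullback hsq
        (by change G.hom.fiberι s x' ∈ u.left.smoothLocus; rw [hx']; exact h)
    have h2 := flatAt_of_mem_smoothLocus
      ((Over.pullback (S.fromSpecResidueField s)).map u).left x' h1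
    haveI : Flat ((Over.pullback (S.fromSpecResidueField s)).map u).left :=
      GrpLocA.flat_of_flatAt_field (k := S.residueField s)
        ((Over.pullback (S.fromSpecResidueField s)).map u) x' h2
    apply Groth.Agent.Lib.Helper25.FiberSmoothGlobal.smooth_of_forall_stalkMap
    intro y'
    rw [formallySmooth_hom_const ((Over.pullback (S.fromSpecResidueField s)).map u) y' x']
    exact h1
  · intro h
    subst hsdef
    have hflat : ((u.left ≫ H.hom).stalkMap x).hom.Flat := by
      have : Flat (u.left ≫ H.hom) := by rw [hw]; infer_instance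
      exact (Flat.iff_flat_stalkMap _).1 this x
    refine Groth.Agent.Lib.Helper25.FiberSmoothGlobal.formallySmooth_stalkMap_of_smooth_fibre
      (g := H.hom) (f := u.left) x hflat ?_
    have h3 : Smooth (hsq0.isoPullback.hom ≫
        pullback.snd u.left (H.hom.fiberι (H.hom (u.left x)))) :=
      hsq0.isoPullback_hom_snd.symm ▸ h
    exact (MorphismProperty.cancel_left_of_respectsIso (P := @Smooth) _ _).1 h3

/-- pointwise criterion: `u` is formally unramified near `x` iff the fibre hom `u_s` is -/
theorem key_fu (S : Scheme.{u}) (G H : Over S) [GrpObj G] [GrpObj H] (u : G ⟶ H)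
    [IsMonHom u] [LocallyOfFiniteType u.left] (x : G.left) :
    (∃ W : G.left.Opens, x ∈ W ∧ FormallyUnramified (W.ι ≫ u.left)) ↔
      FormallyUnramified ((Over.pullback (S.fromSpecResidueField (G.hom x))).map u).left := by
  obtain ⟨i1, i2, i3, hsq⟩ := GrpFlatB.exists_fibre_hom G H u (G.hom x)
  haveI : LocallyOfFiniteType ((Over.pullback (S.fromSpecResidueField (G.hom x))).map u).left :=
    MorphismProperty.of_isPullback (P := @LocallyOfFiniteType) hsq inferInstance
  haveI : Subsingleton ↥(Spec (S.residueField (G.hom x))) :=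
    inferInstanceAs (Subsingleton (PrimeSpectrum (S.residueField (G.hom x))))
  have hx : x ∈ Set.range (G.hom.fiberι (G.hom x)) := by
    rw [Scheme.Hom.range_fiberι]
    rfl
  obtain ⟨x', hx'⟩ := hx
  have hbc := GrpLocC.holdsNear_fu_of_isPullback hsq inferInstance x'
  rw [hx'] at hbc
  rw [← holdsNear_iff_opens @FormallyUnramified u.left x, ← hbc, GrpLocC.fu_iff_forall_holdsNear]
  constructor
  · intro h y'
    have := GrpLocC.hom_const
      (fun {X Y} (f : X ⟶ Y) (x : X) => HoldsNear @FormallyUnramified f x)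
      @LocallyOfFiniteType
      (fun {X' X S' S g' f' f g} hsq hf x' => GrpLocC.holdsNear_fu_of_isPullback hsq hf x')
      ((Over.pullback (S.fromSpecResidueField (G.hom x))).map u) inferInstance y' x'
    rw [this]
    exact h
  · intro h
    exact h x'

/-- generic end of the argument: openness through the unit section -/
theorem isOpen_of_key (S : Scheme.{u}) (G : Over S) [GrpObj G] (P : S → Prop)
    (Q : G.left → Prop) (hQ : IsOpen {x | Q x}) (key : ∀ x, Q x ↔ P (G.hom x)) :
    IsOpen {s | P s} ∧ {x | Q x} = G.hom.base ⁻¹' {s | P s} := by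
  have hset : {x | Q x} = G.hom.base ⁻¹' {s | P s} := by
    ext x
    exact key x
  refine ⟨?_, hset⟩
  let ε : S ⟶ G.left := η[G].left
  have hε : ε ≫ G.hom = 𝟙 S := Over.w η[G]
  have : {s | P s} = ε.base ⁻¹' {x | Q x} := by
    ext s
    have e1 : G.hom (ε s) = s := by
      rw [← Scheme.Hom.comp_apply, hε]
      rfl
    change P s ↔ Q (ε s)
    rw [key, e1]
  rw [this]
  exact hQ.preimage ε.continuous

theorem isOpen_near {X : Scheme.{u}} (R : X.Opens → Prop) :
    IsOpen {x : X | ∃ W : X.Opens, x ∈ W ∧ R W} := by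
  rw [isOpen_iff_forall_mem_open]
  rintro x ⟨W, hxW, hW⟩
  exact ⟨W, fun y hy => ⟨W, hy, hW⟩, W.2, hxW⟩

theorem main_5313 (S : Scheme.{u}) (G H : Over S) [GrpObj G] [GrpObj H] (u : G ⟶ H) [IsMonHom u]
    [Flat G.hom] [LocallyOfFinitePresentation G.hom] [LocallyOfFiniteType H.hom] :
    IsOpen {s : S | Smooth ((Over.pullback (S.fromSpecResidueField s)).map u).left} ∧
    {x : G.left | ∃ W : G.left.Opens, x ∈ W ∧ Smooth (W.ι ≫ u.left)} =
      G.hom.base ⁻¹' {s : S | Smooth ((Over.pullback (S.fromSpecResidueField s)).map u).left} := by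
  have hw : u.left ≫ H.hom = G.hom := Over.w u
  haveI : LocallyOfFinitePresentation u.left :=
    Groth.Agent.Lib.Helper14.AS.locallyOfFinitePresentation_of_comp u.left H.hom
      (by rw [hw]; infer_instance) inferInstance
  exact isOpen_of_key S G
    (fun s => Smooth ((Over.pullback (S.fromSpecResidueField s)).map u).left)
    (fun x => ∃ W : G.left.Opens, x ∈ W ∧ Smooth (W.ι ≫ u.left))
    (isOpen_near _)
    (fun x => (smooth_near_iff u.left x).trans (key_smooth S G H u x))

theorem main_5314 (S : Scheme.{u}) (G H : Over S) [GrpObj G] [GrpObj H] (u : G ⟶ H) [IsMonHom u]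
    [Flat G.hom] [LocallyOfFinitePresentation G.hom] [LocallyOfFiniteType H.hom] :
    IsOpen {s : S | Etale ((Over.pullback (S.fromSpecResidueField s)).map u).left} ∧
    {x : G.left | ∃ W : G.left.Opens, x ∈ W ∧ Etale (W.ι ≫ u.left)} =
      G.hom.base ⁻¹' {s : S | Etale ((Over.pullback (S.fromSpecResidueField s)).map u).left} := by
  have hw : u.left ≫ H.hom = G.hom := Over.w u
  haveI : LocallyOfFinitePresentation u.left :=
    Groth.Agent.Lib.Helper14.AS.locallyOfFinitePresentation_of_comp u.left H.hom
      (by rw [hw]; infer_instance) inferInstance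
  refine isOpen_of_key S G
    (fun s => Etale ((Over.pullback (S.fromSpecResidueField s)).map u).left)
    (fun x => ∃ W : G.left.Opens, x ∈ W ∧ Etale (W.ι ≫ u.left))
    (isOpen_near _) ?_
  intro x
  have k1 := (smooth_near_iff u.left x).trans (key_smooth S G H u x)
  have k2 := key_fu S G H u x
  constructor
  · rintro ⟨W, hxW, hW⟩
    have hsm : Smooth ((Over.pullback (S.fromSpecResidueField (G.hom x))).map u).left :=
      k1.1 ⟨W, hxW, inferInstance⟩
    have hfu : FormallyUnramified
        ((Over.pullback (S.fromSpecResidueField (G.hom x))).map u).left :=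
      k2.1 ⟨W, hxW, inferInstance⟩
    exact Etale.iff_flat_and_formallyUnramified.mpr ⟨inferInstance, hfu, inferInstance⟩
  · intro h
    obtain ⟨W1, hx1, hW1⟩ := k1.2 inferInstance
    obtain ⟨W2, hx2, hW2⟩ := k2.2 inferInstance
    refine ⟨W1 ⊓ W2, ⟨hx1, hx2⟩, ?_⟩
    have e1 : (W1 ⊓ W2).ι ≫ u.left = G.left.homOfLE inf_le_left ≫ W1.ι ≫ u.left := by
      rw [← Category.assoc, Scheme.homOfLE_ι]
    have e2 : (W1 ⊓ W2).ι ≫ u.left = G.left.homOfLE inf_le_right ≫ W2.ι ≫ u.left := by
      rw [← Category.assoc, Scheme.homOfLE_ι]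
    have hsm : Smooth ((W1 ⊓ W2).ι ≫ u.left) := by rw [e1]; infer_instance
    have hfu : FormallyUnramified ((W1 ⊓ W2).ι ≫ u.left) := by
      rw [e2]
      exact openStable_formallyUnramified.precomp _ _ inferInstance hW2
    exact Etale.iff_flat_and_formallyUnramified.mpr ⟨inferInstance, hfu, inferInstance⟩

end Groth.Agent.Lib.Helper26.GrpLocD
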