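import Mathlib
import Groth.Agent.Lib.Helper26.GrpLocB
import Groth.Agent.Lib.Helper26.GrpLocD
import Groth.Agent.Lib.Helper18.GrpShear

set_option autoImplicit false
set_option backward.isDefEq.respectTransparency.types false
universe u v
open AlgebraicGeometry CategoryTheory CategoryTheory.Limits MonoidalCategory
  CartesianMonoidalCategory MonObj GrpObj
open Groth.Agent.Lib.Helper26 Groth.Agent.Lib.Helper20

namespace Groth.Agent.Lib.Helper26.GrpLocE

/-- general principle: a base-change invariant pointwise invariant of a homomorphism of group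
schemes is computed on any kernel -/
theorem hom_key {α : Type v} (F : ∀ {X Y : Scheme.{u}} (_ : X ⟶ Y), X → α)
    (T : MorphismProperty Scheme.{u}) [T.IsStableUnderBaseChange]
    (hF : ∀ {X' X S' S : Scheme.{u}} {g' : X' ⟶ X} {f' : X' ⟶ S'} {f : X ⟶ S} {g : S' ⟶ S},
      IsPullback g' f' f g → T f → ∀ x' : X', F f' x' = F f (g' x'))
    {S : Scheme.{u}} {N G H : Over S} [GrpObj G] [GrpObj H]
    (f : G ⟶ H) [IsMonHom f] (hf : T f.left) (i : N ⟶ G) (hN : AlgGrp.IsKernel i f)
    (z : G.left) : ∃ n : N.left, F f.left z = F N.hom n := by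
  have hTN : T N.hom :=
    Groth.Agent.Lib.Helper8.Shear.kernel_of (P := T) f i hN hf
  have h1 : η[G] ≫ f = toUnit (𝟙_ (Over S)) ≫ η[H] := by
    rw [IsMonHom.one_hom, toUnit_unique (toUnit (𝟙_ (Over S))) (𝟙 _), Category.id_comp]
  let eN : 𝟙_ (Over S) ⟶ N := hN.lift η[G] (toUnit _) h1
  have heN : eN ≫ i = η[G] := hN.lift_fst _ _ _
  let m : N ⊗ G ⟶ G := (fst N G ≫ i) * snd N G
  have sq1 : IsPullback m.left (snd N G).left f.left f.left :=
    (Groth.Agent.Lib.Helper8.Shear.isPullback_left
      (Groth.Agent.Lib.Helper8.Shear.isPullback_shear f i hN)).flip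
  have sq2 : IsPullback (fst N G).left (snd N G).left N.hom G.hom :=
    (Groth.Agent.Lib.Helper8.Shear.isPullback_snd N G).flip
  let σ : G ⟶ N ⊗ G := lift (toUnit G ≫ eN) (𝟙 G)
  have hσm : σ ≫ m = 𝟙 G := by
    change lift (toUnit G ≫ eN) (𝟙 G) ≫ ((fst N G ≫ i) * snd N G) = 𝟙 G
    rw [MonObj.comp_mul, ← Category.assoc, lift_fst, lift_snd, Category.assoc, heN]
    change (toUnit G ≫ η[G]) * 𝟙 G = 𝟙 G
    rw [← Hom.one_def, _root_.one_mul]
  have e1 := hF sq1 hf (σ.left z)
  have e2 := hF sq2 hTN (σ.left z)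
  have e3 : m.left (σ.left z) = z := by
    have := congrArg (fun φ => φ.left z) hσm
    simpa using this
  rw [e3] at e1
  exact ⟨_, e1.symm.trans e2⟩

/-- the invariant on the kernel is a special case of the invariant of the hom -/
theorem kernel_key {α : Type v} (F : ∀ {X Y : Scheme.{u}} (_ : X ⟶ Y), X → α)
    (T : MorphismProperty Scheme.{u})
    (hF : ∀ {X' X S' S : Scheme.{u}} {g' : X' ⟶ X} {f' : X' ⟶ S'} {f : X ⟶ S} {g : S' ⟶ S},
      IsPullback g' f' f g → T f → ∀ x' : X', F f' x' = F f (g' x'))
    {S : Scheme.{u}} {N G H : Over S} [GrpObj H]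
    (f : G ⟶ H) (hf : T f.left) (i : N ⟶ G) (hN : AlgGrp.IsKernel i f)
    (n : N.left) : F N.hom n = F f.left (i.left n) :=
  hF (Groth.Agent.Lib.Helper8.Shear.isPullback_unit hN) hf n

/-- base change invariance of the local fibre dimension, as an equality of functions -/
theorem fibreDimAt_bc {X' X S' S : Scheme.{u}} {g' : X' ⟶ X} {f' : X' ⟶ S'} {f : X ⟶ S}
    {g : S' ⟶ S} (hsq : IsPullback g' f' f g) (_ : LocallyOfFiniteType f) (x' : X') :
    FlatMor.fibreDimAt f' x' = FlatMor.fibreDimAt f (g' x') :=
  Groth.Agent.Lib.Helper21.BaseChg.fibreDimAt_eq_of_isPullback hsq x'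

theorem main_5319 (S : Scheme.{u}) (G H : Over S) [GrpObj G] [GrpObj H] (u : G ⟶ H) [IsMonHom u]
    [LocallyOfFiniteType u.left] (K : Over S) (i : K ⟶ G) (hK : AlgGrp.IsKernel i u) :
    (LocallyQuasiFinite u.left ↔
      ∀ s : S, LocallyQuasiFinite ((Over.pullback (S.fromSpecResidueField s)).map u).left) ∧
    (LocallyQuasiFinite u.left ↔ LocallyQuasiFinite K.hom) ∧
    (LocallyQuasiFinite u.left ↔ ∀ s : S, DiscreteTopology ↥(K.hom.base ⁻¹' {s})) := by
  haveI : LocallyOfFiniteType K.hom :=
    Groth.Agent.Lib.Helper8.Shear.kernel_of (P := @LocallyOfFiniteType) u i hK inferInstance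
  have p2 : LocallyQuasiFinite u.left ↔ LocallyQuasiFinite K.hom := by
    constructor
    · intro h
      exact Groth.Agent.Lib.Helper8.Shear.kernel_of (P := @LocallyQuasiFinite) u i hK h
    · intro h
      rw [Groth.Agent.Lib.Helper14.AS.locallyQuasiFinite_iff_fibreDimAt_eq_zero]
      intro z
      obtain ⟨n, hn⟩ := hom_key (fun {X Y} (f : X ⟶ Y) (x : X) => FlatMor.fibreDimAt f x)
        @LocallyOfFiniteType (fun hsq hf x' => fibreDimAt_bc hsq hf x') u inferInstance i hK z
      rw [hn]
      exact (Groth.Agent.Lib.Helper14.AS.locallyQuasiFinite_iff_fibreDimAt_eq_zero K.hom).1 h n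
  refine ⟨?_, p2, ?_⟩
  · constructor
    · intro h s
      obtain ⟨i1, i2, i3, hsq⟩ := GrpFlatB.exists_fibre_hom G H u s
      exact MorphismProperty.of_isPullback (P := @LocallyQuasiFinite) hsq h
    · intro h
      rw [Groth.Agent.Lib.Helper14.AS.locallyQuasiFinite_iff_fibreDimAt_eq_zero]
      intro x
      obtain ⟨i1, i2, i3, hsq⟩ := GrpFlatB.exists_fibre_hom G H u (G.hom x)
      haveI : LocallyOfFiniteType
          ((Over.pullback (S.fromSpecResidueField (G.hom x))).map u).left :=
        MorphismProperty.of_isPullback (P := @LocallyOfFiniteType) hsq inferInstance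
      have hx : x ∈ Set.range (G.hom.fiberι (G.hom x)) := by
        rw [Scheme.Hom.range_fiberι]
        rfl
      obtain ⟨x', hx'⟩ := hx
      have hbc := Groth.Agent.Lib.Helper21.BaseChg.fibreDimAt_eq_of_isPullback hsq x'
      rw [hx'] at hbc
      rw [← hbc]
      exact (Groth.Agent.Lib.Helper14.AS.locallyQuasiFinite_iff_fibreDimAt_eq_zero _).1
        (h (G.hom x)) x'
  · rw [p2, locallyQuasiFinite_iff_isDiscrete_preimage_singleton]
    refine forall_congr' fun s => ?_
    rw [isDiscrete_iff_discreteTopology]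

/-- the unit section of a group scheme is an open immersion iff the group is formally unramified
(the direction `⇐` needs finite type) -/
theorem isOpenImmersion_unit_of_fu (S : Scheme.{u}) (G : Over S) [GrpObj G]
    [LocallyOfFiniteType G.hom] [FormallyUnramified G.hom] : IsOpenImmersion η[G].left := by
  have hsec : η[G].left ≫ G.hom = 𝟙 _ := Over.w η[G]
  have h1 : IsOpenImmersion (η[G].left ≫ G.hom) := by
    rw [hsec]
    infer_instance
  have hd : IsOpenImmersion (pullback.diagonal G.hom) := inferInstance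
  haveI : MorphismProperty.HasOfPostcompProperty @IsOpenImmersion
      (MorphismProperty.diagonal @IsOpenImmersion) := by
    rw [MorphismProperty.hasOfPostcompProperty_iff_le_diagonal]
  exact MorphismProperty.of_postcomp (W := @IsOpenImmersion)
    (W' := MorphismProperty.diagonal @IsOpenImmersion) η[G].left G.hom hd h1

theorem fu_of_isOpenImmersion_unit (S : Scheme.{u}) (G : Over S) [GrpObj G]
    [IsOpenImmersion η[G].left] : FormallyUnramified G.hom := by
  have hsq : IsPullback (lift (𝟙 G) (𝟙 G)).left (toUnit G).left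
      (lift (fst G G ≫ ι[G]) (snd G G) ≫ μ[G]).left η[G].left :=
    (Groth.Agent.Lib.Helper18.GrpShear.isPullback_diag G).map (Over.forget S)
  have hdiag : (lift (𝟙 G) (𝟙 G)).left = Limits.pullback.diagonal G.hom := by
    apply Limits.pullback.hom_ext
    · rw [Over.lift_left, Limits.pullback.lift_fst, Limits.pullback.diagonal_fst]
      rfl
    · rw [Over.lift_left, Limits.pullback.lift_snd, Limits.pullback.diagonal_snd]
      rfl
  haveI : IsOpenImmersion (pullback.diagonal G.hom) := by
    rw [← hdiag]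
    exact MorphismProperty.of_isPullback (P := @IsOpenImmersion) hsq.flip inferInstance
  infer_instance

theorem main_5320 (S : Scheme.{u}) (G H : Over S) [GrpObj G] [GrpObj H] (u : G ⟶ H) [IsMonHom u]
    [LocallyOfFinitePresentation u.left] (K : Over S) [GrpObj K] (i : K ⟶ G)
    (hK : AlgGrp.IsKernel i u) :
    (FormallyUnramified u.left ↔
      ∀ s : S, FormallyUnramified ((Over.pullback (S.fromSpecResidueField s)).map u).left) ∧
    (FormallyUnramified u.left ↔ FormallyUnramified K.hom) ∧
    (FormallyUnramified u.left ↔ IsOpenImmersion η[K].left) := by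
  haveI : LocallyOfFiniteType K.hom :=
    Groth.Agent.Lib.Helper8.Shear.kernel_of (P := @LocallyOfFiniteType) u i hK inferInstance
  have p2 : FormallyUnramified u.left ↔ FormallyUnramified K.hom := by
    constructor
    · intro h
      exact Groth.Agent.Lib.Helper8.Shear.kernel_of (P := @FormallyUnramified) u i hK h
    · intro h
      rw [GrpLocC.fu_iff_forall_holdsNear]
      intro z
      obtain ⟨n, hn⟩ := hom_key
        (fun {X Y} (f : X ⟶ Y) (x : X) => HoldsNear @FormallyUnramified f x)
        @LocallyOfFiniteType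
        (fun hsq hf x' => GrpLocC.holdsNear_fu_of_isPullback hsq hf x') u inferInstance i hK z
      rw [hn]
      exact (GrpLocC.fu_iff_forall_holdsNear K.hom).1 h n
  refine ⟨?_, p2, ?_⟩
  · constructor
    · intro h s
      obtain ⟨i1, i2, i3, hsq⟩ := GrpFlatB.exists_fibre_hom G H u s
      exact MorphismProperty.of_isPullback (P := @FormallyUnramified) hsq h
    · intro h
      rw [GrpLocC.fu_iff_forall_holdsNear]
      intro x
      rw [holdsNear_iff_opens]
      exact (GrpLocD.key_fu S G H u x).2 (h (G.hom x))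
  · rw [p2]
    constructor
    · intro h
      exact isOpenImmersion_unit_of_fu S K
    · intro h
      exact fu_of_isOpenImmersion_unit S K

end Groth.Agent.Lib.Helper26.GrpLocE
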