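import Mathlib
import Groth.Agent.Lib.Helper26.GrpLocD
import Groth.Agent.S3694

set_option autoImplicit false
set_option backward.isDefEq.respectTransparency.types false
universe u v
open AlgebraicGeometry CategoryTheory CategoryTheory.Limits MonoidalCategory
  CartesianMonoidalCategory MonObj GrpObj
open Groth.Agent.Lib.Helper26 Groth.Agent.Lib.Helper20

namespace Groth.Agent.Lib.Helper26.GrpLocF

theorem main_5317 (S : Scheme.{u}) (G H : Over S) [GrpObj G] [GrpObj H]
    (u : G ⟶ H) [IsMonHom u] [UniversallyInjective u.left]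
    [Flat G.hom] [LocallyOfFinitePresentation G.hom] [LocallyOfFiniteType H.hom] :
    IsOpen {s : S | IsOpenImmersion ((Over.pullback (S.fromSpecResidueField s)).map u).left} ∧
    ∀ W : S.Opens, (W : Set S) ⊆
      {s : S | IsOpenImmersion ((Over.pullback (S.fromSpecResidueField s)).map u).left} →
        IsOpenImmersion ((G.hom ⁻¹ᵁ W).ι ≫ u.left) := by
  have hw : u.left ≫ H.hom = G.hom := Over.w u
  haveI : LocallyOfFinitePresentation u.left :=
    Groth.Agent.Lib.Helper14.AS.locallyOfFinitePresentation_of_comp u.left H.hom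
      (by rw [hw]; infer_instance) inferInstance
  have hiff : ∀ s : S,
      IsOpenImmersion ((Over.pullback (S.fromSpecResidueField s)).map u).left ↔
        Etale ((Over.pullback (S.fromSpecResidueField s)).map u).left := by
    intro s
    constructor
    · intro h
      infer_instance
    · intro h
      obtain ⟨i1, i2, i3, hsq⟩ := GrpFlatB.exists_fibre_hom G H u s
      haveI : UniversallyInjective ((Over.pullback (S.fromSpecResidueField s)).map u).left :=
        MorphismProperty.of_isPullback (P := @UniversallyInjective) hsq inferInstance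
      exact Groth.Agent.S3694.result _
  have hset : {s : S | IsOpenImmersion ((Over.pullback (S.fromSpecResidueField s)).map u).left} =
      {s : S | Etale ((Over.pullback (S.fromSpecResidueField s)).map u).left} := by
    ext s
    exact hiff s
  rw [hset]
  obtain ⟨h1, h2⟩ := GrpLocD.main_5314 S G H u
  refine ⟨h1, ?_⟩
  intro W hW
  have hpt : ∀ x ∈ G.hom ⁻¹ᵁ W, ∃ W' : G.left.Opens, x ∈ W' ∧ Etale (W'.ι ≫ u.left) := by
    intro x hx
    have : x ∈ G.hom.base ⁻¹'
        {s : S | Etale ((Over.pullback (S.fromSpecResidueField s)).map u).left} := hW hx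
    rw [← h2] at this
    exact this
  haveI : Etale ((G.hom ⁻¹ᵁ W).ι ≫ u.left) := by
    apply Groth.Agent.Lib.Helper13.etale_ι_comp_of_forall
    · intro x hx
      obtain ⟨W', hxW', hW'⟩ := hpt x hx
      exact Groth.Agent.Lib.Helper13.le_smoothLocus_of_smooth_ι_comp u.left W' hxW'
    · intro x hx
      obtain ⟨W', hxW', hW'⟩ := hpt x hx
      exact Groth.Agent.Lib.Helper13.formallyUnramified_stalkMap_of_ι_comp u.left W' hxW'
  haveI : UniversallyInjective ((G.hom ⁻¹ᵁ W).ι ≫ u.left) :=
    MorphismProperty.comp_mem _ _ _ inferInstance inferInstance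
  exact Groth.Agent.S3694.result _

end Groth.Agent.Lib.Helper26.GrpLocF
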