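import Mathlib

set_option autoImplicit false
set_option backward.isDefEq.respectTransparency.types false
set_option maxHeartbeats 1000000
set_option synthInstance.maxHeartbeats 200000

universe u

namespace Groth.Agent.Lib.Helper26.RigA

open IsLocalRing

variable {A : Type u} [CommRing A] [IsLocalRing A]

/-- a nonzero `A`-linear functional to the residue field vanishing on a given proper submodule. -/
theorem exists_functional (W : Type u) [AddCommGroup W] [Module A W] [Module.Finite A W]
    (N : Submodule A W) (hN : N ≠ ⊤) :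
    ∃ ψ : W →ₗ[A] ResidueField A, Function.Surjective ψ ∧ ∀ x ∈ N, ψ x = 0 := by
  obtain ⟨M', hM', hle⟩ := (eq_top_or_exists_le_coatom N).resolve_left hN
  haveI : IsSimpleModule A (W ⧸ M') := isSimpleModule_iff_isCoatom.mpr hM'
  obtain ⟨I, hI, ⟨e⟩⟩ := isSimpleModule_iff_quot_maximal.mp (inferInstance : IsSimpleModule A (W ⧸ M'))
  have hIm : I = maximalIdeal A := IsLocalRing.eq_maximalIdeal hI
  subst hIm
  refine ⟨(e.toLinearMap).comp M'.mkQ, e.surjective.comp M'.mkQ_surjective, fun x hx => ?_⟩
  have : M'.mkQ x = 0 := (Submodule.Quotient.mk_eq_zero _).mpr (hle hx)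
  change e (M'.mkQ x) = 0
  rw [this, map_zero]

theorem algLocal (Γ : Type u) [CommRing Γ] [Algebra A Γ]
    (hinj : Function.Injective (algebraMap A Γ))
    (W : Type u) [AddCommGroup W] [Module A W] [Module.Finite A W]
    (Ψ : Γ ≃ₗ[A] (W →ₗ[A] A))
    (V : Type u) [AddCommGroup V] [Module A V]
    (v₀ : V) (hv₀ : v₀ ≠ 0) (hV : ∀ v : V, ∃ a : A, v = a • v₀)
    (Θ : (W →ₗ[A] ResidueField A) ≃ₗ[A] V) :
    Function.Surjective (algebraMap A Γ) := by
  -- the generator of the dual
  set φ₀ : W →ₗ[A] ResidueField A := Θ.symm v₀ with hφ₀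
  have hφ₀ne : φ₀ ≠ 0 := by
    intro h
    apply hv₀
    have : Θ φ₀ = v₀ := Θ.apply_symm_apply v₀
    rw [← this, h, map_zero]
  have hgen : ∀ φ : W →ₗ[A] ResidueField A, ∃ a : A, φ = a • φ₀ := by
    intro φ
    obtain ⟨a, ha⟩ := hV (Θ φ)
    refine ⟨a, ?_⟩
    apply Θ.injective
    rw [map_smul, hφ₀, Θ.apply_symm_apply, ha]
  obtain ⟨w, hw⟩ : ∃ w : W, φ₀ w ≠ 0 := by
    by_contra h
    push_neg at h
    exact hφ₀ne (LinearMap.ext h)
  -- `W` is generated by `w`
  have hspan : Submodule.span A {w} = ⊤ := by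
    by_contra hne
    obtain ⟨ψ, hψs, hψ0⟩ := exists_functional W _ hne
    obtain ⟨a, ha⟩ := hgen ψ
    have h1 : ψ w = 0 := hψ0 w (Submodule.mem_span_singleton_self w)
    rw [ha, LinearMap.smul_apply, Algebra.smul_def] at h1
    rcases mul_eq_zero.mp h1 with h2 | h2
    · have hψz : ψ = 0 := by
        rw [ha]
        ext x
        rw [LinearMap.smul_apply, Algebra.smul_def, h2, zero_mul, LinearMap.zero_apply]
      obtain ⟨x, hx⟩ := hψs 1
      rw [hψz, LinearMap.zero_apply] at hx
      exact zero_ne_one hx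
    · exact hw h2
  have hall : ∀ x : W, ∃ c : A, x = c • w := by
    intro x
    have : x ∈ Submodule.span A {w} := by rw [hspan]; trivial
    obtain ⟨c, hc⟩ := Submodule.mem_span_singleton.mp this
    exact ⟨c, hc.symm⟩
  -- the annihilator of `w` is zero
  set b : W →ₗ[A] A := Ψ 1 with hb
  have hann : ∀ a : A, a • w = 0 → a = 0 := by
    intro a ha
    have h1 : a • b = 0 := by
      ext x
      obtain ⟨c, rfl⟩ := hall x
      rw [LinearMap.smul_apply, LinearMap.zero_apply, map_smul, smul_smul, mul_comm, ← smul_smul,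
        ← map_smul, ha, map_zero, smul_zero]
    have h2 : Ψ (a • (1 : Γ)) = 0 := by rw [map_smul, ← hb, h1]
    have h3 : a • (1 : Γ) = 0 := by
      have := Ψ.injective (h2.trans (map_zero Ψ).symm)
      exact this
    rw [Algebra.smul_def, mul_one] at h3
    exact hinj (h3.trans (map_zero _).symm)
  -- evaluation at `w`
  let ψ : Γ →ₗ[A] A :=
    { toFun := fun s => Ψ s w
      map_add' := fun s s' => by rw [map_add, LinearMap.add_apply]
      map_smul' := fun a s => by rw [map_smul, LinearMap.smul_apply]; rfl }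
  have hψinj : Function.Injective ψ := by
    rw [← LinearMap.ker_eq_bot, Submodule.eq_bot_iff]
    intro s hs
    have hs' : Ψ s w = 0 := hs
    have : Ψ s = 0 := by
      ext x
      obtain ⟨c, rfl⟩ := hall x
      rw [map_smul, hs', smul_zero, LinearMap.zero_apply]
    exact Ψ.injective (this.trans (map_zero Ψ).symm)
  have hψsurj : Function.Surjective ψ := by
    intro c
    have hbij : Function.Bijective (LinearMap.toSpanSingleton A W w) := by
      constructor
      · rw [← LinearMap.ker_eq_bot, Submodule.eq_bot_iff]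
        intro a ha
        exact hann a ha
      · intro x
        obtain ⟨c, rfl⟩ := hall x
        exact ⟨c, rfl⟩
    let κ : A ≃ₗ[A] W := LinearEquiv.ofBijective _ hbij
    have hκ : κ 1 = w := by
      change (1 : A) • w = w
      rw [one_smul]
    refine ⟨Ψ.symm (c • κ.symm.toLinearMap), ?_⟩
    change Ψ (Ψ.symm (c • κ.symm.toLinearMap)) w = c
    rw [Ψ.apply_symm_apply, LinearMap.smul_apply, ← hκ]
    change c • κ.symm (κ 1) = c
    rw [κ.symm_apply_apply, smul_eq_mul, mul_one]
  -- the ring argument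
  obtain ⟨u, hu⟩ := hψsurj 1
  set β : A := ψ 1 with hβ
  have h1 : β • u = 1 := by
    apply hψinj
    rw [map_smul, hu, smul_eq_mul, mul_one]
  have h2 : ∀ s : Γ, s = ψ s • u := by
    intro s
    apply hψinj
    rw [map_smul, hu, smul_eq_mul, mul_one]
  have h3 : u = algebraMap A Γ (ψ (u * u)) := by
    have e1 : β • (u * u) = u := by
      rw [← smul_mul_assoc, h1, one_mul]
    have e2 : β • (u * u) = β • (ψ (u * u) • u) := by rw [← h2]
    have e3 : β • (ψ (u * u) • u) = algebraMap A Γ (ψ (u * u)) := by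
      rw [smul_comm, h1, Algebra.smul_def, mul_one]
    exact e1.symm.trans (e2.trans e3)
  intro s
  refine ⟨ψ s * ψ (u * u), ?_⟩
  rw [map_mul, ← h3, ← Algebra.smul_def, ← h2]

end Groth.Agent.Lib.Helper26.RigA
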