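import Mathlib
import Groth.Agent.Lib.Helper26.RigA

set_option autoImplicit false
set_option backward.isDefEq.respectTransparency.types false
set_option maxHeartbeats 1000000
set_option synthInstance.maxHeartbeats 200000

universe u

namespace Groth.Agent.Lib.Helper26.ProjW

open IsLocalRing

section LOC
variable {R : Type u} [CommRing R] [IsLocalRing R]

theorem nonempty_equiv_of_local (M : Type u) [AddCommGroup M] [Module R M] [Module.Finite R M]
    (u' : M →ₗ[R] R) (hu' : ∀ r : R, r • u' = 0 → r = 0)
    (hfun : ∀ φ ψ : M →ₗ[R] ResidueField R, ψ ≠ 0 → ∃ r : R, φ = r • ψ) :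
    Nonempty (R ≃ₗ[R] M) := by
  have hne : (⊥ : Submodule R M) ≠ ⊤ := by
    intro h
    have h0 : u' = 0 := by
      ext x
      have hx : x ∈ (⊥ : Submodule R M) := by rw [h]; trivial
      rw [(Submodule.mem_bot R).mp hx, map_zero, LinearMap.zero_apply]
    have := hu' 1 (by rw [h0, smul_zero])
    exact one_ne_zero this
  obtain ⟨φ₀, hφ₀s, -⟩ := Groth.Agent.Lib.Helper26.RigA.exists_functional M ⊥ hne
  have hsurj_ne : ∀ ψ : M →ₗ[R] ResidueField R, Function.Surjective ψ → ψ ≠ 0 := by
    intro ψ hs h
    obtain ⟨x, hx⟩ := hs 1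
    rw [h, LinearMap.zero_apply] at hx
    exact zero_ne_one hx
  have hφ₀ne : φ₀ ≠ 0 := hsurj_ne φ₀ hφ₀s
  obtain ⟨w, hw⟩ : ∃ w : M, φ₀ w ≠ 0 := by
    by_contra h
    push_neg at h
    exact hφ₀ne (LinearMap.ext h)
  have hspan : Submodule.span R {w} = ⊤ := by
    by_contra hne2
    obtain ⟨ψ, hψs, hψ0⟩ := Groth.Agent.Lib.Helper26.RigA.exists_functional M _ hne2
    obtain ⟨a, ha⟩ := hfun φ₀ ψ (hsurj_ne ψ hψs)
    have h1 : ψ w = 0 := hψ0 w (Submodule.mem_span_singleton_self w)
    apply hw
    rw [ha, LinearMap.smul_apply, h1, smul_zero]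
  have hall : ∀ x : M, ∃ c : R, x = c • w := by
    intro x
    have : x ∈ Submodule.span R {w} := by rw [hspan]; trivial
    obtain ⟨c, hc⟩ := Submodule.mem_span_singleton.mp this
    exact ⟨c, hc.symm⟩
  have hann : ∀ a : R, a • w = 0 → a = 0 := by
    intro a ha
    apply hu'
    ext x
    obtain ⟨c, rfl⟩ := hall x
    rw [LinearMap.smul_apply, LinearMap.zero_apply, map_smul, smul_smul, mul_comm, ← smul_smul,
      ← map_smul, ha, map_zero, smul_zero]
  have hbij : Function.Bijective (LinearMap.toSpanSingleton R M w) := by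
    constructor
    · rw [← LinearMap.ker_eq_bot, Submodule.eq_bot_iff]
      intro a ha
      exact hann a ha
    · intro x
      obtain ⟨c, rfl⟩ := hall x
      exact ⟨c, rfl⟩
  exact ⟨LinearEquiv.ofBijective _ hbij⟩

end LOC

theorem projective_of_fibres (A : Type u) [CommRing A] [IsNoetherianRing A]
    (W : Type u) [AddCommGroup W] [Module A W] [Module.Finite A W]
    (u : W →ₗ[A] A) (hu : ∀ a : A, a • u = 0 → a = 0)
    (hfib : ∀ (I : Ideal A) [I.IsPrime], ∀ φ ψ : W →ₗ[A] I.ResidueField, ψ ≠ 0 →
        ∃ a s : A, s ∉ I ∧ s • φ = a • ψ) :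
    Module.Projective A W := by
  classical
  haveI : Module.FinitePresentation A W := Module.finitePresentation_of_finite A W
  apply Module.projective_of_localization_maximal
  intro I hI
  haveI : I.IsPrime := hI.isPrime
  let S := I.primeCompl
  let R := Localization.AtPrime I
  let M := LocalizedModule S W
  let mk : W →ₗ[A] M := LocalizedModule.mkLinearMap S W
  let u' : M →ₗ[R] R := IsLocalizedModule.mapExtendScalars S mk (Algebra.linearMap A R) R u
  have hu'mk : ∀ w : W, u' (mk w) = algebraMap A R (u w) := fun w => by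
    change IsLocalizedModule.map S mk (Algebra.linearMap A R) u (mk w) = _
    rw [IsLocalizedModule.map_apply]
    rfl
  have hu' : ∀ r : R, r • u' = 0 → r = 0 := by
    intro r hr
    obtain ⟨a, s, rfl⟩ := IsLocalization.exists_mk'_eq S r
    have h1 : ∀ w : W, algebraMap A R (a * u w) = 0 := by
      intro w
      have h := LinearMap.congr_fun hr (mk w)
      rw [LinearMap.smul_apply, LinearMap.zero_apply, hu'mk, smul_eq_mul] at h
      have h2 : algebraMap A R (s : A) * (IsLocalization.mk' R a s * algebraMap A R (u w)) = 0 := by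
        rw [h, mul_zero]
      rw [← mul_assoc, IsLocalization.mk'_spec'] at h2
      rw [map_mul]
      exact h2
    obtain ⟨G, hG⟩ := (Module.Finite.fg_top : (⊤ : Submodule A W).FG)
    have h2 : ∀ w : W, ∃ t : S, (t : A) * (a * u w) = 0 := by
      intro w
      exact (IsLocalization.map_eq_zero_iff S R _).mp (h1 w)
    choose t ht using h2
    let T : S := ∏ w ∈ G, t w
    have h3 : ∀ w ∈ G, (T : A) * (a * u w) = 0 := by
      intro w hw
      obtain ⟨c, hc⟩ := Finset.dvd_prod_of_mem t hw
      have hc' : (T : A) = (t w : A) * (c : A) := by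
        change ((∏ w ∈ G, t w : S) : A) = _
        rw [hc]
        rfl
      rw [hc', mul_comm (t w : A) (c : A), mul_assoc, ht, mul_zero]
    have h4 : ((T : A) * a) • u = 0 := by
      apply LinearMap.ext_on hG
      intro w hw
      rw [LinearMap.smul_apply, LinearMap.zero_apply, smul_eq_mul, mul_assoc]
      exact h3 w hw
    have h5 := hu _ h4
    rw [IsLocalization.mk'_eq_zero_iff]
    exact ⟨T, h5⟩
  have hcancel : ∀ (s : A), s ∉ I → ∀ z z' : I.ResidueField, s • z = s • z' → z = z' := by
    intro s hs z z' h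
    rw [Algebra.smul_def, Algebra.smul_def] at h
    have hne : algebraMap A I.ResidueField s ≠ 0 := by
      intro h0
      exact hs ((Ideal.algebraMap_residueField_eq_zero).mp h0)
    exact mul_left_cancel₀ hne h
  have hext : ∀ (α β : M →ₗ[R] ResidueField R), (∀ w, α (mk w) = β (mk w)) → α = β := by
    intro α β h
    ext y
    obtain ⟨⟨w, s⟩, hws⟩ := IsLocalizedModule.surj S mk y
    have h1 : α (s • y) = β (s • y) := by
      rw [hws]
      exact h w
    have h2 : ∀ (δ : M →ₗ[R] ResidueField R), δ (s • y) = (s : A) • δ y := by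
      intro δ
      have : s • y = (algebraMap A R (s : A)) • y := by
        rw [algebraMap_smul]
        rfl
      rw [this, map_smul, algebraMap_smul]
    rw [h2, h2] at h1
    exact hcancel (s : A) s.2 _ _ h1
  have hfun : ∀ φ' ψ' : M →ₗ[R] ResidueField R, ψ' ≠ 0 → ∃ r : R, φ' = r • ψ' := by
    intro φ' ψ' hψ'
    let φ : W →ₗ[A] I.ResidueField := (φ'.restrictScalars A).comp mk
    let ψ : W →ₗ[A] I.ResidueField := (ψ'.restrictScalars A).comp mk
    have hψ : ψ ≠ 0 := by
      intro h0
      apply hψ'
      apply hext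
      intro w
      have := LinearMap.congr_fun h0 w
      exact this
    obtain ⟨a, s, hs, h⟩ := hfib I φ ψ hψ
    refine ⟨IsLocalization.mk' R a (⟨s, hs⟩ : S), ?_⟩
    apply hext
    intro w
    have hw : s • φ' (mk w) = a • ψ' (mk w) := LinearMap.congr_fun h w
    apply hcancel s hs
    rw [hw, LinearMap.smul_apply, ← algebraMap_smul R s, smul_smul]
    have : algebraMap A R s * IsLocalization.mk' R a (⟨s, hs⟩ : S) = algebraMap A R a :=
      IsLocalization.mk'_spec' R a (⟨s, hs⟩ : S)
    rw [this, algebraMap_smul]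
  obtain ⟨e⟩ := nonempty_equiv_of_local M u' hu' hfun
  exact Module.Projective.of_equiv e

end Groth.Agent.Lib.Helper26.ProjW
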