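import Groth.Agent.Lib.Helper26.P1L
import Groth.Agent.Lib.Helper26.ProjW
import Groth.Agent.Lib.Helper22.EGA7.FR5
import Groth.Agent.Lib.Helper22.EGA7.Glob5
import Groth.Agent.Lib.Helper9.FlatCxBC
import Groth.Agent.Lib.Helper20.RankOneInv

set_option autoImplicit false
set_option backward.isDefEq.respectTransparency.types false
set_option maxHeartbeats 1000000
set_option synthInstance.maxHeartbeats 200000
set_option linter.unusedSectionVars false
set_option linter.style.haveILetI false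
set_option linter.unusedVariables false

universe u
attribute [local instance] HasDerivedCategory.standard
open CategoryTheory CategoryTheory.Limits Opposite TopologicalSpace AlgebraicGeometry IsLocalRing
open Groth.Agent.Lib.Helper29.QCoh

namespace Groth.Agent.Lib.Helper26.H0A

open Groth.Agent.Lib.Helper22.EGA7

lemma preservesEpi_linearCoyoneda {A : Type u} [CommRing A] (W : ModuleCat.{u} A)
    [Module.Projective A W] :
    ((linearCoyoneda A (ModuleCat.{u} A)).obj (op W)).PreservesEpimorphisms := by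
  constructor
  intro M N f hf
  rw [ModuleCat.epi_iff_surjective] at hf ⊢
  intro ψ
  obtain ⟨χ, hχ⟩ := Module.projective_lifting_property f.hom (show W ⟶ N from ψ).hom hf
  refine ⟨(ModuleCat.ofHom χ : W ⟶ M), ?_⟩
  apply ModuleCat.hom_ext
  exact hχ

section main

variable (A : Type u) [CommRing A] [IsNoetherianRing A]
  (X : Scheme.{u}) [X.Over (Spec (CommRingCat.of A))] [CompactSpace X] [X.IsSeparated]
  (Q : ChainComplex (ModuleCat.{u} A) ℤ)
  (hQ' : ∀ i, Module.Finite A (Q.X i) ∧ Module.Flat A (Q.X i))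
  (hpos1 : ∀ N : ModuleCat.{u} A, IsZero ((CohIII.TFun Q 1).obj N))
  (F : X.Modules) [F.IsQuasicoherent] (θ : F ≅ unitM X)
  (e0 : CohIII.TFun Q 0 ⋙ forget₂ (ModuleCat.{u} A) AddCommGrpCat.{u} ≅
    CohIII.tensorAFunctor A F ⋙ CohIII.HAb X 0)
  (hinj : Function.Injective ((Scheme.ΓSpecIso (CommRingCat.of A)).inv ≫
      (X ↘ Spec (CommRingCat.of A)).appTop).hom)
  (hdr : ∀ x : PrimeSpectrum A, CohIII.dRank Q 0 x = 1)

include hQ' hpos1 e0 hinj hdr θ in
theorem preservesMonoEpi : (CohIII.TFun Q 0).PreservesMonomorphisms ∧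
    (CohIII.TFun Q 0).PreservesEpimorphisms := by
  have hepi : (CohIII.TFun Q 1).PreservesEpimorphisms :=
    ⟨fun {M N} f _ => ⟨fun g h _ => (hpos1 N).eq_of_src _ _⟩⟩
  have hmono : (CohIII.TFun Q 0).PreservesMonomorphisms :=
    (Groth.Agent.S2406.result Q (fun i => (hQ' i).2) 1 0 (by norm_num)).1 hepi
  obtain ⟨h1, h2⟩ := Groth.Agent.S2376.result Q hQ' 0
  obtain ⟨W, ⟨i⟩⟩ := h1.1 hmono
  haveI : Module.Finite A W := h2 W ⟨i⟩
  letI algΓ : Algebra A ↑Γ(X, ⊤) :=
    ((Scheme.ΓSpecIso (CommRingCat.of A)).inv ≫ (X ↘ Spec (CommRingCat.of A)).appTop).hom.toAlgebra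
  -- A side
  let Ψ₀ : ↑((CohIII.globalSectionsA A).obj F) ≃ₗ[A] ↑((CohIII.globalSectionsA A).obj (unitM X)) :=
    ((CohIII.globalSectionsA A).mapIso θ).toLinearEquiv
  let Ψ₁ : ↑((CohIII.globalSectionsA A).obj (unitM X)) ≃ₗ[A] ↑Γ(X, ⊤) :=
    { toFun := fun s => gId A X (unitM X) s
      invFun := fun s => s
      left_inv := fun s => rfl
      right_inv := fun s => rfl
      map_add' := fun s t => rfl
      map_smul' := fun a s => by
        change gId A X (unitM X) (a • s) = _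
        rw [gId_smul, Coh.smulAb_app]
        have h1 : Coh.resTop X (op ⊤) (Coh.toGlobal (fX A X) a) = Coh.toGlobal (fX A X) a := by
          change (X.ringCatSheaf.obj.map (𝟙 _)).hom _ = _
          rw [CategoryTheory.Functor.map_id]
          rfl
        rw [h1]
        rfl }
  let Ψ₂ : ↑((CohIII.globalSectionsA A).obj ((CohIII.tensorAFunctor A F).obj (ModuleCat.of A A)))
      ≃ₗ[A] ↑((CohIII.globalSectionsA A).obj F) :=
    ((CohIII.globalSectionsA A).mapIso (tAFUnitIso A X F)).toLinearEquiv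
  let Ψ₃ := gEquiv A X F Q e0 (ModuleCat.of A A)
  let Ψ₄ : ↑((CohIII.TFun Q 0).obj (ModuleCat.of A A)) ≃ₗ[A] (W ⟶ ModuleCat.of A A) :=
    (i.app (ModuleCat.of A A)).toLinearEquiv
  let Ψ₅ : (W ⟶ ModuleCat.of A A) ≃ₗ[A] (↑W →ₗ[A] A) := ModuleCat.homLinearEquiv
  let Ψ : ↑Γ(X, ⊤) ≃ₗ[A] (↑W →ₗ[A] A) :=
    Ψ₁.symm ≪≫ₗ Ψ₀.symm ≪≫ₗ Ψ₂.symm ≪≫ₗ Ψ₃.symm ≪≫ₗ Ψ₄ ≪≫ₗ Ψ₅
  let u : ↑W →ₗ[A] A := Ψ 1
  have hu : ∀ a : A, a • u = 0 → a = 0 := by
    intro a ha
    have h2 : Ψ (a • (1 : ↑Γ(X, ⊤))) = 0 := by rw [map_smul]; exact ha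
    have h3 : a • (1 : ↑Γ(X, ⊤)) = 0 := Ψ.injective (h2.trans (map_zero Ψ).symm)
    rw [Algebra.smul_def, mul_one] at h3
    exact hinj (h3.trans (map_zero _).symm)
  have hfib : ∀ (I : Ideal A) [I.IsPrime], ∀ φ ψ : ↑W →ₗ[A] I.ResidueField, ψ ≠ 0 →
      ∃ a s : A, s ∉ I ∧ s • φ = a • ψ := by
    intro I hI φ ψ hψ
    let K := I.ResidueField
    let HK := (CohIII.bcCx (algebraMap A K) Q).homology 0
    let V : ModuleCat.{u} A := (ModuleCat.restrictScalars (algebraMap A K)).obj HK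
    letI iV1 : AddCommGroup ↑V := ModuleCat.isAddCommGroup V
    letI iV2 : Module A ↑V := ModuleCat.isModule V
    let Θ₁ : ↑((CohIII.TFun Q 0).obj (BA A K)) ≃ₗ[A] ↑V := (θiso K Q 0).toLinearEquiv
    let Θ₂ : ↑((CohIII.TFun Q 0).obj (BA A K)) ≃ₗ[A] (W ⟶ BA A K) :=
      (i.app (BA A K)).toLinearEquiv
    let Θ₃ : (W ⟶ BA A K) ≃ₗ[A] (↑W →ₗ[A] ↑(BA A K)) := ModuleCat.homLinearEquiv
    let idK : ↑(BA A K) ≃ₗ[A] K :=
      { toFun := fun x => x
        invFun := fun x => x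
        left_inv := fun x => rfl
        right_inv := fun x => rfl
        map_add' := fun x y => rfl
        map_smul' := fun a x => by
          change ((algebraMap A K a) * (show K from x) : K) = a • (show K from x)
          rw [Algebra.smul_def] }
    let Θ₄ : (↑W →ₗ[A] ↑(BA A K)) ≃ₗ[A] (↑W →ₗ[A] K) := LinearEquiv.congrRight idK
    let Θ : (↑W →ₗ[A] K) ≃ₗ[A] ↑V := Θ₄.symm ≪≫ₗ Θ₃.symm ≪≫ₗ Θ₂.symm ≪≫ₗ Θ₁
    have hrank : Module.finrank K ↑HK = 1 := hdr ⟨I, hI⟩
    have hΘψ : (show ↑HK from Θ ψ) ≠ 0 := fun h => hψ (Θ.injective (h.trans (map_zero Θ).symm))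
    obtain ⟨c, hc⟩ := (finrank_eq_one_iff_of_nonzero' (show ↑HK from Θ ψ) hΘψ).mp hrank
      (show ↑HK from Θ φ)
    obtain ⟨r, rfl⟩ := IsLocalRing.residue_surjective c
    obtain ⟨a, s, rfl⟩ := IsLocalization.exists_mk'_eq I.primeCompl r
    refine ⟨a, (s : A), s.2, ?_⟩
    apply Θ.injective
    rw [map_smul, map_smul]
    change (algebraMap A K (s : A)) • (show ↑HK from Θ φ) =
      (algebraMap A K a) • (show ↑HK from Θ ψ)
    rw [← hc, smul_smul]
    congr 1
    change IsLocalRing.residue (Localization.AtPrime I) (algebraMap A _ (s : A)) *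
      IsLocalRing.residue _ (IsLocalization.mk' (Localization.AtPrime I) a s) =
      IsLocalRing.residue _ (algebraMap A _ a)
    rw [← map_mul, IsLocalization.mk'_spec']
  haveI : Module.Projective A ↑W :=
    Groth.Agent.Lib.Helper26.ProjW.projective_of_fibres A ↑W u hu hfib
  haveI := preservesEpi_linearCoyoneda W
  exact ⟨hmono, Functor.PreservesEpimorphisms.of_iso i.symm⟩

end main

section inv
variable (A : Type u) [CommRing A] [IsNoetherianRing A]
  (Q : ChainComplex (ModuleCat.{u} A) ℤ)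
  (hQ' : ∀ i, Module.Finite A (Q.X i) ∧ Module.Flat A (Q.X i))
  (hm : (CohIII.TFun Q 0).PreservesMonomorphisms) (he : (CohIII.TFun Q 0).PreservesEpimorphisms)
  (hdr : ∀ x : PrimeSpectrum A, CohIII.dRank Q 0 x = 1)
  (B : Type u) [CommRing B] [Algebra A B]

include hQ' hm he hdr in
theorem invertible_bc : Module.Invertible B ((CohIII.bcCx (algebraMap A B) Q).homology 0) := by
  have r1 : (ComplexShape.down ℤ).Rel (0 : ℤ) (0 - 1) := rel_down 0
  haveI : Module.Finite A (Q.X 0) := (hQ' _).1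
  have hfpT : Module.FinitePresentation A (CohIII.T Q 0 (ModuleCat.of A A)) := by
    haveI : Module.Finite A (Q.opcycles 0) := Groth.Agent.Lib.Helper28.FlatCx.finite_opcycles Q _
    haveI : IsNoetherian A (Q.opcycles 0) := inferInstance
    haveI hfinH : Module.Finite A (Q.homology 0) :=
      Module.Finite.of_injective (Q.homologyι 0).hom
        (Groth.Agent.Lib.Helper28.FlatCx.homologyι_injective Q _)
    haveI : Module.Finite A (CohIII.T Q 0 (ModuleCat.of A A)) :=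
      Module.Finite.equiv (Groth.Agent.Lib.Helper28.FlatCx.TAIso Q 0).symm.toLinearEquiv
    exact Module.finitePresentation_of_finite _ _
  obtain ⟨hfp, hfl, hrk⟩ := Groth.Agent.Lib.Helper9.FlatCxBC.dRank_eq_rankAtStalk_of_exact Q
    (fun i => (hQ' i).2) 0 (0 - 1) r1 he hm hfpT
  have hrk1 : ∀ x : PrimeSpectrum A, Module.rankAtStalk (R := A) (Q.homology 0) x = 1 := by
    intro x
    rw [← hrk]
    exact hdr x
  haveI hinv : Module.Invertible A (Q.homology 0) :=
    Groth.Agent.Lib.Helper20.RankOneInv.invertible_of_rankAtStalk_eq_one hrk1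
  haveI : Module.Flat A (Q.X (0 - 1)) := (hQ' _).2
  haveI : Module.Flat A (Q.opcycles (0 - 1)) :=
    Groth.Agent.Lib.Helper9.FlatCxBC.flat_opcycles_of_preservesEpi Q (fun i => (hQ' i).2) 0 (0 - 1)
      r1 he
  obtain ⟨E⟩ := Groth.Agent.Lib.Helper9.FlatCxBC.nonempty_homologyBcEquiv B Q 0 (0 - 1) r1
  exact Module.Invertible.congr E.symm

end inv

end Groth.Agent.Lib.Helper26.H0A
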