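import Groth.Agent.Lib.Helper26.H0A
import Groth.Agent.Lib.Helper22.EGA7.PushUnit
import Groth.Agent.Lib.Helper22.EGA7.Seesaw
import Groth.Agent.Lib.Helper22.EGA7.InvLift

set_option autoImplicit false
set_option backward.isDefEq.respectTransparency.types false
set_option maxHeartbeats 1000000
set_option synthInstance.maxHeartbeats 200000
set_option linter.unusedSectionVars false
set_option linter.style.haveILetI false
set_option linter.unusedVariables false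

universe u
attribute [local instance] HasDerivedCategory.standard
open CategoryTheory CategoryTheory.Limits Opposite TopologicalSpace AlgebraicGeometry IsLocalRing
open Groth.Agent.Lib.Helper29.QCoh

namespace Groth.Agent.Lib.Helper26.H0B

open Groth.Agent.Lib.Helper22.EGA7

section PU

variable (B : Type u) [CommRing B] (X' : Scheme.{u}) [X'.Over (Spec (CommRingCat.of B))]
  (F' : X'.Modules) (θ' : F' ≅ unitM X')
  (H : Type u) [AddCommGroup H] [Module B H] [Module.Invertible B H]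
  (E : H ≃ₗ[B] Coh.HH X' F' 0)

include θ' E in
theorem toGlobal_bijective_of_linearEquiv : Function.Bijective (Coh.toGlobal (fX B X')) := by
  let w : Coh.HH X' F' 0 ≃+ Coh.HH X' (unitM X') 0 :=
    ((CohIII.HAb X' 0).mapIso θ').addCommGroupIsoToAddEquiv
  letI alg : Algebra B Γ(X', ⊤) := (Coh.toGlobal (fX B X')).toAlgebra
  let E2 : Coh.HH X' F' 0 ≃ₗ[B] Γ(X', ⊤) :=
    { (w.trans (hh0 (unitM X'))) with
      map_smul' := fun a x => by
        change hh0 (unitM X') (w (Coh.toGlobal (fX B X') a • x)) = _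
        have h1 : w (Coh.toGlobal (fX B X') a • x) = Coh.toGlobal (fX B X') a • w x :=
          HH_map_smul θ'.hom 0 (Coh.toGlobal (fX B X') a) x
        rw [h1, hh0_smul]
        rfl }
  haveI : Module.Invertible B Γ(X', ⊤) := Module.Invertible.congr (E.trans E2)
  exact bijective_algebraMap_of_invertible B Γ(X', ⊤)

end PU

section lift

variable {X Y T P : Scheme.{u}} (f : X ⟶ Y) (g : T ⟶ Y) (fst : P ⟶ X) (snd : P ⟶ T)
  (H0 : IsPullback fst snd f g) {V : Y.Opens} (hV : IsAffineOpen V) {U : T.Opens}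
  (hU : IsAffineOpen U) (hle : U ≤ g ⁻¹ᵁ V)

include H0 in
theorem exists_bc_lift :
    ∃ g' : (snd ⁻¹ᵁ U).toScheme ⟶ (f ⁻¹ᵁ V).toScheme,
      IsPullback g' (sV snd hU) (sV f hV) (Spec.map (g.appLE V U hle)) := by
  have hr1 : Set.range (U.ι ≫ g).base ⊆ Set.range V.ι.base := by
    rintro _ ⟨z, rfl⟩
    rw [Scheme.Opens.range_ι]
    exact hle z.2
  let jU : U.toScheme ⟶ V.toScheme := IsOpenImmersion.lift V.ι (U.ι ≫ g) hr1
  have hjU : jU ≫ V.ι = U.ι ≫ g := IsOpenImmersion.lift_fac _ _ _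
  have HU : IsPullback (snd ⁻¹ᵁ U).ι (snd ∣_ U) snd U.ι :=
    (isPullback_morphismRestrict snd U).flip
  have H01 : IsPullback ((snd ⁻¹ᵁ U).ι ≫ fst) (snd ∣_ U) f (U.ι ≫ g) := HU.paste_horiz H0
  have hr2 : Set.range ((snd ⁻¹ᵁ U).ι ≫ fst).base ⊆ Set.range (f ⁻¹ᵁ V).ι.base := by
    rintro _ ⟨z, rfl⟩
    rw [Scheme.Opens.range_ι]
    change f (((snd ⁻¹ᵁ U).ι ≫ fst) z) ∈ V
    rw [← Scheme.Hom.comp_apply, H01.w, Scheme.Hom.comp_apply]
    exact hle ((snd ∣_ U) z).2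
  let g' : (snd ⁻¹ᵁ U).toScheme ⟶ (f ⁻¹ᵁ V).toScheme :=
    IsOpenImmersion.lift (f ⁻¹ᵁ V).ι ((snd ⁻¹ᵁ U).ι ≫ fst) hr2
  have hg' : g' ≫ (f ⁻¹ᵁ V).ι = (snd ⁻¹ᵁ U).ι ≫ fst := IsOpenImmersion.lift_fac _ _ _
  have H1 : IsPullback (f ⁻¹ᵁ V).ι (f ∣_ V) f V.ι := (isPullback_morphismRestrict f V).flip
  have H2 : IsPullback g' (snd ∣_ U) (f ∣_ V) jU := by
    refine IsPullback.of_right ?_ ?_ H1
    · rw [hg', hjU]
      exact H01
    · rw [← cancel_mono V.ι, Category.assoc, Category.assoc, hjU, ← H1.w, ← Category.assoc, hg']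
      exact H01.w
  have hm : hU.isoSpec.hom ≫ Spec.map (g.appLE V U hle) = jU ≫ hV.isoSpec.hom := by
    rw [← cancel_mono hV.isoSpec.inv, Category.assoc, Category.assoc, Iso.hom_inv_id,
      Category.comp_id, ← cancel_mono V.ι, Category.assoc, Category.assoc, hjU,
      IsAffineOpen.isoSpec_inv_ι, IsAffineOpen.SpecMap_appLE_fromSpec g hV hU hle, ← Category.assoc,
      ← IsAffineOpen.isoSpec_inv_ι, Iso.hom_inv_id_assoc]
  have Hiso : IsPullback jU hU.isoSpec.hom hV.isoSpec.hom (Spec.map (g.appLE V U hle)) :=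
    IsPullback.of_vert_isIso ⟨hm.symm⟩
  exact ⟨g', H2.paste_vert Hiso⟩

end lift

section aff

variable {X Y : Scheme.{u}} (f : X ⟶ Y) [IsProper f] [Flat f] [IsLocallyNoetherian Y]
  (h0 : ∀ y : Y, Module.finrank (Y.residueField y) Γ(f.fiber y, ⊤) = 1)

include h0 in
theorem surjective_of_h0 : Surjective f := by
  constructor
  intro y
  haveI : Nontrivial ↑Γ(f.fiber y, ⊤) := by
    by_contra hc
    rw [not_nontrivial_iff_subsingleton] at hc
    have h1 := h0 y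
    rw [Module.finrank_zero_of_subsingleton] at h1
    exact zero_ne_one h1
  have hne : Nonempty (f.fiber y) := by
    by_contra hc
    rw [not_nonempty_iff] at hc
    exact not_subsingleton ↑Γ(f.fiber y, ⊤) inferInstance
  obtain ⟨z⟩ := hne
  refine ⟨f.fiberι y z, ?_⟩
  have h1 : f.fiberι y z ∈ Set.range (f.fiberι y) := ⟨z, rfl⟩
  rw [Scheme.Hom.range_fiberι] at h1
  exact h1

instance flat_sV {V : Y.Opens} (hV : IsAffineOpen V) : Flat (sV f hV) := by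
  unfold sV
  infer_instance

include h0 in
theorem surjective_sV {V : Y.Opens} (hV : IsAffineOpen V) : Surjective (sV f hV) := by
  haveI := surjective_of_h0 f h0
  haveI : Surjective (f ∣_ V) := IsZariskiLocalAtTarget.restrict ‹Surjective f› V
  unfold sV
  infer_instance

variable {T P : Scheme.{u}} (g : T ⟶ Y) (fst : P ⟶ X) (snd : P ⟶ T)
  (H0 : IsPullback fst snd f g) {V : Y.Opens} (hV : IsAffineOpen V) {U : T.Opens}
  (hU : IsAffineOpen U) (hle : U ≤ g ⁻¹ᵁ V)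

include h0 H0 hV hU hle in
theorem app_bijective_of_affine_bc : Function.Bijective (snd.app U).hom := by
  letI ovX : (f ⁻¹ᵁ V).toScheme.Over (Spec (CommRingCat.of ↑Γ(Y, V))) := ⟨sV f hV⟩
  letI ovX' : (snd ⁻¹ᵁ U).toScheme.Over (Spec (CommRingCat.of ↑Γ(T, U))) := ⟨sV snd hU⟩
  haveI : IsNoetherianRing ↑Γ(Y, V) := IsLocallyNoetherian.component_noetherian ⟨V, hV⟩
  haveI hprop : IsProper ((f ⁻¹ᵁ V).toScheme ↘ Spec (CommRingCat.of ↑Γ(Y, V))) :=
    (inferInstance : IsProper (sV f hV))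
  haveI : CompactSpace (f ⁻¹ᵁ V).toScheme :=
    QuasiCompact.compactSpace_of_compactSpace ((f ⁻¹ᵁ V).toScheme ↘ Spec (CommRingCat.of ↑Γ(Y, V)))
  haveI : (f ⁻¹ᵁ V).toScheme.IsSeparated :=
    isSeparated_of_over ((f ⁻¹ᵁ V).toScheme ↘ Spec (CommRingCat.of ↑Γ(Y, V)))
  have hN : PicF.IsInvertible (unitM X) := isInvertible_unit X
  have hNcoh : Coh.IsCoh (unitM X) :=
    ⟨isQuasicoherent_of_isInvertible hN, isFiniteType_of_isInvertible hN⟩
  have hNfl : FlatMod.IsFlatOver f (unitM X) :=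
    isFlatOver_of_isFlat f _ (Groth.Agent.Lib.Lead.TwistExact.isFlat_of_isInvertible hN)
  let N₁ : (f ⁻¹ᵁ V).toScheme.Modules := (unitM X).restrict (f ⁻¹ᵁ V).ι
  have hN₁coh : Coh.IsCoh N₁ := Groth.Agent.Lib.Helper12.H12Fin.isCoh_restrict _ _ hNcoh
  haveI : N₁.IsQuasicoherent := hN₁coh.1
  obtain ⟨Q, d, hQ, hd, hpos, hp⟩ := bridge2 ↑Γ(Y, V) (f ⁻¹ᵁ V).toScheme N₁ hN₁coh
    (isFlatOver_sV f hV _ hNcoh hNfl)
  obtain ⟨e0⟩ := hp 0
  have hQ' : ∀ i, Module.Finite ↑Γ(Y, V) (Q.X i) ∧ Module.Flat ↑Γ(Y, V) (Q.X i) := fun i =>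
    ⟨(hQ i).1, haveI := (hQ i).2; inferInstance⟩
  have hdr0 : ∀ x : PrimeSpectrum ↑Γ(Y, V), CohIII.dRank Q (-((0 : ℕ) : ℤ)) x = 1 := by
    intro x
    obtain ⟨y', hy', rfl⟩ := ptV_surjective hV x
    rw [← fiberRank_glob f hV (unitM X) hNcoh Q (-((0 : ℕ) : ℤ)) 0 e0 y' hy', fiberRank_unit_zero]
    exact h0 y'
  have h00 : -((0 : ℕ) : ℤ) = 0 := by simp
  rw [h00] at e0 hdr0
  let θ : N₁ ≅ unitM (f ⁻¹ᵁ V).toScheme :=
    restrictIsoPullback (f ⁻¹ᵁ V).ι (unitM X) ≪≫ pullbackUnitIso (f ⁻¹ᵁ V).ι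
  haveI := surjective_sV f h0 hV
  have hinj : Function.Injective ((Scheme.ΓSpecIso (CommRingCat.of ↑Γ(Y, V))).inv ≫
      ((f ⁻¹ᵁ V).toScheme ↘ Spec (CommRingCat.of ↑Γ(Y, V))).appTop).hom := by
    have h2 : Function.Injective
        ((f ⁻¹ᵁ V).toScheme ↘ Spec (CommRingCat.of ↑Γ(Y, V))).appTop.hom :=
      Groth.Agent.Lib.Helper26.P1L.appTop_injective_of_flat_surjective (sV f hV)
    have h3 : Function.Injective (Scheme.ΓSpecIso (CommRingCat.of ↑Γ(Y, V))).inv.hom :=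
      (ConcreteCategory.bijective_of_isIso (Scheme.ΓSpecIso (CommRingCat.of ↑Γ(Y, V))).inv).1
    exact h2.comp h3
  obtain ⟨hm, he⟩ := Groth.Agent.Lib.Helper26.H0A.preservesMonoEpi ↑Γ(Y, V) (f ⁻¹ᵁ V).toScheme Q hQ'
    (hpos 1 one_pos) N₁ θ e0 hinj hdr0
  letI algAB : Algebra ↑Γ(Y, V) ↑Γ(T, U) := (g.appLE V U hle).hom.toAlgebra
  haveI hinvB := Groth.Agent.Lib.Helper26.H0A.invertible_bc ↑Γ(Y, V) Q hQ' hm he hdr0 ↑Γ(T, U)
  obtain ⟨g', H3⟩ := exists_bc_lift f g fst snd H0 hV hU hle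
  obtain ⟨L⟩ := fibre_linearEquiv ↑Γ(Y, V) ↑Γ(T, U) (f ⁻¹ᵁ V).toScheme (snd ⁻¹ᵁ U).toScheme g' H3
    N₁ Q 0 0 e0
  let θ' : (Scheme.Modules.pullback g').obj N₁ ≅ unitM (snd ⁻¹ᵁ U).toScheme :=
    (Scheme.Modules.pullback g').mapIso θ ≪≫ pullbackUnitIso g'
  have hb := toGlobal_bijective_of_linearEquiv ↑Γ(T, U) (snd ⁻¹ᵁ U).toScheme _ θ' _ L
  have hb' : Function.Bijective (snd.appLE U ((snd ⁻¹ᵁ U).ι ''ᵁ ⊤) (by
          intro x hx
          obtain ⟨y, -, rfl⟩ := hx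
          exact y.2)).hom := by
    refine ⟨fun a b hab => hb.1 ((toGlobal_sV' snd hU a).trans
      (hab.trans (toGlobal_sV' snd hU b).symm)), fun r => ?_⟩
    obtain ⟨a, ha⟩ := hb.2 r
    exact ⟨a, (toGlobal_sV' snd hU a).symm.trans ha⟩
  exact (appLE_bijective_iff snd (snd ⁻¹ᵁ U).ι_image_top _).mp hb'

end aff

section glob

variable {X Y : Scheme.{u}} (f : X ⟶ Y) [IsProper f] [Flat f] [IsLocallyNoetherian Y]
  (h0 : ∀ y : Y, Module.finrank (Y.residueField y) Γ(f.fiber y, ⊤) = 1)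

include h0 in
theorem app_isIso_of_h0 {T P : Scheme.{u}} (g : T ⟶ Y) (fst : P ⟶ X) (snd : P ⟶ T)
    (H0 : IsPullback fst snd f g) (U : T.Opens) : IsIso (snd.app U) := by
  let ι := {U' : T.Opens // IsAffineOpen U' ∧ ∃ V : Y.Opens, IsAffineOpen V ∧ U' ≤ g ⁻¹ᵁ V}
  let Bf : ι → Opens T := fun i => i.1
  have hB : Opens.IsBasis (Set.range Bf) := by
    rw [Opens.isBasis_iff_nbhd]
    intro U₀ x hx
    obtain ⟨V, hV, hgx, -⟩ := exists_isAffineOpen_mem_and_subset (x := g x) (U := ⊤) trivial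
    obtain ⟨U', hU', hxU', hU'le⟩ := exists_isAffineOpen_mem_and_subset (x := x)
      (U := U₀ ⊓ g ⁻¹ᵁ V) ⟨hx, hgx⟩
    exact ⟨U', ⟨⟨U', hU', V, hV, hU'le.trans inf_le_right⟩, rfl⟩, hxU', hU'le.trans inf_le_left⟩
  let G : TopCat.Sheaf CommRingCat T.toTopCat :=
    ⟨snd.base _* P.presheaf, TopCat.Sheaf.pushforward_sheaf_of_sheaf snd.base P.sheaf.property⟩
  let φ : T.sheaf ⟶ G := ⟨snd.c⟩
  have hφ : IsIso φ := TopCat.Sheaf.isIso_iff_isIso_basis (B := Bf) hB (fun i => by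
    obtain ⟨U', hU', V, hV, hle⟩ := i
    change IsIso (snd.app U')
    exact (ConcreteCategory.isIso_iff_bijective _).mpr
      (app_bijective_of_affine_bc f h0 g fst snd H0 hV hU' hle))
  have h1 : IsIso ((TopCat.Sheaf.forget CommRingCat T.toTopCat).map φ) := inferInstance
  have h2 : IsIso (((TopCat.Sheaf.forget CommRingCat T.toTopCat).map φ).app (op U)) := inferInstance
  exact h2

end glob

end Groth.Agent.Lib.Helper26.H0B
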