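import Groth.Agent.Lib.Helper26.H0B
import Groth.Agent.Lib.Helper22.EGA7.Glob8
import Groth.Agent.Lib.Helper22.EGA7.Seesaw

set_option autoImplicit false
set_option backward.isDefEq.respectTransparency.types false
set_option maxHeartbeats 1000000
set_option synthInstance.maxHeartbeats 200000
set_option linter.unusedSectionVars false
set_option linter.style.haveILetI false
set_option linter.unusedVariables false

universe u
attribute [local instance] HasDerivedCategory.standard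
open CategoryTheory CategoryTheory.Limits Opposite TopologicalSpace AlgebraicGeometry IsLocalRing
open Groth.Agent.Lib.Helper29.QCoh

namespace Groth.Agent.Lib.Helper26.H0C

open Groth.Agent.Lib.Helper22.EGA7 Groth.Agent.Lib.Helper26.H0B

section aff

variable {X Y : Scheme.{u}} (f : X ⟶ Y)

/-- a point in a fibre with one-dimensional function space -/
theorem exists_point_of_h0 (y : Y)
    (h0 : Module.finrank (Y.residueField y) Γ(f.fiber y, ⊤) = 1) : ∃ x : X, f x = y := by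
  haveI : Nontrivial ↑Γ(f.fiber y, ⊤) := by
    by_contra hc
    rw [not_nontrivial_iff_subsingleton] at hc
    rw [Module.finrank_zero_of_subsingleton] at h0
    exact zero_ne_one h0
  have hne : Nonempty (f.fiber y) := by
    by_contra hc
    rw [not_nonempty_iff] at hc
    exact not_subsingleton ↑Γ(f.fiber y, ⊤) inferInstance
  obtain ⟨z⟩ := hne
  refine ⟨f.fiberι y z, ?_⟩
  have h1 : f.fiberι y z ∈ Set.range (f.fiberι y) := ⟨z, rfl⟩
  rw [Scheme.Hom.range_fiberι] at h1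
  exact h1

theorem surjective_sV_of_mem {V : Y.Opens} (hV : IsAffineOpen V)
    (h0 : ∀ y : Y, y ∈ V → Module.finrank (Y.residueField y) Γ(f.fiber y, ⊤) = 1) :
    Surjective (sV f hV) := by
  haveI : Surjective (f ∣_ V) := by
    constructor
    rintro ⟨y, hy⟩
    obtain ⟨x, hx⟩ := exists_point_of_h0 f y (h0 y hy)
    refine ⟨⟨x, by change f x ∈ V; rw [hx]; exact hy⟩, ?_⟩
    apply Subtype.ext
    exact (morphismRestrict_base_coe f V _).trans hx
  unfold sV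
  infer_instance

variable [IsProper f] [Flat f] [IsLocallyNoetherian Y]

variable {T P : Scheme.{u}} (g : T ⟶ Y) (fst : P ⟶ X) (snd : P ⟶ T)
  (H0 : IsPullback fst snd f g) {V : Y.Opens} (hV : IsAffineOpen V) {U : T.Opens}
  (hU : IsAffineOpen U) (hle : U ≤ g ⁻¹ᵁ V)
  (h0 : ∀ y : Y, y ∈ V → Module.finrank (Y.residueField y) Γ(f.fiber y, ⊤) = 1)

include h0 H0 hV hU hle in
/-- local version of `H0B.app_bijective_of_affine_bc`: `h⁰ = 1` is only assumed over `V`. -/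
theorem app_bijective_of_affine_bc : Function.Bijective (snd.app U).hom := by
  letI ovX : (f ⁻¹ᵁ V).toScheme.Over (Spec (CommRingCat.of ↑Γ(Y, V))) := ⟨sV f hV⟩
  letI ovX' : (snd ⁻¹ᵁ U).toScheme.Over (Spec (CommRingCat.of ↑Γ(T, U))) := ⟨sV snd hU⟩
  haveI : IsNoetherianRing ↑Γ(Y, V) := IsLocallyNoetherian.component_noetherian ⟨V, hV⟩
  haveI hprop : IsProper ((f ⁻¹ᵁ V).toScheme ↘ Spec (CommRingCat.of ↑Γ(Y, V))) :=
    (inferInstance : IsProper (sV f hV))
  haveI : CompactSpace (f ⁻¹ᵁ V).toScheme :=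
    QuasiCompact.compactSpace_of_compactSpace ((f ⁻¹ᵁ V).toScheme ↘ Spec (CommRingCat.of ↑Γ(Y, V)))
  haveI : (f ⁻¹ᵁ V).toScheme.IsSeparated :=
    isSeparated_of_over ((f ⁻¹ᵁ V).toScheme ↘ Spec (CommRingCat.of ↑Γ(Y, V)))
  have hN : PicF.IsInvertible (unitM X) := isInvertible_unit X
  have hNcoh : Coh.IsCoh (unitM X) :=
    ⟨isQuasicoherent_of_isInvertible hN, isFiniteType_of_isInvertible hN⟩
  have hNfl : FlatMod.IsFlatOver f (unitM X) :=
    isFlatOver_of_isFlat f _ (Groth.Agent.Lib.Lead.TwistExact.isFlat_of_isInvertible hN)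
  let N₁ : (f ⁻¹ᵁ V).toScheme.Modules := (unitM X).restrict (f ⁻¹ᵁ V).ι
  have hN₁coh : Coh.IsCoh N₁ := Groth.Agent.Lib.Helper12.H12Fin.isCoh_restrict _ _ hNcoh
  haveI : N₁.IsQuasicoherent := hN₁coh.1
  obtain ⟨Q, d, hQ, hd, hpos, hp⟩ := bridge2 ↑Γ(Y, V) (f ⁻¹ᵁ V).toScheme N₁ hN₁coh
    (isFlatOver_sV f hV _ hNcoh hNfl)
  obtain ⟨e0⟩ := hp 0
  have hQ' : ∀ i, Module.Finite ↑Γ(Y, V) (Q.X i) ∧ Module.Flat ↑Γ(Y, V) (Q.X i) := fun i =>
    ⟨(hQ i).1, haveI := (hQ i).2; inferInstance⟩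
  have hdr0 : ∀ x : PrimeSpectrum ↑Γ(Y, V), CohIII.dRank Q (-((0 : ℕ) : ℤ)) x = 1 := by
    intro x
    obtain ⟨y', hy', rfl⟩ := ptV_surjective hV x
    rw [← fiberRank_glob f hV (unitM X) hNcoh Q (-((0 : ℕ) : ℤ)) 0 e0 y' hy', fiberRank_unit_zero]
    exact h0 y' hy'
  have h00 : -((0 : ℕ) : ℤ) = 0 := by simp
  rw [h00] at e0 hdr0
  let θ : N₁ ≅ unitM (f ⁻¹ᵁ V).toScheme :=
    restrictIsoPullback (f ⁻¹ᵁ V).ι (unitM X) ≪≫ pullbackUnitIso (f ⁻¹ᵁ V).ι
  haveI := surjective_sV_of_mem f hV h0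
  have hinj : Function.Injective ((Scheme.ΓSpecIso (CommRingCat.of ↑Γ(Y, V))).inv ≫
      ((f ⁻¹ᵁ V).toScheme ↘ Spec (CommRingCat.of ↑Γ(Y, V))).appTop).hom := by
    have h2 : Function.Injective
        ((f ⁻¹ᵁ V).toScheme ↘ Spec (CommRingCat.of ↑Γ(Y, V))).appTop.hom :=
      Groth.Agent.Lib.Helper26.P1L.appTop_injective_of_flat_surjective (sV f hV)
    have h3 : Function.Injective (Scheme.ΓSpecIso (CommRingCat.of ↑Γ(Y, V))).inv.hom :=
      (ConcreteCategory.bijective_of_isIso (Scheme.ΓSpecIso (CommRingCat.of ↑Γ(Y, V))).inv).1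
    exact h2.comp h3
  obtain ⟨hm, he⟩ := Groth.Agent.Lib.Helper26.H0A.preservesMonoEpi ↑Γ(Y, V) (f ⁻¹ᵁ V).toScheme Q hQ'
    (hpos 1 one_pos) N₁ θ e0 hinj hdr0
  letI algAB : Algebra ↑Γ(Y, V) ↑Γ(T, U) := (g.appLE V U hle).hom.toAlgebra
  haveI hinvB := Groth.Agent.Lib.Helper26.H0A.invertible_bc ↑Γ(Y, V) Q hQ' hm he hdr0 ↑Γ(T, U)
  obtain ⟨g', H3⟩ := exists_bc_lift f g fst snd H0 hV hU hle
  obtain ⟨L⟩ := fibre_linearEquiv ↑Γ(Y, V) ↑Γ(T, U) (f ⁻¹ᵁ V).toScheme (snd ⁻¹ᵁ U).toScheme g' H3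
    N₁ Q 0 0 e0
  let θ' : (Scheme.Modules.pullback g').obj N₁ ≅ unitM (snd ⁻¹ᵁ U).toScheme :=
    (Scheme.Modules.pullback g').mapIso θ ≪≫ pullbackUnitIso g'
  have hb := toGlobal_bijective_of_linearEquiv ↑Γ(T, U) (snd ⁻¹ᵁ U).toScheme _ θ' _ L
  have hb' : Function.Bijective (snd.appLE U ((snd ⁻¹ᵁ U).ι ''ᵁ ⊤) (by
          intro x hx
          obtain ⟨y, -, rfl⟩ := hx
          exact y.2)).hom := by
    refine ⟨fun a b hab => hb.1 ((toGlobal_sV' snd hU a).trans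
      (hab.trans (toGlobal_sV' snd hU b).symm)), fun r => ?_⟩
    obtain ⟨a, ha⟩ := hb.2 r
    exact ⟨a, (toGlobal_sV' snd hU a).symm.trans ha⟩
  exact (appLE_bijective_iff snd (snd ⁻¹ᵁ U).ι_image_top _).mp hb'

end aff

section glob

variable {X Y : Scheme.{u}} (f : X ⟶ Y) [IsProper f] [Flat f] [IsLocallyNoetherian Y]
  (U₀ : Y.Opens)
  (h0 : ∀ y : Y, y ∈ U₀ → Module.finrank (Y.residueField y) Γ(f.fiber y, ⊤) = 1)

include h0 in
/-- `O_T = (f_T)_* O` for every base change `T → Y` landing in an open `U₀` over which `h⁰ = 1`. -/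
theorem app_isIso_of_h0_on {T P : Scheme.{u}} (g : T ⟶ Y) (hg : ∀ t : T, g t ∈ U₀)
    (fst : P ⟶ X) (snd : P ⟶ T)
    (H0 : IsPullback fst snd f g) (U : T.Opens) : IsIso (snd.app U) := by
  let ι := {U' : T.Opens // IsAffineOpen U' ∧
    ∃ V : Y.Opens, IsAffineOpen V ∧ V ≤ U₀ ∧ U' ≤ g ⁻¹ᵁ V}
  let Bf : ι → Opens T := fun i => i.1
  have hB : Opens.IsBasis (Set.range Bf) := by
    rw [Opens.isBasis_iff_nbhd]
    intro U₁ x hx
    obtain ⟨V, hV, hgx, hVle⟩ := exists_isAffineOpen_mem_and_subset (x := g x) (U := U₀) (hg x)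
    obtain ⟨U', hU', hxU', hU'le⟩ := exists_isAffineOpen_mem_and_subset (x := x)
      (U := U₁ ⊓ g ⁻¹ᵁ V) ⟨hx, hgx⟩
    exact ⟨U', ⟨⟨U', hU', V, hV, hVle, hU'le.trans inf_le_right⟩, rfl⟩, hxU',
      hU'le.trans inf_le_left⟩
  let G : TopCat.Sheaf CommRingCat T.toTopCat :=
    ⟨snd.base _* P.presheaf, TopCat.Sheaf.pushforward_sheaf_of_sheaf snd.base P.sheaf.property⟩
  let φ : T.sheaf ⟶ G := ⟨snd.c⟩
  have hφ : IsIso φ := TopCat.Sheaf.isIso_iff_isIso_basis (B := Bf) hB (fun i => by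
    obtain ⟨U', hU', V, hV, hVle, hle⟩ := i
    change IsIso (snd.app U')
    exact (ConcreteCategory.isIso_iff_bijective _).mpr
      (app_bijective_of_affine_bc f g fst snd H0 hV hU' hle (fun y hy => h0 y (hVle hy))))
  have h1 : IsIso ((TopCat.Sheaf.forget CommRingCat T.toTopCat).map φ) := inferInstance
  have h2 : IsIso (((TopCat.Sheaf.forget CommRingCat T.toTopCat).map φ).app (op U)) := inferInstance
  exact h2

include h0 in
/-- `O_Y(V) → O_X(f⁻¹V)` is an isomorphism for every open `V ≤ U₀`. -/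
theorem app_isIso_of_le (V : Y.Opens) (hV : V ≤ U₀) : IsIso (f.app V) := by
  have H : IsPullback (f ⁻¹ᵁ U₀).ι (f ∣_ U₀) f U₀.ι := (isPullback_morphismRestrict f U₀).flip
  have h1 : IsIso ((f ∣_ U₀).app (U₀.ι ⁻¹ᵁ V)) :=
    app_isIso_of_h0_on f U₀ h0 U₀.ι (fun t => t.2) (f ⁻¹ᵁ U₀).ι (f ∣_ U₀) H (U₀.ι ⁻¹ᵁ V)
  rw [morphismRestrict_app] at h1
  have h2 : U₀.ι ''ᵁ (U₀.ι ⁻¹ᵁ V) = V := by
    rw [Scheme.Hom.image_preimage_eq_opensRange_inf, Scheme.Opens.opensRange_ι]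
    exact inf_eq_right.mpr hV
  have key : ∀ {A B C : CommRingCat.{u}} (a : A ⟶ B) (b : B ⟶ C), IsIso (a ≫ b) → IsIso b →
      IsIso a := fun a b h hb => by
    haveI := h
    haveI := hb
    exact IsIso.of_isIso_comp_right a b
  have h3 : IsIso (f.app (U₀.ι ''ᵁ (U₀.ι ⁻¹ᵁ V))) := by
    rw [eqToHom_op, eqToHom_map] at h1
    have hb : ∀ {A B : CommRingCat.{u}} (p : A = B), IsIso (eqToHom p) := fun p => by
      subst p
      rw [eqToHom_refl]
      infer_instance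
    exact key _ _ h1 (hb _)
  rw [h2] at h3
  exact h3

/-- `H⁰` of the structure sheaf of the fibre, as a `κ(y)`-linear equivalence. -/
theorem nonempty_fiberH_equiv (y : Y) :
    Nonempty (CohIII.fiberH f (unitM X) y 0 ≃ₗ[Y.residueField y] Γ(f.fiber y, ⊤)) := by
  let w : CohIII.fiberH f (unitM X) y 0 ≃+ Coh.HH (f.fiber y) (unitM (f.fiber y)) 0 :=
    ((CohIII.HAb (f.fiber y) 0).mapIso (pullbackUnitIso (f.fiberι y))).addCommGroupIsoToAddEquiv
  exact ⟨{ (w.trans (hh0 (unitM (f.fiber y)))) with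
      map_smul' := fun a x => by
        change hh0 (unitM (f.fiber y))
          (w (Coh.toGlobal (f.fiberToSpecResidueField y) a • x)) = _
        have h1 : w (Coh.toGlobal (f.fiberToSpecResidueField y) a • x) =
            Coh.toGlobal (f.fiberToSpecResidueField y) a • w x :=
          HH_map_smul (pullbackUnitIso (f.fiberι y)).hom 0
            (Coh.toGlobal (f.fiberToSpecResidueField y) a) x
        rw [h1, hh0_smul]
        rfl }⟩

omit U₀ in
/-- **EGA III 7.8.6-type statement**: if `κ(y) = Γ(X_y, O)` then `O_Y(V) → O_X(f⁻¹V)` is an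
isomorphism for all opens `V` in a neighbourhood of `y` (no reducedness needed). -/
theorem exists_nhd_app_isIso (y : Y)
    (hy : Function.Bijective (algebraMap (Y.residueField y) Γ(f.fiber y, ⊤))) :
    ∃ U : Y.Opens, y ∈ U ∧ ∀ V : Y.Opens, V ≤ U → IsIso (f.app V) := by
  haveI : LocallyOfFinitePresentation f :=
    LocallyOfFinitePresentation.iff_locallyOfFiniteType.mpr inferInstance
  have hopen : IsOpen (Set.range f.base) := f.isOpenMap.isOpen_range
  have hN : PicF.IsInvertible (unitM X) := isInvertible_unit X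
  have hNcoh : Coh.IsCoh (unitM X) :=
    ⟨isQuasicoherent_of_isInvertible hN, isFiniteType_of_isInvertible hN⟩
  have hNfl : FlatMod.IsFlatOver f (unitM X) :=
    isFlatOver_of_isFlat f _ (Groth.Agent.Lib.Lead.TwistExact.isFlat_of_isInvertible hN)
  have hlt := isOpen_setOf_fiberRank_lt f (unitM X) hNcoh hNfl 0 2
  let U : Y.Opens :=
    ⟨Set.range f.base ∩ {y' | CohIII.fiberRank f (unitM X) 0 y' < 2}, hopen.inter hlt⟩
  have hfin1 : Module.finrank (Y.residueField y) Γ(f.fiber y, ⊤) = 1 := by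
    rw [← (LinearEquiv.ofBijective (Algebra.linearMap (Y.residueField y) Γ(f.fiber y, ⊤))
      hy).finrank_eq, Module.finrank_self]
  have hU : ∀ y' : Y, y' ∈ U →
      Module.finrank (Y.residueField y') Γ(f.fiber y', ⊤) = 1 := by
    rintro y' ⟨⟨x, hx⟩, hlt'⟩
    have hlt2 : CohIII.fiberRank f (unitM X) 0 y' < 2 := hlt'
    rw [fiberRank_unit_zero] at hlt2
    obtain ⟨E⟩ := nonempty_fiberH_equiv f y'
    haveI : Module.Finite (Y.residueField y') (CohIII.fiberH f (unitM X) y' 0) :=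
      finite_fiberH f (unitM X) hNcoh hNfl 0 y'
    haveI : Module.Finite (Y.residueField y') Γ(f.fiber y', ⊤) := Module.Finite.equiv E
    have hxr : x ∈ Set.range (f.fiberι y') := by
      rw [Scheme.Hom.range_fiberι]
      exact hx
    obtain ⟨z, -⟩ := hxr
    haveI : Nontrivial ↑Γ(f.fiber y', ⊤) :=
      @Scheme.component_nontrivial (f.fiber y') ⊤ ⟨⟨z, trivial⟩⟩
    have hpos : 0 < Module.finrank (Y.residueField y') Γ(f.fiber y', ⊤) := Module.finrank_pos
    omega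
  refine ⟨U, ⟨?_, ?_⟩, fun V hV => app_isIso_of_le f U hU V hV⟩
  · obtain ⟨x, hx⟩ := exists_point_of_h0 f y hfin1
    exact ⟨x, hx⟩
  · change CohIII.fiberRank f (unitM X) 0 y < 2
    rw [fiberRank_unit_zero, hfin1]
    norm_num

end glob

end Groth.Agent.Lib.Helper26.H0C
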