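import Groth.Agent.Lib.Lead.LinLES.Basic
import Groth.Agent.Lib.Helper25.HypCoh1
import Groth.Agent.Lib.Helper22.Adic.Sections
import Groth.Agent.Lib.Helper1.IdealSheafComap
import Groth.Agent.Lib.Helper29.QCohIdealMod
import Groth.Prelude.Def_ModelsG

set_option autoImplicit false
set_option linter.unusedSectionVars false
set_option linter.unusedVariables false
set_option linter.style.haveILetI false

universe u
open CategoryTheory CategoryTheory.Limits Opposite AlgebraicGeometry TopologicalSpace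

namespace Groth.Agent.Lib.Helper26.H1Tors

open Groth.Agent.Lib.Helper29.QCoh Groth.Agent.Lib.Helper22.Adic Groth.Agent.Lib.Helper25.HypTwist

noncomputable section

section general

variable {X : Scheme.{u}} (I : X.IdealSheafData) (r : Γ(X, ⊤))
  (hgen : ∀ U : X.affineOpens, I.ideal U = Ideal.span {rres X (le_top : U.1 ≤ ⊤) r})
  (hreg : ∀ (U : X.affineOpens) (a : Γ(X, U.1)), rres X (le_top : U.1 ≤ ⊤) r * a = 0 → a = 0)

include hgen in
theorem mulHom_toSubscheme : mulHom r ≫ ClSub.toSubscheme I = 0 := by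
  apply Scheme.Modules.hom_ext
  intro W
  ext y
  change (ClSub.toSubscheme I).app W ((mulHom r).app W y) = 0
  apply eq_zero_of_res_affine_eq_zero
  intro U hUW hU
  rw [← app_res, ← app_res, unitToPush_app]
  have hmem : fromUnit ((mulHom r).app U (res _ hUW y)) ∈ I.ideal ⟨U, hU⟩ := by
    rw [mulHom_app, hgen ⟨U, hU⟩]
    exact Ideal.mul_mem_right _ _ (Ideal.subset_span rfl)
  rw [← I.ker_subschemeι_app ⟨U, hU⟩, RingHom.mem_ker] at hmem
  rw [hmem]
  rfl

/-- the induced map `O_X → I` -/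
def μ' : unitM X ⟶ ClSub.idealMod I :=
  kernel.lift (ClSub.toSubscheme I) (mulHom r) (mulHom_toSubscheme I r hgen)

theorem μ'_ι : μ' I r hgen ≫ ClSub.idealModι I = mulHom r := kernel.lift_ι _ _ _

include hreg in
theorem μ'_app_bijective (U : X.Opens) (hU : IsAffineOpen U) :
    Function.Bijective ((μ' I r hgen).app U) := by
  constructor
  · rw [injective_iff_map_eq_zero]
    intro y hy
    have h1 : (mulHom r).app U y = 0 := by
      rw [← μ'_ι I r hgen, app_comp, hy, map_zero]
    have h2 : rres X (le_top : U ≤ ⊤) r * fromUnit y = 0 := by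
      rw [← mulHom_app, h1]
      rfl
    exact hreg ⟨U, hU⟩ _ h2
  · intro z
    have hb := idealModι_app_mem I ⟨U, hU⟩ z
    rw [hgen ⟨U, hU⟩, Ideal.mem_span_singleton'] at hb
    obtain ⟨x, hx⟩ := hb
    refine ⟨toUnit x, ?_⟩
    apply idealModι_app_injective I U
    rw [← app_comp, μ'_ι]
    have h3 : fromUnit ((mulHom r).app U (toUnit x)) = fromUnit ((ClSub.idealModι I).app U z) := by
      rw [mulHom_app, ← hx, mul_comm]
      rfl
    exact h3

include hreg in
theorem isIso_μ' : IsIso (μ' I r hgen) :=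
  isIso_of_app_bijective_affine _ (μ'_app_bijective I r hgen hreg)

/-- the sequence `0 → O_X --r--> O_X → O_X/I → 0` -/
def seq : ShortComplex X.Modules :=
  ShortComplex.mk (mulHom r) (ClSub.toSubscheme I) (mulHom_toSubscheme I r hgen)

include hreg in
theorem seq_shortExact : (seq I r hgen).ShortExact := by
  haveI hiso : IsIso (μ' I r hgen) := isIso_μ' I r hgen hreg
  let e₁ : unitM X ≅ ClSub.idealMod I := asIso (μ' I r hgen)
  have e : seq I r hgen ≅ idealSeq I :=
    ShortComplex.isoMk e₁ (Iso.refl _) (Iso.refl _)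
      (by
        change μ' I r hgen ≫ ClSub.idealModι I = mulHom r ≫ 𝟙 _
        rw [μ'_ι, Category.comp_id])
      (by
        change 𝟙 _ ≫ ClSub.toSubscheme I = ClSub.toSubscheme I ≫ 𝟙 _
        rw [Category.id_comp, Category.comp_id])
  exact ShortComplex.shortExact_of_iso e.symm (shortExact_idealSeq I)

end general

section les

open Groth.Agent.Lib.Lead.LinLES

variable (A : Type u) [CommRing A] {X : Scheme.{u}} [X.Over (Spec (CommRingCat.of A))]

theorem abMap_mulHom (r : Γ(X, ⊤)) : abMap (mulHom r) = Coh.smulAb (unitM X) r := by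
  ext U m
  rfl

theorem HHlin_mulHom (a : A) (q : ℕ) (x : Coh.HH X (unitM X) q) :
    Canon.HHlin A (mulHom (Coh.toGlobal (X ↘ Spec (CommRingCat.of A)) a)) q x = a • x := by
  rw [HHlin_apply, smul_def, abMap_mulHom]

theorem surjective_iff_injective (S : ShortComplex X.Modules) (hS : S.ShortExact) :
    Function.Surjective (Canon.HHlin A S.g 0) ↔ Function.Injective (Canon.HHlin A S.f (0 + 1)) := by
  have e3 := exact₃ A S hS 0
  have e1 := exact₁ A S hS 0
  constructor
  · intro hsurj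
    rw [injective_iff_map_eq_zero]
    intro x hx
    obtain ⟨x₃, rfl⟩ := (e1 x).mp hx
    obtain ⟨x₂, rfl⟩ := hsurj x₃
    exact (e3 _).mpr ⟨x₂, rfl⟩
  · intro hinj x₃
    have h1 : Canon.HHlin A S.f (0 + 1) (δlin A S hS 0 x₃) = 0 := (e1 _).mpr ⟨x₃, rfl⟩
    have h2 : δlin A S hS 0 x₃ = 0 := hinj (h1.trans (map_zero _).symm)
    exact (e3 x₃).mp h2

end les

section dvr

variable (R : Type u) [CommRing R] [IsDomain R] [IsDiscreteValuationRing R]
  (X : Scheme.{u}) [X.Over (Spec (CommRingCat.of R))]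

/-- the ideal sheaf of the special fibre -/
abbrev Isp : X.IdealSheafData :=
  Models.specialFibreIdeal R (Over.mk (X ↘ Spec (CommRingCat.of R)))

theorem rres_toGlobal (a : R) (U : X.Opens) :
    rres X (le_top : U ≤ ⊤) (Coh.toGlobal (X ↘ Spec (CommRingCat.of R)) a) =
      ((X ↘ Spec (CommRingCat.of R)).appLE ⊤ U le_top).hom
        ((Scheme.ΓSpecIso (CommRingCat.of R)).inv.hom a) := by
  rfl

theorem ideal_Isp (ϖ : R) (hϖ : IsLocalRing.maximalIdeal R = Ideal.span {ϖ}) (U : X.affineOpens) :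
    (Isp R X).ideal U =
      Ideal.span {rres X (le_top : U.1 ≤ ⊤) (Coh.toGlobal (X ↘ Spec (CommRingCat.of R)) ϖ)} := by
  have h1 := Groth.Agent.Lib.Helper1.ideal_comap (Curv2.idealSheaf R (IsLocalRing.maximalIdeal R))
    (X ↘ Spec (CommRingCat.of R)) U ⟨⊤, isAffineOpen_top _⟩ le_top
  change ((Curv2.idealSheaf R (IsLocalRing.maximalIdeal R)).comap
    (X ↘ Spec (CommRingCat.of R))).ideal U = _
  rw [h1, rres_toGlobal]
  unfold Curv2.idealSheaf
  rw [Scheme.IdealSheafData.ofIdealTop_ideal, hϖ, Ideal.map_span, Ideal.map_span, Ideal.map_span,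
    Set.image_singleton, Set.image_singleton, Set.image_singleton]
  congr 2

variable [Flat (X ↘ Spec (CommRingCat.of R))]

theorem regular_toGlobal (ϖ : R) (hϖ0 : ϖ ≠ 0) (U : X.affineOpens) (a : Γ(X, U.1))
    (ha : rres X (le_top : U.1 ≤ ⊤) (Coh.toGlobal (X ↘ Spec (CommRingCat.of R)) ϖ) * a = 0) :
    a = 0 := by
  let φ : Γ(Spec (CommRingCat.of R), ⊤) →+* Γ(X, U.1) :=
    ((X ↘ Spec (CommRingCat.of R)).appLE ⊤ U.1 le_top).hom
  have hfl : φ.Flat :=
    HasRingHomProperty.appLE @Flat (X ↘ Spec (CommRingCat.of R)) inferInstance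
      ⟨⊤, isAffineOpen_top _⟩ U le_top
  letI := φ.toAlgebra
  haveI : Module.Flat Γ(Spec (CommRingCat.of R), ⊤) Γ(X, U.1) := hfl
  let e : R ≃+* Γ(Spec (CommRingCat.of R), ⊤) :=
    (Scheme.ΓSpecIso (CommRingCat.of R)).symm.commRingCatIsoToRingEquiv
  haveI : IsDomain Γ(Spec (CommRingCat.of R), ⊤) :=
    Function.Injective.isDomain (e.symm : Γ(Spec (CommRingCat.of R), ⊤) →+* R) e.symm.injective
  have hne : e ϖ ≠ 0 := fun h => hϖ0 (e.injective (h.trans (map_zero e).symm))
  have hreg : IsSMulRegular Γ(X, U.1) (e ϖ) :=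
    Module.Flat.isSMulRegular_of_nonZeroDivisors (mem_nonZeroDivisors_of_ne_zero hne)
  apply hreg
  change φ (e ϖ) * a = φ (e ϖ) * 0
  rw [mul_zero]
  exact ha

open Groth.Agent.Lib.Lead.LinLES in
theorem main :
    Function.Surjective (Sheaf.H.map ((SheafOfModules.toSheaf X.ringCatSheaf).map
      (ClSub.toSubscheme (Models.specialFibreIdeal R (Over.mk (X ↘ Spec (CommRingCat.of R)))))) 0) ↔
      NoZeroSMulDivisors R (Coh.HH X (Coh.structureModule X) 1) := by
  obtain ⟨ϖ, hϖ⟩ := IsDiscreteValuationRing.exists_irreducible R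
  have hmax : IsLocalRing.maximalIdeal R = Ideal.span {ϖ} :=
    (IsDiscreteValuationRing.irreducible_iff_uniformizer ϖ).mp hϖ
  have hϖ0 : ϖ ≠ 0 := hϖ.ne_zero
  have hgen := ideal_Isp R X ϖ hmax
  have hreg := regular_toGlobal R X ϖ hϖ0
  have hS := seq_shortExact (Isp R X) (Coh.toGlobal (X ↘ Spec (CommRingCat.of R)) ϖ) hgen hreg
  have key := surjective_iff_injective R
    (seq (Isp R X) (Coh.toGlobal (X ↘ Spec (CommRingCat.of R)) ϖ) hgen) hS
  have hf : ∀ x : Coh.HH X (unitM X) (0 + 1),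
      Canon.HHlin R (seq (Isp R X) (Coh.toGlobal (X ↘ Spec (CommRingCat.of R)) ϖ) hgen).f (0 + 1) x
        = ϖ • x := fun x => HHlin_mulHom R ϖ (0 + 1) x
  constructor
  · intro hsurj
    have hinj : ∀ x : Coh.HH X (unitM X) (0 + 1), ϖ • x = 0 → x = 0 := by
      intro x hx
      apply key.mp hsurj
      rw [hf x, hf 0, smul_zero]
      exact hx
    have hpow : ∀ (n : ℕ) (x : Coh.HH X (unitM X) (0 + 1)), ϖ ^ n • x = 0 → x = 0 := by
      intro n
      induction n with
      | zero => intro x hx; rwa [pow_zero, one_smul] at hx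
      | succ k ih =>
        intro x hx
        rw [pow_succ, mul_smul] at hx
        exact hinj x (ih _ hx)
    refine ⟨fun {c x} hcx => ?_⟩
    by_cases hc : c = 0
    · exact Or.inl hc
    · right
      obtain ⟨n, u, rfl⟩ := IsDiscreteValuationRing.eq_unit_mul_pow_irreducible hc hϖ
      have h1 : ϖ ^ n • ((u : R) • x) = 0 := by
        rw [smul_smul, mul_comm]
        exact hcx
      have h3 : (u : R) • x = 0 := hpow n _ h1
      exact (u.isUnit.smul_eq_zero).mp h3
  · intro hnz
    apply key.mpr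
    intro x y hxy
    rw [hf, hf] at hxy
    have h0 : ϖ • (x - y) = 0 := by
      rw [smul_sub]
      exact sub_eq_zero.mpr hxy
    rcases hnz.eq_zero_or_eq_zero_of_smul_eq_zero h0 with h | h
    · exact absurd h hϖ0
    · exact sub_eq_zero.mp h

end dvr

end

end Groth.Agent.Lib.Helper26.H1Tors
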