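import Mathlib

set_option autoImplicit false
open Polynomial

namespace Groth.Agent.Lib.Helper26.HW

/-- Power-sum lemma: if `‖∑ βᵢ^r‖ ≤ C B^r` for all `r ≥ r₀` then `‖βᵢ‖ ≤ B`. -/
theorem norm_le_of_powerSum_le {n : ℕ} (β : Fin n → ℂ) (B C : ℝ) (hB : 0 < B) (r₀ : ℕ)
    (h : ∀ r, r₀ ≤ r → ‖∑ i, β i ^ r‖ ≤ C * B ^ r) (i₀ : Fin n) : ‖β i₀‖ ≤ B := by
  classical
  by_contra hlt
  push Not at hlt
  -- the interpolation polynomial
  set P : ℂ[X] := ∏ j ∈ Finset.univ.filter (fun j => β j ≠ β i₀), (X - Polynomial.C (β j)) with hP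
  have hPz : ∀ j, β j ≠ β i₀ → P.eval (β j) = 0 := by
    intro j hj
    rw [hP, eval_prod]
    apply Finset.prod_eq_zero (Finset.mem_filter.2 ⟨Finset.mem_univ j, hj⟩)
    simp
  have hPnz : P.eval (β i₀) ≠ 0 := by
    rw [hP, eval_prod, Finset.prod_ne_zero_iff]
    intro j hj
    rw [Finset.mem_filter] at hj
    simp only [eval_sub, eval_X, eval_C]
    exact sub_ne_zero.2 (Ne.symm hj.2)
  set c : ℕ := (Finset.univ.filter (fun j => β j = β i₀)).card with hc
  have hcpos : 0 < c := Finset.card_pos.2 ⟨i₀, Finset.mem_filter.2 ⟨Finset.mem_univ _, rfl⟩⟩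
  -- key identity
  have key : ∀ r, ∑ l ∈ Finset.range (P.natDegree + 1), P.coeff l * ∑ j, β j ^ (r + l) =
      (c : ℂ) * β i₀ ^ r * P.eval (β i₀) := by
    intro r
    have h1 : ∀ j, β j ^ r * P.eval (β j) =
        ∑ l ∈ Finset.range (P.natDegree + 1), P.coeff l * β j ^ (r + l) := by
      intro j
      rw [eval_eq_sum_range, Finset.mul_sum]
      refine Finset.sum_congr rfl fun l _ => ?_
      rw [pow_add]; ring
    calc ∑ l ∈ Finset.range (P.natDegree + 1), P.coeff l * ∑ j, β j ^ (r + l)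
        = ∑ j, ∑ l ∈ Finset.range (P.natDegree + 1), P.coeff l * β j ^ (r + l) := by
          simp_rw [Finset.mul_sum]
          rw [Finset.sum_comm]
      _ = ∑ j, β j ^ r * P.eval (β j) := by
          refine Finset.sum_congr rfl fun j _ => (h1 j).symm
      _ = ∑ j ∈ Finset.univ.filter (fun j => β j = β i₀), β j ^ r * P.eval (β j) := by
          rw [Finset.sum_filter]
          refine Finset.sum_congr rfl fun j _ => ?_
          split_ifs with hj
          · rfl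
          · rw [hPz j hj, mul_zero]
      _ = ∑ j ∈ Finset.univ.filter (fun j => β j = β i₀), β i₀ ^ r * P.eval (β i₀) := by
          refine Finset.sum_congr rfl fun j hj => ?_
          rw [(Finset.mem_filter.1 hj).2]
      _ = (c : ℂ) * β i₀ ^ r * P.eval (β i₀) := by
          rw [Finset.sum_const, nsmul_eq_mul, hc]; ring
  -- bound
  set D : ℝ := ∑ l ∈ Finset.range (P.natDegree + 1), ‖P.coeff l‖ * (|C| * B ^ l) with hD
  have hbound : ∀ r, r₀ ≤ r → (c : ℝ) * ‖β i₀‖ ^ r * ‖P.eval (β i₀)‖ ≤ D * B ^ r := by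
    intro r hr
    have h1 : ‖(c : ℂ) * β i₀ ^ r * P.eval (β i₀)‖ = (c : ℝ) * ‖β i₀‖ ^ r * ‖P.eval (β i₀)‖ := by
      rw [norm_mul, norm_mul, norm_pow, Complex.norm_natCast]
    rw [← h1, ← key r]
    refine (norm_sum_le _ _).trans ?_
    rw [hD, Finset.sum_mul]
    refine Finset.sum_le_sum fun l _ => ?_
    rw [norm_mul]
    have h2 : ‖∑ j, β j ^ (r + l)‖ ≤ |C| * B ^ l * B ^ r := by
      refine (h (r + l) (by omega)).trans ?_
      rw [pow_add]
      have : C ≤ |C| := le_abs_self C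
      have hBr : 0 ≤ B ^ r * B ^ l := by positivity
      calc C * (B ^ r * B ^ l) ≤ |C| * (B ^ r * B ^ l) := mul_le_mul_of_nonneg_right this hBr
        _ = |C| * B ^ l * B ^ r := by ring
    calc ‖P.coeff l‖ * ‖∑ j, β j ^ (r + l)‖ ≤ ‖P.coeff l‖ * (|C| * B ^ l * B ^ r) :=
          mul_le_mul_of_nonneg_left h2 (norm_nonneg _)
      _ = ‖P.coeff l‖ * (|C| * B ^ l) * B ^ r := by ring
  -- (‖β‖/B)^r bounded: contradiction
  have hratio : 1 < ‖β i₀‖ / B := (one_lt_div hB).2 hlt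
  have hpos : 0 < (c : ℝ) * ‖P.eval (β i₀)‖ := by
    have : 0 < ‖P.eval (β i₀)‖ := norm_pos_iff.2 hPnz
    positivity
  obtain ⟨N, hN⟩ := pow_unbounded_of_one_lt (D / ((c : ℝ) * ‖P.eval (β i₀)‖)) hratio
  have hN' : D / ((c : ℝ) * ‖P.eval (β i₀)‖) < (‖β i₀‖ / B) ^ (N + r₀) := by
    refine hN.trans_le ?_
    exact pow_le_pow_right₀ hratio.le (by omega)
  have h3 := hbound (N + r₀) (by omega)
  rw [div_lt_iff₀ hpos, div_pow] at hN'
  have hBpos : 0 < B ^ (N + r₀) := by positivity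
  have h4 : D * B ^ (N + r₀) < ‖β i₀‖ ^ (N + r₀) * ((c : ℝ) * ‖P.eval (β i₀)‖) := by
    have := mul_lt_mul_of_pos_right hN' hBpos
    calc D * B ^ (N + r₀) < ‖β i₀‖ ^ (N + r₀) / B ^ (N + r₀) * (↑c * ‖eval (β i₀) P‖) * B ^ (N + r₀) := this
      _ = ‖β i₀‖ ^ (N + r₀) * ((c : ℝ) * ‖P.eval (β i₀)‖) := by
        field_simp
  linarith

end Groth.Agent.Lib.Helper26.HW
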