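import Mathlib
import Groth.Agent.Lib.Helper26.HW1
import Groth.Agent.Lib.Helper2.FunFld.ZCE
import Groth.Agent.S11040

set_option autoImplicit false
open FunFld Polynomial
open Groth.Agent.Lib.Helper2.FF

namespace Groth.Agent.Lib.Helper26.HW

variable {k K : Type*} [Field k] [Finite k] [Field K] [Algebra k K]

/-- The Weil bound hypothesis on point counts in even-degree constant extensions. -/
def WeilBound (k K : Type*) [Field k] [Field K] [Algebra k K] : Prop :=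
  ∃ (C : ℝ) (r₀ : ℕ), ∀ r, r₀ ≤ r →
    |(Ncount k K (2 * r) : ℝ) - (Nat.card k : ℝ) ^ (2 * r) - 1| ≤ C * (Nat.card k : ℝ) ^ r

theorem norm_alpha_eq (hK : IsFunctionField k K) (hW : WeilBound k K)
    (α : Fin (2 * FunFld.genus k K) → ℂ)
    (hα : PowerSeries.map (Int.castRingHom ℂ) (FunFld.numerZ k K) =
        ((∏ i, (1 - Polynomial.C (α i) * Polynomial.X) : Polynomial ℂ) : PowerSeries ℂ))
    (hrev : ∀ i, α i * α (Fin.rev i) = (Nat.card k : ℂ)) (i : Fin (2 * FunFld.genus k K)) :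
    ‖α i‖ ^ 2 = (Nat.card k : ℝ) := by
  obtain ⟨C, r₀, hC⟩ := hW
  have hq : (0 : ℝ) < (Nat.card k : ℝ) := by exact_mod_cast Nat.card_pos
  have hle : ∀ j, ‖α j‖ ^ 2 ≤ (Nat.card k : ℝ) := by
    intro j
    have h1 := norm_le_of_powerSum_le (fun i => α i ^ 2) (Nat.card k : ℝ) C hq (max r₀ 1) ?_ j
    · simpa [norm_pow] using h1
    · intro r hr
      have hr0 : r₀ ≤ r := le_trans (le_max_left _ _) hr
      have hr1 : 0 < 2 * r := by have := le_trans (le_max_right r₀ 1) hr; omega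
      have h2 := Ncount_eq_of_factor hK α hα (2 * r) hr1
      have h3 : ∑ i, (α i ^ 2) ^ r = ((1 + (Nat.card k : ℝ) ^ (2 * r) - (Ncount k K (2 * r) : ℝ) : ℝ) : ℂ) := by
        push_cast
        simp_rw [← pow_mul]
        rw [h2]; ring
      rw [h3, Complex.norm_real, Real.norm_eq_abs]
      have := hC r hr0
      rw [abs_sub_comm] at this
      calc |1 + (Nat.card k : ℝ) ^ (2 * r) - (Ncount k K (2 * r) : ℝ)|
          = |1 - ((Ncount k K (2 * r) : ℝ) - (Nat.card k : ℝ) ^ (2 * r))| := by ring_nf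
        _ ≤ C * (Nat.card k : ℝ) ^ r := this
  refine le_antisymm (hle i) ?_
  have h1 := congrArg norm (hrev i)
  rw [norm_mul, Complex.norm_natCast] at h1
  have h2 := hle (Fin.rev i)
  have h3 : (Nat.card k : ℝ) ^ 2 = ‖α i‖ ^ 2 * ‖α (Fin.rev i)‖ ^ 2 := by rw [← h1]; ring
  have h4 : 0 ≤ ‖α i‖ ^ 2 := by positivity
  by_contra hlt
  push Not at hlt
  have : ‖α i‖ ^ 2 * ‖α (Fin.rev i)‖ ^ 2 < (Nat.card k : ℝ) * (Nat.card k : ℝ) := by
    calc ‖α i‖ ^ 2 * ‖α (Fin.rev i)‖ ^ 2 ≤ ‖α i‖ ^ 2 * (Nat.card k : ℝ) :=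
          mul_le_mul_of_nonneg_left h2 h4
      _ < (Nat.card k : ℝ) * (Nat.card k : ℝ) := mul_lt_mul_of_pos_right hlt hq
  rw [← h3] at this
  nlinarith

theorem riemann_hypothesis (hK : IsFunctionField k K) (hW : WeilBound k K) (p : Polynomial ℤ)
    (hp : (p : PowerSeries ℤ) = FunFld.numerZ k K) (z : ℂ)
    (hz : (p.map (Int.castRingHom ℂ)).IsRoot z) :
    ‖z‖ ^ 2 * (Nat.card k : ℝ) = 1 := by
  obtain ⟨α, -, hα, hrev⟩ := Groth.Agent.S11040.result k K hK
  have hpoly : p.map (Int.castRingHom ℂ) = ∏ i, (1 - Polynomial.C (α i) * Polynomial.X) := by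
    apply Polynomial.coe_injective
    rw [← hα, ← hp]
    ext n
    simp
  rw [hpoly, IsRoot.def, eval_prod, Finset.prod_eq_zero_iff] at hz
  obtain ⟨i, -, hi⟩ := hz
  simp only [eval_sub, eval_one, eval_mul, eval_C, eval_X] at hi
  have h1 : α i * z = 1 := by linear_combination -hi
  have h2 := congrArg norm h1
  rw [norm_mul, norm_one] at h2
  have h3 := norm_alpha_eq hK hW α hα hrev i
  rw [← h3]
  calc ‖z‖ ^ 2 * ‖α i‖ ^ 2 = (‖α i‖ * ‖z‖) ^ 2 := by ring
    _ = 1 := by rw [h2]; ring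

theorem hasse_weil (hK : IsFunctionField k K) (hW : WeilBound k K) :
    |(Nat.card {P : FunFld.Place k K // P.deg = 1} : ℝ) - (Nat.card k : ℝ) - 1| ≤
      2 * (FunFld.genus k K : ℝ) * Real.sqrt (Nat.card k : ℝ) := by
  obtain ⟨α, -, hα, hrev⟩ := Groth.Agent.S11040.result k K hK
  have hnorm : ∀ i, ‖α i‖ = Real.sqrt (Nat.card k : ℝ) := by
    intro i
    rw [← norm_alpha_eq hK hW α hα hrev i, Real.sqrt_sq (norm_nonneg _)]
  have h1 := Ncount_eq_of_factor hK α hα 1 one_pos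
  rw [← card_deg_one_eq_Ncount hK] at h1
  have h2 : ((Nat.card {P : FunFld.Place k K // P.deg = 1} : ℝ) - (Nat.card k : ℝ) - 1 : ℝ) =
      -(∑ i, α i).re := by
    have h3 := congrArg Complex.re h1
    simp only [pow_one, Complex.natCast_re, Complex.add_re, Complex.sub_re, Complex.one_re] at h3
    rw [h3]; ring
  rw [h2, abs_neg]
  calc |(∑ i, α i).re| ≤ ‖∑ i, α i‖ := Complex.abs_re_le_norm _
    _ ≤ ∑ i, ‖α i‖ := norm_sum_le _ _
    _ = 2 * (FunFld.genus k K : ℝ) * Real.sqrt (Nat.card k : ℝ) := by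
      simp_rw [hnorm]
      rw [Finset.sum_const, Finset.card_univ, Fintype.card_fin, nsmul_eq_mul]
      push_cast; ring

end Groth.Agent.Lib.Helper26.HW
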