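import Mathlib
import Groth.Agent.Lib.Helper26.HW5
import Groth.Agent.S11040

set_option autoImplicit false
set_option linter.unusedSectionVars false
open scoped WithZero TensorProduct IntermediateField
open FunFld
open Groth.Agent.Lib.Helper2.FF

universe u v w

namespace Groth.Agent.Lib.Helper26.HW

section Degree

variable {L E : Type*} [Field L] [Field E] [Algebra L E]

/-- degree of a twisted endomorphism of a finite extension equals the degree on the base -/
theorem finrank_fieldRange_eq [FiniteDimensional L E] (τ : E →+* E) (τL : L →+* L)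
    (h : ∀ z : L, τ (algebraMap L E z) = algebraMap L E (τL z)) :
    Module.finrank τ.fieldRange E = Module.finrank τL.fieldRange L := by
  set i : L →+* E := algebraMap L E with hi
  set TL : Subfield L := τL.fieldRange with hTL
  set S₂ : Subfield E := (⊤ : Subfield L).map i with hS₂
  set S₁ : Subfield E := (⊤ : Subfield E).map τ with hS₁
  set S₀ : Subfield E := TL.map i with hS₀
  have hS₀' : S₀ = S₂.map τ := by
    rw [hS₀, hS₂, hTL]
    ext w
    simp only [Subfield.mem_map, RingHom.mem_fieldRange, Subfield.mem_top, true_and]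
    constructor
    · rintro ⟨_, ⟨z, rfl⟩, rfl⟩
      exact ⟨i z, ⟨z, rfl⟩, h z⟩
    · rintro ⟨_, ⟨z, rfl⟩, rfl⟩
      exact ⟨τL z, ⟨z, rfl⟩, (h z).symm⟩
  have h02 : S₀ ≤ S₂ := (Subfield.gc_map_comap i).monotone_l le_top
  have h01 : S₀ ≤ S₁ := by rw [hS₀']; exact (Subfield.gc_map_comap τ).monotone_l le_top
  have e1 : Subfield.relfinrank S₀ S₂ = Module.finrank TL L := by
    rw [hS₀, hS₂, Subfield.relfinrank_map_map, Subfield.relfinrank_top_right]
  have e2 : Subfield.relfinrank S₀ S₁ = Module.finrank S₂ E := by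
    rw [hS₀', hS₁, Subfield.relfinrank_map_map, Subfield.relfinrank_top_right]
  have e3 := Subfield.relfinrank_mul_relfinrank h01 (le_top : S₁ ≤ ⊤)
  have e4 := Subfield.relfinrank_mul_relfinrank h02 (le_top : S₂ ≤ ⊤)
  rw [Subfield.relfinrank_top_right, e2] at e3
  rw [Subfield.relfinrank_top_right, e1] at e4
  have hS₁r : τ.fieldRange = S₁ := RingHom.fieldRange_eq_map τ
  have hS₂fin : Module.Finite S₂ E := by
    have hr : i.fieldRange = S₂ := RingHom.fieldRange_eq_map i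
    rw [← hr]
    exact Module.Finite.of_equiv_equiv (A₁ := L) (B₁ := E)
      (RingEquiv.ofLeftInverse (g := fun w => (i.injective.hasLeftInverse.choose w))
        (i.injective.hasLeftInverse.choose_spec) |>.trans (RingEquiv.refl _))
      (RingEquiv.refl E) (by ext z; rfl)
  have hn : 0 < Module.finrank S₂ E := Module.finrank_pos
  rw [hS₁r]
  have : Module.finrank S₂ E * Module.finrank S₁ E = Module.finrank S₂ E * Module.finrank TL L := by
    rw [e3, ← e4, mul_comm]
  exact Nat.eq_of_mul_eq_mul_left hn this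


theorem finrank_fieldRange_le {kb L : Type*} [Field kb] [Field L] [Algebra kb L] (x : L)
    (hx : kb⟮x⟯ = ⊤) (τL : L →ₐ[kb] L) (Q : ℕ) (hQ : 0 < Q) (hτ : τL x = x ^ Q) :
    Module.finrank τL.fieldRange L ≤ Q := by
  set S : IntermediateField kb L := τL.fieldRange with hS
  have hxQ : x ^ Q ∈ S := ⟨x, hτ⟩
  have htop : S⟮x⟯ = ⊤ := by
    rw [eq_top_iff]
    intro z _
    have h1 : kb⟮x⟯ ≤ (S⟮x⟯).restrictScalars kb := by
      rw [IntermediateField.adjoin_simple_le_iff]
      exact IntermediateField.mem_adjoin_simple_self S x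
    have h2 : z ∈ kb⟮x⟯ := by rw [hx]; trivial
    exact h1 h2
  set p : Polynomial S := Polynomial.X ^ Q - Polynomial.C (⟨x ^ Q, hxQ⟩ : S) with hp
  have hpdeg : p.natDegree = Q := Polynomial.natDegree_X_pow_sub_C
  have hpne : p ≠ 0 := by
    intro h0
    rw [h0, Polynomial.natDegree_zero] at hpdeg
    omega
  have hroot : Polynomial.aeval x p = 0 := by
    simp [hp]
  have hint : IsIntegral S x := by
    refine ⟨p, ?_, hroot⟩
    exact Polynomial.monic_X_pow_sub_C _ hQ.ne'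
  have h1 := IntermediateField.adjoin.finrank hint
  rw [htop, IntermediateField.finrank_top'] at h1
  rw [h1]
  have h2 := Polynomial.natDegree_le_of_dvd (minpoly.dvd S x hroot) hpne
  rw [hpdeg] at h2
  exact h2

end Degree


section K0

variable {k K : Type*} [Field k] [Field K] [Algebra k K]

theorem adjoin_gen_eq_top (x : K) :
    k⟮IntermediateField.AdjoinSimple.gen k x⟯ = (⊤ : IntermediateField k k⟮x⟯) := by
  rw [eq_top_iff]
  intro z _
  have h1 : (k⟮IntermediateField.AdjoinSimple.gen k x⟯).map (k⟮x⟯).val = k⟮x⟯ := by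
    rw [IntermediateField.adjoin_map]
    simp
  have h2 : (z : K) ∈ (k⟮IntermediateField.AdjoinSimple.gen k x⟯).map (k⟮x⟯).val := by
    rw [h1]; exact z.2
  obtain ⟨w, hw, hwz⟩ := h2
  have : w = z := Subtype.ext hwz
  rw [← this]
  exact hw

theorem isFunctionField_K0 (hK : IsFunctionField k K) {x : K} (hx : Transcendental k x) :
    IsFunctionField k k⟮x⟯ := by
  refine ⟨⟨IntermediateField.AdjoinSimple.gen k x, ?_, ?_⟩, ?_⟩
  · intro halg
    apply hx
    have := halg.algebraMap (A := K)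
    simpa using this
  · rw [adjoin_gen_eq_top]
    apply Module.finite_of_finrank_pos
    rw [IntermediateField.finrank_top]
    exact one_pos
  · intro y hy
    have h1 : IsAlgebraic k (y : K) := by
      have := hy.algebraMap (A := K)
      simpa using this
    obtain ⟨c, hc⟩ := hK.2 _ h1
    exact ⟨c, Subtype.ext hc⟩

theorem genus_K0 (hK : IsFunctionField k K) {x : K} (hx : Transcendental k x) :
    genus k k⟮x⟯ = 0 :=
  ((genus_zero_iff (isFunctionField_K0 hK hx)).2
    ⟨IntermediateField.AdjoinSimple.gen k x, adjoin_gen_eq_top x⟩).1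


theorem Ncount_K0 [Finite k] (hK : IsFunctionField k K) {x : K} (hx : Transcendental k x)
    (m : ℕ) (hm : 0 < m) : Ncount k k⟮x⟯ m = Nat.card k ^ m + 1 := by
  have hK0 := isFunctionField_K0 hK hx
  obtain ⟨α, -, hα, -⟩ := Groth.Agent.S11040.result k k⟮x⟯ hK0
  have h1 := Ncount_eq_of_factor hK0 α hα m hm
  haveI : IsEmpty (Fin (2 * FunFld.genus k k⟮x⟯)) := by
    rw [genus_K0 hK hx]; exact Fin.isEmpty'
  rw [Finset.sum_of_isEmpty, sub_zero] at h1
  have h2 : ((Ncount k k⟮x⟯ m : ℕ) : ℂ) = ((Nat.card k ^ m + 1 : ℕ) : ℂ) := by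
    rw [h1]; push_cast; ring
  exact_mod_cast h2

end K0


section Lb

variable {k kb K Kb : Type*} [Field k] [Field kb] [Field K] [Field Kb]
    [Algebra k kb] [Algebra k K] [Algebra K Kb] [Algebra kb Kb] [Algebra k Kb]
    [IsScalarTower k kb Kb] [IsScalarTower k K Kb]

noncomputable instance algK0Lb (x : K) : Algebra k⟮x⟯ kb⟮algebraMap K Kb x⟯ :=
  (((algebraMap K Kb).comp (algebraMap k⟮x⟯ K)).codRestrict kb⟮algebraMap K Kb x⟯
    (fun c => algebraMap_mem_adjoin_simple x c.2)).toAlgebra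

theorem algebraMap_K0_Lb (x : K) (c : k⟮x⟯) :
    ((algebraMap k⟮x⟯ kb⟮algebraMap K Kb x⟯ c : kb⟮algebraMap K Kb x⟯) : Kb) =
      algebraMap K Kb (c : K) := rfl

instance towerkK0Lb (x : K) : IsScalarTower k k⟮x⟯ kb⟮algebraMap K Kb x⟯ :=
  IsScalarTower.of_algebraMap_eq (fun c => by
    apply Subtype.ext
    rw [algebraMap_K0_Lb]
    change algebraMap k Kb c = algebraMap K Kb (algebraMap k K c)
    rw [← IsScalarTower.algebraMap_apply])

theorem hgen_Lb [Algebra.IsAlgebraic k kb] (x : K) :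
    Algebra.adjoin k⟮x⟯ (Set.range (algebraMap kb kb⟮algebraMap K Kb x⟯)) = ⊤ := by
  set xb := algebraMap K Kb x with hxb
  -- work in `Kb` first
  set S : Set Kb := Set.range (algebraMap kb Kb) with hS
  set E : IntermediateField k⟮x⟯ Kb := IntermediateField.adjoin k⟮x⟯ S with hE
  have hEalg : E.toSubalgebra = Algebra.adjoin k⟮x⟯ S := by
    apply IntermediateField.adjoin_toSubalgebra_of_isAlgebraic
    rintro _ ⟨c, rfl⟩
    exact ((Algebra.IsAlgebraic.isAlgebraic (R := k) c).algebraMap).tower_top k⟮x⟯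
  have hkbE : ∀ c : kb, algebraMap kb Kb c ∈ E.toSubfield := fun c =>
    IntermediateField.subset_adjoin _ _ ⟨c, rfl⟩
  set E' : IntermediateField kb Kb := E.toSubfield.toIntermediateField hkbE with hE'
  have hle : kb⟮xb⟯ ≤ E' := by
    rw [IntermediateField.adjoin_simple_le_iff]
    change xb ∈ E
    have : xb = algebraMap k⟮x⟯ Kb (IntermediateField.AdjoinSimple.gen k x) := rfl
    rw [this]
    exact E.algebraMap_mem _
  rw [Algebra.eq_top_iff]
  rintro ⟨z, hz⟩
  have hz1 : z ∈ Algebra.adjoin k⟮x⟯ S := by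
    rw [← hEalg]
    exact hle hz
  suffices h : ∃ h' : z ∈ kb⟮xb⟯, (⟨z, h'⟩ : kb⟮xb⟯) ∈
      Algebra.adjoin k⟮x⟯ (Set.range (algebraMap kb kb⟮xb⟯)) by
    obtain ⟨_, h⟩ := h
    exact h
  clear hz
  induction hz1 using Algebra.adjoin_induction with
  | mem y hy =>
    obtain ⟨c, rfl⟩ := hy
    exact ⟨(algebraMap kb kb⟮xb⟯ c).2, Algebra.subset_adjoin ⟨c, rfl⟩⟩
  | algebraMap c =>
    exact ⟨(algebraMap k⟮x⟯ kb⟮xb⟯ c).2, Subalgebra.algebraMap_mem _ c⟩
  | add y y' _ _ hy hy' =>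
    obtain ⟨h1, h2⟩ := hy
    obtain ⟨h1', h2'⟩ := hy'
    exact ⟨add_mem h1 h1', Subalgebra.add_mem _ h2 h2'⟩
  | mul y y' _ _ hy hy' =>
    obtain ⟨h1, h2⟩ := hy
    obtain ⟨h1', h2'⟩ := hy'
    exact ⟨mul_mem h1 h1', Subalgebra.mul_mem _ h2 h2'⟩


theorem Frob_mem_Lb [Finite k] (Frob : Kb →ₐ[kb] Kb)
    (hFrob : ∀ x : K, Frob (algebraMap K Kb x) = algebraMap K Kb x ^ Nat.card k) (x : K)
    {z : Kb} (hz : z ∈ kb⟮algebraMap K Kb x⟯) : Frob z ∈ kb⟮algebraMap K Kb x⟯ := by
  have h1 : (kb⟮algebraMap K Kb x⟯).map Frob = kb⟮algebraMap K Kb x ^ Nat.card k⟯ := by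
    rw [IntermediateField.adjoin_map]
    simp [hFrob]
  have h2 : kb⟮algebraMap K Kb x ^ Nat.card k⟯ ≤ kb⟮algebraMap K Kb x⟯ := by
    rw [IntermediateField.adjoin_simple_le_iff]
    exact pow_mem (IntermediateField.mem_adjoin_simple_self kb _) _
  have h3 : Frob z ∈ (kb⟮algebraMap K Kb x⟯).map Frob := ⟨z, hz, rfl⟩
  rw [h1] at h3
  exact h2 h3

/-- the restriction of the Frobenius to `kb(x̄)` -/
noncomputable def FrobL [Finite k] (Frob : Kb →ₐ[kb] Kb)
    (hFrob : ∀ x : K, Frob (algebraMap K Kb x) = algebraMap K Kb x ^ Nat.card k) (x : K) :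
    kb⟮algebraMap K Kb x⟯ →ₐ[kb] kb⟮algebraMap K Kb x⟯ where
  toFun z := ⟨Frob z.1, Frob_mem_Lb Frob hFrob x z.2⟩
  map_one' := Subtype.ext (map_one Frob)
  map_mul' a b := Subtype.ext (map_mul Frob a.1 b.1)
  map_zero' := Subtype.ext (map_zero Frob)
  map_add' a b := Subtype.ext (map_add Frob a.1 b.1)
  commutes' c := Subtype.ext (Frob.commutes c)

theorem FrobL_coe [Finite k] (Frob : Kb →ₐ[kb] Kb)
    (hFrob : ∀ x : K, Frob (algebraMap K Kb x) = algebraMap K Kb x ^ Nat.card k) (x : K)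
    (z : kb⟮algebraMap K Kb x⟯) : ((FrobL Frob hFrob x z : kb⟮algebraMap K Kb x⟯) : Kb) = Frob z.1 :=
  rfl

theorem FrobL_pow_coe [Finite k] (Frob : Kb →ₐ[kb] Kb)
    (hFrob : ∀ x : K, Frob (algebraMap K Kb x) = algebraMap K Kb x ^ Nat.card k) (x : K) (m : ℕ)
    (z : kb⟮algebraMap K Kb x⟯) :
    (((FrobL Frob hFrob x) ^ m) z : Kb) = (Frob ^ m) z.1 := by
  induction m generalizing z with
  | zero => rfl
  | succ m ih =>
    rw [pow_succ, pow_succ, AlgHom.mul_apply, AlgHom.mul_apply, ih, FrobL_coe]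

theorem FrobL_apply [Finite k] (Frob : Kb →ₐ[kb] Kb)
    (hFrob : ∀ x : K, Frob (algebraMap K Kb x) = algebraMap K Kb x ^ Nat.card k) (x : K)
    (c : k⟮x⟯) :
    FrobL Frob hFrob x (algebraMap k⟮x⟯ kb⟮algebraMap K Kb x⟯ c) =
      algebraMap k⟮x⟯ kb⟮algebraMap K Kb x⟯ c ^ Nat.card k := by
  apply Subtype.ext
  rw [FrobL_coe, algebraMap_K0_Lb, hFrob]
  rfl

end Lb

end Groth.Agent.Lib.Helper26.HW
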