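import Mathlib
import Groth.Agent.Lib.Helper26.HW6
import Groth.Agent.S11053
import Groth.Agent.Lib.Helper26.HW2

set_option autoImplicit false
set_option linter.unusedSectionVars false
open scoped WithZero TensorProduct IntermediateField
open FunFld Polynomial
open Groth.Agent.Lib.Helper2.FF

universe u v w

namespace Groth.Agent.Lib.Helper26.HW

section Ext

/-- an endomorphism of the base extends to a splitting field when the twisted polynomial
splits -/
theorem exists_extension {Kb Eb : Type*} [Field Kb] [Field Eb] [Algebra Kb Eb] (f : Kb[X])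
    [IsSplittingField Kb Eb f] (φ : Kb →+* Kb)
    (hsplit : (f.map ((algebraMap Kb Eb).comp φ)).Splits) :
    ∃ ψ : Eb →+* Eb, ∀ z, ψ (algebraMap Kb Eb z) = algebraMap Kb Eb (φ z) := by
  let ψ := @IsSplittingField.lift Eb Kb Eb _ _ _ ‹Algebra Kb Eb›
    (((algebraMap Kb Eb).comp φ).toAlgebra) f ‹_› hsplit
  exact ⟨RingHomClass.toRingHom ψ, fun z => @AlgHom.commutes Kb Eb Eb _ _ _ ‹Algebra Kb Eb›
    (((algebraMap Kb Eb).comp φ).toAlgebra) ψ z⟩


/-- descent of the splitting-field property along a simple extension generated by a root -/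
theorem isSplittingField_of_tower {Lb Kb Eb : Type*} [Field Lb] [Field Kb] [Field Eb]
    [Algebra Lb Kb] [Algebra Kb Eb] [Algebra Lb Eb] [IsScalarTower Lb Kb Eb] (g : Lb[X])
    [IsSplittingField Kb Eb (g.map (algebraMap Lb Kb))] (y : Kb) (hy : aeval y g = 0)
    (hg0 : g ≠ 0) (hgen : Algebra.adjoin Lb {y} = ⊤) : IsSplittingField Lb Eb g := by
  have hmap : g.map (algebraMap Lb Eb) = (g.map (algebraMap Lb Kb)).map (algebraMap Kb Eb) := by
    rw [Polynomial.map_map, ← IsScalarTower.algebraMap_eq]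
  have hroot : ∀ r : Eb, r ∈ (g.map (algebraMap Lb Kb)).rootSet Eb → r ∈ g.rootSet Eb := by
    intro r hr
    rw [mem_rootSet] at hr ⊢
    refine ⟨hg0, ?_⟩
    have := hr.2
    rw [aeval_def, eval₂_map, ← IsScalarTower.algebraMap_eq] at this
    rw [aeval_def]
    exact this
  refine ⟨?_, ?_⟩
  · rw [hmap]
    exact IsSplittingField.splits Eb (g.map (algebraMap Lb Kb))
  · rw [Algebra.eq_top_iff]
    intro w
    have hw : w ∈ Algebra.adjoin Kb ((g.map (algebraMap Lb Kb)).rootSet Eb : Set Eb) := by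
      rw [IsSplittingField.adjoin_rootSet]; trivial
    induction hw using Algebra.adjoin_induction with
    | mem r hr => exact Algebra.subset_adjoin (hroot r hr)
    | algebraMap z =>
      have hz : z ∈ Algebra.adjoin Lb {y} := by rw [hgen]; trivial
      induction hz using Algebra.adjoin_induction with
      | mem z' hz' =>
        rw [Set.mem_singleton_iff] at hz'
        subst hz'
        apply Algebra.subset_adjoin
        rw [mem_rootSet]
        refine ⟨hg0, ?_⟩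
        rw [aeval_algebraMap_apply, hy, map_zero]
      | algebraMap c =>
        rw [← IsScalarTower.algebraMap_apply]
        exact Subalgebra.algebraMap_mem _ c
      | add a b _ _ ha hb => rw [map_add]; exact Subalgebra.add_mem _ ha hb
      | mul a b _ _ ha hb => rw [map_mul]; exact Subalgebra.mul_mem _ ha hb
    | add a b _ _ ha hb => exact Subalgebra.add_mem _ ha hb
    | mul a b _ _ ha hb => exact Subalgebra.mul_mem _ ha hb

end Ext


section Bound

variable {kb Eb : Type*} [Field kb] [IsAlgClosed kb] [Field Eb] [Algebra kb Eb]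

/-- the constant in the Bombieri bound -/
noncomputable def CB (kb Eb : Type*) [Field kb] [Field Eb] [Algebra kb Eb] : ℝ :=
  2 * (FunFld.genus kb Eb : ℝ) + 2 * (FunFld.genus kb Eb : ℝ) ^ 3

theorem CB_nonneg : 0 ≤ CB kb Eb := by unfold CB; positivity

/-- Bombieri's bound (S11053) in the form used below -/
theorem SFix_bound (hE : IsFunctionField kb Eb) (τ : Eb →ₐ[kb] Eb) (n : ℕ)
    (hn : FunFld.genus kb Eb < n) (hD : Module.finrank τ.fieldRange Eb ≤ n ^ 2) :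
    (SFix τ).Finite ∧ ((SFix τ).ncard : ℝ) ≤ (n : ℝ) ^ 2 + 1 + CB kb Eb * n := by
  obtain ⟨h1, h2⟩ := Groth.Agent.S11053.result kb Eb hE τ n hn
  refine ⟨h1, ?_⟩
  change ((SFix τ).ncard : ℝ) ≤ _ at h2
  refine h2.trans ?_
  set g : ℝ := (FunFld.genus kb Eb : ℝ) with hg
  set D : ℝ := (Module.finrank τ.fieldRange Eb : ℝ) with hDdef
  have hg0 : 0 ≤ g := Nat.cast_nonneg _
  have hn1 : (1 : ℝ) ≤ n := by
    have : 1 ≤ n := by omega
    exact_mod_cast this
  have hn0 : (0 : ℝ) < n := by linarith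
  have hD' : D ≤ (n : ℝ) ^ 2 := by
    rw [hDdef]; exact_mod_cast hD
  have hDn : D / n ≤ n := by
    rw [div_le_iff₀ hn0]
    nlinarith
  have h3 : (↑n + D / ↑n) * g ≤ 2 * g * n := by
    have : (↑n + D / ↑n) ≤ 2 * n := by linarith
    nlinarith
  have h4 : 2 * g ^ 2 * (g - 1) / ↑n ≤ 2 * g ^ 3 * n := by
    rw [div_le_iff₀ hn0]
    have h5 : 2 * g ^ 2 * (g - 1) ≤ 2 * g ^ 3 := by nlinarith [sq_nonneg g]
    have h6 : 2 * g ^ 3 ≤ 2 * g ^ 3 * ↑n * ↑n := by
      have h7 : 0 ≤ 2 * g ^ 3 := by positivity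
      have h8 : (1 : ℝ) ≤ ↑n * ↑n := by nlinarith
      calc 2 * g ^ 3 = 2 * g ^ 3 * 1 := by ring
        _ ≤ 2 * g ^ 3 * (↑n * ↑n) := mul_le_mul_of_nonneg_left h8 h7
        _ = 2 * g ^ 3 * ↑n * ↑n := by ring
    linarith
  unfold CB
  rw [← hg]
  nlinarith

end Bound


section Main

theorem isFunctionField_of_finite {kb Lb Eb : Type*} [Field kb] [IsAlgClosed kb] [Field Lb]
    [Field Eb] [Algebra kb Lb] [Algebra kb Eb] [Algebra Lb Eb] [IsScalarTower kb Lb Eb]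
    [FiniteDimensional Lb Eb] (hL : IsFunctionField kb Lb) : IsFunctionField kb Eb := by
  refine ⟨isFFw_of_finite hL, ?_⟩
  intro y hy
  have h1 : IsIntegral kb y := hy.isIntegral
  have h2 := IsAlgClosed.degree_eq_one_of_irreducible kb (minpoly.irreducible h1)
  exact minpoly.mem_range_of_degree_eq_one kb y h2

variable {k kb : Type u} {K : Type v} {Kb : Type w} [Field k] [Field kb] [Field K] [Field Kb]
    [Algebra k kb] [Algebra k K] [Algebra K Kb] [Algebra kb Kb] [Algebra k Kb]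
    [IsScalarTower k kb Kb] [IsScalarTower k K Kb]

theorem finrank_algHom_fieldRange_le [Finite k] (Frob : Kb →ₐ[kb] Kb)
    (hFrob : ∀ x : K, Frob (algebraMap K Kb x) = algebraMap K Kb x ^ Nat.card k) (x : K)
    {Eb : Type*} [Field Eb] [Algebra kb⟮algebraMap K Kb x⟯ Eb] [Algebra kb Eb]
    [IsScalarTower kb kb⟮algebraMap K Kb x⟯ Eb] [FiniteDimensional kb⟮algebraMap K Kb x⟯ Eb]
    (m : ℕ) (τ : Eb →ₐ[kb] Eb)
    (hτ : ∀ z : kb⟮algebraMap K Kb x⟯, τ (algebraMap kb⟮algebraMap K Kb x⟯ Eb z) =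
      algebraMap kb⟮algebraMap K Kb x⟯ Eb (((FrobL Frob hFrob x) ^ m) z)) :
    Module.finrank τ.fieldRange Eb ≤ Nat.card k ^ m := by
  have h1 := finrank_fieldRange_eq (τ : Eb →+* Eb)
    (((FrobL Frob hFrob x) ^ m : kb⟮algebraMap K Kb x⟯ →ₐ[kb] kb⟮algebraMap K Kb x⟯) :
      kb⟮algebraMap K Kb x⟯ →+* kb⟮algebraMap K Kb x⟯) hτ
  have h2 := finrank_fieldRange_le (kb := kb) (IntermediateField.AdjoinSimple.gen kb (algebraMap K Kb x))
    (adjoin_gen_eq_top (k := kb) (algebraMap K Kb x)) ((FrobL Frob hFrob x) ^ m)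
    (Nat.card k ^ m) (pow_pos Nat.card_pos m) (by
      apply Subtype.ext
      rw [FrobL_pow_coe]
      exact frob_pow_K Frob hFrob m x)
  calc Module.finrank τ.fieldRange Eb
      = Module.finrank (τ : Eb →+* Eb).fieldRange Eb := rfl
    _ = _ := h1
    _ ≤ Nat.card k ^ m := h2


theorem real_lower_aux (nG nK N n B R : ℕ) (CE : ℝ) (hCE : 0 ≤ CE) (hnK : 1 ≤ nK)
    (hle : nK ≤ nG) (hn : 1 ≤ n)
    (hB : (B : ℝ) ≤ (n : ℝ) ^ 2 + 1 + CE * n)
    (h : nG * (n ^ 2 + 1) ≤ nK * N + (nG - nK) * B + nG * R) :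
    -((nG : ℝ) * CE + nG * R) * n ≤ (N : ℝ) - (n : ℝ) ^ 2 - 1 := by
  have h1 : ((nG * (n ^ 2 + 1) : ℕ) : ℝ) ≤ ((nK * N + (nG - nK) * B + nG * R : ℕ) : ℝ) := by
    exact_mod_cast h
  push_cast [Nat.cast_sub hle] at h1
  have hnKr : (1 : ℝ) ≤ nK := by exact_mod_cast hnK
  have hnr : (1 : ℝ) ≤ n := by exact_mod_cast hn
  have hGK : (0 : ℝ) ≤ (nG : ℝ) - nK := by
    have : (nK : ℝ) ≤ nG := by exact_mod_cast hle
    linarith
  have hR0 : (0 : ℝ) ≤ R := Nat.cast_nonneg _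
  have hG0 : (0 : ℝ) ≤ nG := Nat.cast_nonneg _
  have h2 : ((nG : ℝ) - nK) * B ≤ ((nG : ℝ) - nK) * ((n : ℝ) ^ 2 + 1 + CE * n) :=
    mul_le_mul_of_nonneg_left hB hGK
  -- nK * (N - n^2 - 1) ≥ -((nG - nK) CE n + nG R)
  have h3 : -(((nG : ℝ) - nK) * (CE * n) + nG * R) ≤ (nK : ℝ) * ((N : ℝ) - (n : ℝ) ^ 2 - 1) := by
    nlinarith
  have h4 : ((nG : ℝ) - nK) * (CE * n) + nG * R ≤ ((nG : ℝ) * CE + nG * R) * n := by
    have h5 : ((nG : ℝ) - nK) * (CE * n) ≤ (nG : ℝ) * CE * n := by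
      have : ((nG : ℝ) - nK) ≤ nG := by linarith
      have h6 : 0 ≤ CE * n := by positivity
      calc ((nG : ℝ) - nK) * (CE * n) ≤ (nG : ℝ) * (CE * n) := mul_le_mul_of_nonneg_right this h6
        _ = (nG : ℝ) * CE * n := by ring
    have h7 : (nG : ℝ) * R ≤ (nG : ℝ) * R * n := by
      have : 0 ≤ (nG : ℝ) * R := by positivity
      calc (nG : ℝ) * R = (nG : ℝ) * R * 1 := by ring
        _ ≤ (nG : ℝ) * R * n := mul_le_mul_of_nonneg_left hnr this
    linarith
  set a : ℝ := (N : ℝ) - (n : ℝ) ^ 2 - 1 with ha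
  set c : ℝ := ((nG : ℝ) * CE + nG * R) * n with hc
  have hc0 : 0 ≤ c := by positivity
  have h8 : -c ≤ (nK : ℝ) * a := by linarith
  by_cases ha0 : 0 ≤ a
  · linarith
  · push Not at ha0
    have : (nK : ℝ) * a ≤ a := by nlinarith
    linarith


theorem weilBound_of_tower [Finite k] [IsAlgClosed kb] [Algebra.IsAlgebraic k kb]
    (hK : IsFunctionField k K)
    (hgen : Algebra.adjoin K (Set.range (algebraMap kb Kb)) = ⊤)
    (Frob : Kb →ₐ[kb] Kb)
    (hFrob : ∀ x : K, Frob (algebraMap K Kb x) = algebraMap K Kb x ^ Nat.card k)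
    (x : K) (hx : Transcendental k x)
    {Eb : Type*} [Field Eb] [Algebra Kb Eb] [Algebra kb Eb] [IsScalarTower kb Kb Eb]
    [FiniteDimensional kb⟮algebraMap K Kb x⟯ Eb] [IsGalois kb⟮algebraMap K Kb x⟯ Eb]
    (τE : Eb →ₐ[kb] Eb) (hτE : ∀ z : Kb, τE (algebraMap Kb Eb z) = algebraMap Kb Eb (Frob z)) :
    WeilBound k K := by
  classical
  have hKb : IsFunctionField kb Kb := isFunctionField_closure hK hgen
  have hK0 : IsFunctionField k k⟮x⟯ := isFunctionField_K0 hK hx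
  have hLb : IsFunctionField kb kb⟮algebraMap K Kb x⟯ := isFunctionField_closure hK0 (hgen_Lb x)
  have hE : IsFunctionField kb Eb := isFunctionField_of_finite (Lb := kb⟮algebraMap K Kb x⟯) hLb
  have : FiniteDimensional kb⟮algebraMap K Kb x⟯ Kb := FiniteDimensional.left kb⟮algebraMap K Kb x⟯ Kb Eb
  have : FiniteDimensional Kb Eb := FiniteDimensional.right kb⟮algebraMap K Kb x⟯ Kb Eb
  set FL := FrobL Frob hFrob x with hFL
  obtain ⟨q, hq⟩ : ∃ q : ℕ, q = Nat.card k := ⟨_, rfl⟩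
  have hq2 : 2 ≤ q := by rw [hq]; exact Finite.one_lt_card
  -- compatibilities
  have hΦK : ∀ (m : ℕ) (z : Kb), (τE ^ m) (algebraMap Kb Eb z) = algebraMap Kb Eb ((Frob ^ m) z) := by
    intro m
    induction m with
    | zero => intro z; rfl
    | succ m ih =>
      intro z
      rw [pow_succ, pow_succ, AlgHom.mul_apply, AlgHom.mul_apply, hτE, ih]
  have hΦLK : ∀ (m : ℕ) (z : kb⟮algebraMap K Kb x⟯), (Frob ^ m) (algebraMap kb⟮algebraMap K Kb x⟯ Kb z) =
      algebraMap kb⟮algebraMap K Kb x⟯ Kb ((FL ^ m) z) := fun m z => (FrobL_pow_coe Frob hFrob x m z).symm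
  have hΦLE : ∀ (m : ℕ) (z : kb⟮algebraMap K Kb x⟯), (τE ^ m) (algebraMap kb⟮algebraMap K Kb x⟯ Eb z) =
      algebraMap kb⟮algebraMap K Kb x⟯ Eb ((FL ^ m) z) := fun m z => by
    rw [IsScalarTower.algebraMap_apply kb⟮algebraMap K Kb x⟯ Kb Eb, hΦK, hΦLK, ← IsScalarTower.algebraMap_apply]
  -- constants
  set nG := Module.finrank kb⟮algebraMap K Kb x⟯ Eb with hnG
  set nK := Module.finrank Kb Eb with hnK
  have hnKpos : 1 ≤ nK := Module.finrank_pos
  have hnKG : nK ≤ nG := by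
    have := Module.finrank_mul_finrank kb⟮algebraMap K Kb x⟯ Kb Eb
    rw [← hnG, ← hnK] at this
    have hpos : 1 ≤ Module.finrank kb⟮algebraMap K Kb x⟯ Kb := Module.finrank_pos
    calc nK = 1 * nK := (one_mul _).symm
      _ ≤ Module.finrank kb⟮algebraMap K Kb x⟯ Kb * nK := Nat.mul_le_mul_right _ hpos
      _ = nG := this
  set R := (Ram kb kb⟮algebraMap K Kb x⟯ Eb).ncard with hR
  set gK := FunFld.genus kb Kb with hgK
  set gE := FunFld.genus kb Eb with hgE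
  refine ⟨CB kb Kb + ((nG : ℝ) * CB kb Eb + nG * R), max gK gE + 1, fun r hr => ?_⟩
  have hr1 : 1 ≤ r := le_trans (Nat.le_add_left 1 _) hr
  set n := q ^ r with hn
  have hrn : r < n := Nat.lt_pow_self hq2
  have hgKn : gK < n := by
    have : gK < r := lt_of_lt_of_le (Nat.lt_succ_of_le (le_max_left gK gE)) hr
    omega
  have hgEn : gE < n := by
    have : gE < r := lt_of_lt_of_le (Nat.lt_succ_of_le (le_max_right gK gE)) hr
    omega
  have hn1 : 1 ≤ n := by omega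
  have hm : 0 < 2 * r := by omega
  have hn2 : n ^ 2 = q ^ (2 * r) := by rw [hn, ← pow_mul, mul_comm]
  -- level results
  obtain ⟨hfinK, hcardK, hWSK⟩ := card_WFix_pow hK hKb hgen Frob hFrob (2 * r) hm
  obtain ⟨hfinL, hcardL, hWSL⟩ := card_WFix_pow hK0 hLb (hgen_Lb x) FL
    (FrobL_apply Frob hFrob x) (2 * r) hm
  rw [Ncount_K0 hK hx (2 * r) hm] at hcardL
  -- upper bound
  have hupper : (Ncount k K (2 * r) : ℝ) ≤ (n : ℝ) ^ 2 + 1 + CB kb Kb * n := by
    have hD : Module.finrank (Frob ^ (2 * r)).fieldRange Kb ≤ n ^ 2 := by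
      rw [hn2, hq]
      exact finrank_algHom_fieldRange_le Frob hFrob x (2 * r) (Frob ^ (2 * r)) (hΦLK (2 * r))
    obtain ⟨hSfin, hSle⟩ := SFix_bound hKb (Frob ^ (2 * r)) n hgKn hD
    rw [← hcardK]
    refine le_trans ?_ hSle
    exact_mod_cast Set.ncard_le_ncard hWSK hSfin
  -- lower bound
  set B : ℕ := ⌊(n : ℝ) ^ 2 + 1 + CB kb Eb * n⌋₊ with hBdef
  have hBnn : (0 : ℝ) ≤ (n : ℝ) ^ 2 + 1 + CB kb Eb * n := by
    have := CB_nonneg (kb := kb) (Eb := Eb)
    positivity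
  have hB : ∀ σ : Eb ≃ₐ[kb⟮algebraMap K Kb x⟯] Eb,
      (SFix ((τE ^ (2 * r)).comp ((σ.restrictScalars kb : Eb ≃ₐ[kb] Eb) : Eb →ₐ[kb] Eb))).Finite ∧
      (SFix ((τE ^ (2 * r)).comp
        ((σ.restrictScalars kb : Eb ≃ₐ[kb] Eb) : Eb →ₐ[kb] Eb))).ncard ≤ B := by
    intro σ
    have hD : Module.finrank ((τE ^ (2 * r)).comp
        ((σ.restrictScalars kb : Eb ≃ₐ[kb] Eb) : Eb →ₐ[kb] Eb)).fieldRange Eb ≤ n ^ 2 := by
      rw [hn2, hq]
      apply finrank_algHom_fieldRange_le Frob hFrob x (2 * r)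
      intro z
      change (τE ^ (2 * r)) (σ (algebraMap kb⟮algebraMap K Kb x⟯ Eb z)) = _
      rw [σ.commutes, hΦLE]
    obtain ⟨hSfin, hSle⟩ := SFix_bound hE _ n hgEn hD
    exact ⟨hSfin, Nat.le_floor hSle⟩
  have hcount := counting hLb hKb hE (τE ^ (2 * r)) (Frob ^ (2 * r)) (FL ^ (2 * r))
    (hΦK (2 * r)) (hΦLK (2 * r)) hWSL hfinL hfinK B hB
  rw [hcardK, hcardL, ← hnG, ← hnK, ← hR, ← hq, ← hn2] at hcount
  have hlower := real_lower_aux nG nK (Ncount k K (2 * r)) n B R (CB kb Eb) CB_nonneg hnKpos hnKG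
    hn1 (Nat.floor_le hBnn) hcount
  -- conclude
  have hqn : ((q : ℝ)) ^ (2 * r) = (n : ℝ) ^ 2 := by
    rw [hn]; push_cast; rw [← pow_mul, mul_comm]
  have hqr : ((q : ℝ)) ^ r = (n : ℝ) := by rw [hn]; push_cast; rfl
  rw [← hq, hqn, hqr, abs_le]
  have hCK := CB_nonneg (kb := kb) (Eb := Kb)
  have hCE := CB_nonneg (kb := kb) (Eb := Eb)
  have hnr : (0 : ℝ) ≤ n := Nat.cast_nonneg _
  have hX : (0 : ℝ) ≤ ((nG : ℝ) * CB kb Eb + nG * R) * n := by positivity
  have hY : (0 : ℝ) ≤ CB kb Kb * n := by positivity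
  constructor
  · nlinarith
  · nlinarith

end Main

end Groth.Agent.Lib.Helper26.HW
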