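import Mathlib
import Groth.Agent.Lib.Helper26.HW7
import Groth.Agent.Lib.Helper9.FunFldSep

set_option autoImplicit false
set_option linter.unusedSectionVars false
set_option linter.style.haveILetI false
open scoped WithZero TensorProduct IntermediateField
open FunFld Polynomial
open Groth.Agent.Lib.Helper2.FF

universe u v w

namespace Groth.Agent.Lib.Helper26.HW

section Sep

/-- a function field over a perfect field has a separating variable -/
theorem exists_separating_of_perfect {k : Type u} {K : Type v} [Field k] [Field K] [Algebra k K]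
    [PerfectField k] (hK : IsFunctionField k K) :
    ∃ x : K, Transcendental k x ∧ FiniteDimensional k⟮x⟯ K ∧ Algebra.IsSeparable k⟮x⟯ K := by
  obtain ⟨⟨x₁, hx₁, hfin₁⟩, -⟩ := hK
  have hess : Algebra.EssFiniteType k K :=
    Groth.Agent.Lib.Helper9.FunFld.essFiniteType_of_finite_adjoin hfin₁
  obtain ⟨s, hs, hsep⟩ := exists_isTranscendenceBasis_and_isSeparable_of_perfectField k K
  have hcard : Cardinal.mk (s : Set K) = 1 := by
    have := hs.cardinalMk_eq_trdeg
    rw [Groth.Agent.Lib.Helper9.FunFld.trdeg_eq_one hx₁ hfin₁] at this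
    exact this
  have hcard' : s.card = 1 := by
    have h1 : Cardinal.mk (s : Set K) = (s.card : Cardinal) := by simp
    rw [h1] at hcard
    exact_mod_cast hcard
  obtain ⟨t, rfl⟩ := Finset.card_eq_one.mp hcard'
  have ht : Transcendental k t := hs.1.transcendental ⟨t, by simp⟩
  refine ⟨t, ht, Groth.Agent.Lib.Helper9.FunFld.finite_adjoin_of_transcendental hx₁ hfin₁ ht, ?_⟩
  rw [Finset.coe_singleton] at hsep
  exact hsep

end Sep

section Tower

variable {k kb : Type u} {K : Type v} {Kb : Type w} [Field k] [Field kb] [Field K] [Field Kb]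
    [Algebra k kb] [Algebra k K] [Algebra K Kb] [Algebra kb Kb] [Algebra k Kb]
    [IsScalarTower k kb Kb] [IsScalarTower k K Kb]

/-- the composite `k(x) → K → Kb` factors through `Lb = kb(x)` -/
theorem algebraMap_Lb_comp (x : K) :
    (algebraMap kb⟮algebraMap K Kb x⟯ Kb).comp (algebraMap k⟮x⟯ kb⟮algebraMap K Kb x⟯) =
      (algebraMap K Kb).comp (algebraMap k⟮x⟯ K) := by
  ext c
  rfl

/-- `Kb` is generated over `Lb = kb(x)` by a primitive element of `K / k(x)` -/
theorem adjoin_Lb_eq_top (hgen : Algebra.adjoin K (Set.range (algebraMap kb Kb)) = ⊤)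
    (x y₀ : K) (hy₀ : Algebra.adjoin k⟮x⟯ {y₀} = ⊤) :
    Algebra.adjoin kb⟮algebraMap K Kb x⟯ {algebraMap K Kb y₀} = ⊤ := by
  rw [Algebra.eq_top_iff]
  intro z
  have hz : z ∈ Algebra.adjoin K (Set.range (algebraMap kb Kb)) := by rw [hgen]; trivial
  induction hz using Algebra.adjoin_induction with
  | mem z' hz' =>
    obtain ⟨c, rfl⟩ := hz'
    have : algebraMap kb Kb c = algebraMap kb⟮algebraMap K Kb x⟯ Kb
        (algebraMap kb kb⟮algebraMap K Kb x⟯ c) := rfl
    rw [this]
    exact Subalgebra.algebraMap_mem _ _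
  | algebraMap w =>
    have hw : w ∈ Algebra.adjoin k⟮x⟯ {y₀} := by rw [hy₀]; trivial
    induction hw using Algebra.adjoin_induction with
    | mem w' hw' =>
      rw [Set.mem_singleton_iff] at hw'
      subst hw'
      exact Algebra.subset_adjoin rfl
    | algebraMap c =>
      have : algebraMap K Kb (algebraMap k⟮x⟯ K c) = algebraMap kb⟮algebraMap K Kb x⟯ Kb
        (algebraMap k⟮x⟯ kb⟮algebraMap K Kb x⟯ c) := rfl
      rw [this]
      exact Subalgebra.algebraMap_mem _ _
    | add a b _ _ ha hb => rw [map_add]; exact Subalgebra.add_mem _ ha hb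
    | mul a b _ _ ha hb => rw [map_mul]; exact Subalgebra.mul_mem _ ha hb
  | add a b _ _ ha hb => exact Subalgebra.add_mem _ ha hb
  | mul a b _ _ ha hb => exact Subalgebra.mul_mem _ ha hb

/-- the Weil bound, given a splitting field of the minimal polynomial of a primitive element -/
theorem weilBound_of_splitting [Finite k] [IsAlgClosed kb] [Algebra.IsAlgebraic k kb]
    (hK : IsFunctionField k K)
    (hgen : Algebra.adjoin K (Set.range (algebraMap kb Kb)) = ⊤)
    (Frob : Kb →ₐ[kb] Kb)
    (hFrob : ∀ x : K, Frob (algebraMap K Kb x) = algebraMap K Kb x ^ Nat.card k)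
    (x : K) (hx : Transcendental k x) [FiniteDimensional k⟮x⟯ K] [Algebra.IsSeparable k⟮x⟯ K]
    (y₀ : K) (hy₀ : Algebra.adjoin k⟮x⟯ {y₀} = ⊤)
    {Eb : Type*} [Field Eb] [Algebra Kb Eb] [Algebra kb Eb] [IsScalarTower kb Kb Eb]
    [IsSplittingField Kb Eb ((minpoly k⟮x⟯ y₀).map ((algebraMap K Kb).comp (algebraMap k⟮x⟯ K)))] :
    WeilBound k K := by
  have hint : IsIntegral k⟮x⟯ y₀ := Algebra.IsIntegral.isIntegral y₀
  have hμsep : (minpoly k⟮x⟯ y₀).Separable := Algebra.IsSeparable.isSeparable k⟮x⟯ y₀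
  have hμmonic : (minpoly k⟮x⟯ y₀).Monic := minpoly.monic hint
  -- the polynomial over `Lb`
  obtain ⟨g, hg⟩ : ∃ g : (kb⟮algebraMap K Kb x⟯)[X],
      g = (minpoly k⟮x⟯ y₀).map (algebraMap k⟮x⟯ kb⟮algebraMap K Kb x⟯) := ⟨_, rfl⟩
  have hgf : g.map (algebraMap kb⟮algebraMap K Kb x⟯ Kb) =
      (minpoly k⟮x⟯ y₀).map ((algebraMap K Kb).comp (algebraMap k⟮x⟯ K)) := by
    rw [hg, Polynomial.map_map, algebraMap_Lb_comp]
  have hgmonic : g.Monic := by rw [hg]; exact hμmonic.map _
  have hg0 : g ≠ 0 := hgmonic.ne_zero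
  have hgsep : g.Separable := by rw [hg]; exact hμsep.map
  have hyroot : aeval (algebraMap K Kb y₀) g = 0 := by
    rw [aeval_def, ← eval_map, hgf, eval_map, ← Polynomial.hom_eval₂, ← aeval_def, minpoly.aeval,
      map_zero]
  haveI : IsSplittingField Kb Eb (g.map (algebraMap kb⟮algebraMap K Kb x⟯ Kb)) := by
    rw [hgf]; infer_instance
  haveI hsf : IsSplittingField kb⟮algebraMap K Kb x⟯ Eb g :=
    isSplittingField_of_tower g (algebraMap K Kb y₀) hyroot hg0 (adjoin_Lb_eq_top hgen x y₀ hy₀)
  haveI : FiniteDimensional kb⟮algebraMap K Kb x⟯ Eb := IsSplittingField.finiteDimensional Eb g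
  haveI : IsGalois kb⟮algebraMap K Kb x⟯ Eb := IsGalois.of_separable_splitting_field hgsep
  -- extend Frobenius
  letI : Algebra k Eb := ((algebraMap kb Eb).comp (algebraMap k kb)).toAlgebra
  obtain ⟨ψ, hψ⟩ := exists_extension
    ((minpoly k⟮x⟯ y₀).map ((algebraMap K Kb).comp (algebraMap k⟮x⟯ K))) (Frob : Kb →+* Kb) (by
      have h1 : ((minpoly k⟮x⟯ y₀).map ((algebraMap K Kb).comp (algebraMap k⟮x⟯ K))).map
          ((algebraMap Kb Eb).comp (Frob : Kb →+* Kb)) =
          (((minpoly k⟮x⟯ y₀).map ((algebraMap K Kb).comp (algebraMap k⟮x⟯ K))).map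
            (algebraMap Kb Eb)).map (frobK k Eb : Eb →+* Eb) := by
        rw [Polynomial.map_map, Polynomial.map_map, Polynomial.map_map]
        congr 1
        ext c
        simp only [RingHom.comp_apply, RingHom.coe_coe]
        rw [hFrob, frobK_apply, map_pow]
      rw [h1]
      exact (IsSplittingField.splits Eb _).map _)
  let τE : Eb →ₐ[kb] Eb :=
    { ψ with
      commutes' := fun c => by
        change ψ (algebraMap kb Eb c) = algebraMap kb Eb c
        rw [IsScalarTower.algebraMap_apply kb Kb Eb, hψ]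
        congr 1
        exact Frob.commutes c }
  exact weilBound_of_tower hK hgen Frob hFrob x hx τE (fun z => hψ z)

end Tower

section Final

/-- **The Weil bound** for a function field over a finite field. -/
theorem weilBound {k : Type u} {K : Type v} [Field k] [Finite k] [Field K] [Algebra k K]
    (hK : IsFunctionField k K) : WeilBound k K := by
  haveI : PerfectField k := PerfectField.ofFinite
  have hfield : IsField (Tens k K) := isField_tensor (kb := AlgebraicClosure k) hK
  haveI : (⊥ : Ideal (Tens k K)).IsMaximal := by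
    letI := hfield.toField
    exact Ideal.bot_isMaximal
  letI : Field (Kbar k K) := Ideal.Quotient.field ⊥
  obtain ⟨x, hx, hfin, hsep⟩ := exists_separating_of_perfect hK
  obtain ⟨y₀, hy₀⟩ := Field.exists_primitive_element k⟮x⟯ K
  have hy₀' : Algebra.adjoin k⟮x⟯ {y₀} = ⊤ := by
    have hint : IsIntegral k⟮x⟯ y₀ := Algebra.IsIntegral.isIntegral y₀
    rw [← IntermediateField.adjoin_simple_toSubalgebra_of_isAlgebraic hint.isAlgebraic, hy₀]
    rfl
  exact weilBound_of_splitting (kb := AlgebraicClosure k) (Kb := Kbar k K) hK (hgen_Kbar k K)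
    (Frob k K) (Frob_apply k K) x hx y₀ hy₀'
    (Eb := ((minpoly k⟮x⟯ y₀).map ((algebraMap K (Kbar k K)).comp
      (algebraMap k⟮x⟯ K))).SplittingField)

end Final

end Groth.Agent.Lib.Helper26.HW
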