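import Mathlib
import Groth.Agent.Lib.Helper26.PPolyA

set_option autoImplicit false
set_option linter.unusedVariables false
set_option linter.style.haveILetI false

open MvPolynomial

namespace Groth.Agent.Lib.Helper26.HirzA

universe u

variable (k : Type u) [Field k] (n : ℕ)

open KaehlerDifferential TensorProduct in
/-- Jacobian criterion, converse direction: a hypersurface whose Jacobian ideal is the unit ideal is
smooth. -/
theorem smooth_of_jac (f : MvPolynomial (Fin n) k)
    (h1 : (1 : MvPolynomial (Fin n) k) ∈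
      Ideal.span ({f} ∪ Set.range (fun i : Fin n => pderiv i f))) :
    Algebra.Smooth k (MvPolynomial (Fin n) k ⧸ Ideal.span {f}) := by
  classical
  let P := MvPolynomial (Fin n) k
  let A := P ⧸ Ideal.span {f}
  have hsurj : Function.Surjective (algebraMap P A) := Ideal.Quotient.mk_surjective
  have hker : RingHom.ker (algebraMap P A) = Ideal.span {f} := Ideal.mk_ker
  obtain ⟨w, u, hwu⟩ : ∃ (w : P) (u : Fin n → P), (1 : P) = w * f + ∑ i, u i * pderiv i f := by
    rw [Ideal.span_union, Submodule.mem_sup] at h1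
    obtain ⟨a, ha, b, hb, hab⟩ := h1
    obtain ⟨w, rfl⟩ := Ideal.mem_span_singleton'.mp ha
    obtain ⟨c, rfl⟩ := Ideal.mem_span_range_iff_exists_fun.mp hb
    exact ⟨w, c, hab.symm⟩
  have hfmem : f ∈ RingHom.ker (algebraMap P A) := by
    rw [hker]
    exact Ideal.mem_span_singleton_self f
  let I := RingHom.ker (algebraMap P A)
  have htors : Module.IsTorsionBySet P I.Cotangent (Ideal.span {f} : Ideal P) := by
    intro m x
    exact Ideal.Cotangent.smul_eq_zero_of_mem ((SetLike.ext_iff.mp hker _).mpr x.2) m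
  letI : Module A I.Cotangent := htors.module
  haveI : IsScalarTower P A I.Cotangent := htors.isScalarTower
  have humem : ∀ i, u i * f ∈ I := fun i => Ideal.mul_mem_left _ _ hfmem
  let l₀ : Ω[P⁄k] →ₗ[P] I.Cotangent :=
    (mvPolynomialBasis k (Fin n)).constr P (fun i => I.toCotangent ⟨u i * f, humem i⟩)
  have hl₀ : ∀ i, l₀ (D k P (X i)) = I.toCotangent ⟨u i * f, humem i⟩ := by
    intro i
    have := (mvPolynomialBasis k (Fin n)).constr_basis P
      (fun i => I.toCotangent ⟨u i * f, humem i⟩) i
    rwa [mvPolynomialBasis_apply] at this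
  let l : A ⊗[P] Ω[P⁄k] →ₗ[P] I.Cotangent := (l₀.liftBaseChange A).restrictScalars P
  have hDf : D k P f = ∑ i, pderiv i f • D k P (X i) := by
    have := (mvPolynomialBasis k (Fin n)).sum_repr (D k P f)
    rw [← this]
    refine Finset.sum_congr rfl (fun i _ => ?_)
    rw [mvPolynomialBasis_repr_apply, mvPolynomialBasis_apply]
  have hl₀f : l₀ (D k P f) = I.toCotangent ⟨f, hfmem⟩ := by
    rw [hDf, map_sum]
    simp only [map_smul, hl₀]
    simp only [← map_smul, ← map_sum]
    rw [Ideal.toCotangent_eq]
    have h2 : ((∑ i, pderiv i f • (⟨u i * f, humem i⟩ : I) : I) : P) - f = -(w * (f * f)) := by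
      have h3 : ((∑ i, pderiv i f • (⟨u i * f, humem i⟩ : I) : I) : P) =
          ∑ i, pderiv i f * (u i * f) := by
        simp [Submodule.coe_sum]
      rw [h3]
      have h4 : ∑ i, pderiv i f * (u i * f) = (∑ i, u i * pderiv i f) * f := by
        rw [Finset.sum_mul]
        refine Finset.sum_congr rfl (fun i _ => ?_)
        ring
      rw [h4]
      linear_combination (-f) * hwu
    show ((∑ i, pderiv i f • (⟨u i * f, humem i⟩ : I) : I) : P) - f ∈ I ^ 2
    rw [h2, pow_two]
    exact Ideal.neg_mem_iff _ |>.mpr (Ideal.mul_mem_left _ _ (Ideal.mul_mem_mul hfmem hfmem))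
  have hl : l ∘ₗ kerCotangentToTensor k P A = LinearMap.id := by
    apply LinearMap.ext
    intro c
    obtain ⟨x, rfl⟩ := Ideal.toCotangent_surjective _ c
    rw [LinearMap.comp_apply, kerCotangentToTensor_toCotangent, LinearMap.id_apply]
    show l₀.liftBaseChange A ((1 : A) ⊗ₜ[P] D k P (x : P)) = I.toCotangent x
    rw [LinearMap.liftBaseChange_one_tmul]
    obtain ⟨x, hx⟩ := x
    have hx' : x ∈ Ideal.span {f} := (SetLike.ext_iff.mp hker _).mp hx
    obtain ⟨c, rfl⟩ := Ideal.mem_span_singleton'.mp hx'
    show l₀ (D k P (c * f)) = _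
    rw [Derivation.leibniz, map_add, map_smul, map_smul, hl₀f,
      Ideal.Cotangent.smul_eq_zero_of_mem hfmem, add_zero, ← map_smul]
    rfl
  have hfs : Algebra.FormallySmooth k A :=
    (Algebra.FormallySmooth.iff_split_injection (R := k) (P := P) (A := A) hsurj).mpr ⟨l, hl⟩
  haveI : Algebra.FinitePresentation k A :=
    Algebra.FinitePresentation.quotient (Submodule.fg_span_singleton f)
  exact ⟨hfs, inferInstance⟩

end Groth.Agent.Lib.Helper26.HirzA
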