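import Mathlib
import Groth.Agent.Lib.Helper26.HirzA

set_option autoImplicit false
set_option linter.unusedVariables false
set_option linter.style.haveILetI false

open MvPolynomial

namespace Groth.Agent.Lib.Helper26.HirzB

universe u

variable {k : Type u} [Field k]

/-- polynomial from a coefficient vector -/
noncomputable def pol {m : ℕ} (c : Fin (m + 1) → k) : Polynomial k :=
  ∑ i : Fin (m + 1), Polynomial.C (c i) * Polynomial.X ^ (i : ℕ)

lemma coeff_pol {m : ℕ} (c : Fin (m + 1) → k) (i : Fin (m + 1)) : (pol c).coeff i = c i := by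
  simp only [pol, Polynomial.finsetSum_coeff, Polynomial.coeff_C_mul, Polynomial.coeff_X_pow]
  rw [Finset.sum_eq_single i]
  · simp
  · intro j _ hj
    rw [if_neg, mul_zero]
    intro h
    exact hj (Fin.ext h.symm)
  · simp

lemma natDegree_pol_le {m : ℕ} (c : Fin (m + 1) → k) : (pol c).natDegree ≤ m := by
  apply Polynomial.natDegree_sum_le_of_forall_le
  intro i _
  exact (Polynomial.natDegree_C_mul_X_pow_le _ _).trans (by omega)

lemma pol_eq_zero_iff {m : ℕ} (c : Fin (m + 1) → k) : pol c = 0 ↔ c = 0 := by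
  constructor
  · intro h
    funext i
    rw [← coeff_pol c i, h]
    simp
  · intro h
    simp [pol, h]

lemma aeval_pol {m : ℕ} (c : Fin (m + 1) → k) {K : Type*} [CommRing K] [Algebra k K] (t : K) :
    Polynomial.aeval t (pol c) = ∑ i : Fin (m + 1), algebraMap k K (c i) * t ^ (i : ℕ) := by
  simp [pol, map_sum]

/-- reversal of the coefficient vector -/
def rv {m : ℕ} (c : Fin (m + 1) → k) : Fin (m + 1) → k := fun i => c (Fin.rev i)

lemma rv_eq_zero_iff {m : ℕ} (c : Fin (m + 1) → k) : rv c = 0 ↔ c = 0 := by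
  constructor
  · intro h
    funext i
    have := congrFun h (Fin.rev i)
    simpa [rv] using this
  · intro h
    funext i
    simp [rv, h]

lemma aeval_pol_rv {m : ℕ} (c : Fin (m + 1) → k) {K : Type*} [CommRing K] [Algebra k K] (t : K) :
    Polynomial.aeval t (pol (rv c)) = ∑ i : Fin (m + 1), algebraMap k K (c i) * t ^ (m - (i : ℕ)) := by
  rw [aeval_pol]
  rw [← Equiv.sum_comp Fin.revPerm]
  refine Finset.sum_congr rfl (fun i _ => ?_)
  simp only [rv, Fin.revPerm_apply, Fin.rev_rev, Fin.val_rev]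
  congr 2
  omega

/-- Lemma R -/
lemma aeval_pol_of_mul_eq_one {m : ℕ} (c : Fin (m + 1) → k) {K : Type*} [CommRing K] [Algebra k K]
    (s₀ t₀ : K) (h : t₀ * s₀ = 1) :
    Polynomial.aeval t₀ (pol c) = t₀ ^ m * Polynomial.aeval s₀ (pol (rv c)) := by
  rw [aeval_pol, aeval_pol_rv, Finset.mul_sum]
  refine Finset.sum_congr rfl (fun i _ => ?_)
  have hi : (i : ℕ) ≤ m := by omega
  have : t₀ ^ m * s₀ ^ (m - (i : ℕ)) = t₀ ^ (i : ℕ) := by
    have h1 : t₀ ^ m = t₀ ^ (i : ℕ) * t₀ ^ (m - (i : ℕ)) := by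
      rw [← pow_add]
      congr 1
      omega
    rw [h1, mul_assoc, ← mul_pow, h, one_pow, mul_one]
  rw [← this]
  ring

/-- embed a polynomial in the variable `X 0` -/
noncomputable def em (p : Polynomial k) : MvPolynomial (Fin 2) k :=
  Polynomial.aeval (X 0 : MvPolynomial (Fin 2) k) p

lemma em_pol {m : ℕ} (c : Fin (m + 1) → k) :
    em (pol c) = ∑ i : Fin (m + 1), C (c i) * X 0 ^ (i : ℕ) := by
  simp [em, pol, map_sum]

lemma em_pol_rv {m : ℕ} (c : Fin (m + 1) → k) :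
    em (pol (rv c)) = ∑ i : Fin (m + 1), C (c i) * X 0 ^ (m - (i : ℕ)) := by
  rw [em, aeval_pol_rv]
  rfl

lemma pderiv_zero_em (p : Polynomial k) :
    pderiv (0 : Fin 2) (em p) = em (Polynomial.derivative p) := by
  rw [em, Derivation.map_aeval, pderiv_X_self, smul_eq_mul, mul_one]
  rfl

lemma pderiv_one_em (p : Polynomial k) : pderiv (1 : Fin 2) (em p) = 0 := by
  rw [em, Derivation.map_aeval, pderiv_X_of_ne (by decide), smul_zero]

noncomputable def F1 (P₁ P₂ : Polynomial k) : MvPolynomial (Fin 2) k := em P₁ + em P₂ * X 1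

lemma pderiv_one_F1 (P₁ P₂ : Polynomial k) : pderiv (1 : Fin 2) (F1 P₁ P₂) = em P₂ := by
  simp [F1, pderiv_one_em, Derivation.leibniz]

lemma pderiv_zero_F1 (P₁ P₂ : Polynomial k) :
    pderiv (0 : Fin 2) (F1 P₁ P₂) =
      em (Polynomial.derivative P₁) + em (Polynomial.derivative P₂) * X 1 := by
  have h : pderiv (0 : Fin 2) (X 1 : MvPolynomial (Fin 2) k) = 0 := pderiv_X_of_ne (by decide)
  simp [F1, pderiv_zero_em, Derivation.leibniz, h]
  ring

lemma aeval_em {K : Type*} [CommRing K] [Algebra k K] (φ : MvPolynomial (Fin 2) k →ₐ[k] K)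
    (p : Polynomial k) : φ (em p) = Polynomial.aeval (φ (X 0)) p := by
  rw [em, Polynomial.aeval_algHom_apply]

lemma F1_ne_zero (P₁ P₂ : Polynomial k) (hne : P₁ ≠ 0 ∨ P₂ ≠ 0) : F1 P₁ P₂ ≠ 0 := by
  intro h0
  let ψ₀ : MvPolynomial (Fin 2) k →ₐ[k] Polynomial k := aeval ![Polynomial.X, 0]
  let ψ₁ : MvPolynomial (Fin 2) k →ₐ[k] Polynomial k := aeval ![Polynomial.X, 1]
  have e0 : ψ₀ (F1 P₁ P₂) = P₁ := by
    simp [F1, aeval_em, ψ₀]
  have e1 : ψ₁ (F1 P₁ P₂) = P₁ + P₂ := by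
    simp [F1, aeval_em, ψ₁]
  rw [h0, map_zero] at e0 e1
  rw [← e0, zero_add] at e1
  rcases hne with h | h
  · exact h e0.symm
  · exact h e1.symm

theorem smooth_F1 (P₁ P₂ : Polynomial k) (h : IsCoprime P₁ P₂) :
    Algebra.Smooth k (MvPolynomial (Fin 2) k ⧸ Ideal.span {F1 P₁ P₂}) := by
  apply HirzA.smooth_of_jac
  obtain ⟨a, b, hab⟩ := h
  have h1 : (1 : MvPolynomial (Fin 2) k) = em a * em P₁ + em b * em P₂ := by
    simp only [em]
    rw [← map_mul, ← map_mul, ← map_add, hab, map_one]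
  set J := Ideal.span ({F1 P₁ P₂} ∪ Set.range fun i => pderiv i (F1 P₁ P₂)) with hJ
  have hF : F1 P₁ P₂ ∈ J := Ideal.subset_span (Or.inl rfl)
  have hP₂ : em P₂ ∈ J := by
    rw [← pderiv_one_F1 P₁ P₂]
    exact Ideal.subset_span (Or.inr ⟨1, rfl⟩)
  have hP₁ : em P₁ ∈ J := by
    have : em P₁ = F1 P₁ P₂ - em P₂ * X 1 := by simp [F1]
    rw [this]
    exact J.sub_mem hF (J.mul_mem_right _ hP₂)
  rw [h1]
  exact J.add_mem (J.mul_mem_left _ hP₁) (J.mul_mem_left _ hP₂)

theorem not_smooth_F1 (P₁ P₂ : Polynomial k) (hne : P₁ ≠ 0 ∨ P₂ ≠ 0) (K : Type u) [Field K]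
    [Algebra k K] (t₀ w₀ : K)
    (h1 : Polynomial.aeval t₀ P₁ = 0) (h2 : Polynomial.aeval t₀ P₂ = 0)
    (h3 : Polynomial.aeval t₀ (Polynomial.derivative P₁) +
      Polynomial.aeval t₀ (Polynomial.derivative P₂) * w₀ = 0) :
    ¬ Algebra.Smooth k (MvPolynomial (Fin 2) k ⧸ Ideal.span {F1 P₁ P₂}) := by
  intro hsm
  have hF0 : F1 P₁ P₂ ≠ 0 := F1_ne_zero P₁ P₂ hne
  have hmem := PPolyA.jac_of_smooth k 2 (F1 P₁ P₂) hF0 hsm
  let φ : MvPolynomial (Fin 2) k →ₐ[k] K := aeval ![t₀, w₀]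
  have hφ0 : φ (X 0) = t₀ := by simp [φ]
  have hφ1 : φ (X 1) = w₀ := by simp [φ]
  have hle : Ideal.span ({F1 P₁ P₂} ∪ Set.range fun i => pderiv i (F1 P₁ P₂)) ≤
      RingHom.ker φ.toRingHom := by
    rw [Ideal.span_le]
    rintro x (hx | ⟨i, rfl⟩)
    · rw [Set.mem_singleton_iff] at hx
      rw [hx]
      show φ (F1 P₁ P₂) = 0
      rw [F1, map_add, map_mul, aeval_em, aeval_em, hφ0, hφ1, h1, h2]
      ring
    · show φ (pderiv i (F1 P₁ P₂)) = 0
      fin_cases i
      · show φ (pderiv 0 (F1 P₁ P₂)) = 0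
        rw [pderiv_zero_F1, map_add, map_mul, aeval_em, aeval_em, hφ0, hφ1, h3]
      · show φ (pderiv 1 (F1 P₁ P₂)) = 0
        rw [pderiv_one_F1, aeval_em, hφ0, h2]
  have := hle hmem
  have h4 : φ 1 = 0 := this
  rw [map_one] at h4
  exact one_ne_zero h4

theorem not_both_smooth (P₁ P₂ : Polynomial k) (hne : P₁ ≠ 0 ∨ P₂ ≠ 0) (K : Type u) [Field K]
    [Algebra k K] (t₀ : K)
    (h1 : Polynomial.aeval t₀ P₁ = 0) (h2 : Polynomial.aeval t₀ P₂ = 0) :
    ¬ (Algebra.Smooth k (MvPolynomial (Fin 2) k ⧸ Ideal.span {F1 P₁ P₂}) ∧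
      Algebra.Smooth k (MvPolynomial (Fin 2) k ⧸ Ideal.span {F1 P₂ P₁})) := by
  rintro ⟨hs1, hs2⟩
  set a := Polynomial.aeval t₀ (Polynomial.derivative P₁) with ha
  set b := Polynomial.aeval t₀ (Polynomial.derivative P₂) with hb
  by_cases hb0 : b = 0
  · by_cases ha0 : a = 0
    · exact not_smooth_F1 P₁ P₂ hne K t₀ 0 h1 h2 (by rw [← ha, ← hb, ha0, hb0]; ring) hs1
    · exact not_smooth_F1 P₂ P₁ hne.symm K t₀ 0 h2 h1 (by rw [← hb, hb0]; ring) hs2
  · exact not_smooth_F1 P₁ P₂ hne K t₀ (-a / b) h1 h2 (by rw [← ha, ← hb]; field_simp; ring) hs1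

section main

lemma natDegree_lt_of_coeff_eq_zero {m : ℕ} (c : Fin (m + 1) → k) (h : c (Fin.last m) = 0)
    (hm : 0 < m) : (pol c).natDegree < m := by
  rcases lt_or_eq_of_le (natDegree_pol_le c) with h1 | h1
  · exact h1
  · exfalso
    have h2 : (pol c).leadingCoeff = 0 := by
      rw [Polynomial.leadingCoeff, h1]
      have := coeff_pol c (Fin.last m)
      rw [Fin.val_last] at this
      rw [this, h]
    rw [Polynomial.leadingCoeff_eq_zero] at h2
    rw [h2, Polynomial.natDegree_zero] at h1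
    omega

lemma natDegree_eq_of_coeff_ne_zero {m : ℕ} (c : Fin (m + 1) → k) (h : c (Fin.last m) ≠ 0) :
    (pol c).natDegree = m := by
  apply le_antisymm (natDegree_pol_le c)
  apply Polynomial.le_natDegree_of_ne_zero
  have := coeff_pol c (Fin.last m)
  rw [Fin.val_last] at this
  rw [this]
  exact h

lemma not_coprime_of_res (n : ℕ) (q : Fin 3 → k) (ξ : Fin (n + 1) → k)
    (hres : Polynomial.resultant (pol q) (pol ξ) 2 n = 0)
    (hA : q (Fin.last 2) ≠ 0 ∨ ξ (Fin.last n) ≠ 0) : ¬ IsCoprime (pol q) (pol ξ) := by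
  intro hcop
  have hne := Polynomial.resultant_ne_zero (pol q) (pol ξ) hcop
  rcases hA with h | h
  · have hdeg : (pol q).natDegree = 2 := natDegree_eq_of_coeff_ne_zero q h
    have h1 := Polynomial.resultant_add_right_deg (pol q) (pol ξ) 2 (pol ξ).natDegree
      (n - (pol ξ).natDegree) le_rfl
    have h2 : (pol ξ).natDegree + (n - (pol ξ).natDegree) = n := by
      have := natDegree_pol_le ξ
      omega
    rw [h2, hres] at h1
    rw [hdeg] at hne
    have h3 : (pol q).coeff 2 ≠ 0 := by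
      have := coeff_pol q (Fin.last 2)
      rw [Fin.val_last] at this
      rw [this]
      exact h
    exact (mul_ne_zero (pow_ne_zero _ h3) hne) h1.symm
  · have hdeg : (pol ξ).natDegree = n := natDegree_eq_of_coeff_ne_zero ξ h
    have h1 := Polynomial.resultant_add_left_deg (pol q) (pol ξ) (pol q).natDegree n
      (2 - (pol q).natDegree) le_rfl
    have h2 : (pol q).natDegree + (2 - (pol q).natDegree) = 2 := by
      have := natDegree_pol_le q
      omega
    rw [h2, hres] at h1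
    rw [hdeg] at hne
    have h3 : (pol ξ).coeff n ≠ 0 := by
      have := coeff_pol ξ (Fin.last n)
      rw [Fin.val_last] at this
      rw [this]
      exact h
    have h4 : ((-1 : k) ^ (n * (2 - (pol q).natDegree))) ≠ 0 := pow_ne_zero _ (by norm_num)
    exact (mul_ne_zero (mul_ne_zero h4 (pow_ne_zero _ h3)) hne) h1.symm

lemma exists_common_irreducible (P₁ P₂ : Polynomial k) (hne : ¬ (P₁ = 0 ∧ P₂ = 0))
    (h : ¬ IsCoprime P₁ P₂) : ∃ d : Polynomial k, Irreducible d ∧ d ∣ P₁ ∧ d ∣ P₂ := by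
  by_contra hcon
  push Not at hcon
  exact h (isCoprime_of_irreducible_dvd hne (fun z hz h1 h2 => hcon z hz h1 h2))

theorem main (n : ℕ) (hn : 3 ≤ n) (q : Fin 3 → k) (ξ : Fin (n + 1) → k) (hqξ : q ≠ 0 ∨ ξ ≠ 0) :
    (Algebra.Smooth k (MvPolynomial (Fin 2) k ⧸ Ideal.span {F1 (pol q) (pol ξ)}) ∧
      Algebra.Smooth k (MvPolynomial (Fin 2) k ⧸ Ideal.span {F1 (pol ξ) (pol q)}) ∧
      Algebra.Smooth k (MvPolynomial (Fin 2) k ⧸ Ideal.span {F1 (pol (rv q)) (pol (rv ξ))}) ∧
      Algebra.Smooth k (MvPolynomial (Fin 2) k ⧸ Ideal.span {F1 (pol (rv ξ)) (pol (rv q))})) ↔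
    Polynomial.resultant (pol q) (pol ξ) 2 n ≠ 0 := by
  have hne : pol q ≠ 0 ∨ pol ξ ≠ 0 := by
    rcases hqξ with h | h
    · exact Or.inl (fun h0 => h ((pol_eq_zero_iff q).mp h0))
    · exact Or.inr (fun h0 => h ((pol_eq_zero_iff ξ).mp h0))
  have hner : pol (rv q) ≠ 0 ∨ pol (rv ξ) ≠ 0 := by
    rcases hqξ with h | h
    · exact Or.inl (fun h0 => h ((rv_eq_zero_iff q).mp ((pol_eq_zero_iff _).mp h0)))
    · exact Or.inr (fun h0 => h ((rv_eq_zero_iff ξ).mp ((pol_eq_zero_iff _).mp h0)))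
  have hrv0q : (pol (rv q)).coeff 0 = q (Fin.last 2) := by
    have := coeff_pol (rv q) 0
    simpa [rv] using this
  have hrv0ξ : (pol (rv ξ)).coeff 0 = ξ (Fin.last n) := by
    have := coeff_pol (rv ξ) 0
    simpa [rv] using this
  constructor
  · rintro ⟨s1, s2, s3, s4⟩ hres
    by_cases hA : q (Fin.last 2) = 0 ∧ ξ (Fin.last n) = 0
    · -- root 0 of the reversed polynomials
      have h1 : Polynomial.aeval (0 : k) (pol (rv q)) = 0 := by
        rw [← Polynomial.coeff_zero_eq_aeval_zero, hrv0q, hA.1]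
      have h2 : Polynomial.aeval (0 : k) (pol (rv ξ)) = 0 := by
        rw [← Polynomial.coeff_zero_eq_aeval_zero, hrv0ξ, hA.2]
      exact not_both_smooth (pol (rv q)) (pol (rv ξ)) hner k 0 h1 h2 ⟨s3, s4⟩
    · have hA' : q (Fin.last 2) ≠ 0 ∨ ξ (Fin.last n) ≠ 0 := by
        by_contra hcon
        push Not at hcon
        exact hA hcon
      have hnc := not_coprime_of_res n q ξ hres hA'
      have hnz : ¬ (pol q = 0 ∧ pol ξ = 0) := by
        rintro ⟨h1, h2⟩
        rcases hne with h | h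
        · exact h h1
        · exact h h2
      obtain ⟨d, hd, hd1, hd2⟩ := exists_common_irreducible (pol q) (pol ξ) hnz hnc
      haveI : Fact (Irreducible d) := ⟨hd⟩
      have h1 : Polynomial.aeval (AdjoinRoot.root d) (pol q) = 0 := by
        rw [AdjoinRoot.aeval_eq, AdjoinRoot.mk_eq_zero]
        exact hd1
      have h2 : Polynomial.aeval (AdjoinRoot.root d) (pol ξ) = 0 := by
        rw [AdjoinRoot.aeval_eq, AdjoinRoot.mk_eq_zero]
        exact hd2
      exact not_both_smooth (pol q) (pol ξ) hne (AdjoinRoot d) (AdjoinRoot.root d) h1 h2 ⟨s1, s2⟩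
  · intro hres
    have hcop : IsCoprime (pol q) (pol ξ) := by
      obtain ⟨p, r, -, -, hpr⟩ := Polynomial.exists_mul_add_mul_eq_C_resultant (pol q) (pol ξ)
        (natDegree_pol_le q) (natDegree_pol_le ξ) (Or.inl (by norm_num))
      refine ⟨Polynomial.C (Polynomial.resultant (pol q) (pol ξ) 2 n)⁻¹ * p,
        Polynomial.C (Polynomial.resultant (pol q) (pol ξ) 2 n)⁻¹ * r, ?_⟩
      have : Polynomial.C (Polynomial.resultant (pol q) (pol ξ) 2 n)⁻¹ *
          Polynomial.C (Polynomial.resultant (pol q) (pol ξ) 2 n) = 1 := by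
        rw [← Polynomial.C_mul, inv_mul_cancel₀ hres, Polynomial.C_1]
      linear_combination (Polynomial.C (Polynomial.resultant (pol q) (pol ξ) 2 n)⁻¹) * hpr + this
    have hcopr : IsCoprime (pol (rv q)) (pol (rv ξ)) := by
      have hnz : ¬ (pol (rv q) = 0 ∧ pol (rv ξ) = 0) := by
        rintro ⟨h1, h2⟩
        rcases hner with h | h
        · exact h h1
        · exact h h2
      apply isCoprime_of_irreducible_dvd hnz
      intro d hd hd1 hd2
      haveI : Fact (Irreducible d) := ⟨hd⟩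
      have h1 : Polynomial.aeval (AdjoinRoot.root d) (pol (rv q)) = 0 := by
        rw [AdjoinRoot.aeval_eq, AdjoinRoot.mk_eq_zero]
        exact hd1
      have h2 : Polynomial.aeval (AdjoinRoot.root d) (pol (rv ξ)) = 0 := by
        rw [AdjoinRoot.aeval_eq, AdjoinRoot.mk_eq_zero]
        exact hd2
      by_cases hs : AdjoinRoot.root d = 0
      · rw [hs, ← Polynomial.coeff_zero_eq_aeval_zero', hrv0q] at h1
        rw [hs, ← Polynomial.coeff_zero_eq_aeval_zero', hrv0ξ] at h2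
        have h1' : q (Fin.last 2) = 0 :=
          (map_eq_zero_iff _ (algebraMap k (AdjoinRoot d)).injective).mp h1
        have h2' : ξ (Fin.last n) = 0 :=
          (map_eq_zero_iff _ (algebraMap k (AdjoinRoot d)).injective).mp h2
        exact hres (Polynomial.resultant_eq_zero_of_lt_lt (pol q) (pol ξ) 2 n
          (natDegree_lt_of_coeff_eq_zero q h1' (by norm_num))
          (natDegree_lt_of_coeff_eq_zero ξ h2' (by omega)))
      · set s₀ := AdjoinRoot.root d with hs₀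
        have hts : s₀⁻¹ * s₀ = 1 := inv_mul_cancel₀ hs
        have e1 := aeval_pol_of_mul_eq_one q s₀ s₀⁻¹ hts
        have e2 := aeval_pol_of_mul_eq_one ξ s₀ s₀⁻¹ hts
        rw [h1, mul_zero] at e1
        rw [h2, mul_zero] at e2
        obtain ⟨a, b, hab⟩ := hcop
        have := congrArg (Polynomial.aeval (s₀⁻¹)) hab
        rw [map_add, map_mul, map_mul, e1, e2, mul_zero, mul_zero, add_zero, map_one] at this
        exact zero_ne_one this
    exact ⟨smooth_F1 _ _ hcop, smooth_F1 _ _ hcop.symm, smooth_F1 _ _ hcopr,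
      smooth_F1 _ _ hcopr.symm⟩

end main

end Groth.Agent.Lib.Helper26.HirzB
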