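import Mathlib
import Groth.Agent.Lib.Helper26.Hyp1
import Groth.Agent.S11019

set_option autoImplicit false
set_option linter.unusedSectionVars false
set_option linter.style.haveILetI false
open scoped WithZero IntermediateField
open FunFld Polynomial
open Groth.Agent.Lib.Helper2.FF

namespace Groth.Agent.Lib.Helper26.Hyp

variable {k K : Type*} [Field k] [Field K] [Algebra k K]

theorem aeval_mem_adjoin_simple (x : K) (p : k[X]) : aeval x p ∈ k⟮x⟯ :=
  IntermediateField.algebra_adjoin_le_adjoin k _ (Polynomial.aeval_mem_adjoin_singleton k x)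

/-- polynomials of degree `≤ m` in `x` lie in `L(m (x)_∞)` -/
theorem aeval_mem_L (hK : IsFunctionField k K) (x : K) {m : ℕ} {p : k[X]} (hp : p.natDegree ≤ m) :
    aeval x p ∈ L (m • pdiv (k := k) x) := by
  rw [aeval_eq_sum_range]
  refine Submodule.sum_mem _ fun i hi => ?_
  refine Submodule.smul_mem _ _ ?_
  rw [Finset.mem_range] at hi
  have h1 : x ^ i ∈ L (i • pdiv (k := k) x) := pow_mem_L (mem_L_pdiv hK x) i
  exact L_mono (nsmul_le_nsmul_left (pdiv_nonneg x) (by omega)) h1

/-- square roots stay in the Riemann–Roch space -/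
theorem mem_L_of_sq_mem {D : Divisor k K} {z : K} (m : ℕ) (h : z ^ 2 ∈ L ((2 * m) • D)) :
    z ∈ L (m • D) := by
  intro P
  have h1 := h P
  rw [map_pow, mul_smul, two_smul, Finsupp.add_apply, WithZero.exp_add, ← sq] at h1
  exact (pow_le_pow_iff_left₀ zero_le zero_le (by norm_num)).1 h1

/-- the Riemann–Roch spaces of multiples of `(x)_∞` are stable under automorphisms fixing `x` -/
theorem map_mem_L (hK : IsFunctionField k K) {x : K} (σ : K ≃ₐ[k] K) (hσ : σ x = x) (m : ℕ) {z : K}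
    (hz : z ∈ L (m • pdiv (k := k) x)) : σ z ∈ L (m • pdiv (k := k) x) := by
  intro P
  have h1 := hz (comapPlace σ P)
  rw [v_comapPlace] at h1
  refine h1.trans (le_of_eq ?_)
  congr 1
  rw [Finsupp.smul_apply, Finsupp.smul_apply, pdiv_apply hK, pdiv_apply hK, ord_def, ord_def,
    v_comapPlace, hσ]

section Main

variable {x y : K}

/-- `y` is not a rational function of `x` -/
theorem y_not_mem (hx : Transcendental k x) (f : k[X]) (hf : Squarefree f)
    (hd : 1 ≤ f.natDegree) (heq : y ^ 2 = aeval x f) : y ∉ k⟮x⟯ := by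
  intro hy
  have hinj : Function.Injective (aeval x : k[X] →ₐ[k] K) := transcendental_iff_injective.mp hx
  have hf0 : f ≠ 0 := fun h0 => by simp [h0] at hd
  obtain ⟨u, w, hw0, -, huw⟩ := exists_coprime_repr hx hy
  have hy0 : y ≠ 0 := by
    rintro rfl
    rw [zero_pow (by norm_num)] at heq
    exact hf0 (hinj (by rw [← heq, map_zero]))
  have hu0 : u ≠ 0 := by
    rintro rfl
    rw [map_zero] at huw
    have hwx : aeval x w ≠ 0 := fun h => hw0 (hinj (by rw [h, map_zero]))
    exact mul_ne_zero hy0 hwx huw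
  have hpoly : f * w ^ 2 = C 1 * u ^ 2 := by
    apply hinj
    simp only [map_mul, map_pow, map_one, one_mul]
    rw [← heq, ← huw]
    ring
  exact Groth.Agent.S11019.parity_aux f w u 1 hf hd hw0 hu0 one_ne_zero hpoly

/-- the structure of `L(n (x)_∞)` in a hyperelliptic function field -/
theorem exists_repr_of_mem_L (hK : IsFunctionField k K) (h2 : (2 : k) ≠ 0)
    (hx : Transcendental k x) (hxy : IntermediateField.adjoin k ({x, y} : Set K) = ⊤)
    (f : k[X]) (hf : Squarefree f) (hd : 1 ≤ f.natDegree) (heq : y ^ 2 = aeval x f)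
    (n : ℕ) {z : K} (hz : z ∈ L (n • pdiv (k := k) x)) :
    ∃ pa pb : k[X], pa.natDegree ≤ n ∧ (pb = 0 ∨ 2 * pb.natDegree + f.natDegree ≤ 2 * n) ∧
      z = aeval x pa + aeval x pb * y := by
  have hinj : Function.Injective (aeval x : k[X] →ₐ[k] K) := transcendental_iff_injective.mp hx
  have hf0 : f ≠ 0 := fun h0 => by simp [h0] at hd
  have hy := y_not_mem hx f hf hd heq
  obtain ⟨c, hc⟩ : ∃ c : k⟮x⟯, (c : K) = aeval x f := ⟨⟨_, aeval_mem_adjoin_simple x f⟩, rfl⟩
  have hy2 : y ^ 2 = (c : K) := by rw [hc, heq]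
  obtain ⟨σ, hσF, hσy⟩ := exists_conj hxy c hy2 hy
  have hσx : σ x = x := hσF ⟨x, IntermediateField.mem_adjoin_simple_self k x⟩
  obtain ⟨a, b, hab⟩ := exists_decomp hxy c hy2 z
  have hσz : σ z = (a : K) - (b : K) * y := by
    rw [hab, map_add, map_mul, hσF, hσF, hσy]; ring
  have hσzL := map_mem_L hK σ hσx n hz
  have h2K : (2 : K) ≠ 0 := by
    have := (map_ne_zero (algebraMap k K)).mpr h2
    rwa [map_ofNat] at this
  -- the rational part
  have haL : (a : K) ∈ L (n • pdiv (k := k) x) := by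
    have h1 : (a : K) = (2⁻¹ : k) • (z + σ z) := by
      rw [hσz, hab, Algebra.smul_def, map_inv₀, map_ofNat]
      field_simp
      ring
    rw [h1]
    exact Submodule.smul_mem _ _ (Submodule.add_mem _ hz hσzL)
  obtain ⟨pa, hpa, hapa⟩ := exists_poly_of_mem_L hK hx n a.2 haL
  -- the irrational part
  have hbyL : (b : K) * y ∈ L (n • pdiv (k := k) x) := by
    have h1 : (b : K) * y = (2⁻¹ : k) • (z - σ z) := by
      rw [hσz, hab, Algebra.smul_def, map_inv₀, map_ofNat]
      field_simp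
      ring
    rw [h1]
    exact Submodule.smul_mem _ _ (Submodule.sub_mem _ hz hσzL)
  have hsqL : (b : K) ^ 2 * aeval x f ∈ L ((2 * n) • pdiv (k := k) x) := by
    have h1 := mul_mem_L hbyL hbyL
    have h3 : (b : K) * y * ((b : K) * y) = (b : K) ^ 2 * aeval x f := by rw [← heq]; ring
    rw [h3, ← add_smul] at h1
    have : n + n = 2 * n := by ring
    rwa [this] at h1
  have hsqF : (b : K) ^ 2 * aeval x f ∈ k⟮x⟯ :=
    (k⟮x⟯).mul_mem (pow_mem b.2 2) (aeval_mem_adjoin_simple x f)
  obtain ⟨p₂, hp₂, hbp₂⟩ := exists_poly_of_mem_L hK hx (2 * n) hsqF hsqL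
  obtain ⟨u, w, hw0, hcop, hbuw⟩ := exists_coprime_repr hx b.2
  have hpoly : u ^ 2 * f = p₂ * w ^ 2 := by
    apply hinj
    simp only [map_mul, map_pow]
    rw [← hbp₂, ← hbuw]
    ring
  have hwunit : IsUnit w := by
    apply hf w
    have h1 : w ^ 2 ∣ u ^ 2 * f := ⟨p₂, by rw [hpoly]; ring⟩
    have h3 : IsCoprime (w ^ 2) (u ^ 2) := (hcop.symm.pow_left).pow_right
    have := h3.dvd_of_dvd_mul_left h1
    rwa [sq] at this
  obtain ⟨c₀, hc₀, hcw⟩ := Polynomial.isUnit_iff.1 hwunit
  have hc₀0 : c₀ ≠ 0 := hc₀.ne_zero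
  obtain ⟨pb, hpb⟩ : ∃ pb : k[X], pb = C c₀⁻¹ * u := ⟨_, rfl⟩
  have hbpb : (b : K) = aeval x pb := by
    rw [hpb, map_mul, aeval_C, ← hbuw, ← hcw, aeval_C, ← mul_assoc, mul_comm _ (b : K), mul_assoc,
      ← map_mul, inv_mul_cancel₀ hc₀0, map_one, mul_one]
  refine ⟨pa, pb, hpa, ?_, by rw [hab, hapa, hbpb]⟩
  by_cases hpb0 : pb = 0
  · exact Or.inl hpb0
  right
  have hpoly2 : pb ^ 2 * f = p₂ := by
    apply hinj
    simp only [map_mul, map_pow]
    rw [← hbpb, hbp₂]
  have hdeg : (pb ^ 2 * f).natDegree = 2 * pb.natDegree + f.natDegree := by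
    rw [natDegree_mul (pow_ne_zero 2 hpb0) hf0, natDegree_pow]
  rw [← hdeg, hpoly2]
  exact hp₂

/-- the converse: the expected elements do lie in `L(n (x)_∞)` -/
theorem mem_L_of_repr (hK : IsFunctionField k K) (f : k[X]) (hf0 : f ≠ 0)
    (heq : y ^ 2 = aeval x f) (n : ℕ) {pa pb : k[X]} (hpa : pa.natDegree ≤ n)
    (hpb : pb = 0 ∨ 2 * pb.natDegree + f.natDegree ≤ 2 * n) :
    aeval x pa + aeval x pb * y ∈ L (n • pdiv (k := k) x) := by
  refine Submodule.add_mem _ (aeval_mem_L hK x hpa) ?_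
  rcases hpb with rfl | hpb
  · rw [map_zero, zero_mul]; exact Submodule.zero_mem _
  · apply mem_L_of_sq_mem n
    have h1 : (aeval x pb * y) ^ 2 = aeval x (pb ^ 2 * f) := by
      rw [map_mul, map_pow, mul_pow, heq]
    rw [h1]
    apply aeval_mem_L hK x
    by_cases hpb0 : pb = 0
    · rw [hpb0]; simp
    · rw [natDegree_mul (pow_ne_zero 2 hpb0) hf0, natDegree_pow]
      exact hpb

/-- the dimension of `L(n (x)_∞)` -/
theorem ell_nsmul_pdiv (hK : IsFunctionField k K) (h2 : (2 : k) ≠ 0)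
    (hx : Transcendental k x) (hxy : IntermediateField.adjoin k ({x, y} : Set K) = ⊤)
    (f : k[X]) (hf : Squarefree f) (hd : 1 ≤ f.natDegree) (heq : y ^ 2 = aeval x f)
    (n : ℕ) (hn : f.natDegree ≤ 2 * n) :
    ell (n • pdiv (k := k) x) = (n + 1) + ((2 * n - f.natDegree) / 2 + 1) := by
  classical
  have hinj : Function.Injective (aeval x : k[X] →ₐ[k] K) := transcendental_iff_injective.mp hx
  have hf0 : f ≠ 0 := fun h0 => by simp [h0] at hd
  have hy := y_not_mem hx f hf hd heq
  obtain ⟨m, hm⟩ : ∃ m, m = (2 * n - f.natDegree) / 2 := ⟨_, rfl⟩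
  rw [← hm]
  let Φ : (degreeLT k (n + 1)) × (degreeLT k (m + 1)) →ₗ[k] K :=
    ((aeval x : k[X] →ₐ[k] K).toLinearMap ∘ₗ (degreeLT k (n + 1)).subtype).coprod
      ((LinearMap.mulRight k y) ∘ₗ (aeval x : k[X] →ₐ[k] K).toLinearMap ∘ₗ
        (degreeLT k (m + 1)).subtype)
  have hΦ : ∀ pq, Φ pq = aeval x (pq.1 : k[X]) + aeval x (pq.2 : k[X]) * y := fun pq => rfl
  have hΦinj : Function.Injective Φ := by
    rw [← LinearMap.ker_eq_bot, LinearMap.ker_eq_bot']
    rintro ⟨p, q⟩ h
    rw [hΦ] at h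
    have h1 := decomp_unique (x := x) hy (a := ⟨_, aeval_mem_adjoin_simple x (p : k[X])⟩)
      (b := ⟨_, aeval_mem_adjoin_simple x (q : k[X])⟩) h
    have hp : (p : k[X]) = 0 := hinj (by rw [map_zero]; exact congrArg Subtype.val h1.1)
    have hq : (q : k[X]) = 0 := hinj (by rw [map_zero]; exact congrArg Subtype.val h1.2)
    exact Prod.ext (Subtype.ext hp) (Subtype.ext hq)
  have hrange : LinearMap.range Φ = L (n • pdiv (k := k) x) := by
    apply le_antisymm
    · rintro _ ⟨⟨p, q⟩, rfl⟩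
      rw [hΦ]
      apply mem_L_of_repr hK f hf0 heq n
      · change (p : k[X]).natDegree ≤ n
        have := p.2
        rw [mem_degreeLT] at this
        by_cases hp0 : (p : k[X]) = 0
        · rw [hp0]; simp
        · have h3 := (natDegree_lt_iff_degree_lt hp0).2 this
          omega
      · change (q : k[X]) = 0 ∨ 2 * (q : k[X]).natDegree + f.natDegree ≤ 2 * n
        by_cases hq0 : (q : k[X]) = 0
        · exact Or.inl hq0
        · right
          have := q.2
          rw [mem_degreeLT] at this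
          have h3 := (natDegree_lt_iff_degree_lt hq0).2 this
          have h4 : (q : k[X]).natDegree ≤ m := by omega
          omega
    · intro z hz
      obtain ⟨pa, pb, hpa, hpb, hzab⟩ := exists_repr_of_mem_L hK h2 hx hxy f hf hd heq n hz
      have hpa' : pa ∈ degreeLT k (n + 1) := by
        rw [mem_degreeLT]
        exact lt_of_le_of_lt degree_le_natDegree (by exact_mod_cast Nat.lt_succ_of_le hpa)
      have hpb' : pb ∈ degreeLT k (m + 1) := by
        rw [mem_degreeLT]
        rcases hpb with rfl | hpb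
        · rw [degree_zero]; exact WithBot.bot_lt_coe _
        · refine lt_of_le_of_lt degree_le_natDegree ?_
          have : pb.natDegree < m + 1 := by omega
          exact_mod_cast this
      exact ⟨(⟨pa, hpa'⟩, ⟨pb, hpb'⟩), by rw [hΦ, hzab]⟩
  rw [ell_def, ← hrange, LinearMap.finrank_range_of_inj hΦinj,
    Module.finrank_eq_card_basis (degreeLT.basisProd k (n + 1) (m + 1)), Fintype.card_fin]

theorem finrank_eq_two (hx : Transcendental k x)
    (hxy : IntermediateField.adjoin k ({x, y} : Set K) = ⊤)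
    (f : k[X]) (hf : Squarefree f) (hd : 1 ≤ f.natDegree) (heq : y ^ 2 = aeval x f) :
    Module.finrank k⟮x⟯ K = 2 := by
  have hy := y_not_mem hx f hf hd heq
  obtain ⟨c, hc⟩ : ∃ c : k⟮x⟯, (c : K) = aeval x f := ⟨⟨_, aeval_mem_adjoin_simple x f⟩, rfl⟩
  have hy2 : y ^ 2 = (c : K) := by rw [hc, heq]
  have hFy := adjoin_y_eq_top hxy
  let q : (k⟮x⟯)[X] := X ^ 2 - C c
  have hqm : q.Monic := monic_X_pow_sub_C c (by norm_num)
  have hqy : aeval y q = 0 := by
    simp only [q, map_sub, map_pow, aeval_X, aeval_C]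
    rw [hy2]
    exact sub_self _
  have hqdeg : q.natDegree = 2 := natDegree_X_pow_sub_C
  have hyint : IsIntegral k⟮x⟯ y := ⟨q, hqm, hqy⟩
  have hmin : q = minpoly k⟮x⟯ y := by
    have hdvd : minpoly k⟮x⟯ y ∣ q := minpoly.dvd k⟮x⟯ y hqy
    have h2le : 2 ≤ (minpoly k⟮x⟯ y).natDegree := by
      rw [minpoly.two_le_natDegree_iff hyint]
      rintro ⟨z, hz⟩
      exact hy (hz ▸ z.2)
    exact Polynomial.eq_of_monic_of_dvd_of_natDegree_le (minpoly.monic hyint) hqm hdvd
      (hqdeg ▸ h2le)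
  have h1 := IntermediateField.adjoin.finrank hyint
  rw [hFy, IntermediateField.finrank_top', ← hmin, hqdeg] at h1
  exact h1

/-- **S11014**: the genus of a hyperelliptic function field in characteristic `≠ 2` -/
theorem genus_hyperelliptic (hK : IsFunctionField k K) (h2 : ringChar k ≠ 2)
    (hx : Transcendental k x) (hxy : IntermediateField.adjoin k ({x, y} : Set K) = ⊤)
    (f : k[X]) (hf : Squarefree f) (hd : 1 ≤ f.natDegree) (heq : y ^ 2 = aeval x f) :
    genus k K = (f.natDegree - 1) / 2 := by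
  have h2k : (2 : k) ≠ 0 := by
    intro h
    apply h2
    have : ringChar k ∣ 2 := (ringChar.spec k 2).mp (by exact_mod_cast h)
    rcases (Nat.dvd_prime Nat.prime_two).mp this with h1 | h1
    · exfalso
      exact CharP.ringChar_ne_one (R := k) h1
    · exact h1
  obtain ⟨n, hn⟩ : ∃ n, n = genus k K + f.natDegree + 1 := ⟨_, rfl⟩
  have hdeg : (n • pdiv (k := k) x).deg = 2 * n := by
    rw [deg_nsmul, deg_pdiv hK hx, finrank_eq_two hx hxy f hf hd heq]
    push_cast
    ring
  have h1 := ell_eq_of_deg_ge hK (n • pdiv (k := k) x) (by rw [hdeg, hn]; push_cast; omega)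
  rw [hdeg, ell_nsmul_pdiv hK h2k hx hxy f hf hd heq n (by omega)] at h1
  push_cast at h1
  omega

end Main

end Groth.Agent.Lib.Helper26.Hyp
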