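import Mathlib
import Groth.Agent.Lib.Helper26.Weier2
set_option autoImplicit false
open scoped WithZero IntermediateField PowerSeries LaurentSeries
open FunFld
open Groth.Agent.Lib.Helper2.FF
open Groth.Agent.Lib.Helper26.Weier

namespace Groth.Agent.Lib.Helper26.HypUnique

variable {k K : Type*} [Field k] [Field K] [Algebra k K]

theorem transcendental_of_finrank_eq_two (hK : IsFunctionField k K) {x : K}
    (hx : Module.finrank k⟮x⟯ K = 2) : Transcendental k x := by
  intro halg
  obtain ⟨c, hc⟩ := hK.2 x halg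
  have hbot : k⟮x⟯ = ⊥ := by
    rw [IntermediateField.adjoin_simple_eq_bot_iff, IntermediateField.mem_bot]
    exact ⟨c, hc⟩
  rw [hbot, IntermediateField.finrank_bot'] at hx
  have hfin : FiniteDimensional k K := Module.finite_of_finrank_pos (by omega)
  obtain ⟨⟨x₀, hx₀, -⟩, -⟩ := hK
  exact hx₀ (Algebra.IsAlgebraic.isAlgebraic x₀)

/-- uniqueness of the rational subfield of index two in genus at least two -/
theorem adjoin_eq_of_finrank_eq_two (hK : IsFunctionField k K) (hg : 2 ≤ genus k K)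
    (x x' : K) (hx : Module.finrank k⟮x⟯ K = 2) (hx' : Module.finrank k⟮x'⟯ K = 2) :
    k⟮x⟯ = k⟮x'⟯ := by
  classical
  have hg0 : 0 < genus k K := by omega
  have hxt := transcendental_of_finrank_eq_two hK hx
  have hxt' := transcendental_of_finrank_eq_two hK hx'
  have hd : (pdiv (k := k) x).deg = 2 := by rw [deg_pdiv hK hxt, hx]; norm_num
  have hd' : (pdiv (k := k) x').deg = 2 := by rw [deg_pdiv hK hxt', hx']; norm_num
  obtain ⟨D, hD⟩ : ∃ D : Divisor k K, D = (genus k K - 1) • pdiv (k := k) x := ⟨_, rfl⟩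
  obtain ⟨D', hD'⟩ : ∃ D' : Divisor k K, D' = (genus k K - 1) • pdiv (k := k) x' := ⟨_, rfl⟩
  have hcan : IsCanonical k K D := hD ▸ isCanonical_nsmul_pdiv hK hg0 hxt hd
  have hcan' : IsCanonical k K D' := hD' ▸ isCanonical_nsmul_pdiv hK hg0 hxt' hd'
  obtain ⟨h, hh0, hDD'⟩ := canonical_linEquiv hK D D' hcan hcan'
  -- L(D) is spanned by the powers of x
  have hli := linearIndependent_pow_of_transcendental hxt (genus k K - 1)
  have hmem : ∀ i : Fin (genus k K - 1 + 1), x ^ (i : ℕ) ∈ L D := by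
    intro i
    rw [hD]
    exact pow_mem_L_nsmul_pdiv hK x (Nat.lt_succ_iff.1 i.2)
  have hspan : Submodule.span k (Set.range fun i : Fin (genus k K - 1 + 1) => x ^ (i : ℕ)) = L D := by
    have := finiteDimensional_L hK D
    apply Submodule.eq_of_le_of_finrank_eq
    · rw [Submodule.span_le]
      rintro _ ⟨i, rfl⟩
      exact hmem i
    · rw [finrank_span_eq_card hli, ← ell_def, ell_canonical hK hcan, Fintype.card_fin]
      omega
  have hink : ∀ f ∈ L D, f ∈ k⟮x⟯ := by
    intro f hf
    rw [← hspan] at hf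
    refine Submodule.span_induction (p := fun f _ => f ∈ k⟮x⟯) ?_ ?_ ?_ ?_ hf
    · rintro _ ⟨i, rfl⟩
      exact pow_mem (IntermediateField.mem_adjoin_simple_self k x) _
    · exact zero_mem _
    · intro a b _ _ ha hb; exact add_mem ha hb
    · intro c a _ ha
      rw [Algebra.smul_def]
      exact mul_mem (algebraMap_mem _ c) ha
  have hD'nn : (0 : Divisor k K) ≤ D' := by
    rw [hD']; exact nsmul_nonneg (pdiv_nonneg x') _
  have h1L : (1 : K) ∈ L D' := by
    intro R
    rw [map_one, ← WithZero.exp_zero, WithZero.exp_le_exp]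
    exact hD'nn R
  have hx'L : x' ∈ L D' := by
    have hpd_le : pdiv (k := k) x' ≤ D' := by
      rw [hD']
      have h1 : (1 : ℕ) • pdiv (k := k) x' ≤ (genus k K - 1) • pdiv (k := k) x' :=
        nsmul_le_nsmul_left (pdiv_nonneg x') (by omega)
      rwa [one_smul] at h1
    exact L_mono hpd_le (mem_L_pdiv hK x')
  have hh : h ∈ k⟮x⟯ := by
    apply hink
    have := (mul_mem_L_iff hK D h 1 hh0).2 (by rw [← hDD']; exact h1L)
    rwa [mul_one] at this
  have hhx' : h * x' ∈ k⟮x⟯ := by
    apply hink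
    exact (mul_mem_L_iff hK D h x' hh0).2 (by rw [← hDD']; exact hx'L)
  have hx'mem : x' ∈ k⟮x⟯ := by
    have : x' = h⁻¹ * (h * x') := by field_simp
    rw [this]
    exact mul_mem (inv_mem hh) hhx'
  have hle : k⟮x'⟯ ≤ k⟮x⟯ := by
    rw [IntermediateField.adjoin_simple_le_iff]
    exact hx'mem
  have hfin : FiniteDimensional k⟮x'⟯ K := Module.finite_of_finrank_pos (by omega)
  exact (IntermediateField.eq_of_le_of_finrank_eq' hle (by rw [hx, hx'])).symm

end Groth.Agent.Lib.Helper26.HypUnique
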