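import Mathlib
import Groth.Agent.Lib.Helper26.GrpEqui
import Groth.Agent.Lib.Helper10.IdComp6
import Groth.Agent.Lib.Helper10.OrbitDim2
import Groth.Agent.Lib.Helper18.ZeroDim
import Groth.Agent.Lib.Helper14.LqfDim0

set_option autoImplicit false
set_option backward.isDefEq.respectTransparency.types false
universe u v
open AlgebraicGeometry CategoryTheory CategoryTheory.Limits MonoidalCategory
  CartesianMonoidalCategory MonObj GrpObj Topology

namespace Groth.Agent.Lib.Helper26.IdImg

open Groth.Agent.Lib.Helper10.IdComp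

variable (k : Type u) [Field k] (G : Over (Spec (CommRingCat.of k))) [GrpObj G]

theorem dim_lt_top [LocallyOfFiniteType G.hom] : topologicalKrullDim ↥G.left < ⊤ := by
  let t : ↥(𝟙_ (Over (Spec (CommRingCat.of k)))).left :=
    Classical.choice (inferInstanceAs (Nonempty (PrimeSpectrum k)))
  let g : G.left := η[G].left.base t
  have h1 := (Groth.Agent.Lib.Helper26.GrpEqui.main_5341 k G).2 g
  obtain ⟨U, hU, hgU⟩ : ∃ U : G.left.Opens, IsAffineOpen U ∧ g ∈ U := by
    obtain ⟨_, ⟨V, hV, rfl⟩, hx, -⟩ :=
      G.left.isBasis_affineOpens.exists_subset_of_mem_open (Set.mem_univ g) isOpen_univ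
    exact ⟨V, hV, hx⟩
  haveI : IsAffine (U : Scheme) := hU
  have h2 : topologicalKrullDim ↥(U : Scheme) < ⊤ :=
    Groth.Agent.Lib.Helper10.OrbitDim.dim_lt_top (U.ι ≫ G.hom)
  rw [← h1]
  refine lt_of_le_of_lt ?_ h2
  exact iInf_le (fun U : {U : TopologicalSpace.Opens G.left // g ∈ U} =>
    topologicalKrullDim (U.1 : Set G.left)) ⟨U, hgU⟩

theorem main_18027 (G H : Over (Spec (CommRingCat.of k))) [GrpObj G] [GrpObj H]
    [LocallyOfFiniteType G.hom] [LocallyOfFiniteType H.hom] (u : G ⟶ H) [IsMonHom u]
    [IsClosedImmersion u.left]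
    (hdim : topologicalKrullDim ↥G.left = topologicalKrullDim ↥H.left)
    (t : ↥((𝟙_ (Over (Spec (CommRingCat.of k)))).left)) :
    ⇑u.left.base '' connectedComponent (η[G].left.base t) =
      connectedComponent (η[H].left.base t) := by
  have hunit : u.left.base (η[G].left.base t) = η[H].left.base t := by
    have h1 : η[G] ≫ u = η[H] := IsMonHom.one_hom u
    have h2 : (η[G] ≫ u).left.base t = η[H].left.base t := by rw [h1]
    exact h2
  have hsub : ⇑u.left.base '' connectedComponent (η[G].left.base t) ⊆
      connectedComponent (η[H].left.base t) := by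
    rw [← hunit]
    exact u.left.continuous.image_connectedComponent_subset _
  by_contra hne
  set Y : Set H.left := ⇑u.left.base '' connectedComponent (η[G].left.base t) with hY
  have hZG := Z0_mem k G t
  have hZH := Z0_mem k H t
  rw [connectedComponent_unit_eq_Z0 k H t] at hsub hne
  have hYcl : IsClosed Y := by
    rw [hY, connectedComponent_unit_eq_Z0 k G t]
    exact u.left.isClosedEmbedding.isClosedMap _ (isClosed_Z0 k G t)
  haveI : IsLocallyNoetherian H.left := LocallyOfFiniteType.isLocallyNoetherian H.hom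
  have hint : interior Y = ∅ := by
    by_contra hint
    have hne' : (interior Y).Nonempty := Set.nonempty_iff_ne_empty.2 hint
    obtain ⟨y, hy⟩ := hne'
    have h1 : (Z0 k H t ∩ interior Y).Nonempty :=
      ⟨y, hsub (interior_subset hy), hy⟩
    have h2 := subset_closure_inter_of_isPreirreducible_of_isOpen hZH.1.isPreirreducible
      isOpen_interior h1
    have h3 : closure (Z0 k H t ∩ interior Y) ⊆ Y :=
      closure_minimal (fun z hz => interior_subset hz.2) hYcl
    exact hne (Set.Subset.antisymm hsub (h2.trans h3))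
  have h1 := Groth.Agent.Lib.Helper18.ZeroDim.topologicalKrullDim_add_one_le_of_nowhereDense Y
    hYcl hint
  have h2 : topologicalKrullDim ↥Y = topologicalKrullDim ↥G.left := by
    have e : ↥(connectedComponent (η[G].left.base t)) ≃ₜ ↥Y :=
      u.left.isEmbedding.homeomorphImage _
    rw [← IsHomeomorph.topologicalKrullDim_eq _ e.isHomeomorph,
      connectedComponent_unit_eq_Z0 k G t]
    exact (Groth.Agent.Lib.Helper26.GrpEqui.main_5341 k G).1 _ hZG
  rw [h2, hdim] at h1
  have h3 := dim_lt_top k H
  haveI : Nonempty ↥H.left := ⟨η[H].left.base t⟩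
  have h4 : (0 : WithBot ℕ∞) ≤ topologicalKrullDim ↥H.left :=
    Groth.Agent.Lib.Helper14.AS.topologicalKrullDim_nonneg' _
  generalize topologicalKrullDim ↥H.left = a at h1 h3 h4
  induction a with
  | bot => simp at h4
  | coe a =>
    induction a with
    | top => exact (lt_irrefl _ h3)
    | coe n =>
      have h5 : ((n + 1 : ℕ) : WithBot ℕ∞) ≤ (n : WithBot ℕ∞) := by exact_mod_cast h1
      have h6 : n + 1 ≤ n := by exact_mod_cast h5
      omega

end Groth.Agent.Lib.Helper26.IdImg
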