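import Mathlib
import Groth.Agent.Lib.Helper25.CompleteDVR

set_option autoImplicit false
set_option linter.unusedVariables false
set_option linter.style.haveILetI false
set_option linter.unusedSectionVars false
set_option linter.unusedSimpArgs false

universe u

namespace Groth.Agent.Lib.Helper26.Inert35

open IsLocalRing Polynomial Pointwise

section Fin

attribute [local instance] FractionRing.liftAlgebra

theorem finite_of_isGaloisGroup (R S G : Type u) [CommRing R] [CommRing S] [IsDomain R] [IsDomain S]
    [IsNoetherianRing R] [IsIntegrallyClosed R]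
    [Algebra R S] [FaithfulSMul R S]
    [Group G] [Finite G] [MulSemiringAction G S] [SMulCommClass G R S] [IsGaloisGroup G R S] :
    Module.Finite R S := by
  haveI : Algebra.IsIntegral R S := Algebra.IsInvariant.isIntegral R S G
  letI := IsFractionRing.mulSemiringAction G S (FractionRing S)
  haveI hgal : IsGaloisGroup G (FractionRing R) (FractionRing S) :=
    IsGaloisGroup.toFractionRing G R S
  haveI : IsGalois (FractionRing R) (FractionRing S) :=
    IsGaloisGroup.isGalois G (FractionRing R) (FractionRing S)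
  haveI : FiniteDimensional (FractionRing R) (FractionRing S) :=
    IsGaloisGroup.finiteDimensional G (FractionRing R) (FractionRing S)
  haveI : Module.Finite R (integralClosure R (FractionRing S)) :=
    IsIntegralClosure.finite R (FractionRing R) (FractionRing S) (integralClosure R (FractionRing S))
  haveI : IsNoetherian R (integralClosure R (FractionRing S)) :=
    isNoetherian_of_isNoetherianRing_of_finite R _
  let f : S →ₗ[R] integralClosure R (FractionRing S) :=
    ((IsScalarTower.toAlgHom R S (FractionRing S)).codRestrict (integralClosure R (FractionRing S))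
      (fun s => (Algebra.IsIntegral.isIntegral s).algebraMap)).toLinearMap
  have hf : Function.Injective f := by
    intro a b hab
    have := congrArg Subtype.val hab
    exact IsFractionRing.injective S (FractionRing S) this
  exact Module.Finite.of_injective f hf

end Fin

theorem exists_free_point (κ l : Type u) [Field κ] [Field l] [Algebra κ l] [Finite (l ≃ₐ[κ] l)] :
    ∃ x : l, ∀ γ : l ≃ₐ[κ] l, γ x = x → γ = 1 := by
  cases nonempty_fintype (l ≃ₐ[κ] l)
  obtain ⟨α, hα⟩ := Field.exists_primitive_element (FixedPoints.subfield (l ≃ₐ[κ] l) l) l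
  refine ⟨α, fun γ hγ => ?_⟩
  have key : ∀ x ∈ IntermediateField.adjoin (FixedPoints.subfield (l ≃ₐ[κ] l) l) {α}, γ x = x := by
    intro x hx
    induction hx using IntermediateField.adjoin_induction with
    | mem x hx =>
      rw [Set.mem_singleton_iff] at hx; rw [hx]; exact hγ
    | algebraMap x => exact x.2 γ
    | add x y _ _ hx hy => rw [map_add, hx, hy]
    | inv x _ hx => rw [map_inv₀, hx]
    | mul x y _ _ hx hy => rw [map_mul, hx, hy]
  ext x
  exact key x (by rw [hα]; trivial)

namespace Lag

variable {R S G : Type u} [CommRing R] [CommRing S] [Algebra R S]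
  [Group G] [Fintype G] [DecidableEq G] [MulSemiringAction G S] [Algebra.IsInvariant R S G]

/-- the basic term -/
noncomputable def term (θ s : S) : S[X] :=
  C s * ∏ h ∈ (Finset.univ : Finset G).erase 1, (X - C (h • θ))

/-- the sum of translates -/
noncomputable def lag (θ s : S) : S[X] := ∑ g : G, g • term (G := G) θ s

omit [DecidableEq G] in
theorem invariant_mem_lifts (p : S[X]) (hp : ∀ g : G, g • p = p) :
    p ∈ Polynomial.lifts (algebraMap R S) := by
  rw [Polynomial.lifts_iff_coeff_lifts]
  intro n
  refine Algebra.IsInvariant.isInvariant (A := R) (G := G) _ (fun g => ?_)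
  rw [← coeff_smul, hp]

theorem smul_lag (θ s : S) (k : G) : k • lag (G := G) θ s = lag (G := G) θ s := by
  unfold lag
  rw [Finset.smul_sum]
  simp_rw [← mul_smul]
  exact Fintype.sum_equiv (Equiv.mulLeft k) _ _ (fun g => rfl)

theorem smul_term (θ s : S) (g : G) :
    g • term (G := G) θ s = C (g • s) * ∏ h ∈ (Finset.univ : Finset G).erase 1, (X - C ((g * h) • θ)) := by
  unfold term
  rw [smul_mul', smul_C, Finset.smul_prod']
  congr 1
  refine Finset.prod_congr rfl (fun h _ => ?_)
  rw [smul_sub, smul_X, smul_C, mul_smul]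

theorem eval_smul_term_of_ne (θ s : S) (g : G) (hg : g ≠ 1) :
    (g • term (G := G) θ s).eval θ = 0 := by
  rw [smul_term, eval_mul, eval_prod]
  have hmem : g⁻¹ ∈ (Finset.univ : Finset G).erase 1 := by
    rw [Finset.mem_erase]
    exact ⟨by simpa using hg, Finset.mem_univ _⟩
  rw [Finset.prod_eq_zero hmem, mul_zero]
  rw [mul_inv_cancel, one_smul, eval_sub, eval_X, eval_C, sub_self]

theorem eval_lag (θ s : S) :
    (lag (G := G) θ s).eval θ = s * ∏ h ∈ (Finset.univ : Finset G).erase 1, (θ - h • θ) := by
  unfold lag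
  rw [eval_finsetSum, Finset.sum_eq_single (1 : G)]
  · rw [one_smul]
    unfold term
    rw [eval_mul, eval_C, eval_prod]
    congr 1
    refine Finset.prod_congr rfl (fun h _ => ?_)
    rw [eval_sub, eval_X, eval_C]
  · intro g _ hg
    exact eval_smul_term_of_ne θ s g hg
  · intro h; exact absurd (Finset.mem_univ _) h

theorem exists_poly (θ s : S) :
    ∃ Q : R[X], aeval θ Q = s * ∏ h ∈ (Finset.univ : Finset G).erase 1, (θ - h • θ) := by
  obtain ⟨Q, hQ⟩ := (Polynomial.mem_lifts _).mp
    (invariant_mem_lifts (R := R) (G := G) (lag (G := G) θ s) (smul_lag θ s))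
  refine ⟨Q, ?_⟩
  rw [← eval_map_algebraMap, hQ, eval_lag]

end Lag

namespace Lag

variable {R S G : Type u} [CommRing R] [CommRing S] [Algebra R S] [Nontrivial R] [Nontrivial S]
  [Group G] [Fintype G] [DecidableEq G] [MulSemiringAction G S] [Algebra.IsInvariant R S G]

theorem exists_poly_lt (θ : S)
    (hδ : IsUnit (∏ h ∈ (Finset.univ : Finset G).erase 1, (θ - h • θ))) (s : S) :
    ∃ Q : R[X], Q.natDegree < Fintype.card G ∧ aeval θ Q = s := by
  obtain ⟨u, hu⟩ := hδ
  obtain ⟨Q0, hQ0⟩ := exists_poly (R := R) (G := G) θ (s * ((u⁻¹ : Sˣ) : S))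
  rw [← hu, mul_assoc, Units.inv_mul, mul_one] at hQ0
  obtain ⟨P₀, hP1, hP2, hP3⟩ := Polynomial.lifts_and_natDegree_eq_and_monic
    (Algebra.IsInvariant.charpoly_mem_lifts R S G θ) (MulSemiringAction.monic_charpoly G θ)
  have hdeg : P₀.natDegree = Fintype.card G := by
    rw [hP2, MulSemiringAction.charpoly_eq, Polynomial.natDegree_finsetProd_X_sub_C_eq_card,
      Finset.card_univ]
  have hroot : aeval θ P₀ = 0 := by
    rw [← eval_map_algebraMap, hP1, MulSemiringAction.eval_charpoly]
  have hne1 : P₀ ≠ 1 := by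
    intro h1
    rw [h1, natDegree_one] at hdeg
    exact Fintype.card_ne_zero hdeg.symm
  refine ⟨Q0 %ₘ P₀, ?_, ?_⟩
  · rw [← hdeg]
    exact Polynomial.natDegree_modByMonic_lt Q0 hP3 hne1
  · have := Polynomial.modByMonic_add_div Q0 P₀
    have h2 := congrArg (aeval θ) this
    rw [map_add, map_mul, hroot, zero_mul, add_zero, hQ0] at h2
    exact h2

end Lag

namespace Core

attribute [local instance] Ideal.Quotient.field

variable {R S G : Type u} [CommRing R] [CommRing S] [IsLocalRing R] [IsLocalRing S]
  [Algebra R S]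
  [Group G] [Finite G] [MulSemiringAction G S] [SMulCommClass G R S] [Algebra.IsInvariant R S G]
  (n : Ideal S) [n.IsMaximal] [n.LiesOver (maximalIdeal R)] (hn : maximalIdeal S = n)

include hn in
omit [IsLocalRing R] [Algebra R S] [SMulCommClass G R S] [Algebra.IsInvariant R S G] [Finite G]
  [n.LiesOver (maximalIdeal R)] in
theorem smul_mem (g : G) (s : S) (hs : s ∈ n) : g • s ∈ n := by
  rw [← hn] at hs ⊢
  rw [mem_maximalIdeal, mem_nonunits_iff] at hs ⊢
  intro hu
  apply hs
  have := hu.map (MulSemiringAction.toRingHom G S g⁻¹)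
  rwa [MulSemiringAction.toRingHom_apply, inv_smul_smul] at this

include hn in
omit [IsLocalRing R] [Algebra R S] [SMulCommClass G R S] [Algebra.IsInvariant R S G] [Finite G]
  [n.LiesOver (maximalIdeal R)] in
theorem smul_eq (g : G) : g • n = n := by
  ext x
  rw [Ideal.mem_pointwise_smul_iff_inv_smul_mem]
  constructor
  · intro h
    have := smul_mem n hn g _ h
    rwa [smul_inv_smul] at this
  · intro h
    exact smul_mem n hn g⁻¹ _ h

/-- the map to the stabilizer -/
def toStab : G →* MulAction.stabilizer G n where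
  toFun g := ⟨g, smul_eq n hn g⟩
  map_one' := rfl
  map_mul' _ _ := rfl

variable (R) in
/-- the action on the residue field -/
noncomputable def resHom : G →* ((S ⧸ n) ≃ₐ[R ⧸ maximalIdeal R] (S ⧸ n)) :=
  (Ideal.Quotient.stabilizerHom n (maximalIdeal R) G).comp (toStab n hn)

omit [Finite G] [Algebra.IsInvariant R S G] in
theorem resHom_mk (g : G) (s : S) :
    resHom R n hn g (Ideal.Quotient.mk n s) = Ideal.Quotient.mk n (g • s) := rfl

omit [Finite G] [Algebra.IsInvariant R S G] in
theorem resHom_eq_one_iff (g : G) : resHom (G := G) R n hn g = 1 ↔ g ∈ n.toAddSubgroup.inertia G := by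
  rw [AddSubgroup.mem_inertia]
  constructor
  · intro h s
    have := congrArg (fun σ => σ (Ideal.Quotient.mk n s)) h
    simp only [resHom_mk, AlgEquiv.one_apply] at this
    rw [Ideal.Quotient.eq] at this
    exact this
  · intro h
    ext x
    obtain ⟨s, rfl⟩ := Ideal.Quotient.mk_surjective x
    rw [resHom_mk, AlgEquiv.one_apply, Ideal.Quotient.eq]
    exact h s

theorem resHom_surjective : Function.Surjective (resHom (G := G) R n hn) := by
  intro σ
  obtain ⟨g, hg⟩ := Ideal.Quotient.stabilizerHom_surjective G (maximalIdeal R) n σ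
  exact ⟨g.1, by rw [← hg]; rfl⟩

section Fwd

variable [IsDomain S] [IsDomain R]

theorem aeval_mk (θ : S) (Q : R[X]) :
    aeval (Ideal.Quotient.mk n θ) (Q.map (Ideal.Quotient.mk (maximalIdeal R))) =
      Ideal.Quotient.mk n (aeval θ Q) := by
  have h1 : (Ideal.Quotient.mk (maximalIdeal R)) = algebraMap R (R ⧸ maximalIdeal R) := rfl
  rw [h1, aeval_map_algebraMap]
  exact aeval_algHom_apply (Ideal.Quotient.mkₐ R n) θ Q

include hn in
theorem forward (hI : n.toAddSubgroup.inertia G = ⊥) :
    (maximalIdeal R).map (algebraMap R S) = n ∧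
      Algebra.IsSeparable (R ⧸ maximalIdeal R) (S ⧸ n) := by
  classical
  cases nonempty_fintype G
  haveI : Finite ((S ⧸ n) ≃ₐ[R ⧸ maximalIdeal R] (S ⧸ n)) :=
    Finite.of_surjective _ (resHom_surjective (R := R) (G := G) n hn)
  have hinj : Function.Injective (resHom (G := G) R n hn) := by
    rw [injective_iff_map_eq_one]
    intro g hg
    have := (resHom_eq_one_iff n hn g).mp hg
    rw [hI, Subgroup.mem_bot] at this
    exact this
  obtain ⟨θb, hθb⟩ := exists_free_point (R ⧸ maximalIdeal R) (S ⧸ n)
  obtain ⟨θ, rfl⟩ := Ideal.Quotient.mk_surjective θb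
  -- distinctness
  have hfinj : Function.Injective (fun g : G => resHom (G := G) R n hn g (Ideal.Quotient.mk n θ)) := by
    intro g h hgh
    simp only at hgh
    have h1 : resHom (G := G) R n hn (h⁻¹ * g) (Ideal.Quotient.mk n θ) = Ideal.Quotient.mk n θ := by
      rw [map_mul, AlgEquiv.mul_apply, hgh, ← AlgEquiv.mul_apply, ← map_mul, inv_mul_cancel, map_one,
        AlgEquiv.one_apply]
    have h2 := hinj ((hθb _ h1).trans (map_one _).symm)
    exact (inv_mul_eq_one.mp h2).symm
  have hdist : ∀ h : G, h ≠ 1 → θ - h • θ ∉ n := by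
    intro h hh hmem
    apply hh
    apply hfinj
    simp only [resHom_mk, one_smul]
    exact ((Ideal.Quotient.eq).mpr hmem).symm
  have hδ : IsUnit (∏ h ∈ (Finset.univ : Finset G).erase 1, (θ - h • θ)) := by
    rw [IsUnit.prod_iff]
    intro h hh
    rw [Finset.mem_erase] at hh
    have := hdist h hh.1
    rw [← hn, mem_maximalIdeal, mem_nonunits_iff, not_not] at this
    exact this
  have hgen := Lag.exists_poly_lt (R := R) (G := G) θ hδ
  have hmap_le : (maximalIdeal R).map (algebraMap R S) ≤ n := by
    rw [Ideal.map_le_iff_le_comap]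
    exact le_of_eq (Ideal.LiesOver.over (p := maximalIdeal R) (P := n))
  have halginj : Function.Injective (algebraMap (R ⧸ maximalIdeal R) (S ⧸ n)) :=
    (algebraMap (R ⧸ maximalIdeal R) (S ⧸ n)).injective
  refine ⟨le_antisymm hmap_le ?_, ?_⟩
  · intro x hx
    obtain ⟨Q, hQdeg, hQ⟩ := hgen x
    have hzero : Q.map (Ideal.Quotient.mk (maximalIdeal R)) = 0 := by
      apply Polynomial.map_injective _ halginj
      rw [Polynomial.map_zero]
      refine Polynomial.eq_zero_of_natDegree_lt_card_of_eval_eq_zero _ hfinj ?_ ?_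
      · intro g
        rw [eval_map_algebraMap, aeval_algHom_apply, aeval_mk, hQ,
          Ideal.Quotient.eq_zero_iff_mem.mpr hx, map_zero]
      · exact lt_of_le_of_lt ((natDegree_map_le).trans natDegree_map_le) hQdeg
    have hcoeff : ∀ i, Q.coeff i ∈ maximalIdeal R := by
      intro i
      have := congrArg (fun q => q.coeff i) hzero
      simp only [coeff_map, coeff_zero] at this
      exact Ideal.Quotient.eq_zero_iff_mem.mp this
    rw [← hQ, aeval_eq_sum_range]
    refine Ideal.sum_mem _ (fun i _ => ?_)
    rw [Algebra.smul_def]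
    exact Ideal.mul_mem_right _ _ (Ideal.mem_map_of_mem _ (hcoeff i))
  · -- separability
    have hθsep : IsSeparable (R ⧸ maximalIdeal R) (Ideal.Quotient.mk n θ) := by
      obtain ⟨P₀, hP1, hP2, hP3⟩ := Polynomial.lifts_and_natDegree_eq_and_monic
        (Algebra.IsInvariant.charpoly_mem_lifts R S G θ) (MulSemiringAction.monic_charpoly G θ)
      set Pb := P₀.map (Ideal.Quotient.mk (maximalIdeal R)) with hPb
      have hroot : aeval (Ideal.Quotient.mk n θ) Pb = 0 := by
        rw [hPb, aeval_mk, ← eval_map_algebraMap, hP1, MulSemiringAction.eval_charpoly, map_zero]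
      have hPbmap : Pb.map (algebraMap (R ⧸ maximalIdeal R) (S ⧸ n)) =
          ∏ g : G, (X - C (resHom (G := G) R n hn g (Ideal.Quotient.mk n θ))) := by
        have h1 : (algebraMap (R ⧸ maximalIdeal R) (S ⧸ n)).comp (Ideal.Quotient.mk (maximalIdeal R)) =
            (Ideal.Quotient.mk n).comp (algebraMap R S) := by
          ext r; rfl
        rw [hPb, Polynomial.map_map, h1, ← Polynomial.map_map, hP1, MulSemiringAction.charpoly_eq,
          Polynomial.map_prod]
        refine Finset.prod_congr rfl (fun g _ => ?_)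
        rw [Polynomial.map_sub, map_X, map_C, resHom_mk]
      have hsep : Pb.Separable := by
        rw [← Polynomial.separable_map (algebraMap (R ⧸ maximalIdeal R) (S ⧸ n)), hPbmap]
        exact (separable_prod_X_sub_C_iff).mpr hfinj
      exact hsep.of_dvd (minpoly.dvd _ _ hroot)
    have hle : Algebra.adjoin (R ⧸ maximalIdeal R) {Ideal.Quotient.mk n θ} ≤
        (separableClosure (R ⧸ maximalIdeal R) (S ⧸ n)).toSubalgebra := by
      rw [Algebra.adjoin_le_iff, Set.singleton_subset_iff]
      exact mem_separableClosure_iff.mpr hθsep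
    refine ⟨fun y => ?_⟩
    obtain ⟨s, rfl⟩ := Ideal.Quotient.mk_surjective y
    obtain ⟨Q, -, hQ⟩ := hgen s
    have hmem : Ideal.Quotient.mk n s ∈ Algebra.adjoin (R ⧸ maximalIdeal R) {Ideal.Quotient.mk n θ} := by
      rw [← hQ, ← aeval_mk]
      exact aeval_mem_adjoin_singleton _ _
    exact mem_separableClosure_iff.mp (hle hmem)

end Fwd

section Bwd

variable [IsDomain S] [IsDomain R] [Module.Finite R S] [FaithfulSMul R S] [IsGaloisGroup G R S]

theorem finrank_le (h1 : (maximalIdeal R).map (algebraMap R S) = n)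
    [Module.Finite (R ⧸ maximalIdeal R) (S ⧸ n)] :
    Module.finrank R S ≤ Module.finrank (R ⧸ maximalIdeal R) (S ⧸ n) := by
  classical
  set d := Module.finrank (R ⧸ maximalIdeal R) (S ⧸ n) with hd
  let b := Module.finBasis (R ⧸ maximalIdeal R) (S ⧸ n)
  choose s hs using fun i => Ideal.Quotient.mk_surjective (b i)
  have htop : Submodule.span R (Set.range s) = ⊤ := by
    rw [eq_top_iff]
    refine Submodule.le_of_le_smul_of_le_jacobson_bot (I := maximalIdeal R)
      (Module.Finite.fg_top) (IsLocalRing.maximalIdeal_le_jacobson _) ?_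
    intro x _
    -- expand the class of x
    have hx := b.sum_repr (Ideal.Quotient.mk n x)
    choose c hc using fun i => Ideal.Quotient.mk_surjective (b.repr (Ideal.Quotient.mk n x) i)
    have hdiff : x - ∑ i, c i • s i ∈ n := by
      rw [← Ideal.Quotient.eq_zero_iff_mem, map_sub, map_sum, sub_eq_zero]
      rw [← hx]
      refine Finset.sum_congr rfl (fun i _ => ?_)
      rw [Algebra.smul_def (c i) (s i), map_mul, hs i, ← hc i, Algebra.smul_def]
      rfl
    have hdiff' : x - ∑ i, c i • s i ∈ maximalIdeal R • (⊤ : Submodule R S) := by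
      rw [Ideal.smul_top_eq_map, Submodule.restrictScalars_mem, h1]
      exact hdiff
    have : x = ∑ i, c i • s i + (x - ∑ i, c i • s i) := by ring
    rw [this]
    refine Submodule.add_mem_sup ?_ hdiff'
    refine Submodule.sum_mem _ (fun i _ => ?_)
    exact Submodule.smul_mem _ _ (Submodule.subset_span ⟨i, rfl⟩)
  have h2 := finrank_range_le_card (R := R) s
  rw [Set.finrank, htop, finrank_top, Fintype.card_fin] at h2
  exact h2

include hn in
theorem backward (h1 : (maximalIdeal R).map (algebraMap R S) = n)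
    [Module.Finite (R ⧸ maximalIdeal R) (S ⧸ n)]
    [Algebra.IsSeparable (R ⧸ maximalIdeal R) (S ⧸ n)] :
    n.toAddSubgroup.inertia G = ⊥ := by
  haveI : Normal (R ⧸ maximalIdeal R) (S ⧸ n) := Ideal.Quotient.normal G (maximalIdeal R) n
  haveI : IsGalois (R ⧸ maximalIdeal R) (S ⧸ n) := ⟨⟩
  have hΓ := IsGalois.card_aut_eq_finrank (R ⧸ maximalIdeal R) (S ⧸ n)
  have hG := IsGaloisGroup.card_eq_finrank' G R S
  have hle := finrank_le (R := R) n h1
  have hsurj := resHom_surjective (R := R) (G := G) n hn
  have hcard := Subgroup.card_eq_card_quotient_mul_card_subgroup (resHom (G := G) R n hn).ker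
  rw [Nat.card_congr (QuotientGroup.quotientKerEquivOfSurjective _ hsurj).toEquiv, hΓ, hG] at hcard
  have hdpos : 0 < Module.finrank (R ⧸ maximalIdeal R) (S ⧸ n) := Module.finrank_pos
  have hker : Nat.card (resHom (G := G) R n hn).ker ≤ 1 := by
    by_contra hlt
    push Not at hlt
    have : Module.finrank (R ⧸ maximalIdeal R) (S ⧸ n) * 2 ≤ Module.finrank R S := by
      rw [hcard]
      exact Nat.mul_le_mul_left _ hlt
    omega
  have hbot : (resHom (G := G) R n hn).ker = ⊥ := Subgroup.eq_bot_of_card_le _ hker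
  rw [eq_bot_iff]
  intro g hg
  have := (resHom_eq_one_iff (R := R) n hn g).mpr hg
  rw [← MonoidHom.mem_ker, hbot] at this
  exact this

end Bwd

end Core


section Main

theorem main_18535 (R S G : Type u) [CommRing R] [CommRing S] [IsDomain R] [IsDomain S]
    [IsNoetherianRing R] [IsLocalRing R] [IsIntegrallyClosed R]
    [IsAdicComplete (IsLocalRing.maximalIdeal R) R]
    [Algebra R S] [FaithfulSMul R S] [IsIntegrallyClosed S]
    [Group G] [Finite G] [MulSemiringAction G S] [SMulCommClass G R S] [IsGaloisGroup G R S]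
    (n : Ideal S) [n.IsMaximal] [n.LiesOver (IsLocalRing.maximalIdeal R)] :
    n.toAddSubgroup.inertia G = ⊥ ↔
      ((IsLocalRing.maximalIdeal R).map (algebraMap R S) = n ∧
        Module.Finite (R ⧸ IsLocalRing.maximalIdeal R) (S ⧸ n) ∧
        Algebra.IsSeparable (R ⧸ IsLocalRing.maximalIdeal R) (S ⧸ n)) := by
  haveI : Module.Finite R S := finite_of_isGaloisGroup R S G
  haveI : HenselianLocalRing R := Helper25.henselianLocalRing_of_isAdicComplete R
  haveI : IsLocalRing S := IsLocalRing.of_unique_max_ideal ⟨n, inferInstance, fun M hM =>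
    Helper25.maximal_unique_of_finite_of_henselian (A := R) S M n hM inferInstance⟩
  have hn : maximalIdeal S = n := (IsLocalRing.eq_maximalIdeal inferInstance).symm
  haveI : Module.Finite R (S ⧸ n) :=
    Module.Finite.of_surjective (Ideal.Quotient.mkₐ R n).toLinearMap
      (Ideal.Quotient.mkₐ_surjective R n)
  haveI hfin : Module.Finite (R ⧸ maximalIdeal R) (S ⧸ n) :=
    Module.Finite.of_restrictScalars_finite R (R ⧸ maximalIdeal R) (S ⧸ n)
  constructor
  · intro hI
    obtain ⟨h1, h2⟩ := Core.forward (R := R) (G := G) n hn hI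
    exact ⟨h1, hfin, h2⟩
  · rintro ⟨h1, h2, h3⟩
    exact Core.backward (R := R) (G := G) n hn h1

end Main

end Groth.Agent.Lib.Helper26.Inert35
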