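import Mathlib
import Groth.Agent.Lib.Helper26.Inert35

set_option autoImplicit false
set_option linter.unusedVariables false
set_option linter.unusedSectionVars false
set_option linter.style.haveILetI false
set_option linter.overlappingInstances false
universe u
open Polynomial IsLocalRing Pointwise nonZeroDivisors

namespace Groth.Agent.Lib.Helper26.Inert39
open Groth.Agent.Lib.Helper26


theorem tower_AEL (A K L : Type u) [CommRing A] [Field K] [Field L] [Algebra A K] [Algebra K L]
    [Algebra A L] [IsScalarTower A K L] (E : IntermediateField K L) : IsScalarTower A E L :=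
  IsScalarTower.of_algebraMap_eq (fun a => by
    rw [IsScalarTower.algebraMap_apply A K E, IsScalarTower.algebraMap_apply A K L]; rfl)

theorem fixed_iff (A K L B : Type u) [CommRing A] [IsDomain A] [IsDiscreteValuationRing A] [Field K]
    [Field L] [Algebra A K] [IsFractionRing A K] [Algebra K L]
    [Algebra A L] [IsScalarTower A K L] [FiniteDimensional K L] [IsGalois K L]
    [CommRing B] [Algebra A B] [Algebra B L] [IsScalarTower A B L] [IsIntegralClosure B A L]
    [MulSemiringAction (L ≃ₐ[K] L) B]
    (hact : ∀ (σ : L ≃ₐ[K] L) (b : B), algebraMap B L (σ • b) = σ (algebraMap B L b))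
    (m : Ideal B) [m.IsMaximal]
    (B' : Type u) [CommRing B'] [Algebra A B'] [Algebra B' B] [IsScalarTower A B' B] [Algebra B' L]
    [IsScalarTower B' B L]
    [Algebra B' (IntermediateField.fixedField (m.inertia (L ≃ₐ[K] L)))]
    [IsScalarTower B' (IntermediateField.fixedField (m.inertia (L ≃ₐ[K] L))) L]
    [IsIntegralClosure B' A (IntermediateField.fixedField (m.inertia (L ≃ₐ[K] L)))] (b : B) :
    (∀ σ ∈ m.inertia (L ≃ₐ[K] L), σ • b = b) ↔ b ∈ Set.range (algebraMap B' B) := by
  have hinj : Function.Injective (algebraMap B L) := IsIntegralClosure.algebraMap_injective B A L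
  haveI := tower_AEL A K L (IntermediateField.fixedField (m.inertia (L ≃ₐ[K] L)))
  constructor
  · intro h
    have hmem : algebraMap B L b ∈ IntermediateField.fixedField (m.inertia (L ≃ₐ[K] L)) := by
      rw [IntermediateField.mem_fixedField_iff]
      intro σ hσ
      rw [← hact, h σ hσ]
    have hint : IsIntegral A (algebraMap B L b) := IsIntegralClosure.isIntegral A L b |>.map
      (IsScalarTower.toAlgHom A B L)
    set e : IntermediateField.fixedField (m.inertia (L ≃ₐ[K] L)) := ⟨algebraMap B L b, hmem⟩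
      with he
    have hinte : IsIntegral A e := by
      have : algebraMap (IntermediateField.fixedField (m.inertia (L ≃ₐ[K] L))) L e =
          algebraMap B L b := rfl
      rw [← this] at hint
      exact (isIntegral_algebraMap_iff (algebraMap (IntermediateField.fixedField
        (m.inertia (L ≃ₐ[K] L))) L).injective).mp hint
    obtain ⟨b', hb'⟩ := (IsIntegralClosure.isIntegral_iff (A := B')).mp hinte
    refine ⟨b', hinj ?_⟩
    rw [← IsScalarTower.algebraMap_apply B' B L,
      IsScalarTower.algebraMap_apply B' (IntermediateField.fixedField (m.inertia (L ≃ₐ[K] L))) L,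
      hb']
    rfl
  · rintro ⟨b', rfl⟩ σ hσ
    apply hinj
    rw [hact, ← IsScalarTower.algebraMap_apply B' B L,
      IsScalarTower.algebraMap_apply B' (IntermediateField.fixedField (m.inertia (L ≃ₐ[K] L))) L]
    exact (IntermediateField.mem_fixedField_iff _ _).mp
      (algebraMap B' (IntermediateField.fixedField (m.inertia (L ≃ₐ[K] L))) b').2 σ hσ




theorem pow_injective_of_expChar {κ : Type u} [Field κ] (p₀ : ℕ) [ExpChar κ p₀] (a : ℕ)
    (y z : κ) (h : y ^ p₀ ^ a = z ^ p₀ ^ a) : y = z := by
  have h1 : (y - z) ^ p₀ ^ a = 0 := by rw [sub_pow_expChar_pow, h, sub_self]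
  exact sub_eq_zero.mp (pow_eq_zero_iff (pow_ne_zero _ (expChar_pos κ p₀).ne') |>.mp h1)

/-- some coefficient of `(X - r)^N` determines `r` up to field automorphisms. -/
theorem field_lemma {κ : Type u} [Field κ] (r : κ) (N : ℕ) (hN : 0 < N) :
    ∃ k : ℕ, ∀ γ : κ →+* κ, γ (((X - C r) ^ N).coeff k) = ((X - C r) ^ N).coeff k → γ r = r := by
  obtain ⟨p₀, hp₀⟩ := ExpChar.exists κ
  haveI := hp₀
  -- decompose N
  obtain ⟨a, e₀, hdvd, hNe⟩ : ∃ a e₀ : ℕ, (e₀ : κ) ≠ 0 ∧ N = p₀ ^ a * e₀ := by
    cases hp₀ with
    | zero =>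
      exact ⟨0, N, by exact_mod_cast hN.ne', by rw [pow_zero, one_mul]⟩
    | prime hprime =>
      obtain ⟨a, e₀, hnd, hNe⟩ := Nat.exists_eq_pow_mul_and_not_dvd hN.ne' p₀ hprime.ne_one
      refine ⟨a, e₀, ?_, hNe⟩
      rw [Ne, CharP.cast_eq_zero_iff κ p₀]
      exact hnd
  have he₀pos : 0 < e₀ := by
    rcases Nat.eq_zero_or_pos e₀ with h | h
    · rw [h] at hdvd; exact absurd (Nat.cast_zero) hdvd
    · exact h
  set q := p₀ ^ a with hq
  have hqpos : 0 < q := pow_pos (expChar_pos κ p₀) a
  -- the polynomial identity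
  have hpoly : (X - C r) ^ N = expand κ q ((X - C (r ^ q)) ^ e₀) := by
    rw [hNe, pow_mul, hq, sub_pow_expChar_pow, map_pow, map_sub, expand_X, expand_C, ← C_pow]
  have hsub : (X - C (r ^ q) : κ[X]) = X + C (-(r ^ q)) := by rw [C_neg]; ring
  have h1 : e₀ - (e₀ - 1) = 1 := by omega
  have h2 : e₀.choose (e₀ - 1) = e₀ := by
    rw [← Nat.choose_symm (by omega : e₀ - 1 ≤ e₀), h1, Nat.choose_one_right]
  have hcoeff : ((X - C r) ^ N).coeff ((e₀ - 1) * q) = -(r ^ q) * (e₀ : κ) := by
    rw [hpoly, coeff_expand_mul hqpos, hsub, coeff_X_add_C_pow, h1, pow_one, h2]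
  refine ⟨(e₀ - 1) * q, fun γ hγ => ?_⟩
  rw [hcoeff, map_mul, map_neg, map_pow, map_natCast] at hγ
  have h3 : (γ r) ^ q = r ^ q := by
    have := mul_right_cancel₀ hdvd hγ
    exact neg_injective this
  exact pow_injective_of_expChar p₀ a _ _ h3

section PPow

attribute [local instance] Ideal.Quotient.field

theorem exists_inv_lift {B : Type u} [CommRing B] (m : Ideal B) [m.IsMaximal]
    {H : Type u} [Group H] [Finite H] [MulSemiringAction H B]
    (htriv : ∀ (τ : H) (x : B), τ • x - x ∈ m) (x : B) :
    ∃ c : B, (∀ τ : H, τ • c = c) ∧ ∀ γ : (B ⧸ m) →+* (B ⧸ m),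
      γ (Ideal.Quotient.mk m c) = Ideal.Quotient.mk m c →
        γ (Ideal.Quotient.mk m x) = Ideal.Quotient.mk m x := by
  classical
  cases nonempty_fintype H
  obtain ⟨k, hk⟩ := field_lemma (Ideal.Quotient.mk m x) (Fintype.card H) Fintype.card_pos
  have hmap : (MulSemiringAction.charpoly H x).map (Ideal.Quotient.mk m) =
      (X - C (Ideal.Quotient.mk m x)) ^ Fintype.card H := by
    rw [MulSemiringAction.charpoly_eq, Polynomial.map_prod]
    have : ∀ τ : H, (X - C (τ • x)).map (Ideal.Quotient.mk m) = X - C (Ideal.Quotient.mk m x) := by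
      intro τ
      rw [Polynomial.map_sub, map_X, map_C]
      congr 2
      exact (Ideal.Quotient.eq).mpr (htriv τ x)
    simp_rw [this]
    rw [Finset.prod_const, Finset.card_univ]
  refine ⟨(MulSemiringAction.charpoly H x).coeff k,
    fun τ => MulSemiringAction.smul_coeff_charpoly x k τ, fun γ hγ => hk γ ?_⟩
  rw [← hmap, coeff_map]
  exact hγ

end PPow


section Free
open Pointwise
attribute [local instance] Ideal.Quotient.field

variable {A B G : Type u} [CommRing A] [CommRing B] [Algebra A B] [Group G] [Finite G]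
  [MulSemiringAction G B] [SMulCommClass G A B] [Algebra.IsInvariant A B G]
  (m : Ideal B) [hm : m.IsMaximal]

include A in
theorem exists_c : ∃ c : B, (∀ τ ∈ m.inertia G, τ • c = c) ∧ c ∉ m ∧
    ∀ σ : G, σ • m = m → σ • c - c ∈ m → σ ∈ m.inertia G := by
  classical
  haveI : Algebra.IsIntegral A B := Algebra.IsInvariant.isIntegral A B G
  set p := m.under A with hp
  haveI : p.IsMaximal := Ideal.isMaximal_comap_of_isIntegral_of_isMaximal m
  -- Aut finite
  have hsurj := Ideal.Quotient.stabilizerHom_surjective G p m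
  haveI : Finite ((B ⧸ m) ≃ₐ[A ⧸ p] (B ⧸ m)) := Finite.of_surjective _ hsurj
  obtain ⟨α, hα⟩ := Inert35.exists_free_point (A ⧸ p) (B ⧸ m)
  obtain ⟨x, rfl⟩ := Ideal.Quotient.mk_surjective α
  obtain ⟨c₀, hc₀fix, hc₀⟩ := exists_inv_lift (H := ↥(m.inertia G)) m (fun τ x => τ.2 x) x
  -- key: any σ in stabilizer with σ c₀ ≡ c₀ is in inertia
  have key : ∀ σ : G, σ • m = m → σ • c₀ - c₀ ∈ m → σ ∈ m.inertia G := by
    intro σ hσ hc
    let g : MulAction.stabilizer G m := ⟨σ, hσ⟩
    have h1 : (Ideal.Quotient.stabilizerHom m p G g) (Ideal.Quotient.mk m c₀) =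
        Ideal.Quotient.mk m c₀ := by
      rw [Ideal.Quotient.stabilizerHom_apply]; exact Ideal.Quotient.eq.mpr hc
    have h2 := hc₀ ((Ideal.Quotient.stabilizerHom m p G g : (B ⧸ m) ≃ₐ[A ⧸ p] (B ⧸ m)) :
      (B ⧸ m) →+* (B ⧸ m)) h1
    have h3 : Ideal.Quotient.stabilizerHom m p G g = 1 := hα _ h2
    have h4 : g ∈ (Ideal.Quotient.stabilizerHom m p G).ker := h3
    rw [Ideal.Quotient.ker_stabilizerHom] at h4
    exact Ideal.coe_mem_inertia.mpr h4
  by_cases hcm : c₀ ∈ m
  · refine ⟨1, fun τ _ => smul_one τ, (Ideal.ne_top_iff_one m).mp hm.ne_top,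
      fun σ hσ _ => key σ hσ ?_⟩
    refine m.sub_mem ?_ hcm
    have : σ • c₀ ∈ σ • m := Ideal.smul_mem_pointwise_smul σ c₀ m hcm
    rwa [hσ] at this
  · exact ⟨c₀, fun τ hτ => hc₀fix ⟨τ, hτ⟩, hcm, key⟩

omit [Algebra A B] [SMulCommClass G A B] [Algebra.IsInvariant A B G] in
theorem exists_z : ∃ z : B, z - 1 ∈ m ∧ ∀ σ : G, σ • m ≠ m → σ • z ∈ m := by
  classical
  cases nonempty_fintype G
  have hex : ∀ σ : G, σ • m ≠ m → ∃ y : B, σ • y ∈ m ∧ y ∉ m := by
    intro σ hσ
    by_contra hcon
    push Not at hcon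
    have hle : σ⁻¹ • m ≤ m := fun y hy => hcon y (Ideal.mem_inv_pointwise_smul_iff.mp hy)
    have hmax : (σ⁻¹ • m).IsMaximal := by
      rw [Ideal.pointwise_smul_def]
      exact Ideal.map_isMaximal_of_equiv (MulSemiringAction.toRingEquiv G B σ⁻¹)
    have heq : σ⁻¹ • m = m := hmax.eq_of_le hm.ne_top hle
    apply hσ
    conv_lhs => rw [← heq]
    rw [smul_inv_smul]
  choose! y hy using hex
  set S : Finset G := Finset.univ.filter (fun σ => σ • m ≠ m) with hS
  set η := ∏ σ ∈ S, y σ with hη
  have hη1 : η ∉ m := by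
    intro h
    obtain ⟨σ, hσ, hmem⟩ := (Ideal.IsPrime.prod_mem_iff).mp h
    rw [hS, Finset.mem_filter] at hσ
    exact (hy σ hσ.2).2 hmem
  have hη2 : ∀ σ : G, σ • m ≠ m → σ • η ∈ m := by
    intro σ hσ
    have hdvd : y σ ∣ η := Finset.dvd_prod_of_mem _ (by rw [hS, Finset.mem_filter]; exact ⟨Finset.mem_univ _, hσ⟩)
    obtain ⟨w, hw⟩ := hdvd
    rw [hw, smul_mul']
    exact m.mul_mem_right _ (hy σ hσ).1
  obtain ⟨w, i, hi, hw⟩ := hm.exists_inv hη1
  refine ⟨η * w, ?_, fun σ hσ => ?_⟩
  · have : η * w - 1 = -i := by rw [← hw]; ring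
    rw [this]; exact m.neg_mem hi
  · rw [smul_mul']
    exact m.mul_mem_right _ (hη2 σ hσ)

include A in
theorem exists_theta_B : ∃ t : B, (∀ τ ∈ m.inertia G, τ • t = t) ∧
    ∀ σ : G, σ ∉ m.inertia G → t - σ • t ∉ m := by
  classical
  cases nonempty_fintype G
  obtain ⟨c, hc1, hc2, hc3⟩ := exists_c (A := A) (G := G) m
  obtain ⟨z, hz1, hz2⟩ := exists_z (G := G) m
  set N := ∏ τ : ↥(m.inertia G), τ • z with hN
  have hNfix : ∀ τ ∈ m.inertia G, τ • N = N := by
    intro τ hτ
    rw [hN, Finset.smul_prod']
    exact Fintype.prod_equiv (Equiv.mulLeft (⟨τ, hτ⟩ : ↥(m.inertia G))) _ _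
      (fun ρ => by simp [mul_smul, Subgroup.smul_def])
  have hN1 : N - 1 ∈ m := by
    rw [← Ideal.Quotient.eq, hN, map_prod, map_one]
    refine Finset.prod_eq_one (fun τ _ => ?_)
    have h1 : Ideal.Quotient.mk m (τ • z) = Ideal.Quotient.mk m z := Ideal.Quotient.eq.mpr (τ.2 z)
    rw [h1, ← map_one (Ideal.Quotient.mk m)]
    exact Ideal.Quotient.eq.mpr hz1
  have hN2 : ∀ σ : G, σ • m ≠ m → σ • N ∈ m := by
    intro σ hσ
    have hdvd : z ∣ N := by
      have := Finset.dvd_prod_of_mem (fun τ : ↥(m.inertia G) => τ • z) (Finset.mem_univ (1 : ↥(m.inertia G)))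
      simpa using this
    obtain ⟨w, hw⟩ := hdvd
    rw [hw, smul_mul']
    exact m.mul_mem_right _ (hz2 σ hσ)
  refine ⟨c * N, fun τ hτ => by rw [smul_mul', hc1 τ hτ, hNfix τ hτ], fun σ hσ hmem => ?_⟩
  have htc : c * N - c ∈ m := by
    have : c * N - c = c * (N - 1) := by ring
    rw [this]; exact m.mul_mem_left _ hN1
  by_cases hst : σ • m = m
  · apply hσ
    apply hc3 σ hst
    -- σ • c - c = σ • (c - cN) + (σ • (cN) - cN) + (cN - c)
    have h1 : σ • (c * N - c) ∈ m := by
      have : σ • (c * N - c) ∈ σ • m := Ideal.smul_mem_pointwise_smul σ _ m htc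
      rwa [hst] at this
    have : σ • c - c = -(σ • (c * N - c)) - (c * N - σ • (c * N)) + (c * N - c) := by
      rw [smul_sub]; ring
    rw [this]
    exact m.add_mem (m.sub_mem (m.neg_mem h1) hmem) htc
  · have h1 : σ • (c * N) ∈ m := by
      rw [smul_mul']; exact m.mul_mem_left _ (hN2 σ hst)
    have h2 : c * N ∈ m := by
      have := m.add_mem hmem h1
      rwa [sub_add_cancel] at this
    apply hc2
    have := m.sub_mem h2 htc
    rwa [sub_sub_cancel] at this

end Free





theorem fp_loc (B' : Type u) [CommRing B'] [IsDomain B'] [IsDedekindDomain B']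
    (hfin : {n : Ideal B' | n.IsMaximal}.Finite) (m' : Ideal B') [hm' : m'.IsMaximal] :
    Algebra.FinitePresentation B' (Localization.AtPrime m') := by
  classical
  have hex : ∀ n : Ideal B', n.IsMaximal → n ≠ m' → ∃ y, y ∈ n ∧ y ∉ m' := by
    intro n hn hne
    by_contra hcon
    push Not at hcon
    exact hne (hn.eq_of_le hm'.ne_top hcon)
  choose! y hy using hex
  set S : Finset (Ideal B') := hfin.toFinset.erase m' with hS
  set g := ∏ n ∈ S, y n with hg
  have hmemS : ∀ n, n ∈ S ↔ n.IsMaximal ∧ n ≠ m' := by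
    intro n
    rw [hS, Finset.mem_erase, Set.Finite.mem_toFinset, Set.mem_ofPred_eq, and_comm]
  have hg1 : g ∉ m' := by
    intro h
    obtain ⟨n, hn, hmem⟩ := (Ideal.IsPrime.prod_mem_iff).mp h
    obtain ⟨hn1, hn2⟩ := (hmemS n).mp hn
    exact (hy n hn1 hn2).2 hmem
  have hg2 : ∀ n : Ideal B', n.IsMaximal → n ≠ m' → g ∈ n := by
    intro n hn1 hn2
    have : y n ∣ g := Finset.dvd_prod_of_mem _ ((hmemS n).mpr ⟨hn1, hn2⟩)
    exact Ideal.mem_of_dvd _ this (hy n hn1 hn2).1
  have h₁ : Submonoid.powers g ≤ m'.primeCompl := by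
    rintro _ ⟨k, rfl⟩
    show g ^ k ∉ m'
    intro h
    exact hg1 (hm'.isPrime.mem_of_pow_mem k h)
  have h₂ : ∀ s ∈ m'.primeCompl, ∃ t ∈ Submonoid.powers g, s ∣ t := by
    intro s hs
    have hs' : s ∉ m' := hs
    have hrad : g ∈ (Ideal.span {s}).radical := by
      rw [Ideal.radical_eq_sInf, Ideal.mem_sInf]
      rintro P ⟨hP1, hP2⟩
      have hsP : s ∈ P := hP1 (Ideal.mem_span_singleton_self s)
      have hPbot : P ≠ ⊥ := by
        rintro rfl
        rw [Ideal.mem_bot] at hsP
        exact hs' (hsP ▸ m'.zero_mem)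
      have hPmax : P.IsMaximal := hP2.isMaximal hPbot
      have hPne : P ≠ m' := by
        rintro rfl
        exact hs' hsP
      exact hg2 P hPmax hPne
    obtain ⟨k, hk⟩ := hrad
    exact ⟨g ^ k, ⟨k, rfl⟩, Ideal.mem_span_singleton.mp hk⟩
  haveI : IsLocalization m'.primeCompl (Localization.Away g) :=
    IsLocalization.of_le_of_exists_dvd (Submonoid.powers g) m'.primeCompl h₁ h₂
  have e : Localization.Away g ≃ₐ[B'] Localization.AtPrime m' :=
    IsLocalization.algEquiv m'.primeCompl _ _
  haveI : Algebra.FinitePresentation B' (Localization.Away g) :=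
    IsLocalization.Away.finitePresentation g
  exact Algebra.FinitePresentation.equiv e




section Et

attribute [local instance] FractionRing.liftAlgebra FractionRing.isScalarTower_liftAlgebra

theorem unram_of_deriv (A K E B' : Type u) [CommRing A] [IsDomain A] [IsDedekindDomain A] [Field K]
    [Field E]
    [Algebra A K] [IsFractionRing A K] [Algebra K E] [Algebra A E] [IsScalarTower A K E]
    [FiniteDimensional K E] [Algebra.IsSeparable K E]
    [CommRing B'] [Algebra A B'] [Algebra B' E] [IsScalarTower A B' E] [IsIntegralClosure B' A E]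
    [IsDomain B'] [IsDedekindDomain B'] [Module.Finite A B'] [Module.IsTorsionFree A B']
    (m' : Ideal B') [m'.IsPrime] (θ : B')
    (hθ : Algebra.adjoin K {algebraMap B' E θ} = ⊤)
    (hd : aeval θ (derivative (minpoly A θ)) ∉ m') :
    Algebra.FormallyUnramified A (Localization.AtPrime m') := by
  haveI : IsFractionRing B' E := IsIntegralClosure.isFractionRing_of_finite_extension A K E B'
  have H : RingHom.comp (algebraMap (FractionRing A) (FractionRing B'))
      ↑(FractionRing.algEquiv A K).symm.toRingEquiv =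
        RingHom.comp ↑(FractionRing.algEquiv B' E).symm.toRingEquiv (algebraMap K E) := by
    apply IsLocalization.ringHom_ext A⁰
    ext
    simp only [RingHom.coe_comp, RingHom.coe_coe,
      AlgEquiv.coe_ringEquiv, Function.comp_apply, AlgEquiv.commutes,
      ← IsScalarTower.algebraMap_apply]
    rw [IsScalarTower.algebraMap_apply A B' E, AlgEquiv.commutes, ← IsScalarTower.algebraMap_apply]
  haveI : Algebra.IsSeparable (FractionRing A) (FractionRing B') :=
    Algebra.IsSeparable.of_equiv_equiv _ _ H
  have hmem := aeval_derivative_mem_differentIdeal A K E θ hθ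
  have hnd : ¬ m' ∣ differentIdeal A B' := by
    intro hdvd
    exact hd (Ideal.le_of_dvd hdvd hmem)
  exact not_dvd_differentIdeal_iff.mp hnd

end Et


theorem etale_of_deriv (A K E B' : Type u) [CommRing A] [IsDomain A] [IsDiscreteValuationRing A]
    [Field K] [Field E]
    [Algebra A K] [IsFractionRing A K] [Algebra K E] [Algebra A E] [IsScalarTower A K E]
    [FiniteDimensional K E] [Algebra.IsSeparable K E]
    [CommRing B'] [Algebra A B'] [Algebra B' E] [IsScalarTower A B' E] [IsIntegralClosure B' A E]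
    (m' : Ideal B') [m'.IsMaximal] (θ : B')
    (hθ : Algebra.adjoin K {algebraMap B' E θ} = ⊤)
    (hd : aeval θ (derivative (minpoly A θ)) ∉ m') :
    Algebra.Etale A (Localization.AtPrime m') := by
  haveI : IsDomain B' := (IsIntegralClosure.algebraMap_injective B' A E).isDomain _
  haveI : IsDedekindDomain B' := IsIntegralClosure.isDedekindDomain A K E B'
  haveI : Module.Finite A B' := IsIntegralClosure.finite A K E B'
  have hinjAE : Function.Injective (algebraMap A E) := by
    rw [IsScalarTower.algebraMap_eq A K E]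
    exact (algebraMap K E).injective.comp (IsFractionRing.injective A K)
  have hinjAB : Function.Injective (algebraMap A B') := by
    have : (algebraMap A E) = (algebraMap B' E).comp (algebraMap A B') :=
      IsScalarTower.algebraMap_eq A B' E
    rw [this] at hinjAE
    exact Function.Injective.of_comp hinjAE
  haveI : Module.IsTorsionFree A B' := Module.isTorsionFree_iff_algebraMap_injective.mpr hinjAB
  haveI : Algebra.FormallyUnramified A (Localization.AtPrime m') :=
    unram_of_deriv A K E B' m' θ hθ hd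
  haveI : Module.Flat B' (Localization.AtPrime m') := IsLocalization.flat _ m'.primeCompl
  haveI : Module.Flat A (Localization.AtPrime m') := Module.Flat.trans A B' _
  haveI : Algebra.IsIntegral A B' := IsIntegralClosure.isIntegral_algebra A E
  have hfin : {n : Ideal B' | n.IsMaximal}.Finite := by
    refine (IsDedekindDomain.primesOver_finite (IsLocalRing.maximalIdeal A) B').subset ?_
    intro n hn
    have hn' : n.IsMaximal := hn
    refine ⟨hn'.isPrime, ⟨?_⟩⟩
    haveI := Ideal.isMaximal_comap_of_isIntegral_of_isMaximal (R := A) n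
    exact (IsLocalRing.eq_maximalIdeal this).symm
  haveI : Algebra.FinitePresentation B' (Localization.AtPrime m') := fp_loc B' hfin m'
  haveI : Algebra.FinitePresentation A B' :=
    Algebra.FinitePresentation.of_finiteType.mp inferInstance
  haveI : Algebra.FinitePresentation A (Localization.AtPrime m') :=
    Algebra.FinitePresentation.trans A B' _
  exact Algebra.Etale.of_formallyUnramified_of_flat




theorem prod_mem_image {B L : Type u} [CommRing B] [CommRing L] [Algebra B L] (m : Ideal B)
    [m.IsPrime] (s : Multiset L) (h : ∀ x ∈ s, ∃ b : B, b ∉ m ∧ algebraMap B L b = x) :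
    ∃ b : B, b ∉ m ∧ algebraMap B L b = s.prod := by
  induction s using Multiset.induction_on with
  | empty => exact ⟨1, (Ideal.ne_top_iff_one m).mp (Ideal.IsPrime.ne_top ‹_›), by simp⟩
  | cons a s ih =>
    obtain ⟨b1, hb1, hb1'⟩ := h a (Multiset.mem_cons_self a s)
    obtain ⟨b2, hb2, hb2'⟩ := ih (fun x hx => h x (Multiset.mem_cons_of_mem hx))
    refine ⟨b1 * b2, fun hmem => ?_, by rw [map_mul, hb1', hb2', Multiset.prod_cons]⟩
    rcases Ideal.IsPrime.mem_or_mem ‹_› hmem with h' | h'
    · exact hb1 h'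
    · exact hb2 h'

theorem smulComm (A K L B : Type u) [CommRing A] [IsDomain A] [IsDiscreteValuationRing A] [Field K]
    [Field L] [Algebra A K] [IsFractionRing A K] [Algebra K L]
    [Algebra A L] [IsScalarTower A K L] [FiniteDimensional K L] [IsGalois K L]
    [CommRing B] [Algebra A B] [Algebra B L] [IsScalarTower A B L] [IsIntegralClosure B A L]
    [MulSemiringAction (L ≃ₐ[K] L) B]
    (hact : ∀ (σ : L ≃ₐ[K] L) (b : B), algebraMap B L (σ • b) = σ (algebraMap B L b))
    (m : Ideal B) [m.IsMaximal] : SMulCommClass (L ≃ₐ[K] L) A B := by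
  have hinj : Function.Injective (algebraMap B L) := IsIntegralClosure.algebraMap_injective B A L
  refine ⟨fun σ a b => hinj ?_⟩
  rw [hact, Algebra.smul_def, Algebra.smul_def, map_mul, map_mul, map_mul, hact,
    ← IsScalarTower.algebraMap_apply A B L, IsScalarTower.algebraMap_apply A K L, σ.commutes]

theorem isInvariant (A K L B : Type u) [CommRing A] [IsDomain A] [IsDiscreteValuationRing A] [Field K]
    [Field L] [Algebra A K] [IsFractionRing A K] [Algebra K L]
    [Algebra A L] [IsScalarTower A K L] [FiniteDimensional K L] [IsGalois K L]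
    [CommRing B] [Algebra A B] [Algebra B L] [IsScalarTower A B L] [IsIntegralClosure B A L]
    [MulSemiringAction (L ≃ₐ[K] L) B]
    (hact : ∀ (σ : L ≃ₐ[K] L) (b : B), algebraMap B L (σ • b) = σ (algebraMap B L b))
    (m : Ideal B) [m.IsMaximal] : Algebra.IsInvariant A B (L ≃ₐ[K] L) := by
  have hinj : Function.Injective (algebraMap B L) := IsIntegralClosure.algebraMap_injective B A L
  refine ⟨fun b hb => ?_⟩
  have h1 : algebraMap B L b ∈ Set.range (algebraMap K L) := by
    rw [IsGalois.mem_range_algebraMap_iff_fixed]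
    intro σ
    rw [← hact, hb]
  obtain ⟨k, hk⟩ := h1
  have hint : IsIntegral A (algebraMap B L b) := IsIntegralClosure.isIntegral A L b |>.map
      (IsScalarTower.toAlgHom A B L)
  rw [← hk] at hint
  have hintk : IsIntegral A k := (isIntegral_algebraMap_iff (algebraMap K L).injective).mp hint
  obtain ⟨a, ha⟩ := IsIntegrallyClosed.isIntegral_iff.mp hintk
  refine ⟨a, hinj ?_⟩
  rw [← IsScalarTower.algebraMap_apply A B L, IsScalarTower.algebraMap_apply A K L, ha, hk]

theorem deriv_not_mem (A K L B : Type u) [CommRing A] [IsDomain A] [IsDiscreteValuationRing A] [Field K]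
    [Field L] [Algebra A K] [IsFractionRing A K] [Algebra K L]
    [Algebra A L] [IsScalarTower A K L] [FiniteDimensional K L] [IsGalois K L]
    [CommRing B] [Algebra A B] [Algebra B L] [IsScalarTower A B L] [IsIntegralClosure B A L]
    [MulSemiringAction (L ≃ₐ[K] L) B]
    (hact : ∀ (σ : L ≃ₐ[K] L) (b : B), algebraMap B L (σ • b) = σ (algebraMap B L b))
    (m : Ideal B) [m.IsMaximal] (t : B)
    (htI : ∀ σ ∈ m.inertia (L ≃ₐ[K] L), σ • t = t)
    (ht : ∀ σ : L ≃ₐ[K] L, σ ∉ m.inertia (L ≃ₐ[K] L) → t - σ • t ∉ m) :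
    ∃ b₀ : B, b₀ ∉ m ∧ algebraMap B L b₀ =
      eval (algebraMap B L t) (derivative ((minpoly K (algebraMap B L t)).map (algebraMap K L))) := by
  classical
  set θL := algebraMap B L t with hθL
  set fL := (minpoly K θL).map (algebraMap K L) with hfL
  have hsplits : fL.Splits := Normal.splits inferInstance θL
  have hint : IsIntegral K θL := Algebra.IsIntegral.isIntegral θL
  have hmonic : fL.Monic := (minpoly.monic hint).map _
  have hsep : fL.Separable := Polynomial.Separable.map (Algebra.IsSeparable.isSeparable K θL)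
  have hroot : θL ∈ fL.roots := by
    rw [mem_roots hmonic.ne_zero, IsRoot.def, hfL, eval_map_algebraMap, minpoly.aeval]
  rw [hsplits.eval_root_derivative hmonic hroot]
  apply prod_mem_image
  intro x hx
  rw [Multiset.mem_map] at hx
  obtain ⟨c, hc, rfl⟩ := hx
  rw [(nodup_roots hsep).mem_erase_iff] at hc
  obtain ⟨hne, hcroot⟩ := hc
  rw [mem_roots hmonic.ne_zero, IsRoot.def, hfL, eval_map_algebraMap] at hcroot
  obtain ⟨σ, hσ⟩ := minpoly.exists_algEquiv_of_root' hint.isAlgebraic hcroot
  have hσI : σ ∉ m.inertia (L ≃ₐ[K] L) := by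
    intro h
    apply hne
    rw [← hσ, hθL, ← hact, htI σ h]
  refine ⟨t - σ • t, ht σ hσI, ?_⟩
  rw [map_sub, hact, hσ]


theorem main_7139 (A K L B : Type u) [CommRing A] [IsDomain A] [IsDiscreteValuationRing A] [Field K]
    [Field L] [Algebra A K] [IsFractionRing A K] [Algebra K L]
    [Algebra A L] [IsScalarTower A K L] [FiniteDimensional K L] [IsGalois K L]
    [CommRing B] [Algebra A B] [Algebra B L] [IsScalarTower A B L] [IsIntegralClosure B A L]
    [MulSemiringAction (L ≃ₐ[K] L) B]
    (hact : ∀ (σ : L ≃ₐ[K] L) (b : B), algebraMap B L (σ • b) = σ (algebraMap B L b))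
    (m : Ideal B) [m.IsMaximal]
    (B' : Type u) [CommRing B'] [Algebra A B'] [Algebra B' B] [IsScalarTower A B' B] [Algebra B' L]
    [IsScalarTower B' B L]
    [Algebra B' (IntermediateField.fixedField (m.inertia (L ≃ₐ[K] L)))]
    [IsScalarTower B' (IntermediateField.fixedField (m.inertia (L ≃ₐ[K] L))) L]
    [IsIntegralClosure B' A (IntermediateField.fixedField (m.inertia (L ≃ₐ[K] L)))] :
    (∀ b : B, (∀ σ ∈ m.inertia (L ≃ₐ[K] L), σ • b = b) ↔ b ∈ Set.range (algebraMap B' B)) ∧
      Algebra.Etale A (Localization.AtPrime (m.comap (algebraMap B' B))) := by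
  classical
  refine ⟨fun b => fixed_iff A K L B hact m B' b, ?_⟩
  have hinj : Function.Injective (algebraMap B L) := IsIntegralClosure.algebraMap_injective B A L
  haveI := tower_AEL A K L (IntermediateField.fixedField (m.inertia (L ≃ₐ[K] L)))
  haveI := smulComm A K L B hact m
  haveI := isInvariant A K L B hact m
  obtain ⟨t, htI, ht⟩ := exists_theta_B (A := A) (G := L ≃ₐ[K] L) m
  obtain ⟨θ, hθt⟩ := (fixed_iff A K L B hact m B' t).mp htI
  haveI : IsScalarTower A B' (IntermediateField.fixedField (m.inertia (L ≃ₐ[K] L))) :=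
    IsScalarTower.of_algebraMap_eq (fun a => by
      apply (algebraMap (IntermediateField.fixedField (m.inertia (L ≃ₐ[K] L))) L).injective
      rw [← IsScalarTower.algebraMap_apply A
          (IntermediateField.fixedField (m.inertia (L ≃ₐ[K] L))) L,
        ← IsScalarTower.algebraMap_apply B'
          (IntermediateField.fixedField (m.inertia (L ≃ₐ[K] L))) L,
        IsScalarTower.algebraMap_apply B' B L, ← IsScalarTower.algebraMap_apply A B' B,
        ← IsScalarTower.algebraMap_apply A B L])
  haveI : IsScalarTower A B' L := IsScalarTower.of_algebraMap_eq (fun a => by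
    rw [IsScalarTower.algebraMap_apply B' B L, ← IsScalarTower.algebraMap_apply A B' B,
      ← IsScalarTower.algebraMap_apply A B L])
  haveI : Algebra.IsSeparable K (IntermediateField.fixedField (m.inertia (L ≃ₐ[K] L))) :=
    Algebra.isSeparable_tower_bot_of_isSeparable K _ L
  haveI : Algebra.IsIntegral A B := IsIntegralClosure.isIntegral_algebra A L
  haveI : Algebra.IsIntegral B' B := Algebra.IsIntegral.tower_top A
  haveI : (m.comap (algebraMap B' B)).IsMaximal :=
    Ideal.isMaximal_comap_of_isIntegral_of_isMaximal m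
  have hθL : algebraMap (IntermediateField.fixedField (m.inertia (L ≃ₐ[K] L))) L
      (algebraMap B' (IntermediateField.fixedField (m.inertia (L ≃ₐ[K] L))) θ) =
        algebraMap B L t := by
    rw [← IsScalarTower.algebraMap_apply B'
      (IntermediateField.fixedField (m.inertia (L ≃ₐ[K] L))) L,
      IsScalarTower.algebraMap_apply B' B L, hθt]
  have hθ : Algebra.adjoin K
      {algebraMap B' (IntermediateField.fixedField (m.inertia (L ≃ₐ[K] L))) θ} = ⊤ := by
    have hfix : (IntermediateField.adjoin K {algebraMap B L t}).fixingSubgroup =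
        m.inertia (L ≃ₐ[K] L) := by
      apply le_antisymm
      · intro σ hσ
        by_contra hσI
        apply ht σ hσI
        have h1 : σ (algebraMap B L t) = algebraMap B L t :=
          (IntermediateField.mem_fixingSubgroup_iff _ _).mp hσ _
            (IntermediateField.mem_adjoin_simple_self K _)
        have h2 : σ • t = t := hinj (by rw [hact, h1])
        rw [h2, sub_self]; exact m.zero_mem
      · rw [← IntermediateField.le_iff_le, IntermediateField.adjoin_simple_le_iff, ← hθL]
        exact (algebraMap B' (IntermediateField.fixedField (m.inertia (L ≃ₐ[K] L))) θ).2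
    have hEeq : IntermediateField.adjoin K {algebraMap B L t} =
        IntermediateField.fixedField (m.inertia (L ≃ₐ[K] L)) := by
      rw [← IsGalois.fixedField_fixingSubgroup (IntermediateField.adjoin K {algebraMap B L t}),
        hfix]
    have htop : IntermediateField.adjoin K
        {algebraMap B' (IntermediateField.fixedField (m.inertia (L ≃ₐ[K] L))) θ} = ⊤ := by
      apply IntermediateField.lift_injective
        (IntermediateField.fixedField (m.inertia (L ≃ₐ[K] L)))
      rw [IntermediateField.lift_adjoin_simple, IntermediateField.lift_top]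
      have h' : ((algebraMap B' (IntermediateField.fixedField (m.inertia (L ≃ₐ[K] L))) θ :
          IntermediateField.fixedField (m.inertia (L ≃ₐ[K] L))) : L) = algebraMap B L t := hθL
      rw [h']
      exact hEeq
    have h3 := IntermediateField.adjoin_simple_toSubalgebra_of_isAlgebraic (F := K)
      (α := algebraMap B' (IntermediateField.fixedField (m.inertia (L ≃ₐ[K] L))) θ)
      (Algebra.IsAlgebraic.isAlgebraic _)
    rw [← h3, htop, IntermediateField.top_toSubalgebra]
  have hd : aeval θ (derivative (minpoly A θ)) ∉ m.comap (algebraMap B' B) := by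
    intro hmem
    have hmem' : algebraMap B' B (aeval θ (derivative (minpoly A θ))) ∈ m := hmem
    obtain ⟨b₀, hb₀, hb₀'⟩ := deriv_not_mem A K L B hact m t htI ht
    have hintθ : IsIntegral A θ :=
      IsIntegralClosure.isIntegral A (IntermediateField.fixedField (m.inertia (L ≃ₐ[K] L))) θ
    haveI : IsDomain B' := (IsIntegralClosure.algebraMap_injective B' A
      (IntermediateField.fixedField (m.inertia (L ≃ₐ[K] L)))).isDomain _
    have h1 : minpoly K (algebraMap B' (IntermediateField.fixedField (m.inertia (L ≃ₐ[K] L))) θ) =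
        (minpoly A θ).map (algebraMap A K) :=
      minpoly.isIntegrallyClosed_eq_field_fractions K _ hintθ
    have h2 : minpoly K (algebraMap B L t) =
        minpoly K (algebraMap B' (IntermediateField.fixedField (m.inertia (L ≃ₐ[K] L))) θ) := by
      rw [← hθL]
      exact minpoly.algebraMap_eq
        (algebraMap (IntermediateField.fixedField (m.inertia (L ≃ₐ[K] L))) L).injective _
    have h3 : algebraMap B L (algebraMap B' B (aeval θ (derivative (minpoly A θ)))) =
        algebraMap B L b₀ := by
      rw [hb₀', h2, h1, Polynomial.map_map, ← IsScalarTower.algebraMap_eq A K L, derivative_map,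
        eval_map_algebraMap, ← hθt, ← IsScalarTower.algebraMap_apply B' B L,
        ← IsScalarTower.algebraMap_apply B' B L, aeval_algebraMap_apply]
    rw [hinj h3] at hmem'
    exact hb₀ hmem'
  exact etale_of_deriv A K (IntermediateField.fixedField (m.inertia (L ≃ₐ[K] L))) B'
    (m.comap (algebraMap B' B)) θ hθ hd

end Groth.Agent.Lib.Helper26.Inert39
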