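import Mathlib

set_option autoImplicit false
set_option linter.style.haveILetI false
set_option linter.unusedSectionVars false
set_option linter.unusedVariables false

namespace Groth.Agent.Lib.Helper26.InjResMap

open CategoryTheory CategoryTheory.Limits ZeroObject

universe v u

variable {C : Type u} [Category.{v} C] [Abelian C]

/-- the terms of the complex shifted to the right -/
noncomputable def SX (K : CochainComplex C ℕ) : ℕ → C
  | 0 => 0
  | p + 1 => K.X p

/-- the identification -/
noncomputable def σ (K : CochainComplex C ℕ) (p : ℕ) : K.X p ⟶ SX K (p + 1) := 𝟙 (K.X p)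

/-- the identification -/
noncomputable def τ (K : CochainComplex C ℕ) (p : ℕ) : SX K (p + 1) ⟶ K.X p := 𝟙 (K.X p)

@[reassoc (attr := simp)]
theorem σ_τ (K : CochainComplex C ℕ) (p : ℕ) : σ K p ≫ τ K p = 𝟙 _ := Category.id_comp _

@[reassoc (attr := simp)]
theorem τ_σ (K : CochainComplex C ℕ) (p : ℕ) : τ K p ≫ σ K p = 𝟙 _ := Category.id_comp _

/-- the differential from the shifted complex -/
noncomputable def δ (K : CochainComplex C ℕ) : ∀ p, SX K p ⟶ K.X p
  | 0 => 0
  | p + 1 => τ K p ≫ K.d p (p + 1)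

theorem δ_succ (K : CochainComplex C ℕ) (p : ℕ) : δ K (p + 1) = τ K p ≫ K.d p (p + 1) := rfl

@[reassoc (attr := simp)]
theorem δ_d (K : CochainComplex C ℕ) (p : ℕ) : δ K p ≫ K.d p (p + 1) = 0 := by
  cases p with
  | zero => simp [δ]
  | succ p => rw [δ_succ, Category.assoc, K.d_comp_d, comp_zero]

theorem snd_zero (K : CochainComplex C ℕ) :
    (biprod.snd : K.X 0 ⊞ SX K 0 ⟶ SX K 0) = 0 :=
  (isZero_zero C).eq_of_tgt _ _

/-- the sum of the disk complexes on the terms of `K` -/
noncomputable def TT (K : CochainComplex C ℕ) : CochainComplex C ℕ :=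
  CochainComplex.of (fun p => K.X p ⊞ SX K p)
    (fun p => biprod.fst ≫ σ K p ≫ biprod.inr)
    (by intro p; simp)

/-- the terms of `TT K` -/
noncomputable def TXIso (K : CochainComplex C ℕ) (p : ℕ) : (TT K).X p ≅ K.X p ⊞ SX K p :=
  Iso.refl _

theorem TT_d (K : CochainComplex C ℕ) (p : ℕ) :
    (TT K).d p (p + 1) =
      (TXIso K p).hom ≫ (biprod.fst ≫ σ K p ≫ biprod.inr) ≫ (TXIso K (p + 1)).inv := by
  have h1 : (TT K).d p (p + 1) = biprod.fst ≫ σ K p ≫ biprod.inr := by simp [TT]
  rw [h1]
  change _ = 𝟙 _ ≫ (biprod.fst ≫ σ K p ≫ biprod.inr) ≫ 𝟙 _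
  rw [Category.id_comp, Category.comp_id]

/-- the projection -/
noncomputable def πT (K : CochainComplex C ℕ) : TT K ⟶ K where
  f p := (TXIso K p).hom ≫ biprod.desc (𝟙 (K.X p)) (δ K p)
  comm' := by
    intro i j hij
    have : i + 1 = j := hij
    subst this
    rw [TT_d]
    rw [← cancel_epi (TXIso K i).inv]
    simp only [Category.assoc, Iso.inv_hom_id_assoc]
    apply biprod.hom_ext'
    · simp [δ_succ]
    · simp

/-- the contracting homotopy -/
noncomputable def hT (K : CochainComplex C ℕ) :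
    ∀ i j, (ComplexShape.up ℕ).Rel j i → ((TT K).X i ⟶ (TT K).X j) :=
  fun i j hij => by
    have h : j + 1 = i := hij
    subst h
    exact (TXIso K (j + 1)).hom ≫ biprod.snd ≫ τ K j ≫ biprod.inl ≫ (TXIso K j).inv

theorem hT_eq (K : CochainComplex C ℕ) (j : ℕ) (r : (ComplexShape.up ℕ).Rel j (j + 1)) :
    hT K (j + 1) j r =
      (TXIso K (j + 1)).hom ≫ biprod.snd ≫ τ K j ≫ biprod.inl ≫ (TXIso K j).inv := rfl

theorem nullHomotopicMap_hT (K : CochainComplex C ℕ) :
    Homotopy.nullHomotopicMap' (hT K) = 𝟙 (TT K) := by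
  ext p
  cases p with
  | zero =>
    rw [Homotopy.nullHomotopicMap'_f_of_not_rel_right (show (ComplexShape.up ℕ).Rel 0 1 from rfl)
      (by intro l hl; exact Nat.succ_ne_zero l hl), hT_eq, TT_d]
    rw [← cancel_epi (TXIso K 0).inv, ← cancel_mono (TXIso K 0).hom]
    simp only [Category.assoc, Iso.inv_hom_id_assoc, Iso.inv_hom_id, Category.comp_id,
      HomologicalComplex.id_f, Category.id_comp]
    apply biprod.hom_ext'
    · simp
    · apply (isZero_zero C).eq_of_src
  | succ p =>
    rw [Homotopy.nullHomotopicMap'_f (show (ComplexShape.up ℕ).Rel p (p + 1) from rfl)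
      (show (ComplexShape.up ℕ).Rel (p + 1) (p + 1 + 1) from rfl), hT_eq, hT_eq, TT_d, TT_d]
    rw [← cancel_epi (TXIso K (p + 1)).inv, ← cancel_mono (TXIso K (p + 1)).hom]
    simp only [Category.assoc, Iso.inv_hom_id_assoc, Iso.inv_hom_id, Category.comp_id,
      HomologicalComplex.id_f, Category.id_comp, Preadditive.add_comp, Preadditive.comp_add,
      Iso.hom_inv_id_assoc]
    apply biprod.hom_ext'
    · simp
    · simp

/-- `TT K` is contractible -/
noncomputable def contraction (K : CochainComplex C ℕ) : Homotopy (𝟙 (TT K)) 0 :=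
  (Homotopy.ofEq (nullHomotopicMap_hT K).symm).trans (Homotopy.nullHomotopy' (hT K))

theorem injective_SX (K : CochainComplex C ℕ) (hK : ∀ n, Injective (K.X n)) (p : ℕ) :
    Injective (SX K p) := by
  cases p with
  | zero => exact (inferInstance : Injective (0 : C))
  | succ p => exact hK p

/-- a split epimorphism is a projection onto a direct summand -/
theorem exists_iso_of_section {X Y : C} (b : X ⟶ Y) (s : Y ⟶ X) (hs : s ≫ b = 𝟙 Y) :
    ∃ (K : C) (e : X ≅ Y ⊞ K), b = e.hom ≫ biprod.fst := by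
  have hk : (𝟙 X - b ≫ s) ≫ b = 0 := by
    rw [Preadditive.sub_comp, Category.id_comp, Category.assoc, hs, Category.comp_id, sub_self]
  refine ⟨kernel b,
    { hom := biprod.lift b (kernel.lift b (𝟙 X - b ≫ s) hk)
      inv := biprod.desc s (kernel.ι b)
      hom_inv_id := ?_
      inv_hom_id := ?_ }, ?_⟩
  · rw [biprod.lift_desc, kernel.lift_ι]
    abel
  · apply biprod.hom_ext'
    · rw [biprod.inl_desc_assoc, Category.comp_id]
      apply biprod.hom_ext
      · rw [Category.assoc, biprod.lift_fst, hs, biprod.inl_fst]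
      · rw [Category.assoc, biprod.lift_snd, biprod.inl_snd]
        rw [← cancel_mono (kernel.ι b), Category.assoc, kernel.lift_ι, zero_comp,
          Preadditive.comp_sub, Category.comp_id, ← Category.assoc, hs, Category.id_comp, sub_self]
    · rw [biprod.inr_desc_assoc, Category.comp_id]
      apply biprod.hom_ext
      · rw [Category.assoc, biprod.lift_fst, kernel.condition, biprod.inr_fst]
      · rw [Category.assoc, biprod.lift_snd, biprod.inr_snd]
        rw [← cancel_mono (kernel.ι b), Category.assoc, kernel.lift_ι, Category.id_comp,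
          Preadditive.comp_sub, Category.comp_id, ← Category.assoc, kernel.condition, zero_comp,
          sub_zero]
  · rw [biprod.lift_fst]

section main

variable [EnoughInjectives C]

/-- the inclusion of a complex into its sum with a contractible complex is a homotopy equivalence -/
noncomputable def inlHomotopyEquiv (L T : CochainComplex C ℕ) (hT : Homotopy (𝟙 T) 0) :
    HomotopyEquiv L (L ⊞ T) where
  hom := biprod.inl
  inv := biprod.fst
  homotopyHomInvId := Homotopy.ofEq biprod.inl_fst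
  homotopyInvHomId := by
    have h1 : Homotopy ((biprod.snd : L ⊞ T ⟶ T) ≫ 𝟙 T ≫ (biprod.inr : T ⟶ L ⊞ T))
        ((biprod.snd : L ⊞ T ⟶ T) ≫ 0 ≫ (biprod.inr : T ⟶ L ⊞ T)) :=
      (hT.compRight (biprod.inr : T ⟶ L ⊞ T)).compLeft (biprod.snd : L ⊞ T ⟶ T)
    have h2 : Homotopy ((biprod.fst : L ⊞ T ⟶ L) ≫ (biprod.inl : L ⟶ L ⊞ T) +
          (biprod.snd : L ⊞ T ⟶ T) ≫ 0 ≫ (biprod.inr : T ⟶ L ⊞ T))
        ((biprod.fst : L ⊞ T ⟶ L) ≫ (biprod.inl : L ⟶ L ⊞ T) +
          (biprod.snd : L ⊞ T ⟶ T) ≫ 𝟙 T ≫ (biprod.inr : T ⟶ L ⊞ T)) :=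
      (Homotopy.refl _).add h1.symm
    refine (Homotopy.ofEq ?_).trans (h2.trans (Homotopy.ofEq ?_))
    · simp
    · rw [Category.id_comp, biprod.total]

theorem main_15302 {G F : C} (α : G ⟶ F) (I : InjectiveResolution F) :
    ∃ (J : InjectiveResolution G) (β : J.cocomplex ⟶ I.cocomplex),
      J.ι ≫ β = (CochainComplex.single₀ C).map α ≫ I.ι ∧
      ∀ p : ℕ, ∃ (K : C) (e : J.cocomplex.X p ≅ I.cocomplex.X p ⊞ K), β.f p = e.hom ≫ biprod.fst := by
  let I' : InjectiveResolution G := InjectiveResolution.of G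
  let β' : I'.cocomplex ⟶ I.cocomplex := InjectiveResolution.desc α I I'
  have hβ' : I'.ι ≫ β' = (CochainComplex.single₀ C).map α ≫ I.ι :=
    InjectiveResolution.desc_commutes α I I'
  let T := TT I.cocomplex
  let E := inlHomotopyEquiv I'.cocomplex T (contraction I.cocomplex)
  haveI hinj : ∀ n, Injective ((I'.cocomplex ⊞ T).X n) := by
    intro n
    haveI : Injective (SX I.cocomplex n) := injective_SX I.cocomplex (fun n => inferInstance) n
    haveI : Injective (T.X n) :=
      Injective.of_iso (TXIso I.cocomplex n).symm inferInstance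
    exact Injective.of_iso (HomologicalComplex.biprodXIso I'.cocomplex T n).symm inferInstance
  haveI : QuasiIso (biprod.inl : I'.cocomplex ⟶ I'.cocomplex ⊞ T) := E.quasiIso_hom
  let J : InjectiveResolution G :=
    { cocomplex := I'.cocomplex ⊞ T
      injective := hinj
      ι := I'.ι ≫ biprod.inl
      quasiIso := inferInstance }
  let β : J.cocomplex ⟶ I.cocomplex := biprod.desc β' (πT I.cocomplex)
  refine ⟨J, β, ?_, ?_⟩
  · show (I'.ι ≫ biprod.inl) ≫ biprod.desc β' (πT I.cocomplex) = _
    rw [Category.assoc, biprod.inl_desc, hβ']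
  · intro p
    apply exists_iso_of_section (β.f p)
      (biprod.inl ≫ (TXIso I.cocomplex p).inv ≫ (biprod.inr : T ⟶ I'.cocomplex ⊞ T).f p)
    show (biprod.inl ≫ (TXIso I.cocomplex p).inv ≫ (biprod.inr : T ⟶ I'.cocomplex ⊞ T).f p) ≫
      (biprod.desc β' (πT I.cocomplex)).f p = _
    rw [Category.assoc, Category.assoc, HomologicalComplex.biprod_inr_desc_f]
    show biprod.inl ≫ (TXIso I.cocomplex p).inv ≫ (TXIso I.cocomplex p).hom ≫
      biprod.desc (𝟙 (I.cocomplex.X p)) (δ I.cocomplex p) = _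
    rw [Iso.inv_hom_id_assoc, biprod.inl_desc]

end main

end Groth.Agent.Lib.Helper26.InjResMap
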