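import Mathlib

set_option autoImplicit false
set_option linter.style.haveILetI false
set_option linter.unusedSectionVars false
set_option linter.unusedVariables false

namespace Groth.Agent.Lib.Helper26.InsepKaehler

open Polynomial KaehlerDifferential TensorProduct Function

universe u

theorem finrank_kaehler_of_derivative_eq_zero {R B : Type u} [CommRing R] [CommRing B]
    [Nontrivial B] [Algebra R B] [Algebra R[X] B] [IsScalarTower R R[X] B]
    (hsurj : Surjective (algebraMap R[X] B)) (P : R[X])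
    (hker : RingHom.ker (algebraMap R[X] B) = Ideal.span {P})
    (hP : derivative P = 0) : Module.finrank B (Ω[B⁄R]) = 1 := by
  have hzero : kerCotangentToTensor R R[X] B = 0 := by
    ext x
    obtain ⟨⟨Q, hQ⟩, rfl⟩ := Ideal.toCotangent_surjective _ x
    rw [kerCotangentToTensor_toCotangent]
    have hQ' : Q ∈ Ideal.span {P} := hker ▸ hQ
    obtain ⟨S, rfl⟩ := Ideal.mem_span_singleton.mp hQ'
    have hDP : D R R[X] P = 0 := by
      apply (polynomialEquiv R).injective
      rw [polynomialEquiv_D, hP, map_zero]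
    have hPB : algebraMap R[X] B P = 0 := by
      have : P ∈ RingHom.ker (algebraMap R[X] B) := by
        rw [hker]
        exact Ideal.mem_span_singleton_self P
      exact this
    show (1 : B) ⊗ₜ[R[X]] D R R[X] (P * S) = 0
    rw [Derivation.leibniz, hDP, smul_zero, add_zero, ← TensorProduct.smul_tmul,
      Algebra.smul_def, hPB, zero_mul, TensorProduct.zero_tmul]
  have hexact := exact_kerCotangentToTensor_mapBaseChange R R[X] B hsurj
  have hinj : Injective (mapBaseChange R R[X] B) := by
    rw [injective_iff_map_eq_zero]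
    intro x hx
    obtain ⟨y, rfl⟩ := (hexact x).mp hx
    rw [hzero, LinearMap.zero_apply]
  have hsurj' := mapBaseChange_surjective R R[X] B hsurj
  let e1 : B ⊗[R[X]] Ω[R[X]⁄R] ≃ₗ[B] Ω[B⁄R] :=
    LinearEquiv.ofBijective (mapBaseChange R R[X] B) ⟨hinj, hsurj'⟩
  let e2 : B ⊗[R[X]] Ω[R[X]⁄R] ≃ₗ[B] B ⊗[R[X]] R[X] :=
    LinearEquiv.baseChange R[X] B _ _ (polynomialEquiv R)
  let e3 : B ⊗[R[X]] R[X] ≃ₗ[B] B := TensorProduct.AlgebraTensorModule.rid R[X] B B
  rw [← e1.finrank_eq, e2.finrank_eq, e3.finrank_eq, Module.finrank_self]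

theorem finrank_bounds (k E K : Type u) [Field k] [Field E] [Field K] [Algebra k E] [Algebra k K]
    [Algebra E K] [IsScalarTower k E K] [Module.Finite E (Ω[E⁄k])]
    (h1 : Module.finrank K (Ω[K⁄E]) = 1)
    [Module.Finite K (Algebra.H1Cotangent E K)]
    (hH : Module.finrank K (Algebra.H1Cotangent E K) ≤ 1) :
    Module.finrank E (Ω[E⁄k]) ≤ Module.finrank K (Ω[K⁄k]) ∧
      Module.finrank K (Ω[K⁄k]) ≤ Module.finrank E (Ω[E⁄k]) + 1 := by
  set r := Module.finrank E (Ω[E⁄k]) with hr
  let φ : K ⊗[E] Ω[E⁄k] →ₗ[K] Ω[K⁄k] := mapBaseChange k E K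
  let ψ : Ω[K⁄k] →ₗ[K] Ω[K⁄E] := KaehlerDifferential.map k E K K
  let δ : Algebra.H1Cotangent E K →ₗ[K] K ⊗[E] Ω[E⁄k] := Algebra.H1Cotangent.δ k E K
  have hφψ : Exact φ ψ := exact_mapBaseChange_map k E K
  have hδφ : Exact δ φ := Algebra.H1Cotangent.exact_δ_mapBaseChange k E K
  have hψ : Surjective ψ := KaehlerDifferential.map_surjective k E K
  have hV : Module.finrank K (K ⊗[E] Ω[E⁄k]) = r := Module.finrank_baseChange
  haveI : Module.Finite K (Ω[K⁄E]) := Module.finite_of_finrank_pos (by rw [h1]; exact one_pos)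
  -- finiteness of Ω[K⁄k]
  haveI : Module.Finite K (Ω[K⁄k]) := by
    haveI : Module.Finite K (LinearMap.ker ψ) := by
      rw [hφψ.linearMap_ker_eq]
      infer_instance
    haveI : Module.Finite K (Ω[K⁄k] ⧸ LinearMap.ker ψ) :=
      Module.Finite.equiv (ψ.quotKerEquivOfSurjective hψ).symm
    exact Module.Finite.of_submodule_quotient (LinearMap.ker ψ)
  have e1 := LinearMap.finrank_range_add_finrank_ker ψ
  have e2 := LinearMap.finrank_range_add_finrank_ker φ
  have e3 : Module.finrank K (LinearMap.range ψ) = 1 := by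
    rw [LinearMap.range_eq_top.mpr hψ, finrank_top, h1]
  have e4 : Module.finrank K (LinearMap.ker ψ) = Module.finrank K (LinearMap.range φ) := by
    rw [hφψ.linearMap_ker_eq]
  have e5 : Module.finrank K (LinearMap.ker φ) ≤ 1 := by
    rw [hδφ.linearMap_ker_eq]
    exact (LinearMap.finrank_range_le δ).trans hH
  rw [hV] at e2
  omega

theorem h1_bound (E K : Type u) [Field E] [Field K] [Algebra E K]
    (G : Algebra.Generators E K PUnit.{1}) :
    Module.Finite K (Algebra.H1Cotangent E K) ∧
      Module.finrank K (Algebra.H1Cotangent E K) ≤ 1 := by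
  have hpid : IsPrincipalIdealRing (MvPolynomial PUnit.{1} E) :=
    IsPrincipalIdealRing.of_surjective
      ((MvPolynomial.uniqueAlgEquiv E PUnit.{1}).symm : E[X] →+* MvPolynomial PUnit.{1} E)
      (MvPolynomial.uniqueAlgEquiv E PUnit.{1}).symm.surjective
  let P := G.toExtension
  haveI : IsPrincipalIdealRing P.Ring := hpid
  obtain ⟨g, hg⟩ := (IsPrincipalIdealRing.principal P.ker).principal
  have hgmem : g ∈ P.ker := by
    rw [hg]
    exact Submodule.mem_span_singleton_self g
  let v₀ : P.Cotangent := Algebra.Extension.Cotangent.mk ⟨g, hgmem⟩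
  have hcyc : ∀ x : P.Cotangent, ∃ c : K, c • v₀ = x := by
    intro x
    obtain ⟨⟨y, hy⟩, rfl⟩ := Algebra.Extension.Cotangent.mk_surjective x
    have hy' : y ∈ Submodule.span P.Ring {g} := hg ▸ hy
    obtain ⟨a, rfl⟩ := Submodule.mem_span_singleton.mp hy'
    refine ⟨algebraMap P.Ring K a, ?_⟩
    rw [algebraMap_smul, ← map_smul]
    rfl
  have hfin : Module.Finite K P.Cotangent := by
    refine ⟨⟨{v₀}, ?_⟩⟩
    rw [Finset.coe_singleton, eq_top_iff]
    intro x _
    obtain ⟨c, rfl⟩ := hcyc x
    exact Submodule.smul_mem _ c (Submodule.mem_span_singleton_self v₀)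
  have hrank : Module.finrank K P.Cotangent ≤ 1 := finrank_le_one v₀ hcyc
  have hfinH : Module.Finite K P.H1Cotangent :=
    Module.Finite.of_injective P.h1Cotangentι P.h1Cotangentι_injective
  have hrankH : Module.finrank K P.H1Cotangent ≤ 1 :=
    (LinearMap.finrank_le_finrank_of_injective P.h1Cotangentι_injective).trans hrank
  let e : P.H1Cotangent ≃ₗ[K] Algebra.H1Cotangent E K := G.equivH1Cotangent
  exact ⟨Module.Finite.equiv e, by rw [← e.finrank_eq]; exact hrankH⟩

theorem aeval_surjective (E : Type u) [Field E] (P : E[X]) :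
    Surjective (MvPolynomial.aeval (R := E) (fun _ : PUnit.{1} => AdjoinRoot.root P)) := by
  intro y
  obtain ⟨Q, rfl⟩ := AdjoinRoot.mk_surjective y
  refine ⟨Polynomial.eval₂ MvPolynomial.C (MvPolynomial.X PUnit.unit) Q, ?_⟩
  rw [← AlgHom.coe_toRingHom, Polynomial.hom_eval₂]
  have h1 : ((MvPolynomial.aeval (R := E) (fun _ : PUnit.{1} => AdjoinRoot.root P) :
      MvPolynomial PUnit.{1} E →ₐ[E] AdjoinRoot P) : MvPolynomial PUnit.{1} E →+* AdjoinRoot P).comp
      MvPolynomial.C = algebraMap E (AdjoinRoot P) := by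
    ext a
    simp
  rw [h1]
  simp only [RingHom.coe_coe, MvPolynomial.aeval_X]
  rw [← Polynomial.aeval_def, AdjoinRoot.aeval_eq]

theorem main_11582 (k E : Type u) [Field k] [Field E] [Algebra k E]
    (P : E[X]) [Fact (Irreducible P)] (hP : Polynomial.derivative P = 0)
    [Module.Finite E (KaehlerDifferential k E)] :
    Module.finrank (AdjoinRoot P) (KaehlerDifferential E (AdjoinRoot P)) = 1 ∧
      Module.finrank E (KaehlerDifferential k E) ≤
        Module.finrank (AdjoinRoot P) (KaehlerDifferential k (AdjoinRoot P)) ∧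
      Module.finrank (AdjoinRoot P) (KaehlerDifferential k (AdjoinRoot P)) ≤
        Module.finrank E (KaehlerDifferential k E) + 1 := by
  have h1 : Module.finrank (AdjoinRoot P) (KaehlerDifferential E (AdjoinRoot P)) = 1 := by
    letI : Algebra E[X] (AdjoinRoot P) := (AdjoinRoot.mk P).toAlgebra
    haveI : IsScalarTower E E[X] (AdjoinRoot P) := IsScalarTower.of_algebraMap_eq (fun x => by
      rw [AdjoinRoot.algebraMap_eq]
      rfl)
    apply finrank_kaehler_of_derivative_eq_zero (AdjoinRoot.mk_surjective) P _ hP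
    exact Ideal.mk_ker
  let G : Algebra.Generators E (AdjoinRoot P) PUnit.{1} :=
    Algebra.Generators.ofSurjective (fun _ => AdjoinRoot.root P) (aeval_surjective E P)
  obtain ⟨hfin, hH⟩ := h1_bound E (AdjoinRoot P) G
  exact ⟨h1, finrank_bounds k E (AdjoinRoot P) h1 hH⟩

end Groth.Agent.Lib.Helper26.InsepKaehler
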