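import Mathlib

set_option autoImplicit false
open Submodule

namespace Groth.Agent.Lib.Helper26.Inv47A

universe u v

section formanek
variable {R : Type u} {M : Type v} [CommRing R] [AddCommGroup M] [Module R M]

/-- Key step.  If `M` is f.g. and `M ⧸ J•⊤` is noetherian
for every ideal `J` with `J • ⊤ ≠ ⊥`, then `M` is noetherian. -/
theorem noeth_of_quot (hfin : Module.Finite R M)
    (hq : ∀ J : Ideal R, J • (⊤ : Submodule R M) ≠ ⊥ → IsNoetherian R (M ⧸ J • (⊤ : Submodule R M))) :
    IsNoetherian R M := by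
  classical
  obtain ⟨s, hs⟩ := hfin.fg_top
  -- Γ
  let Γ : Set (Submodule R M) :=
    {N | ∀ a : R, (∀ m : M, a • m ∈ N) → ∀ m : M, a • m = 0}
  have hbot : (⊥ : Submodule R M) ∈ Γ := fun a ha m => by simpa using ha m
  -- every element `a` with `a • s ⊆ N` has `a • M ⊆ N`
  have hgen : ∀ (N : Submodule R M) (a : R), (∀ x ∈ s, a • x ∈ N) → ∀ m : M, a • m ∈ N := by
    intro N a ha m
    have hm : m ∈ span R (s : Set M) := by rw [hs]; trivial
    induction hm using Submodule.span_induction with
    | mem x hx => exact ha x hx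
    | zero => simp
    | add x y _ _ hx hy => rw [smul_add]; exact N.add_mem hx hy
    | smul r x _ hx => rw [smul_comm]; exact N.smul_mem r hx
  -- Zorn
  obtain ⟨N₀, hN₀Γ, hN₀max⟩ : ∃ N₀ ∈ Γ, ∀ N ∈ Γ, N₀ ≤ N → N = N₀ := by
    have := zorn_le_nonempty₀ Γ ?_ ⊥ hbot
    · obtain ⟨N₀, -, hmax⟩ := this
      exact ⟨N₀, hmax.prop, fun N hN hle => le_antisymm (hmax.le_of_ge hN hle) hle⟩
    · intro c hcΓ hc y hy
      refine ⟨sSup c, ?_, fun z hz => le_sSup hz⟩
      intro a ha
      have hne : c.Nonempty := ⟨y, hy⟩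
      have hdir : DirectedOn (· ≤ ·) c := hc.directedOn
      have : ∀ t : Finset M, (∀ x ∈ t, a • x ∈ sSup c) → ∃ N ∈ c, ∀ x ∈ t, a • x ∈ N := by
        intro t
        induction t using Finset.induction_on with
        | empty => intro _; exact ⟨y, hy, by simp⟩
        | insert x t hx ih =>
          intro h
          obtain ⟨N₁, hN₁, h₁⟩ := ih (fun z hz => h z (Finset.mem_insert_of_mem hz))
          have hx' := h x (Finset.mem_insert_self _ _)
          rw [Submodule.mem_sSup_of_directed hne hdir] at hx'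
          obtain ⟨N₂, hN₂, h₂⟩ := hx'
          obtain ⟨N₃, hN₃, h13, h23⟩ := hdir N₁ hN₁ N₂ hN₂
          refine ⟨N₃, hN₃, fun z hz => ?_⟩
          rcases Finset.mem_insert.mp hz with rfl | hz
          · exact h23 h₂
          · exact h13 (h₁ z hz)
      obtain ⟨N, hNc, hN⟩ := this s (fun x _ => ha x)
      exact hcΓ hNc a (hgen N a hN)
  -- every submodule strictly above N₀ is f.g.
  have hfg : ∀ N : Submodule R M, N₀ ≤ N → N ≠ N₀ → N.FG := by
    intro N hle hne
    have hN : N ∉ Γ := fun h => hne (hN₀max N h hle)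
    simp only [Γ, Set.mem_ofPred_eq, not_forall] at hN
    obtain ⟨a, ha, m₀, hm₀⟩ := hN
    set J : Ideal R := Ideal.span {a}
    have hJ : J • (⊤ : Submodule R M) ≠ ⊥ := by
      intro h
      apply hm₀
      have : a • m₀ ∈ J • (⊤ : Submodule R M) :=
        Submodule.smul_mem_smul (Ideal.subset_span (Set.mem_singleton a)) trivial
      rw [h] at this
      simpa using this
    have hJN : J • (⊤ : Submodule R M) ≤ N := by
      rw [Submodule.smul_le]
      intro r hr m _
      obtain ⟨c, rfl⟩ := Ideal.mem_span_singleton'.mp hr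
      rw [mul_smul]
      exact N.smul_mem c (ha m)
    have hnoeth := hq J hJ
    have h1 : (N.map (J • (⊤ : Submodule R M)).mkQ).FG := IsNoetherian.noetherian _
    have h2 : (J • (⊤ : Submodule R M)).FG := by
      have : (⊤ : Submodule R M).FG := hfin.fg_top
      exact Submodule.FG.smul ⟨{a}, by simp [J]⟩ this
    refine Submodule.fg_of_fg_map_of_fg_inf_ker (J • (⊤ : Submodule R M)).mkQ h1 ?_
    rw [Submodule.ker_mkQ, inf_of_le_right hJN]
    exact h2
  -- M ⧸ N₀ is noetherian
  have hM2 : IsNoetherian R (M ⧸ N₀) := by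
    rw [isNoetherian_def]
    intro P
    by_cases hP : P.comap N₀.mkQ = N₀
    · have : P = ⊥ := by
        rw [eq_bot_iff]
        intro x hx
        obtain ⟨m, rfl⟩ := N₀.mkQ_surjective x
        have : m ∈ P.comap N₀.mkQ := hx
        rw [hP] at this
        simpa using this
      rw [this]; exact Submodule.fg_bot
    · have hle : N₀ ≤ P.comap N₀.mkQ := by
        intro x hx
        simp only [Submodule.mem_comap, Submodule.mkQ_apply]
        rw [(Submodule.Quotient.mk_eq_zero N₀).mpr hx]
        exact P.zero_mem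
      have := hfg _ hle hP
      have h2 := this.map N₀.mkQ
      rwa [Submodule.map_comap_eq_of_surjective N₀.mkQ_surjective] at h2
  -- hence R ⧸ Ann is noetherian, and M too
  let ι := {x // x ∈ s}
  let φ : R →ₗ[R] (ι → M ⧸ N₀) :=
    { toFun := fun a i => N₀.mkQ (a • (i : M))
      map_add' := fun a b => by ext i; simp [add_smul]
      map_smul' := fun c a => by ext i; simp [mul_smul] }
  have hker : ∀ a : R, φ a = 0 → ∀ m : M, a • m = 0 := by
    intro a ha
    apply hN₀Γ a
    apply hgen N₀ a
    intro x hx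
    have := congrFun ha ⟨x, hx⟩
    have h2 : N₀.mkQ (a • x) = 0 := this
    rwa [Submodule.mkQ_apply, Submodule.Quotient.mk_eq_zero] at h2
  -- R ⧸ ker φ noetherian
  have h3 : IsNoetherian R (R ⧸ LinearMap.ker φ) :=
    isNoetherian_of_injective ((LinearMap.ker φ).liftQ φ le_rfl)
      (by rw [← LinearMap.ker_eq_bot]; exact Submodule.ker_liftQ_eq_bot' _ φ rfl)
  -- surjection (ι → R ⧸ ker φ) → M
  let ψ : (ι → R ⧸ LinearMap.ker φ) →ₗ[R] M :=
    (LinearMap.lsum R (fun _ : ι => R ⧸ LinearMap.ker φ) R) fun i =>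
      (LinearMap.ker φ).liftQ (LinearMap.toSpanSingleton R M (i : M))
        (by
          intro a ha
          simp only [LinearMap.mem_ker, LinearMap.toSpanSingleton_apply]
          exact hker a ha _)
  have hψ : Function.Surjective ψ := by
    intro m
    have hm : m ∈ span R (s : Set M) := by rw [hs]; trivial
    induction hm using Submodule.span_induction with
    | mem x hx =>
      refine ⟨Pi.single ⟨x, hx⟩ (Submodule.Quotient.mk 1), ?_⟩
      simp only [ψ, LinearMap.lsum_apply, LinearMap.coe_sum, LinearMap.coe_comp, LinearMap.coe_proj,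
        Finset.sum_apply, Function.comp_apply, Function.eval]
      rw [Finset.sum_eq_single (⟨x, hx⟩ : ι)]
      · simp
        exact Submodule.liftQ_apply _ _ _ |>.trans (by simp)
      · intro b _ hb
        rw [Pi.single_eq_of_ne hb]; simp
      · intro h; exact absurd (Finset.mem_univ _) h
    | zero => exact ⟨0, map_zero _⟩
    | add x y _ _ hx hy =>
      obtain ⟨a, rfl⟩ := hx
      obtain ⟨b, rfl⟩ := hy
      exact ⟨a + b, map_add _ _ _⟩
    | smul r x _ hx =>
      obtain ⟨a, rfl⟩ := hx
      exact ⟨r • a, map_smul _ _ _⟩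
  exact isNoetherian_of_surjective ψ (LinearMap.range_eq_top.mpr hψ)

/-- **Formanek's theorem** (in "maximal element" form). -/
theorem formanek (hfin : Module.Finite R M)
    (hmax : ∀ S : Set (Submodule R M), S.Nonempty →
      (∀ N ∈ S, ∃ I : Ideal R, N = I • (⊤ : Submodule R M)) →
      ∃ N ∈ S, ∀ N' ∈ S, N ≤ N' → N' = N) :
    IsNoetherian R M := by
  by_contra hM
  let S : Set (Submodule R M) :=
    {N | (∃ I : Ideal R, N = I • (⊤ : Submodule R M)) ∧ ¬ IsNoetherian R (M ⧸ N)}
  have hS : S.Nonempty := by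
    refine ⟨⊥, ⟨⊥, by simp⟩, fun h => hM ?_⟩
    exact isNoetherian_of_linearEquiv (Submodule.quotEquivOfEqBot ⊥ rfl)
  obtain ⟨N₁, ⟨⟨I₀, hI₀⟩, hN₁⟩, hmaxN⟩ := hmax S hS (fun N hN => hN.1)
  apply hN₁
  have hfin1 : Module.Finite R (M ⧸ N₁) := inferInstance
  apply noeth_of_quot hfin1
  intro J hJ
  have hJtop : J • (⊤ : Submodule R (M ⧸ N₁)) = (J • (⊤ : Submodule R M)).map N₁.mkQ := by
    rw [Submodule.map_smul'', Submodule.map_top, Submodule.range_mkQ]
  have hsup : N₁ ⊔ J • (⊤ : Submodule R M) = (I₀ ⊔ J) • (⊤ : Submodule R M) := by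
    rw [Submodule.sup_smul, hI₀]
  have hne : (I₀ ⊔ J) • (⊤ : Submodule R M) ≠ N₁ := by
    intro h
    apply hJ
    rw [hJtop, eq_bot_iff]
    have : J • (⊤ : Submodule R M) ≤ N₁ := by rw [← h, ← hsup]; exact le_sup_right
    calc (J • (⊤ : Submodule R M)).map N₁.mkQ ≤ N₁.map N₁.mkQ := Submodule.map_mono this
      _ = ⊥ := by rw [← LinearMap.le_ker_iff_map]; simp
  have hnotS : (I₀ ⊔ J) • (⊤ : Submodule R M) ∉ S := by
    intro h
    exact hne (hmaxN _ h (by rw [← hsup]; exact le_sup_left))
  have hnoeth : IsNoetherian R (M ⧸ (I₀ ⊔ J) • (⊤ : Submodule R M)) := by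
    by_contra h
    exact hnotS ⟨⟨_, rfl⟩, h⟩
  rw [hJtop]
  rw [← hsup] at hnoeth
  exact isNoetherian_of_linearEquiv
    (Submodule.quotientQuotientEquivQuotientSup N₁ (J • (⊤ : Submodule R M))).symm

end formanek

section eakin
variable {B : Type u} {A : Type v} [CommRing B] [CommRing A] [Algebra B A]

/-- **Eakin–Nagata**: if `A` is a noetherian ring, finite as a module over a subring `B`,
then `B` is noetherian. -/
theorem eakin_nagata [Module.Finite B A] [IsNoetherianRing A]
    (hinj : Function.Injective (algebraMap B A)) : IsNoetherianRing B := by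
  have hA : IsNoetherian B A := by
    apply formanek inferInstance
    intro S hS hform
    let T : Set (Ideal A) := {J | J.restrictScalars B ∈ S}
    have hT : T.Nonempty := by
      obtain ⟨N, hN⟩ := hS
      obtain ⟨I, rfl⟩ := hform N hN
      refine ⟨I.map (algebraMap B A), ?_⟩
      show (I.map (algebraMap B A)).restrictScalars B ∈ S
      rwa [← Ideal.smul_top_eq_map]
    obtain ⟨J, hJT, hJmax⟩ := set_has_maximal_iff_noetherian.mpr
      (inferInstance : IsNoetherian A A) T hT
    refine ⟨J.restrictScalars B, hJT, ?_⟩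
    intro N' hN' hle
    obtain ⟨I, rfl⟩ := hform N' hN'
    rw [Ideal.smul_top_eq_map] at hN' hle ⊢
    have h1 : J ≤ I.map (algebraMap B A) := fun x hx => hle hx
    have h2 : ¬ J < I.map (algebraMap B A) := hJmax _ hN'
    have : I.map (algebraMap B A) = J := by
      by_contra hne
      exact h2 (lt_of_le_of_ne h1 (Ne.symm hne))
    rw [this]
  exact isNoetherian_of_injective (Algebra.linearMap B A) hinj

end eakin

end Groth.Agent.Lib.Helper26.Inv47A
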