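import Mathlib

set_option autoImplicit false
open scoped BigOperators
open Finset

namespace Groth.Agent.Lib.Helper26.Inv47B

universe u v

variable {A : Type u} [CommRing A] {D : Type v} [Group D] [MulSemiringAction D A]

/-- `x` is fixed by every element of `D`. -/
def Inv (D : Type v) [Group D] [MulSemiringAction D A] (x : A) : Prop := ∀ d : D, d • x = x

lemma Inv.one : Inv D (1 : A) := fun d => smul_one d
lemma Inv.zero : Inv D (0 : A) := fun d => smul_zero d
lemma Inv.mul {x y : A} (hx : Inv D x) (hy : Inv D y) : Inv D (x * y) := fun d => by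
  rw [smul_mul', hx d, hy d]
lemma Inv.add {x y : A} (hx : Inv D x) (hy : Inv D y) : Inv D (x + y) := fun d => by
  rw [smul_add, hx d, hy d]
lemma Inv.sub {x y : A} (hx : Inv D x) (hy : Inv D y) : Inv D (x - y) := fun d => by
  rw [smul_sub, hx d, hy d]
lemma Inv.sum {ι : Type*} (s : Finset ι) (f : ι → A) (h : ∀ i ∈ s, Inv D (f i)) :
    Inv D (∑ i ∈ s, f i) := fun d => by
  rw [Finset.smul_sum]; exact Finset.sum_congr rfl fun i hi => h i hi d
lemma Inv.prod {ι : Type*} (s : Finset ι) (f : ι → A) (h : ∀ i ∈ s, Inv D (f i)) :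
    Inv D (∏ i ∈ s, f i) := fun d => by
  rw [Finset.smul_prod']; exact Finset.prod_congr rfl fun i hi => h i hi d
lemma Inv.pow {x : A} (hx : Inv D x) (n : ℕ) : Inv D (x ^ n) := fun d => by
  rw [smul_pow', hx d]

lemma Inv.norm [Fintype D] (u : A) : Inv D (∏ d : D, d • u) := fun d' => by
  rw [Finset.smul_prod']
  simp_rw [← mul_smul]
  exact Fintype.prod_bijective (fun d => d' * d) (Group.mulLeft_bijective d') _ _ (fun _ => rfl)

/-- `x` is a combination of `1, π, …, π^(k-1)` with invariant coefficients. -/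
def InN (D : Type v) [Group D] [MulSemiringAction D A] (π : A) (k : ℕ) (x : A) : Prop :=
  ∃ c : ℕ → A, (∀ i, Inv D (c i)) ∧ x = ∑ i ∈ range k, c i * π ^ i

lemma InN.zero (π : A) (k : ℕ) : InN D π k (0 : A) :=
  ⟨fun _ => 0, fun _ => Inv.zero, by simp⟩

lemma InN.add {π : A} {k : ℕ} {x y : A} (hx : InN D π k x) (hy : InN D π k y) :
    InN D π k (x + y) := by
  obtain ⟨c, hc, rfl⟩ := hx
  obtain ⟨c', hc', rfl⟩ := hy
  exact ⟨fun i => c i + c' i, fun i => (hc i).add (hc' i), by
    rw [← Finset.sum_add_distrib]; exact Finset.sum_congr rfl fun i _ => by ring⟩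

lemma InN.mul_left {π : A} {k : ℕ} {x r : A} (hr : Inv D r) (hx : InN D π k x) :
    InN D π k (r * x) := by
  obtain ⟨c, hc, rfl⟩ := hx
  exact ⟨fun i => r * c i, fun i => hr.mul (hc i), by
    rw [Finset.mul_sum]; exact Finset.sum_congr rfl fun i _ => by ring⟩

lemma InN.sum {π : A} {k : ℕ} {ι : Type*} (s : Finset ι) (f : ι → A)
    (h : ∀ i ∈ s, InN D π k (f i)) : InN D π k (∑ i ∈ s, f i) := by
  classical
  induction s using Finset.induction_on with
  | empty => simpa using InN.zero π k
  | insert a s ha ih =>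
    rw [Finset.sum_insert ha]
    exact (h a (Finset.mem_insert_self _ _)).add (ih fun i hi => h i (Finset.mem_insert_of_mem hi))

section stepA
variable [IsDomain A]

/-- Step A: expansion of any element modulo `π^j`. -/
lemma stepA (π : A)
    (hres : ∀ a : A, ∃ s c a', Inv D s ∧ Inv D c ∧ ¬ π ∣ s ∧ s * a = c + π * a')
    (hπ : Prime π) (j : ℕ) (a : A) :
    ∃ (s : A) (c : ℕ → A) (a' : A), Inv D s ∧ (∀ i, Inv D (c i)) ∧ ¬ π ∣ s ∧
      s * a = ∑ i ∈ range j, c i * π ^ i + π ^ j * a' := by
  induction j with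
  | zero => exact ⟨1, fun _ => 0, a, Inv.one, fun _ => Inv.zero, hπ.not_dvd_one, by simp⟩
  | succ j ih =>
    obtain ⟨s, c, a', hs, hc, hsπ, heq⟩ := ih
    obtain ⟨s', c', a'', hs', hc', hsπ', heq'⟩ := hres a'
    refine ⟨s' * s, fun i => if i = j then c' else s' * c i, a'', hs'.mul hs, ?_, ?_, ?_⟩
    · intro i
      by_cases h : i = j
      · simp only [h, if_true]; exact hc'
      · simp only [h, if_false]; exact hs'.mul (hc i)
    · intro h
      rcases hπ.dvd_or_dvd h with h | h
      · exact hsπ' h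
      · exact hsπ h
    · rw [Finset.sum_range_succ]
      have e0 : (fun i => if i = j then c' else s' * c i) j = c' := by simp
      rw [e0]
      have : ∑ i ∈ range j, (fun i => if i = j then c' else s' * c i) i * π ^ i
          = ∑ i ∈ range j, s' * (c i * π ^ i) := by
        apply Finset.sum_congr rfl
        intro i hi
        simp only [if_neg (Finset.mem_range.mp hi).ne]; ring
      rw [this, ← Finset.mul_sum, mul_assoc, heq, mul_add, pow_succ]
      have : s' * (π ^ j * a') = π ^ j * (s' * a') := by ring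
      rw [this, heq']; ring

/-- Step A': expansion of any element modulo an invariant `w = π^k u`. -/
lemma stepA' [Fintype D] (π : A)
    (hres : ∀ a : A, ∃ s c a', Inv D s ∧ Inv D c ∧ ¬ π ∣ s ∧ s * a = c + π * a')
    (hπ : Prime π) (hstab : ∀ d : D, Associated (d • π) π)
    (k : ℕ) (u w : A) (hw : w = π ^ k * u) (hu : ¬ π ∣ u) (a : A) :
    ∃ (s : A) (c : ℕ → A) (a' : A), Inv D s ∧ (∀ i, Inv D (c i)) ∧ ¬ π ∣ s ∧
      s * a = ∑ i ∈ range k, c i * π ^ i + w * a' := by
  obtain ⟨s, c, a', hs, hc, hsπ, heq⟩ := stepA π hres hπ k a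
  set ν : A := ∏ d : D, d • u with hν
  have hνinv : Inv D ν := Inv.norm u
  have hνπ : ¬ π ∣ ν := by
    intro h
    obtain ⟨d, -, hd⟩ := (hπ.dvd_finsetProd_iff _).mp h
    apply hu
    have h1 : d⁻¹ • π ∣ d⁻¹ • (d • u) := by
      obtain ⟨x, hx⟩ := hd
      exact ⟨d⁻¹ • x, by rw [hx, smul_mul']⟩
    rw [inv_smul_smul] at h1
    exact (hstab d⁻¹).symm.dvd.trans h1
  obtain ⟨u', hu'⟩ : u ∣ ν := by
    have := Finset.dvd_prod_of_mem (fun d : D => d • u) (Finset.mem_univ (1 : D))
    simpa using this
  refine ⟨ν * s, fun i => ν * c i, u' * a', hνinv.mul hs, fun i => hνinv.mul (hc i), ?_, ?_⟩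
  · intro h
    rcases hπ.dvd_or_dvd h with h | h
    · exact hνπ h
    · exact hsπ h
  · rw [mul_assoc, heq, mul_add, Finset.mul_sum]
    congr 1
    · exact Finset.sum_congr rfl fun i _ => by ring
    · rw [hw, hu']; ring

end stepA

section stepB
variable [IsDomain A]

/-- Step B: the determinant trick. -/
lemma stepB (π : A) (hπ : Prime π) (k : ℕ) (w : A) (hwπ : π ∣ w) (hwinv : Inv D w)
    (hfin : ∃ (m : ℕ) (g : Fin m → A), ∀ a, ∃ r : Fin m → A, (∀ j, Inv D (r j)) ∧
      a = ∑ j, r j * g j)
    (hA : ∀ a : A, ∃ (s : A) (c : ℕ → A) (a' : A), Inv D s ∧ (∀ i, Inv D (c i)) ∧ ¬ π ∣ s ∧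
      s * a = ∑ i ∈ range k, c i * π ^ i + w * a') :
    ∃ δ : A, δ ≠ 0 ∧ Inv D δ ∧ ∀ a, InN D π k (δ * a) := by
  classical
  obtain ⟨m, g, hg⟩ := hfin
  choose s c a' hs hc hsπ heq using fun j => hA (g j)
  set S : A := ∏ j, s j with hS
  have hSinv : Inv D S := Inv.prod _ _ fun j _ => hs j
  have hSπ : ¬ π ∣ S := by
    intro h
    obtain ⟨j, -, hj⟩ := (hπ.dvd_finsetProd_iff _).mp h
    exact hsπ j hj
  set t : Fin m → A := fun j => ∏ l ∈ univ.erase j, s l with ht
  have htinv : ∀ j, Inv D (t j) := fun j => Inv.prod _ _ fun l _ => hs l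
  have hSt : ∀ j, S = t j * s j := fun j => by
    rw [hS, ht]; exact (Finset.prod_erase_mul _ _ (Finset.mem_univ j)).symm
  choose R hRinv hReq using fun j => hg (t j * a' j)
  set n : Fin m → A := fun j => ∑ i ∈ range k, (t j * c j i) * π ^ i with hn
  have hnN : ∀ j, InN D π k (n j) := fun j => ⟨fun i => t j * c j i, fun i => (htinv j).mul (hc j i), rfl⟩
  have hSg : ∀ j, S * g j = n j + w * ∑ l, R j l * g l := by
    intro j
    rw [hSt j, mul_assoc, heq j, mul_add, ← hReq j, hn]
    simp only
    rw [Finset.mul_sum]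
    congr 1
    · exact Finset.sum_congr rfl fun i _ => by ring
    · ring
  set T : Matrix (Fin m) (Fin m) A := S • (1 : Matrix (Fin m) (Fin m) A) - w • Matrix.of R with hT
  have hTg : T.mulVec g = n := by
    funext j
    simp only [hT, Matrix.sub_mulVec, Matrix.smul_mulVec, Matrix.one_mulVec, Pi.sub_apply,
      Pi.smul_apply, smul_eq_mul]
    rw [hSg j]
    simp [Matrix.mulVec, dotProduct]
  set δ : A := T.det with hδ
  have hδg : ∀ j, δ * g j = ∑ l, T.adjugate j l * n l := by
    intro j
    have h1 : T.adjugate.mulVec (T.mulVec g) = δ • g := by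
      rw [Matrix.mulVec_mulVec, Matrix.adjugate_mul, Matrix.smul_mulVec, Matrix.one_mulVec]
    rw [hTg] at h1
    have := congrFun h1 j
    simp only [Matrix.mulVec, dotProduct, Pi.smul_apply, smul_eq_mul] at this
    exact this.symm
  have hTinv : ∀ (d : D), (MulSemiringAction.toRingHom D A d).mapMatrix T = T := by
    intro d
    ext j l
    simp only [RingHom.mapMatrix_apply, Matrix.map_apply, MulSemiringAction.toRingHom_apply, hT,
      Matrix.sub_apply, Matrix.smul_apply, Matrix.of_apply, smul_eq_mul, smul_sub, smul_mul']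
    rw [hSinv d, hwinv d, hRinv j l d]
    congr 2
    rw [Matrix.one_apply]
    split_ifs
    · exact smul_one d
    · exact smul_zero d
  have hδinv : Inv D δ := by
    intro d
    have := RingHom.map_det (MulSemiringAction.toRingHom D A d) T
    rw [hTinv d] at this
    exact this
  have hadjinv : ∀ j l, Inv D (T.adjugate j l) := by
    intro j l d
    have := RingHom.map_adjugate (MulSemiringAction.toRingHom D A d) T
    rw [hTinv d] at this
    have h2 := congrFun (congrFun this j) l
    simpa using h2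
  have hδ0 : δ ≠ 0 := by
    have hprime : (Ideal.span {π}).IsPrime := (Ideal.span_singleton_prime hπ.ne_zero).mpr hπ
    let f := Ideal.Quotient.mk (Ideal.span {π})
    have hfw : f w = 0 := by
      rw [Ideal.Quotient.eq_zero_iff_mem, Ideal.mem_span_singleton]; exact hwπ
    have hfT : f.mapMatrix T = f S • (1 : Matrix (Fin m) (Fin m) (A ⧸ Ideal.span {π})) := by
      ext j l
      simp only [RingHom.mapMatrix_apply, Matrix.map_apply, hT, Matrix.sub_apply,
        Matrix.smul_apply, Matrix.of_apply, smul_eq_mul, map_sub, map_mul, hfw, zero_mul, sub_zero]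
      congr 1
      rw [Matrix.one_apply, Matrix.one_apply]
      split_ifs
      · exact map_one f
      · exact map_zero f
    have hfδ : f δ = (f S) ^ m := by
      rw [hδ, RingHom.map_det, hfT, Matrix.det_smul, Matrix.det_one, mul_one, Fintype.card_fin]
    intro h0
    rw [h0, map_zero] at hfδ
    have : f S = 0 := pow_eq_zero_iff (n := m) (by
      rintro rfl
      simp at hfδ) |>.mp hfδ.symm
    rw [Ideal.Quotient.eq_zero_iff_mem, Ideal.mem_span_singleton] at this
    exact hSπ this
  refine ⟨δ, hδ0, hδinv, fun a => ?_⟩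
  obtain ⟨r, hrinv, rfl⟩ := hg a
  rw [Finset.mul_sum]
  apply InN.sum
  intro j _
  have : δ * (r j * g j) = r j * (δ * g j) := by ring
  rw [this, hδg j]
  apply InN.mul_left (hrinv j)
  apply InN.sum
  intro l _
  exact InN.mul_left (hadjinv j l) (hnN l)

end stepB

section stepC
variable [IsDomain A] [Fintype D] [FaithfulSMul D A]

/-- Step C: Artin's independence argument. If all `δ * a` lie in the span of fewer than `|D|`
elements over the invariants, contradiction. -/
lemma stepC (π : A) (k : ℕ) (hk : k < Fintype.card D) (δ : A) (hδ0 : δ ≠ 0) (hδinv : Inv D δ)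
    (h : ∀ a, InN D π k (δ * a)) : False := by
  classical
  let e : D ≃ Fin (Fintype.card D) := Fintype.equivFin D
  let Mx : Matrix D D A := fun d' d => if (e d').val < k then d • π ^ (e d').val else 0
  have hdet : Mx.det = 0 := by
    apply Matrix.det_eq_zero_of_row_eq_zero (e.symm ⟨k, hk⟩)
    intro d
    simp [Mx]
  obtain ⟨y, hy0, hy⟩ := Matrix.exists_mulVec_eq_zero_iff.mpr hdet
  have hrel : ∀ i < k, ∑ d, (d • π ^ i) * y d = 0 := by
    intro i hi
    have := congrFun hy (e.symm ⟨i, hi.trans hk⟩)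
    simp only [Matrix.mulVec, dotProduct, Mx, Equiv.apply_symm_apply, if_pos hi, Pi.zero_apply] at this
    exact this
  have hall : ∀ a : A, ∑ d, y d * (d • a) = 0 := by
    intro a
    obtain ⟨c, hc, hca⟩ := h a
    have h1 : δ * ∑ d, y d * (d • a) = ∑ d, y d * (d • (δ * a)) := by
      rw [Finset.mul_sum]
      apply Finset.sum_congr rfl
      intro d _
      rw [smul_mul', hδinv d]; ring
    have h2 : ∑ d, y d * (d • (δ * a)) = 0 := by
      rw [hca]
      simp_rw [Finset.smul_sum, smul_mul', Finset.mul_sum]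
      rw [Finset.sum_comm]
      apply Finset.sum_eq_zero
      intro i hi
      have hi' := Finset.mem_range.mp hi
      have : ∀ d : D, y d * (d • c i * d • π ^ i) = c i * ((d • π ^ i) * y d) := by
        intro d; rw [hc i d]; ring
      simp_rw [this]
      rw [← Finset.mul_sum, hrel i hi', mul_zero]
    rw [h2] at h1
    exact (mul_eq_zero.mp h1).resolve_left hδ0
  -- linear independence of distinct automorphisms
  let f : D → (A →* A) := fun d => MulDistribMulAction.toMonoidHom A d
  have hfinj : Function.Injective f := by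
    intro d d' hdd
    apply FaithfulSMul.eq_of_smul_eq_smul (α := A)
    intro a
    exact DFunLike.congr_fun hdd a
  have hli := (linearIndependent_monoidHom A A).comp f hfinj
  rw [Fintype.linearIndependent_iff] at hli
  have := hli y (by
    funext a
    simp only [Function.comp_apply, Finset.sum_apply, Pi.smul_apply, smul_eq_mul, Pi.zero_apply]
    exact hall a)
  exact hy0 (funext this)

end stepC

section lemmaX
variable [IsDomain A] [Fintype D] [FaithfulSMul D A]

/-- **Lemma X**: a nonzero invariant element divisible by `π` is divisible by `π ^ |D|`, when `D`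
stabilises `(π)` and the residue field extension is trivial. -/
theorem pow_card_dvd [WfDvdMonoid A] (π : A) (hπ : Prime π)
    (hstab : ∀ d : D, Associated (d • π) π)
    (hres : ∀ a : A, ∃ s c a', Inv D s ∧ Inv D c ∧ ¬ π ∣ s ∧ s * a = c + π * a')
    (hfin : ∃ (m : ℕ) (g : Fin m → A), ∀ a, ∃ r : Fin m → A, (∀ j, Inv D (r j)) ∧
      a = ∑ j, r j * g j)
    (w : A) (hw0 : w ≠ 0) (hwinv : Inv D w) (hwπ : π ∣ w) :
    π ^ Fintype.card D ∣ w := by
  by_contra hnot
  obtain ⟨k, u, hu, hw⟩ := WfDvdMonoid.max_power_factor hw0 hπ.irreducible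
  have hk : k < Fintype.card D := by
    by_contra hge
    push_neg at hge
    exact hnot (hw ▸ Dvd.dvd.mul_right (pow_dvd_pow π hge) u)
  obtain ⟨δ, hδ0, hδinv, hδ⟩ := stepB π hπ k w hwπ hwinv hfin
    (fun a => stepA' π hres hπ hstab k u w hw hu a)
  exact stepC π k hk δ hδ0 hδinv hδ

end lemmaX

end Groth.Agent.Lib.Helper26.Inv47B
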