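import Mathlib
import Groth.Agent.Lib.Helper26.Inv47A
import Groth.Agent.Lib.Helper26.Inv47B

set_option autoImplicit false
open scoped BigOperators
open Finset

namespace Groth.Agent.Lib.Helper26.Inv47C

open Groth.Agent.Lib.Helper26.Inv47B

universe u

section count
variable {A : Type u} [CommRing A] [IsDomain A]

open Classical in
/-- Product of primes divides `w` as soon as the correct powers do. -/
lemma prod_dvd_of_count {ι : Type*} [DecidableEq ι] (f : ι → A) (hf : ∀ i, Prime (f i))
    (S : Finset ι) : ∀ (w : A),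
    (∀ i ∈ S, f i ^ (S.filter (fun j => Associated (f j) (f i))).card ∣ w) → ∏ i ∈ S, f i ∣ w := by
  classical
  induction S using Finset.induction_on with
  | empty => intro w _; simp
  | insert i₀ S hi₀ ih =>
    intro w h
    have h0 := h i₀ (Finset.mem_insert_self _ _)
    have hc0 : 1 ≤ ((insert i₀ S).filter (fun j => Associated (f j) (f i₀))).card := by
      apply Finset.card_pos.mpr
      exact ⟨i₀, Finset.mem_filter.mpr ⟨Finset.mem_insert_self _ _, Associated.refl _⟩⟩
    obtain ⟨w₁, hw₁⟩ : f i₀ ∣ w := (dvd_pow_self (f i₀) (by omega)).trans h0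
    rw [Finset.prod_insert hi₀, hw₁]
    apply mul_dvd_mul_left
    apply ih
    intro i hi
    have hi' := h i (Finset.mem_insert_of_mem hi)
    rw [Finset.filter_insert] at hi'
    by_cases hass : Associated (f i₀) (f i)
    · rw [if_pos hass, Finset.card_insert_of_notMem (by
        intro hmem; exact hi₀ (Finset.mem_filter.mp hmem).1), pow_succ, hw₁] at hi'
      obtain ⟨v, hv⟩ := hass
      rw [← hv] at hi' ⊢
      have h2 : (f i₀ * ↑v) ^ (S.filter fun j => Associated (f j) (f i₀ * ↑v)).card * (f i₀ * ↑v)
          = f i₀ * ((f i₀ * ↑v) ^ (S.filter fun j => Associated (f j) (f i₀ * ↑v)).card * ↑v) := by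
        ring
      rw [h2] at hi'
      have h3 := (mul_dvd_mul_iff_left (hf i₀).ne_zero).mp hi'
      exact dvd_of_mul_right_dvd h3
    · rw [if_neg hass, hw₁] at hi'
      have hnd : ¬ f i ∣ f i₀ := by
        intro hd
        exact hass ((hf i).associated_of_dvd (hf i₀) hd).symm
      exact (hf i).pow_dvd_of_dvd_mul_left _ hnd hi'

end count

section stab
variable {A : Type u} [CommRing A]

/-- The stabiliser of the prime element `π` up to association. -/
def stab (G : Type u) [Group G] [MulSemiringAction G A] (π : A) : Subgroup G where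
  carrier := {g | Associated (g • π) π}
  one_mem' := by simp
  mul_mem' := by
    intro g h hg hh
    simp only [Set.mem_ofPred_eq] at *
    rw [mul_smul]
    have : Associated (g • h • π) (g • π) := by
      obtain ⟨v, hv⟩ := hh
      refine ⟨(Units.map (MulSemiringAction.toRingHom G A g).toMonoidHom) v, ?_⟩
      simp only [Units.coe_map, RingHom.toMonoidHom_eq_coe, MonoidHom.coe_coe,
        MulSemiringAction.toRingHom_apply]
      rw [← smul_mul', hv]
    exact this.trans hg
  inv_mem' := by
    intro g hg
    simp only [Set.mem_ofPred_eq] at *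
    obtain ⟨v, hv⟩ := hg
    have : Associated (g⁻¹ • g • π) (g⁻¹ • π) := by
      refine ⟨(Units.map (MulSemiringAction.toRingHom G A g⁻¹).toMonoidHom) v, ?_⟩
      simp only [Units.coe_map, RingHom.toMonoidHom_eq_coe, MonoidHom.coe_coe,
        MulSemiringAction.toRingHom_apply]
      rw [← smul_mul', hv]
    rw [inv_smul_smul] at this
    exact this.symm

end stab

section main
variable {A B G : Type u} [CommRing A] [IsDomain A] [IsNoetherianRing A]
    [UniqueFactorizationMonoid A]
    [CommRing B] [Algebra B A] [FaithfulSMul B A] [Module.Finite B A]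
    [Group G] [Finite G] [MulSemiringAction G A] [FaithfulSMul G A] [SMulCommClass G B A]
    [Algebra.IsInvariant B A G]

omit [IsDomain A] [IsNoetherianRing A] [UniqueFactorizationMonoid A] [FaithfulSMul B A]
  [Module.Finite B A] [Finite G] [FaithfulSMul G A] [Algebra.IsInvariant B A G] in
lemma smul_algebraMap' (g : G) (b : B) : g • algebraMap B A b = algebraMap B A b := by
  rw [Algebra.algebraMap_eq_smul_one, smul_comm, smul_one]

include G in
theorem isPrincipal_under (q : Ideal B) [q.IsPrime] (hq : q.height = 1)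
    (p : Ideal A) [p.IsPrime] [p.LiesOver q]
    (hres : ∀ a : A, ∃ b c : B, c ∉ q ∧ algebraMap B A c * a - algebraMap B A b ∈ p) :
    Submodule.IsPrincipal q := by
  classical
  have hinj : Function.Injective (algebraMap B A) := FaithfulSMul.algebraMap_injective B A
  haveI : IsDomain B := hinj.isDomain _
  haveI : Algebra.IsIntegral B A := Algebra.IsIntegral.of_finite B A
  haveI : Fintype G := Fintype.ofFinite G
  have hqp : q = p.comap (algebraMap B A) := Ideal.LiesOver.over
  have hq0 : q ≠ ⊥ := by
    intro h; rw [h, Ideal.height_bot] at hq; exact zero_ne_one hq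
  have hp0 : p ≠ ⊥ := by
    intro h
    apply hq0
    rw [hqp, h, ← RingHom.ker_eq_comap_bot, (RingHom.injective_iff_ker_eq_bot _).mp hinj]
  obtain ⟨π, hπp, hπ⟩ := Ideal.IsPrime.exists_mem_prime_of_ne_bot ‹p.IsPrime› hp0
  -- the norm of π
  have hNinv : ∀ g : G, g • (∏ g' : G, g' • π) = ∏ g' : G, g' • π := Inv.norm (D := G) π
  obtain ⟨ν₀, hν₀⟩ := Algebra.IsInvariant.isInvariant (A := B) (B := A) (G := G) _ hNinv
  have hπN : π ∣ ∏ g' : G, g' • π := by
    have := Finset.dvd_prod_of_mem (fun g' : G => g' • π) (Finset.mem_univ (1 : G))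
    simpa using this
  have hN0 : (∏ g' : G, g' • π) ≠ 0 := by
    rw [Finset.prod_ne_zero_iff]
    intro g _ h
    apply hπ.ne_zero
    have := congrArg (fun x => g⁻¹ • x) h
    simpa using this
  -- p = (π)
  have hpπ : p = Ideal.span {π} := by
    have hle : Ideal.span {π} ≤ p := (Ideal.span_singleton_le_iff_mem _).mpr hπp
    haveI hprime : (Ideal.span {π}).IsPrime := (Ideal.span_singleton_prime hπ.ne_zero).mpr hπ
    by_contra hne
    have hlt : Ideal.span {π} < p := lt_of_le_of_ne hle (Ne.symm hne)
    have hlt' := Ideal.IsIntegral.comap_lt_comap (R := B) hlt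
    rw [← hqp] at hlt'
    set q' := (Ideal.span {π}).comap (algebraMap B A) with hq'
    haveI : q'.IsPrime := Ideal.comap_isPrime _ _
    have hq'0 : q' ≠ ⊥ := by
      intro h
      have hmem : ν₀ ∈ q' := by
        rw [hq', Ideal.mem_comap, hν₀, Ideal.mem_span_singleton]; exact hπN
      rw [h, Ideal.mem_bot] at hmem
      rw [hmem, map_zero] at hν₀
      exact hN0 hν₀.symm
    have h1 := Ideal.height_add_one_le_of_lt_of_isPrime hlt'
    have h2 : q'.height ≠ 0 := fun h => hq'0 (Ideal.height_eq_zero_iff_eq_bot.mp h)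
    rw [hq] at h1
    have : 1 ≤ q'.height := ENat.one_le_iff_ne_zero.mpr h2
    have h3 : (1 : ℕ∞) + 1 ≤ 1 := (add_le_add_left this 1).trans h1
    exact absurd h3 (by decide)
  -- the decomposition group
  let D : Subgroup G := stab G π
  haveI : Fintype D := Fintype.ofFinite D
  have hstab : ∀ d : D, Associated (d • π) π := fun d => d.2
  have hresD : ∀ a : A, ∃ s c a', Inv D s ∧ Inv D c ∧ ¬ π ∣ s ∧ s * a = c + π * a' := by
    intro a
    obtain ⟨b, c, hc, hmem⟩ := hres a
    rw [hpπ, Ideal.mem_span_singleton] at hmem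
    obtain ⟨a', ha'⟩ := hmem
    refine ⟨algebraMap B A c, algebraMap B A b, a', fun d => smul_algebraMap' (d : G) c,
      fun d => smul_algebraMap' (d : G) b, ?_, ?_⟩
    · intro h
      apply hc
      rw [hqp, Ideal.mem_comap, hpπ, Ideal.mem_span_singleton]; exact h
    · rw [← ha']; ring
  have hfinD : ∃ (m : ℕ) (g : Fin m → A), ∀ a, ∃ r : Fin m → A, (∀ j, Inv D (r j)) ∧
      a = ∑ j, r j * g j := by
    obtain ⟨m, g, hg⟩ := Module.Finite.exists_fin (R := B) (M := A)
    refine ⟨m, g, fun a => ?_⟩
    have ha : a ∈ Submodule.span B (Set.range g) := by rw [hg]; trivial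
    obtain ⟨c, hc⟩ := (Submodule.mem_span_range_iff_exists_fun B).mp ha
    refine ⟨fun j => algebraMap B A (c j), fun j d => smul_algebraMap' (d : G) (c j), ?_⟩
    rw [← hc]
    exact Finset.sum_congr rfl fun j _ => by rw [Algebra.smul_def]
  -- every nonzero element of q is divisible by the norm
  have hdiv : ∀ b ∈ q, b ≠ 0 → (∏ g' : G, g' • π) ∣ algebraMap B A b := by
    intro b hb hb0
    set w := algebraMap B A b with hw
    have hw0 : w ≠ 0 := fun h => hb0 (hinj (by rw [← hw, h, map_zero]))
    have hwG : ∀ g : G, g • w = w := fun g => smul_algebraMap' g b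
    have hwπ : π ∣ w := by
      have : w ∈ p := by rw [hqp] at hb; exact hb
      rwa [hpπ, Ideal.mem_span_singleton] at this
    have hX : π ^ Fintype.card D ∣ w :=
      pow_card_dvd (D := D) π hπ hstab hresD hfinD w hw0 (fun d => hwG (d : G)) hwπ
    have hsmul_dvd : ∀ (g : G) (x y : A), x ∣ y → g • x ∣ g • y := by
      intro g x y ⟨z, hz⟩
      exact ⟨g • z, by rw [hz, smul_mul']⟩
    have hassoc : ∀ (g : G) (x y : A), Associated x y → Associated (g • x) (g • y) := by
      intro g x y hxy
      exact associated_of_dvd_dvd (hsmul_dvd g _ _ hxy.dvd) (hsmul_dvd g _ _ hxy.symm.dvd)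
    apply prod_dvd_of_count (fun g : G => g • π)
    · intro g
      show Prime (g • π)
      exact (MulEquiv.prime_iff (MulSemiringAction.toRingEquiv G A g).toMulEquiv).mpr hπ
    · intro g _
      have hcard : (Finset.univ.filter (fun h : G => Associated (h • π) (g • π))).card
          = Fintype.card D := by
        rw [← Fintype.card_subtype]
        apply Fintype.card_congr
        refine
          { toFun := fun h => ⟨g⁻¹ * h.1, ?_⟩
            invFun := fun d => ⟨g * d.1, ?_⟩
            left_inv := fun h => by simp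
            right_inv := fun d => by simp }
        · show Associated ((g⁻¹ * h.1) • π) π
          have := hassoc g⁻¹ _ _ h.2
          rwa [inv_smul_smul, ← mul_smul] at this
        · show Associated ((g * d.1) • π) (g • π)
          rw [mul_smul]
          exact hassoc g _ _ d.2
      rw [hcard]
      have := hsmul_dvd g _ _ hX
      rwa [smul_pow', hwG g] at this
  -- conclusion
  refine ⟨⟨ν₀, ?_⟩⟩
  apply le_antisymm
  · intro b hb
    by_cases hb0 : b = 0
    · rw [hb0]; exact Submodule.zero_mem _
    obtain ⟨a₁, ha₁⟩ := hdiv b hb hb0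
    have ha₁inv : ∀ g : G, g • a₁ = a₁ := by
      intro g
      have := congrArg (fun x => g • x) ha₁
      simp only [smul_mul', smul_algebraMap', hNinv g] at this
      rw [ha₁] at this
      exact (mul_left_cancel₀ hN0 this).symm
    obtain ⟨b₁, hb₁⟩ := Algebra.IsInvariant.isInvariant (A := B) (B := A) (G := G) _ ha₁inv
    have : b = ν₀ * b₁ := by
      apply hinj
      rw [map_mul, hν₀, hb₁, ha₁]
    rw [this]
    exact Submodule.mem_span_singleton.mpr ⟨b₁, by rw [smul_eq_mul, mul_comm]⟩
  · rw [Submodule.span_singleton_le_iff_mem, hqp, Ideal.mem_comap, hν₀, hpπ,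
      Ideal.mem_span_singleton]
    exact hπN

end main

end Groth.Agent.Lib.Helper26.Inv47C
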