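import Mathlib

set_option autoImplicit false
open scoped BigOperators
open IsLocalRing

namespace Groth.Agent.Lib.Helper26.Inv47D

universe u

theorem regular_of_quotient {B : Type u} [CommRing B] [IsDomain B] [IsLocalRing B]
    [IsNoetherianRing B] (q : Ideal B) (ν : B) (hq : q = Ideal.span {ν}) (hν0 : ν ≠ 0)
    (hν : ν ∈ maximalIdeal B) (hreg : IsRegularLocalRing (B ⧸ q)) : IsRegularLocalRing B := by
  classical
  apply IsRegularLocalRing.of_spanFinrank_maximalIdeal_le
  have hqm : q ≤ maximalIdeal B := by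
    rw [hq, Ideal.span_singleton_le_iff_mem]; exact hν
  haveI : IsLocalRing (B ⧸ q) := hreg.toIsLocalRing
  have hfg : (maximalIdeal (B ⧸ q)).FG := (isNoetherianRing_iff_ideal_fg _).mp inferInstance _
  obtain ⟨tb, hcard, hspan⟩ := Submodule.FG.exists_span_finset_card_eq_spanFinrank hfg
  -- lift
  let lift : (B ⧸ q) → B := fun x => (Ideal.Quotient.mk_surjective x).choose
  have hlift : ∀ x, Ideal.Quotient.mk q (lift x) = x := fun x =>
    (Ideal.Quotient.mk_surjective x).choose_spec
  let t : Finset B := tb.image lift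
  have hmk_t : (Ideal.Quotient.mk q) '' (t : Set B) = (tb : Set (B ⧸ q)) := by
    ext x
    simp only [t, Finset.coe_image, Set.mem_image, Finset.mem_coe]
    constructor
    · rintro ⟨y, ⟨z, hz, rfl⟩, rfl⟩
      rwa [hlift]
    · intro hx
      exact ⟨lift x, ⟨x, hx, rfl⟩, hlift x⟩
  have hmem_max : ∀ y : B, y ∈ maximalIdeal B ↔ Ideal.Quotient.mk q y ∈ maximalIdeal (B ⧸ q) := by
    intro y
    rw [mem_maximalIdeal, mem_maximalIdeal, mem_nonunits_iff, mem_nonunits_iff, not_iff_not]
    constructor
    · intro h; exact h.map _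
    · intro h
      obtain ⟨z, hz⟩ := h.exists_right_inv
      obtain ⟨z', rfl⟩ := Ideal.Quotient.mk_surjective z
      rw [← map_mul, ← map_one (Ideal.Quotient.mk q), Ideal.Quotient.eq] at hz
      have h1 : y * z' - 1 ∈ maximalIdeal B := hqm hz
      by_contra hy
      have hy' : y ∈ maximalIdeal B := hy
      have : (1 : B) ∈ maximalIdeal B := by
        have h2 : y * z' ∈ maximalIdeal B := Ideal.mul_mem_right _ _ hy'
        have := Ideal.sub_mem _ h2 h1
        simpa using this
      exact (Ideal.ne_top_iff_one _).mp (maximalIdeal.isMaximal B).ne_top this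
  have hmax : maximalIdeal B = Ideal.span (insert ν (t : Set B)) := by
    apply le_antisymm
    · intro y hy
      have h1 : Ideal.Quotient.mk q y ∈ maximalIdeal (B ⧸ q) := (hmem_max y).mp hy
      have hspan' : maximalIdeal (B ⧸ q) = Ideal.span ((tb : Set (B ⧸ q))) := hspan.symm
      rw [hspan', ← hmk_t, ← Ideal.map_span] at h1
      obtain ⟨z, hz, hzy⟩ := (Ideal.mem_map_iff_of_surjective _ Ideal.Quotient.mk_surjective).mp h1
      have h2 : y - z ∈ q := by rw [← Ideal.Quotient.eq, hzy]
      rw [hq, Ideal.mem_span_singleton] at h2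
      obtain ⟨c, hc⟩ := h2
      have : y = z + ν * c := by rw [← hc]; ring
      rw [this]
      apply Ideal.add_mem
      · exact Ideal.span_mono (Set.subset_insert _ _) hz
      · exact Ideal.mul_mem_right _ _ (Ideal.subset_span (Set.mem_insert _ _))
    · rw [Ideal.span_le]
      intro y hy
      rcases hy with rfl | hy
      · exact hν
      · rw [SetLike.mem_coe, hmem_max]
        have : Ideal.Quotient.mk q y ∈ (tb : Set (B ⧸ q)) := by
          rw [← hmk_t]; exact ⟨y, hy, rfl⟩
        rw [← hspan]
        exact Submodule.subset_span this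
  have hfin : (insert ν (t : Set B)).Finite := (Finset.finite_toSet t).insert ν
  have h1 : (maximalIdeal B).spanFinrank ≤ (insert ν (t : Set B)).ncard := by
    conv_lhs => rw [hmax]
    exact Submodule.spanFinrank_span_le_ncard_of_finite hfin
  have h2 : (insert ν (t : Set B)).ncard ≤ tb.card + 1 := by
    calc (insert ν (t : Set B)).ncard ≤ (t : Set B).ncard + 1 := Set.ncard_insert_le _ _
      _ = t.card + 1 := by rw [Set.ncard_coe_finset]
      _ ≤ tb.card + 1 := by
        have : t.card ≤ tb.card := Finset.card_image_le (s := tb) (f := lift)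
        omega
  have h3 : ringKrullDim (B ⧸ q) + 1 ≤ ringKrullDim B := by
    apply ringKrullDim_succ_le_of_surjective (Ideal.Quotient.mk q) Ideal.Quotient.mk_surjective
      (r := ν) (mem_nonZeroDivisors_of_ne_zero hν0)
    rw [Ideal.Quotient.eq_zero_iff_mem, hq]
    exact Ideal.subset_span (Set.mem_singleton ν)
  have h4 : ((maximalIdeal (B ⧸ q)).spanFinrank : WithBot ℕ∞) = ringKrullDim (B ⧸ q) :=
    hreg.spanFinrank_maximalIdeal
  calc ((maximalIdeal B).spanFinrank : WithBot ℕ∞) ≤ ((tb.card + 1 : ℕ) : WithBot ℕ∞) := by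
        exact_mod_cast h1.trans h2
    _ = ((maximalIdeal (B ⧸ q)).spanFinrank : WithBot ℕ∞) + 1 := by
        rw [hcard]; push_cast; rfl
    _ = ringKrullDim (B ⧸ q) + 1 := by rw [h4]
    _ ≤ ringKrullDim B := h3

end Groth.Agent.Lib.Helper26.Inv47D
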