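import Mathlib
import Groth.Agent.Lib.Helper26.Inv47A
import Groth.Agent.Lib.Helper26.Inv47C
import Groth.Agent.Lib.Helper26.Inv47D

set_option autoImplicit false

namespace Groth.Agent.Lib.Helper26.Inv47E

universe u

theorem main_16547
    {A B G : Type u} [CommRing A] [IsDomain A] [IsNoetherianRing A] [IsLocalRing A]
    [UniqueFactorizationMonoid A]
    [CommRing B] [Algebra B A] [FaithfulSMul B A] [Module.Finite B A]
    [Group G] [Finite G] [MulSemiringAction G A] [FaithfulSMul G A] [SMulCommClass G B A]
    [Algebra.IsInvariant B A G]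
    (q : Ideal B) [q.IsPrime] (hq : q.height = 1) (p : Ideal A) [p.IsPrime] [p.LiesOver q]
    (hres : ∀ a : A, ∃ b c : B, c ∉ q ∧ algebraMap B A c * a - algebraMap B A b ∈ p) :
    Submodule.IsPrincipal q ∧ (IsRegularLocalRing (B ⧸ q) → IsRegularLocalRing B) := by
  have hprin : Submodule.IsPrincipal q := Inv47C.isPrincipal_under (G := G) q hq p hres
  refine ⟨hprin, fun hreg => ?_⟩
  have hinj : Function.Injective (algebraMap B A) := FaithfulSMul.algebraMap_injective B A
  haveI : IsDomain B := hinj.isDomain _
  haveI : IsNoetherianRing B := Inv47A.eakin_nagata hinj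
  haveI : IsLocalHom (algebraMap B A) := by
    constructor
    intro b hb
    obtain ⟨x, hx⟩ := hb.exists_right_inv
    have hxinv : ∀ g : G, g • x = x := by
      intro g
      have h1 : algebraMap B A b * (g • x) = 1 := by
        have := congrArg (fun y => g • y) hx
        simp only [smul_mul', smul_one, Inv47C.smul_algebraMap'] at this
        exact this
      have h2 : algebraMap B A b ≠ 0 := hb.ne_zero
      exact mul_left_cancel₀ h2 (h1.trans hx.symm)
    obtain ⟨b', hb'⟩ := Algebra.IsInvariant.isInvariant (A := B) (B := A) (G := G) _ hxinv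
    refine isUnit_iff_exists_inv.mpr ⟨b', hinj ?_⟩
    rw [map_mul, hb', hx, map_one]
  haveI : IsLocalRing B := RingHom.domain_isLocalRing (algebraMap B A)
  have hq0 : q ≠ ⊥ := by
    intro h; rw [h, Ideal.height_bot] at hq; exact zero_ne_one hq
  obtain ⟨⟨ν, hν⟩⟩ := hprin
  have hq' : q = Ideal.span {ν} := hν
  have hν0 : ν ≠ 0 := by
    rintro rfl
    apply hq0
    rw [hq']; simp
  have hνm : ν ∈ IsLocalRing.maximalIdeal B := by
    apply IsLocalRing.le_maximalIdeal (Ideal.IsPrime.ne_top ‹q.IsPrime›)
    rw [hq']; exact Ideal.subset_span (Set.mem_singleton ν)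
  exact Inv47D.regular_of_quotient q ν hq' hν0 hνm hreg

end Groth.Agent.Lib.Helper26.Inv47E
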