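import Mathlib
import Groth.Agent.Lib.Helper21.IrrFib3
import Groth.Agent.Lib.Helper21.FibDim8

set_option autoImplicit false
universe u
open CategoryTheory CategoryTheory.Limits AlgebraicGeometry

namespace Groth.Agent.Lib.Helper26.IrrFibGen

/-- field-general version of S14378 (proof copied from helper21's `S14378`, which never uses
algebraic closedness) -/
theorem irrFib_general (k : Type u) [Field k]
    {X Y : Scheme.{u}} (qX : X ⟶ Spec (CommRingCat.of k)) (qY : Y ⟶ Spec (CommRingCat.of k))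
    [LocallyOfFiniteType qX] [QuasiCompact qX] [LocallyOfFiniteType qY] [QuasiCompact qY]
    (f : X ⟶ Y) (hf : f ≫ qY = qX) [IrreducibleSpace ↥Y] (d : ℕ)
    (hirr : ∀ y : ↥Y, IsClosed ({y} : Set ↥Y) → IsIrreducible (f.base ⁻¹' {y}))
    (hdim : ∀ y : ↥Y, IsClosed ({y} : Set ↥Y) → topologicalKrullDim ↥(f.base ⁻¹' {y}) = d) :
    (∃! Z : Set ↥X, Z ∈ irreducibleComponents ↥X ∧ Dense (f.base '' Z)) ∧
      ∀ Z ∈ irreducibleComponents ↥X,
        (∀ y : ↥Y, IsClosed ({y} : Set ↥Y) → (f.base ⁻¹' {y} ∩ Z).Nonempty → f.base ⁻¹' {y} ⊆ Z) ∧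
        topologicalKrullDim ↥Z = d + topologicalKrullDim ↥(closure (f.base '' Z)) := by
  let _ : X.Over (Spec (CommRingCat.of k)) := ⟨qX⟩
  let _ : Y.Over (Spec (CommRingCat.of k)) := ⟨qY⟩
  have hlX : LocallyOfFiniteType (X ↘ Spec (CommRingCat.of k)) := ‹LocallyOfFiniteType qX›
  have hlY : LocallyOfFiniteType (Y ↘ Spec (CommRingCat.of k)) := ‹LocallyOfFiniteType qY›
  have hf' : f ≫ (Y ↘ Spec (CommRingCat.of k)) = X ↘ Spec (CommRingCat.of k) := hf
  have hft : LocallyOfFiniteType f := by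
    have h0 : LocallyOfFiniteType (f ≫ qY) := by rw [hf]; infer_instance
    exact locallyOfFiniteType_of_comp f qY
  have : CompactSpace X := QuasiCompact.compactSpace_of_compactSpace qX
  have : IsLocallyNoetherian X := LocallyOfFiniteType.isLocallyNoetherian qX
  have : IsNoetherian X := {}
  have : CompactSpace Y := QuasiCompact.compactSpace_of_compactSpace qY
  have : IsLocallyNoetherian Y := LocallyOfFiniteType.isLocallyNoetherian qY
  have : IsNoetherian Y := {}
  have : JacobsonSpace Y := LocallyOfFiniteType.jacobsonSpace qY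
  -- generic points of components
  have hgen : ∀ Z ∈ irreducibleComponents ↥X, ∃ ξ : X, (∀ ξ' : X, ξ' ⤳ ξ → ξ' = ξ) ∧
      closure ({ξ} : Set X) = Z := by
    intro Z hZ
    obtain ⟨ξ, hξ⟩ :=
      Groth.Agent.Lib.Helper21.FibDim.exists_isGenericPoint_of_mem_irreducibleComponents Z hZ
    exact ⟨ξ, fun ξ' h =>
      Groth.Agent.Lib.Helper21.FibDim.eq_of_specializes_isGenericPoint Z hZ ξ ξ' hξ h, hξ.def⟩
  refine ⟨?_, ?_⟩
  · obtain ⟨ξ₀, hmax₀, hξ₀⟩ :=
      Groth.Agent.Lib.Helper21.IrrFib.exists_maximal_over_generic f hirr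
    refine ⟨closure {ξ₀}, ⟨?_, ?_⟩, ?_⟩
    · exact Groth.Agent.Lib.Helper21.FibDim.closure_mem_irreducibleComponents_of_maximal ξ₀ hmax₀
    · rw [dense_iff_closure_eq, ← Set.univ_subset_iff, ← (genericPoint_spec Y).def, ← hξ₀]
      exact closure_mono (Set.singleton_subset_iff.mpr ⟨ξ₀, subset_closure rfl, rfl⟩)
    · rintro Z ⟨hZ, hZd⟩
      obtain ⟨ξ, hmax, rfl⟩ := hgen Z hZ
      have hξ : f ξ = genericPoint Y := by
        have h1 : closure (f.base '' closure ({ξ} : Set X)) = closure ({f ξ} : Set Y) := by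
          apply subset_antisymm
          · refine closure_minimal ?_ isClosed_closure
            refine (image_closure_subset_closure_image f.continuous).trans ?_
            rw [Set.image_singleton]
          · exact closure_mono (Set.singleton_subset_iff.mpr ⟨ξ, subset_closure rfl, rfl⟩)
        have h2 : IsGenericPoint (f ξ) (Set.univ : Set Y) := by
          rw [isGenericPoint_def, ← h1]
          exact hZd.closure_eq
        exact h2.eq (genericPoint_spec Y)
      rw [Groth.Agent.Lib.Helper21.IrrFib.eq_of_maximal_over_generic f d hirr hdim ξ ξ₀ hmax hmax₀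
        hξ hξ₀]
  · intro Z hZ
    obtain ⟨ξ, hmax, rfl⟩ := hgen Z hZ
    refine ⟨?_, ?_⟩
    · rintro y hy ⟨x, hxy, hxZ⟩ x' hx'
      have hxy' : f x = y := hxy
      have hx'y : f x' = y := hx'
      rw [← specializes_iff_mem_closure]
      exact Groth.Agent.Lib.Helper21.IrrFib.specializes_of_maximal f d hirr hdim ξ hmax x
        (by rw [hxy']; exact hy) (specializes_iff_mem_closure.mpr hxZ) x' (hx'y.trans hxy'.symm)
    · exact Groth.Agent.Lib.Helper21.IrrFib.topologicalKrullDim_closure_eq_add k X Y f hf' ξ d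
        (Groth.Agent.Lib.Helper21.IrrFib.trdeg_eq_of_maximal f d hirr hdim ξ hmax)

theorem main_10914 (k : Type u) [Field k] {X Y : Scheme.{u}}
    (pX : X ⟶ Spec (CommRingCat.of k)) (pY : Y ⟶ Spec (CommRingCat.of k)) [IsProper pX] [IsProper pY]
    (f : X ⟶ Y) (hf : f ≫ pY = pX) (hsurj : Function.Surjective f)
    [IrreducibleSpace ↥Y] (m : ℕ)
    (hirr : ∀ y : ↥Y, IsClosed ({y} : Set ↥Y) → IrreducibleSpace ↥(f.fiber y))
    (hdim : ∀ y : ↥Y, IsClosed ({y} : Set ↥Y) → topologicalKrullDim ↥(f.fiber y) = m) :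
    IrreducibleSpace ↥X ∧ topologicalKrullDim ↥X = topologicalKrullDim ↥Y + m := by
  haveI : IsProper (f ≫ pY) := hf ▸ inferInstance
  haveI : IsProper f := IsProper.of_comp f pY
  have hirr' : ∀ y : ↥Y, IsClosed ({y} : Set ↥Y) → IsIrreducible (f.base ⁻¹' {y}) := by
    intro y hy
    haveI := hirr y hy
    have h1 : IsIrreducible (Set.univ : Set ↥(f.fiber y)) := IrreducibleSpace.isIrreducible_univ _
    have h2 := h1.image (f.fiberι y) (f.fiberι y).continuous.continuousOn
    rw [Set.image_univ, f.range_fiberι y] at h2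
    exact h2
  have hdim' : ∀ y : ↥Y, IsClosed ({y} : Set ↥Y) →
      topologicalKrullDim ↥(f.base ⁻¹' {y}) = m := by
    intro y hy
    rw [← hdim y hy]
    exact ((f.fiberHomeo y).isHomeomorph.topologicalKrullDim_eq).symm
  obtain ⟨⟨Z₀, ⟨hZ₀, hZ₀d⟩, -⟩, hall⟩ := irrFib_general k pX pY f hf m hirr' hdim'
  have hZ₀cl : IsClosed Z₀ := isClosed_of_mem_irreducibleComponents Z₀ hZ₀
  have hfZ₀ : f.base '' Z₀ = Set.univ := by
    have hcl : IsClosed (f.base '' Z₀) := f.isClosedMap _ hZ₀cl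
    rw [← hcl.closure_eq]
    exact hZ₀d.closure_eq
  haveI : JacobsonSpace X := LocallyOfFiniteType.jacobsonSpace pX
  have hle : ∀ Z ∈ irreducibleComponents ↥X, Z = Z₀ := by
    intro Z hZ
    have hZcl : IsClosed Z := isClosed_of_mem_irreducibleComponents Z hZ
    have hsub : Z ⊆ Z₀ := by
      rw [← JacobsonSpace.closure_inter_closedPoints hZcl]
      refine closure_minimal ?_ hZ₀cl
      rintro x ⟨hxZ, hxc⟩
      have hxc' : IsClosed ({x} : Set X) := hxc
      have hy : IsClosed ({f x} : Set Y) := by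
        have := f.isClosedMap _ hxc'
        rwa [Set.image_singleton] at this
      obtain ⟨x₀, hx₀, hx₀y⟩ : f x ∈ f.base '' Z₀ := hfZ₀ ▸ Set.mem_univ _
      exact (hall Z₀ hZ₀).1 (f x) hy ⟨x₀, hx₀y, hx₀⟩ (rfl : f x = f x)
    exact subset_antisymm hsub (hZ.2 hZ₀.1 hsub)
  have huniv : Z₀ = Set.univ := by
    refine Set.eq_univ_of_forall fun x => ?_
    rw [← hle _ (irreducibleComponent_mem_irreducibleComponents x)]
    exact mem_irreducibleComponent
  have hX : IrreducibleSpace ↥X := by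
    rw [irreducibleSpace_def]
    change IsIrreducible (Set.univ : Set X)
    rw [← huniv]
    exact hZ₀.1
  refine ⟨hX, ?_⟩
  have h1 := (hall Z₀ hZ₀).2
  rw [hfZ₀, closure_univ] at h1
  have h2 : topologicalKrullDim ↥Z₀ = topologicalKrullDim ↥X := by
    rw [huniv]
    exact (Homeomorph.Set.univ X).isHomeomorph.topologicalKrullDim_eq
  have h3 : topologicalKrullDim ↥(Set.univ : Set Y) = topologicalKrullDim ↥Y :=
    (Homeomorph.Set.univ Y).isHomeomorph.topologicalKrullDim_eq
  rw [h2, h3] at h1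
  rw [h1, add_comm]

end Groth.Agent.Lib.Helper26.IrrFibGen
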