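import Mathlib
import Groth.Prelude.Def_W4c2isonaturalstkIso
import Groth.Prelude.Def_AlgSt4
set_option autoImplicit false
universe u
open CategoryTheory AlgebraicGeometry

namespace Groth.Agent.Lib.Helper26.IsoNatPts

variable {S : Scheme.{u}}

/-- the fibre object of a field-valued point -/
def fibObj {𝒳 : AlgSt.Cat S} (p : AlgSt.FPt 𝒳) : 𝒳.p.Fiber (Over.mk p.str) := ⟨p.obj, p.lies⟩

/-- the field-valued point of a fibre object over `Spec K` -/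
def ofFib {𝒳 : AlgSt.Cat S} (K : Type u) [Field K] (str : Spec (CommRingCat.of K) ⟶ S)
    (x : 𝒳.p.Fiber (Over.mk str)) : AlgSt.FPt 𝒳 :=
  { K := K, str := str, obj := x.1, lies := x.2 }

theorem rel_of_iso {𝒳 : AlgSt.Cat S} (K : Type u) [Field K] (str : Spec (CommRingCat.of K) ⟶ S)
    (x y : 𝒳.p.Fiber (Over.mk str)) (h : IsoNat.cls x = IsoNat.cls y) :
    AlgSt.FPt.Rel (ofFib K str x) (ofFib K str y) := by
  obtain ⟨e⟩ := Quotient.exact h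
  exact ⟨ofFib K str x, 𝟙 _, e.hom.1, trivial⟩

theorem rel_transport {𝒳 𝒳' : AlgSt.Cat S} (φ : IsoNat.FIso 𝒳 𝒳') {p q : AlgSt.FPt 𝒳}
    (h : AlgSt.FPt.Rel p q) (x' : 𝒳'.p.Fiber (Over.mk p.str)) (y' : 𝒳'.p.Fiber (Over.mk q.str))
    (hx : φ.toEquiv _ (IsoNat.cls (fibObj p)) = IsoNat.cls x')
    (hy : φ.toEquiv _ (IsoNat.cls (fibObj q)) = IsoNat.cls y') :
    AlgSt.FPt.Rel (ofFib p.K p.str x') (ofFib q.K q.str y') := by
  obtain ⟨r, a, b, -⟩ := h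
  have ha : 𝒳.p.IsHomLift (eqToHom r.lies.symm ≫ 𝒳.p.map a ≫ eqToHom p.lies) a :=
    IsHomLift.of_fac _ _ _ r.lies p.lies rfl
  have hb : 𝒳.p.IsHomLift (eqToHom r.lies.symm ≫ 𝒳.p.map b ≫ eqToHom q.lies) b :=
    IsHomLift.of_fac _ _ _ r.lies q.lies rfl
  obtain ⟨u', u, a', -, hu', hu⟩ := φ.natural _ (fibObj r) (fibObj p) a ha
  obtain ⟨v', v, b', -, hv', hv⟩ := φ.natural _ (fibObj r) (fibObj q) b hb
  obtain ⟨e1⟩ := Quotient.exact (hu.symm.trans hx)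
  obtain ⟨e2⟩ := Quotient.exact (hv.symm.trans hy)
  obtain ⟨e3⟩ := Quotient.exact (hu'.symm.trans hv')
  exact ⟨ofFib r.K r.str u', a' ≫ e1.hom.1, e3.hom.1 ≫ b' ≫ e2.hom.1, trivial⟩

/-- a chosen representative of the transported class -/
noncomputable def rep {𝒳 𝒳' : AlgSt.Cat S} (φ : IsoNat.FIso 𝒳 𝒳') (p : AlgSt.FPt 𝒳) :
    𝒳'.p.Fiber (Over.mk p.str) :=
  (Quotient.exists_rep (φ.toEquiv _ (IsoNat.cls (fibObj p)))).choose

theorem cls_rep {𝒳 𝒳' : AlgSt.Cat S} (φ : IsoNat.FIso 𝒳 𝒳') (p : AlgSt.FPt 𝒳) :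
    φ.toEquiv _ (IsoNat.cls (fibObj p)) = IsoNat.cls (rep φ p) :=
  (Quotient.exists_rep (φ.toEquiv _ (IsoNat.cls (fibObj p)))).choose_spec.symm

/-- transport of field-valued points -/
noncomputable def tr {𝒳 𝒳' : AlgSt.Cat S} (φ : IsoNat.FIso 𝒳 𝒳') (p : AlgSt.FPt 𝒳) : AlgSt.FPt 𝒳' :=
  ofFib p.K p.str (rep φ p)

/-- transport of points -/
noncomputable def ptsMap {𝒳 𝒳' : AlgSt.Cat S} (φ : IsoNat.FIso 𝒳 𝒳') :
    AlgSt.Points 𝒳 → AlgSt.Points 𝒳' :=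
  Quot.lift (fun p => AlgSt.Points.mk (tr φ p)) (fun p q h =>
    AlgSt.Points.sound (rel_transport φ h _ _ (cls_rep φ p) (cls_rep φ q)))

theorem ptsMap_mk {𝒳 𝒳' : AlgSt.Cat S} (φ : IsoNat.FIso 𝒳 𝒳') (p : AlgSt.FPt 𝒳) :
    ptsMap φ (AlgSt.Points.mk p) = AlgSt.Points.mk (tr φ p) := rfl

theorem isSurjective_of_fIsoSq {𝒳 𝒴 𝒳' 𝒴' : AlgSt.Cat S} (f : 𝒳 ⥤ᵇ 𝒴) (f' : 𝒳' ⥤ᵇ 𝒴')
    (φ : IsoNat.FIsoSq f f') (hf : AlgSt.IsSurjective f) : AlgSt.IsSurjective f' := by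
  intro P'
  obtain ⟨q', rfl⟩ := AlgSt.Points.mk_surjective P'
  obtain ⟨y, hy⟩ := Quotient.exists_rep ((φ.tgt.toEquiv _).symm (IsoNat.cls (fibObj q')))
  obtain ⟨P, hP⟩ := hf (AlgSt.Points.mk (ofFib q'.K q'.str y))
  obtain ⟨p, rfl⟩ := AlgSt.Points.mk_surjective P
  rw [AlgSt.Points.map_mk] at hP
  have h1 := congrArg (ptsMap φ.tgt) hP
  rw [ptsMap_mk, ptsMap_mk] at h1
  -- `tr φ.tgt q` is equivalent to `q'`
  have h2 : AlgSt.Points.mk (tr φ.tgt (ofFib q'.K q'.str y)) = AlgSt.Points.mk q' := by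
    apply AlgSt.Points.sound
    have h3 : IsoNat.cls (rep φ.tgt (ofFib q'.K q'.str y)) = IsoNat.cls (fibObj q') := by
      rw [← cls_rep]
      have h5 : IsoNat.cls (fibObj (ofFib q'.K q'.str y)) =
          (φ.tgt.toEquiv _).symm (IsoNat.cls (fibObj q')) := hy
      exact (congrArg (φ.tgt.toEquiv (Over.mk q'.str)) h5).trans (Equiv.apply_symm_apply _ _)
    exact rel_of_iso q'.K q'.str _ _ h3
  -- the lifted point
  refine ⟨AlgSt.Points.mk (tr φ.src p), ?_⟩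
  rw [AlgSt.Points.map_mk, ← h2, ← h1]
  apply AlgSt.Points.sound
  have h4 : IsoNat.cls (fibObj ((tr φ.src p).map f')) = IsoNat.cls (rep φ.tgt (p.map f)) := by
    rw [← cls_rep]
    have e1 : IsoNat.cls (fibObj ((tr φ.src p).map f')) =
        IsoNat.mapCls f' _ (IsoNat.cls (rep φ.src p)) := rfl
    have e2 : IsoNat.cls (fibObj (p.map f)) = IsoNat.mapCls f _ (IsoNat.cls (fibObj p)) := rfl
    rw [e1, e2]
    exact ((congrArg (IsoNat.mapCls f' (Over.mk p.str)) (cls_rep φ.src p)).symm.trans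
      (φ.comm (Over.mk p.str) (IsoNat.cls (fibObj p))).symm)
  exact rel_of_iso p.K p.str _ _ h4

end Groth.Agent.Lib.Helper26.IsoNatPts
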