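import Mathlib
import Groth.Agent.Lib.Helper10.FlatPt3
import Groth.Agent.Lib.Helper10.DenseMul1
import Groth.Agent.Lib.Helper8.Shear
import Groth.Agent.Lib.Helper14.LfpOfComp
import Groth.Agent.Lib.Helper26.AbIsogB

set_option autoImplicit false
set_option backward.isDefEq.respectTransparency.types false
set_option maxHeartbeats 1000000
universe u
open AlgebraicGeometry CategoryTheory CategoryTheory.Limits MonoidalCategory
  CartesianMonoidalCategory MonObj GrpObj

namespace Groth.Agent.Lib.Helper26.IsogA

open Groth.Agent.Lib.Helper10 Groth.Agent.Lib.Helper10.HomSp Groth.Agent.Lib.Helper10.FlatPt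

variable {k : Type u} [Field k] {G H : Over (Spec (CommRingCat.of k))} [GrpObj G] [GrpObj H]
  (f : G ⟶ H) [IsMonHom f]

/-- a homomorphism with open dense range is surjective -/
theorem surjective_of_open_dense_range (hopen : IsOpen (Set.range f.left))
    (hdense : Dense (Set.range f.left)) : Function.Surjective f.left := by
  intro y
  obtain ⟨z, hz1, hz2, hz⟩ := DenseMul.exists_mul_of_dense k H (Set.range f.left)
    (Set.range f.left) hopen hdense hopen hdense y
  obtain ⟨x1, hx1⟩ := hz1
  obtain ⟨x2, hx2⟩ := hz2
  have sqA : IsPullback (f ▷ H).left (fst G H).left (fst H H).left f.left :=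
    (isPullback_whiskerRight_fst f H).map (Over.forget _)
  obtain ⟨z1, hz1a, hz1b⟩ := exists_preimage_of_isPullback sqA z x1 hx1.symm
  have sqB : IsPullback (G ◁ f).left (snd G G).left (snd G H).left f.left :=
    (isPullback_whiskerLeft_snd G f).map (Over.forget _)
  have h3 : (snd G H).left z1 = f.left x2 := by
    have := congrArg (fun ψ => ψ.left z1) (whiskerRight_snd f H)
    simp only [Over.comp_left, Scheme.Hom.comp_apply] at this
    rw [← this, hz1a, hx2]
  obtain ⟨z2, hz2a, hz2b⟩ := exists_preimage_of_isPullback sqB z1 x2 h3
  refine ⟨μ[G].left z2, ?_⟩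
  have hmul : μ[G] ≫ f = (G ◁ f) ≫ (f ▷ H) ≫ μ[H] := by
    rw [IsMonHom.mul_hom, tensorHom_def', Category.assoc]
  have := congrArg (fun ψ => ψ.left z2) hmul
  simp only [Over.comp_left, Scheme.Hom.comp_apply] at this
  rw [this, hz2a, hz1a, hz]

/-- a flat quasi-finite surjective homomorphism of separated group schemes of finite type over a
field is finite (descent of universal closedness along the homomorphism itself) -/
theorem isFinite_of_flat_lqf_surjective [IsSeparated G.hom] [QuasiCompact G.hom]
    [LocallyOfFiniteType G.hom] [IsSeparated H.hom]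
    [Flat f.left] [LocallyQuasiFinite f.left] [Surjective f.left] : IsFinite f.left := by
  have hw : f.left ≫ H.hom = G.hom := Over.w f
  haveI : QuasiCompact (f.left ≫ H.hom) := by rw [hw]; infer_instance
  haveI : QuasiCompact f.left := QuasiCompact.of_comp f.left H.hom
  haveI : IsSeparated (f.left ≫ H.hom) := by rw [hw]; infer_instance
  haveI : IsSeparated f.left := IsSeparated.of_comp f.left H.hom
  haveI : LocallyOfFiniteType (f.left ≫ H.hom) := by rw [hw]; infer_instance
  haveI : LocallyOfFiniteType f.left := locallyOfFiniteType_of_comp f.left H.hom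
  -- the kernel
  let N := pullback f η[H]
  let i : N ⟶ G := pullback.fst f η[H]
  have hN : AlgGrp.IsKernel i f := by
    have := IsPullback.of_hasPullback f η[H]
    rw [toUnit_unique (pullback.snd f η[H]) (toUnit _)] at this
    exact this
  haveI : LocallyQuasiFinite N.hom :=
    Groth.Agent.Lib.Helper8.Shear.kernel_of (P := @LocallyQuasiFinite) f i hN inferInstance
  haveI : QuasiCompact N.hom :=
    Groth.Agent.Lib.Helper8.Shear.kernel_of (P := @QuasiCompact) f i hN inferInstance
  haveI : IsFinite N.hom := IsFinite.of_locallyQuasiFinite N.hom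
  have huc : UniversallyClosed f.left :=
    Groth.Agent.Lib.Helper8.Shear.of_kernel (P := @UniversallyClosed) f i hN inferInstance
  haveI : IsProper f.left := {}
  exact IsFinite.of_isProper_of_locallyQuasiFinite f.left

/-- isogeny criterion over a field: a flat quasi-finite homomorphism to a smooth connected group
scheme is finite and surjective -/
theorem isFinite_surjective_of_flat_lqf [Smooth G.hom] [IsSeparated G.hom] [QuasiCompact G.hom]
    [Smooth H.hom] [IsSeparated H.hom] [GeometricallyConnected H.hom]
    [Flat f.left] [LocallyQuasiFinite f.left] : IsFinite f.left ∧ Surjective f.left := by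
  have hw : f.left ≫ H.hom = G.hom := Over.w f
  haveI : LocallyOfFinitePresentation f.left :=
    Groth.Agent.Lib.Helper14.AS.locallyOfFinitePresentation_of_comp f.left H.hom
      (by rw [hw]; infer_instance) inferInstance
  haveI : IrreducibleSpace H.left :=
    Groth.Agent.Lib.Helper26.AbIsogB.irreducibleSpace_of_smooth_connected k H.hom
  have hopen : IsOpen (Set.range f.left) := f.left.isOpenMap.isOpen_range
  obtain ⟨pt⟩ : Nonempty ↥(𝟙_ (Over (Spec (CommRingCat.of k)))).left :=
    inferInstanceAs (Nonempty (PrimeSpectrum k))
  have hne : (Set.range f.left).Nonempty := ⟨f.left (η[G].left pt), ⟨_, rfl⟩⟩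
  have hdense : Dense (Set.range f.left) := hopen.dense hne
  have hsurj : Surjective f.left := ⟨surjective_of_open_dense_range f hopen hdense⟩
  haveI := hsurj
  exact ⟨isFinite_of_flat_lqf_surjective f, hsurj⟩

end Groth.Agent.Lib.Helper26.IsogA
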