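import Mathlib
import Groth.Agent.Lib.Helper26.IsogA
import Groth.Agent.Lib.Helper26.GrpFlatD
import Groth.Agent.Lib.Helper26.AbIsogC

set_option autoImplicit false
universe u
open AlgebraicGeometry CategoryTheory CategoryTheory.Limits MonObj
open Groth.Agent.Lib.Helper26

namespace Groth.Agent.Lib.Helper26.IsogB

theorem main_7815 {S : Scheme.{u}} (G H : Over S) [GrpObj G] [GrpObj H]
    [Smooth G.hom] [IsSeparated G.hom] [QuasiCompact G.hom] [GeometricallyConnected G.hom]
    [Smooth H.hom] [IsSeparated H.hom] [QuasiCompact H.hom] [GeometricallyConnected H.hom]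
    (f : G ⟶ H) [IsMonHom f] :
    (Flat f.left ∧ LocallyQuasiFinite f.left ∧ LocallyOfFinitePresentation f.left) ↔
      ∀ s : S, IsFinite (pullback.snd f.left (H.hom.fiberι s)) ∧
        Surjective (pullback.snd f.left (H.hom.fiberι s)) := by
  have hw : f.left ≫ H.hom = G.hom := Over.w f
  have hlfp : LocallyOfFinitePresentation f.left :=
    Groth.Agent.Lib.Helper14.AS.locallyOfFinitePresentation_of_comp f.left H.hom
      (by rw [hw]; infer_instance) inferInstance
  haveI : LocallyOfFiniteType f.left := inferInstance
  -- transfer between the two models of the fibre map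
  have transfer : ∀ s : S, ∀ (fs : G.hom.fiber s ⟶ H.hom.fiber s)
      (hsq : IsPullback (G.hom.fiberι s) fs f.left (H.hom.fiberι s)),
      (IsFinite fs ∧ Surjective fs) ↔
        (IsFinite (pullback.snd f.left (H.hom.fiberι s)) ∧
          Surjective (pullback.snd f.left (H.hom.fiberι s))) := by
    intro s fs hsq
    have e : hsq.isoPullback.hom ≫ pullback.snd f.left (H.hom.fiberι s) = fs :=
      hsq.isoPullback_hom_snd
    rw [← e, MorphismProperty.cancel_left_of_respectsIso (P := @IsFinite),
      MorphismProperty.cancel_left_of_respectsIso (P := @Surjective)]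
  constructor
  · rintro ⟨hflat, hlqf, -⟩ s
    obtain ⟨i1, i2, i3, hsq⟩ := GrpFlatB.exists_fibre_hom G H f s
    refine (transfer s _ hsq).1 ?_
    let j := S.fromSpecResidueField s
    haveI : Flat ((Over.pullback j).map f).left :=
      MorphismProperty.of_isPullback (P := @Flat) hsq hflat
    haveI : LocallyQuasiFinite ((Over.pullback j).map f).left :=
      MorphismProperty.of_isPullback (P := @LocallyQuasiFinite) hsq hlqf
    haveI : Smooth ((Over.pullback j).obj G).hom := (inferInstance : Smooth (pullback.snd G.hom j))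
    haveI : IsSeparated ((Over.pullback j).obj G).hom :=
      (inferInstance : IsSeparated (pullback.snd G.hom j))
    haveI : QuasiCompact ((Over.pullback j).obj G).hom :=
      (inferInstance : QuasiCompact (pullback.snd G.hom j))
    haveI : Smooth ((Over.pullback j).obj H).hom := (inferInstance : Smooth (pullback.snd H.hom j))
    haveI : IsSeparated ((Over.pullback j).obj H).hom :=
      (inferInstance : IsSeparated (pullback.snd H.hom j))
    haveI : GeometricallyConnected ((Over.pullback j).obj H).hom :=
      (inferInstance : GeometricallyConnected (pullback.snd H.hom j))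
    exact IsogA.isFinite_surjective_of_flat_lqf (k := S.residueField s) ((Over.pullback j).map f)
  · intro hall
    have key : ∀ s : S, ∃ fs : G.hom.fiber s ⟶ H.hom.fiber s,
        IsPullback (G.hom.fiberι s) fs f.left (H.hom.fiberι s) ∧ IsFinite fs ∧ Surjective fs := by
      intro s
      obtain ⟨i1, i2, i3, hsq⟩ := GrpFlatB.exists_fibre_hom G H f s
      exact ⟨_, hsq, (transfer s _ hsq).2 (hall s)⟩
    -- surjectivity
    have hsurj : Surjective f.left := by
      refine ⟨fun b => ?_⟩
      obtain ⟨fs, hsq, -, hs⟩ := key (H.hom b)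
      have hb : b ∈ Set.range (H.hom.fiberι (H.hom b)) := by
        rw [Scheme.Hom.range_fiberι]
        rfl
      obtain ⟨b', hb'⟩ := hb
      obtain ⟨a', ha'⟩ := hs.surj b'
      refine ⟨G.hom.fiberι (H.hom b) a', ?_⟩
      have := congrArg (fun φ : G.hom.fiber (H.hom b) ⟶ H.left => φ a') hsq.w
      simp only [Scheme.Hom.comp_apply] at this
      rw [this, ha', hb']
    haveI := hsurj
    refine ⟨(GrpFlatD.flat_of_surjective_of_reduced_fibres G H
      (fun s => GrpFlatD.isReduced_fiber_of_smooth H.hom s) f).1, ?_, hlfp⟩
    rw [Groth.Agent.Lib.Helper14.AS.locallyQuasiFinite_iff_fibreDimAt_eq_zero]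
    intro a
    obtain ⟨fs, hsq, hfin, -⟩ := key (G.hom a)
    haveI := hfin
    haveI : LocallyOfFiniteType fs := inferInstance
    have ha : a ∈ Set.range (G.hom.fiberι (G.hom a)) := by
      rw [Scheme.Hom.range_fiberι]
      rfl
    obtain ⟨a', ha'⟩ := ha
    have h1 := Groth.Agent.Lib.Helper21.BaseChg.fibreDimAt_eq_of_isPullback hsq a'
    rw [ha'] at h1
    rw [← h1]
    exact (Groth.Agent.Lib.Helper14.AS.locallyQuasiFinite_iff_fibreDimAt_eq_zero fs).1
      inferInstance a'

end Groth.Agent.Lib.Helper26.IsogB
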