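import Mathlib

set_option autoImplicit false
set_option linter.unusedSectionVars false
universe u

namespace Groth.Agent.Lib.Helper26.Isotropic

open Module

variable {K : Type u} [Field K] {V : Type u} [AddCommGroup V] [Module K V] [FiniteDimensional K V]

/-- A similitude with nonzero multiplier is injective. -/
lemma sim_injective {e : LinearMap.BilinForm K V} (hnd : e.Nondegenerate)
    {s : Module.End K V} {c : K} (hc : c ≠ 0) (hs : ∀ x y : V, e (s x) (s y) = c * e x y) :
    Function.Injective s := by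
  rw [← LinearMap.ker_eq_bot, LinearMap.ker_eq_bot']
  intro x hx
  apply hnd.1
  intro y
  have := hs x y
  rw [hx, map_zero, LinearMap.zero_apply] at this
  exact (mul_eq_zero.mp this.symm).resolve_left hc

/-- The orthogonal of a stable subspace is stable under a similitude. -/
lemma sim_orth {e : LinearMap.BilinForm K V} (hnd : e.Nondegenerate)
    {s : Module.End K V} {c : K} (hc : c ≠ 0) (hs : ∀ x y : V, e (s x) (s y) = c * e x y)
    (W : Submodule K V) (hW : ∀ w ∈ W, s w ∈ W) :
    ∀ u ∈ e.orthogonal W, s u ∈ e.orthogonal W := by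
  intro u hu
  rw [LinearMap.BilinForm.mem_orthogonal_iff] at hu ⊢
  intro w hw
  have hinj : Function.Injective (s.restrict hW) := by
    intro a b hab
    apply Subtype.ext
    apply sim_injective hnd hc hs
    have := congrArg Subtype.val hab
    simpa using this
  have hsurj : Function.Surjective (s.restrict hW) := LinearMap.injective_iff_surjective.mp hinj
  obtain ⟨w', hw'⟩ := hsurj ⟨w, hw⟩
  have : s w'.1 = w := by
    have := congrArg Subtype.val hw'
    simpa using this
  rw [← this, hs, hu _ w'.2, mul_zero]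

lemma orth_stable_span {e : LinearMap.BilinForm K V} (hnd : e.Nondegenerate)
    (S : Set (Module.End K V))
    (hsim : ∀ s ∈ S, ∃ c : K, c ≠ 0 ∧ ∀ x y : V, e (s x) (s y) = c * e x y)
    (W : Submodule K V) (hWS : ∀ f ∈ S, ∀ w ∈ W, f w ∈ W) :
    ∀ f ∈ Submodule.span K S, ∀ u ∈ e.orthogonal W, f u ∈ e.orthogonal W := by
  intro f hf
  induction hf using Submodule.span_induction with
  | mem s hs =>
    obtain ⟨c, hc, hcs⟩ := hsim s hs
    exact sim_orth hnd hc hcs W (hWS s hs)
  | zero => intro u _; simp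
  | add x y _ _ hx hy =>
    intro u hu; rw [LinearMap.add_apply]; exact Submodule.add_mem _ (hx u hu) (hy u hu)
  | smul a x _ hx =>
    intro u hu; rw [LinearMap.smul_apply]; exact Submodule.smul_mem _ _ (hx u hu)

lemma orth_stable {e : LinearMap.BilinForm K V} (hnd : e.Nondegenerate)
    (F : Subalgebra K (Module.End K V)) (S : Set (Module.End K V))
    (hS : Submodule.span K S = Subalgebra.toSubmodule F)
    (hsim : ∀ s ∈ S, ∃ c : K, c ≠ 0 ∧ ∀ x y : V, e (s x) (s y) = c * e x y)
    (W : Submodule K V) (hWF : ∀ f ∈ F, ∀ w ∈ W, f w ∈ W) :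
    ∀ f ∈ F, ∀ u ∈ e.orthogonal W, f u ∈ e.orthogonal W := by
  intro f hf
  have hSF : ∀ s ∈ S, s ∈ F := by
    intro s hs
    have : s ∈ Subalgebra.toSubmodule F := hS ▸ Submodule.subset_span hs
    exact this
  apply orth_stable_span hnd S hsim W (fun s hs => hWF s (hSF s hs))
  rw [hS]; exact hf

section idem

variable (F : Subalgebra K (Module.End K V)) {r : ℕ} (iso : F ≃ₐ[K] (Fin r → K))

/-- The idempotents of the split algebra. -/
noncomputable def E (i : Fin r) : Module.End K V := (iso.symm (Pi.single i 1) : F).1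

lemma E_mem (i : Fin r) : E F iso i ∈ F := (iso.symm (Pi.single i 1) : F).2

lemma sum_E : ∑ i, E F iso i = 1 := by
  have h1 : ∑ i, (iso.symm (Pi.single i 1) : F) = 1 := by
    rw [← map_sum, Finset.univ_sum_single]
    exact map_one iso.symm
  have := congrArg (Subalgebra.val F) h1
  rw [map_sum, map_one] at this
  exact this

lemma mul_E (f : F) (i : Fin r) : f.1 * E F iso i = (iso f i) • E F iso i := by
  have h1 : f * (iso.symm (Pi.single i 1) : F) = (iso f i) • (iso.symm (Pi.single i 1) : F) := by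
    apply iso.injective
    rw [map_mul, map_smul, AlgEquiv.apply_symm_apply]
    ext j
    by_cases hj : j = i
    · subst hj; simp
    · simp [Pi.single_eq_of_ne hj]
  have := congrArg (Subalgebra.val F) h1
  rw [map_mul, map_smul] at this
  exact this

lemma apply_E (f : Module.End K V) (hf : f ∈ F) (i : Fin r) (x : V) :
    f (E F iso i x) = (iso ⟨f, hf⟩ i) • E F iso i x := by
  have := congrArg (fun g : Module.End K V => g x) (mul_E F iso ⟨f, hf⟩ i)
  simpa using this

lemma sum_E_apply (x : V) : ∑ i, E F iso i x = x := by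
  have := congrArg (fun g : Module.End K V => g x) (sum_E F iso)
  simpa using this

end idem


lemma finrank_sup_span_le (W : Submodule K V) (v : V) :
    finrank K ↥(W ⊔ K ∙ v) ≤ finrank K W + 1 := by
  have h1 := Submodule.finrank_add_le_finrank_add_finrank W (K ∙ v)
  have h2 : finrank K (K ∙ v) ≤ 1 := by
    by_cases hv : v = 0
    · rw [hv, Submodule.span_zero_singleton, finrank_bot]; exact zero_le_one
    · rw [finrank_span_singleton hv]
  omega

lemma iso_finrank_le {e : LinearMap.BilinForm K V} (hnd : e.Nondegenerate) {g : ℕ}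
    (hV : finrank K V = 2 * g) (W : Submodule K V) (hWiso : ∀ x ∈ W, ∀ y ∈ W, e x y = 0) :
    finrank K W ≤ g := by
  have hle : W ≤ e.orthogonal W := by
    intro y hy
    rw [LinearMap.BilinForm.mem_orthogonal_iff]
    intro x hx
    exact hWiso x hx y hy
  have h1 := Submodule.finrank_mono hle
  rw [LinearMap.BilinForm.finrank_orthogonal hnd, hV] at h1
  omega

/-- Key lemma: extend a non-maximal stable isotropic subspace by an eigenvector avoiding `v`. -/
lemma exists_extension {e : LinearMap.BilinForm K V} (he : e.IsAlt) (hnd : e.Nondegenerate) {g : ℕ}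
    (hV : finrank K V = 2 * g)
    (F : Subalgebra K (Module.End K V)) {r : ℕ} (iso : F ≃ₐ[K] (Fin r → K))
    (hOrth : ∀ W : Submodule K V, (∀ f ∈ F, ∀ w ∈ W, f w ∈ W) →
      ∀ f ∈ F, ∀ u ∈ e.orthogonal W, f u ∈ e.orthogonal W)
    (W : Submodule K V) (hWF : ∀ f ∈ F, ∀ w ∈ W, f w ∈ W) (hWiso : ∀ x ∈ W, ∀ y ∈ W, e x y = 0)
    (hlt : finrank K W < g) (v : V) (hv : v ∉ W) :
    ∃ W' : Submodule K V, W ≤ W' ∧ finrank K W < finrank K W' ∧ (∀ f ∈ F, ∀ w ∈ W', f w ∈ W') ∧
      (∀ x ∈ W', ∀ y ∈ W', e x y = 0) ∧ v ∉ W' := by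
  have key : ∃ u ∈ e.orthogonal W, u ∉ W ∧ (∀ f ∈ F, ∃ a : K, f u = a • u) ∧ v ∉ W ⊔ K ∙ u := by
    by_contra hcon
    push Not at hcon
    have hsub : e.orthogonal W ≤ W ⊔ K ∙ v := by
      intro x hx
      rw [← sum_E_apply F iso x]
      apply Submodule.sum_mem
      intro i _
      have hu : E F iso i x ∈ e.orthogonal W := hOrth W hWF _ (E_mem F iso i) x hx
      by_cases huW : E F iso i x ∈ W
      · exact Submodule.mem_sup_left huW
      · have hmem := hcon _ hu huW (fun f hf => ⟨iso ⟨f, hf⟩ i, apply_E F iso f hf i x⟩)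
        obtain ⟨w, hw, z, hz, hwz⟩ := Submodule.mem_sup.mp hmem
        obtain ⟨a, rfl⟩ := Submodule.mem_span_singleton.mp hz
        have ha : a ≠ 0 := by
          rintro rfl
          apply hv
          rw [← hwz]
          simpa using hw
        have hu' : E F iso i x = a⁻¹ • v - a⁻¹ • w := by
          rw [← hwz, smul_add, smul_smul, inv_mul_cancel₀ ha, one_smul]
          abel
        rw [hu']
        exact Submodule.sub_mem _
          (Submodule.smul_mem _ _ (Submodule.mem_sup_right (Submodule.mem_span_singleton_self v)))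
          (Submodule.smul_mem _ _ (Submodule.mem_sup_left hw))
    have h1 := Submodule.finrank_mono hsub
    have h2 := finrank_sup_span_le W v
    rw [LinearMap.BilinForm.finrank_orthogonal hnd, hV] at h1
    omega
  obtain ⟨u, hu, huW, heig, hvu⟩ := key
  rw [LinearMap.BilinForm.mem_orthogonal_iff] at hu
  refine ⟨W ⊔ K ∙ u, le_sup_left, ?_, ?_, ?_, hvu⟩
  · apply Submodule.finrank_lt_finrank_of_lt
    refine lt_of_le_of_ne le_sup_left ?_
    intro h
    apply huW
    rw [h]
    exact Submodule.mem_sup_right (Submodule.mem_span_singleton_self u)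
  · intro f hf x hx
    obtain ⟨w, hw, z, hz, rfl⟩ := Submodule.mem_sup.mp hx
    obtain ⟨a, rfl⟩ := Submodule.mem_span_singleton.mp hz
    obtain ⟨b, hb⟩ := heig f hf
    rw [map_add, map_smul, hb]
    exact Submodule.add_mem _ (Submodule.mem_sup_left (hWF f hf w hw))
      (Submodule.mem_sup_right (Submodule.smul_mem _ _
        (Submodule.smul_mem _ _ (Submodule.mem_span_singleton_self u))))
  · intro x hx y hy
    obtain ⟨w, hw, z, hz, rfl⟩ := Submodule.mem_sup.mp hx
    obtain ⟨a, rfl⟩ := Submodule.mem_span_singleton.mp hz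
    obtain ⟨w', hw', z', hz', rfl⟩ := Submodule.mem_sup.mp hy
    obtain ⟨b, rfl⟩ := Submodule.mem_span_singleton.mp hz'
    have h1 : e w w' = 0 := hWiso w hw w' hw'
    have h2 : e w u = 0 := hu w hw
    have h3 : e u w' = 0 := by rw [← he.neg_eq, hu w' hw', neg_zero]
    have h4 : e u u = 0 := he.self_eq_zero u
    simp only [map_add, map_smul, LinearMap.add_apply, LinearMap.smul_apply, h1, h2, h3, h4,
      smul_zero, add_zero]

/-- Every stable isotropic subspace extends to a maximal one avoiding a given vector. -/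
lemma exists_maximal {e : LinearMap.BilinForm K V} (he : e.IsAlt) (hnd : e.Nondegenerate) {g : ℕ}
    (hV : finrank K V = 2 * g)
    (F : Subalgebra K (Module.End K V)) {r : ℕ} (iso : F ≃ₐ[K] (Fin r → K))
    (hOrth : ∀ W : Submodule K V, (∀ f ∈ F, ∀ w ∈ W, f w ∈ W) →
      ∀ f ∈ F, ∀ u ∈ e.orthogonal W, f u ∈ e.orthogonal W)
    (v : V) :
    ∀ (n : ℕ) (W : Submodule K V), g - finrank K W = n → (∀ f ∈ F, ∀ w ∈ W, f w ∈ W) →
      (∀ x ∈ W, ∀ y ∈ W, e x y = 0) → v ∉ W →
      ∃ L : Submodule K V, W ≤ L ∧ finrank K L = g ∧ (∀ f ∈ F, ∀ w ∈ L, f w ∈ L) ∧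
        (∀ x ∈ L, ∀ y ∈ L, e x y = 0) ∧ v ∉ L := by
  intro n
  induction n using Nat.strong_induction_on with
  | _ n ih =>
    intro W hn hWF hWiso hv
    have hle := iso_finrank_le hnd hV W hWiso
    rcases Nat.lt_or_ge (finrank K W) g with hlt | hge
    · obtain ⟨W', hWW', hlt', hF', hiso', hv'⟩ :=
        exists_extension he hnd hV F iso hOrth W hWF hWiso hlt v hv
      have hle' := iso_finrank_le hnd hV W' hiso'
      obtain ⟨L, hL1, hL2, hL3, hL4, hL5⟩ :=
        ih (g - finrank K W') (by omega) W' rfl hF' hiso' hv'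
      exact ⟨L, hWW'.trans hL1, hL2, hL3, hL4, hL5⟩
    · exact ⟨W, le_refl _, le_antisymm hle hge, hWF, hWiso, hv⟩

theorem main (g : ℕ) (hV : Module.finrank K V = 2 * g)
    (e : LinearMap.BilinForm K V) (he : e.IsAlt) (hnd : e.Nondegenerate)
    (F : Subalgebra K (Module.End K V)) (r : ℕ) (hF : Nonempty (F ≃ₐ[K] (Fin r → K)))
    (S : Set (Module.End K V)) (hS : Submodule.span K S = Subalgebra.toSubmodule F)
    (hsim : ∀ s ∈ S, ∃ c : K, c ≠ 0 ∧ ∀ x y : V, e (s x) (s y) = c * e x y)
    (D : Set (Module.End K V))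
    (hmax : ∀ W : Submodule K V, (∀ f ∈ F, ∀ w ∈ W, f w ∈ W) → (∀ x ∈ W, ∀ y ∈ W, e x y = 0) →
      Module.finrank K W = g → ∀ d ∈ D, ∀ w ∈ W, d w ∈ W)
    (W : Submodule K V) (hWF : ∀ f ∈ F, ∀ w ∈ W, f w ∈ W) (hWiso : ∀ x ∈ W, ∀ y ∈ W, e x y = 0) :
    ∀ d ∈ D, ∀ w ∈ W, d w ∈ W := by
  obtain ⟨iso⟩ := hF
  intro d hd w hw
  by_contra hdw
  obtain ⟨L, hL1, hL2, hL3, hL4, hL5⟩ :=
    exists_maximal he hnd hV F iso (fun W hW => orth_stable hnd F S hS hsim W hW) (d w) _ W rfl
      hWF hWiso hdw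
  exact hL5 (hmax L hL3 hL4 hL2 d hd w (hL1 hw))

end Groth.Agent.Lib.Helper26.Isotropic
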