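import Mathlib
import Groth.Agent.Lib.Helper26.NormLength

set_option autoImplicit false
set_option linter.style.haveILetI false
set_option linter.unusedSectionVars false

namespace Groth.Agent.Lib.Helper26.KA1

open Function Submodule
open scoped Pointwise
open Groth.Agent.Lib.Helper26.RelLength Groth.Agent.Lib.Helper26.LatticeBasic
open Groth.Agent.Lib.Helper26.OrdZ Groth.Agent.Lib.Helper26.LatticeDet

universe u v w

section General

variable {A : Type u} [CommRing A] {Q : Type v} [AddCommGroup Q] [Module A Q]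

lemma length_lt_of_lt {P P' : Submodule A Q} (h : P < P') (hfin : Module.length A P' < ⊤) :
    Module.length A P < Module.length A P' := by
  have hfl : IsFiniteLength A P' := Module.length_ne_top_iff.mp hfin.ne
  obtain ⟨h1, h2⟩ := isFiniteLength_iff_isNoetherian_isArtinian.mp hfl
  have hne : P.submoduleOf P' ≠ ⊤ := by
    intro htop
    apply h.not_ge
    intro y hy
    have : (⟨y, hy⟩ : P') ∈ P.submoduleOf P' := by rw [htop]; trivial
    exact this
  have := Submodule.length_lt hne
  rwa [(Submodule.submoduleOfEquivOfLe h.le).length_eq] at this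

/-- if all finitely generated submodules have length `≤ c`, so does the module. -/
theorem length_le_of_fg_le (c : ℕ) (h : ∀ P : Submodule A Q, P.FG → Module.length A P ≤ c) :
    Module.length A Q ≤ c := by
  by_contra hcon
  push Not at hcon
  have key : ∀ k : ℕ, ∃ P : Submodule A Q, P.FG ∧ (k : ℕ∞) ≤ Module.length A P := by
    intro k
    induction k with
    | zero => exact ⟨⊥, Submodule.fg_bot, by simp⟩
    | succ k ih =>
      obtain ⟨P, hP, hk⟩ := ih
      have hPtop : P ≠ ⊤ := by
        rintro rfl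
        have := h ⊤ hP
        rw [Module.length_top] at this
        exact absurd this (not_le.mpr hcon)
      obtain ⟨q, hq⟩ : ∃ q : Q, q ∉ P := by
        by_contra hall
        push Not at hall
        exact hPtop (eq_top_iff.mpr fun q _ => hall q)
      refine ⟨P ⊔ Submodule.span A {q}, hP.sup (Submodule.fg_span_singleton q), ?_⟩
      have hlt : P < P ⊔ Submodule.span A {q} := by
        refine lt_of_le_of_ne le_sup_left ?_
        intro heq
        apply hq
        rw [heq]
        exact Submodule.mem_sup_right (Submodule.mem_span_singleton_self q)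
      have hfin : Module.length A ↥(P ⊔ Submodule.span A {q}) < ⊤ :=
        lt_of_le_of_lt (h _ (hP.sup (Submodule.fg_span_singleton q))) (ENat.natCast_lt_top c)
      have := length_lt_of_lt hlt hfin
      have h2 := lt_of_le_of_lt hk this
      push_cast
      exact Order.add_one_le_of_lt h2
  obtain ⟨P, hP, hk⟩ := key (c + 1)
  have := (hk.trans (h P hP))
  norm_cast at this
  omega

end General


section Lattice

variable {A : Type u} [CommRing A] [IsDomain A] [IsNoetherianRing A] [Ring.KrullDimLE 1 A]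
  {K : Type v} [Field K] [Algebra A K] [IsFractionRing A K]
  {V : Type w} [AddCommGroup V] [Module K V] [Module A V] [IsScalarTower A K V]
  [FiniteDimensional K V]

lemma ordFrac_pow' {y : K} (hy : y ≠ 0) (n : ℕ) :
    CycAlg.ordFrac A K (y ^ n) = n * CycAlg.ordFrac A K y := by
  induction n with
  | zero => simp [ordFrac_one]
  | succ n ih =>
    rw [pow_succ, ordFrac_mul (pow_ne_zero n hy) hy, ih]
    push_cast; ring

lemma smul_eq_zero_of_ne' {A : Type*} [CommRing A] [IsDomain A] (K : Type*) [Field K] [Algebra A K]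
    [IsFractionRing A K] {V : Type*} [AddCommGroup V] [Module K V] [Module A V]
    [IsScalarTower A K V] {x : A} (hx : x ≠ 0) {v : V} (h : x • v = 0) : v = 0 := by
  have hxK : algebraMap A K x ≠ 0 := by
    rwa [Ne, FaithfulSMul.algebraMap_eq_zero_iff]
  rw [← algebraMap_smul K x v] at h
  exact (smul_eq_zero.mp h).resolve_left hxK

/-- `length (M / xM) = dim V * length (A / xA)` when `M` embeds in `V` as a lattice. -/
theorem length_quot_smul_of_lattice {M : Type*} [AddCommGroup M] [Module A M] (j : M →ₗ[A] V)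
    (hj : Injective j) [hlat : IsLattice K (LinearMap.range j)] (x : A) (hx : x ≠ 0) :
    Module.length A (M ⧸ (x • (⊤ : Submodule A M))) =
      (Module.finrank K V : ℕ∞) * Module.length A (A ⧸ Ideal.span {x}) := by
  classical
  have hxK : algebraMap A K x ≠ 0 := by
    rwa [Ne, FaithfulSMul.algebraMap_eq_zero_iff]
  let φ : V ≃ₗ[K] V := LinearEquiv.smulOfNeZero K V (algebraMap A K x) hxK
  have hdet : LinearMap.det φ.toLinearMap = (algebraMap A K x) ^ Module.finrank K V := by
    have : φ.toLinearMap = (algebraMap A K x) • LinearMap.id := by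
      apply LinearMap.ext
      intro v
      rfl
    rw [this, LinearMap.det_smul, LinearMap.det_id, mul_one]
  have key := idx_map_eq_ordFrac_det (A := A) (K := K) (LinearMap.range j) φ
  rw [hdet, ordFrac_pow' hxK, ordFrac_algebraMap hx] at key
  have hmap : (LinearMap.range j).map (φ.toLinearMap.restrictScalars A) =
      (x • (⊤ : Submodule A M)).map j := by
    ext v
    simp only [Submodule.mem_map, LinearMap.mem_range]
    constructor
    · rintro ⟨_, ⟨a, rfl⟩, rfl⟩
      refine ⟨x • a, Submodule.smul_mem_pointwise_smul _ _ _ trivial, ?_⟩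
      rw [map_smul]
      exact (algebraMap_smul K x (j a)).symm
    · rintro ⟨a, ha, rfl⟩
      obtain ⟨a', -, rfl⟩ := (Submodule.mem_smul_pointwise_iff_exists _ _ _).mp ha
      refine ⟨j a', ⟨a', rfl⟩, ?_⟩
      rw [map_smul]
      exact algebraMap_smul K x (j a')
  have hle : (x • (⊤ : Submodule A M)).map j ≤ LinearMap.range j := by
    rw [LinearMap.range_eq_map]
    exact Submodule.map_mono le_top
  haveI : IsLattice K ((x • (⊤ : Submodule A M)).map j) := by
    rw [← hmap]
    exact isLattice_map φ.toLinearMap φ.surjective _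
  have hfin := rl_lt_top (K := K) ((x • (⊤ : Submodule A M)).map j) (LinearMap.range j)
  have hlen : rl ((x • (⊤ : Submodule A M)).map j) (LinearMap.range j) =
      Module.length A (M ⧸ (x • (⊤ : Submodule A M))) :=
    (length_quotient_eq_rl j hj _).symm
  rw [hmap, idx_of_le hle hfin, hlen] at key
  rw [hlen] at hfin
  have hordfin : Ring.ord A x ≠ ⊤ := Ring.ord_ne_top (mem_nonZeroDivisors_of_ne_zero hx)
  have h1 : Module.length A (M ⧸ (x • (⊤ : Submodule A M))) =
      ((Module.length A (M ⧸ (x • (⊤ : Submodule A M)))).toNat : ℕ∞) :=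
    (ENat.natCast_toNat hfin.ne).symm
  have h2 : Module.length A (A ⧸ Ideal.span {x}) = ((Ring.ord A x).toNat : ℕ∞) :=
    (ENat.natCast_toNat hordfin).symm
  rw [h1, h2]
  have : ((Module.length A (M ⧸ (x • (⊤ : Submodule A M)))).toNat : ℤ) =
      ((Module.finrank K V * (Ring.ord A x).toNat : ℕ) : ℤ) := by
    rw [key]; push_cast; rfl
  have h3 := Int.ofNat_inj.mp this
  rw [h3]; push_cast; rfl

/-- a finitely generated lattice inside `N` containing a given finitely generated submodule -/
theorem exists_lattice_le (N : Submodule A V) (hN : Submodule.span K (N : Set V) = ⊤)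
    (T : Submodule A V) (hT : T.FG) (hTN : T ≤ N) :
    ∃ N₁ : Submodule A V, T ≤ N₁ ∧ N₁ ≤ N ∧ IsLattice K N₁ := by
  classical
  let b := Module.Basis.ofSpan (K := K) (s := (N : Set V)) hN.ge
  have hbN : Set.range b ⊆ (N : Set V) := Module.Basis.ofSpan_subset hN.ge
  haveI := Module.Finite.finite_basis b
  have hfin : (Set.range b).Finite := Set.finite_range b
  refine ⟨T ⊔ Submodule.span A (Set.range b), le_sup_left,
    sup_le hTN (Submodule.span_le.mpr hbN), ?_⟩
  refine ⟨hT.sup (Submodule.fg_span hfin), ?_⟩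
  rw [eq_top_iff, ← b.span_eq]
  apply Submodule.span_mono
  intro v hv
  exact Submodule.mem_sup_right (Submodule.subset_span hv)


/-- the composite `N₁ → N → N / xN` -/
noncomputable def gmap {N₁ N : Submodule A V} (hle : N₁ ≤ N) (x : A) :
    ↥N₁ →ₗ[A] (↥N ⧸ x • (⊤ : Submodule A ↥N)) :=
  (Submodule.mkQ _).comp (Submodule.inclusion hle)

lemma smul_top_le_ker_gmap {N₁ N : Submodule A V} (hle : N₁ ≤ N) (x : A) :
    x • (⊤ : Submodule A ↥N₁) ≤ LinearMap.ker (gmap hle x) := by
  intro a ha
  obtain ⟨a', -, rfl⟩ := (Submodule.mem_smul_pointwise_iff_exists _ _ _).mp ha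
  rw [LinearMap.mem_ker, map_smul]
  change x • Submodule.Quotient.mk _ = 0
  rw [← Submodule.Quotient.mk_smul, Submodule.Quotient.mk_eq_zero]
  exact Submodule.smul_mem_pointwise_smul _ _ _ trivial

/-- the induced map `N₁ / xN₁ → N / xN` -/
noncomputable def gbar {N₁ N : Submodule A V} (hle : N₁ ≤ N) (x : A) :
    (↥N₁ ⧸ x • (⊤ : Submodule A ↥N₁)) →ₗ[A] (↥N ⧸ x • (⊤ : Submodule A ↥N)) :=
  Submodule.liftQ _ (gmap hle x) (smul_top_le_ker_gmap hle x)

lemma length_dom_gbar (N₁ : Submodule A V) [IsLattice K N₁] {x : A} (hx : x ≠ 0) :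
    Module.length A (↥N₁ ⧸ x • (⊤ : Submodule A ↥N₁)) =
      (Module.finrank K V : ℕ∞) * Module.length A (A ⧸ Ideal.span {x}) := by
  haveI : IsLattice K (LinearMap.range N₁.subtype) := by
    rw [Submodule.range_subtype]; infer_instance
  exact length_quot_smul_of_lattice (K := K) N₁.subtype N₁.injective_subtype x hx

lemma length_range_gmap_le {N₁ N : Submodule A V} (hle : N₁ ≤ N) [IsLattice K N₁] {x : A}
    (hx : x ≠ 0) :
    Module.length A (LinearMap.range (gmap hle x)) ≤
      (Module.finrank K V : ℕ∞) * Module.length A (A ⧸ Ideal.span {x}) := by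
  rw [← length_dom_gbar (K := K) N₁ hx]
  have hr : LinearMap.range (gbar hle x) = LinearMap.range (gmap hle x) :=
    Submodule.range_liftQ _ _ _
  rw [← hr]
  exact Module.length_le_of_surjective (gbar hle x).rangeRestrict
    (LinearMap.surjective_rangeRestrict _)

/-- lifting a finite set in the quotient to a lattice -/
lemma exists_lattice_range_ge (N : Submodule A V) (hN : Submodule.span K (N : Set V) = ⊤)
    (x : A) (s : Finset (↥N ⧸ x • (⊤ : Submodule A ↥N))) :
    ∃ (N₁ : Submodule A V) (hle : N₁ ≤ N), IsLattice K N₁ ∧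
      Submodule.span A (s : Set (↥N ⧸ x • (⊤ : Submodule A ↥N))) ≤
        LinearMap.range (gmap hle x) := by
  classical
  have hπ : Surjective (Submodule.mkQ (x • (⊤ : Submodule A ↥N))) := Submodule.mkQ_surjective _
  let t : Finset ↥N := s.image (Function.surjInv hπ)
  let T : Submodule A V := (Submodule.span A (t : Set ↥N)).map N.subtype
  have hTfg : T.FG := (Submodule.fg_span t.finite_toSet).map _
  have hTN : T ≤ N := by
    rintro _ ⟨a, -, rfl⟩
    exact a.2
  obtain ⟨N₁, hT1, h1N, hlat⟩ := exists_lattice_le (K := K) N hN T hTfg hTN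
  refine ⟨N₁, h1N, hlat, ?_⟩
  rw [Submodule.span_le]
  intro q hq
  have hmem : Function.surjInv hπ q ∈ t := Finset.mem_image_of_mem _ hq
  have hV : ((Function.surjInv hπ q : ↥N) : V) ∈ N₁ :=
    hT1 ⟨_, Submodule.subset_span hmem, rfl⟩
  refine ⟨⟨_, hV⟩, ?_⟩
  change Submodule.mkQ _ (Submodule.inclusion h1N ⟨_, hV⟩) = q
  have : Submodule.inclusion h1N ⟨_, hV⟩ = Function.surjInv hπ q := by
    ext; rfl
  rw [this, Function.surjInv_eq hπ q]

/-- **Krull–Akizuki inequality**. -/
theorem ka_le (N : Submodule A V) (hN : Submodule.span K (N : Set V) = ⊤) {x : A} (hx : x ≠ 0) :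
    Module.length A (↥N ⧸ x • (⊤ : Submodule A ↥N)) ≤
      (Module.finrank K V : ℕ∞) * Module.length A (A ⧸ Ideal.span {x}) := by
  have hordfin : Ring.ord A x ≠ ⊤ := Ring.ord_ne_top (mem_nonZeroDivisors_of_ne_zero hx)
  have h2 : Module.length A (A ⧸ Ideal.span {x}) = ((Ring.ord A x).toNat : ℕ∞) :=
    (ENat.natCast_toNat hordfin).symm
  have hc : (Module.finrank K V : ℕ∞) * Module.length A (A ⧸ Ideal.span {x}) =
      ((Module.finrank K V * (Ring.ord A x).toNat : ℕ) : ℕ∞) := by
    rw [h2]; push_cast; rfl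
  rw [hc]
  apply length_le_of_fg_le
  rintro P ⟨s, rfl⟩
  obtain ⟨N₁, hle, hlat, hs⟩ := exists_lattice_range_ge (K := K) N hN x s
  rw [← hc]
  refine le_trans ?_ (length_range_gmap_le (K := K) hle hx)
  exact Module.length_le_of_injective (Submodule.inclusion hs) (Submodule.inclusion_injective hs)


/-- in a one-dimensional Noetherian local domain, a power of any element of the maximal ideal
is divisible by a given nonzero element. -/
lemma exists_pow_mem_span [IsLocalRing A] {x a : A} (hxm : x ∈ IsLocalRing.maximalIdeal A)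
    (ha : a ≠ 0) : ∃ k : ℕ, x ^ k ∈ Ideal.span {a} := by
  have hrad : IsLocalRing.maximalIdeal A ≤ (Ideal.span {a}).radical := by
    rw [Ideal.radical_eq_sInf]
    refine le_sInf ?_
    rintro p ⟨hap, hp⟩
    have hp0 : p ≠ ⊥ := by
      rintro rfl
      exact ha (by simpa using hap (Ideal.mem_span_singleton_self a))
    haveI := hp
    have hpmax : p.IsMaximal :=
      (Ring.krullDimLE_one_iff_of_isPrime_bot.mp inferInstance) p hp0 hp
    rw [IsLocalRing.eq_maximalIdeal hpmax]
  obtain ⟨k, hk⟩ := Ideal.exists_pow_le_of_le_radical_of_fg hrad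
    (IsNoetherian.noetherian _)
  exact ⟨k, hk (Ideal.pow_mem_pow hxm k)⟩

/-- **Equality in Krull–Akizuki forces finite generation.** -/
theorem ka_eq_fg [IsLocalRing A] (N : Submodule A V) (hN : Submodule.span K (N : Set V) = ⊤)
    {x : A} (hx : x ≠ 0) (hxm : x ∈ IsLocalRing.maximalIdeal A)
    (heq : Module.length A (↥N ⧸ x • (⊤ : Submodule A ↥N)) =
      (Module.finrank K V : ℕ∞) * Module.length A (A ⧸ Ideal.span {x})) : N.FG := by
  classical
  have hordfin : Ring.ord A x ≠ ⊤ := Ring.ord_ne_top (mem_nonZeroDivisors_of_ne_zero hx)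
  have hcfin : (Module.finrank K V : ℕ∞) * Module.length A (A ⧸ Ideal.span {x}) ≠ ⊤ :=
    WithTop.mul_ne_top (ENat.natCast_ne_top _) hordfin
  have hQfin : Module.length A (↥N ⧸ x • (⊤ : Submodule A ↥N)) ≠ ⊤ := by rw [heq]; exact hcfin
  have hfl : IsFiniteLength A (↥N ⧸ x • (⊤ : Submodule A ↥N)) :=
    Module.length_ne_top_iff.mp hQfin
  haveI : IsNoetherian A (↥N ⧸ x • (⊤ : Submodule A ↥N)) :=
    (isFiniteLength_iff_isNoetherian_isArtinian.mp hfl).1
  obtain ⟨s, hs⟩ := (Module.Finite.fg_top :
    (⊤ : Submodule A (↥N ⧸ x • (⊤ : Submodule A ↥N))).FG)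
  obtain ⟨N₁, hle, hlat, hsr⟩ := exists_lattice_range_ge (K := K) N hN x s
  rw [hs] at hsr
  have hsurj : Surjective (gbar hle x) := by
    have hr : LinearMap.range (gbar hle x) = LinearMap.range (gmap hle x) :=
      Submodule.range_liftQ _ _ _
    rw [← LinearMap.range_eq_top, hr]
    exact top_le_iff.mp hsr
  -- injectivity from equal finite lengths
  have hinj : Injective (gbar hle x) := by
    have hadd := Module.length_eq_add_of_exact (LinearMap.ker (gbar hle x)).subtype (gbar hle x)
      (Submodule.injective_subtype _) hsurj (LinearMap.exact_subtype_ker_map _)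
    rw [length_dom_gbar (K := K) N₁ hx, heq] at hadd
    have h0 : Module.length A (LinearMap.ker (gbar hle x)) = 0 := by
      have h' : (0 : ℕ∞) + (Module.finrank K V : ℕ∞) * Module.length A (A ⧸ Ideal.span {x}) =
          Module.length A (LinearMap.ker (gbar hle x)) +
            (Module.finrank K V : ℕ∞) * Module.length A (A ⧸ Ideal.span {x}) := by
        rw [zero_add]; exact hadd
      exact (ENat.add_left_injective_of_ne_top hcfin h').symm
    rw [Module.length_eq_zero_iff] at h0
    rw [← LinearMap.ker_eq_bot]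
    exact (Submodule.subsingleton_iff_eq_bot).mp h0
  -- key consequence: `N₁ ∩ xN = xN₁`
  have hkey : ∀ n : V, n ∈ N → x • n ∈ N₁ → n ∈ N₁ := by
    intro n hn hxn
    have h0 : gbar hle x (Submodule.Quotient.mk ⟨x • n, hxn⟩) = 0 := by
      change Submodule.mkQ _ (Submodule.inclusion hle ⟨x • n, hxn⟩) = 0
      rw [Submodule.mkQ_apply, Submodule.Quotient.mk_eq_zero]
      have : Submodule.inclusion hle ⟨x • n, hxn⟩ = x • (⟨n, hn⟩ : ↥N) := by
        ext; rfl
      rw [this]
      exact Submodule.smul_mem_pointwise_smul _ _ _ trivial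
    have h1 : (Submodule.Quotient.mk ⟨x • n, hxn⟩ :
        ↥N₁ ⧸ x • (⊤ : Submodule A ↥N₁)) = 0 := hinj (by rw [h0, map_zero])
    rw [Submodule.Quotient.mk_eq_zero] at h1
    obtain ⟨a', -, ha'⟩ := (Submodule.mem_smul_pointwise_iff_exists _ _ _).mp h1
    have h2 : x • (a' : V) = x • n := congrArg Subtype.val ha'
    have h3 : x • ((a' : V) - n) = 0 := by rw [smul_sub, h2, sub_self]
    have h4 := smul_eq_zero_of_ne' K hx h3
    rw [sub_eq_zero] at h4
    rw [← h4]; exact a'.2
  have hpow : ∀ k : ℕ, ∀ n : V, n ∈ N → x ^ k • n ∈ N₁ → n ∈ N₁ := by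
    intro k
    induction k with
    | zero => intro n _ h; simpa using h
    | succ k ih =>
      intro n hn h
      apply ih n hn
      apply hkey _ (N.smul_mem _ hn)
      rwa [smul_smul, ← pow_succ']
  have hNle : N ≤ N₁ := by
    intro n hn
    obtain ⟨a, ha, han⟩ := exists_smul_mem (K := K) N₁ n (by
      rw [hlat.span_eq_top]; trivial)
    obtain ⟨k, hk⟩ := exists_pow_mem_span hxm ha
    obtain ⟨c, hc⟩ := Ideal.mem_span_singleton'.mp hk
    apply hpow k n hn
    rw [← hc, mul_smul]
    exact N₁.smul_mem _ han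
  rw [le_antisymm hNle hle]
  exact hlat.fg

end Lattice

end Groth.Agent.Lib.Helper26.KA1
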