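import Mathlib
import Groth.Agent.Lib.Helper12.MultFormula

set_option autoImplicit false
set_option linter.style.haveILetI false
set_option linter.unusedSectionVars false

namespace Groth.Agent.Lib.Helper26.KA2

open Function Submodule
open Groth.Agent.Lib.Helper12.MultFormula

universe u v

variable (A : Type u) (B : Type u) [CommRing A] [CommRing B] [Algebra A B]

/-- the weighted local length sum -/
noncomputable def F (Q : Type v) [AddCommGroup Q] [Module B Q] : ℕ∞ :=
  ∑ᶠ m : MaximalSpectrum B, Module.length A (B ⧸ m.asIdeal) * ell m.asIdeal Q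

/-- the formula `length_A Q = Σ_m length_A (B/m) * length_{B_m} Q_m`, with finite support. -/
def Good (Q : Type v) [AddCommGroup Q] [Module B Q] [Module A Q] [IsScalarTower A B Q] : Prop :=
  {m : MaximalSpectrum B | ell m.asIdeal Q ≠ 0}.Finite ∧ Module.length A Q = F A B Q

variable {A B}

lemma ell_of_subsingleton (p : Ideal B) [p.IsPrime] (Q : Type v) [AddCommGroup Q] [Module B Q]
    [Subsingleton Q] : ell p Q = 0 := by
  rw [ell, Module.length_eq_zero_iff]
  infer_instance

theorem good_of_subsingleton (Q : Type v) [AddCommGroup Q] [Module B Q] [Module A Q]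
    [IsScalarTower A B Q] [Subsingleton Q] : Good A B Q := by
  refine ⟨?_, ?_⟩
  · convert Set.finite_empty
    ext m
    simp [ell_of_subsingleton]
  · rw [Module.length_eq_zero, F]
    simp [ell_of_subsingleton]

theorem good_of_exact {Q₁ Q₂ Q₃ : Type v} [AddCommGroup Q₁] [Module B Q₁] [Module A Q₁]
    [IsScalarTower A B Q₁] [AddCommGroup Q₂] [Module B Q₂] [Module A Q₂] [IsScalarTower A B Q₂]
    [AddCommGroup Q₃] [Module B Q₃] [Module A Q₃] [IsScalarTower A B Q₃]
    (f : Q₁ →ₗ[B] Q₂) (g : Q₂ →ₗ[B] Q₃) (hf : Injective f) (hg : Surjective g)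
    (hfg : Exact f g) (h₁ : Good A B Q₁) (h₃ : Good A B Q₃) : Good A B Q₂ := by
  have hell : ∀ m : MaximalSpectrum B, ell m.asIdeal Q₂ = ell m.asIdeal Q₁ + ell m.asIdeal Q₃ :=
    fun m => ell_add m.asIdeal f g hf hg hfg
  refine ⟨?_, ?_⟩
  · refine (h₁.1.union h₃.1).subset ?_
    intro m hm
    simp only [Set.mem_ofPred_eq] at hm
    rw [hell m] at hm
    by_contra hcon
    simp only [Set.mem_union, Set.mem_ofPred_eq, not_or, not_not] at hcon
    rw [hcon.1, hcon.2, add_zero] at hm
    exact hm rfl
  · have hlen := Module.length_eq_add_of_exact (f.restrictScalars A) (g.restrictScalars A)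
      hf hg hfg
    rw [hlen, h₁.2, h₃.2, F, F, F, ← finsum_add_distrib]
    · apply finsum_congr
      intro m
      rw [hell m, mul_add]
    · refine h₁.1.subset ?_
      intro m hm
      simp only [Function.mem_support] at hm
      exact fun h0 => hm (by rw [h0, mul_zero])
    · refine h₃.1.subset ?_
      intro m hm
      simp only [Function.mem_support] at hm
      exact fun h0 => hm (by rw [h0, mul_zero])

theorem good_of_equiv {Q Q' : Type v} [AddCommGroup Q] [Module B Q] [Module A Q]
    [IsScalarTower A B Q] [AddCommGroup Q'] [Module B Q'] [Module A Q'] [IsScalarTower A B Q']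
    (e : Q ≃ₗ[B] Q') (h : Good A B Q) : Good A B Q' := by
  have hell : ∀ m : MaximalSpectrum B, ell m.asIdeal Q' = ell m.asIdeal Q :=
    fun m => (ell_congr m.asIdeal e).symm
  refine ⟨?_, ?_⟩
  · convert h.1 using 2
    ext m
    simp only [Set.mem_ofPred_eq, hell]
  · rw [← (e.restrictScalars A).length_eq, h.2, F, F]
    exact finsum_congr fun m => by rw [hell]

theorem good_quot_maximal (m₀ : Ideal B) [hm₀ : m₀.IsMaximal] : Good A B (B ⧸ m₀) := by
  classical
  have hell : ∀ m : MaximalSpectrum B, ell m.asIdeal (B ⧸ m₀) =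
      if m.asIdeal = m₀ then 1 else 0 := by
    intro m
    split_ifs with h
    · subst h
      exact ell_quot_self m.asIdeal
    · apply ell_eq_zero
      rw [Module.mem_support_iff_of_finite, Ideal.annihilator_quotient]
      intro hle
      exact h (hm₀.eq_of_le m.isMaximal.ne_top hle).symm
  refine ⟨?_, ?_⟩
  · refine (Set.finite_singleton (⟨m₀, hm₀⟩ : MaximalSpectrum B)).subset ?_
    intro m hm
    simp only [Set.mem_ofPred_eq, hell] at hm
    have : m.asIdeal = m₀ := by
      by_contra h
      rw [if_neg h] at hm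
      exact hm rfl
    rw [Set.mem_singleton_iff]
    exact MaximalSpectrum.ext this
  · rw [F, finsum_eq_single _ (⟨m₀, hm₀⟩ : MaximalSpectrum B)]
    · rw [hell, if_pos rfl, mul_one]
    · intro m hm
      have : m.asIdeal ≠ m₀ := fun h => hm (MaximalSpectrum.ext h)
      rw [hell, if_neg this, mul_zero]

/-- the local length formula for restriction of scalars of a finite length module. -/
theorem good_of_isFiniteLength {B : Type u} [CommRing B] [Algebra A B]
    (Q : Type u) [AddCommGroup Q] [Module B Q] (h : IsFiniteLength B Q) :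
    ∀ [Module A Q] [IsScalarTower A B Q], Good A B Q := by
  induction h with
  | of_subsingleton => intro _ _; exact good_of_subsingleton _
  | @of_simple_quotient M _ _ N hs hN ih =>
    intro _ _
    have h1 : Good A B N := ih
    obtain ⟨m₀, hm₀, ⟨e⟩⟩ := isSimpleModule_iff_quot_maximal.mp hs
    have h3 : Good A B (M ⧸ N) := good_of_equiv e.symm (good_quot_maximal m₀)
    exact good_of_exact N.subtype N.mkQ (Submodule.injective_subtype _)
      (Submodule.mkQ_surjective _) (LinearMap.exact_subtype_mkQ N) h1 h3

end Groth.Agent.Lib.Helper26.KA2
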