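import Mathlib
import Groth.Agent.Lib.Helper26.KA1
import Groth.Agent.Lib.Helper26.KA2

set_option autoImplicit false
set_option linter.style.haveILetI false
set_option linter.unusedSectionVars false

namespace Groth.Agent.Lib.Helper26.KA3

open Function Submodule
open scoped Pointwise
open Groth.Agent.Lib.Helper12.MultFormula
open Groth.Agent.Lib.Helper26.KA1 Groth.Agent.Lib.Helper26.KA2

universe u

section Gen

variable {A : Type*} [CommRing A] {M M' : Type*} [AddCommGroup M] [Module A M]
  [AddCommGroup M'] [Module A M']

/-- transport `M / xM` along a linear equivalence. -/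
noncomputable def quotSmulEquiv (e : M ≃ₗ[A] M') (x : A) :
    (M ⧸ x • (⊤ : Submodule A M)) ≃ₗ[A] (M' ⧸ x • (⊤ : Submodule A M')) :=
  Submodule.Quotient.equiv _ _ e (by
    ext v
    simp only [Submodule.mem_map, Submodule.mem_smul_pointwise_iff_exists, Submodule.mem_top,
      true_and]
    constructor
    · rintro ⟨_, ⟨a, rfl⟩, rfl⟩
      exact ⟨e a, by simp⟩
    · rintro ⟨a, rfl⟩
      exact ⟨x • e.symm a, ⟨e.symm a, rfl⟩, by simp⟩)

end Gen

variable {A B K L : Type u}
    [CommRing A] [IsDomain A] 
    [CommRing B] [IsDomain B] [Algebra A B] 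
    [Field K] [Field L] [Algebra A K] [IsFractionRing A K] [Algebra B L] [IsFractionRing B L]
    [Algebra K L] [Algebra A L] [IsScalarTower A K L] [IsScalarTower A B L] [FiniteDimensional K L]

variable (A B K L) in
include K L in
theorem isAlgebraic : Algebra.IsAlgebraic A B := by
  refine ⟨fun b => ?_⟩
  have h1 : IsAlgebraic K (algebraMap B L b) := Algebra.IsAlgebraic.isAlgebraic _
  rw [← IsFractionRing.isAlgebraic_iff A K L] at h1
  exact (isAlgebraic_algebraMap_iff (IsFractionRing.injective B L)).mp h1

variable (A B L) in
/-- the inclusion of `B` in `L` as an `A`-linear map -/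
noncomputable def j : B →ₗ[A] L := (IsScalarTower.toAlgHom A B L).toLinearMap

theorem j_apply (b : B) : j A B L b = algebraMap B L b := rfl

theorem j_injective : Injective (j A B L) := IsFractionRing.injective B L

variable (A B K L) in
theorem span_range : Submodule.span K ((LinearMap.range (j A B L) : Submodule A L) : Set L) = ⊤ := by
  haveI : Algebra.IsAlgebraic A B := isAlgebraic A B K L
  rw [eq_top_iff]
  intro l _
  obtain ⟨b, b', hb', rfl⟩ := IsFractionRing.div_surjective (A := B) l
  have hb'0 : b' ≠ 0 := nonZeroDivisors.ne_zero hb'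
  obtain ⟨c, d, hd, h⟩ := Algebra.IsAlgebraic.exists_smul_eq_mul A b hb'0
  have hdK : algebraMap A K d ≠ 0 := by
    rwa [Ne, FaithfulSMul.algebraMap_eq_zero_iff]
  have hb'L : algebraMap B L b' ≠ 0 := by
    rwa [Ne, FaithfulSMul.algebraMap_eq_zero_iff]
  have hdL : algebraMap A L d ≠ 0 := by
    rw [IsScalarTower.algebraMap_apply A K L]
    rwa [Ne, FaithfulSMul.algebraMap_eq_zero_iff]
  have h2 : algebraMap B L b / algebraMap B L b' = (algebraMap A K d)⁻¹ • algebraMap B L c := by
    have h3 : algebraMap A L d * algebraMap B L b = algebraMap B L b' * algebraMap B L c := by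
      rw [← map_mul, ← h, Algebra.smul_def, map_mul, ← IsScalarTower.algebraMap_apply]
    rw [Algebra.smul_def, map_inv₀, ← IsScalarTower.algebraMap_apply]
    field_simp
    rw [mul_comm, h3]
  rw [h2]
  exact Submodule.smul_mem _ _ (Submodule.subset_span ⟨c, rfl⟩)

/-- `B / xB` as an `A`-module is `N / xN` with `N` the image of `B` in `L`. -/
noncomputable def quotEquiv (x : A) :
    (B ⧸ Ideal.span {algebraMap A B x}) ≃ₗ[A]
      (↥(LinearMap.range (j A B L)) ⧸ x • (⊤ : Submodule A ↥(LinearMap.range (j A B L)))) :=
  (Submodule.Quotient.restrictScalarsEquiv A (Ideal.span {algebraMap A B x})).symm ≪≫ₗ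
    (Submodule.quotEquivOfEq _ (x • (⊤ : Submodule A B)) (by
      ext b
      simp only [Submodule.restrictScalars_mem, Submodule.mem_smul_pointwise_iff_exists,
        Submodule.mem_top, true_and, Ideal.mem_span_singleton']
      constructor
      · rintro ⟨c, rfl⟩
        exact ⟨c, by rw [Algebra.smul_def, mul_comm]⟩
      · rintro ⟨c, rfl⟩
        exact ⟨c, by rw [Algebra.smul_def, mul_comm]⟩)) ≪≫ₗ
    quotSmulEquiv (LinearEquiv.ofInjective (j A B L) j_injective) x

omit [IsDomain A] [IsDomain B] in
theorem ell_quot_span (m : Ideal B) [m.IsPrime] (x : A) :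
    ell m (B ⧸ Ideal.span {algebraMap A B x}) =
      Module.length (Localization.AtPrime m)
        (Localization.AtPrime m ⧸
          Ideal.span ({algebraMap A (Localization.AtPrime m) x} : Set _)) := by
  let I : Submodule B B := Ideal.span {algebraMap A B x}
  let g := I.toLocalizedQuotient' (Localization.AtPrime m) m.primeCompl
    (Algebra.linearMap B (Localization.AtPrime m))
  have e1 := IsLocalizedModule.mapEquiv m.primeCompl
    (LocalizedModule.mkLinearMap m.primeCompl (B ⧸ I)) g (Localization.AtPrime m)
    (LinearEquiv.refl B _)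
  have h2 : I.localized' (Localization.AtPrime m) m.primeCompl
      (Algebra.linearMap B (Localization.AtPrime m)) =
      (Ideal.span {algebraMap A (Localization.AtPrime m) x} : Ideal (Localization.AtPrime m)) := by
    show (Submodule.span B {algebraMap A B x}).localized' _ _ _ = _
    rw [Submodule.localized'_span, Set.image_singleton, Algebra.linearMap_apply,
      ← IsScalarTower.algebraMap_apply]
  rw [ell]
  exact e1.length_eq.trans (Submodule.quotEquivOfEq _ _ h2).length_eq

variable [IsNoetherianRing A] [IsLocalRing A] [Ring.KrullDimLE 1 A] [FaithfulSMul A B]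

theorem main_9136 (x : A) (hx : x ∈ IsLocalRing.maximalIdeal A) (hx0 : x ≠ 0) :
    Finite (MaximalSpectrum B) ∧
      (∑ᶠ m : MaximalSpectrum B,
          Module.length A (B ⧸ m.asIdeal) *
            Module.length (Localization.AtPrime m.asIdeal)
              (Localization.AtPrime m.asIdeal ⧸
                Ideal.span ({algebraMap A (Localization.AtPrime m.asIdeal) x} : Set _)) ≤
        (Module.finrank K L : ℕ∞) * Module.length A (A ⧸ Ideal.span ({x} : Set A))) ∧
      ((∑ᶠ m : MaximalSpectrum B,
          Module.length A (B ⧸ m.asIdeal) *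
            Module.length (Localization.AtPrime m.asIdeal)
              (Localization.AtPrime m.asIdeal ⧸
                Ideal.span ({algebraMap A (Localization.AtPrime m.asIdeal) x} : Set _)) =
        (Module.finrank K L : ℕ∞) * Module.length A (A ⧸ Ideal.span ({x} : Set A))) ↔
          Module.Finite A B) := by
  classical
  set N : Submodule A L := LinearMap.range (j A B L) with hN
  have hspan : Submodule.span K (N : Set L) = ⊤ := span_range A B K L
  set Q := B ⧸ Ideal.span {algebraMap A B x} with hQ
  have hlen : Module.length A Q = Module.length A (↥N ⧸ x • (⊤ : Submodule A ↥N)) :=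
    (quotEquiv (L := L) x).length_eq
  have hle := ka_le (K := K) N hspan hx0
  have hordfin : Ring.ord A x ≠ ⊤ := Ring.ord_ne_top (mem_nonZeroDivisors_of_ne_zero hx0)
  have hcfin : (Module.finrank K L : ℕ∞) * Module.length A (A ⧸ Ideal.span {x}) ≠ ⊤ :=
    WithTop.mul_ne_top (ENat.natCast_ne_top _) hordfin
  have hQfin : Module.length A Q ≠ ⊤ := by rw [hlen]; exact ne_top_of_le_ne_top hcfin hle
  have hQB : IsFiniteLength B Q := by
    rw [← Module.length_ne_top_iff]
    have := Submodule.length_le_length_restrictScalars A (⊤ : Submodule B Q)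
    rw [Submodule.restrictScalars_top, Module.length_top, Module.length_top] at this
    exact ne_top_of_le_ne_top hQfin this
  have hgood : Good A B Q := good_of_isFiniteLength Q hQB
  have hF : F A B Q = ∑ᶠ m : MaximalSpectrum B, Module.length A (B ⧸ m.asIdeal) *
      Module.length (Localization.AtPrime m.asIdeal) (Localization.AtPrime m.asIdeal ⧸
        Ideal.span ({algebraMap A (Localization.AtPrime m.asIdeal) x} : Set _)) := by
    rw [F]
    exact finsum_congr fun m => by rw [ell_quot_span]
  rw [← hF, ← hgood.2, hlen]
  refine ⟨?_, hle, ?_⟩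
  · -- finiteness of the maximal spectrum
    haveI := isAlgebraic A B K L
    have hsub : (Set.univ : Set (MaximalSpectrum B)) ⊆
        {m | ell m.asIdeal Q ≠ 0} ∪ {m | m.asIdeal = ⊥} := by
      intro m _
      by_cases hxm : algebraMap A B x ∈ m.asIdeal
      · left
        show ell m.asIdeal Q ≠ 0
        intro h0
        rw [ell, Module.length_eq_zero_iff] at h0
        have hsupp : (⟨m.asIdeal, m.isMaximal.isPrime⟩ : PrimeSpectrum B) ∈
            Module.support B Q := by
          rw [Module.mem_support_iff_of_finite, Ideal.annihilator_quotient]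
          rwa [Ideal.span_singleton_le_iff_mem]
        rw [Module.mem_support_iff] at hsupp
        exact not_subsingleton _ h0
      · right
        have hcomap : ∀ d : A, algebraMap A B d ∈ m.asIdeal → d = 0 := by
          intro d hd
          by_contra hd0
          have hp : (m.asIdeal.comap (algebraMap A B)).IsPrime := Ideal.comap_isPrime _ _
          have hp0 : m.asIdeal.comap (algebraMap A B) ≠ ⊥ := by
            intro h
            have : d ∈ m.asIdeal.comap (algebraMap A B) := hd
            rw [h] at this
            exact hd0 (by simpa using this)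
          have hpmax := (Ring.krullDimLE_one_iff_of_isPrime_bot.mp inferInstance) _ hp0 hp
          have heq := IsLocalRing.eq_maximalIdeal hpmax
          apply hxm
          have : x ∈ m.asIdeal.comap (algebraMap A B) := by rw [heq]; exact hx
          exact this
        show m.asIdeal = ⊥
        rw [eq_bot_iff]
        intro b hb
        rw [Ideal.mem_bot]
        by_contra hb0
        obtain ⟨c, d, hd, h⟩ := Algebra.IsAlgebraic.exists_smul_eq_mul A (1 : B) hb0
        have : algebraMap A B d ∈ m.asIdeal := by
          rw [Algebra.algebraMap_eq_smul_one, h]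
          exact Ideal.mul_mem_right _ _ hb
        exact hd (hcomap d this)
    have hfin2 : {m : MaximalSpectrum B | m.asIdeal = ⊥}.Finite :=
      Set.Subsingleton.finite (fun m hm m' hm' => MaximalSpectrum.ext (hm.trans hm'.symm))
    exact Set.finite_univ_iff.mp ((hgood.1.union hfin2).subset hsub)
  · constructor
    · intro heq
      have hfg := ka_eq_fg (K := K) N hspan hx0 hx heq
      haveI : Module.Finite A N := Module.Finite.iff_fg.mpr hfg
      exact Module.Finite.equiv (LinearEquiv.ofInjective (j A B L) j_injective).symm
    · intro hfin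
      haveI : IsLattice K (LinearMap.range (j A B L)) :=
        ⟨by rw [LinearMap.range_eq_map]; exact Module.Finite.fg_top.map _, hspan⟩
      rw [← (quotSmulEquiv (LinearEquiv.ofInjective (j A B L) j_injective) x).length_eq]
      exact length_quot_smul_of_lattice (K := K) (j A B L) j_injective x hx0

end Groth.Agent.Lib.Helper26.KA3
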