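import Mathlib

set_option autoImplicit false
set_option linter.style.haveILetI false
set_option linter.unusedSectionVars false

namespace Groth.Agent.Lib.Helper26.KempfA

open Function

universe u

variable {E : Type u} [NormedAddCommGroup E] [InnerProductSpace ℝ E] [FiniteDimensional ℝ E]

/-- the minimum of finitely many linear functionals -/
noncomputable def mn (F : Finset (Module.Dual ℝ E)) (hF : F.Nonempty) (v : E) : ℝ :=
  F.inf' hF (fun f => f v)

variable (F : Finset (Module.Dual ℝ E)) (hF : F.Nonempty)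

theorem mn_le {f : Module.Dual ℝ E} (hf : f ∈ F) (v : E) : mn F hF v ≤ f v :=
  Finset.inf'_le (fun f => f v) hf

theorem le_mn_iff (a : ℝ) (v : E) : a ≤ mn F hF v ↔ ∀ f ∈ F, a ≤ f v :=
  Finset.le_inf'_iff hF _

theorem lt_mn_iff (a : ℝ) (v : E) : a < mn F hF v ↔ ∀ f ∈ F, a < f v :=
  Finset.lt_inf'_iff hF

theorem exists_mn_eq (v : E) : ∃ f ∈ F, mn F hF v = f v :=
  Finset.exists_mem_eq_inf' hF _

theorem mn_zero : mn F hF 0 = 0 := by
  obtain ⟨f, hf, h⟩ := exists_mn_eq F hF 0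
  rw [h, map_zero]

theorem mn_smul {c : ℝ} (hc : 0 ≤ c) (v : E) : mn F hF (c • v) = c * mn F hF v := by
  apply le_antisymm
  · obtain ⟨f, hf, h⟩ := exists_mn_eq F hF v
    rw [h]
    refine (mn_le F hF hf _).trans ?_
    rw [map_smul, smul_eq_mul]
  · rw [le_mn_iff]
    intro f hf
    rw [map_smul, smul_eq_mul]
    exact mul_le_mul_of_nonneg_left (mn_le F hF hf v) hc

theorem mn_add_le (v w : E) : mn F hF v + mn F hF w ≤ mn F hF (v + w) := by
  rw [le_mn_iff]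
  intro f hf
  rw [map_add]
  exact add_le_add (mn_le F hF hf v) (mn_le F hF hf w)

theorem continuous_mn : Continuous (mn F hF) := by
  unfold mn
  apply Continuous.finset_inf'_apply
  intro f _
  exact LinearMap.continuous_of_finiteDimensional f

variable (G : Finset (Module.Dual ℝ E)) (hG : G.Nonempty)

/-- the function to be maximised -/
noncomputable def ψ (v : E) : ℝ := mn G hG v / ‖v‖

theorem ψ_smul {c : ℝ} (hc : 0 < c) (v : E) : ψ G hG (c • v) = ψ G hG v := by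
  unfold ψ
  rw [mn_smul G hG hc.le, norm_smul, Real.norm_of_nonneg hc.le]
  by_cases hv : ‖v‖ = 0
  · rw [hv]; simp
  · field_simp

/-- existence of a unit maximiser -/
theorem exists_unit_max (hpos : ∃ v : E, 0 ≤ mn F hF v ∧ 0 < mn G hG v) :
    ∃ v₁ : E, ‖v₁‖ = 1 ∧ 0 ≤ mn F hF v₁ ∧ 0 < mn G hG v₁ ∧
      ∀ v : E, v ≠ 0 → 0 ≤ mn F hF v → ψ G hG v ≤ mn G hG v₁ := by
  obtain ⟨v₀, hv₀F, hv₀G⟩ := hpos
  have hv₀ : v₀ ≠ 0 := by
    rintro rfl
    rw [mn_zero] at hv₀G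
    exact lt_irrefl _ hv₀G
  have hn₀ : 0 < ‖v₀‖ := norm_pos_iff.mpr hv₀
  let K : Set E := Metric.sphere (0 : E) 1 ∩ {v | 0 ≤ mn F hF v}
  have hK : IsCompact K := by
    apply (isCompact_sphere (0 : E) 1).inter_right
    exact isClosed_le continuous_const (continuous_mn F hF)
  have hKne : K.Nonempty := by
    refine ⟨(‖v₀‖)⁻¹ • v₀, ?_, ?_⟩
    · rw [mem_sphere_zero_iff_norm, norm_smul, norm_inv, norm_norm, inv_mul_cancel₀ hn₀.ne']
    · show 0 ≤ mn F hF ((‖v₀‖)⁻¹ • v₀)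
      rw [mn_smul F hF (inv_nonneg.mpr hn₀.le)]
      exact mul_nonneg (inv_nonneg.mpr hn₀.le) hv₀F
  obtain ⟨v₁, hv₁K, hmax⟩ := hK.exists_isMaxOn hKne (continuous_mn G hG).continuousOn
  have hv₁n : ‖v₁‖ = 1 := mem_sphere_zero_iff_norm.mp hv₁K.1
  have key : ∀ v : E, v ≠ 0 → 0 ≤ mn F hF v → ψ G hG v ≤ mn G hG v₁ := by
    intro v hv hvF
    have hn : 0 < ‖v‖ := norm_pos_iff.mpr hv
    have hmem : (‖v‖)⁻¹ • v ∈ K := by
      refine ⟨?_, ?_⟩
      · rw [mem_sphere_zero_iff_norm, norm_smul, norm_inv, norm_norm, inv_mul_cancel₀ hn.ne']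
      · show 0 ≤ mn F hF ((‖v‖)⁻¹ • v)
        rw [mn_smul F hF (inv_nonneg.mpr hn.le)]
        exact mul_nonneg (inv_nonneg.mpr hn.le) hvF
    have h1 : mn G hG ((‖v‖)⁻¹ • v) ≤ mn G hG v₁ := hmax hmem
    rw [mn_smul G hG (inv_nonneg.mpr hn.le)] at h1
    unfold ψ
    rw [div_eq_inv_mul]
    exact h1
  refine ⟨v₁, hv₁n, hv₁K.2, ?_, key⟩
  have h2 := key v₀ hv₀ hv₀F
  have h3 : 0 < ψ G hG v₀ := div_pos hv₀G hn₀
  exact h3.trans_le h2

/-- uniqueness of the unit maximiser -/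
theorem unit_max_unique (v₁ v₂ : E) (M : ℝ) (hM : 0 < M) (h₁ : ‖v₁‖ = 1) (h₂ : ‖v₂‖ = 1)
    (h₁F : 0 ≤ mn F hF v₁) (h₂F : 0 ≤ mn F hF v₂) (h₁G : mn G hG v₁ = M) (h₂G : mn G hG v₂ = M)
    (hmax : ∀ v : E, v ≠ 0 → 0 ≤ mn F hF v → ψ G hG v ≤ M) : v₁ = v₂ := by
  by_contra hne
  let w : E := (1 / 2 : ℝ) • (v₁ + v₂)
  have hwF : 0 ≤ mn F hF w := by
    show 0 ≤ mn F hF ((1 / 2 : ℝ) • (v₁ + v₂))
    rw [mn_smul F hF (by norm_num)]
    have := mn_add_le F hF v₁ v₂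
    nlinarith
  have hwG : M ≤ mn G hG w := by
    show M ≤ mn G hG ((1 / 2 : ℝ) • (v₁ + v₂))
    rw [mn_smul G hG (by norm_num)]
    have := mn_add_le G hG v₁ v₂
    rw [h₁G, h₂G] at this
    nlinarith
  have hw0 : w ≠ 0 := by
    intro h0
    rw [h0, mn_zero] at hwG
    exact lt_irrefl _ (hM.trans_le hwG)
  have hnorm : ‖w‖ < 1 := by
    have hray : ¬ SameRay ℝ v₁ v₂ := by
      intro hs
      exact hne ((sameRay_iff_of_norm_eq (h₁.trans h₂.symm)).mp hs)
    have h3 := norm_add_lt_of_not_sameRay hray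
    show ‖(1 / 2 : ℝ) • (v₁ + v₂)‖ < 1
    rw [norm_smul, Real.norm_of_nonneg (by norm_num : (0 : ℝ) ≤ 1 / 2)]
    rw [h₁, h₂] at h3
    linarith
  have hn : 0 < ‖w‖ := norm_pos_iff.mpr hw0
  have h4 := hmax w hw0 hwF
  unfold ψ at h4
  rw [div_le_iff₀ hn] at h4
  nlinarith


section rational

variable (L : Submodule ℤ E)

/-- rational points with respect to the lattice -/
def IsRat (v : E) : Prop := ∃ N : ℕ, 0 < N ∧ N • v ∈ L

theorem isRat_of_mem {v : E} (hv : v ∈ L) : IsRat L v := ⟨1, one_pos, by rwa [one_smul]⟩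

theorem isRat_zero : IsRat L (0 : E) := isRat_of_mem L L.zero_mem

theorem isRat_add {v w : E} (hv : IsRat L v) (hw : IsRat L w) : IsRat L (v + w) := by
  obtain ⟨N, hN, hNv⟩ := hv
  obtain ⟨N', hN', hNw⟩ := hw
  refine ⟨N * N', Nat.mul_pos hN hN', ?_⟩
  have h1 : (N * N') • (v + w) = N' • (N • v) + N • (N' • w) := by
    rw [smul_add, mul_smul, mul_smul, smul_comm N N' v]
  rw [h1]
  exact L.add_mem (L.smul_of_tower_mem N' hNv) (L.smul_of_tower_mem N hNw)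

theorem isRat_rat_smul (q : ℚ) {v : E} (hv : IsRat L v) : IsRat L ((q : ℝ) • v) := by
  obtain ⟨N, hN, hNv⟩ := hv
  refine ⟨q.den * N, Nat.mul_pos q.den_pos hN, ?_⟩
  have h1 : (q.den * N) • ((q : ℝ) • v) = q.num • (N • v) := by
    rw [← Nat.cast_smul_eq_nsmul ℝ, ← Int.cast_smul_eq_zsmul ℝ, ← Nat.cast_smul_eq_nsmul ℝ N v,
      smul_smul, smul_smul]
    congr 1
    have hq : (q : ℝ) = (q.num : ℝ) / (q.den : ℝ) := by
      exact_mod_cast (Rat.num_div_den q).symm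
    have hd : (q.den : ℝ) ≠ 0 := by exact_mod_cast q.den_ne_zero
    rw [hq]
    push_cast
    field_simp
  rw [h1]
  exact L.smul_of_tower_mem q.num hNv

theorem isRat_sum {ι : Type*} (s : Finset ι) (f : ι → E) (h : ∀ i ∈ s, IsRat L (f i)) :
    IsRat L (∑ i ∈ s, f i) := by
  classical
  induction s using Finset.induction_on with
  | empty => simpa using isRat_zero L
  | insert a s ha ih =>
    rw [Finset.sum_insert ha]
    exact isRat_add L (h a (Finset.mem_insert_self a s))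
      (ih (fun i hi => h i (Finset.mem_insert_of_mem hi)))

theorem rat_of_isRat {v : E} (hv : IsRat L v) (μ : Module.Dual ℝ E)
    (hμ : ∀ x ∈ L, ∃ n : ℤ, μ x = (n : ℝ)) : ∃ q : ℚ, μ v = (q : ℝ) := by
  obtain ⟨N, hN, hNv⟩ := hv
  obtain ⟨n, hn⟩ := hμ _ hNv
  refine ⟨(n : ℚ) / (N : ℚ), ?_⟩
  rw [← Nat.cast_smul_eq_nsmul ℝ, map_smul, smul_eq_mul] at hn
  have hN' : (N : ℝ) ≠ 0 := by exact_mod_cast hN.ne'
  push_cast
  field_simp
  linarith

/-- a rational linear system solvable over the reals is solvable over the rationals -/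
theorem exists_rat_solution {m n : Type*} [Fintype m] [Fintype n] [DecidableEq m] [DecidableEq n]
    (A : Matrix m n ℚ) (b : m → ℚ) (c : n → ℝ)
    (h : ∀ i, ∑ j, (A i j : ℝ) * c j = (b i : ℝ)) : ∃ c' : n → ℚ, ∀ i, ∑ j, A i j * c' j = b i := by
  by_contra hno
  have hb : b ∉ LinearMap.range A.mulVecLin := by
    rintro ⟨c', hc'⟩
    apply hno
    refine ⟨c', fun i => ?_⟩
    have := congrFun hc' i
    simpa [Matrix.mulVecLin_apply, Matrix.mulVec, dotProduct] using this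
  obtain ⟨φ, hφb, hφ⟩ := Submodule.exists_le_ker_of_notMem hb
  let y : m → ℚ := fun i => φ (Pi.single i 1)
  have hφy : ∀ z : m → ℚ, φ z = ∑ i, z i * y i := by
    intro z
    have h1 : z = ∑ i, z i • (Pi.single i (1 : ℚ) : m → ℚ) := by
      ext k
      simp [Finset.sum_apply, Pi.single_apply]
    conv_lhs => rw [h1]
    rw [map_sum]
    apply Finset.sum_congr rfl
    intro i _
    rw [map_smul, smul_eq_mul]
  have hcol : ∀ j, ∑ i, A i j * y i = 0 := by
    intro j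
    have h1 : A.mulVecLin (Pi.single j 1) ∈ LinearMap.range A.mulVecLin := ⟨_, rfl⟩
    have h2 := hφ h1
    rw [LinearMap.mem_ker, hφy] at h2
    rw [← h2]
    apply Finset.sum_congr rfl
    intro i _
    congr 1
    simp [Matrix.mulVecLin_apply, Matrix.mulVec, dotProduct, Pi.single_apply]
  have hreal : ∑ i, (b i : ℝ) * (y i : ℝ) = 0 := by
    calc ∑ i, (b i : ℝ) * (y i : ℝ) = ∑ i, (∑ j, (A i j : ℝ) * c j) * (y i : ℝ) := by
          apply Finset.sum_congr rfl; intro i _; rw [h i]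
      _ = ∑ i, ∑ j, (A i j : ℝ) * c j * (y i : ℝ) := by
          apply Finset.sum_congr rfl; intro i _; rw [Finset.sum_mul]
      _ = ∑ j, ∑ i, (A i j : ℝ) * c j * (y i : ℝ) := Finset.sum_comm
      _ = ∑ j, c j * ((∑ i, A i j * y i : ℚ) : ℝ) := by
          apply Finset.sum_congr rfl; intro j _
          push_cast
          rw [Finset.mul_sum]
          apply Finset.sum_congr rfl; intro i _; ring
      _ = 0 := by
          apply Finset.sum_eq_zero; intro j _; rw [hcol j]; simp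
  apply hφb
  rw [hφy]
  have : ((∑ i, b i * y i : ℚ) : ℝ) = 0 := by
    push_cast; exact hreal
  exact_mod_cast this


variable [DiscreteTopology L] [IsZLattice ℝ L]

/-- the Riesz vector of a functional which is integral on the lattice is rational -/
theorem exists_riesz (hint : ∀ x ∈ L, ∀ y ∈ L, ∃ n : ℤ, inner ℝ x y = (n : ℝ))
    (μ : Module.Dual ℝ E) (hμ : ∀ x ∈ L, ∃ n : ℤ, μ x = (n : ℝ)) :
    ∃ r : E, IsRat L r ∧ ∀ v : E, inner ℝ r v = μ v := by
  classical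
  haveI : Module.Finite ℤ L := ZLattice.module_finite ℝ L
  haveI : Module.Free ℤ L := ZLattice.module_free ℝ L
  let b := Module.Free.chooseBasis ℤ L
  let bE := b.ofZLatticeBasis ℝ L
  have hbE : ∀ i, bE i = (b i : E) := fun i => b.ofZLatticeBasis_apply ℝ L i
  choose S hS using fun i j => hint (b i) (b i).2 (b j) (b j).2
  choose ℓ hℓ using fun i => hμ (b i) (b i).2
  let Sq : Matrix _ _ ℚ := fun i j => (S i j : ℚ)
  have hSsymm : ∀ i j, S i j = S j i := by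
    intro i j
    have h1 := hS i j
    have h2 := hS j i
    rw [real_inner_comm] at h1
    rw [h1] at h2
    exact_mod_cast h2
  have hdet : Sq.det ≠ 0 := by
    intro h0
    obtain ⟨x, hx0, hx⟩ := Matrix.exists_mulVec_eq_zero_iff.mpr h0
    let y : E := ∑ i, (x i : ℝ) • bE i
    have hy0 : y ≠ 0 := by
      intro hy
      apply hx0
      have hli := bE.linearIndependent
      rw [Fintype.linearIndependent_iff] at hli
      have h2 := hli (fun i => (x i : ℝ)) hy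
      funext i
      have := h2 i
      exact_mod_cast this
    have hyy : inner ℝ y y = (0 : ℝ) := by
      show inner ℝ (∑ i, (x i : ℝ) • bE i) (∑ j, (x j : ℝ) • bE j) = (0 : ℝ)
      rw [sum_inner]
      apply Finset.sum_eq_zero
      intro i _
      rw [real_inner_smul_left, inner_sum]
      have h3 : ∑ j, inner ℝ (bE i) ((x j : ℝ) • bE j) = ((Sq.mulVec x i : ℚ) : ℝ) := by
        simp only [Matrix.mulVec, dotProduct]
        push_cast
        apply Finset.sum_congr rfl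
        intro j _
        rw [real_inner_smul_right, hbE, hbE, hS i j]
        simp only [Sq]
        push_cast
        ring
      rw [h3, hx]
      simp
    exact hy0 (inner_self_eq_zero.mp hyy)
  let ℓq : _ → ℚ := fun i => (ℓ i : ℚ)
  let x : _ → ℚ := Sq⁻¹.mulVec ℓq
  have hx : Sq.mulVec x = ℓq := by
    show Sq.mulVec (Sq⁻¹.mulVec ℓq) = ℓq
    rw [Matrix.mulVec_mulVec, Matrix.mul_nonsing_inv _ (Ne.isUnit hdet), Matrix.one_mulVec]
  let r : E := ∑ i, (x i : ℝ) • bE i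
  refine ⟨r, ?_, ?_⟩
  · apply isRat_sum
    intro i _
    apply isRat_rat_smul
    apply isRat_of_mem
    rw [hbE]
    exact (b i).2
  · have hbasis : ∀ j, inner ℝ r (bE j) = μ (bE j) := by
      intro j
      show inner ℝ (∑ i, (x i : ℝ) • bE i) (bE j) = μ (bE j)
      rw [sum_inner, hbE j, hℓ j]
      have h3 : ∑ i, inner ℝ ((x i : ℝ) • bE i) (b j : E) = ((Sq.mulVec x j : ℚ) : ℝ) := by
        simp only [Matrix.mulVec, dotProduct]
        push_cast
        apply Finset.sum_congr rfl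
        intro i _
        rw [real_inner_smul_left, hbE, hS i j, hSsymm i j]
        simp only [Sq]
        push_cast
        ring
      rw [h3, hx]
      simp [ℓq]
    intro v
    have hlin : (innerₛₗ ℝ r : E →ₗ[ℝ] ℝ) = μ := by
      apply bE.ext
      intro j
      exact hbasis j
    exact LinearMap.congr_fun hlin v


theorem eq_zero_of_isLocalMin_quadratic (c a n : ℝ)
    (h : IsLocalMin (fun t : ℝ => c + 2 * t * a + t ^ 2 * n) 0) : a = 0 := by
  have hderiv : HasDerivAt (fun t : ℝ => c + 2 * t * a + t ^ 2 * n) (2 * a) 0 := by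
    have h1 : HasDerivAt (fun t : ℝ => 2 * t * a) (2 * a) 0 := by
      have := ((hasDerivAt_id (0 : ℝ)).const_mul (2 : ℝ)).mul_const a
      simpa using this
    have h2 : HasDerivAt (fun t : ℝ => t ^ 2 * n) 0 0 := by
      have := ((hasDerivAt_pow 2 (0 : ℝ))).mul_const n
      simpa using this
    have h3 := ((hasDerivAt_const (0 : ℝ) c).fun_add h1).fun_add h2
    have h4 : (0 : ℝ) + 2 * a + 0 = 2 * a := by ring
    rw [h4] at h3
    exact h3
  have h0 := h.hasDerivAt_eq_zero hderiv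
  linarith

/-- first-order optimality: the point of minimal norm of the polyhedron is orthogonal to the
directions preserving the active constraints -/
theorem inner_eq_zero_of_min (vs : E)
    (hPG : ∀ g ∈ G, 1 ≤ g vs) (hPF : ∀ f ∈ F, 0 ≤ f vs)
    (hmin : ∀ v : E, (∀ g ∈ G, 1 ≤ g v) → (∀ f ∈ F, 0 ≤ f v) → ‖vs‖ ≤ ‖v‖)
    (u : E) (huG : ∀ g ∈ G, g vs = 1 → g u = 0) (huF : ∀ f ∈ F, f vs = 0 → f u = 0) :
    inner ℝ vs u = (0 : ℝ) := by
  have hcont : ∀ μ : Module.Dual ℝ E, Continuous (fun t : ℝ => μ (vs + t • u)) := by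
    intro μ
    have : (fun t : ℝ => μ (vs + t • u)) = fun t : ℝ => μ vs + t * μ u := by
      funext t; rw [map_add, map_smul, smul_eq_mul]
    rw [this]
    fun_prop
  have hevG : ∀ᶠ t : ℝ in nhds 0, ∀ g ∈ G, 1 ≤ g (vs + t • u) := by
    rw [Filter.eventually_all_finset]
    intro g hg
    rcases (hPG g hg).lt_or_eq with hlt | heq
    · have h1 : ∀ᶠ t : ℝ in nhds 0, 1 < g (vs + t • u) :=
        ((hcont g).tendsto 0).eventually (lt_mem_nhds (by simpa using hlt))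
      exact h1.mono (fun t ht => ht.le)
    · apply Filter.Eventually.of_forall
      intro t
      rw [map_add, map_smul, huG g hg heq.symm, smul_zero, add_zero, ← heq]
  have hevF : ∀ᶠ t : ℝ in nhds 0, ∀ f ∈ F, 0 ≤ f (vs + t • u) := by
    rw [Filter.eventually_all_finset]
    intro f hf
    rcases (hPF f hf).lt_or_eq with hlt | heq
    · have h1 : ∀ᶠ t : ℝ in nhds 0, 0 < f (vs + t • u) :=
        ((hcont f).tendsto 0).eventually (lt_mem_nhds (by simpa using hlt))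
      exact h1.mono (fun t ht => ht.le)
    · apply Filter.Eventually.of_forall
      intro t
      rw [map_add, map_smul, huF f hf heq.symm, smul_zero, add_zero, ← heq]
  have hexp : ∀ t : ℝ, ‖vs + t • u‖ ^ 2 = ‖vs‖ ^ 2 + 2 * t * inner ℝ vs u + t ^ 2 * ‖u‖ ^ 2 := by
    intro t
    rw [norm_add_sq_real, real_inner_smul_right, norm_smul, Real.norm_eq_abs, mul_pow, sq_abs]
    ring
  have hloc : IsLocalMin (fun t : ℝ => ‖vs‖ ^ 2 + 2 * t * inner ℝ vs u + t ^ 2 * ‖u‖ ^ 2) 0 := by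
    filter_upwards [hevG, hevF] with t htG htF
    have h1 := hmin _ htG htF
    rw [← hexp t]
    simp only [mul_zero, zero_mul, add_zero, ne_eq, OfNat.ofNat_ne_zero, not_false_eq_true,
      zero_pow]
    exact pow_le_pow_left₀ (norm_nonneg _) h1 2
  exact eq_zero_of_isLocalMin_quadratic _ _ _ hloc


/-- **Rationality of the point of minimal norm of a rational polyhedron.** -/
theorem isRat_of_min (hint : ∀ x ∈ L, ∀ y ∈ L, ∃ n : ℤ, inner ℝ x y = (n : ℝ))
    (hFi : ∀ f ∈ F, ∀ x ∈ L, ∃ n : ℤ, f x = (n : ℝ))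
    (hGi : ∀ g ∈ G, ∀ x ∈ L, ∃ n : ℤ, g x = (n : ℝ)) (vs : E)
    (hPG : ∀ g ∈ G, 1 ≤ g vs) (hPF : ∀ f ∈ F, 0 ≤ f vs)
    (hmin : ∀ v : E, (∀ g ∈ G, 1 ≤ g v) → (∀ f ∈ F, 0 ≤ f v) → ‖vs‖ ≤ ‖v‖) : IsRat L vs := by
  classical
  let Λ : Finset (Module.Dual ℝ E) := (G.filter (fun g => g vs = 1)) ∪ (F.filter (fun f => f vs = 0))
  have hΛint : ∀ μ ∈ Λ, ∀ x ∈ L, ∃ n : ℤ, μ x = (n : ℝ) := by
    intro μ hμ
    rcases Finset.mem_union.mp hμ with h | h
    · exact hGi μ (Finset.mem_filter.mp h).1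
    · exact hFi μ (Finset.mem_filter.mp h).1
  let bq : Λ → ℚ := fun μ => if (μ : Module.Dual ℝ E) vs = 1 then 1 else 0
  have hbq : ∀ μ : Λ, (μ : Module.Dual ℝ E) vs = (bq μ : ℝ) := by
    intro μ
    rcases Finset.mem_union.mp μ.2 with h | h
    · have h1 := (Finset.mem_filter.mp h).2
      simp only [bq, h1, if_true]
      norm_num
    · have h1 := (Finset.mem_filter.mp h).2
      have h2 : ¬ ((μ : Module.Dual ℝ E) vs = 1) := by rw [h1]; norm_num
      simp only [bq, h2, if_false]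
      rw [h1]; norm_num
  -- orthogonality
  have horth : ∀ u : E, (∀ μ ∈ Λ, μ u = 0) → inner ℝ vs u = (0 : ℝ) := by
    intro u hu
    apply inner_eq_zero_of_min F G vs hPG hPF hmin u
    · intro g hg hg1
      exact hu g (Finset.mem_union_left _ (Finset.mem_filter.mpr ⟨hg, hg1⟩))
    · intro f hf hf0
      exact hu f (Finset.mem_union_right _ (Finset.mem_filter.mpr ⟨hf, hf0⟩))
  -- Riesz vectors
  choose r hrat hr using fun μ : Λ => exists_riesz L hint (μ : Module.Dual ℝ E) (hΛint μ μ.2)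
  let Sp : Submodule ℝ E := Submodule.span ℝ (Set.range r)
  have hperp : ∀ u : E, u ∈ Spᗮ ↔ ∀ μ : Λ, (μ : Module.Dual ℝ E) u = 0 := by
    intro u
    constructor
    · intro hu μ
      rw [← hr μ u]
      exact (Submodule.mem_orthogonal Sp u).mp hu (r μ) (Submodule.subset_span ⟨μ, rfl⟩)
    · intro hu
      rw [Submodule.mem_orthogonal]
      intro x hx
      induction hx using Submodule.span_induction with
      | mem x hx =>
        obtain ⟨μ, rfl⟩ := hx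
        rw [hr μ u]; exact hu μ
      | zero => exact inner_zero_left _
      | add x y _ _ hx hy => rw [inner_add_left, hx, hy, add_zero]
      | smul a x _ hx => rw [real_inner_smul_left, hx, mul_zero]
  have hvsSp : vs ∈ Sp := by
    rw [← Submodule.orthogonal_orthogonal Sp, Submodule.mem_orthogonal]
    intro u hu
    rw [real_inner_comm]
    exact horth u (fun μ hμ => (hperp u).mp hu ⟨μ, hμ⟩)
  obtain ⟨c, hc⟩ := (Submodule.mem_span_range_iff_exists_fun ℝ).mp hvsSp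
  -- the rational system
  choose A hA using fun (μ : Λ) (ν : Λ) =>
    rat_of_isRat L (hrat ν) (μ : Module.Dual ℝ E) (hΛint μ μ.2)
  have hsys : ∀ μ : Λ, ∑ ν, ((Matrix.of A) μ ν : ℝ) * c ν = (bq μ : ℝ) := by
    intro μ
    rw [← hbq μ, ← hc, map_sum]
    apply Finset.sum_congr rfl
    intro ν _
    rw [map_smul, smul_eq_mul, hA μ ν, mul_comm]
    rfl
  obtain ⟨c', hc'⟩ := exists_rat_solution (Matrix.of A) bq c hsys
  let v' : E := ∑ ν, (c' ν : ℝ) • r ν
  have hv'rat : IsRat L v' := by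
    apply isRat_sum
    intro ν _
    exact isRat_rat_smul L _ (hrat ν)
  have hv'Sp : v' ∈ Sp := by
    apply Submodule.sum_mem
    intro ν _
    exact Submodule.smul_mem _ _ (Submodule.subset_span ⟨ν, rfl⟩)
  have hv'eq : ∀ μ : Λ, (μ : Module.Dual ℝ E) v' = (μ : Module.Dual ℝ E) vs := by
    intro μ
    rw [hbq μ]
    show (μ : Module.Dual ℝ E) (∑ ν, (c' ν : ℝ) • r ν) = _
    rw [map_sum, ← hc' μ]
    push_cast
    apply Finset.sum_congr rfl
    intro ν _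
    rw [map_smul, smul_eq_mul, hA μ ν, mul_comm]
    rfl
  have hd : vs - v' = 0 := by
    have h1 : vs - v' ∈ Sp := Submodule.sub_mem _ hvsSp hv'Sp
    have h2 : vs - v' ∈ Spᗮ := by
      rw [hperp]
      intro μ
      rw [map_sub, hv'eq μ, sub_self]
    have h3 := (Submodule.mem_orthogonal Sp _).mp h2 _ h1
    exact inner_self_eq_zero.mp h3
  rw [sub_eq_zero.mp hd]
  exact hv'rat

end rational


section primitive

variable (L : Submodule ℤ E) [DiscreteTopology L] [IsZLattice ℝ L]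

theorem smul_left_injective_of_norm_one (v₁ : E) (hv₁ : ‖v₁‖ = 1) :
    Function.Injective (fun c : ℝ => c • v₁) := by
  have hv0 : v₁ ≠ 0 := by
    intro h; rw [h, norm_zero] at hv₁; exact zero_ne_one hv₁
  exact smul_left_injective ℝ hv0

/-- the primitive lattice vector on a ray containing a lattice vector -/
theorem exists_primitive (v₁ : E) (hv₁ : ‖v₁‖ = 1) (c₁ : ℝ) (hc₁ : 0 < c₁) (hc₁L : c₁ • v₁ ∈ L) :
    ∃ c₀ : ℝ, 0 < c₀ ∧ c₀ • v₁ ∈ L ∧
      ∀ c : ℝ, 0 < c → c • v₁ ∈ L → c₀ ≤ c ∧ ∃ n : ℤ, c • v₁ = n • (c₀ • v₁) := by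
  let T : Set ℝ := {c : ℝ | 0 < c ∧ c • v₁ ∈ L ∧ c ≤ c₁}
  have hTfin : T.Finite := by
    have h_finite : Set.Finite (Metric.closedBall 0 c₁ ∩ (L : Set E)) := by
      change ((_ : Set E) ∩ L.toAddSubgroup).Finite
      have : DiscreteTopology L.toAddSubgroup := (inferInstance : DiscreteTopology L)
      exact Metric.finite_isBounded_inter_isClosed DiscreteTopology.isDiscrete
        Metric.isBounded_closedBall inferInstance
    apply Set.Finite.of_finite_image (f := fun c : ℝ => c • v₁)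
    · apply h_finite.subset
      rintro _ ⟨c, ⟨hc0, hcL, hcle⟩, rfl⟩
      refine ⟨?_, hcL⟩
      rw [mem_closedBall_zero_iff, norm_smul, hv₁, mul_one, Real.norm_of_nonneg hc0.le]
      exact hcle
    · exact (smul_left_injective_of_norm_one v₁ hv₁).injOn
  have hTne : T.Nonempty := ⟨c₁, hc₁, hc₁L, le_refl _⟩
  obtain ⟨c₀, hc₀T, hc₀min⟩ := Set.exists_min_image T id hTfin hTne
  have hmin : ∀ c : ℝ, 0 < c → c • v₁ ∈ L → c₀ ≤ c := by
    intro c hc hcL
    by_cases hle : c ≤ c₁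
    · exact hc₀min c ⟨hc, hcL, hle⟩
    · exact hc₀T.2.2.trans (le_of_not_ge hle)
  refine ⟨c₀, hc₀T.1, hc₀T.2.1, ?_⟩
  intro c hc hcL
  refine ⟨hmin c hc hcL, ?_⟩
  let n : ℤ := ⌊c / c₀⌋
  have hc₀pos := hc₀T.1
  have h1 : (n : ℝ) ≤ c / c₀ := Int.floor_le _
  have h2 : c / c₀ < (n : ℝ) + 1 := Int.lt_floor_add_one _
  have h1' : (n : ℝ) * c₀ ≤ c := by
    rwa [le_div_iff₀ hc₀pos] at h1
  have h2' : c < ((n : ℝ) + 1) * c₀ := by
    rwa [div_lt_iff₀ hc₀pos] at h2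
  have hρL : (c - n * c₀) • v₁ ∈ L := by
    have : (c - n * c₀) • v₁ = c • v₁ - n • (c₀ • v₁) := by
      rw [sub_smul, mul_smul, Int.cast_smul_eq_zsmul ℝ]
    rw [this]
    exact L.sub_mem hcL (L.smul_mem n hc₀T.2.1)
  have hρ0 : c - n * c₀ = 0 := by
    by_contra hne
    have hpos : 0 < c - n * c₀ := lt_of_le_of_ne (by linarith) (Ne.symm hne)
    have := hmin _ hpos hρL
    linarith
  refine ⟨n, ?_⟩
  have : c = n * c₀ := by linarith
  rw [this, mul_smul, Int.cast_smul_eq_zsmul ℝ]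

end primitive

/-- **Kempf's optimal lattice vector.** -/
theorem main_17517
    (E : Type u) [NormedAddCommGroup E] [InnerProductSpace ℝ E] [FiniteDimensional ℝ E]
    (L : Submodule ℤ E) [DiscreteTopology L] [IsZLattice ℝ L]
    (hint : ∀ x ∈ L, ∀ y ∈ L, ∃ n : ℤ, inner ℝ x y = (n : ℝ))
    (F G : Finset (Module.Dual ℝ E)) (hF : F.Nonempty) (hG : G.Nonempty)
    (hFi : ∀ f ∈ F, ∀ x ∈ L, ∃ n : ℤ, f x = (n : ℝ)) (hGi : ∀ g ∈ G, ∀ x ∈ L, ∃ n : ℤ, g x = (n : ℝ))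
    (hpos : ∃ v : E, 0 ≤ F.inf' hF (fun f => f v) ∧ 0 < G.inf' hG (fun g => g v)) :
    ∃ M : ℝ, IsGreatest ((fun v => G.inf' hG (fun g => g v) / ‖v‖) ''
        {v : E | v ≠ 0 ∧ 0 ≤ F.inf' hF (fun f => f v)}) M ∧
      ∃! v₀ : E, v₀ ∈ L ∧ v₀ ≠ 0 ∧ 0 ≤ F.inf' hF (fun f => f v₀) ∧
        G.inf' hG (fun g => g v₀) / ‖v₀‖ = M ∧
        ∀ v ∈ L, v ≠ 0 → 0 ≤ F.inf' hF (fun f => f v) → G.inf' hG (fun g => g v) / ‖v‖ = M →
          ∃ n : ℤ, v = n • v₀ := by
  obtain ⟨v₁, hn1, hF1, hG1pos, hmax⟩ := exists_unit_max F hF G hG hpos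
  obtain ⟨M, hM⟩ : ∃ M : ℝ, M = mn G hG v₁ := ⟨_, rfl⟩
  rw [← hM] at hG1pos hmax
  have hv₁0 : v₁ ≠ 0 := by
    intro h; rw [h, norm_zero] at hn1; exact zero_ne_one hn1
  have hψ1 : ψ G hG v₁ = M := by unfold ψ; rw [hn1, div_one, hM]
  -- maximisers lie on the ray of v₁
  have hray : ∀ v : E, v ≠ 0 → 0 ≤ mn F hF v → ψ G hG v = M → v = ‖v‖ • v₁ := by
    intro v hv hvF hvM
    have hn : 0 < ‖v‖ := norm_pos_iff.mpr hv
    have hw1 : ‖(‖v‖)⁻¹ • v‖ = 1 := by
      rw [norm_smul, norm_inv, norm_norm, inv_mul_cancel₀ hn.ne']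
    have hwF : 0 ≤ mn F hF ((‖v‖)⁻¹ • v) := by
      rw [mn_smul F hF (inv_nonneg.mpr hn.le)]
      exact mul_nonneg (inv_nonneg.mpr hn.le) hvF
    have hwG : mn G hG ((‖v‖)⁻¹ • v) = M := by
      rw [mn_smul G hG (inv_nonneg.mpr hn.le), ← hvM]
      unfold ψ
      rw [div_eq_inv_mul]
    have h := unit_max_unique F hF G hG _ v₁ M hG1pos hw1 hn1 hwF hF1 hwG hM.symm hmax
    rw [← h, smul_smul, mul_inv_cancel₀ hn.ne', one_smul]
  -- rationality of the ray
  have hMinv : 0 < M⁻¹ := inv_pos.mpr hG1pos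
  have hPG : ∀ g ∈ G, 1 ≤ g (M⁻¹ • v₁) := by
    intro g hg
    rw [map_smul, smul_eq_mul]
    have h1 : M ≤ g v₁ := hM ▸ mn_le G hG hg v₁
    calc (1 : ℝ) = M⁻¹ * M := (inv_mul_cancel₀ hG1pos.ne').symm
      _ ≤ M⁻¹ * g v₁ := mul_le_mul_of_nonneg_left h1 hMinv.le
  have hPF : ∀ f ∈ F, 0 ≤ f (M⁻¹ • v₁) := by
    intro f hf
    rw [map_smul, smul_eq_mul]
    exact mul_nonneg hMinv.le (hF1.trans (mn_le F hF hf v₁))
  have hminn : ∀ v : E, (∀ g ∈ G, 1 ≤ g v) → (∀ f ∈ F, 0 ≤ f v) → ‖M⁻¹ • v₁‖ ≤ ‖v‖ := by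
    intro v hvG hvF
    have hv0 : v ≠ 0 := by
      rintro rfl
      obtain ⟨g, hg⟩ := hG
      have := hvG g hg
      rw [map_zero] at this
      linarith
    have hn : 0 < ‖v‖ := norm_pos_iff.mpr hv0
    have h1 : 1 ≤ mn G hG v := (le_mn_iff G hG 1 v).mpr hvG
    have h2 : 0 ≤ mn F hF v := (le_mn_iff F hF 0 v).mpr hvF
    have h3 := hmax v hv0 h2
    unfold ψ at h3
    rw [div_le_iff₀ hn] at h3
    rw [norm_smul, hn1, mul_one, Real.norm_of_nonneg hMinv.le, inv_le_comm₀ hG1pos hn]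
    rw [inv_le_iff_one_le_mul₀ hn]
    linarith
  obtain ⟨N, hN, hNL⟩ := isRat_of_min F G L hint hFi hGi (M⁻¹ • v₁) hPG hPF hminn
  have hc₁L : ((N : ℝ) * M⁻¹) • v₁ ∈ L := by
    rw [mul_smul, Nat.cast_smul_eq_nsmul ℝ]
    exact hNL
  have hc₁pos : 0 < (N : ℝ) * M⁻¹ := mul_pos (by exact_mod_cast hN) hMinv
  obtain ⟨c₀, hc₀, hc₀L, hprim⟩ := exists_primitive L v₁ hn1 _ hc₁pos hc₁L
  have hv₀0 : c₀ • v₁ ≠ 0 := smul_ne_zero hc₀.ne' hv₁0
  have hv₀F : 0 ≤ mn F hF (c₀ • v₁) := by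
    rw [mn_smul F hF hc₀.le]; exact mul_nonneg hc₀.le hF1
  have hv₀M : ψ G hG (c₀ • v₁) = M := by rw [ψ_smul G hG hc₀, hψ1]
  refine ⟨M, ⟨⟨v₁, ⟨hv₁0, hF1⟩, hψ1⟩, ?_⟩, c₀ • v₁, ⟨hc₀L, hv₀0, hv₀F, hv₀M, ?_⟩, ?_⟩
  · rintro _ ⟨v, ⟨hv0, hvF⟩, rfl⟩
    exact hmax v hv0 hvF
  · intro v hvL hv0 hvF hvM
    have h := hray v hv0 hvF hvM
    have hvL' : ‖v‖ • v₁ ∈ L := h ▸ hvL
    obtain ⟨-, n, hn⟩ := hprim ‖v‖ (norm_pos_iff.mpr hv0) hvL'
    exact ⟨n, by rw [← hn, ← h]⟩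
  · rintro y ⟨hyL, hy0, hyF, hyM, hyprop⟩
    have hy := hray y hy0 hyF hyM
    have hyL' : ‖y‖ • v₁ ∈ L := hy ▸ hyL
    have hypos : 0 < ‖y‖ := norm_pos_iff.mpr hy0
    obtain ⟨hle, -⟩ := hprim ‖y‖ hypos hyL'
    obtain ⟨m, hm⟩ := hyprop (c₀ • v₁) hc₀L hv₀0 hv₀F hv₀M
    have hm' : c₀ • v₁ = ((m : ℝ) * ‖y‖) • v₁ := by
      rw [mul_smul, Int.cast_smul_eq_zsmul ℝ, ← hy]
      exact hm
    have hc : c₀ = (m : ℝ) * ‖y‖ := smul_left_injective_of_norm_one v₁ hn1 hm'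
    have hmpos : (0 : ℝ) < m := by
      by_contra hneg
      have : (m : ℝ) * ‖y‖ ≤ 0 := mul_nonpos_of_nonpos_of_nonneg (not_lt.mp hneg) hypos.le
      linarith
    have hm1 : (1 : ℝ) ≤ m := by
      have : (0 : ℤ) < m := by exact_mod_cast hmpos
      exact_mod_cast this
    have hge : ‖y‖ ≤ c₀ := by
      rw [hc]
      nlinarith
    have heq : ‖y‖ = c₀ := le_antisymm hge hle
    rw [hy, heq]

end Groth.Agent.Lib.Helper26.KempfA
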