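import Mathlib
import Groth.Agent.Lib.Helper18.HenselComplete

set_option autoImplicit false

namespace Groth.Agent.Lib.Helper26.Kr38A

open Polynomial

/-- Strong Hensel (Newton with non-unit derivative) in an adically complete ring. -/
theorem strongHensel {R : Type*} [CommRing R] (I : Ideal R) [IsAdicComplete I R]
    (G : R[X]) (a t : R) (ht : t ∈ I)
    (h : G.eval a = (G.derivative.eval a) ^ 2 * t) :
    ∃ y ∈ I, G.eval (a + G.derivative.eval a * y) = 0 := by
  set d := G.derivative.eval a with hd
  set T := taylor a G with hT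
  set T₂ := divX (divX T) with hT₂
  have hT0 : T.coeff 0 = G.eval a := taylor_coeff_zero _ _
  have hT1 : T.coeff 1 = d := taylor_coeff_one _ _
  have hTdecomp : T = T₂ * X ^ 2 + C d * X + C (G.eval a) := by
    have h1 := divX_mul_X_add T
    have h2 := divX_mul_X_add (divX T)
    rw [coeff_divX, zero_add, hT1] at h2
    rw [hT0] at h1
    conv_lhs => rw [← h1, ← h2]
    ring
  have heval : ∀ s : R, G.eval (a + s) = T₂.eval s * s ^ 2 + d * s + G.eval a := by
    intro s
    have := taylor_eval a G s
    rw [add_comm s a] at this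
    rw [← this, ← hT, hTdecomp]
    simp
  -- the auxiliary polynomial
  set Q : R[X] := (T₂.comp (C d * X)) * X ^ 2 + X + C t with hQ
  have hQeval : ∀ y : R, Q.eval y = T₂.eval (d * y) * y ^ 2 + y + t := by
    intro y
    simp [hQ, eval_comp]
  have hQ0 : Q.eval 0 ∈ I := by
    rw [hQeval]
    simpa using ht
  have hQ'0 : Q.derivative.eval 0 = 1 := by
    simp [hQ, derivative_mul]
  obtain ⟨y, hy, hyI⟩ := Groth.Agent.Lib.Helper18.hensel_exists_of_isAdicComplete I Q 0 hQ0
    (by rw [hQ'0, map_one]; exact isUnit_one)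
  refine ⟨y, by simpa using hyI, ?_⟩
  have hroot : Q.eval y = 0 := hy
  rw [hQeval] at hroot
  rw [heval, h]
  linear_combination d ^ 2 * hroot

end Groth.Agent.Lib.Helper26.Kr38A
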