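import Mathlib
import Groth.Agent.Lib.Helper26.Kr38A

set_option autoImplicit false

namespace Groth.Agent.Lib.Helper26.Kr38B

open Polynomial IsLocalRing IntermediateField

universe u

section B1

variable (Ah : Type*) [CommRing Ah] [IsDomain Ah] [IsDiscreteValuationRing Ah]
  (Kh : Type*) [Field Kh] [Algebra Ah Kh] [IsFractionRing Ah Kh]
  (M : Type*) [Field M] [Algebra Kh M] [Algebra Ah M] [IsScalarTower Ah Kh M]

include Kh in
/-- Every element of `M = Kh(α)` becomes an element of `Ah[α]` after multiplying by a power of a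
uniformizer. -/
theorem exists_pow_mul_mem (π : Ah) (hπ : Irreducible π) (α : M) (hα : IsIntegral Ah α)
    (htop : Kh⟮α⟯ = ⊤) (x : M) :
    ∃ k : ℕ, (algebraMap Ah M π) ^ k * x ∈ Algebra.adjoin Ah ({α} : Set M) := by
  set R := Algebra.adjoin Ah ({α} : Set M) with hR
  set πM := algebraMap Ah M π with hπM
  have hπR : ∀ k : ℕ, πM ^ k ∈ R := fun k => pow_mem (Subalgebra.algebraMap_mem R π) k
  let T : Subalgebra Kh M :=
    { carrier := {x | ∃ k : ℕ, πM ^ k * x ∈ R}
      mul_mem' := by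
        rintro x y ⟨k₁, h₁⟩ ⟨k₂, h₂⟩
        refine ⟨k₁ + k₂, ?_⟩
        have : πM ^ (k₁ + k₂) * (x * y) = (πM ^ k₁ * x) * (πM ^ k₂ * y) := by ring
        rw [this]
        exact mul_mem h₁ h₂
      add_mem' := by
        rintro x y ⟨k₁, h₁⟩ ⟨k₂, h₂⟩
        refine ⟨k₁ + k₂, ?_⟩
        have : πM ^ (k₁ + k₂) * (x + y) = πM ^ k₂ * (πM ^ k₁ * x) + πM ^ k₁ * (πM ^ k₂ * y) := by
          ring
        rw [this]
        exact add_mem (mul_mem (hπR k₂) h₁) (mul_mem (hπR k₁) h₂)
      algebraMap_mem' := by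
        intro c
        obtain ⟨a, b, hb, rfl⟩ := IsFractionRing.div_surjective (A := Ah) c
        have hb0 : b ≠ 0 := nonZeroDivisors.ne_zero hb
        obtain ⟨j, u, hu⟩ := IsDiscreteValuationRing.eq_unit_mul_pow_irreducible hb0 hπ
        refine ⟨j, ?_⟩
        have hbK : algebraMap Ah Kh b ≠ 0 := by
          rw [Ne, map_eq_zero_iff _ (IsFractionRing.injective Ah Kh)]
          exact hb0
        have h1 : πM ^ j * algebraMap Kh M (algebraMap Ah Kh a / algebraMap Ah Kh b) =
            algebraMap Ah M (a * ((u⁻¹ : Ahˣ) : Ah)) := by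
          rw [hπM, IsScalarTower.algebraMap_apply Ah Kh M π,
            IsScalarTower.algebraMap_apply Ah Kh M (a * _), ← map_pow, ← map_mul]
          congr 1
          rw [map_mul]
          have hu' : algebraMap Ah Kh b = algebraMap Ah Kh (u : Ah) * algebraMap Ah Kh π ^ j := by
            rw [hu, map_mul, map_pow]
          have hunit : algebraMap Ah Kh (u : Ah) * algebraMap Ah Kh ((u⁻¹ : Ahˣ) : Ah) = 1 := by
            rw [← map_mul, Units.mul_inv, map_one]
          have hu0 : algebraMap Ah Kh (u : Ah) ≠ 0 := left_ne_zero_of_mul_eq_one hunit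
          have hπ0 : algebraMap Ah Kh π ^ j ≠ 0 := by
            intro h0
            rw [hu', h0, mul_zero] at hbK
            exact hbK rfl
          rw [hu']
          field_simp
          linear_combination (-(algebraMap Ah Kh a)) * hunit
        rw [h1]
        exact Subalgebra.algebraMap_mem R _ }
  have hαT : α ∈ T := ⟨0, by rw [pow_zero, one_mul]; exact Algebra.self_mem_adjoin_singleton Ah α⟩
  have hle : Algebra.adjoin Kh ({α} : Set M) ≤ T := Algebra.adjoin_le (by
    intro y hy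
    rw [Set.mem_singleton_iff] at hy
    rw [hy]
    exact hαT)
  have hαK : IsIntegral Kh α := hα.tower_top
  have h2 : (Kh⟮α⟯).toSubalgebra = Algebra.adjoin Kh ({α} : Set M) :=
    IntermediateField.adjoin_simple_toSubalgebra_of_isAlgebraic hαK.isAlgebraic
  have hx : x ∈ (Kh⟮α⟯).toSubalgebra := by
    rw [htop]
    trivial
  rw [h2] at hx
  exact hle hx

end B1

section B2

variable (Ah : Type*) [CommRing Ah] [IsLocalRing Ah]
  (K Kh : Type*) [Field K] [Field Kh] [Algebra Ah Kh] [Algebra K Kh]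

theorem exists_approx
    (hdense : ∀ (c : Ah) (N : ℕ), ∃ (a : K) (c' : Ah),
      algebraMap K Kh a = algebraMap Ah Kh c' ∧ c - c' ∈ maximalIdeal Ah ^ N)
    (f₀ : Ah[X]) (hf₀ : f₀.Monic) (N : ℕ) :
    ∃ (g : K[X]) (g₀ : Ah[X]), g.Monic ∧ g₀.Monic ∧ g.natDegree = f₀.natDegree ∧
      g₀.natDegree = f₀.natDegree ∧ g.map (algebraMap K Kh) = g₀.map (algebraMap Ah Kh) ∧
      ∀ i, (g₀ - f₀).coeff i ∈ maximalIdeal Ah ^ N := by
  classical
  set n := f₀.natDegree with hn
  choose a c' hac hc using fun i : ℕ => hdense (f₀.coeff i) N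
  have hdegK : (∑ i : Fin n, C (a i) * X ^ (i : ℕ) : K[X]).degree < n := degree_sum_fin_lt _
  have hdegA : (∑ i : Fin n, C (c' i) * X ^ (i : ℕ) : Ah[X]).degree < n := degree_sum_fin_lt _
  refine ⟨X ^ n + ∑ i : Fin n, C (a i) * X ^ (i : ℕ), X ^ n + ∑ i : Fin n, C (c' i) * X ^ (i : ℕ),
    monic_X_pow_add hdegK, monic_X_pow_add hdegA, ?_, ?_, ?_, ?_⟩
  · rw [natDegree_add_eq_left_of_degree_lt (by rwa [degree_X_pow]), natDegree_X_pow]
  · rw [natDegree_add_eq_left_of_degree_lt (by rwa [degree_X_pow]), natDegree_X_pow]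
  · simp only [Polynomial.map_add, Polynomial.map_pow, Polynomial.map_X, Polynomial.map_sum,
      Polynomial.map_mul, Polynomial.map_C, hac]
  · intro j
    have hf : f₀ = X ^ n + ∑ i : Fin n, C (f₀.coeff i) * X ^ (i : ℕ) := by
      conv_lhs => rw [hf₀.as_sum]
      rw [Finset.sum_range]
    have hsub : (X ^ n + ∑ i : Fin n, C (c' i) * X ^ (i : ℕ) : Ah[X]) - f₀ =
        ∑ i : Fin n, C (c' i - f₀.coeff i) * X ^ (i : ℕ) := by
      conv_lhs => rw [hf]
      rw [add_sub_add_left_eq_sub, ← Finset.sum_sub_distrib]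
      refine Finset.sum_congr rfl fun i _ => ?_
      rw [C_sub, sub_mul]
    rw [hsub, finsetSum_coeff]
    refine Ideal.sum_mem _ fun i _ => ?_
    rw [coeff_C_mul_X_pow]
    split_ifs
    · have := hc i
      rw [← Ideal.neg_mem_iff] at this
      simpa using this
    · exact Ideal.zero_mem _

end B2

section B3

theorem aeval_mem_map {Ah R : Type*} [CommRing Ah] [CommRing R] [Algebra Ah R] (I : Ideal Ah)
    (P : Ah[X]) (hP : ∀ i, P.coeff i ∈ I) (x : R) :
    aeval x P ∈ I.map (algebraMap Ah R) := by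
  rw [aeval_eq_sum_range]
  refine Ideal.sum_mem _ fun i _ => ?_
  rw [Algebra.smul_def]
  exact Ideal.mul_mem_right _ _ (Ideal.mem_map_of_mem _ (hP i))

theorem derivative_coeff_mem {Ah : Type*} [CommRing Ah] (I : Ideal Ah)
    (P : Ah[X]) (hP : ∀ i, P.coeff i ∈ I) (i : ℕ) : (derivative P).coeff i ∈ I := by
  rw [coeff_derivative]
  exact Ideal.mul_mem_right _ _ (hP _)

end B3

end Groth.Agent.Lib.Helper26.Kr38B
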