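import Mathlib
import Groth.Agent.Lib.Helper26.Kr38B
import Groth.Agent.Lib.Helper9.SemiLocalProd

set_option autoImplicit false

namespace Groth.Agent.Lib.Helper26.Kr38C

open Polynomial IsLocalRing IntermediateField Groth.Agent.Lib.Helper26.Kr38A
  Groth.Agent.Lib.Helper26.Kr38B

universe u

/-- The key approximation step: a root `β` of an approximating polynomial generating `M`. -/
theorem exists_root_generator (Ah : Type u) [CommRing Ah] [IsDomain Ah] [IsDiscreteValuationRing Ah]
    [IsAdicComplete (maximalIdeal Ah) Ah]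
    (K Kh : Type u) [Field K] [Field Kh] [Algebra Ah Kh] [IsFractionRing Ah Kh] [Algebra K Kh]
    (hdense : ∀ (c : Ah) (N : ℕ), ∃ (a : K) (c' : Ah),
      algebraMap K Kh a = algebraMap Ah Kh c' ∧ c - c' ∈ maximalIdeal Ah ^ N)
    (M : Type u) [Field M] [Algebra Kh M] [FiniteDimensional Kh M] [Algebra.IsSeparable Kh M]
    [Algebra Ah M] [IsScalarTower Ah Kh M] :
    ∃ (g : K[X]) (β : M), g.Monic ∧ g.natDegree = Module.finrank Kh M ∧
      aeval β (g.map (algebraMap K Kh)) = 0 ∧ Kh⟮β⟯ = ⊤ := by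
  classical
  -- primitive integral element
  obtain ⟨α₀, hα₀⟩ := Field.exists_primitive_element Kh M
  have halg : IsAlgebraic Ah α₀ := by
    have h1 : IsAlgebraic Kh α₀ := Algebra.IsAlgebraic.isAlgebraic α₀
    exact (IsFractionRing.isAlgebraic_iff Ah Kh M).2 h1
  obtain ⟨y, hy0, hyint⟩ := halg.exists_integral_multiple
  set α : M := y • α₀ with hαdef
  have hyK : algebraMap Ah Kh y ≠ 0 := by
    rw [Ne, map_eq_zero_iff _ (IsFractionRing.injective Ah Kh)]
    exact hy0
  have hαeq : α = algebraMap Kh M (algebraMap Ah Kh y) * α₀ := by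
    rw [hαdef, Algebra.smul_def, IsScalarTower.algebraMap_apply Ah Kh M]
  have htop : Kh⟮α⟯ = ⊤ := by
    rw [eq_top_iff, ← hα₀]
    rw [IntermediateField.adjoin_simple_le_iff]
    have h1 : α ∈ Kh⟮α⟯ := IntermediateField.mem_adjoin_simple_self Kh α
    have h2 : algebraMap Kh M (algebraMap Ah Kh y) ∈ Kh⟮α⟯ := IntermediateField.algebraMap_mem _ _
    have h3 : α₀ = (algebraMap Kh M (algebraMap Ah Kh y))⁻¹ * α := by
      rw [hαeq, ← mul_assoc, inv_mul_cancel₀, one_mul]
      rw [Ne, map_eq_zero]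
      exact hyK
    rw [h3]
    exact mul_mem (inv_mem h2) h1
  have hαint : IsIntegral Ah α := hyint
  have hαK : IsIntegral Kh α := hαint.tower_top
  -- minimal polynomials
  set f₀ := minpoly Ah α with hf₀
  have hf₀monic : f₀.Monic := minpoly.monic hαint
  have hfmap : minpoly Kh α = f₀.map (algebraMap Ah Kh) :=
    minpoly.isIntegrallyClosed_eq_field_fractions' Kh hαint
  have hdegM : f₀.natDegree = Module.finrank Kh M := by
    have h1 := IntermediateField.adjoin.finrank hαK
    rw [htop, IntermediateField.finrank_top', hfmap, hf₀monic.natDegree_map] at h1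
    exact h1.symm
  -- the ring R = Ah[α]
  set R := Algebra.adjoin Ah ({α} : Set M) with hR
  have hfinR : Module.Finite Ah R := Algebra.finite_adjoin_simple_of_isIntegral hαint
  obtain ⟨π, hπ⟩ := IsDiscreteValuationRing.exists_irreducible Ah
  have hmax : maximalIdeal Ah = Ideal.span {π} := hπ.maximalIdeal_eq
  set J : Ideal R := (maximalIdeal Ah).map (algebraMap Ah R) with hJ
  have hc0 : IsAdicComplete (maximalIdeal Ah) R :=
    Groth.Agent.Lib.Helper9.SemiLocalProd.isAdicComplete_of_finite Ah R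
  have hcJ : IsAdicComplete J R :=
    (IsAdicComplete.map_algebraMap_iff (R := Ah) (S := R) (M := R) (I := maximalIdeal Ah)).mpr hc0
  set πR : R := algebraMap Ah R π with hπR
  have hJspan : J = Ideal.span {πR} := by
    rw [hJ, hmax, Ideal.map_span, Set.image_singleton]
  have hJpow : ∀ N : ℕ, (maximalIdeal Ah ^ N).map (algebraMap Ah R) = Ideal.span {πR ^ N} := by
    intro N
    rw [Ideal.map_pow, ← hJ, hJspan, Ideal.span_singleton_pow]
  set αR : R := ⟨α, Algebra.self_mem_adjoin_singleton Ah α⟩ with hαR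
  have hcoe : ∀ P : Ah[X], ((aeval αR P : R) : M) = aeval α P := fun P =>
    (Subalgebra.aeval_coe R αR P).symm
  have hf₀R : aeval αR f₀ = 0 := by
    apply Subtype.ext
    rw [hcoe, hf₀, minpoly.aeval]
    rfl
  -- derivative at α is nonzero
  set D : R := aeval αR (derivative f₀) with hD
  have hD0 : (D : M) ≠ 0 := by
    rw [hD, hcoe]
    have hsep : (minpoly Kh α).Separable := Algebra.IsSeparable.isSeparable Kh α
    have := hsep.aeval_derivative_ne_zero (minpoly.aeval Kh α)
    rwa [hfmap, derivative_map, aeval_map_algebraMap] at this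
  obtain ⟨δ, hδ⟩ := exists_pow_mul_mem Ah Kh M π hπ α hαint htop ((D : M)⁻¹)
  set w : R := ⟨_, hδ⟩ with hw
  have hDw : D * w = πR ^ δ := by
    apply Subtype.ext
    rw [Subalgebra.coe_mul, Subalgebra.coe_pow]
    show (D : M) * (algebraMap Ah M π ^ δ * (D : M)⁻¹) = (algebraMap Ah M π) ^ δ
    field_simp
  -- approximation
  obtain ⟨g, g₀, hgmonic, hg₀monic, hgdeg, hg₀deg, hgmap, hgcoeff⟩ :=
    exists_approx Ah K Kh hdense f₀ hf₀monic (2 * δ + 2)
  set Gp : R[X] := g₀.map (algebraMap Ah R) with hGp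
  have hGeval : ∀ x : R, Gp.eval x = aeval x g₀ := fun x => by
    rw [hGp, eval_map_algebraMap]
  have hGderiv : ∀ x : R, Gp.derivative.eval x = aeval x (derivative g₀) := fun x => by
    rw [hGp, derivative_map, eval_map_algebraMap]
  -- G(α) ∈ J^N
  obtain ⟨r₀, hr₀⟩ : ∃ r₀ : R, Gp.eval αR = πR ^ (2 * δ + 2) * r₀ := by
    have h1 : aeval αR g₀ = aeval αR (g₀ - f₀) := by
      rw [map_sub, hf₀R, sub_zero]
    have h2 := aeval_mem_map (maximalIdeal Ah ^ (2 * δ + 2)) (g₀ - f₀) hgcoeff αR
    rw [hJpow, Ideal.mem_span_singleton'] at h2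
    obtain ⟨r, hr⟩ := h2
    exact ⟨r, by rw [hGeval, h1, ← hr, mul_comm]⟩
  obtain ⟨r₁, hr₁⟩ : ∃ r₁ : R, Gp.derivative.eval αR = D + πR ^ (2 * δ + 2) * r₁ := by
    have h1 : aeval αR (derivative g₀) = D + aeval αR (derivative (g₀ - f₀)) := by
      rw [hD, ← map_add, ← derivative_add]
      congr 2
      ring
    have h2 := aeval_mem_map (maximalIdeal Ah ^ (2 * δ + 2)) (derivative (g₀ - f₀))
      (derivative_coeff_mem _ _ hgcoeff) αR
    rw [hJpow, Ideal.mem_span_singleton'] at h2
    obtain ⟨r, hr⟩ := h2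
    exact ⟨r, by rw [hGderiv, h1, ← hr, mul_comm r]⟩
  set d := Gp.derivative.eval αR with hd
  have hJjac : J ≤ Ideal.jacobson ⊥ := IsAdicComplete.le_jacobson_bot J
  have hπJ : πR ∈ J := by
    rw [hJspan]
    exact Ideal.mem_span_singleton_self _
  obtain ⟨v, hv⟩ : ∃ v : R, (1 + πR ^ (δ + 2) * (r₁ * w)) * v = 1 := by
    have hmem : πR ^ (δ + 2) * (r₁ * w) ∈ J := by
      rw [pow_succ', mul_assoc]
      exact Ideal.mul_mem_right _ _ hπJ
    have h1 := (Ideal.mem_jacobson_bot.1 (hJjac hmem)) 1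
    rw [mul_one, add_comm] at h1
    obtain ⟨v, hv⟩ := h1.exists_right_inv
    exact ⟨v, hv⟩
  have hdwv : d * (w * v) = πR ^ δ := by
    have h1 : d * w = πR ^ δ * (1 + πR ^ (δ + 2) * (r₁ * w)) := by
      rw [hr₁, add_mul, hDw]
      ring
    calc d * (w * v) = (d * w) * v := by ring
      _ = πR ^ δ * ((1 + πR ^ (δ + 2) * (r₁ * w)) * v) := by rw [h1]; ring
      _ = πR ^ δ := by rw [hv, mul_one]
  set t : R := πR * (πR * (w * v) ^ 2 * r₀) with ht
  have htJ : t ∈ J := Ideal.mul_mem_right _ _ hπJ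
  have hGt : Gp.eval αR = d ^ 2 * t := by
    rw [hr₀, ht]
    have : πR ^ (2 * δ + 2) = (d * (w * v)) ^ 2 * πR ^ 2 := by
      rw [hdwv]
      ring
    rw [this]
    ring
  obtain ⟨y', hy'J, hy'⟩ := strongHensel J Gp αR t htJ hGt
  set β : R := αR + d * y' with hβ
  -- Nakayama: Ah[β] = R
  have hβgen : ∃ P : Ah[X], aeval β P = αR := by
    have hle : (⊤ : Submodule Ah R) ≤ (Algebra.adjoin Ah ({β} : Set R)).toSubmodule := by
      refine Submodule.le_of_le_smul_of_le_jacobson_bot (I := maximalIdeal Ah)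
        (Module.finite_def.1 hfinR) ?_ ?_
      · rw [IsLocalRing.jacobson_eq_maximalIdeal ⊥ bot_ne_top]
      · intro x _
        have hx : (x : M) ∈ Algebra.adjoin Ah ({α} : Set M) := x.2
        rw [Algebra.adjoin_singleton_eq_range_aeval, AlgHom.mem_range] at hx
        obtain ⟨P, hP⟩ := hx
        have hxP : x = aeval αR P := Subtype.ext (by rw [hcoe, hP])
        obtain ⟨c, hc⟩ := Polynomial.sub_dvd_eval_sub αR β (P.map (algebraMap Ah R))
        rw [eval_map_algebraMap, eval_map_algebraMap] at hc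
        have hx2 : x = aeval β P + (αR - β) * c := by
          rw [← hc, hxP]
          ring
        rw [hx2]
        refine Submodule.add_mem_sup ?_ ?_
        · exact aeval_mem_adjoin_singleton Ah β
        · rw [Ideal.smul_top_eq_map]
          show (αR - β) * c ∈ J
          refine Ideal.mul_mem_right _ _ ?_
          have : αR - β = -(d * y') := by rw [hβ]; ring
          rw [this]
          exact neg_mem (Ideal.mul_mem_left _ _ hy'J)
    have hmem : αR ∈ Algebra.adjoin Ah ({β} : Set R) := hle trivial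
    rw [Algebra.adjoin_singleton_eq_range_aeval, AlgHom.mem_range] at hmem
    exact hmem
  obtain ⟨P, hP⟩ := hβgen
  refine ⟨g, (β : M), hgmonic, hgdeg.trans hdegM, ?_, ?_⟩
  · rw [hgmap, aeval_map_algebraMap, Subalgebra.aeval_coe R β g₀, ← hGeval, hy']
    rfl
  · rw [eq_top_iff, ← htop, IntermediateField.adjoin_simple_le_iff]
    have h1 : α = aeval (β : M) P := by
      rw [Subalgebra.aeval_coe R β P, hP]
    rw [h1]
    have h2 : aeval (β : M) P = aeval (β : M) (P.map (algebraMap Ah Kh)) := by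
      rw [aeval_map_algebraMap]
    rw [h2]
    exact IntermediateField.algebra_adjoin_le_adjoin Kh _ (aeval_mem_adjoin_singleton Kh _)

end Groth.Agent.Lib.Helper26.Kr38C
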