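import Mathlib
import Groth.Agent.Lib.Helper26.Kr38C

set_option autoImplicit false

namespace Groth.Agent.Lib.Helper26.Kr38D

open Polynomial IsLocalRing IntermediateField TensorProduct Groth.Agent.Lib.Helper26.Kr38C

universe u

theorem core7138 (Ah : Type u) [CommRing Ah] [IsDomain Ah] [IsDiscreteValuationRing Ah]
    [IsAdicComplete (maximalIdeal Ah) Ah]
    (K Kh : Type u) [Field K] [Field Kh] [Algebra Ah Kh] [IsFractionRing Ah Kh] [Algebra K Kh]
    (hdense : ∀ (c : Ah) (N : ℕ), ∃ (a : K) (c' : Ah),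
      algebraMap K Kh a = algebraMap Ah Kh c' ∧ c - c' ∈ maximalIdeal Ah ^ N)
    (M : Type u) [Field M] [Algebra Kh M] [FiniteDimensional Kh M] [Algebra.IsSeparable Kh M] :
    ∃ (L : Type u) (_ : Field L) (_ : Algebra K L), FiniteDimensional K L ∧
      Algebra.IsSeparable K L ∧ Nonempty ((Kh ⊗[K] L) ≃ₐ[Kh] M) := by
  classical
  let _ : Algebra Ah M := ((algebraMap Kh M).comp (algebraMap Ah Kh)).toAlgebra
  have : IsScalarTower Ah Kh M := IsScalarTower.of_algebraMap_eq (fun x => rfl)
  obtain ⟨g, β, hgmonic, hgdeg, hroot, htop⟩ := exists_root_generator Ah K Kh hdense M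
  set gh := g.map (algebraMap K Kh) with hgh
  have hghmonic : gh.Monic := hgmonic.map _
  have hβint : IsIntegral Kh β := Algebra.IsIntegral.isIntegral β
  have hdvd : minpoly Kh β ∣ gh := minpoly.dvd Kh β hroot
  have hdegmin : (minpoly Kh β).natDegree = Module.finrank Kh M := by
    have := IntermediateField.adjoin.finrank hβint
    rw [htop, IntermediateField.finrank_top'] at this
    exact this.symm
  have hgheq : gh = minpoly Kh β :=
    eq_of_monic_of_dvd_of_natDegree_le (minpoly.monic hβint) hghmonic hdvd (by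
      rw [hgh, hgmonic.natDegree_map, hgdeg, hdegmin])
  have hghirr : Irreducible gh := hgheq ▸ minpoly.irreducible hβint
  have hghsep : gh.Separable := hgheq ▸ Algebra.IsSeparable.isSeparable Kh β
  have hgirr : Irreducible g :=
    hgmonic.irreducible_of_irreducible_map (algebraMap K Kh) g hghirr
  have hgsep : g.Separable := (separable_map (algebraMap K Kh)).1 hghsep
  have : Fact (Irreducible g) := ⟨hgirr⟩
  have hfinL : Module.Finite K (AdjoinRoot g) := hgmonic.finite_adjoinRoot
  refine ⟨AdjoinRoot g, inferInstance, inferInstance, hfinL, ?_, ?_⟩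
  · have hdeg0 : g.degree ≠ 0 := by
      intro h
      exact hgirr.not_isUnit (isUnit_iff_degree_eq_zero.2 h)
    obtain ⟨x, hx⟩ := IsSepClosed.exists_aeval_eq_zero (SeparableClosure K) g hdeg0 hgsep
    let φ : AdjoinRoot g →ₐ[K] SeparableClosure K :=
      AdjoinRoot.liftAlgHom g (Algebra.ofId K (SeparableClosure K)) x hx
    exact Algebra.IsSeparable.of_algHom K (SeparableClosure K) φ
  · let _ : Algebra K M := ((algebraMap Kh M).comp (algebraMap K Kh)).toAlgebra
    have : IsScalarTower K Kh M := IsScalarTower.of_algebraMap_eq (fun x => rfl)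
    have hrootK : aeval β g = 0 := by
      rw [← aeval_map_algebraMap Kh]
      exact hroot
    let φ : AdjoinRoot g →ₐ[K] M := AdjoinRoot.liftAlgHom g (Algebra.ofId K M) β hrootK
    have hφroot : φ (AdjoinRoot.root g) = β :=
      AdjoinRoot.liftAlgHom_root g (Algebra.ofId K M) β hrootK
    let Ψ : Kh ⊗[K] AdjoinRoot g →ₐ[Kh] M :=
      Algebra.TensorProduct.lift (Algebra.ofId Kh M) φ (fun _ _ => Commute.all _ _)
    have hΨβ : β ∈ Ψ.range := by
      refine ⟨1 ⊗ₜ AdjoinRoot.root g, ?_⟩
      show Ψ (1 ⊗ₜ AdjoinRoot.root g) = β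
      rw [Algebra.TensorProduct.lift_tmul, map_one, one_mul, hφroot]
    have hsurj : Function.Surjective Ψ := by
      rw [← AlgHom.range_eq_top, eq_top_iff]
      have h1 : Algebra.adjoin Kh ({β} : Set M) ≤ Ψ.range := Algebra.adjoin_le (by
        intro y hy
        rw [Set.mem_singleton_iff] at hy
        rw [hy]
        exact hΨβ)
      have h2 : (Kh⟮β⟯).toSubalgebra = Algebra.adjoin Kh ({β} : Set M) :=
        IntermediateField.adjoin_simple_toSubalgebra_of_isAlgebraic hβint.isAlgebraic
      rw [htop] at h2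
      intro y _
      apply h1
      rw [← h2]
      trivial
    have hfr : Module.finrank Kh (Kh ⊗[K] AdjoinRoot g) = Module.finrank Kh M := by
      rw [Module.finrank_baseChange, (AdjoinRoot.powerBasis' hgmonic).finrank,
        AdjoinRoot.powerBasis'_dim, hgdeg]
    have hinj : Function.Injective Ψ :=
      (LinearMap.injective_iff_surjective_of_finrank_eq_finrank hfr
        (f := Ψ.toLinearMap)).2 hsurj
    exact ⟨AlgEquiv.ofBijective Ψ ⟨hinj, hsurj⟩⟩

end Groth.Agent.Lib.Helper26.Kr38D
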