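import Mathlib
import Groth.Agent.Lib.Helper26.Kr38D
import Groth.Agent.S0549

set_option autoImplicit false

namespace Groth.Agent.Lib.Helper26.Kr38E

open Polynomial IsLocalRing IntermediateField TensorProduct Groth.Agent.Lib.Helper26.Kr38D

universe u

theorem exists_sub_mem (A : Type u) [CommRing A] [IsLocalRing A] [IsNoetherianRing A]
    (c : AdicCompletion (maximalIdeal A) A) (N : ℕ) :
    ∃ a : A, c - algebraMap A (AdicCompletion (maximalIdeal A) A) a ∈
      maximalIdeal (AdicCompletion (maximalIdeal A) A) ^ N := by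
  obtain ⟨a, ha⟩ := Submodule.mkQ_surjective _ (AdicCompletion.eval (maximalIdeal A) A N c)
  refine ⟨a, ?_⟩
  have hker : c - AdicCompletion.of (maximalIdeal A) A a ∈
      LinearMap.ker (AdicCompletion.eval (maximalIdeal A) A N) := by
    rw [LinearMap.mem_ker, map_sub, AdicCompletion.eval_of, ha, sub_self]
  rw [← AdicCompletion.pow_smul_top_eq_ker_eval (maximalIdeal A).fg_of_isNoetherianRing,
    Ideal.smul_top_eq_map] at hker
  rw [AdicCompletion.maximalIdeal_eq_map, ← Ideal.map_pow]
  exact hker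

theorem main_7138 (A K : Type u) [CommRing A] [IsDomain A]
    [IsDiscreteValuationRing A] [Field K] [Algebra A K] [IsFractionRing A K]
    (Kh : Type u) [Field Kh] [Algebra (AdicCompletion (IsLocalRing.maximalIdeal A) A) Kh]
    [IsFractionRing (AdicCompletion (IsLocalRing.maximalIdeal A) A) Kh] [Algebra A Kh] [Algebra K Kh]
    [IsScalarTower A (AdicCompletion (IsLocalRing.maximalIdeal A) A) Kh] [IsScalarTower A K Kh]
    (M : Type u) [Field M] [Algebra Kh M] [FiniteDimensional Kh M] [Algebra.IsSeparable Kh M] :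
    ∃ (L : Type u) (_ : Field L) (_ : Algebra K L), FiniteDimensional K L ∧ Algebra.IsSeparable K L ∧
      Nonempty ((Kh ⊗[K] L) ≃ₐ[Kh] M) := by
  obtain ⟨hdom, hdvr⟩ := (Groth.Agent.S0549.result A).1 ⟨inferInstance, inferInstance⟩
  refine core7138 (AdicCompletion (maximalIdeal A) A) K Kh ?_ M
  intro c N
  obtain ⟨a, ha⟩ := exists_sub_mem A c N
  refine ⟨algebraMap A K a, algebraMap A _ a, ?_, ha⟩
  rw [← IsScalarTower.algebraMap_apply A K Kh, ← IsScalarTower.algebraMap_apply A _ Kh]

end Groth.Agent.Lib.Helper26.Kr38E
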