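import Mathlib
import Groth.Agent.Lib.Helper26.ASField

set_option autoImplicit false
set_option linter.unusedVariables false
set_option linter.style.haveILetI false
set_option linter.unusedSectionVars false
set_option linter.unusedSimpArgs false

universe u

namespace Groth.Agent.Lib.Helper26.KumField

open Polynomial Groth.Agent.Lib.Helper26

section F

variable (p : ℕ) [hp : Fact p.Prime] {K L : Type u} [Field K] [Field L] [Algebra K L] [CharZero K]
  (ζ : K) (hζ : IsPrimitiveRoot ζ p) (η : K) (u : L) (hu : u ^ p = algebraMap K L η)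
  (hgen : IntermediateField.adjoin K {u} = ⊤)


include hu in
theorem isIntegral_u : IsIntegral K u := by
  refine ⟨X ^ p - C η, monic_X_pow_sub_C _ hp.out.ne_zero, ?_⟩
  rw [eval₂_sub, eval₂_pow, eval₂_X, eval₂_C, hu, sub_self]

include hu hgen in
theorem finiteDimensional : FiniteDimensional K L := by
  have := IntermediateField.adjoin.finiteDimensional (isIntegral_u p η u hu)
  rw [hgen] at this
  exact (IntermediateField.topEquiv (F := K) (E := L)).toLinearEquiv.finiteDimensional

include hgen in
theorem isGalois_of_mem_range (hzK : u ∈ Set.range (algebraMap K L)) : IsGalois K L := by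
  have h1 : IntermediateField.adjoin K {u} = ⊥ := by
    rw [IntermediateField.adjoin_simple_eq_bot_iff]
    exact IntermediateField.mem_bot.mpr hzK
  rw [hgen] at h1
  have h2 : IsGalois K (⊥ : IntermediateField K L) := inferInstance
  rw [← h1] at h2
  exact (isGalois_iff_isGalois_top).mp h2

include hζ hu hgen in
theorem isGalois : IsGalois K L := by
  by_cases hη : η = 0
  · refine isGalois_of_mem_range u hgen ⟨0, ?_⟩
    rw [hη, map_zero] at hu
    rw [map_zero]
    exact (pow_eq_zero_iff hp.out.ne_zero).mp hu |>.symm
  have hζL : IsPrimitiveRoot (algebraMap K L ζ) p := hζ.map_of_injective (algebraMap K L).injective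
  have hsplit : ((X ^ p - C η : K[X]).map (algebraMap K L)).Splits := by
    rw [Polynomial.map_sub, Polynomial.map_pow, Polynomial.map_X, Polynomial.map_C]
    exact X_pow_sub_C_splits_of_isPrimitiveRoot hζL hu
  have hne : (X ^ p - C η : K[X]) ≠ 0 := (monic_X_pow_sub_C _ hp.out.ne_zero).ne_zero
  haveI : (X ^ p - C η : K[X]).IsSplittingField K L := by
    refine ⟨hsplit, ?_⟩
    have hzint := isIntegral_u p η u hu
    have hzroot : u ∈ (X ^ p - C η : K[X]).rootSet L := by
      rw [mem_rootSet]
      refine ⟨hne, ?_⟩
      rw [map_sub, map_pow, aeval_X, aeval_C, hu, sub_self]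
    rw [eq_top_iff]
    have h1 : Algebra.adjoin K {u} ≤ Algebra.adjoin K ((X ^ p - C η : K[X]).rootSet L) :=
      Algebra.adjoin_mono (Set.singleton_subset_iff.mpr hzroot)
    refine le_trans ?_ h1
    rw [← IntermediateField.adjoin_simple_toSubalgebra_of_isAlgebraic hzint.isAlgebraic, hgen]
    exact le_of_eq rfl
  have hsep : (X ^ p - C η : K[X]).Separable :=
    separable_X_pow_sub_C η (by exact_mod_cast hp.out.ne_zero) hη
  exact IsGalois.of_separable_splitting_field hsep

include hζ hu hgen in
theorem finrank_dichotomy : Module.finrank K L = 1 ∨ Module.finrank K L = p := by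
  haveI : NeZero p := ⟨hp.out.ne_zero⟩
  by_cases hirr : Irreducible (X ^ p - C η : K[X])
  · right
    have hzint := isIntegral_u p η u hu
    have hroot : aeval u (X ^ p - C η : K[X]) = 0 := by
      rw [map_sub, map_pow, aeval_X, aeval_C, hu, sub_self]
    have hmin : (X ^ p - C η : K[X]) = minpoly K u :=
      minpoly.eq_of_irreducible_of_monic hirr hroot (monic_X_pow_sub_C _ hp.out.ne_zero)
    have h1 := IntermediateField.adjoin.finrank hzint
    rw [← hmin, natDegree_X_pow_sub_C, hgen, IntermediateField.finrank_top'] at h1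
    exact h1
  · left
    have : ¬ ∀ b : K, b ^ p ≠ η := fun h => hirr (X_pow_sub_C_irreducible_of_prime hp.out h)
    push Not at this
    obtain ⟨b, hb⟩ := this
    refine ASField.finrank_eq_one_of_mem_range u hgen ?_
    by_cases hb0 : b = 0
    · rw [hb0, zero_pow hp.out.ne_zero] at hb
      rw [← hb, map_zero] at hu
      exact ⟨0, by rw [map_zero]; exact ((pow_eq_zero_iff hp.out.ne_zero).mp hu).symm⟩
    have hbL : algebraMap K L b ≠ 0 := by
      rwa [Ne, map_eq_zero]
    have hζL : IsPrimitiveRoot (algebraMap K L ζ) p :=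
      hζ.map_of_injective (algebraMap K L).injective
    have h1 : (u / algebraMap K L b) ^ p = 1 := by
      rw [div_pow, hu, ← hb, map_pow, div_self (pow_ne_zero _ hbL)]
    obtain ⟨i, _, hi⟩ := hζL.eq_pow_of_pow_eq_one h1
    refine ⟨b * ζ ^ i, ?_⟩
    rw [map_mul, map_pow, hi]
    field_simp

end F

end Groth.Agent.Lib.Helper26.KumField
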