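import Mathlib

set_option autoImplicit false
set_option linter.unusedVariables false
set_option linter.style.haveILetI false
set_option linter.unusedSectionVars false
set_option linter.unusedSimpArgs false

universe u

namespace Groth.Agent.Lib.Helper26.KumPoly

open Polynomial IsLocalRing

section P

variable {A : Type u} [CommRing A] [IsDomain A] (p : ℕ) [hp : Fact p.Prime] (w : A) (hw : w ≠ 0)
  (P : A[X]) (hP : C (w ^ p) * P = (1 + C w * X) ^ p - 1)

include hP in
theorem coeff_formula (i : ℕ) :
    w ^ p * P.coeff i = if i = 0 then 0 else (p.choose i : A) * w ^ i := by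
  have h1 : (1 + C w * X : A[X]) ^ p = ((1 + X) ^ p : A[X]).comp (C w * X) := by
    rw [pow_comp, add_comp, one_comp, X_comp]
  have h2 := congrArg (fun q => q.coeff i) hP
  simp only [coeff_C_mul, coeff_sub, h1, comp_C_mul_X_coeff, coeff_one_add_X_pow, coeff_one] at h2
  rw [h2]
  by_cases hi : i = 0
  · simp [hi]
  · simp [hi]

include hP hw in
theorem coeff_p : P.coeff p = 1 := by
  have h := coeff_formula p w P hP p
  rw [if_neg hp.out.ne_zero, Nat.choose_self, Nat.cast_one, one_mul] at h
  have hwp : w ^ p ≠ 0 := pow_ne_zero _ hw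
  exact mul_left_cancel₀ hwp (by rw [h, mul_one])

include hP hw in
theorem coeff_gt (i : ℕ) (hi : p < i) : P.coeff i = 0 := by
  have h := coeff_formula p w P hP i
  rw [if_neg (by omega), Nat.choose_eq_zero_of_lt hi, Nat.cast_zero, zero_mul] at h
  have hwp : w ^ p ≠ 0 := pow_ne_zero _ hw
  exact (mul_eq_zero.mp h).resolve_left hwp

include hP hw in
theorem natDegree_eq : P.natDegree = p := by
  apply le_antisymm
  · rw [natDegree_le_iff_coeff_eq_zero]
    intro i hi
    exact coeff_gt p w hw P hP i hi
  · apply le_natDegree_of_ne_zero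
    rw [coeff_p p w hw P hP]
    exact one_ne_zero

include hP hw in
theorem monic : P.Monic := by
  rw [Monic, leadingCoeff, natDegree_eq p w hw P hP, coeff_p p w hw P hP]

include hP in
theorem eval₂_formula {S : Type*} [CommRing S] (f : A →+* S) (x : S) :
    f w ^ p * eval₂ f x P = (1 + f w * x) ^ p - 1 := by
  have := congrArg (eval₂ f x) hP
  rw [eval₂_mul, eval₂_C, eval₂_sub, eval₂_pow, eval₂_add, eval₂_mul, eval₂_C, eval₂_X, eval₂_one,
    map_pow] at this
  exact this

include hP hw in
theorem derivative_formula (θ : A) (hθ : θ * w ^ (p - 1) = p) :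
    derivative P = C θ * (1 + C w * X) ^ (p - 1) := by
  have h := congrArg derivative hP
  rw [derivative_C_mul, derivative_sub, derivative_one, sub_zero, derivative_pow, derivative_add,
    derivative_one, zero_add, derivative_C_mul, derivative_X, mul_one] at h
  have hwp : C (w ^ p) ≠ (0 : A[X]) := by
    rw [Ne, C_eq_zero]; exact pow_ne_zero _ hw
  apply mul_left_cancel₀ hwp
  rw [h]
  have hpw : w ^ p = w ^ (p - 1) * w := by
    rw [← pow_succ]
    congr 1
    have := hp.out.pos
    omega
  have h3 : (C (p : A) : A[X]) = C θ * C (w ^ (p - 1)) := by rw [← C_mul, hθ]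
  rw [h3, hpw, C_mul]
  ring

end P

section R

variable {A : Type u} [CommRing A] [IsDomain A] [IsLocalRing A] (p : ℕ) [hp : Fact p.Prime] (w : A)
  (hw : w ≠ 0) (hwm : w ∈ maximalIdeal A)
  (P : A[X]) (hP : C (w ^ p) * P = (1 + C w * X) ^ p - 1)

include hP hw hwm in
theorem separable_map (θ : A) (hθ : θ * w ^ (p - 1) = p) (hθu : IsUnit θ) (a : A) :
    ((P - C a).map (residue A)).Separable := by
  rw [separable_def]
  have hd : derivative ((P - C a).map (residue A)) = C (residue A θ) := by
    rw [derivative_map, derivative_sub, derivative_C, sub_zero,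
      derivative_formula p w hw P hP θ hθ, Polynomial.map_mul, Polynomial.map_C, Polynomial.map_pow,
      Polynomial.map_add, Polynomial.map_one, Polynomial.map_mul, Polynomial.map_C,
      (residue_eq_zero_iff w).mpr hwm, map_zero, zero_mul, add_zero, one_pow, mul_one]
  rw [hd]
  have hu : residue A θ ≠ 0 := by
    have : IsUnit (residue A θ) := hθu.map _
    exact this.ne_zero
  refine ⟨0, C (residue A θ)⁻¹, ?_⟩
  rw [zero_mul, zero_add, ← C_mul, inv_mul_cancel₀ hu, C_1]

include hP hw in
theorem scaleRoots_map (s : A) (hs : s ∈ maximalIdeal A) :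
    (scaleRoots P s).map (residue A) = X ^ p := by
  ext i
  rw [coeff_map, coeff_scaleRoots, natDegree_eq p w hw P hP, coeff_X_pow]
  rcases lt_trichotomy i p with hi | hi | hi
  · rw [if_neg hi.ne, map_mul, map_pow, (residue_eq_zero_iff s).mpr hs, zero_pow (by omega),
      mul_zero]
  · rw [if_pos hi, hi, coeff_p p w hw P hP, Nat.sub_self, pow_zero, mul_one, map_one]
  · rw [if_neg hi.ne', coeff_gt p w hw P hP i hi, zero_mul, map_zero]

end R

section Z

variable {A : Type u} [CommRing A] [IsDomain A] [IsLocalRing A] [CharZero A]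
  (p : ℕ) [hp : Fact p.Prime] [CharP (ResidueField A) p]
  (ζ : A) (hζ : aeval ζ (cyclotomic p ℤ) = 0)

include hζ in
theorem isPrimitiveRoot : IsPrimitiveRoot ζ p := by
  rw [← isRoot_cyclotomic_iff_charZero hp.out.pos, IsRoot.def, ← map_cyclotomic_int,
    eval_map]
  rw [aeval_def, algebraMap_int_eq] at hζ
  exact hζ

include hζ in
theorem one_sub_ne_zero : (1 - ζ) ≠ 0 := by
  have h := isPrimitiveRoot p ζ hζ
  intro h0
  exact h.ne_one hp.out.one_lt (sub_eq_zero.mp h0).symm

include hζ in
theorem one_sub_mem : (1 - ζ) ∈ maximalIdeal A := by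
  have h := isPrimitiveRoot p ζ hζ
  rw [← residue_eq_zero_iff]
  have h1 : (residue A (1 - ζ)) ^ p = 0 := by
    rw [map_sub, map_one, sub_pow_char, one_pow, ← map_pow, h.pow_eq_one, map_one, sub_self]
  exact (pow_eq_zero_iff hp.out.ne_zero).mp h1

include hζ in
theorem exists_theta : ∃ θ : A, IsUnit θ ∧ θ * (1 - ζ) ^ (p - 1) = p := by
  have h := isPrimitiveRoot p ζ hζ
  have h1 : eval 1 (cyclotomic p A) = p := eval_one_cyclotomic_prime
  rw [cyclotomic_eq_prod_X_sub_primitiveRoots h, eval_prod] at h1
  have h2 : Associated (∏ μ ∈ primitiveRoots p A, eval 1 (X - C μ))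
      (∏ μ ∈ primitiveRoots p A, (1 - ζ)) := by
    apply Associated.prod
    intro μ hμ
    rw [eval_sub, eval_X, eval_C]
    rw [mem_primitiveRoots hp.out.pos] at hμ
    have hne : (1 : A) ≠ μ := fun h' => hμ.ne_one hp.out.one_lt h'.symm
    have h3 := h.nthRootsFinset_pairwise_associated_sub_one_sub_of_prime hp.out
      (by rw [Finset.mem_coe, mem_nthRootsFinset hp.out.pos]; exact one_pow p)
      (by rw [Finset.mem_coe, mem_nthRootsFinset hp.out.pos]; exact hμ.pow_eq_one) hne
    refine h3.symm.trans ?_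
    rw [← neg_sub 1 ζ]
    exact (Associated.refl _).neg_left
  rw [h1, Finset.prod_const, h.card_primitiveRoots, Nat.totient_prime hp.out] at h2
  obtain ⟨v, hv⟩ := h2.symm
  refine ⟨v, v.isUnit, ?_⟩
  rw [← hv, mul_comm]

end Z

end Groth.Agent.Lib.Helper26.KumPoly
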