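import Mathlib
import Groth.Prelude.Def_EtRam
import Groth.Agent.Lib.Helper26.KumField
import Groth.Agent.Lib.Helper26.KumPoly
import Groth.Agent.Lib.Helper26.KumGen

set_option autoImplicit false
set_option linter.unusedVariables false
set_option linter.style.haveILetI false
set_option linter.unusedSectionVars false
set_option linter.unusedSimpArgs false

universe u

namespace Groth.Agent.Lib.Helper26.KumCases

open IsLocalRing Polynomial Groth.Agent.Lib.Helper26 Groth.Agent.Lib.Helper26.Monog
  Groth.Agent.Lib.Helper26.ASCaseAC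

section Adj

variable {K L : Type u} [Field K] [Field L] [Algebra K L]

theorem adjoin_affine (c d : K) (hc : c ≠ 0) (z : L) :
    IntermediateField.adjoin K {algebraMap K L c * z + algebraMap K L d} =
      IntermediateField.adjoin K {z} := by
  apply le_antisymm
  · rw [IntermediateField.adjoin_le_iff]
    intro x hx
    rw [Set.mem_singleton_iff] at hx
    rw [hx]
    exact add_mem (mul_mem (IntermediateField.algebraMap_mem _ _)
      (IntermediateField.mem_adjoin_simple_self K z)) (IntermediateField.algebraMap_mem _ _)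
  · rw [IntermediateField.adjoin_le_iff]
    intro x hx
    rw [Set.mem_singleton_iff] at hx
    have hcL : algebraMap K L c ≠ 0 := by rwa [Ne, map_eq_zero]
    have : x = (algebraMap K L c)⁻¹ *
        ((algebraMap K L c * z + algebraMap K L d) - algebraMap K L d) := by
      rw [hx]; field_simp; ring
    rw [this]
    exact mul_mem (inv_mem (IntermediateField.algebraMap_mem _ _))
      (sub_mem (IntermediateField.mem_adjoin_simple_self K _)
        (IntermediateField.algebraMap_mem _ _))

end Adj

section K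

variable {A K L : Type u} [CommRing A] [IsDomain A] [IsDiscreteValuationRing A] [Field K]
  [Algebra A K] [IsFractionRing A K] [Field L] [Algebra K L] [CharZero K]
  (p : ℕ) [hp : Fact p.Prime] [CharP (ResidueField A) p]
  (ζ : A) (hζ : aeval ζ (cyclotomic p ℤ) = 0) (P : A[X])
  (hP : C ((1 - ζ) ^ p) * P = (1 + C (1 - ζ) * X) ^ p - 1)
  (π : A) (hπ : maximalIdeal A = Ideal.span {π})

omit [CharZero K] [CharP (ResidueField A) p] in
theorem charZeroA [CharZero K] : CharZero A := (algebraMap A K).charZero

include hζ in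
theorem wK_ne_zero : algebraMap A K (1 - ζ) ≠ 0 := by
  haveI := charZeroA (A := A) (K := K)
  intro h0
  exact KumPoly.one_sub_ne_zero p ζ hζ ((IsFractionRing.injective A K) (by rw [h0, map_zero]))

include hζ in
theorem wL_ne_zero : gAL A K L (1 - ζ) ≠ 0 := by
  intro h0
  exact wK_ne_zero (K := K) p ζ hζ ((map_eq_zero (algebraMap K L)).mp h0)

include hζ in
theorem isPrimitiveRootK : IsPrimitiveRoot (algebraMap A K ζ) p := by
  haveI := charZeroA (A := A) (K := K)
  exact (KumPoly.isPrimitiveRoot p ζ hζ).map_of_injective (IsFractionRing.injective A K)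

include hP in
/-- from `(ξ, z)` to `(η, u)` -/
theorem unbridge (ξ : K) (z : L) (hz : eval₂ (gAL A K L) z P = algebraMap K L ξ) :
    (1 + gAL A K L (1 - ζ) * z) ^ p =
      algebraMap K L (1 + algebraMap A K (1 - ζ) ^ p * ξ) := by
  have h := KumPoly.eval₂_formula p (1 - ζ) P hP (gAL A K L) z
  rw [hz] at h
  rw [map_add, map_one, map_mul, map_pow]
  have : gAL A K L (1 - ζ) = algebraMap K L (algebraMap A K (1 - ζ)) := rfl
  rw [← this, h]
  ring

include hζ in
theorem gen_unbridge (z : L) (hgen : IntermediateField.adjoin K {z} = ⊤) :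
    IntermediateField.adjoin K {1 + gAL A K L (1 - ζ) * z} = ⊤ := by
  have h := adjoin_affine (L := L) (algebraMap A K (1 - ζ)) 1 (wK_ne_zero (K := K) p ζ hζ) z
  rw [hgen, map_one] at h
  rw [← h]
  congr 2
  show 1 + algebraMap K L (algebraMap A K (1 - ζ)) * z = _
  ring

include hζ hP in
/-- from `(η, u)` to `(ξ, z)` -/
theorem bridge (η : K) (u : L) (hu : u ^ p = algebraMap K L η) :
    eval₂ (gAL A K L) ((u - 1) / gAL A K L (1 - ζ)) P =
      algebraMap K L ((η - 1) / algebraMap A K (1 - ζ) ^ p) := by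
  have hw := wL_ne_zero (K := K) (L := L) p ζ hζ
  have h := KumPoly.eval₂_formula p (1 - ζ) P hP (gAL A K L) ((u - 1) / gAL A K L (1 - ζ))
  have hwdef : algebraMap K L (algebraMap A K (1 - ζ)) = gAL A K L (1 - ζ) := rfl
  rw [map_div₀, map_pow, hwdef]
  generalize gAL A K L (1 - ζ) = wL at *
  rw [map_sub, map_one]
  have h1 : 1 + wL * ((u - 1) / wL) = u := by
    field_simp; ring
  rw [h1, hu] at h
  apply mul_left_cancel₀ (pow_ne_zero p hw)
  rw [h]
  field_simp

include hζ in
theorem gen_bridge (u : L) (hgen : IntermediateField.adjoin K {u} = ⊤) :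
    IntermediateField.adjoin K {(u - 1) / gAL A K L (1 - ζ)} = ⊤ := by
  have hwK := wK_ne_zero (K := K) p ζ hζ
  have h := adjoin_affine (L := L) (algebraMap A K (1 - ζ))⁻¹ (-(algebraMap A K (1 - ζ))⁻¹)
    (inv_ne_zero hwK) u
  rw [hgen] at h
  rw [← h]
  congr 2
  show (u - 1) / algebraMap K L (algebraMap A K (1 - ζ)) = _
  rw [map_neg, map_inv₀]
  field_simp
  ring

include hζ hP in
theorem finiteDimensional (ξ : K) (z : L) (hz : eval₂ (gAL A K L) z P = algebraMap K L ξ)
    (hgen : IntermediateField.adjoin K {z} = ⊤) : FiniteDimensional K L :=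
  KumField.finiteDimensional p _ _ (unbridge p ζ P hP ξ z hz) (gen_unbridge p ζ hζ z hgen)

include hζ hP in
theorem dichotomy (ξ : K) (z : L) (hz : eval₂ (gAL A K L) z P = algebraMap K L ξ)
    (hgen : IntermediateField.adjoin K {z} = ⊤) :
    Module.finrank K L = 1 ∨ Module.finrank K L = p :=
  KumField.finrank_dichotomy p _ (isPrimitiveRootK (K := K) p ζ hζ) _ _ (unbridge p ζ P hP ξ z hz)
    (gen_unbridge p ζ hζ z hgen)

include hζ hP in
theorem isGalois (ξ : K) (z : L) (hz : eval₂ (gAL A K L) z P = algebraMap K L ξ)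
    (hgen : IntermediateField.adjoin K {z} = ⊤) : IsGalois K L :=
  KumField.isGalois p _ (isPrimitiveRootK (K := K) p ζ hζ) _ _ (unbridge p ζ P hP ξ z hz)
    (gen_unbridge p ζ hζ z hgen)

include hζ hP in
theorem P_monic [CharZero A] : P.Monic :=
  KumPoly.monic p (1 - ζ) (KumPoly.one_sub_ne_zero p ζ hζ) P hP

include hζ hP in
theorem P_natDegree [CharZero A] : P.natDegree = p :=
  KumPoly.natDegree_eq p (1 - ζ) (KumPoly.one_sub_ne_zero p ζ hζ) P hP

include hζ hP hπ in
theorem caseA (a : A) (z : L)
    (hz : eval₂ (gAL A K L) z P = algebraMap K L (algebraMap A K a))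
    (hgen : IntermediateField.adjoin K {z} = ⊤) :
    Module.finrank K L = 1 ∨
      (EtRam.IsUnramifiedExt A (gAL A K L) ∧ Module.finrank K L = p) := by
  haveI := charZeroA (A := A) (K := K)
  haveI : FiniteDimensional K L := finiteDimensional (K := K) p ζ hζ P hP _ z hz hgen
  rcases dichotomy (K := K) p ζ hζ P hP _ z hz hgen with h | h
  · exact Or.inl h
  refine Or.inr ⟨?_, h⟩
  have hmon := P_monic p ζ hζ P hP
  have hdeg := P_natDegree p ζ hζ P hP
  obtain ⟨θ, hθu, hθ⟩ := KumPoly.exists_theta p ζ hζ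
  have hmonic : (P - C a).Monic := by
    apply hmon.sub_of_left
    refine lt_of_le_of_lt degree_C_le ?_
    rw [degree_eq_natDegree hmon.ne_zero, hdeg]
    exact_mod_cast hp.out.pos
  have hy : eval₂ (gAL A K L) z (P - C a) = 0 := by
    rw [eval₂_sub, eval₂_C, hz]
    exact sub_self _
  exact KumGen.genA π hπ z (P - C a) hmonic hy hgen
    (KumPoly.separable_map p (1 - ζ) (KumPoly.one_sub_ne_zero p ζ hζ)
      (KumPoly.one_sub_mem p ζ hζ) P hP θ hθ hθu a)

include hζ hP hπ in
theorem caseB (ξ : K) (z : L) (hz : eval₂ (gAL A K L) z P = algebraMap K L ξ)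
    (hgen : IntermediateField.adjoin K {z} = ⊤) (n : ℕ) (a : Aˣ) (hn : 0 < n) (hpn : ¬ p ∣ n)
    (hξ : ξ * algebraMap A K π ^ n = algebraMap A K a) :
    EtRam.IsTotallyRamified A (gAL A K L) ∧ Module.finrank K L = p := by
  haveI := charZeroA (A := A) (K := K)
  haveI : FiniteDimensional K L := finiteDimensional (K := K) p ζ hζ P hP _ z hz hgen
  have hirr : Irreducible π := (IsDiscreteValuationRing.irreducible_iff_uniformizer π).mpr hπ
  have hmon := P_monic p ζ hζ P hP
  have hdeg := P_natDegree p ζ hζ P hP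
  refine KumGen.genB p π hirr z n hn hpn ?_ (dichotomy (K := K) p ζ hζ P hP _ z hz hgen)
  intro V hV
  have hπpos := ValBasis.val_pi_pos V hV π hirr
  have hπlt := ValBasis.val_pi_lt_one V hV π hirr
  have hξL : algebraMap K L ξ * gAL A K L π ^ n = gAL A K L (a : A) := by
    have := congrArg (algebraMap K L) hξ
    rw [map_mul, map_pow] at this
    exact this
  have hvξ : V.valuation (algebraMap K L ξ) * V.valuation (gAL A K L π) ^ n = 1 := by
    rw [← map_pow, ← map_mul, hξL, ValFin.val_unit V hV a]
  have hπn_lt : V.valuation (gAL A K L π) ^ n < 1 := pow_lt_one₀ zero_le hπlt hn.ne'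
  have hvξ_gt : 1 < V.valuation (algebraMap K L ξ) := by
    by_contra hle
    push Not at hle
    have : V.valuation (algebraMap K L ξ) * V.valuation (gAL A K L π) ^ n < 1 := by
      calc V.valuation (algebraMap K L ξ) * V.valuation (gAL A K L π) ^ n
          ≤ 1 * V.valuation (gAL A K L π) ^ n := by gcongr
        _ = V.valuation (gAL A K L π) ^ n := one_mul _
        _ < 1 := hπn_lt
    rw [hvξ] at this
    exact lt_irrefl _ this
  have hvz_gt : 1 < V.valuation z := by
    by_contra hle
    push Not at hle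
    have hzV : z ∈ V := (V.valuation_le_one_iff _).mp hle
    have h1 : eval₂ (gAL A K L) z P ∈ V := by
      rw [eval₂_eq_sum_range]
      exact V.sum_mem (fun i _ => V.mul_mem _ _ (hV.1 _) (V.pow_mem hzV i))
    rw [hz, ← V.valuation_le_one_iff] at h1
    exact absurd hvξ_gt (not_lt.mpr h1)
  have h2 := KumGen.val_eval₂_monic V hV.1 P hmon z hvz_gt
  rw [hz, hdeg] at h2
  rw [← h2, hvξ]

include hζ hP hπ in
theorem caseC (ξ : K) (z : L) (hz : eval₂ (gAL A K L) z P = algebraMap K L ξ)
    (hgen : IntermediateField.adjoin K {z} = ⊤) (m : ℕ) (hm : 0 < m) (a : A)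
    (ha : ∀ r : A, residue A a ≠ residue A r ^ p)
    (hξ : ξ * algebraMap A K π ^ (p * m) = algebraMap A K a) :
    Case4 A K L p := by
  haveI := charZeroA (A := A) (K := K)
  haveI : FiniteDimensional K L := finiteDimensional (K := K) p ζ hζ P hP _ z hz hgen
  have hmon := P_monic p ζ hζ P hP
  have hdeg := P_natDegree p ζ hζ P hP
  have hπm : π ∈ maximalIdeal A := by rw [hπ]; exact Ideal.mem_span_singleton_self π
  have hπ0 : π ≠ 0 := by
    intro h0
    rw [h0, Ideal.span_singleton_eq_bot.mpr rfl] at hπ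
    exact IsDiscreteValuationRing.not_a_field A hπ
  have hπK : algebraMap A K π ≠ 0 := by
    intro h0
    exact hπ0 ((IsFractionRing.injective A K) (by rw [h0, map_zero]))
  set y : L := gAL A K L (π ^ m) * z with hy_def
  set hpoly : A[X] := scaleRoots P (π ^ m) - C a with hpoly_def
  have hmonic : hpoly.Monic := by
    apply ((monic_scaleRoots_iff _).mpr hmon).sub_of_left
    refine lt_of_le_of_lt degree_C_le ?_
    rw [degree_scaleRoots, degree_eq_natDegree hmon.ne_zero, hdeg]
    exact_mod_cast hp.out.pos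
  have hξL : algebraMap K L ξ * gAL A K L π ^ (p * m) = gAL A K L a := by
    have := congrArg (algebraMap K L) hξ
    rw [map_mul, map_pow] at this
    exact this
  have hy : eval₂ (gAL A K L) y hpoly = 0 := by
    rw [hpoly_def, eval₂_sub, eval₂_C, hy_def, scaleRoots_eval₂_mul, hz, hdeg, ← hξL, map_pow,
      ← pow_mul, mul_comm m p]
    ring
  have hmap : hpoly.map (residue A) = X ^ p - C (residue A a) := by
    rw [hpoly_def, Polynomial.map_sub, Polynomial.map_C,
      KumPoly.scaleRoots_map p (1 - ζ) (KumPoly.one_sub_ne_zero p ζ hζ) P hP (π ^ m)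
        (Ideal.pow_mem_of_mem _ hπm _ hm)]
  have hgeny : IntermediateField.adjoin K {y} = ⊤ := by
    have h := adjoin_affine (L := L) (algebraMap A K (π ^ m)) 0
      (by rw [map_pow]; exact pow_ne_zero _ hπK) z
    rw [hgen, map_zero, add_zero] at h
    exact h
  exact KumGen.genC p π hπ y hpoly hmonic hy hgeny a hmap ha

end K

end Groth.Agent.Lib.Helper26.KumCases
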