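import Mathlib
import Groth.Prelude.Def_EtRam
import Groth.Agent.Lib.Helper26.KumCases
import Groth.Agent.Lib.Helper26.ASMain

set_option autoImplicit false
set_option linter.unusedVariables false
set_option linter.style.haveILetI false
set_option linter.unusedSectionVars false
set_option linter.unusedSimpArgs false

universe u

namespace Groth.Agent.Lib.Helper26.KumMain

open IsLocalRing Polynomial Groth.Agent.Lib.Helper26 Groth.Agent.Lib.Helper26.Monog
  Groth.Agent.Lib.Helper26.ASCaseAC Groth.Agent.Lib.Helper26.ASMain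
  Groth.Agent.Lib.Helper26.KumCases


section Aux

variable {A K : Type u} [CommRing A] [IsDomain A] [IsDiscreteValuationRing A] [Field K]
  [Algebra A K] [IsFractionRing A K] (π : A) (hπ : maximalIdeal A = Ideal.span {π})

include hπ in
theorem normal_form_le (ξ : K) (N : ℕ) (b : A)
    (hb : ξ * algebraMap A K π ^ N = algebraMap A K b) :
    (∃ a : A, algebraMap A K a = ξ) ∨
      ∃ (n : ℕ) (u : Aˣ), 0 < n ∧ n ≤ N ∧ ξ * algebraMap A K π ^ n = algebraMap A K u := by
  have hπm : π ∈ maximalIdeal A := by rw [hπ]; exact Ideal.mem_span_singleton_self π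
  rcases normal_form (K := K) π hπ ξ with h | ⟨n, u, hn, hξ⟩
  · exact Or.inl h
  · refine Or.inr ⟨n, u, hn, ?_, hξ⟩
    by_contra hge
    push Not at hge
    obtain ⟨d, hd⟩ : ∃ d, n = N + (d + 1) := ⟨n - N - 1, by omega⟩
    rw [hd, pow_add, ← mul_assoc, hb, ← map_pow, ← map_mul] at hξ
    have h4 : b * π ^ (d + 1) = (u : A) := IsFractionRing.injective A K hξ
    have h5 : (u : A) ∈ maximalIdeal A := by
      rw [← h4]
      exact Ideal.mul_mem_left _ _ (Ideal.pow_mem_of_mem _ hπm _ (by omega))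
    exact h5 u.isUnit

theorem integer_of_eval (Q : A[X]) (d : ℕ) (hd : Q.natDegree ≤ d) (r : A) (m : ℕ)
    (hπK : algebraMap A K π ≠ 0) :
    ∃ b : A, eval₂ (algebraMap A K) (algebraMap A K r / algebraMap A K π ^ m) Q *
      algebraMap A K π ^ (m * d) = algebraMap A K b := by
  refine ⟨∑ i ∈ Finset.range (d + 1), Q.coeff i * r ^ i * π ^ (m * (d - i)), ?_⟩
  rw [eval₂_eq_sum_range' _ (Nat.lt_succ_of_le hd), Finset.sum_mul, map_sum]
  refine Finset.sum_congr rfl (fun i hi => ?_)
  have hi' : i ≤ d := Nat.lt_succ_iff.mp (Finset.mem_range.mp hi)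
  have : m * d = m * i + m * (d - i) := by rw [← mul_add]; congr 1; omega
  rw [this, pow_add, map_mul, map_mul, map_pow, map_pow, div_pow, ← pow_mul]
  field_simp

theorem isUnit_of_residue_ne_zero (x : A) (hx : residue A x ≠ 0) : IsUnit x := by
  by_contra h
  exact hx ((residue_eq_zero_iff x).mpr ((mem_maximalIdeal x).mpr h))

end Aux

section KD

variable {K L : Type u} [Field K] [Field L] [Algebra K L] (p : ℕ)

/-- Kummer data -/
def KD (η : K) (u : L) : Prop :=
  u ^ p = algebraMap K L η ∧ IntermediateField.adjoin K {u} = ⊤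

theorem KD.scale {η : K} {u : L} (h : KD p η u) (c : K) (hc : c ≠ 0) :
    KD p (η * c ^ p) (u * algebraMap K L c) := by
  refine ⟨by rw [mul_pow, h.1, map_mul, map_pow], ?_⟩
  have := adjoin_affine (L := L) c 0 hc u
  rw [map_zero, add_zero, h.2, mul_comm] at this
  exact this

end KD

section Cl

variable {A K L : Type u} [CommRing A] [IsDomain A] [IsDiscreteValuationRing A] [Field K]
  [Algebra A K] [IsFractionRing A K] [Field L] [Algebra K L] [CharZero K]
  (p : ℕ) [hp : Fact p.Prime] [CharP (ResidueField A) p]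
  (ζ : A) (hζ : aeval ζ (cyclotomic p ℤ) = 0) (P : A[X])
  (hP : C ((1 - ζ) ^ p) * P = (1 + C (1 - ζ) * X) ^ p - 1)
  (π : A) (hπ : maximalIdeal A = Ideal.span {π})

include hζ hP in
theorem kd_of_z (ξ : K) (z : L) (hz : eval₂ (gAL A K L) z P = algebraMap K L ξ)
    (hgen : IntermediateField.adjoin K {z} = ⊤) :
    KD p (1 + algebraMap A K (1 - ζ) ^ p * ξ) (1 + gAL A K L (1 - ζ) * z) :=
  ⟨unbridge p ζ P hP ξ z hz, gen_unbridge p ζ hζ z hgen⟩

include hζ hP in
theorem z_of_kd (η : K) (u : L) (h : KD p η u) :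
    eval₂ (gAL A K L) ((u - 1) / gAL A K L (1 - ζ)) P =
      algebraMap K L ((η - 1) / algebraMap A K (1 - ζ) ^ p) ∧
    IntermediateField.adjoin K {(u - 1) / gAL A K L (1 - ζ)} = ⊤ :=
  ⟨bridge p ζ hζ P hP η u h.1, gen_bridge p ζ hζ u h.2⟩

include hζ hP hπ in
theorem cases_of_mem (a : A) (z : L)
    (hz : eval₂ (gAL A K L) z P = algebraMap K L (algebraMap A K a))
    (hgen : IntermediateField.adjoin K {z} = ⊤) : Cases A K L p := by
  rcases caseA p ζ hζ P hP π hπ a z hz hgen with h | h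
  · exact Or.inl h
  · exact Or.inr (Or.inl h)

include hζ hP in
/-- the shift step -/
theorem shift_step (ξ : K) (z : L) (hz : eval₂ (gAL A K L) z P = algebraMap K L ξ)
    (hgen : IntermediateField.adjoin K {z} = ⊤) (s c : K) (hs0 : s ≠ 0)
    (hs : s = 1 + algebraMap A K (1 - ζ) * c) :
    ∃ z' : L, eval₂ (gAL A K L) z' P =
        algebraMap K L ((ξ - eval₂ (algebraMap A K) c P) / s ^ p) ∧
      IntermediateField.adjoin K {z'} = ⊤ := by
  have hwK := wK_ne_zero (K := K) p ζ hζ
  have hkd := kd_of_z p ζ hζ P hP ξ z hz hgen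
  have hkd' := hkd.scale p s⁻¹ (inv_ne_zero hs0)
  obtain ⟨h1, h2⟩ := z_of_kd p ζ hζ P hP _ _ hkd'
  refine ⟨_, ?_, h2⟩
  rw [h1]
  congr 1
  have hf := KumPoly.eval₂_formula p (1 - ζ) P hP (algebraMap A K) c
  rw [← hs] at hf
  generalize algebraMap A K (1 - ζ) = wK at *
  have hsp : s ^ p = 1 + wK ^ p * eval₂ (algebraMap A K) c P := by rw [hf]; ring
  have hsp0 : s ^ p ≠ 0 := pow_ne_zero _ hs0
  rw [inv_pow, div_eq_div_iff (pow_ne_zero _ hwK) hsp0]
  have : ((1 + wK ^ p * ξ) * (s ^ p)⁻¹ - 1) * s ^ p = (1 + wK ^ p * ξ) - s ^ p := by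
    field_simp
  rw [this, hsp]
  ring

section Small

variable (e : ℕ) (ε : Aˣ) (hwe : 1 - ζ = ε * π ^ e)

include hζ hP hπ hwe in
theorem classify_small : ∀ (n : ℕ) (ξ : K) (z : L) (a : Aˣ), 0 < n → n < p * e →
    eval₂ (gAL A K L) z P = algebraMap K L ξ → IntermediateField.adjoin K {z} = ⊤ →
    ξ * algebraMap A K π ^ n = algebraMap A K a → Cases A K L p := by
  intro n
  induction n using Nat.strong_induction_on with
  | _ n ih =>
    intro ξ z a hn hne hz hgen hξ
    haveI := charZeroA (A := A) (K := K)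
    have hp1 : 1 < p := hp.out.one_lt
    have hπK := pi_ne_zero (K := K) π hπ
    have hπm : π ∈ maximalIdeal A := by rw [hπ]; exact Ideal.mem_span_singleton_self π
    by_cases hpn : p ∣ n
    swap
    · exact Or.inr (Or.inr (Or.inl (caseB p ζ hζ P hP π hπ ξ z hz hgen n a hn hpn hξ)))
    obtain ⟨m, rfl⟩ := hpn
    have hm : 0 < m := by
      rcases Nat.eq_zero_or_pos m with h0 | h0
      · rw [h0, mul_zero] at hn; exact absurd hn (lt_irrefl _)
      · exact h0
    have hme : m < e := lt_of_mul_lt_mul_left hne (Nat.zero_le p)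
    by_cases hpow : ∃ r : A, residue A (a : A) = residue A r ^ p
    swap
    · push Not at hpow
      exact Or.inr (Or.inr (Or.inr (caseC p ζ hζ P hP π hπ ξ z hz hgen m hm a hpow hξ)))
    obtain ⟨r, hr⟩ := hpow
    -- the unit `s₀`
    set s₀ : A := 1 + ε * π ^ (e - m) * r with hs₀
    have hs₀res : residue A s₀ = 1 := by
      rw [hs₀, map_add, map_one, map_mul, map_mul, map_pow, (residue_eq_zero_iff π).mpr hπm,
        zero_pow (by omega), mul_zero, zero_mul, add_zero]
    have hs₀u : IsUnit s₀ := isUnit_of_residue_ne_zero s₀ (by rw [hs₀res]; exact one_ne_zero)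
    obtain ⟨s₁, hs₁⟩ := hs₀u
    set c : K := algebraMap A K r / algebraMap A K π ^ m with hc
    have hsK : algebraMap A K s₀ = 1 + algebraMap A K (1 - ζ) * c := by
      rw [hwe, hs₀, hc, map_add, map_one, map_mul, map_mul, map_mul, map_pow, map_pow]
      have : e = (e - m) + m := by omega
      conv_rhs => rw [this, pow_add]
      field_simp
    have hsK0 : algebraMap A K s₀ ≠ 0 := by
      intro h0
      have : s₀ = 0 := (IsFractionRing.injective A K) (by rw [h0, map_zero])
      rw [this, map_zero] at hs₀res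
      exact zero_ne_one hs₀res
    obtain ⟨z', hz', hgen'⟩ := shift_step p ζ hζ P hP ξ z hz hgen (algebraMap A K s₀) c hsK0 hsK
    set ξ' : K := (ξ - eval₂ (algebraMap A K) c P) / algebraMap A K s₀ ^ p with hξ'
    -- integrality of `ξ' π^(pm-1)`
    have hmon := P_monic p ζ hζ P hP
    have hdeg := P_natDegree p ζ hζ P hP
    set Q : A[X] := P - X ^ p with hQ
    have hQdeg : Q.natDegree ≤ p - 1 := by
      have h1 : degree Q < degree P := by
        apply degree_sub_lt_left
        · rw [degree_X_pow, degree_eq_natDegree hmon.ne_zero, hdeg]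
        · exact hmon.ne_zero
        · rw [hmon.leadingCoeff, leadingCoeff_X_pow]
      rw [degree_eq_natDegree hmon.ne_zero, hdeg] at h1
      by_cases hQ0 : Q = 0
      · rw [hQ0, natDegree_zero]; exact Nat.zero_le _
      · rw [degree_eq_natDegree hQ0] at h1
        have : Q.natDegree < p := by exact_mod_cast h1
        omega
    have hPQ : P = X ^ p + Q := by rw [hQ]; ring
    have hevalP : eval₂ (algebraMap A K) c P = c ^ p + eval₂ (algebraMap A K) c Q := by
      conv_lhs => rw [hPQ]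
      rw [eval₂_add, eval₂_pow, eval₂_X]
    obtain ⟨b₂, hb₂⟩ := integer_of_eval (K := K) π Q (p - 1) hQdeg r m hπK
    have hb₁ : ∃ b₁ : A, (a : A) - r ^ p = π * b₁ := by
      have hmem : (a : A) - r ^ p ∈ maximalIdeal A := by
        rw [← residue_eq_zero_iff, map_sub, map_pow, hr, sub_self]
      rw [hπ, Ideal.mem_span_singleton'] at hmem
      obtain ⟨b₁, hb₁⟩ := hmem
      exact ⟨b₁, by rw [← hb₁, mul_comm]⟩
    obtain ⟨b₁, hb₁⟩ := hb₁
    have hN : p * m = (p * m - 1) + 1 := by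
      have : 0 < p * m := Nat.mul_pos hp.out.pos hm
      omega
    have hN2 : p * m - 1 = m * (p - 1) + (m - 1) := by
      obtain ⟨q, rfl⟩ : ∃ q, p = q + 1 := ⟨p - 1, by omega⟩
      obtain ⟨m', rfl⟩ : ∃ m', m = m' + 1 := ⟨m - 1, by omega⟩
      simp only [Nat.add_sub_cancel]
      ring_nf
      omega
    have h1 : (ξ - c ^ p) * algebraMap A K π ^ (p * m - 1) = algebraMap A K b₁ := by
      have h2 : (ξ - c ^ p) * algebraMap A K π ^ (p * m) = algebraMap A K π * algebraMap A K b₁ := by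
        rw [← map_mul, ← hb₁, map_sub, map_pow, sub_mul, hξ, hc, div_pow, ← pow_mul, mul_comm m p]
        field_simp
      rw [hN, pow_succ, ← mul_assoc] at h2
      have h3 : (ξ - c ^ p) * algebraMap A K π ^ (p * m - 1) * algebraMap A K π =
          algebraMap A K b₁ * algebraMap A K π := by rw [h2, mul_comm]
      exact mul_right_cancel₀ hπK h3
    have h2 : eval₂ (algebraMap A K) c Q * algebraMap A K π ^ (p * m - 1) =
        algebraMap A K (b₂ * π ^ (m - 1)) := by
      rw [hN2, pow_add, ← mul_assoc, hb₂, map_mul, map_pow]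
    have hb : ξ' * algebraMap A K π ^ (p * m - 1) =
        algebraMap A K ((b₁ - b₂ * π ^ (m - 1)) * ((s₁⁻¹ : Aˣ) : A) ^ p) := by
      have hinv : algebraMap A K ((s₁⁻¹ : Aˣ) : A) = (algebraMap A K s₀)⁻¹ := by
        apply eq_inv_of_mul_eq_one_left
        rw [← hs₁, ← map_mul, Units.inv_mul, map_one]
      rw [hξ', hevalP, map_mul, map_sub, map_pow, hinv, ← h1, ← h2, div_eq_mul_inv]
      ring
    rcases normal_form_le (K := K) π hπ ξ' _ _ hb with ⟨a', ha'⟩ | ⟨n', a', hn', hle, hξn'⟩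
    · rw [← ha'] at hz'
      exact cases_of_mem p ζ hζ P hP π hπ a' z' hz' hgen'
    · have hlt : n' < p * m := by omega
      exact ih n' hlt ξ' z' a' hn' (hlt.trans hne) hz' hgen' hξn'

include hwe in
omit [CharZero K] [CharP (ResidueField A) p] hp in
theorem xi_mul (η : K) (hπK : algebraMap A K π ≠ 0) :
    ((η - 1) / algebraMap A K (1 - ζ) ^ p) * algebraMap A K π ^ (p * e) =
      (η - 1) * algebraMap A K ((ε⁻¹ : Aˣ) : A) ^ p := by
  have hinv : algebraMap A K ((ε⁻¹ : Aˣ) : A) = (algebraMap A K (ε : A))⁻¹ := by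
    apply eq_inv_of_mul_eq_one_left
    rw [← map_mul, Units.inv_mul, map_one]
  have hε0 : algebraMap A K (ε : A) ≠ 0 := by
    intro h0
    have : (ε : A) = 0 := (IsFractionRing.injective A K) (by rw [h0, map_zero])
    exact ε.ne_zero this
  rw [hwe, map_mul, map_pow, mul_pow, hinv, ← pow_mul, mul_comm e p, inv_pow]
  have hπpe := pow_ne_zero (p * e) hπK
  have hεp := pow_ne_zero p hε0
  generalize algebraMap A K π ^ (p * e) = x at *
  generalize algebraMap A K (ε : A) ^ p = y at *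
  field_simp

include hζ hP hπ hwe in
theorem classify_unit (he : 0 < e) (η₀ : Aˣ) (u : L) (hkd : KD p (algebraMap A K (η₀ : A)) u) :
    Cases A K L p := by
  haveI := charZeroA (A := A) (K := K)
  have hp1 : 1 < p := hp.out.one_lt
  have hπK := pi_ne_zero (K := K) π hπ
  have hπm : π ∈ maximalIdeal A := by rw [hπ]; exact Ideal.mem_span_singleton_self π
  have hεres : residue A (ε : A) * residue A ((ε⁻¹ : Aˣ) : A) = 1 := by
    rw [← map_mul, Units.mul_inv, map_one]
  by_cases hpow : ∃ s₀ : A, residue A (η₀ : A) = residue A s₀ ^ p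
  swap
  · push Not at hpow
    obtain ⟨hz, hgen⟩ := z_of_kd p ζ hζ P hP _ _ hkd
    refine Or.inr (Or.inr (Or.inr (caseC p ζ hζ P hP π hπ _ _ hz hgen e he
      (((η₀ : A) - 1) * ((ε⁻¹ : Aˣ) : A) ^ p) ?_ ?_)))
    · intro r hr
      apply hpow (1 + r * ε)
      rw [map_add, map_one, add_pow_char, one_pow, map_mul, mul_pow, ← hr, map_mul, map_sub,
        map_one, map_pow, mul_assoc, ← mul_pow, mul_comm (residue A ((ε⁻¹ : Aˣ) : A)), hεres,
        one_pow, mul_one]
      ring
    · rw [xi_mul p ζ π e ε hwe _ hπK, map_mul, map_sub, map_one, map_pow]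
  obtain ⟨s₀, hs₀⟩ := hpow
  have hη₀res : residue A (η₀ : A) ≠ 0 := by
    intro h0
    have : (η₀ : A) ∈ maximalIdeal A := (residue_eq_zero_iff _).mp h0
    exact this η₀.isUnit
  have hs₀u : IsUnit s₀ := by
    apply isUnit_of_residue_ne_zero
    intro h0
    rw [h0, zero_pow hp.out.ne_zero] at hs₀
    exact hη₀res hs₀
  obtain ⟨s₁, hs₁⟩ := hs₀u
  have hs₁K0 : algebraMap A K (s₁ : A) ≠ 0 := by
    intro h0
    have : (s₁ : A) = 0 := (IsFractionRing.injective A K) (by rw [h0, map_zero])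
    exact s₁.ne_zero this
  have hinv : algebraMap A K ((s₁⁻¹ : Aˣ) : A) = (algebraMap A K (s₁ : A))⁻¹ := by
    apply eq_inv_of_mul_eq_one_left
    rw [← map_mul, Units.inv_mul, map_one]
  have hkd' := hkd.scale p (algebraMap A K (s₁ : A))⁻¹ (inv_ne_zero hs₁K0)
  set η₁ : A := (η₀ : A) * ((s₁⁻¹ : Aˣ) : A) ^ p with hη₁
  have hη₁K : algebraMap A K (η₀ : A) * (algebraMap A K (s₁ : A))⁻¹ ^ p = algebraMap A K η₁ := by
    rw [hη₁, map_mul, map_pow, hinv]
  rw [hη₁K] at hkd'
  have hη₁res : residue A η₁ = 1 := by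
    have h1 : residue A (s₁ : A) * residue A ((s₁⁻¹ : Aˣ) : A) = 1 := by
      rw [← map_mul, Units.mul_inv, map_one]
    rw [hη₁, map_mul, map_pow, hs₀, ← hs₁, ← mul_pow, h1, one_pow]
  obtain ⟨b, hb⟩ : ∃ b : A, η₁ - 1 = π * b := by
    have hmem : η₁ - 1 ∈ maximalIdeal A := by
      rw [← residue_eq_zero_iff, map_sub, map_one, hη₁res, sub_self]
    rw [hπ, Ideal.mem_span_singleton'] at hmem
    obtain ⟨b, hb⟩ := hmem
    exact ⟨b, by rw [← hb, mul_comm]⟩
  obtain ⟨hz', hgen'⟩ := z_of_kd p ζ hζ P hP _ _ hkd'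
  set ξ' : K := (algebraMap A K η₁ - 1) / algebraMap A K (1 - ζ) ^ p with hξ'
  have hN : p * e = (p * e - 1) + 1 := by
    have : 0 < p * e := Nat.mul_pos hp.out.pos he
    omega
  have hbK : ξ' * algebraMap A K π ^ (p * e - 1) =
      algebraMap A K (b * ((ε⁻¹ : Aˣ) : A) ^ p) := by
    have h1 := xi_mul p ζ π e ε hwe (algebraMap A K η₁) hπK
    rw [← hξ', hN, pow_succ, ← mul_assoc] at h1
    have h2 : algebraMap A K η₁ - 1 = algebraMap A K π * algebraMap A K b := by
      rw [← map_mul, ← hb, map_sub, map_one]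
    rw [h2] at h1
    have h3 : ξ' * algebraMap A K π ^ (p * e - 1) * algebraMap A K π =
        algebraMap A K (b * ((ε⁻¹ : Aˣ) : A) ^ p) * algebraMap A K π := by
      rw [h1, map_mul, map_pow]; ring
    exact mul_right_cancel₀ hπK h3
  rcases normal_form_le (K := K) π hπ ξ' _ _ hbK with ⟨a', ha'⟩ | ⟨n', a', hn', hle, hξn'⟩
  · rw [← ha'] at hz'
    exact cases_of_mem p ζ hζ P hP π hπ a' _ hz' hgen'
  · have hlt : n' < p * e := by omega
    exact classify_small p ζ hζ P hP π hπ e ε hwe n' ξ' _ a' hn' hlt hz' hgen' hξn'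

include hζ hP hπ hwe in
theorem classify (he : 0 < e) (η : K) (u : L) (hkd : KD p η u) : Cases A K L p := by
  haveI := charZeroA (A := A) (K := K)
  have hp1 : 1 < p := hp.out.one_lt
  have hπK := pi_ne_zero (K := K) π hπ
  have hπm : π ∈ maximalIdeal A := by rw [hπ]; exact Ideal.mem_span_singleton_self π
  have hirr := pi_irreducible π hπ
  by_cases hη0 : η = 0
  · left
    have hu := hkd.1
    rw [hη0, map_zero] at hu
    have hu0 : u = 0 := (pow_eq_zero_iff hp.out.ne_zero).mp hu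
    exact ASField.finrank_eq_one_of_mem_range u hkd.2 ⟨0, by rw [map_zero, hu0]⟩
  obtain ⟨a₁, a₂, ha₂, rfl⟩ := IsFractionRing.div_surjective (A := A) η
  have ha₂0 : a₂ ≠ 0 := nonZeroDivisors.ne_zero ha₂
  have ha₁0 : a₁ ≠ 0 := by
    rintro rfl
    rw [map_zero, zero_div] at hη0
    exact hη0 rfl
  have ha₂K : algebraMap A K a₂ ≠ 0 := by
    intro h0
    exact ha₂0 ((IsFractionRing.injective A K) (by rw [h0, map_zero]))
  have hkd₁ := hkd.scale p (algebraMap A K a₂) ha₂K
  have hη₁ : algebraMap A K a₁ / algebraMap A K a₂ * algebraMap A K a₂ ^ p =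
      algebraMap A K (a₁ * a₂ ^ (p - 1)) := by
    rw [map_mul, map_pow]
    have : p = (p - 1) + 1 := by omega
    conv_lhs => rw [this, pow_succ]
    field_simp
  rw [hη₁] at hkd₁
  have hη₀0 : a₁ * a₂ ^ (p - 1) ≠ 0 := mul_ne_zero ha₁0 (pow_ne_zero _ ha₂0)
  obtain ⟨k, v, hv⟩ := IsDiscreteValuationRing.eq_unit_mul_pow_irreducible hη₀0 hirr
  rw [hv] at hkd₁
  by_cases hpk : p ∣ k
  · obtain ⟨k', rfl⟩ := hpk
    have hkd₂ := hkd₁.scale p (algebraMap A K π ^ k')⁻¹ (inv_ne_zero (pow_ne_zero _ hπK))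
    have : algebraMap A K ((v : A) * π ^ (p * k')) * (algebraMap A K π ^ k')⁻¹ ^ p =
        algebraMap A K (v : A) := by
      rw [map_mul, map_pow, inv_pow, ← pow_mul, mul_comm k' p]
      field_simp
    rw [this] at hkd₂
    exact classify_unit p ζ hζ P hP π hπ e ε hwe he v _ hkd₂
  · have hk0 : 0 < k := by
      rcases Nat.eq_zero_or_pos k with h0 | h0
      · exact absurd (h0 ▸ dvd_zero p) hpk
      · exact h0
    have hkd₂ := hkd₁.scale p (algebraMap A K π ^ k)⁻¹ (inv_ne_zero (pow_ne_zero _ hπK))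
    obtain ⟨hz₂, hgen₂⟩ := z_of_kd p ζ hζ P hP _ _ hkd₂
    set η₂ : K := algebraMap A K ((v : A) * π ^ k) * (algebraMap A K π ^ k)⁻¹ ^ p with hη₂
    have hη₂π : η₂ * algebraMap A K π ^ ((p - 1) * k) = algebraMap A K (v : A) := by
      have : p * k = k + (p - 1) * k := by
        obtain ⟨q, rfl⟩ : ∃ q, p = q + 1 := ⟨p - 1, by omega⟩
        simp only [Nat.add_sub_cancel]
        ring
      rw [hη₂, map_mul, map_pow, inv_pow, ← pow_mul, mul_comm k p, this, pow_add]
      field_simp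
    have hpos : 0 < (p - 1) * k := Nat.mul_pos (by omega) hk0
    set a₀ : A := ((v : A) - π ^ ((p - 1) * k)) * ((ε⁻¹ : Aˣ) : A) ^ p with ha₀
    have ha₀u : IsUnit a₀ := by
      apply isUnit_of_residue_ne_zero
      rw [ha₀, map_mul, map_sub, map_pow, map_pow, (residue_eq_zero_iff π).mpr hπm,
        zero_pow hpos.ne', sub_zero]
      have h1 : IsUnit (residue A (v : A)) := v.isUnit.map _
      have h2 : IsUnit (residue A ((ε⁻¹ : Aˣ) : A)) := (ε⁻¹).isUnit.map _
      exact mul_ne_zero h1.ne_zero (pow_ne_zero _ h2.ne_zero)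
    obtain ⟨a₀', ha₀'⟩ := ha₀u
    have hξ₂ : (η₂ - 1) / algebraMap A K (1 - ζ) ^ p * algebraMap A K π ^ ((p - 1) * k + p * e) =
        algebraMap A K (a₀' : A) := by
      rw [pow_add, mul_comm (algebraMap A K π ^ ((p - 1) * k)), ← mul_assoc,
        xi_mul p ζ π e ε hwe _ hπK, ha₀', ha₀, map_mul, map_sub, map_pow, map_pow, ← hη₂π]
      ring
    have hpn : ¬ p ∣ (p - 1) * k + p * e := by
      intro hdvd
      have h1 : p ∣ (p - 1) * k := (Nat.dvd_add_left (dvd_mul_right p e)).mp hdvd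
      rcases (Nat.Prime.dvd_mul hp.out).mp h1 with h2 | h2
      · exact absurd (Nat.le_of_dvd (by omega) h2) (by omega)
      · exact hpk h2
    exact Or.inr (Or.inr (Or.inl (caseB p ζ hζ P hP π hπ _ _ hz₂ hgen₂ _ a₀'
      (by omega) hpn hξ₂)))

end Small

end Cl

section Main

open Polynomial in
theorem main_7159 (p : ℕ) (hp : p.Prime) (A K L : Type u) [CommRing A] [IsDomain A]
    [IsDiscreteValuationRing A] [Field K] [Algebra A K] [IsFractionRing A K] [Field L] [Algebra K L]
    [Algebra A L]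
    [IsScalarTower A K L] [CharZero K] [CharP (IsLocalRing.ResidueField A) p] (ζ : A)
    (hζ : aeval ζ (cyclotomic p ℤ) = 0) (P : A[X])
    (hP : C ((1 - ζ) ^ p) * P = (1 + C (1 - ζ) * X) ^ p - 1) (π : A)
    (hπ : IsLocalRing.maximalIdeal A = Ideal.span {π})
    (ξ : K) (z : L) (hz : aeval z P = algebraMap K L ξ)
    (hgen : IntermediateField.adjoin K {z} = ⊤) :
    let g : A →+* L := algebraMap A L
    let case1 : Prop := Module.finrank K L = 1
    let case2 : Prop := EtRam.IsUnramifiedExt A g ∧ Module.finrank K L = p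
    let case3 : Prop := EtRam.IsTotallyRamified A g ∧ Module.finrank K L = p
    let case4 : Prop := (∃ V : ValuationSubring L, EtRam.Dominates A g V) ∧
      (∀ V V' : ValuationSubring L, EtRam.Dominates A g V → EtRam.Dominates A g V' → V = V') ∧
      ∀ (V : ValuationSubring L) (h : EtRam.Dominates A g V),
        letI : Algebra A V := (RingHom.codRestrict g V h.1).toAlgebra
        ∀ [IsLocalHom (algebraMap A V)],
          EtRam.IsWeaklyUnramified A V ∧
            IsPurelyInseparable (IsLocalRing.ResidueField A) (IsLocalRing.ResidueField V) ∧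
            Module.finrank (IsLocalRing.ResidueField A) (IsLocalRing.ResidueField V) = p
    IsGalois K L ∧ (case1 ∨ case2 ∨ case3 ∨ case4) ∧
      ((∃ a : A, algebraMap A K a = ξ) → case1 ∨ case2) ∧
      (∀ (n : ℕ) (a : Aˣ), 0 < n → ¬ p ∣ n → ξ * algebraMap A K π ^ n = algebraMap A K a → case3) ∧
      (∀ (n : ℕ) (a : A), 0 < n → p ∣ n →
        (∀ r : A, IsLocalRing.residue A a ≠ IsLocalRing.residue A r ^ p) →
          ξ * algebraMap A K π ^ n = algebraMap A K a → case4) := by
  haveI : Fact p.Prime := ⟨hp⟩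
  haveI := charZeroA (A := A) (K := K)
  rw [aeval_def] at hz
  rw [IsScalarTower.algebraMap_eq A K L] at hz ⊢
  intro g case1 case2 case3 case4
  have hz' : eval₂ (gAL A K L) z P = algebraMap K L ξ := hz
  have hirr := pi_irreducible π hπ
  obtain ⟨e, ε, hwe⟩ := IsDiscreteValuationRing.eq_unit_mul_pow_irreducible
    (KumPoly.one_sub_ne_zero p ζ hζ) hirr
  have he : 0 < e := by
    rcases Nat.eq_zero_or_pos e with h0 | h0
    · exfalso
      rw [h0, pow_zero, mul_one] at hwe
      have := KumPoly.one_sub_mem p ζ hζ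
      rw [hwe] at this
      exact this ε.isUnit
    · exact h0
  refine ⟨isGalois p ζ hζ P hP ξ z hz' hgen,
    classify p ζ hζ P hP π hπ e ε hwe he _ _ (kd_of_z p ζ hζ P hP ξ z hz' hgen), ?_, ?_, ?_⟩
  · rintro ⟨a, rfl⟩
    exact caseA p ζ hζ P hP π hπ a z hz' hgen
  · intro n a hn hpn hξ
    exact caseB p ζ hζ P hP π hπ ξ z hz' hgen n a hn hpn hξ
  · intro n a hn hpn ha hξ
    obtain ⟨m, rfl⟩ := hpn
    have hm : 0 < m := by
      rcases Nat.eq_zero_or_pos m with h0 | h0
      · rw [h0, mul_zero] at hn; exact absurd hn (lt_irrefl _)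
      · exact h0
    exact caseC p ζ hζ P hP π hπ ξ z hz' hgen m hm a ha hξ

end Main

end Groth.Agent.Lib.Helper26.KumMain
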