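import Mathlib

/-!
# Invariants of S3 on the lambda-line (helper26)
`final`: elements of k[λ,1/λ,1/(λ-1)] fixed by λ↦1/λ and λ↦1-λ are exactly k[j] (char ≠ 2).
-/

set_option autoImplicit false
set_option linter.style.haveILetI false
set_option linter.unusedSimpArgs false
universe u

namespace Groth.Agent.Lib.Helper26.LambdaInv

open Polynomial

variable {k : Type u} [Field k]

local notation "L" => RatFunc k
local notation "𝕩" => (RatFunc.X : RatFunc k)
local notation "ι" => algebraMap (Polynomial k) (RatFunc k)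

/-- `D = X (X - 1)` -/
noncomputable def D : Polynomial k := X * (X - 1)

/-- `Q = X^2 - X + 1` -/
noncomputable def Q : Polynomial k := X ^ 2 - X + 1

lemma ι_inj : Function.Injective (ι) := IsFractionRing.injective _ _

lemma x_ne : 𝕩 ≠ 0 := RatFunc.X_ne_zero

lemma x1_ne : 𝕩 - 1 ≠ 0 := by
  have h : (X - 1 : Polynomial k) ≠ 0 := by
    have := Polynomial.X_sub_C_ne_zero (1 : k)
    simpa using this
  have h2 : ι (X - 1 : Polynomial k) ≠ 0 := fun h0 => h (ι_inj (by rw [h0, map_zero]))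
  simpa [RatFunc.algebraMap_X] using h2

lemma ιD : ι (D : Polynomial k) = 𝕩 * (𝕩 - 1) := by
  simp [D, RatFunc.algebraMap_X]

lemma ιD_ne : ι (D : Polynomial k) ≠ 0 := by
  rw [ιD]; exact mul_ne_zero x_ne x1_ne

lemma ιQ : ι (Q : Polynomial k) = 𝕩 ^ 2 - 𝕩 + 1 := by
  simp [Q, RatFunc.algebraMap_X]

/-- the `j` function -/
noncomputable def j : RatFunc k := (256 : RatFunc k) * (𝕩 ^ 2 - 𝕩 + 1) ^ 3 / (𝕩 ^ 2 * (𝕩 - 1) ^ 2)

lemma j_eq : (j : RatFunc k) = 256 * ι (Q ^ 3) / ι (D ^ 2) := by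
  rw [j, map_pow, map_pow, ιQ, ιD]; ring

variable (σ τ : RatFunc k ≃ₐ[k] RatFunc k) (hσ : σ (RatFunc.X : RatFunc k) = (RatFunc.X : RatFunc k)⁻¹) (hτ : τ (RatFunc.X : RatFunc k) = 1 - (RatFunc.X : RatFunc k))

include hσ in
lemma σ_ι (P : Polynomial k) : σ (ι P) = aeval 𝕩⁻¹ P := by
  rw [← RatFunc.aeval_X_left_eq_algebraMap, ← Polynomial.aeval_algHom_apply σ, hσ]

include hτ in
lemma τ_ι (P : Polynomial k) : τ (ι P) = ι (P.comp (1 - X)) := by
  rw [← RatFunc.aeval_X_left_eq_algebraMap, ← RatFunc.aeval_X_left_eq_algebraMap,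
    Polynomial.aeval_comp]
  rw [← Polynomial.aeval_algHom_apply τ, hτ]
  simp

lemma D_comp : (D : Polynomial k).comp (1 - X) = D := by
  simp only [D, mul_comp, sub_comp, X_comp, one_comp]; ring

lemma Q_comp : (Q : Polynomial k).comp (1 - X) = Q := by
  simp only [Q, add_comp, sub_comp, pow_comp, X_comp, one_comp]; ring

lemma ιDpow_ne (a : ℕ) : ι ((D : Polynomial k) ^ a) ≠ 0 := by
  rw [map_pow]; exact pow_ne_zero _ ιD_ne

include hτ in
lemma comp_eq_of_τ (a : ℕ) (P : Polynomial k) (h : τ (ι P / ι (D ^ a)) = ι P / ι (D ^ a)) :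
    P.comp (1 - X) = P := by
  rw [map_div₀, τ_ι τ hτ, τ_ι τ hτ, pow_comp, D_comp] at h
  exact ι_inj ((div_left_inj' (ιDpow_ne a)).mp h)

include hσ in
lemma σ_ιD : σ (ι (D : Polynomial k)) = -(𝕩 - 1) / 𝕩 ^ 2 := by
  rw [σ_ι σ hσ]
  have hx := x_ne (k := k)
  simp only [D, map_mul, map_sub, aeval_X, map_one]
  field_simp
  ring

lemma aeval_inv (P : Polynomial k) : aeval (𝕩)⁻¹ P = ι P.reverse / 𝕩 ^ P.natDegree := by
  haveI : Invertible (𝕩)⁻¹ := invertibleOfNonzero (inv_ne_zero x_ne)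
  have h := Polynomial.eval₂_reverse_mul_pow (algebraMap k (RatFunc k)) ((𝕩)⁻¹) P
  rw [invOf_eq_inv, inv_inv] at h
  rw [aeval_def, ← h, ← aeval_def, RatFunc.aeval_X_left_eq_algebraMap, inv_pow, div_eq_mul_inv]

include hσ in
lemma poly_eq_of_σ (a : ℕ) (P : Polynomial k) (h : σ (ι P / ι (D ^ a)) = ι P / ι (D ^ a)) :
    C ((-1 : k) ^ a) * P.reverse * X ^ (3 * a) = P * X ^ P.natDegree := by
  apply ι_inj
  rw [map_div₀, map_pow, map_pow, σ_ι σ hσ, σ_ιD σ hσ, aeval_inv, ιD] at h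
  simp only [map_mul, map_pow, RatFunc.algebraMap_X, RatFunc.algebraMap_C, map_neg, map_one]
  have hx := x_ne (k := k)
  have hx1 := x1_ne (k := k)
  have hpow : (-(𝕩 - 1) / 𝕩 ^ 2) ^ a = (-1) ^ a * (𝕩 - 1) ^ a / 𝕩 ^ (2 * a) := by
    rw [div_pow, neg_pow, pow_mul]
  rw [hpow, mul_pow] at h
  have hm1 : ((-1 : RatFunc k) ^ a) * ((-1 : RatFunc k) ^ a) = 1 := by
    rw [← mul_pow]; simp
  have hm1' : ((-1 : RatFunc k) ^ a) ≠ 0 := pow_ne_zero _ (by simp)
  field_simp at h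
  calc (-1 : RatFunc k) ^ a * ι P.reverse * 𝕩 ^ (3 * a)
      = (-1) ^ a * (ι P.reverse * 𝕩 ^ (2 * a) * 𝕩 ^ a) := by
        rw [show 3 * a = 2 * a + a by ring, pow_add]; ring
    _ = (-1) ^ a * (𝕩 ^ P.natDegree * (-1) ^ a * ι P) := by rw [h]
    _ = ((-1) ^ a * (-1) ^ a) * (ι P * 𝕩 ^ P.natDegree) := by ring
    _ = ι P * 𝕩 ^ P.natDegree := by rw [hm1, one_mul]

include hσ in
lemma const_of_σ (P : Polynomial k) (h : σ (ι P) = ι P) : ∃ c : k, P = C c := by
  have h0 : σ (ι P / ι (D ^ 0)) = ι P / ι (D ^ 0) := by simpa using h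
  have h1 := poly_eq_of_σ σ hσ 0 P h0
  simp only [pow_zero, map_one, one_mul, mul_zero, mul_one] at h1
  by_cases hn : P.natDegree = 0
  · exact ⟨P.coeff 0, Polynomial.eq_C_of_natDegree_eq_zero hn⟩
  · exfalso
    have h2 := congrArg (fun p => Polynomial.coeff p 0) h1
    simp only [coeff_zero_reverse] at h2
    rw [Polynomial.coeff_mul_X_pow'] at h2
    rw [if_neg (by omega)] at h2
    have : P = 0 := Polynomial.leadingCoeff_eq_zero.mp h2
    rw [this] at hn
    exact hn (by simp)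

lemma natDegree_eq_of_eq (a : ℕ) (P : Polynomial k) (hP0 : P.coeff 0 ≠ 0)
    (h : C ((-1 : k) ^ a) * P.reverse * X ^ (3 * a) = P * X ^ P.natDegree) :
    P.natDegree = 3 * a := by
  have hPne : P ≠ 0 := by rintro rfl; simp at hP0
  have hu : ((-1 : k) ^ a) ≠ 0 := pow_ne_zero _ (by simp)
  have hL : C ((-1 : k) ^ a) * P.reverse ≠ 0 := by
    refine mul_ne_zero (by simpa using hu) ?_
    intro h0
    have := congrArg (fun p => Polynomial.coeff p 0) h0
    simp only [coeff_zero_reverse, coeff_zero] at this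
    exact hPne (Polynomial.leadingCoeff_eq_zero.mp this)
  have h1 := congrArg Polynomial.natTrailingDegree h
  rw [Polynomial.natTrailingDegree_mul_X_pow hL, Polynomial.natTrailingDegree_mul_X_pow hPne] at h1
  have h2 : (C ((-1 : k) ^ a) * P.reverse).natTrailingDegree = 0 := by
    rw [Polynomial.natTrailingDegree_eq_zero]
    right
    rw [Polynomial.coeff_C_mul, coeff_zero_reverse]
    exact mul_ne_zero hu (Polynomial.leadingCoeff_ne_zero.mpr hPne)
  have h3 : P.natTrailingDegree = 0 := by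
    rw [Polynomial.natTrailingDegree_eq_zero]; right; exact hP0
  omega

lemma natDegree_one_sub_X : (1 - X : Polynomial k).natDegree = 1 := by
  have : (1 - X : Polynomial k) = -(X - C 1) := by simp
  rw [this, natDegree_neg, natDegree_X_sub_C]

lemma leadingCoeff_one_sub_X : (1 - X : Polynomial k).leadingCoeff = -1 := by
  have : (1 - X : Polynomial k) = -(X - C 1) := by simp
  rw [this, leadingCoeff_neg, leadingCoeff_X_sub_C]

lemma even_natDegree_of_comp (h2 : (2 : k) ≠ 0) (P : Polynomial k) (hP : P ≠ 0)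
    (h : P.comp (1 - X) = P) : Even P.natDegree := by
  have h1 := Polynomial.leadingCoeff_comp (p := P) (q := (1 - X : Polynomial k))
    (by rw [natDegree_one_sub_X]; exact one_ne_zero)
  rw [h, leadingCoeff_one_sub_X] at h1
  have hlc : P.leadingCoeff ≠ 0 := Polynomial.leadingCoeff_ne_zero.mpr hP
  have h3 : ((-1 : k)) ^ P.natDegree = 1 := by
    have : P.leadingCoeff * 1 = P.leadingCoeff * (-1) ^ P.natDegree := by rw [mul_one]; exact h1
    exact (mul_left_cancel₀ hlc this).symm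
  by_contra hodd
  rw [Nat.not_even_iff_odd] at hodd
  rw [hodd.neg_one_pow] at h3
  apply h2
  have : (2 : k) = 1 - (-1) := by ring
  rw [this, h3]; ring

include hσ in
lemma σ_j : σ (j : RatFunc k) = j := by
  have hx := x_ne (k := k)
  have hx1 := x1_ne (k := k)
  have hx1' : (1 : RatFunc k) - 𝕩 ≠ 0 := by
    intro h; apply hx1; rw [← neg_sub, h, neg_zero]
  simp only [j, map_div₀, map_mul, map_pow, map_sub, map_add, map_one, hσ, map_ofNat]
  have e1 : (𝕩)⁻¹ ^ 2 - (𝕩)⁻¹ + 1 = (𝕩 ^ 2 - 𝕩 + 1) / 𝕩 ^ 2 := by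
    field_simp
    ring
  have e2 : (𝕩)⁻¹ ^ 2 * ((𝕩)⁻¹ - 1) ^ 2 = (𝕩 - 1) ^ 2 / 𝕩 ^ 4 := by
    field_simp
    ring
  rw [e1, e2]
  field_simp

include hτ in
lemma τ_j : τ (j : RatFunc k) = j := by
  have hx := x_ne (k := k)
  have hx1 := x1_ne (k := k)
  have hx1' : (1 : RatFunc k) - 𝕩 ≠ 0 := by
    intro h; apply hx1; rw [← neg_sub, h, neg_zero]
  simp only [j, map_div₀, map_mul, map_pow, map_sub, map_add, map_one, hτ, map_ofNat]
  have e1 : (1 - 𝕩) ^ 2 - (1 - 𝕩) + 1 = 𝕩 ^ 2 - 𝕩 + 1 := by ring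
  have e2 : (1 - 𝕩) ^ 2 * (1 - 𝕩 - 1) ^ 2 = 𝕩 ^ 2 * (𝕩 - 1) ^ 2 := by ring
  rw [e1, e2]

omit σ τ in
lemma exists_repr (b : RatFunc k)
    (hb : b ∈ Algebra.adjoin k ({𝕩, (𝕩)⁻¹, (𝕩 - 1)⁻¹} : Set (RatFunc k))) :
    ∃ (a : ℕ) (P : Polynomial k), b = ι P / ι (D ^ a) := by
  have hx := x_ne (k := k)
  have hx1 := x1_ne (k := k)
  induction hb using Algebra.adjoin_induction with
  | mem y hy =>
    rcases hy with rfl | rfl | rfl
    · exact ⟨0, X, by simp [RatFunc.algebraMap_X]⟩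
    · refine ⟨1, X - 1, ?_⟩
      rw [pow_one, ιD]
      simp only [map_sub, RatFunc.algebraMap_X, map_one]
      field_simp
    · refine ⟨1, X, ?_⟩
      rw [pow_one, ιD]
      simp only [RatFunc.algebraMap_X]
      field_simp
  | algebraMap c =>
    refine ⟨0, C c, ?_⟩
    simp [RatFunc.algebraMap_C]
  | add y z _ _ hy hz =>
    obtain ⟨a, P, rfl⟩ := hy
    obtain ⟨a', P', rfl⟩ := hz
    refine ⟨a + a', P * D ^ a' + P' * D ^ a, ?_⟩
    have h1 := ιDpow_ne (k := k) a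
    have h2 := ιDpow_ne (k := k) a'
    rw [pow_add, map_add, map_mul, map_mul, map_mul]
    field_simp
  | mul y z _ _ hy hz =>
    obtain ⟨a, P, rfl⟩ := hy
    obtain ⟨a', P', rfl⟩ := hz
    refine ⟨a + a', P * P', ?_⟩
    have h1 := ιDpow_ne (k := k) a
    have h2 := ιDpow_ne (k := k) a'
    rw [pow_add, map_mul, map_mul]
    field_simp

omit σ τ in
lemma j_pow (m : ℕ) : (j : RatFunc k) ^ m = algebraMap k (RatFunc k) ((256 : k) ^ m) *
    (ι (Q ^ (3 * m)) / ι (D ^ (2 * m))) := by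
  rw [j_eq, div_pow, mul_pow, ← map_pow, ← map_pow, ← pow_mul, ← pow_mul,
    show algebraMap k (RatFunc k) ((256 : k) ^ m) = (256 : RatFunc k) ^ m by
      rw [map_pow, map_ofNat], mul_div_assoc]

include hσ hτ in
theorem main (h2 : (2 : k) ≠ 0) : ∀ (a : ℕ) (P : Polynomial k),
    σ (ι P / ι (D ^ a)) = ι P / ι (D ^ a) → τ (ι P / ι (D ^ a)) = ι P / ι (D ^ a) →
    ι P / ι (D ^ a) ∈ Algebra.adjoin k ({j} : Set (RatFunc k)) := by
  intro a
  induction a with
  | zero =>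
    intro P hs _
    have hs' : σ (ι P) = ι P := by simpa using hs
    obtain ⟨c, rfl⟩ := const_of_σ σ hσ P hs'
    simp only [pow_zero, map_one, div_one]
    rw [RatFunc.algebraMap_C, ← RatFunc.algebraMap_eq_C]
    exact Subalgebra.algebraMap_mem _ c
  | succ a ih =>
    -- first the case `P(0) = 0`
    have H1 : ∀ P : Polynomial k, P.coeff 0 = 0 →
        σ (ι P / ι (D ^ (a + 1))) = ι P / ι (D ^ (a + 1)) →
        τ (ι P / ι (D ^ (a + 1))) = ι P / ι (D ^ (a + 1)) →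
        ι P / ι (D ^ (a + 1)) ∈ Algebra.adjoin k ({j} : Set (RatFunc k)) := by
      intro P hP0 hs ht
      have hcomp := comp_eq_of_τ τ hτ (a + 1) P ht
      have hP1 : P.eval 1 = 0 := by
        have h3 : (P.comp (1 - X)).eval 0 = P.eval 1 := by simp [eval_comp]
        rw [hcomp, ← Polynomial.coeff_zero_eq_eval_zero, hP0] at h3
        exact h3.symm
      have hd1 : (X : Polynomial k) ∣ P := Polynomial.X_dvd_iff.mpr hP0
      have hd2 : (X - 1 : Polynomial k) ∣ P := by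
        have := (Polynomial.dvd_iff_isRoot (p := P) (a := (1 : k))).mpr hP1
        simpa using this
      have hcop : IsCoprime (X : Polynomial k) (X - 1) := ⟨1, -1, by ring⟩
      obtain ⟨P'', hP''⟩ : (D : Polynomial k) ∣ P := hcop.mul_dvd hd1 hd2
      have heq : ι P / ι (D ^ (a + 1)) = ι P'' / ι (D ^ a) := by
        have h1 := ιD_ne (k := k)
        rw [hP'', pow_succ, map_mul, map_mul, map_pow]
        field_simp
      rw [heq] at hs ht ⊢
      exact ih P'' hs ht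
    intro P hs ht
    by_cases hP0 : P.coeff 0 = 0
    · exact H1 P hP0 hs ht
    · have hPne : P ≠ 0 := by rintro rfl; simp at hP0
      have hcomp := comp_eq_of_τ τ hτ (a + 1) P ht
      have hdeg := natDegree_eq_of_eq (a + 1) P hP0 (poly_eq_of_σ σ hσ (a + 1) P hs)
      have heven := even_natDegree_of_comp h2 P hPne hcomp
      rw [hdeg] at heven
      have heven' : Even (a + 1) := by
        rcases Nat.even_mul.mp heven with h3 | h3
        · exact absurd h3 (by decide)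
        · exact h3
      obtain ⟨m, hm⟩ := heven'
      have hm' : a + 1 = 2 * m := by omega
      set c0 := P.coeff 0 with hc0
      have h256 : (256 : k) ≠ 0 := by
        have : (256 : k) = 2 ^ 8 := by norm_num
        rw [this]; exact pow_ne_zero _ h2
      set P' := P - C c0 * Q ^ (3 * m) with hP'
      have hP'0 : P'.coeff 0 = 0 := by
        rw [hP', Polynomial.coeff_sub, Polynomial.coeff_C_mul, Polynomial.coeff_zero_eq_eval_zero
          (Q ^ (3 * m)), eval_pow]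
        simp [Q, hc0]
      have hb' : ι P' / ι (D ^ (a + 1)) = ι P / ι (D ^ (a + 1)) -
          algebraMap k (RatFunc k) (c0 / (256 : k) ^ m) * (j : RatFunc k) ^ m := by
        have h5 : ι (C c0 * Q ^ (3 * m)) = algebraMap k (RatFunc k) c0 * ι (Q ^ (3 * m)) := by
          rw [map_mul, RatFunc.algebraMap_C, RatFunc.algebraMap_eq_C]
        rw [j_pow, hP', map_sub, sub_div, hm', h5, ← mul_assoc, ← map_mul,
          div_mul_cancel₀ _ (pow_ne_zero _ h256), mul_div_assoc]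
      have hs' : σ (ι P' / ι (D ^ (a + 1))) = ι P' / ι (D ^ (a + 1)) := by
        rw [hb', map_sub σ, map_mul σ, hs, AlgEquiv.commutes, map_pow σ, σ_j σ hσ]
      have ht' : τ (ι P' / ι (D ^ (a + 1))) = ι P' / ι (D ^ (a + 1)) := by
        rw [hb', map_sub τ, map_mul τ, ht, AlgEquiv.commutes, map_pow τ, τ_j τ hτ]
      have hmem := H1 P' hP'0 hs' ht'
      have : ι P / ι (D ^ (a + 1)) = ι P' / ι (D ^ (a + 1)) +
          algebraMap k (RatFunc k) (c0 / (256 : k) ^ m) * (j : RatFunc k) ^ m := by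
        rw [hb']; ring
      rw [this]
      refine Subalgebra.add_mem _ hmem (Subalgebra.mul_mem _ (Subalgebra.algebraMap_mem _ _)
        (Subalgebra.pow_mem _ (Algebra.subset_adjoin (Set.mem_singleton _)) m))

include hσ hτ in
theorem final (h2 : (2 : k) ≠ 0) (b : RatFunc k) :
    (b ∈ Algebra.adjoin k ({𝕩, (𝕩)⁻¹, (𝕩 - 1)⁻¹} : Set (RatFunc k)) ∧ σ b = b ∧ τ b = b) ↔
      b ∈ Algebra.adjoin k ({(256 : RatFunc k) * (𝕩 ^ 2 - 𝕩 + 1) ^ 3 /
        (𝕩 ^ 2 * (𝕩 - 1) ^ 2)} : Set (RatFunc k)) := by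
  constructor
  · rintro ⟨hb, hs, ht⟩
    obtain ⟨a, P, rfl⟩ := exists_repr b hb
    exact main σ τ hσ hτ h2 a P hs ht
  · intro hb
    induction hb using Algebra.adjoin_induction with
    | mem y hy =>
      rw [Set.mem_singleton_iff] at hy
      subst hy
      refine ⟨?_, σ_j σ hσ, τ_j τ hτ⟩
      have hX : 𝕩 ∈ Algebra.adjoin k ({𝕩, (𝕩)⁻¹, (𝕩 - 1)⁻¹} : Set (RatFunc k)) :=
        Algebra.subset_adjoin (by simp)
      have hXi : (𝕩)⁻¹ ∈ Algebra.adjoin k ({𝕩, (𝕩)⁻¹, (𝕩 - 1)⁻¹} : Set (RatFunc k)) :=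
        Algebra.subset_adjoin (by simp)
      have hX1 : (𝕩 - 1)⁻¹ ∈ Algebra.adjoin k ({𝕩, (𝕩)⁻¹, (𝕩 - 1)⁻¹} : Set (RatFunc k)) :=
        Algebra.subset_adjoin (by simp)
      have hj : (256 : RatFunc k) * (𝕩 ^ 2 - 𝕩 + 1) ^ 3 / (𝕩 ^ 2 * (𝕩 - 1) ^ 2) =
          algebraMap k (RatFunc k) 256 * (𝕩 ^ 2 - 𝕩 + 1) ^ 3 * ((𝕩)⁻¹ ^ 2 * ((𝕩 - 1)⁻¹) ^ 2) := by
        rw [map_ofNat, div_eq_mul_inv, mul_inv, inv_pow, inv_pow]
      rw [hj]
      refine Subalgebra.mul_mem _ (Subalgebra.mul_mem _ (Subalgebra.algebraMap_mem _ _)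
        (Subalgebra.pow_mem _ (Subalgebra.add_mem _ (Subalgebra.sub_mem _
          (Subalgebra.pow_mem _ hX 2) hX) (Subalgebra.one_mem _)) 3))
        (Subalgebra.mul_mem _ (Subalgebra.pow_mem _ hXi 2) (Subalgebra.pow_mem _ hX1 2))
    | algebraMap c =>
      exact ⟨Subalgebra.algebraMap_mem _ c, AlgEquiv.commutes _ _, AlgEquiv.commutes _ _⟩
    | add y z _ _ hy hz =>
      exact ⟨Subalgebra.add_mem _ hy.1 hz.1, by rw [map_add, hy.2.1, hz.2.1],
        by rw [map_add, hy.2.2, hz.2.2]⟩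
    | mul y z _ _ hy hz =>
      exact ⟨Subalgebra.mul_mem _ hy.1 hz.1, by rw [map_mul, hy.2.1, hz.2.1],
        by rw [map_mul, hy.2.2, hz.2.2]⟩

end Groth.Agent.Lib.Helper26.LambdaInv
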