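import Mathlib

set_option linter.unusedSimpArgs false

open PowerSeries TensorProduct

namespace Groth.Agent.Lib.Helper26.LatticeProj

universe u


section Schanuel

variable {S : Type*} [CommRing S] {F P Q : Type*} [AddCommGroup F] [Module S F]
  [AddCommGroup P] [Module S P] [AddCommGroup Q] [Module S Q]

theorem ker_finite_projective_of_resolution [Module.Projective S F] [Module.Projective S P]
    [Module.Finite S F] [Module.Finite S P] (π : F →ₗ[S] Q) (ε : P →ₗ[S] Q)
    (hπ : Function.Surjective π) (hε : Function.Surjective ε)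
    (d : P →ₗ[S] P) (hd : Function.Injective d) (hdε : LinearMap.range d = LinearMap.ker ε) :
    Module.Finite S (LinearMap.ker π) ∧ Module.Projective S (LinearMap.ker π) := by
  obtain ⟨g, hg⟩ := Module.projective_lifting_property ε π hε
  obtain ⟨h, hh⟩ := Module.projective_lifting_property π ε hπ
  have hg' : ∀ f, ε (g f) = π f := fun f => LinearMap.congr_fun hg f
  have hh' : ∀ p, π (h p) = ε p := fun p => LinearMap.congr_fun hh p
  let e : P ≃ₗ[S] LinearMap.ker ε :=
    (LinearEquiv.ofInjective d hd).trans (LinearEquiv.ofEq _ _ hdε)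
  have he : ∀ p, ((e p : LinearMap.ker ε) : P) = d p := fun p => rfl
  have hgk : ∀ k : LinearMap.ker π, g k ∈ LinearMap.ker ε := by
    intro k
    rw [LinearMap.mem_ker, hg', k.2]
  let gk : LinearMap.ker π →ₗ[S] LinearMap.ker ε :=
    LinearMap.codRestrict _ (g ∘ₗ (LinearMap.ker π).subtype) hgk
  let i : LinearMap.ker π →ₗ[S] F × P :=
    LinearMap.prod (LinearMap.ker π).subtype (e.symm.toLinearMap ∘ₗ gk)
  let r0 : F × P →ₗ[S] F :=
    LinearMap.coprod (LinearMap.id - h ∘ₗ g) (h ∘ₗ d)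
  have hr0 : ∀ z, r0 z ∈ LinearMap.ker π := by
    rintro ⟨f, c⟩
    have h1 : ε (d c) = 0 := by
      have : d c ∈ LinearMap.ker ε := hdε ▸ LinearMap.mem_range_self d c
      exact this
    simp [r0, LinearMap.mem_ker, hh', hg', h1]
  let r : F × P →ₗ[S] LinearMap.ker π := LinearMap.codRestrict _ r0 hr0
  have hri : ∀ k, r (i k) = k := by
    intro k
    apply Subtype.ext
    have h2 : d (e.symm (gk k)) = g k := by
      rw [← he, LinearEquiv.apply_symm_apply]
      rfl
    simp [r, r0, i, h2]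
  have hrs : Function.Surjective r := fun k => ⟨i k, hri k⟩
  exact ⟨Module.Finite.of_surjective r hrs,
    Module.Projective.of_split i r (LinearMap.ext hri)⟩

end Schanuel



section Resolution

variable (R S : Type*) [CommRing R] [CommRing S] [Algebra R S] (t : S)
  (Q : Type*) [AddCommGroup Q] [Module R Q] [Module S Q] [IsScalarTower R S Q]

/-- multiplication by `t` on `Q`, as an `R`-linear map -/
noncomputable def xmap : Q →ₗ[R] Q := (LinearMap.lsmul S Q t).restrictScalars R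

@[simp] lemma xmap_apply (q : Q) : xmap R S t Q q = t • q := rfl

noncomputable def eps : S ⊗[R] Q →ₗ[S] Q := LinearMap.liftBaseChange S (LinearMap.id : Q →ₗ[R] Q)

@[simp] lemma eps_tmul (s : S) (q : Q) : eps R S Q (s ⊗ₜ q) = s • q := by
  simp [eps]

noncomputable def bmap : S ⊗[R] Q →ₗ[S] S ⊗[R] Q := (xmap R S t Q).baseChange S

@[simp] lemma bmap_tmul (s : S) (q : Q) : bmap R S t Q (s ⊗ₜ q) = s ⊗ₜ (t • q) := by
  simp [bmap]

noncomputable def dmap : S ⊗[R] Q →ₗ[S] S ⊗[R] Q := t • LinearMap.id - bmap R S t Q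

lemma dmap_apply (z : S ⊗[R] Q) : dmap R S t Q z = t • z - bmap R S t Q z := rfl

lemma dmap_tmul (s : S) (q : Q) :
    dmap R S t Q (s ⊗ₜ q) = (t * s) ⊗ₜ q - s ⊗ₜ (t • q) := by
  rw [dmap_apply, bmap_tmul, TensorProduct.smul_tmul', smul_eq_mul]

lemma eps_dmap (z : S ⊗[R] Q) : eps R S Q (dmap R S t Q z) = 0 := by
  induction z using TensorProduct.induction_on with
  | zero => simp
  | tmul s q => rw [dmap_tmul, map_sub, eps_tmul, eps_tmul, mul_smul, smul_comm, sub_self]
  | add a b ha hb => rw [map_add, map_add, ha, hb, add_zero]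

lemma surj_eps : Function.Surjective (eps R S Q) := fun q => ⟨1 ⊗ₜ q, by simp⟩

lemma pow_tmul_sub_mem (j : ℕ) : ∀ (s : S) (q : Q),
    (t ^ j * s) ⊗ₜ[R] q - s ⊗ₜ[R] (t ^ j • q) ∈ LinearMap.range (dmap R S t Q) := by
  induction j with
  | zero => intro s q; simp
  | succ j ih =>
    intro s q
    have h1 : (t ^ (j + 1) * s) ⊗ₜ[R] q - s ⊗ₜ[R] (t ^ (j + 1) • q)
        = dmap R S t Q ((t ^ j * s) ⊗ₜ q) + ((t ^ j * s) ⊗ₜ[R] (t • q) - s ⊗ₜ[R] (t ^ j • (t • q))) := by
      rw [dmap_tmul, ← mul_assoc, ← pow_succ', pow_succ, mul_smul]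
      abel
    rw [h1]
    exact Submodule.add_mem _ (LinearMap.mem_range_self _ _) (ih s (t • q))

variable {R S t Q} in
lemma ker_eps_le (M : ℕ) (hQ : ∀ q : Q, t ^ M • q = 0)
    (hdec : ∀ s : S, ∃ (c : Fin M → R) (s' : S),
      s = ∑ j, algebraMap R S (c j) * t ^ (j : ℕ) + t ^ M * s') :
    LinearMap.ker (eps R S Q) ≤ LinearMap.range (dmap R S t Q) := by
  have key : ∀ z : S ⊗[R] Q, z - 1 ⊗ₜ[R] (eps R S Q z) ∈ LinearMap.range (dmap R S t Q) := by
    intro z
    induction z using TensorProduct.induction_on with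
    | zero => simp
    | tmul s q =>
      rw [eps_tmul]
      obtain ⟨c, s', hs⟩ := hdec s
      have h1 : s ⊗ₜ[R] q - 1 ⊗ₜ[R] (s • q)
          = ∑ j : Fin M, c j • ((t ^ (j : ℕ) * 1) ⊗ₜ[R] q - 1 ⊗ₜ[R] (t ^ (j : ℕ) • q))
            + ((t ^ M * s') ⊗ₜ[R] q - s' ⊗ₜ[R] (t ^ M • q)) := by
        rw [hQ q, TensorProduct.tmul_zero, sub_zero]
        conv_lhs => rw [hs]
        rw [TensorProduct.add_tmul, add_smul, TensorProduct.tmul_add, TensorProduct.sum_tmul,
          Finset.sum_smul, TensorProduct.tmul_sum]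
        have h2 : (t ^ M * s') • q = 0 := by rw [mul_comm, mul_smul, hQ, smul_zero]
        rw [h2, TensorProduct.tmul_zero, add_zero, add_sub_right_comm, ← Finset.sum_sub_distrib]
        congr 1
        apply Finset.sum_congr rfl
        intro j _
        rw [smul_sub, mul_one, TensorProduct.smul_tmul', TensorProduct.smul_tmul',
          Algebra.smul_def, Algebra.smul_def, mul_one, mul_smul, algebraMap_smul,
          ← TensorProduct.smul_tmul]
        rw [Algebra.smul_def, mul_one]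
      rw [h1]
      refine Submodule.add_mem _ (Submodule.sum_mem _ fun j _ => ?_) (pow_tmul_sub_mem R S t Q M s' q)
      have := pow_tmul_sub_mem R S t Q (j : ℕ) 1 q
      have h3 : c j • ((t ^ (j : ℕ) * 1) ⊗ₜ[R] q - 1 ⊗ₜ[R] (t ^ (j : ℕ) • q))
          = algebraMap R S (c j) • ((t ^ (j : ℕ) * 1) ⊗ₜ[R] q - 1 ⊗ₜ[R] (t ^ (j : ℕ) • q)) := by
        rw [algebraMap_smul]
      rw [h3]
      exact Submodule.smul_mem _ _ this
    | add a b ha hb =>
      have : a + b - 1 ⊗ₜ[R] (eps R S Q (a + b))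
          = (a - 1 ⊗ₜ[R] (eps R S Q a)) + (b - 1 ⊗ₜ[R] (eps R S Q b)) := by
        rw [map_add, TensorProduct.tmul_add]; abel
      rw [this]
      exact Submodule.add_mem _ ha hb
  intro z hz
  have := key z
  rwa [LinearMap.mem_ker.mp hz, TensorProduct.tmul_zero, sub_zero] at this

variable {R S t Q} in
lemma range_dmap_eq (M : ℕ) (hQ : ∀ q : Q, t ^ M • q = 0)
    (hdec : ∀ s : S, ∃ (c : Fin M → R) (s' : S),
      s = ∑ j, algebraMap R S (c j) * t ^ (j : ℕ) + t ^ M * s') :
    LinearMap.range (dmap R S t Q) = LinearMap.ker (eps R S Q) := by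
  apply le_antisymm
  · rintro _ ⟨z, rfl⟩
    exact eps_dmap R S t Q z
  · exact ker_eps_le M hQ hdec

lemma bmap_pow_tmul (j : ℕ) (s : S) (q : Q) :
    ((bmap R S t Q) ^ j) (s ⊗ₜ q) = s ⊗ₜ (t ^ j • q) := by
  induction j generalizing q with
  | zero => simp
  | succ j ih => rw [pow_succ, Module.End.mul_apply, bmap_tmul, ih, pow_succ, mul_smul]

variable {R S t Q} in
lemma dmap_injective [Module.Flat R Q] (M : ℕ) (hQ : ∀ q : Q, t ^ M • q = 0)
    (ht : ∀ s : S, t * s = 0 → s = 0) : Function.Injective (dmap R S t Q) := by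
  rw [injective_iff_map_eq_zero]
  intro z hz
  rw [dmap_apply, sub_eq_zero] at hz
  have h1 : ∀ j : ℕ, t ^ j • z = ((bmap R S t Q) ^ j) z := by
    intro j
    induction j with
    | zero => simp
    | succ j ih =>
      rw [pow_succ', mul_smul, ih, ← map_smul, hz, pow_succ, Module.End.mul_apply]
  have h2 : ((bmap R S t Q) ^ M) = 0 := by
    apply LinearMap.ext
    intro w
    induction w using TensorProduct.induction_on with
    | zero => simp
    | tmul s q => rw [bmap_pow_tmul, hQ, TensorProduct.tmul_zero, LinearMap.zero_apply]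
    | add a b ha hb => rw [map_add, ha, hb]; simp
  have h3 : t ^ M • z = 0 := by rw [h1, h2, LinearMap.zero_apply]
  -- multiplication by `t` is injective on `S ⊗ Q`
  have hinj : Function.Injective (LinearMap.rTensor Q ((LinearMap.mulLeft R t : S →ₗ[R] S))) := by
    apply Module.Flat.rTensor_preserves_injective_linearMap
    rw [injective_iff_map_eq_zero]
    intro s hs
    exact ht s hs
  have h4 : ∀ w : S ⊗[R] Q, t • w = LinearMap.rTensor Q ((LinearMap.mulLeft R t : S →ₗ[R] S)) w := by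
    intro w
    induction w using TensorProduct.induction_on with
    | zero => simp
    | tmul s q => rw [LinearMap.rTensor_tmul, TensorProduct.smul_tmul']; rfl
    | add a b ha hb => rw [smul_add, map_add, ha, hb]
  have h5 : ∀ j : ℕ, t ^ j • z = 0 → z = 0 := by
    intro j
    induction j with
    | zero => intro h; simpa using h
    | succ j ih =>
      intro h
      apply ih
      rw [pow_succ', mul_smul, h4] at h
      exact hinj (by rw [h, map_zero])
  exact h5 M h3

end Resolution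



section FlatQuot

theorem flat_of_surjective_of_inf {R P Q : Type*} [CommRing R] [AddCommGroup P] [Module R P]
    [Module.Flat R P] [AddCommGroup Q] [Module R Q] (ρ : P →ₗ[R] Q) (hρ : Function.Surjective ρ)
    (h : ∀ I : Ideal R, I.FG → ∀ c ∈ LinearMap.ker ρ, c ∈ I • (⊤ : Submodule R P) →
      c ∈ I • LinearMap.ker ρ) : Module.Flat R Q := by
  rw [Module.Flat.iff_lift_lsmul_comp_subtype_injective]
  intro I hI
  rw [injective_iff_map_eq_zero]
  intro z hz
  set μQ := TensorProduct.lift ((LinearMap.lsmul R Q).comp I.subtype) with hμQ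
  set μP := TensorProduct.lift ((LinearMap.lsmul R P).comp I.subtype) with hμP'
  have hμP : Function.Injective μP :=
    Module.Flat.iff_lift_lsmul_comp_subtype_injective.mp ‹_› hI
  obtain ⟨z', rfl⟩ := LinearMap.lTensor_surjective I hρ z
  have hcomm : ∀ w, μQ (LinearMap.lTensor I ρ w) = ρ (μP w) := by
    intro w
    induction w using TensorProduct.induction_on with
    | zero => simp
    | tmul a p => simp [μQ, μP]
    | add a b ha hb => simp only [map_add, ha, hb]
  have h1 : μP z' ∈ LinearMap.ker ρ := by rw [LinearMap.mem_ker, ← hcomm]; exact hz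
  have h2 : ∀ w, μP w ∈ I • (⊤ : Submodule R P) := by
    intro w
    induction w using TensorProduct.induction_on with
    | zero => simp
    | tmul a p =>
      simp only [μP, TensorProduct.lift.tmul, LinearMap.coe_comp, Function.comp_apply,
        Submodule.subtype_apply, LinearMap.lsmul_apply]
      exact Submodule.smul_mem_smul a.2 Submodule.mem_top
    | add a b ha hb => rw [map_add]; exact Submodule.add_mem _ ha hb
  have h3 := h I hI _ h1 (h2 z')
  have h4 : ∀ p ∈ I • LinearMap.ker ρ,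
      ∃ w : I ⊗[R] P, LinearMap.lTensor I ρ w = 0 ∧ μP w = p := by
    intro p hp
    refine Submodule.smul_induction_on hp ?_ ?_
    · intro a ha κ hκ
      exact ⟨⟨a, ha⟩ ⊗ₜ κ, by simp [LinearMap.mem_ker.mp hκ], by simp [μP]⟩
    · rintro x y ⟨w1, h11, h12⟩ ⟨w2, h21, h22⟩
      exact ⟨w1 + w2, by simp [h11, h21], by simp [h12, h22]⟩
  obtain ⟨w, hw1, hw2⟩ := h4 _ h3
  have : z' = w := hμP hw2.symm
  rw [this, hw1]

end FlatQuot

section PS

variable (R : Type u) [CommRing R] (n M : ℕ)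

noncomputable def polyM : (Fin n → Fin M → R) →ₗ[R] (Fin n → R⟦X⟧) where
  toFun c := fun i => PowerSeries.mk fun k => if h : k < M then c i ⟨k, h⟩ else 0
  map_add' := by
    intro c c'
    ext i k
    simp only [Pi.add_apply, map_add, coeff_mk]
    split_ifs <;> simp
  map_smul' := by
    intro a c
    ext i k
    simp only [Pi.smul_apply, smul_eq_mul, RingHom.id_apply, coeff_mk, coeff_smul]
    split_ifs <;> simp

lemma coeff_polyM (c : Fin n → Fin M → R) (i : Fin n) (k : ℕ) :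
    coeff k (polyM R n M c i) = if h : k < M then c i ⟨k, h⟩ else 0 := by
  simp [polyM]

noncomputable def truncM : (Fin n → R⟦X⟧) →ₗ[R] (Fin n → Fin M → R) where
  toFun f := fun i j => PowerSeries.coeff (j : ℕ) (f i)
  map_add' := by intros; ext; simp
  map_smul' := by intros; ext; simp

lemma truncM_apply (f : Fin n → R⟦X⟧) (i : Fin n) (j : Fin M) :
    truncM R n M f i j = coeff (j : ℕ) (f i) := rfl

lemma truncM_polyM (c : Fin n → Fin M → R) : truncM R n M (polyM R n M c) = c := by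
  ext i j
  simp [truncM_apply, coeff_polyM]

noncomputable def shift1 : R⟦X⟧ →ₗ[R] R⟦X⟧ where
  toFun f := PowerSeries.mk fun k => PowerSeries.coeff (k + M) f
  map_add' := by intros; ext; simp
  map_smul' := by intros; ext; simp

lemma shift1_X_pow_mul (g : R⟦X⟧) : shift1 R M ((X : R⟦X⟧) ^ M * g) = g := by
  ext k
  simp [shift1, coeff_X_pow_mul']

noncomputable def shiftM : (Fin n → R⟦X⟧) →ₗ[R] (Fin n → R⟦X⟧) where
  toFun f := fun i => shift1 R M (f i)
  map_add' := by intros; ext; simp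
  map_smul' := by intros; ext; simp

lemma decomp (f : Fin n → R⟦X⟧) :
    f = polyM R n M (truncM R n M f) + ((X : R⟦X⟧) ^ M) • shiftM R n M f := by
  ext i k
  simp only [Pi.add_apply, Pi.smul_apply, smul_eq_mul, map_add, coeff_polyM, truncM_apply,
    coeff_X_pow_mul', shiftM, shift1, LinearMap.coe_mk, AddHom.coe_mk, coeff_mk]
  by_cases hk : k < M
  · simp [hk, Nat.not_le.mpr hk]
  · have : M ≤ k := Nat.le_of_not_lt hk
    simp [hk, this]

lemma truncM_X_pow_smul (f : Fin n → R⟦X⟧) : truncM R n M (((X : R⟦X⟧) ^ M) • f) = 0 := by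
  ext i j
  simp only [truncM_apply, Pi.smul_apply, smul_eq_mul, coeff_X_pow_mul', Pi.zero_apply]
  simp [Nat.not_le.mpr j.2]

lemma ps_dec (s : R⟦X⟧) : ∃ (c : Fin M → R) (s' : R⟦X⟧),
    s = ∑ j, algebraMap R R⟦X⟧ (c j) * X ^ (j : ℕ) + X ^ M * s' := by
  refine ⟨fun j => coeff (j : ℕ) s, shift1 R M s, ?_⟩
  ext k
  simp only [map_add, map_sum, coeff_X_pow_mul', shift1, LinearMap.coe_mk, AddHom.coe_mk, coeff_mk,
    PowerSeries.algebraMap_apply', Algebra.algebraMap_self, RingHom.id_apply, coeff_C_mul, coeff_X_pow]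
  by_cases hk : k < M
  · rw [Finset.sum_eq_single ⟨k, hk⟩]
    · simp [Nat.not_le.mpr hk]
    · intro j _ hj
      have : k ≠ (j : ℕ) := fun h => hj (Fin.ext h.symm)
      simp [this]
    · intro h; exact absurd (Finset.mem_univ _) h
  · have h1 : M ≤ k := Nat.le_of_not_lt hk
    rw [Finset.sum_eq_zero]
    · simp [h1]
    · intro j _
      have : k ≠ (j : ℕ) := fun h => hk (h ▸ j.2)
      simp [this]

end PS


section Main

variable {R : Type u} [CommRing R] {n M : ℕ}

theorem backward (Λ : Submodule R⟦X⟧ (Fin n → R⟦X⟧))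
    (hΛ : ∀ v : Fin n → R⟦X⟧, ((PowerSeries.X : R⟦X⟧) ^ M) • v ∈ Λ)
    (hQ : Module.Projective R ((Fin n → R⟦X⟧) ⧸ Λ)) :
    Module.Finite R⟦X⟧ Λ ∧ Module.Projective R⟦X⟧ Λ := by
  have hfin : Module.Finite R ((Fin n → R⟦X⟧) ⧸ Λ) := by
    refine Module.Finite.of_surjective ((Λ.mkQ.restrictScalars R) ∘ₗ polyM R n M) ?_
    intro q
    obtain ⟨f, rfl⟩ := Λ.mkQ_surjective q
    refine ⟨truncM R n M f, ?_⟩
    simp only [LinearMap.coe_comp, LinearMap.coe_restrictScalars, Function.comp_apply,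
      Submodule.mkQ_apply]
    rw [eq_comm, Submodule.Quotient.eq]
    have := decomp R n M f
    have h2 : f - (polyM R n M) ((truncM R n M) f) = (X : R⟦X⟧) ^ M • (shiftM R n M) f := by
      rw [sub_eq_iff_eq_add']; exact this
    rw [h2]
    exact hΛ _
  have hQ0 : ∀ q : (Fin n → R⟦X⟧) ⧸ Λ, (X : R⟦X⟧) ^ M • q = 0 := by
    intro q
    obtain ⟨f, rfl⟩ := Λ.mkQ_surjective q
    rw [← map_smul, Submodule.mkQ_apply, Submodule.Quotient.mk_eq_zero]
    exact hΛ f
  have ht : ∀ s : R⟦X⟧, (X : R⟦X⟧) * s = 0 → s = 0 := by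
    intro s hs
    exact PowerSeries.X_mul_cancel (by rw [hs, mul_zero])
  have hflat : Module.Flat R ((Fin n → R⟦X⟧) ⧸ Λ) := inferInstance
  have key := ker_finite_projective_of_resolution (S := R⟦X⟧) Λ.mkQ
    (eps R R⟦X⟧ ((Fin n → R⟦X⟧) ⧸ Λ)) Λ.mkQ_surjective (surj_eps R R⟦X⟧ _)
    (dmap R R⟦X⟧ X ((Fin n → R⟦X⟧) ⧸ Λ)) (dmap_injective M hQ0 ht)
    (range_dmap_eq M hQ0 (ps_dec R M))
  have e : LinearMap.ker Λ.mkQ ≃ₗ[R⟦X⟧] Λ := LinearEquiv.ofEq _ _ Λ.ker_mkQ
  have := key.1
  have := key.2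
  exact ⟨Module.Finite.equiv e, Module.Projective.of_equiv e⟩



/-- the `R`-linear surjection from truncated polynomials onto the quotient -/
noncomputable def rho (Λ : Submodule R⟦X⟧ (Fin n → R⟦X⟧)) (M : ℕ) :
    (Fin n → Fin M → R) →ₗ[R] ((Fin n → R⟦X⟧) ⧸ Λ) :=
  (Λ.mkQ.restrictScalars R) ∘ₗ polyM R n M

lemma mem_ker_rho (Λ : Submodule R⟦X⟧ (Fin n → R⟦X⟧)) (c : Fin n → Fin M → R) :
    c ∈ LinearMap.ker (rho Λ M) ↔ polyM R n M c ∈ Λ := by
  simp [rho, LinearMap.mem_ker, Submodule.Quotient.mk_eq_zero]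

lemma sub_polyM_truncM_mem (Λ : Submodule R⟦X⟧ (Fin n → R⟦X⟧))
    (hΛ : ∀ v : Fin n → R⟦X⟧, ((PowerSeries.X : R⟦X⟧) ^ M) • v ∈ Λ) (f : Fin n → R⟦X⟧) :
    f - polyM R n M (truncM R n M f) ∈ Λ := by
  have h2 : f - (polyM R n M) ((truncM R n M) f) = (X : R⟦X⟧) ^ M • (shiftM R n M) f := by
    rw [sub_eq_iff_eq_add']; exact decomp R n M f
  rw [h2]
  exact hΛ _

lemma rho_surjective (Λ : Submodule R⟦X⟧ (Fin n → R⟦X⟧))
    (hΛ : ∀ v : Fin n → R⟦X⟧, ((PowerSeries.X : R⟦X⟧) ^ M) • v ∈ Λ) :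
    Function.Surjective (rho Λ M) := by
  intro q
  obtain ⟨f, rfl⟩ := Λ.mkQ_surjective q
  refine ⟨truncM R n M f, ?_⟩
  simp only [rho, LinearMap.coe_comp, LinearMap.coe_restrictScalars, Function.comp_apply,
    Submodule.mkQ_apply]
  rw [eq_comm, Submodule.Quotient.eq]
  exact sub_polyM_truncM_mem Λ hΛ f

lemma truncM_mem_ker (Λ : Submodule R⟦X⟧ (Fin n → R⟦X⟧))
    (hΛ : ∀ v : Fin n → R⟦X⟧, ((PowerSeries.X : R⟦X⟧) ^ M) • v ∈ Λ) {ν : Fin n → R⟦X⟧}
    (hν : ν ∈ Λ) : truncM R n M ν ∈ LinearMap.ker (rho Λ M) := by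
  rw [mem_ker_rho]
  have := sub_polyM_truncM_mem Λ hΛ ν
  have h2 : polyM R n M (truncM R n M ν) = ν - (ν - polyM R n M (truncM R n M ν)) := by abel
  rw [h2]
  exact Λ.sub_mem hν this

lemma coeff_mem_of_mem_smul_top (I : Ideal R) (c : Fin n → Fin M → R)
    (hc : c ∈ I • (⊤ : Submodule R (Fin n → Fin M → R))) : ∀ i j, c i j ∈ I := by
  refine Submodule.smul_induction_on hc ?_ ?_
  · intro a ha p _ i j
    exact I.mul_mem_right _ ha
  · intro x y hx hy i j
    exact I.add_mem (hx i j) (hy i j)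

lemma truncM_smul_mem_span (w : R⟦X⟧) (ν : Fin n → R⟦X⟧) :
    truncM R n M (w • ν) ∈ Submodule.span R
      (Set.range fun j : Fin M => truncM R n M (((X : R⟦X⟧) ^ (j : ℕ)) • ν)) := by
  obtain ⟨c, w', hw⟩ := ps_dec R M w
  have h1 : w • ν = ∑ j : Fin M, c j • (((X : R⟦X⟧) ^ (j : ℕ)) • ν)
      + ((X : R⟦X⟧) ^ M) • (w' • ν) := by
    conv_lhs => rw [hw]
    rw [add_smul, Finset.sum_smul, mul_smul]
    congr 1
    apply Finset.sum_congr rfl
    intro j _
    rw [mul_smul, algebraMap_smul]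
  rw [h1, map_add, truncM_X_pow_smul, add_zero, map_sum]
  refine Submodule.sum_mem _ fun j _ => ?_
  rw [map_smul]
  exact Submodule.smul_mem _ _ (Submodule.subset_span ⟨j, rfl⟩)

lemma ker_rho_fg (Λ : Submodule R⟦X⟧ (Fin n → R⟦X⟧))
    (hΛ : ∀ v : Fin n → R⟦X⟧, ((PowerSeries.X : R⟦X⟧) ^ M) • v ∈ Λ) [Module.Finite R⟦X⟧ Λ] :
    (LinearMap.ker (rho Λ M)).FG := by
  obtain ⟨r, g, hg⟩ := Module.Finite.exists_fin (R := R⟦X⟧) (M := Λ)
  have hK : LinearMap.ker (rho Λ M) = Submodule.span R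
      (Set.range fun p : Fin r × Fin M =>
        truncM R n M (((X : R⟦X⟧) ^ (p.2 : ℕ)) • (g p.1 : Fin n → R⟦X⟧))) := by
    apply le_antisymm
    · intro c hc
      rw [mem_ker_rho] at hc
      have h1 : (⟨polyM R n M c, hc⟩ : Λ) ∈ Submodule.span R⟦X⟧ (Set.range g) := by
        rw [hg]; exact Submodule.mem_top
      rw [Submodule.mem_span_range_iff_exists_fun] at h1
      obtain ⟨w, hw⟩ := h1
      have h2 : polyM R n M c = ∑ i, w i • (g i : Fin n → R⟦X⟧) := by
        have := congrArg (Subtype.val) hw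
        simp only [Submodule.coe_sum, Submodule.coe_smul] at this
        exact this.symm
      have h3 : c = ∑ i, truncM R n M (w i • (g i : Fin n → R⟦X⟧)) := by
        rw [← map_sum, ← h2, truncM_polyM]
      rw [h3]
      refine Submodule.sum_mem _ fun i _ => ?_
      have := truncM_smul_mem_span (M := M) (w i) (g i : Fin n → R⟦X⟧)
      refine Submodule.span_mono ?_ this
      rintro _ ⟨j, rfl⟩
      exact ⟨(i, j), rfl⟩
    · rw [Submodule.span_le]
      rintro _ ⟨p, rfl⟩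
      exact truncM_mem_ker Λ hΛ (Λ.smul_mem _ (g p.1).2)
  rw [hK]
  exact Submodule.fg_span (Set.finite_range _)



lemma inf_le (Λ : Submodule R⟦X⟧ (Fin n → R⟦X⟧))
    (hΛ : ∀ v : Fin n → R⟦X⟧, ((PowerSeries.X : R⟦X⟧) ^ M) • v ∈ Λ) [Module.Projective R⟦X⟧ Λ]
    (I : Ideal R) (hI : I.FG) (c : Fin n → Fin M → R) (hcK : c ∈ LinearMap.ker (rho Λ M))
    (hcI : c ∈ I • (⊤ : Submodule R (Fin n → Fin M → R))) :
    c ∈ I • LinearMap.ker (rho Λ M) := by
  classical
  have hcoef := coeff_mem_of_mem_smul_top I c hcI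
  obtain ⟨r, a, ha⟩ := (Submodule.fg_iff_exists_fin_generating_family).mp hI
  have haI : ∀ k, a k ∈ I := fun k => ha ▸ Submodule.subset_span ⟨k, rfl⟩
  have h0 : ∀ i j, ∃ u : Fin r → R, ∑ k, u k • a k = c i j := by
    intro i j
    have := hcoef i j
    rw [← ha, Submodule.mem_span_range_iff_exists_fun] at this
    exact this
  choose u hu using h0
  let U : Fin r → (Fin n → Fin M → R) := fun k i j => u i j k
  have hcU : c = ∑ k, a k • U k := by
    ext i j
    simp only [Finset.sum_apply, Pi.smul_apply, smul_eq_mul, U]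
    rw [← hu i j]
    apply Finset.sum_congr rfl
    intro k _
    rw [smul_eq_mul, mul_comm]
  rw [mem_ker_rho] at hcK
  obtain ⟨s, hs⟩ := (Module.projective_def' (R := R⟦X⟧) (P := Λ)).mp inferInstance
  let lam : Λ := ⟨polyM R n M c, hcK⟩
  let mu : Fin r → Λ := fun k => ⟨((X : R⟦X⟧) ^ M) • polyM R n M (U k), hΛ _⟩
  have h1 : ((X : R⟦X⟧) ^ M) • lam = ∑ k, algebraMap R R⟦X⟧ (a k) • mu k := by
    apply Subtype.ext
    simp only [Submodule.coe_smul, Submodule.coe_sum, lam, mu]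
    conv_lhs => rw [hcU]
    rw [map_sum, Finset.smul_sum]
    apply Finset.sum_congr rfl
    intro k _
    rw [map_smul, algebraMap_smul, smul_comm]
  have h2 : ((X : R⟦X⟧) ^ M) • s lam = ∑ k, algebraMap R R⟦X⟧ (a k) • s (mu k) := by
    rw [← map_smul, h1, map_sum]
    apply Finset.sum_congr rfl
    intro k _
    rw [map_smul]
  let G : Fin r → (Λ →₀ R⟦X⟧) := fun k => (s (mu k)).mapRange (shift1 R M) (map_zero _)
  have h4 : s lam = ∑ k, algebraMap R R⟦X⟧ (a k) • G k := by
    ext ν : 1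
    have h3 := DFunLike.congr_fun h2 ν
    simp only [Finsupp.smul_apply, Finsupp.finsetSum_apply, smul_eq_mul] at h3
    have h3' := congrArg (shift1 R M) h3
    rw [shift1_X_pow_mul, map_sum] at h3'
    rw [h3']
    simp only [Finsupp.smul_apply, Finsupp.finsetSum_apply, smul_eq_mul, G,
      Finsupp.mapRange_apply]
    apply Finset.sum_congr rfl
    intro k _
    rw [← Algebra.smul_def, map_smul, Algebra.smul_def]
  have h5 : lam = ∑ k, algebraMap R R⟦X⟧ (a k) • Finsupp.linearCombination R⟦X⟧ id (G k) := by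
    have := LinearMap.congr_fun hs lam
    simp only [LinearMap.coe_comp, Function.comp_apply, LinearMap.id_coe, id_eq] at this
    rw [← this, h4, map_sum]
    apply Finset.sum_congr rfl
    intro k _
    rw [map_smul]
  have h6 : polyM R n M c
      = ∑ k, a k • ((Finsupp.linearCombination R⟦X⟧ id (G k) : Λ) : Fin n → R⟦X⟧) := by
    have := congrArg Subtype.val h5
    simp only [Submodule.coe_sum, Submodule.coe_smul, lam] at this
    rw [this]
    apply Finset.sum_congr rfl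
    intro k _
    rw [algebraMap_smul]
  have h7 : c = ∑ k, a k •
      truncM R n M ((Finsupp.linearCombination R⟦X⟧ id (G k) : Λ) : Fin n → R⟦X⟧) := by
    conv_lhs => rw [← truncM_polyM R n M c, h6, map_sum]
    apply Finset.sum_congr rfl
    intro k _
    rw [map_smul]
  rw [h7]
  refine Submodule.sum_mem _ fun k _ => ?_
  exact Submodule.smul_mem_smul (haI k) (truncM_mem_ker Λ hΛ (Subtype.property _))

theorem forward (Λ : Submodule R⟦X⟧ (Fin n → R⟦X⟧))
    (hΛ : ∀ v : Fin n → R⟦X⟧, ((PowerSeries.X : R⟦X⟧) ^ M) • v ∈ Λ)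
    [Module.Finite R⟦X⟧ Λ] [Module.Projective R⟦X⟧ Λ] :
    Module.Projective R ((Fin n → R⟦X⟧) ⧸ Λ) := by
  have hflat : Module.Flat R ((Fin n → R⟦X⟧) ⧸ Λ) :=
    flat_of_surjective_of_inf (rho Λ M) (rho_surjective Λ hΛ)
      (fun I hI c hcK hcI => inf_le Λ hΛ I hI c hcK hcI)
  have hfp : Module.FinitePresentation R ((Fin n → R⟦X⟧) ⧸ Λ) :=
    Module.finitePresentation_of_surjective (rho Λ M) (rho_surjective Λ hΛ) (ker_rho_fg Λ hΛ)
  exact Module.Flat.projective_of_finitePresentation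

theorem main (Λ : Submodule R⟦X⟧ (Fin n → R⟦X⟧))
    (hΛ : ∀ v : Fin n → R⟦X⟧, ((PowerSeries.X : R⟦X⟧) ^ M) • v ∈ Λ) :
    (Module.Finite R⟦X⟧ Λ ∧ Module.Projective R⟦X⟧ Λ) ↔
      Module.Projective R ((Fin n → R⟦X⟧) ⧸ Λ) := by
  constructor
  · rintro ⟨h1, h2⟩
    exact forward Λ hΛ
  · exact backward Λ hΛ

end Main

end Groth.Agent.Lib.Helper26.LatticeProj
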