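import Groth.Agent.Lib.Helper7.RosSch5
import Groth.Agent.Lib.Helper21.DSPts
import Groth.Agent.Lib.Helper14.ReducedEtale
import Groth.Prelude.Def_GLinSh
import Groth.Prelude.Def_ChGrp

set_option autoImplicit false
universe u
open CategoryTheory CategoryTheory.Limits MonoidalCategory CartesianMonoidalCategory MonObj GrpObj AlgebraicGeometry

namespace Groth.Agent.Lib.Helper26.LinA

open Groth.Agent.Lib.Helper21.GaPts

section gm
variable {S : Scheme.{u}}

/-- the character `ℤ → B` of a unit -/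
noncomputable def chiOf {B : Type u} [CommRing B] (v : Bˣ) : Multiplicative ℤ →* B :=
  (Units.coeHom B).comp (zpowersHom Bˣ v)

theorem chiOf_apply {B : Type u} [CommRing B] (v : Bˣ) (n : ℤ) :
    chiOf v (Multiplicative.ofAdd n) = ((v ^ n : Bˣ) : B) := by
  simp [chiOf]

/-- the morphism to `𝔾_m` attached to a unit -/
noncomputable def gmOf {X : Over S} (f : Γ(X.left, ⊤)ˣ) : X ⟶ Red.Gm S := dsPt (chiOf f)

theorem dsFn_gmOf {X : Over S} (f : Γ(X.left, ⊤)ˣ) (n : ℤ) :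
    dsFn n (gmOf (S := S) f) = ((f ^ n : Γ(X.left, ⊤)ˣ) : Γ(X.left, ⊤)) := by
  rw [gmOf, dsFn_dsPt, chiOf_apply]

theorem gmOf_comp {X X' : Over S} (g : X' ⟶ X) (f : Γ(X.left, ⊤)ˣ) :
    g ≫ gmOf f = gmOf (Units.map g.left.appTop.hom.toMonoidHom f) := by
  refine dsFn_injective fun n => ?_
  rw [dsFn_comp, dsFn_gmOf, dsFn_gmOf, ← map_zpow]
  rfl

theorem gmOf_mul {X : Over S} (f f' : Γ(X.left, ⊤)ˣ) :
    gmOf (S := S) (f * f') = gmOf f * gmOf f' := by
  refine dsFn_injective fun n => ?_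
  rw [dsFn_mul, dsFn_gmOf, dsFn_gmOf, dsFn_gmOf, mul_zpow, Units.val_mul]

theorem gmOf_one {X : Over S} : gmOf (S := S) (1 : Γ(X.left, ⊤)ˣ) = 1 := by
  refine dsFn_injective fun n => ?_
  rw [dsFn_one, dsFn_gmOf, one_zpow, Units.val_one]

theorem isMonHom_gmOf (G : Over S) [GrpObj G] (f : Γ(G.left, ⊤)ˣ)
    (he : η[G].left.appTop (f : Γ(G.left, ⊤)) = 1)
    (hm : μ[G].left.appTop (f : Γ(G.left, ⊤)) =
      (fst G G).left.appTop (f : Γ(G.left, ⊤)) * (snd G G).left.appTop (f : Γ(G.left, ⊤))) :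
    IsMonHom (gmOf (S := S) f) := by
  have h1 : η[G] ≫ gmOf (S := S) f = η[Red.Gm S] := by
    rw [gmOf_comp]
    have : Units.map η[G].left.appTop.hom.toMonoidHom f = 1 := by
      ext
      exact he
    rw [this, gmOf_one, Hom.one_def, toUnit_unique (toUnit _) (𝟙 _), Category.id_comp]
  have h2 : μ[G] ≫ gmOf (S := S) f = (fst G G ≫ gmOf f) * (snd G G ≫ gmOf f) := by
    rw [gmOf_comp, gmOf_comp, gmOf_comp, ← gmOf_mul]
    congr 1
    ext
    exact hm
  refine ⟨h1, ?_⟩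
  rw [h2, Hom.mul_def, lift_fst_comp_snd_comp]

end gm


section const
variable {k : Type u} [Field k] [IsAlgClosed k]
open Groth.Agent.Lib.Helper7.RosSch

/-- a function nowhere vanishing on closed points is a unit. -/
theorem isUnit_of_closedPoints {Y : Scheme.{u}} (σ : Y ⟶ Spec (CommRingCat.of k))
    [LocallyOfFiniteType σ] (F : Γ(Y, ⊤))
    (h : ∀ y : Y, IsClosed ({y} : Set Y) → y ∈ Y.basicOpen F) : IsUnit F := by
  haveI : JacobsonSpace Y := LocallyOfFiniteType.jacobsonSpace σ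
  have htop : ((Y.basicOpen F : Set Y))ᶜ = ∅ := by
    have hcl : IsClosed ((Y.basicOpen F : Set Y))ᶜ := (Y.basicOpen F).isOpen.isClosed_compl
    rw [← closure_inter_closedPoints hcl]
    have : ((Y.basicOpen F : Set Y))ᶜ ∩ closedPoints Y = ∅ := by
      ext y
      simp only [Set.mem_inter_iff, Set.mem_compl_iff, Set.mem_empty_iff_false, iff_false, not_and]
      intro hy hyc
      exact hy (h y hyc)
    rw [this, closure_empty]
  refine Y.toRingedSpace.isUnit_of_isUnit_germ ⊤ F (fun y hy => ?_)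
  have hy' : y ∈ Y.basicOpen F := by
    by_contra hn
    have : y ∈ ((Y.basicOpen F : Set Y))ᶜ := hn
    rw [htop] at this
    exact this
  exact (Y.mem_basicOpen F y hy).mp hy'

/-- a function vanishing at all closed points of a reduced scheme is zero. -/
theorem eq_zero_of_closedPoints {Y : Scheme.{u}} (σ : Y ⟶ Spec (CommRingCat.of k))
    [LocallyOfFiniteType σ] [IsReduced Y] (F : Γ(Y, ⊤))
    (h : ∀ y : Y, IsClosed ({y} : Set Y) → y ∉ Y.basicOpen F) : F = 0 := by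
  haveI : JacobsonSpace Y := LocallyOfFiniteType.jacobsonSpace σ
  rw [← basicOpen_eq_bot_iff]
  by_contra hne
  have hne' : ((Y.basicOpen F : Set Y)).Nonempty := by
    rw [Set.nonempty_iff_ne_empty]
    intro h0
    exact hne (TopologicalSpace.Opens.ext h0)
  have hlc : IsLocallyClosed ((Y.basicOpen F : Set Y)) := (Y.basicOpen F).isOpen.isLocallyClosed
  have := JacobsonSpace.closure_inter_closedPoints_eq_closure hlc
  have hne2 : ((Y.basicOpen F : Set Y) ∩ closedPoints Y).Nonempty := by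
    rw [Set.nonempty_iff_ne_empty]
    intro h0
    rw [h0, closure_empty] at this
    exact hne'.closure.ne_empty this.symm
  obtain ⟨y, hy, hyc⟩ := hne2
  exact h y hyc hy

theorem const_of_isUnit (G : Over (Spec (CommRingCat.of k))) [GrpObj G] [Smooth G.hom]
    [ConnectedSpace ↥G.left]
    (hχ : ∀ (χ : G ⟶ Red.Gm (Spec (CommRingCat.of k))) [IsMonHom χ], χ = 1)
    (F : Γ(G.left, ⊤)) (hF : IsUnit F) :
    F = (toUnit G).left.appTop (η[G].left.appTop F) := by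
  have hc : IsUnit (pb η[G] F) := hF.map _
  obtain ⟨c, hc⟩ := hc
  set F' : Γ(G.left, ⊤) := F * pb (toUnit G) ↑c⁻¹ with hF'
  have hF'u : IsUnit F' := hF.mul ((Units.isUnit _).map _)
  have hF'e : pb η[G] F' = 1 := by
    rw [hF', map_mul, ← pb_comp, toUnit_unique (η[G] ≫ toUnit G) (𝟙 _), pb_id, ← hc, Units.mul_inv]
  have hF'm := character_of_unit G F' hF'u hF'e
  haveI : IsMonHom (gmOf (S := Spec (CommRingCat.of k)) hF'u.unit) :=
    isMonHom_gmOf G hF'u.unit hF'e hF'm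
  have h1 := hχ (gmOf hF'u.unit)
  have h2 := congrArg (dsFn (1 : ℤ)) h1
  rw [dsFn_gmOf, dsFn_one, zpow_one, IsUnit.unit_spec] at h2
  have h3 : pb (toUnit G) (↑c⁻¹ : Γ((𝟙_ (Over (Spec (CommRingCat.of k)))).left, ⊤)) *
      pb (toUnit G) ↑c = 1 := by
    rw [← map_mul, Units.inv_mul, map_one]
  change F = pb (toUnit G) (pb η[G] F)
  rw [← hc]
  calc F = F * (pb (toUnit G) (↑c⁻¹ : Γ((𝟙_ (Over (Spec (CommRingCat.of k)))).left, ⊤)) *
      pb (toUnit G) ↑c) := by rw [h3, _root_.mul_one]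
    _ = F' * pb (toUnit G) ↑c := by rw [hF']; ring
    _ = pb (toUnit G) ↑c := by rw [h2, _root_.one_mul]

end const

section ext
variable {k : Type u} [Field k] [IsAlgClosed k]

/-- morphisms from a reduced scheme into a scheme separated over a third one, over which they
agree, are equal as soon as they agree on `k`-points. -/
theorem ext_of_kpts {Y V X : Over (Spec (CommRingCat.of k))} [LocallyOfFiniteType Y.hom]
    [IsReduced Y.left] (π : V ⟶ X) [IsSeparated π.left] (f g : Y ⟶ V) (hπ : f ≫ π = g ≫ π)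
    (H : ∀ p : 𝟙_ (Over (Spec (CommRingCat.of k))) ⟶ Y, p ≫ f = p ≫ g) : f = g := by
  apply Over.OverMorphism.ext
  haveI : JacobsonSpace Y.left := LocallyOfFiniteType.jacobsonSpace Y.hom
  refine ext_of_fromSpecResidueField_eq f.left g.left π.left (closedPoints Y.left) ?_ ?_
    (congrArg (fun t => t.left) hπ)
  · rw [dense_iff_closure_eq]
    exact closure_closedPoints
  · intro y hy
    rw [← cancel_epi (Spec.map (residueFieldIsoBase Y.hom y hy).hom)]
    have h1 := H (Over.homMk (pointOfClosedPoint Y.hom y hy) (pointOfClosedPoint_comp Y.hom y hy))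
    have h2 := congrArg (fun t => t.left) h1
    simp only [Over.comp_left, Over.homMk_left] at h2
    rw [← Category.assoc, ← Category.assoc]
    exact h2

end ext


section coord
variable {S : Scheme.{u}} {G X V : Over S} [GrpObj G]

theorem appLE_congr_hom {Y Z : Scheme.{u}} {q q' : Y ⟶ Z} (hq : q = q') (W : Z.Opens)
    (e : ⊤ ≤ q ⁻¹ᵁ W) (e' : ⊤ ≤ q' ⁻¹ᵁ W) : q.appLE W ⊤ e = q'.appLE W ⊤ e' := by
  subst hq; rfl

theorem appLE_top_top {Y Z : Scheme.{u}} (q : Y ⟶ Z) (e : (⊤ : Y.Opens) ≤ q ⁻¹ᵁ ⊤) :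
    q.appLE ⊤ ⊤ e = q.appTop := by
  rw [Scheme.Hom.appTop, Scheme.Hom.app_eq_appLE]
  rfl

theorem eq_of_appLE_eq {Y Z : Scheme.{u}} {O : Z.Opens} (hO : IsAffineOpen O) (f g : Y ⟶ Z)
    (hf : ⊤ ≤ f ⁻¹ᵁ O) (hg : ⊤ ≤ g ⁻¹ᵁ O) (key : f.appLE O ⊤ hf = g.appLE O ⊤ hg) : f = g := by
  haveI : IsAffine O.toScheme := hO
  have h2 : f.resLE O ⊤ hf = g.resLE O ⊤ hg := by
    apply ext_of_isAffine
    rw [Scheme.Hom.appTop, Scheme.Hom.appTop, Scheme.Hom.resLE_app_top, Scheme.Hom.resLE_app_top,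
      key]
  have h3 : (⊤ : Y.Opens).ι ≫ f = (⊤ : Y.Opens).ι ≫ g := by
    rw [← Scheme.Hom.resLE_comp_ι f hf, ← Scheme.Hom.resLE_comp_ι g hg, h2]
  have h4 := congrArg (fun t => Y.topIso.inv ≫ t) h3
  simp only [← Category.assoc, Scheme.toIso_inv_ι, Category.id_comp] at h4
  exact h4

theorem ringHom_eq_of_eval₂_surjective {R B C : Type u} [CommRing R] [CommRing B] [CommRing C]
    (i : R →+* B) (b : B) (hs : Function.Surjective (Polynomial.eval₂RingHom i b))
    (φ₁ φ₂ : B →+* C) (h1 : φ₁.comp i = φ₂.comp i) (h2 : φ₁ b = φ₂ b) : φ₁ = φ₂ := by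
  rw [← RingHom.cancel_right hs]
  apply Polynomial.ringHom_ext
  · intro r
    simp only [RingHom.comp_apply, Polynomial.coe_eval₂RingHom, Polynomial.eval₂_C]
    exact congrArg (fun t => t r) h1
  · simp only [RingHom.comp_apply, Polynomial.coe_eval₂RingHom, Polynomial.eval₂_X]
    exact h2

/-- two morphisms into the total space of a line bundle which land over the same affine open of
the base, agree after projection and pull back the fibre coordinate to the same function are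
equal. -/
theorem eq_of_coord (π : V ⟶ X) [IsAffineHom π.left] {W U : X.left.Opens}
    (hW : IsAffineOpen W) (hWU : W ≤ U) (y : Γ(V.left, π.left ⁻¹ᵁ U))
    (hy : GLinSh.IsFibreCoord π U y)
    {Y : Scheme.{u}} (f g : Y ⟶ V.left) (hπ : f ≫ π.left = g ≫ π.left)
    (hf : ⊤ ≤ f ⁻¹ᵁ (π.left ⁻¹ᵁ W)) (hg : ⊤ ≤ g ⁻¹ᵁ (π.left ⁻¹ᵁ W))
    (h : f.appLE (π.left ⁻¹ᵁ W) ⊤ hf (GLinSh.res π hWU y) =
      g.appLE (π.left ⁻¹ᵁ W) ⊤ hg (GLinSh.res π hWU y)) : f = g := by
  have hO : IsAffineOpen (π.left ⁻¹ᵁ W) := hW.preimage π.left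
  have key : f.appLE (π.left ⁻¹ᵁ W) ⊤ hf = g.appLE (π.left ⁻¹ᵁ W) ⊤ hg := by
    apply CommRingCat.hom_ext
    refine ringHom_eq_of_eval₂_surjective (π.left.app W).hom (GLinSh.res π hWU y)
      (hy W hW hWU).2 _ _ ?_ h
    have e1 : π.left.app W ≫ f.appLE (π.left ⁻¹ᵁ W) ⊤ hf = (f ≫ π.left).appLE W ⊤ hf := by
      rw [Scheme.Hom.comp_appLE]
    have e2 : π.left.app W ≫ g.appLE (π.left ⁻¹ᵁ W) ⊤ hg = (g ≫ π.left).appLE W ⊤ hg := by
      rw [Scheme.Hom.comp_appLE]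
    have e3 := appLE_congr_hom hπ W hf hg
    exact congrArg CommRingCat.Hom.hom (e1.trans (e3.trans e2.symm))
  exact eq_of_appLE_eq hO f g hf hg key

theorem exists_affine_coord (π : V ⟶ X) (A : GLinSh.LinAtlas π) (x : X.left) :
    ∃ (U W : X.left.Opens) (hWU : W ≤ U) (y : Γ(V.left, π.left ⁻¹ᵁ U)),
      y ∈ A.chart U ∧ IsAffineOpen W ∧ x ∈ W := by
  obtain ⟨U, hxU, y, hy⟩ := A.cover x
  obtain ⟨W, hW, hxW, hWU⟩ := exists_isAffineOpen_mem_and_subset (x := x) (U := U) hxU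
  exact ⟨U, W, hWU, y, hy, hW, hxW⟩

theorem locallyOfFiniteType_of_atlas (π : V ⟶ X) (A : GLinSh.LinAtlas π) :
    LocallyOfFiniteType π.left := by
  haveI := A.affine
  have hQ := (RingHom.finiteType_stableUnderComposition.stableUnderCompositionWithLocalizationAway
    RingHom.finiteType_holdsForLocalizationAway).1
  rw [HasRingHomProperty.iff_exists_appLE (P := @LocallyOfFiniteType) hQ]
  intro v
  obtain ⟨U, W, hWU, y, hy, hW, hxW⟩ := exists_affine_coord π A (π.left v)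
  refine ⟨⟨W, hW⟩, ⟨π.left ⁻¹ᵁ W, hW.preimage π.left⟩, hxW, le_rfl, ?_⟩
  have hsurj := (A.coord U y hy W hW hWU).2
  have : (π.left.appLE W (π.left ⁻¹ᵁ W) le_rfl).hom =
      (Polynomial.eval₂RingHom (π.left.app W).hom (GLinSh.res π hWU y)).comp
        (algebraMap Γ(X.left, W) (Polynomial Γ(X.left, W))) := by
    rw [Scheme.Hom.appLE_eq_app]
    ext r
    simp [Polynomial.algebraMap_eq]
  rw [this]
  exact RingHom.FiniteType.comp_surjective (RingHom.finiteType_algebraMap.mpr inferInstance) hsurj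

theorem isReduced_of_atlas (π : V ⟶ X) (A : GLinSh.LinAtlas π) [IsReduced X.left] :
    IsReduced V.left := by
  haveI := A.affine
  apply +allowSynthFailures isReduced_of_isReduced_stalk
  intro v
  obtain ⟨U, W, hWU, y, hy, hW, hxW⟩ := exists_affine_coord π A (π.left v)
  have hO : IsAffineOpen (π.left ⁻¹ᵁ W) := hW.preimage π.left
  have hbij := A.coord U y hy W hW hWU
  haveI : _root_.IsReduced (Polynomial Γ(X.left, W)) := ⟨fun p hp => by
    ext i
    have := (Polynomial.isNilpotent_iff.mp hp) i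
    simpa using this.eq_zero⟩
  have : _root_.IsReduced Γ(V.left, π.left ⁻¹ᵁ W) := by
    let e := RingEquiv.ofBijective _ hbij
    exact isReduced_of_injective e.symm e.symm.injective
  let _ := V.left.presheaf.algebra_section_stalk (U := π.left ⁻¹ᵁ W) ⟨v, hxW⟩
  have := hO.isLocalization_stalk ⟨v, hxW⟩
  exact isReduced_localizationPreserves (hO.primeIdealOf ⟨v, hxW⟩).asIdeal.primeCompl
    (V.left.presheaf.stalk v) inferInstance

/-- a linear lift maps the zero section into the zero section (topological form). -/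
theorem mem_basicOpen_of_linear (a : AlgGrp.Action G X) (π : V ⟶ X) (Φ : AlgGrp.Action G V)
    (chart : ∀ U : X.left.Opens, Set (Γ(V.left, π.left ⁻¹ᵁ U)))
    (hπ : Φ.act ≫ π = (G ◁ π) ≫ a.act) (hl : GLinSh.IsLinearLift a π Φ chart hπ)
    (U U' : X.left.Opens) (y : Γ(V.left, π.left ⁻¹ᵁ U)) (y' : Γ(V.left, π.left ⁻¹ᵁ U'))
    (hy : y ∈ chart U) (hy' : y' ∈ chart U') (p : (G ⊗ V).left)
    (hp : p ∈ GLinSh.liftOpen a π U U')
    (h : Φ.act.left p ∈ V.left.basicOpen y') : (snd G V).left p ∈ V.left.basicOpen y := by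
  obtain ⟨c, hc⟩ := hl U U' y y' hy hy'
  have h1 : p ∈ (G ⊗ V).left.basicOpen (Φ.act.left.appLE (π.left ⁻¹ᵁ U') (GLinSh.liftOpen a π U U')
      (GLinSh.liftOpen_le_act a π Φ hπ) y') := by
    rw [Scheme.basicOpen_appLE]
    exact ⟨hp, h⟩
  rw [hc, Scheme.basicOpen_mul] at h1
  have h2 := h1.2
  rw [Scheme.basicOpen_appLE] at h2
  exact h2.2

end coord


section main
variable {k : Type u} [Field k] [IsAlgClosed k]
variable {G X V : Over (Spec (CommRingCat.of k))} [GrpObj G]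

section one
variable (a : AlgGrp.Action G X) (π : V ⟶ X) (Φ : AlgGrp.Action G V)
  (chart : ∀ U : X.left.Opens, Set (Γ(V.left, π.left ⁻¹ᵁ U)))
  (hπ : Φ.act ≫ π = (G ◁ π) ≫ a.act) (hl : GLinSh.IsLinearLift a π Φ chart hπ)

include hl in
theorem zero_of_linear {T : Over (Spec (CommRingCat.of k))} (g : T ⟶ G) (v : T ⟶ V) (pt : T.left)
    (U U' : X.left.Opens) (y : Γ(V.left, π.left ⁻¹ᵁ U)) (y' : Γ(V.left, π.left ⁻¹ᵁ U'))
    (hy : y ∈ chart U) (hy' : y' ∈ chart U')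
    (hU : (v ≫ π).left pt ∈ U) (hU' : (lift g v ≫ Φ.act ≫ π).left pt ∈ U')
    (h : (lift g v ≫ Φ.act).left pt ∈ V.left.basicOpen y') : v.left pt ∈ V.left.basicOpen y := by
  have := mem_basicOpen_of_linear a π Φ chart hπ hl U U' y y' hy hy' ((lift g v).left pt) ?_ ?_
  · rwa [← Scheme.Hom.comp_apply, ← Over.comp_left, lift_snd] at this
  · constructor
    · show ((G ◁ π) ≫ a.act).left ((lift g v).left pt) ∈ U'
      rw [← Scheme.Hom.comp_apply, ← Over.comp_left, ← hπ]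
      exact hU'
    · show ((G ◁ π) ≫ snd G X).left ((lift g v).left pt) ∈ U
      rw [← Scheme.Hom.comp_apply, ← Over.comp_left, whiskerLeft_snd, lift_snd_assoc]
      exact hU
  · rwa [← Scheme.Hom.comp_apply, ← Over.comp_left]

include hl in
theorem nonzero_of_linear {T : Over (Spec (CommRingCat.of k))} (g : T ⟶ G) (v : T ⟶ V)
    (pt : T.left)
    (U U' : X.left.Opens) (y : Γ(V.left, π.left ⁻¹ᵁ U)) (y' : Γ(V.left, π.left ⁻¹ᵁ U'))
    (hy : y ∈ chart U) (hy' : y' ∈ chart U')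
    (hU : (v ≫ π).left pt ∈ U) (hU' : (lift g v ≫ Φ.act ≫ π).left pt ∈ U')
    (h : v.left pt ∈ V.left.basicOpen y) :
    (lift g v ≫ Φ.act).left pt ∈ V.left.basicOpen y' := by
  have hinv : lift g⁻¹ (lift g v ≫ Φ.act) ≫ Φ.act = v := by
    rw [← AlgGrp.Action.lift_mul_act, inv_mul_cancel, AlgGrp.Action.lift_one_act]
  refine zero_of_linear a π Φ chart hπ hl g⁻¹ (lift g v ≫ Φ.act) pt U' U y' y hy' hy ?_ ?_ ?_
  · rw [Category.assoc]
    exact hU'
  · rw [← Category.assoc, hinv]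
    exact hU
  · rw [hinv]
    exact h

end one


section two
open Groth.Agent.Lib.Helper7.RosSch

variable [Smooth G.hom] [ConnectedSpace ↥G.left]
  (hχ : ∀ (χ : G ⟶ Red.Gm (Spec (CommRingCat.of k))) [IsMonHom χ], χ = 1)
  (a : AlgGrp.Action G X) (π : V ⟶ X) (A : GLinSh.LinAtlas π)
  (Φ₁ Φ₂ : AlgGrp.Action G V) (h₁ : Φ₁.act ≫ π = (G ◁ π) ≫ a.act)
  (h₂ : Φ₂.act ≫ π = (G ◁ π) ≫ a.act)
  (hl₁ : GLinSh.IsLinearLift a π Φ₁ A.chart h₁) (hl₂ : GLinSh.IsLinearLift a π Φ₂ A.chart h₂)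

include hχ hl₁ hl₂ in
theorem orbit_const (v₀ : 𝟙_ (Over (Spec (CommRingCat.of k))) ⟶ V) :
    lift (𝟙 G)⁻¹ (lift (𝟙 G) (toUnit G ≫ v₀) ≫ Φ₂.act) ≫ Φ₁.act = toUnit G ≫ v₀ := by
  haveI := A.affine
  haveI : Subsingleton ↥(𝟙_ (Over (Spec (CommRingCat.of k)))).left :=
    inferInstanceAs (Subsingleton (PrimeSpectrum k))
  let pt : ↥(𝟙_ (Over (Spec (CommRingCat.of k)))).left :=
    (IsLocalRing.closedPoint k : PrimeSpectrum k)
  set ψ := lift (𝟙 G)⁻¹ (lift (𝟙 G) (toUnit G ≫ v₀) ≫ Φ₂.act) ≫ Φ₁.act with hψ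
  have hψ1 : ∀ {T' : Over (Spec (CommRingCat.of k))} (g : T' ⟶ G),
      g ≫ ψ = lift g⁻¹ (lift g (toUnit T' ≫ v₀) ≫ Φ₂.act) ≫ Φ₁.act := by
    intro T' g
    rw [hψ, ← Category.assoc, comp_lift, ← Category.assoc, comp_lift, GrpObj.comp_inv,
      Category.comp_id, ← Category.assoc, toUnit_unique (g ≫ toUnit G) (toUnit T')]
  have hproj₁ : ∀ {T' : Over (Spec (CommRingCat.of k))} (g : T' ⟶ G) (v : T' ⟶ V),
      lift g v ≫ Φ₁.act ≫ π = lift g (v ≫ π) ≫ a.act := fun g v => by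
    rw [h₁, lift_whiskerLeft_assoc]
  have hproj₂ : ∀ {T' : Over (Spec (CommRingCat.of k))} (g : T' ⟶ G) (v : T' ⟶ V),
      lift g v ≫ Φ₂.act ≫ π = lift g (v ≫ π) ≫ a.act := fun g v => by
    rw [h₂, lift_whiskerLeft_assoc]
  have hψ2 : ψ ≫ π = toUnit G ≫ v₀ ≫ π := by
    rw [hψ, Category.assoc, hproj₁, Category.assoc, hproj₂, ← AlgGrp.Action.lift_mul_act,
      inv_mul_cancel, AlgGrp.Action.lift_one_act, Category.assoc]
  obtain ⟨U, W, hWU, y, hy, hW, hxW⟩ := exists_affine_coord π A ((v₀ ≫ π).left pt)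
  have hconst : ∀ z : G.left, (toUnit G ≫ v₀ ≫ π).left z = (v₀ ≫ π).left pt := fun z => by
    rw [Over.comp_left, Scheme.Hom.comp_apply]
    congr 1
    exact Subsingleton.elim _ _
  have hf : ⊤ ≤ ψ.left ⁻¹ᵁ (π.left ⁻¹ᵁ W) := by
    intro z _
    show π.left (ψ.left z) ∈ W
    rw [← Scheme.Hom.comp_apply, ← Over.comp_left, hψ2, hconst]
    exact hxW
  have hg : ⊤ ≤ (toUnit G ≫ v₀).left ⁻¹ᵁ (π.left ⁻¹ᵁ W) := by
    intro z _
    show π.left ((toUnit G ≫ v₀).left z) ∈ W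
    rw [← Scheme.Hom.comp_apply, ← Over.comp_left, Category.assoc, hconst]
    exact hxW
  apply Over.OverMorphism.ext
  refine eq_of_coord π hW hWU y (A.coord U y hy) ψ.left (toUnit G ≫ v₀).left ?_ hf hg ?_
  · rw [← Over.comp_left, ← Over.comp_left, hψ2, Category.assoc]
  set F := ψ.left.appLE (π.left ⁻¹ᵁ W) ⊤ hf (GLinSh.res π hWU y) with hF
  have hv₀ : ⊤ ≤ v₀.left ⁻¹ᵁ (π.left ⁻¹ᵁ W) := by
    intro z _
    show π.left (v₀.left z) ∈ W
    rw [← Scheme.Hom.comp_apply, ← Over.comp_left, Subsingleton.elim z pt]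
    exact hxW
  set c₀ := v₀.left.appLE (π.left ⁻¹ᵁ W) ⊤ hv₀ (GLinSh.res π hWU y) with hc₀
  have hF₀ : (toUnit G ≫ v₀).left.appLE (π.left ⁻¹ᵁ W) ⊤ hg (GLinSh.res π hWU y) =
      (toUnit G).left.appTop c₀ := by
    have e1 := Scheme.Hom.appLE_comp_appLE (toUnit G).left v₀.left (π.left ⁻¹ᵁ W) ⊤ ⊤ hv₀ le_top
    have e2 := congrArg (fun t => t.hom (GLinSh.res π hWU y)) e1
    refine e2.symm.trans ?_
    rw [appLE_top_top]
    rfl
  rw [hF₀]
  -- membership criterion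
  have hmem : ∀ (g : 𝟙_ (Over (Spec (CommRingCat.of k))) ⟶ G),
      g.left pt ∈ G.left.basicOpen F ↔ (g ≫ ψ).left pt ∈ V.left.basicOpen y := by
    intro g
    rw [hF, Scheme.basicOpen_appLE, Scheme.basicOpen_res]
    constructor
    · rintro ⟨-, h⟩
      exact h.2
    · intro h
      exact ⟨trivial, ⟨hf (show g.left pt ∈ (⊤ : G.left.Opens) from trivial), h⟩⟩
  -- the two directions along a point
  have hx₀U : (v₀ ≫ π).left pt ∈ U := hWU hxW
  have hgψ : ∀ (g : 𝟙_ (Over (Spec (CommRingCat.of k))) ⟶ G),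
      g ≫ ψ = lift g⁻¹ (lift g v₀ ≫ Φ₂.act) ≫ Φ₁.act := by
    intro g
    rw [hψ1, toUnit_unique (toUnit _) (𝟙 _), Category.id_comp]
  have hgψπ : ∀ (g : 𝟙_ (Over (Spec (CommRingCat.of k))) ⟶ G),
      ((g ≫ ψ) ≫ π).left pt ∈ U := by
    intro g
    rw [Category.assoc, hψ2, ← Category.assoc, ← Category.assoc,
      toUnit_unique (g ≫ toUnit G) (𝟙 _), Category.id_comp]
    exact hx₀U
  have hfwd : ∀ (g : 𝟙_ (Over (Spec (CommRingCat.of k))) ⟶ G),
      v₀.left pt ∈ V.left.basicOpen y → (g ≫ ψ).left pt ∈ V.left.basicOpen y := by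
    intro g hnz
    obtain ⟨U', hx₁, y', hy'⟩ := A.cover ((lift g v₀ ≫ Φ₂.act ≫ π).left pt)
    have s1 := nonzero_of_linear a π Φ₂ A.chart h₂ hl₂ g v₀ pt U U' y y' hy hy' hx₀U hx₁ hnz
    have hU₂ : (lift g⁻¹ (lift g v₀ ≫ Φ₂.act) ≫ Φ₁.act ≫ π).left pt ∈ U := by
      have := hgψπ g
      rwa [hgψ, Category.assoc] at this
    have s2 := nonzero_of_linear a π Φ₁ A.chart h₁ hl₁ g⁻¹ (lift g v₀ ≫ Φ₂.act) pt U' U y' y hy' hy
      (by rw [Category.assoc]; exact hx₁) hU₂ s1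
    rw [hgψ]
    exact s2
  have hbwd : ∀ (g : 𝟙_ (Over (Spec (CommRingCat.of k))) ⟶ G),
      (g ≫ ψ).left pt ∈ V.left.basicOpen y → v₀.left pt ∈ V.left.basicOpen y := by
    intro g hnz
    obtain ⟨U', hx₁, y', hy'⟩ := A.cover ((lift g v₀ ≫ Φ₂.act ≫ π).left pt)
    have hU₂ : (lift g⁻¹ (lift g v₀ ≫ Φ₂.act) ≫ Φ₁.act ≫ π).left pt ∈ U := by
      have := hgψπ g
      rwa [hgψ, Category.assoc] at this
    rw [hgψ] at hnz
    have s1 := zero_of_linear a π Φ₁ A.chart h₁ hl₁ g⁻¹ (lift g v₀ ≫ Φ₂.act) pt U' U y' y hy' hy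
      (by rw [Category.assoc]; exact hx₁) hU₂ hnz
    exact zero_of_linear a π Φ₂ A.chart h₂ hl₂ g v₀ pt U U' y y' hy hy' hx₀U hx₁ s1
  -- closed points of `G` are `k`-points
  have hkpt : ∀ z : G.left, IsClosed ({z} : Set G.left) →
      ∃ g : 𝟙_ (Over (Spec (CommRingCat.of k))) ⟶ G, g.left pt = z := by
    intro z hz
    exact ⟨Over.homMk (pointOfClosedPoint G.hom z hz) (pointOfClosedPoint_comp G.hom z hz),
      pointOfClosedPoint_apply G.hom z hz _⟩
  by_cases hnz : v₀.left pt ∈ V.left.basicOpen y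
  · -- nonzero vector
    have hFu : IsUnit F := by
      refine isUnit_of_closedPoints G.hom F (fun z hz => ?_)
      obtain ⟨g, rfl⟩ := hkpt z hz
      exact (hmem g).mpr (hfwd g hnz)
    have hFc := const_of_isUnit G hχ F hFu
    rw [hFc]
    congr 1
    -- η^* F = c₀
    have hη : η[G] ≫ ψ = v₀ := by
      have := hgψ η[G]
      rw [this]
      have h1 : (η[G] : 𝟙_ (Over (Spec (CommRingCat.of k))) ⟶ G) = 1 := by
        rw [Hom.one_def, toUnit_unique (toUnit _) (𝟙 _), Category.id_comp]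
      rw [h1, inv_one, AlgGrp.Action.lift_one_act, AlgGrp.Action.lift_one_act]
    have e1 := Scheme.Hom.appLE_comp_appLE η[G].left ψ.left (π.left ⁻¹ᵁ W) ⊤ ⊤ hf le_top
    have e2 := congrArg (fun t => t.hom (GLinSh.res π hWU y)) e1
    have e3 : (η[G].left ≫ ψ.left).appLE (π.left ⁻¹ᵁ W) ⊤
        (le_top.trans ((TopologicalSpace.Opens.map η[G].left.base).map (homOfLE hf)).le) =
        v₀.left.appLE (π.left ⁻¹ᵁ W) ⊤ hv₀ :=
      appLE_congr_hom (by rw [← Over.comp_left, hη]) _ _ _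
    rw [e3] at e2
    exact e2
  · -- zero vector
    haveI := isIntegral_of_smooth_connected G
    have hF0 : F = 0 := by
      refine eq_zero_of_closedPoints G.hom F (fun z hz hzF => ?_)
      obtain ⟨g, rfl⟩ := hkpt z hz
      exact hnz (hbwd g ((hmem g).mp hzF))
    have hc0 : c₀ = 0 := by
      haveI : IsReduced (𝟙_ (Over (Spec (CommRingCat.of k)))).left :=
        inferInstanceAs (IsReduced (Spec (CommRingCat.of k)))
      rw [← basicOpen_eq_bot_iff]
      ext z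
      simp only [TopologicalSpace.Opens.coe_bot, Set.mem_empty_iff_false, iff_false]
      intro hz
      rw [Subsingleton.elim z pt, hc₀, SetLike.mem_coe, Scheme.basicOpen_appLE,
        Scheme.basicOpen_res] at hz
      exact hnz hz.2.2
    rw [hF0, hc0, map_zero]


include hχ hl₁ hl₂ in
theorem lift_unique [LocallyOfFiniteType G.hom] [LocallyOfFiniteType X.hom] [IsReduced X.left] :
    Φ₁.act = Φ₂.act := by
  haveI := A.affine
  haveI : LocallyOfFiniteType π.left := locallyOfFiniteType_of_atlas π A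
  haveI : IsReduced V.left := isReduced_of_atlas π A
  haveI : LocallyOfFiniteType V.hom := by
    rw [← Over.w π]
    infer_instance
  haveI hs1 : Smooth (snd G V).left := by
    rw [Over.snd_left]
    infer_instance
  haveI : LocallyOfFiniteType (G ⊗ V).hom := by
    rw [← Over.w (snd G V)]
    infer_instance
  haveI : IsReduced (G ⊗ V).left :=
    Groth.Agent.Lib.Helper14.isReduced_of_smooth_scheme (snd G V).left
  refine ext_of_kpts π Φ₁.act Φ₂.act (h₁.trans h₂.symm) (fun p => ?_)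
  have hp : p = lift (p ≫ fst G V) (p ≫ snd G V) := by
    rw [← comp_lift, lift_fst_snd, Category.comp_id]
  set g₀ := p ≫ fst G V
  set v₀ := p ≫ snd G V
  rw [hp]
  have hc := orbit_const hχ a π A Φ₁ Φ₂ h₁ h₂ hl₁ hl₂ v₀
  have h3 : g₀ ≫ _ = g₀ ≫ _ := congrArg (fun t => g₀ ≫ t) hc
  rw [← Category.assoc, comp_lift, ← Category.assoc, comp_lift, GrpObj.comp_inv,
    Category.comp_id, ← Category.assoc, ← Category.assoc, toUnit_unique (g₀ ≫ toUnit G) (𝟙 _),
    Category.id_comp] at h3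
  -- h3 : lift g₀⁻¹ (lift g₀ v₀ ≫ Φ₂.act) ≫ Φ₁.act = v₀
  have h4 : lift g₀ _ ≫ Φ₁.act = lift g₀ _ ≫ Φ₁.act := congrArg (fun t => lift g₀ t ≫ Φ₁.act) h3
  rw [← AlgGrp.Action.lift_mul_act, mul_inv_cancel, AlgGrp.Action.lift_one_act] at h4
  exact h4.symm

end two

end main

end Groth.Agent.Lib.Helper26.LinA
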