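import Mathlib.RingTheory.Unramified.LocalStructure
import Mathlib.RingTheory.Smooth.Fiber
import Mathlib.RingTheory.Unramified.LocalRing

/-!
# Local structure of unramified / étale local homomorphisms
-/

namespace Groth.Agent.Lib.Helper26

universe u

open IsLocalRing

section

variable {A B E : Type u} [CommRing A] [CommRing B] [CommRing E] [Algebra A B] [Algebra A E]
  [IsLocalRing B] (ψ : E →ₐ[A] B)

/-- The prime of `E` below the maximal ideal of `B`. -/
def primeBelow : Ideal E := (maximalIdeal B).comap ψ.toRingHom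

instance : (primeBelow ψ).IsPrime := Ideal.comap_isPrime _ _

lemma mem_primeCompl_primeBelow_iff (y : E) : y ∈ (primeBelow ψ).primeCompl ↔ IsUnit (ψ y) := by
  simp [primeBelow, Ideal.primeCompl]

/-- The induced map from the localization. -/
noncomputable def localizedMap : Localization.AtPrime (primeBelow ψ) →ₐ[A] B :=
  IsLocalization.liftAlgHom (M := (primeBelow ψ).primeCompl) (f := ψ)
    (fun y => (mem_primeCompl_primeBelow_iff ψ y).mp y.2)

lemma localizedMap_algebraMap (x : E) :
    localizedMap ψ (algebraMap E (Localization.AtPrime (primeBelow ψ)) x) = ψ x := by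
  simp [localizedMap]

lemma localizedMap_surjective (h1 : ∀ b : B, ∃ x y : E, IsUnit (ψ y) ∧ b * ψ y = ψ x) :
    Function.Surjective (localizedMap ψ) := by
  intro b
  obtain ⟨x, y, hy, hb⟩ := h1 b
  refine ⟨IsLocalization.mk' _ x (⟨y, (mem_primeCompl_primeBelow_iff ψ y).mpr hy⟩ :
    (primeBelow ψ).primeCompl), ?_⟩
  apply hy.mul_right_cancel
  rw [hb]
  have h3 := localizedMap_algebraMap ψ y
  have h4 : localizedMap ψ (IsLocalization.mk' _ x (⟨y, (mem_primeCompl_primeBelow_iff ψ y).mpr hy⟩ :
      (primeBelow ψ).primeCompl)) * localizedMap ψ (algebraMap E _ y) = ψ x := by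
    rw [← map_mul, IsLocalization.mk'_spec, localizedMap_algebraMap]
  rw [h3] at h4
  exact h4

lemma localizedMap_injective (h2 : ∀ x : E, ψ x = 0 → ∃ y : E, IsUnit (ψ y) ∧ y * x = 0) :
    Function.Injective (localizedMap ψ) := by
  rw [injective_iff_map_eq_zero]
  intro z hz
  obtain ⟨x, s, rfl⟩ := IsLocalization.exists_mk'_eq (primeBelow ψ).primeCompl z
  have hx : ψ x = 0 := by
    rw [← localizedMap_algebraMap ψ x, ← IsLocalization.mk'_spec _ x s, map_mul, hz, zero_mul]
  obtain ⟨y, hy, hyx⟩ := h2 x hx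
  rw [IsLocalization.mk'_eq_zero_iff]
  exact ⟨⟨y, (mem_primeCompl_primeBelow_iff ψ y).mpr hy⟩, hyx⟩

theorem exists_algEquiv_localization_quotient
    (h1 : ∀ b : B, ∃ x y : E, IsUnit (ψ y) ∧ b * ψ y = ψ x) :
    ∃ (𝔮 : Ideal E) (_ : 𝔮.IsPrime) (I : Ideal (Localization.AtPrime 𝔮)),
      Nonempty (B ≃ₐ[A] (Localization.AtPrime 𝔮 ⧸ I)) :=
  ⟨primeBelow ψ, inferInstance, RingHom.ker (localizedMap ψ),
    ⟨(Ideal.quotientKerAlgEquivOfSurjective (localizedMap_surjective ψ h1)).symm⟩⟩

theorem exists_algEquiv_localization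
    (h1 : ∀ b : B, ∃ x y : E, IsUnit (ψ y) ∧ b * ψ y = ψ x)
    (h2 : ∀ x : E, ψ x = 0 → ∃ y : E, IsUnit (ψ y) ∧ y * x = 0) :
    ∃ (𝔮 : Ideal E) (_ : 𝔮.IsPrime), Nonempty (B ≃ₐ[A] Localization.AtPrime 𝔮) :=
  ⟨primeBelow ψ, inferInstance,
    ⟨(AlgEquiv.ofBijective (localizedMap ψ)
      ⟨localizedMap_injective ψ h2, localizedMap_surjective ψ h1⟩).symm⟩⟩

end

section

variable (A B : Type u) [CommRing A] [CommRing B] [IsLocalRing B] [Algebra A B]
  [Algebra.EssFiniteType A B]

/-- The prime of the finite type model below the maximal ideal. -/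
noncomputable def essPrime : Ideal (Algebra.EssFiniteType.subalgebra A B) :=
  (maximalIdeal B).comap (algebraMap (Algebra.EssFiniteType.subalgebra A B) B)

instance : (essPrime A B).IsPrime := Ideal.comap_isPrime _ _

lemma essSubmonoid_eq : Algebra.EssFiniteType.submonoid A B = (essPrime A B).primeCompl := by
  ext c
  simp [Algebra.EssFiniteType.submonoid, essPrime, Ideal.primeCompl, IsUnit.mem_submonoid_iff]

instance isLocalization_essPrime : IsLocalization.AtPrime B (essPrime A B) := by
  unfold IsLocalization.AtPrime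
  rw [← essSubmonoid_eq]
  infer_instance

end

section

variable {A B : Type u} [CommRing A] [CommRing B] [IsLocalRing B] [Algebra A B]
  [Algebra.EssFiniteType A B]

/-- The common part of the local structure theorems: given a surjection from `E` onto a principal
localization `C_f` of the finite type model `C` of `B` (with `f` invertible in `B`), the ring `B`
is a quotient of a localization of `E` at a prime. -/
theorem exists_algEquiv_of_surjective_away {E : Type u} [CommRing E] [Algebra A E]
    (f : Algebra.EssFiniteType.subalgebra A B) (hf : f ∉ essPrime A B)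
    (φ : E →ₐ[A] Localization.Away f) (hφ : Function.Surjective φ) :
    (∃ (𝔮 : Ideal E) (_ : 𝔮.IsPrime) (I : Ideal (Localization.AtPrime 𝔮)),
      Nonempty (B ≃ₐ[A] (Localization.AtPrime 𝔮 ⧸ I))) ∧
    (Function.Injective φ →
      ∃ (𝔮 : Ideal E) (_ : 𝔮.IsPrime), Nonempty (B ≃ₐ[A] Localization.AtPrime 𝔮)) := by
  let C := Algebra.EssFiniteType.subalgebra A B
  let 𝔯 := essPrime A B
  let D := Localization.Away f
  have hfu : IsUnit (algebraMap C B f) :=
    IsLocalization.map_units B (⟨f, hf⟩ : 𝔯.primeCompl)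
  let g' : D →ₐ[C] B := IsLocalization.liftAlgHom (M := Submonoid.powers f)
    (f := Algebra.ofId C B) (by
      rintro ⟨_, n, rfl⟩
      rw [map_pow]
      exact IsUnit.pow n hfu)
  let ψ : E →ₐ[A] B := (g'.restrictScalars A).comp φ
  have hψ : ∀ x, ψ x = g' (φ x) := fun x => rfl
  have h1 : ∀ b : B, ∃ x y : E, IsUnit (ψ y) ∧ b * ψ y = ψ x := by
    intro b
    obtain ⟨⟨c, s⟩, hb⟩ := IsLocalization.surj 𝔯.primeCompl b
    obtain ⟨x, hx⟩ := hφ (algebraMap C D c)
    obtain ⟨y, hy⟩ := hφ (algebraMap C D s)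
    refine ⟨x, y, ?_, ?_⟩
    · rw [hψ, hy, g'.commutes]; exact IsLocalization.map_units B s
    · rw [hψ, hψ, hx, hy, g'.commutes, g'.commutes]; exact hb
  refine ⟨exists_algEquiv_localization_quotient ψ h1, fun hinj => ?_⟩
  refine exists_algEquiv_localization ψ h1 ?_
  intro x hx
  obtain ⟨⟨c, t⟩, hc⟩ := IsLocalization.surj (Submonoid.powers f) (φ x)
  have htu : IsUnit (algebraMap C B t) := by
    obtain ⟨_, n, rfl⟩ := t
    simpa using hfu.pow n
  have hc0 : algebraMap C B c = 0 := by
    have := congrArg g' hc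
    rw [map_mul, ← hψ, hx, zero_mul, g'.commutes] at this
    exact this.symm
  obtain ⟨s, hs⟩ := (IsLocalization.map_eq_zero_iff 𝔯.primeCompl B c).mp hc0
  obtain ⟨y, hy⟩ := hφ (algebraMap C D (s * t))
  refine ⟨y, ?_, ?_⟩
  · rw [hψ, hy, g'.commutes, map_mul]
    exact (IsLocalization.map_units B s).mul htu
  · apply hinj
    rw [map_mul, hy, map_zero, map_mul, mul_assoc, mul_comm (algebraMap C D t), hc, ← map_mul, hs,
      map_zero]

end

end Groth.Agent.Lib.Helper26
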