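import Groth.Agent.S2255

set_option autoImplicit false
universe u
open CategoryTheory AlgebraicGeometry TopologicalSpace

namespace Groth.Agent.Lib.Helper26.MaxPoints

theorem maximal_iff {Y : Type u} [TopologicalSpace Y] [QuasiSober Y] [T0Space Y] (y : Y) :
    (∀ y' : Y, y' ⤳ y → y' = y) ↔ closure {y} ∈ irreducibleComponents Y := by
  constructor
  · intro h
    have hirr : IsIrreducible (closure ({y} : Set Y)) := isIrreducible_singleton.closure
    obtain ⟨C, hC, hyC⟩ := exists_mem_irreducibleComponents_subset_of_isIrreducible _ hirr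
    have hCirr : IsIrreducible C := hC.1
    have hCcl : IsClosed C := isClosed_of_mem_irreducibleComponents C hC
    obtain ⟨η, hη⟩ := QuasiSober.sober hCirr hCcl
    have hyη : η ⤳ y := by
      rw [specializes_iff_mem_closure, hη.def]
      exact hyC (subset_closure rfl)
    have := h η hyη
    subst this
    rw [hη.def]
    exact hC
  · intro h y' hy'
    have hsub : closure ({y} : Set Y) ⊆ closure {y'} := by
      rw [← specializes_iff_closure_subset]
      exact hy'
    have hirr : IsIrreducible (closure ({y'} : Set Y)) := isIrreducible_singleton.closure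
    have heq : closure ({y'} : Set Y) ⊆ closure {y} := h.2 hirr hsub
    have : y ⤳ y' := by
      rw [specializes_iff_closure_subset]
      exact heq
    exact (hy'.antisymm this).eq

end Groth.Agent.Lib.Helper26.MaxPoints

namespace Groth.Agent.Lib.Helper26.MaxPoints

theorem main {X Y : Scheme.{u}} (f : X ⟶ Y) [QuasiCompact f] :
    [IsDominant f,
     ∀ y : Y, (∀ y' : Y, y' ⤳ y → y' = y) → y ∈ Set.range f.base,
     ∀ y : Y, (∀ y' : Y, y' ⤳ y → y' = y) → ∃ x : X, (∀ x' : X, x' ⤳ x → x' = x) ∧ f.base x = y].TFAE := by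
  have h13 := Groth.Agent.S2255.result f
  tfae_have 1 → 3 := by
    intro h y hy
    obtain ⟨x, hx, hxy⟩ := h13.mp h y ((maximal_iff y).mp hy)
    exact ⟨x, (maximal_iff x).mpr hx, hxy⟩
  tfae_have 3 → 2 := by
    intro h y hy
    obtain ⟨x, -, hxy⟩ := h y hy
    exact ⟨x, hxy⟩
  tfae_have 2 → 1 := by
    intro h
    refine ⟨fun z => ?_⟩
    have hirr : IsIrreducible (closure ({z} : Set Y)) := isIrreducible_singleton.closure
    obtain ⟨C, hC, hzC⟩ := exists_mem_irreducibleComponents_subset_of_isIrreducible _ hirr
    have hCcl : IsClosed C := isClosed_of_mem_irreducibleComponents C hC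
    obtain ⟨η, hη⟩ := QuasiSober.sober hC.1 hCcl
    have hηmax : ∀ y' : Y, y' ⤳ η → y' = η := (maximal_iff η).mpr (by rw [hη.def]; exact hC)
    have hηr := h η hηmax
    have : C ⊆ closure (Set.range f.base) := by
      rw [← hη.def]
      exact closure_mono (Set.singleton_subset_iff.mpr hηr)
    exact this (hzC (subset_closure rfl))
  tfae_finish

end Groth.Agent.Lib.Helper26.MaxPoints
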