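import Mathlib
import Groth.Agent.Lib.Helper22.Horseshoe.LeftLES

set_option autoImplicit false
set_option linter.style.haveILetI false
set_option linter.unusedSectionVars false

namespace Groth.Agent.Lib.Helper26.TorSES

open CategoryTheory CategoryTheory.Limits MonoidalCategory
open Groth.Agent.Lib.Helper22.Horseshoe

universe u

variable {R : Type u} [CommRing R]

section General

variable (X : ModuleCat.{u} R) (S : ShortComplex (ModuleCat.{u} R)) (hS : S.ShortExact)

/-- `L₀F f` is mono when `F f` is, for right exact `F`. -/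
lemma mono_leftDerived_zero {C D : Type*} [Category C] [Abelian C] [Category D] [Abelian D]
    [HasProjectiveResolutions C]
    (F : C ⥤ D) [F.Additive] [PreservesFiniteColimits F] {A B : C} (f : A ⟶ B) (hf : Mono (F.map f)) :
    Mono ((F.leftDerived 0).map f) := by
  have h := F.leftDerivedZeroIsoSelf.hom.naturality f
  have h2 : (F.leftDerived 0).map f =
      F.leftDerivedZeroIsoSelf.hom.app A ≫ F.map f ≫ F.leftDerivedZeroIsoSelf.inv.app B := by
    rw [← Category.assoc, ← h, Category.assoc, Iso.hom_inv_id_app, Category.comp_id]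
  rw [h2]
  infer_instance

include hS in
/-- If `X₁` is projective and `X ◁ f` is mono, `Tor₁(X, X₂) ≅ Tor₁(X, X₃)`. -/
theorem tor_one_iso [Projective S.X₁] (hmono : Mono (X ◁ S.f)) :
    Nonempty (((Tor (ModuleCat.{u} R) 1).obj X).obj S.X₂ ≅ ((Tor (ModuleCat.{u} R) 1).obj X).obj S.X₃) := by
  let F : ModuleCat.{u} R ⥤ ModuleCat.{u} R := tensorLeft X
  have hmono0 : Mono ((F.leftDerived 0).map S.f) := mono_leftDerived_zero F S.f hmono
  have hδ : leftDelta F S hS 0 = 0 := by
    have := left_delta_comp F S hS 0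
    rw [← cancel_mono ((F.leftDerived 0).map S.f), this, zero_comp]
  have hepi : Epi ((F.leftDerived 1).map S.g) := (left_exact₃ F S hS 0).epi_f hδ
  have hzero : IsZero ((F.leftDerived 1).obj S.X₁) :=
    Functor.isZero_leftDerived_obj_projective_succ F 0 S.X₁
  have hmono1 : Mono ((F.leftDerived 1).map S.g) :=
    (left_exact₂ F S hS 1).mono_g (hzero.eq_of_src _ _)
  have hiso : IsIso ((F.leftDerived 1).map S.g) := isIso_of_mono_of_epi _
  exact ⟨@asIso _ _ _ _ ((F.leftDerived 1).map S.g) hiso⟩

include hS in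
/-- If `X₂` is projective, `Tor₁(X, X₃)` is the kernel of `X ⊗ X₁ → X ⊗ X₂`. -/
theorem tor_one_equiv_ker [Projective S.X₂] :
    Nonempty ((((Tor (ModuleCat.{u} R) 1).obj X).obj S.X₃ : Type u) ≃ₗ[R]
      ↥(LinearMap.ker (LinearMap.lTensor X S.f.hom))) := by
  let F : ModuleCat.{u} R ⥤ ModuleCat.{u} R := tensorLeft X
  have hzero : IsZero ((F.leftDerived 1).obj S.X₂) :=
    Functor.isZero_leftDerived_obj_projective_succ F 0 S.X₂
  have hmonoδ : Mono (leftDelta F S hS 0) :=
    (left_exact₃ F S hS 0).mono_g (hzero.eq_of_src _ _)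
  have hinjδ : Function.Injective (leftDelta F S hS 0).hom :=
    (ModuleCat.mono_iff_injective _).mp hmonoδ
  have hrange := (left_exact₁ F S hS 0).moduleCat_range_eq_ker
  -- the comparison iso
  let φ₁ : ((F.leftDerived 0).obj S.X₁ : Type u) ≃ₗ[R] (F.obj S.X₁ : Type u) :=
    (F.leftDerivedZeroIsoSelf.app S.X₁).toLinearEquiv
  let φ₂ : ((F.leftDerived 0).obj S.X₂ : Type u) ≃ₗ[R] (F.obj S.X₂ : Type u) :=
    (F.leftDerivedZeroIsoSelf.app S.X₂).toLinearEquiv
  have hnat : ∀ z, φ₂ (((F.leftDerived 0).map S.f).hom z) = (F.map S.f).hom (φ₁ z) := by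
    intro z
    have := F.leftDerivedZeroIsoSelf.hom.naturality S.f
    have h2 := congrArg (fun k => k.hom z) this
    exact h2
  let ψ : (((F.leftDerived 1).obj S.X₃ : ModuleCat.{u} R) : Type u) →ₗ[R] (F.obj S.X₁ : Type u) :=
    φ₁.toLinearMap ∘ₗ (leftDelta F S hS 0).hom
  have hψinj : Function.Injective ψ := by
    rw [LinearMap.coe_comp]
    exact φ₁.injective.comp hinjδ
  have hψrange : LinearMap.range ψ = LinearMap.ker (LinearMap.lTensor X S.f.hom) := by
    ext y
    constructor
    · rintro ⟨w, rfl⟩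
      rw [LinearMap.mem_ker]
      show (F.map S.f).hom (φ₁ ((leftDelta F S hS 0).hom w)) = 0
      rw [← hnat]
      have : ((F.leftDerived 0).map S.f).hom ((leftDelta F S hS 0).hom w) = 0 := by
        have h3 := left_delta_comp F S hS 0
        have h4 := congrArg (fun k => k.hom w) h3
        simpa using h4
      rw [this, map_zero]
    · intro hy
      rw [LinearMap.mem_ker] at hy
      have hy' : (F.map S.f).hom y = 0 := hy
      have h5 : φ₁.symm y ∈ LinearMap.ker ((F.leftDerived 0).map S.f).hom := by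
        rw [LinearMap.mem_ker]
        apply φ₂.injective
        rw [hnat, LinearEquiv.apply_symm_apply, hy', map_zero]
      have h6 : φ₁.symm y ∈ LinearMap.range (leftDelta F S hS 0).hom := by
        have := hrange
        simp only at this
        rw [this]
        exact h5
      obtain ⟨w, hw⟩ := h6
      refine ⟨w, ?_⟩
      show φ₁ ((leftDelta F S hS 0).hom w) = y
      rw [hw, LinearEquiv.apply_symm_apply]
  exact ⟨(LinearEquiv.ofInjective ψ hψinj).trans (LinearEquiv.ofEq _ _ hψrange)⟩

end General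

section Concrete

open TensorProduct

variable (O : Type u) [CommRing O] [IsDomain O] (K : Type u) [Field K] [Algebra O K]
  [IsFractionRing O K] (M : Type u) [AddCommGroup M] [Module O M]

/-- `Õ ⊗ f` is injective for injective `f : Oⁿ → M` -/
lemma lTensor_injective (B : Subalgebra O K) (n : ℕ) (f : (Fin n → O) →ₗ[O] M)
    (hf : Function.Injective f) : Function.Injective (LinearMap.lTensor ↥B f) := by
  let ι : ↥B →ₗ[O] K := B.val.toLinearMap
  have hι : Function.Injective ι := Subtype.val_injective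
  haveI : Module.Flat O K := IsLocalization.flat K (nonZeroDivisors O)
  have h1 : Function.Injective (LinearMap.lTensor K f) :=
    Module.Flat.lTensor_preserves_injective_linearMap f hf
  have h2 : Function.Injective (LinearMap.rTensor (Fin n → O) ι) :=
    Module.Flat.rTensor_preserves_injective_linearMap ι hι
  have hsq : (LinearMap.rTensor M ι) ∘ₗ (LinearMap.lTensor ↥B f) =
      (LinearMap.lTensor K f) ∘ₗ (LinearMap.rTensor (Fin n → O) ι) := by
    rw [LinearMap.rTensor_comp_lTensor, LinearMap.lTensor_comp_rTensor]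
  have h3 : Function.Injective ((LinearMap.rTensor M ι) ∘ₗ (LinearMap.lTensor ↥B f)) := by
    rw [hsq, LinearMap.coe_comp]
    exact h1.comp h2
  rw [LinearMap.coe_comp] at h3
  exact Function.Injective.of_comp h3

theorem main_15024 (n : ℕ) (f : (Fin n → O) →ₗ[O] M) (hf : Function.Injective f) :
    Nonempty (((Tor (ModuleCat.{u} O) 1).obj (ModuleCat.of O ↥(integralClosure O K))).obj
        (ModuleCat.of O M) ≅
      ((Tor (ModuleCat.{u} O) 1).obj (ModuleCat.of O ↥(integralClosure O K))).obj
        (ModuleCat.of O (M ⧸ LinearMap.range f))) ∧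
    Function.Injective (LinearMap.lTensor ↥(integralClosure O K) f) := by
  have hinj := lTensor_injective O K M (integralClosure O K) n f hf
  refine ⟨?_, hinj⟩
  let S : ShortComplex (ModuleCat.{u} O) :=
    ModuleCat.shortComplexOfCompEqZero f (Submodule.mkQ (LinearMap.range f))
      (by rw [LinearMap.range_mkQ_comp])
  have hS : S.ShortExact := by
    apply ModuleCat.shortComplex_shortExact
    · exact LinearMap.exact_map_mkQ_range f
    · exact hf
    · exact Submodule.mkQ_surjective _
  haveI : Projective S.X₁ :=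
    (IsProjective.iff_projective (R := O) (Fin n → O)).mp inferInstance
  refine tor_one_iso (ModuleCat.of O ↥(integralClosure O K)) S hS ?_
  rw [ModuleCat.mono_iff_injective]
  exact hinj

/-- comparison `K ⊗ M → K ⊗ (B ⊗ M)` -/
noncomputable def θ (B : Subalgebra O K) : (K ⊗[O] M) →ₗ[O] (K ⊗[O] (↥B ⊗[O] M)) :=
  LinearMap.lTensor K (TensorProduct.mk O ↥B M 1)

lemma θ_tmul (B : Subalgebra O K) (x : K) (m : M) :
    θ O K M B (x ⊗ₜ m) = x ⊗ₜ ((1 : ↥B) ⊗ₜ m) := rfl

lemma θ_comp_rTensor (B : Subalgebra O K) :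
    (θ O K M B) ∘ₗ (LinearMap.rTensor M B.val.toLinearMap) =
      TensorProduct.mk O K (↥B ⊗[O] M) 1 := by
  apply TensorProduct.ext'
  intro b m
  show θ O K M B ((b : K) ⊗ₜ m) = (1 : K) ⊗ₜ (b ⊗ₜ m)
  rw [θ_tmul]
  obtain ⟨⟨p, q⟩, hpq⟩ := IsLocalization.surj (nonZeroDivisors O) (b : K)
  simp only at hpq
  have hq0 : algebraMap O K (q : O) ≠ 0 := by
    rw [Ne, IsFractionRing.to_map_eq_zero_iff]; exact nonZeroDivisors.coe_ne_zero q
  -- q • b = p • 1 in B
  have hB : (q : O) • b = p • (1 : ↥B) := by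
    apply Subtype.ext
    show (q : O) • (b : K) = p • (1 : K)
    rw [Algebra.smul_def, Algebra.smul_def, mul_one, mul_comm]; exact hpq
  have hbK : (b : K) = p • (algebraMap O K (q : O))⁻¹ := by
    rw [Algebra.smul_def]
    field_simp
    exact hpq
  calc (b : K) ⊗ₜ[O] ((1 : ↥B) ⊗ₜ[O] m)
      = (p • (algebraMap O K (q : O))⁻¹) ⊗ₜ[O] ((1 : ↥B) ⊗ₜ[O] m) := by rw [← hbK]
    _ = (algebraMap O K (q : O))⁻¹ ⊗ₜ[O] (p • ((1 : ↥B) ⊗ₜ[O] m)) := by
        rw [TensorProduct.smul_tmul]
    _ = (algebraMap O K (q : O))⁻¹ ⊗ₜ[O] ((q : O) • (b ⊗ₜ[O] m)) := by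
        rw [TensorProduct.smul_tmul', TensorProduct.smul_tmul', hB]
    _ = ((q : O) • (algebraMap O K (q : O))⁻¹) ⊗ₜ[O] (b ⊗ₜ[O] m) := by
        rw [TensorProduct.smul_tmul]
    _ = (1 : K) ⊗ₜ[O] (b ⊗ₜ[O] m) := by
        rw [Algebra.smul_def, mul_inv_cancel₀ hq0]

lemma ker_lTensor_eq_torsion (B : Subalgebra O K) (n : ℕ) (g : M →ₗ[O] (Fin n → O))
    (hg : Function.Injective g) :
    LinearMap.ker (LinearMap.lTensor ↥B g) = Submodule.torsion O (↥B ⊗[O] M) := by
  let ι : ↥B →ₗ[O] K := B.val.toLinearMap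
  have hι : Function.Injective ι := Subtype.val_injective
  haveI : Module.Flat O K := IsLocalization.flat K (nonZeroDivisors O)
  have h1 : Function.Injective (LinearMap.lTensor K g) :=
    Module.Flat.lTensor_preserves_injective_linearMap g hg
  have h2 : Function.Injective (LinearMap.rTensor (Fin n → O) ι) :=
    Module.Flat.rTensor_preserves_injective_linearMap ι hι
  have hsq : (LinearMap.rTensor (Fin n → O) ι) ∘ₗ (LinearMap.lTensor ↥B g) =
      (LinearMap.lTensor K g) ∘ₗ (LinearMap.rTensor M ι) := by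
    rw [LinearMap.rTensor_comp_lTensor, LinearMap.lTensor_comp_rTensor]
  ext y
  rw [LinearMap.mem_ker, Submodule.mem_torsion_iff]
  constructor
  · intro hy
    have h3 : LinearMap.rTensor M ι y = 0 := by
      apply h1
      have := congrArg (fun k => k y) hsq
      simp only [LinearMap.comp_apply] at this
      rw [← this, hy, map_zero, map_zero]
    have h4 : (TensorProduct.mk O K (↥B ⊗[O] M) 1) y = 0 := by
      rw [← θ_comp_rTensor, LinearMap.comp_apply]
      show θ O K M B (LinearMap.rTensor M ι y) = 0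
      rw [h3, map_zero]
    rw [IsLocalizedModule.eq_zero_iff (nonZeroDivisors O)] at h4
    exact h4
  · rintro ⟨a, ha⟩
    apply h2
    rw [map_zero]
    set w := LinearMap.lTensor ↥B g y with hw
    have h5 : (a : O) • (LinearMap.rTensor (Fin n → O) ι w) = 0 := by
      rw [← map_smul, hw, ← map_smul]
      have : (a : O) • y = 0 := ha
      rw [this, map_zero, map_zero]
    -- K ⊗ Oⁿ is a K-vector space
    have ha0 : algebraMap O K (a : O) ≠ 0 := by
      rw [Ne, IsFractionRing.to_map_eq_zero_iff]; exact nonZeroDivisors.coe_ne_zero a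
    have h6 : (algebraMap O K (a : O)) • (LinearMap.rTensor (Fin n → O) ι w) = 0 := by
      rw [← h5, algebraMap_smul]
    exact (smul_eq_zero.mp h6).resolve_left ha0

theorem main_15025 (n : ℕ) (g : M →ₗ[O] (Fin n → O)) (hg : Function.Injective g) :
    Nonempty (↥(Submodule.torsion O (TensorProduct O ↥(integralClosure O K) M)) ≃ₗ[O]
      ↑(((Tor (ModuleCat.{u} O) 1).obj (ModuleCat.of O ↥(integralClosure O K))).obj
        (ModuleCat.of O ((Fin n → O) ⧸ LinearMap.range g)))) := by
  let S : ShortComplex (ModuleCat.{u} O) :=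
    ModuleCat.shortComplexOfCompEqZero g (Submodule.mkQ (LinearMap.range g))
      (by rw [LinearMap.range_mkQ_comp])
  have hS : S.ShortExact := by
    apply ModuleCat.shortComplex_shortExact
    · exact LinearMap.exact_map_mkQ_range g
    · exact hg
    · exact Submodule.mkQ_surjective _
  haveI : Projective S.X₂ :=
    (IsProjective.iff_projective (R := O) (Fin n → O)).mp inferInstance
  obtain ⟨E⟩ := tor_one_equiv_ker (ModuleCat.of O ↥(integralClosure O K)) S hS
  have hker := ker_lTensor_eq_torsion O K M (integralClosure O K) n g hg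
  exact ⟨(E.trans (LinearEquiv.ofEq _ _ hker)).symm⟩

end Concrete

end Groth.Agent.Lib.Helper26.TorSES
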