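import Mathlib
import Groth.Prelude.Def_EtMil
import Groth.Agent.Lib.Helper22.Horseshoe.LeftLES
import Groth.Agent.Lib.Helper26.TorSES
import Groth.Agent.Lib.Lead.Milnor

set_option autoImplicit false
set_option linter.style.haveILetI false
set_option linter.unusedSectionVars false

namespace Groth.Agent.Lib.Helper26.MilnorTor

open CategoryTheory CategoryTheory.Limits MonoidalCategory TensorProduct
open Groth.Agent.Lib.Helper22.Horseshoe
open Groth.Agent.Lib.Helper26.TorSES

universe u

section General

variable {C D : Type*} [Category C] [Abelian C] [Category D] [Abelian D] [EnoughProjectives C]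
  (F : C ⥤ D) [F.Additive] [PreservesFiniteColimits F] (S : ShortComplex C) (hS : S.ShortExact)

lemma mono_of_mono_leftDerived_zero {A B : C} (f : A ⟶ B)
    (hf : Mono ((F.leftDerived 0).map f)) : Mono (F.map f) := by
  have h := F.leftDerivedZeroIsoSelf.hom.naturality f
  have h2 : F.map f =
      F.leftDerivedZeroIsoSelf.inv.app A ≫ (F.leftDerived 0).map f ≫
        F.leftDerivedZeroIsoSelf.hom.app B := by
    rw [h, ← Category.assoc, Iso.inv_hom_id_app, Category.id_comp]
  rw [h2]
  infer_instance

include hS in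
theorem epi_map_g_iff_mono :
    Epi ((F.leftDerived 1).map S.g) ↔ Mono (F.map S.f) := by
  constructor
  · intro hepi
    have hδ : leftDelta F S hS 0 = 0 := by
      have := left_comp_delta F S hS 0
      rw [← cancel_epi ((F.leftDerived 1).map S.g), this, comp_zero]
    have hmono0 : Mono ((F.leftDerived 0).map S.f) := (left_exact₁ F S hS 0).mono_g hδ
    exact mono_of_mono_leftDerived_zero F S.f hmono0
  · intro hmono
    have hmono0 : Mono ((F.leftDerived 0).map S.f) := mono_leftDerived_zero F S.f hmono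
    have hδ : leftDelta F S hS 0 = 0 := by
      have := left_delta_comp F S hS 0
      rw [← cancel_mono ((F.leftDerived 0).map S.f), this, zero_comp]
    exact (left_exact₃ F S hS 0).epi_f hδ

end General

section Concrete

open Groth.Agent.Lib.Lead.Milnor

variable (B' B A' A : Type u) [CommRing B'] [CommRing B] [CommRing A'] [CommRing A]
  [Algebra B' B] [Algebra B' A'] [Algebra B A] [Algebra A' A] [Algebra B' A]
  [IsScalarTower B' B A] [IsScalarTower B' A' A]
  (hsq : EtMil.IsFibreSquare B' B A' A)
  (L' : Type u) [AddCommGroup L'] [Module B' L']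

/-- `B' → B × A'` -/
noncomputable abbrev fM : ModuleCat.of B' B' ⟶ ModuleCat.of B' (B × A') :=
  ModuleCat.ofHom (incl B' B' B A')

/-- `B × A' → A` -/
noncomputable abbrev gM : ModuleCat.of B' (B × A') ⟶ ModuleCat.of B' A :=
  ModuleCat.ofHom (diff B' B A' A)

/-- the Milnor sequence as a short complex -/
noncomputable def MS (hsq : EtMil.IsFibreSquare B' B A' A) : ShortComplex (ModuleCat.{u} B') :=
  ShortComplex.mk (fM B' B A') (gM B' B A' A) (by
    rw [← ModuleCat.ofHom_comp, (exact_incl_diff B' hsq).linearMap_comp_eq_zero]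
    rfl)

lemma MS_shortExact : (MS B' B A' A hsq).ShortExact := by
  apply ModuleCat.shortComplex_shortExact
  · show Function.Exact (incl B' B' B A') (diff B' B A' A)
    exact exact_incl_diff B' hsq
  · show Function.Injective (incl B' B' B A')
    exact incl_injective B' hsq
  · show Function.Surjective (diff B' B A' A)
    exact diff_surjective B' hsq

/-- `B → A` -/
noncomputable abbrev pB : ModuleCat.of B' B ⟶ ModuleCat.of B' A :=
  ModuleCat.ofHom (IsScalarTower.toAlgHom B' B A).toLinearMap

/-- `A' → A` -/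
noncomputable abbrev pA' : ModuleCat.of B' A' ⟶ ModuleCat.of B' A :=
  ModuleCat.ofHom (IsScalarTower.toAlgHom B' A' A).toLinearMap

omit hsq in
lemma epi_desc_iff (T : ModuleCat.{u} B' ⥤ ModuleCat.{u} B') [T.Additive] :
    Epi (biprod.desc (T.map (pB B' B A)) (T.map (pA' B' A' A))) ↔
      Epi (T.map (gM B' B A' A)) := by
  let i1 : ModuleCat.of B' B ⟶ ModuleCat.of B' (B × A') := ModuleCat.ofHom (LinearMap.inl B' B A')
  let i2 : ModuleCat.of B' A' ⟶ ModuleCat.of B' (B × A') := ModuleCat.ofHom (LinearMap.inr B' B A')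
  let p1 : ModuleCat.of B' (B × A') ⟶ ModuleCat.of B' B := ModuleCat.ofHom (LinearMap.fst B' B A')
  let p2 : ModuleCat.of B' (B × A') ⟶ ModuleCat.of B' A' := ModuleCat.ofHom (LinearMap.snd B' B A')
  have h1 : i1 ≫ gM B' B A' A = pB B' B A := by
    apply ModuleCat.hom_ext
    apply LinearMap.ext
    intro b
    show diff B' B A' A ((b, (0 : A'))) = algebraMap B A b
    simp
  have h2 : i2 ≫ gM B' B A' A = - pA' B' A' A := by
    apply ModuleCat.hom_ext
    apply LinearMap.ext
    intro a'
    show diff B' B A' A (((0 : B), a')) = - algebraMap A' A a'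
    simp
  have h3 : gM B' B A' A = p1 ≫ pB B' B A - p2 ≫ pA' B' A' A := by
    apply ModuleCat.hom_ext
    apply LinearMap.ext
    intro x
    rfl
  constructor
  · intro hepi
    have : biprod.desc (T.map (pB B' B A)) (T.map (pA' B' A' A)) =
        biprod.desc (T.map i1) (- T.map i2) ≫ T.map (gM B' B A' A) := by
      apply biprod.hom_ext'
      · rw [biprod.inl_desc, biprod.inl_desc_assoc, ← T.map_comp, h1]
      · rw [biprod.inr_desc, biprod.inr_desc_assoc, Preadditive.neg_comp, ← T.map_comp, h2,
          Functor.map_neg, neg_neg]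
    rw [this] at hepi
    exact epi_of_epi (biprod.desc (T.map i1) (- T.map i2)) _
  · intro hepi
    have : T.map (gM B' B A' A) =
        biprod.lift (T.map p1) (- T.map p2) ≫
          biprod.desc (T.map (pB B' B A)) (T.map (pA' B' A' A)) := by
      rw [biprod.lift_desc, Preadditive.neg_comp, ← T.map_comp, ← T.map_comp, ← sub_eq_add_neg,
        ← Functor.map_sub, ← h3]
    rw [this] at hepi
    exact epi_of_epi (biprod.lift (T.map p1) (- T.map p2)) _

/-- the unit map `l ↦ (1 ⊗ l, 1 ⊗ l)` -/
noncomputable def Φ : L' →ₗ[B'] (B ⊗[B'] L') × (A' ⊗[B'] L') :=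
  (TensorProduct.mk B' B L' 1).prod (TensorProduct.mk B' A' L' 1)

lemma injective_lTensor_iff :
    Function.Injective (LinearMap.lTensor L' (incl B' B' B A')) ↔
      Function.Injective (Φ B' B A' L') := by
  let e₁ : L' ≃ₗ[B'] L' ⊗[B'] B' := (TensorProduct.rid B' L').symm
  let e₃ : L' ⊗[B'] (B × A') ≃ₗ[B'] (B ⊗[B'] L') × (A' ⊗[B'] L') :=
    (TensorProduct.prodRight B' B' L' B A').trans
      ((TensorProduct.comm B' L' B).prodCongr (TensorProduct.comm B' L' A'))
  have hΦ : ∀ l, Φ B' B A' L' l = e₃ (LinearMap.lTensor L' (incl B' B' B A') (e₁ l)) := by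
    intro l
    simp [Φ, e₁, e₃]
  have hcomp : (Φ B' B A' L' : L' → _) = e₃ ∘ (LinearMap.lTensor L' (incl B' B' B A')) ∘ e₁ := by
    funext l
    exact hΦ l
  rw [hcomp]
  rw [EquivLike.comp_injective, EquivLike.injective_comp]

include hsq in
theorem main_14958 :
    (∀ l : L', ((1 : B) ⊗ₜ[B'] l : B ⊗[B'] L') = 0 → ((1 : A') ⊗ₜ[B'] l : A' ⊗[B'] L') = 0 → l = 0) ↔
    Epi (biprod.desc
      (((Tor (ModuleCat.{u} B') 1).obj (ModuleCat.of B' L')).map
        (ModuleCat.ofHom (IsScalarTower.toAlgHom B' B A).toLinearMap))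
      (((Tor (ModuleCat.{u} B') 1).obj (ModuleCat.of B' L')).map
        (ModuleCat.ofHom (IsScalarTower.toAlgHom B' A' A).toLinearMap))) := by
  let F : ModuleCat.{u} B' ⥤ ModuleCat.{u} B' := tensorLeft (ModuleCat.of B' L')
  have hT : ((Tor (ModuleCat.{u} B') 1).obj (ModuleCat.of B' L')) = F.leftDerived 1 := rfl
  rw [hT, epi_desc_iff B' B A' A (F.leftDerived 1)]
  have hiff : Epi ((F.leftDerived 1).map (gM B' B A' A)) ↔ Mono (F.map (fM B' B A')) :=
    epi_map_g_iff_mono F (MS B' B A' A hsq) (MS_shortExact B' B A' A hsq)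
  rw [hiff, ModuleCat.mono_iff_injective]
  have : Function.Injective ⇑(ConcreteCategory.hom (F.map (fM B' B A'))) ↔
      Function.Injective (LinearMap.lTensor L' (incl B' B' B A')) := Iff.rfl
  rw [this, injective_lTensor_iff, injective_iff_map_eq_zero]
  constructor
  · intro h l hl
    have h1 := congrArg Prod.fst hl
    have h2 := congrArg Prod.snd hl
    exact h l h1 h2
  · intro h l h1 h2
    apply h
    exact Prod.ext h1 h2

end Concrete

end Groth.Agent.Lib.Helper26.MilnorTor
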