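import Mathlib
import Groth.Agent.Lib.Helper12.SchDense

set_option autoImplicit false
universe u

open CategoryTheory AlgebraicGeometry

namespace Groth.Agent.Lib.Helper26.ModZA

theorem schematicallyDense_basicOpen {R : Type u} [CommRing R] [IsDomain R] (ϖ : R) (hϖ : ϖ ≠ 0) :
    CInt.IsSchematicallyDense
      (X := Spec (CommRingCat.of R)) (PrimeSpectrum.basicOpen ϖ) := by
  intro V'
  let D : (Spec (CommRingCat.of R)).Opens := PrimeSpectrum.basicOpen ϖ
  change Function.Injective ((Spec (CommRingCat.of R)).presheaf.map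
    (homOfLE (inf_le_left : V' ⊓ D ≤ V')).op)
  by_cases hV : (V' : Set (Spec (CommRingCat.of R))).Nonempty
  · have hD : (D : Set (Spec (CommRingCat.of R))).Nonempty := by
      refine ⟨⟨⊥, Ideal.isPrime_bot⟩, ?_⟩
      show ϖ ∉ (⊥ : Ideal R)
      simpa using hϖ
    have hne : ((V' ⊓ D : (Spec (CommRingCat.of R)).Opens) :
        Set (Spec (CommRingCat.of R))).Nonempty :=
      nonempty_preirreducible_inter V'.2 D.2 hV hD
    haveI : Nonempty (V' ⊓ D : (Spec (CommRingCat.of R)).Opens) :=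
      hne.to_subtype
    exact map_injective_of_isIntegral _ _
  · have : V' = ⊥ := by
      ext x
      simp only [TopologicalSpace.Opens.coe_bot, Set.mem_empty_iff_false, iff_false]
      exact fun hx => hV ⟨x, hx⟩
    subst this
    intro a b _
    exact Subsingleton.elim a b

theorem isReduced_of_flat {R : Type u} [CommRing R] [IsDomain R] [IsNoetherianRing R] (ϖ : R)
    (hϖ : ϖ ≠ 0) {T : Scheme.{u}} (π : T ⟶ Spec (CommRingCat.of R)) [Flat π]
    (hred : IsReduced (π ⁻¹ᵁ PrimeSpectrum.basicOpen ϖ).toScheme) : IsReduced T := by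
  have hdense := Groth.Agent.Lib.Helper12.SchDense.preimage_of_flat_of_isLocallyNoetherian π
    (PrimeSpectrum.basicOpen ϖ) (schematicallyDense_basicOpen ϖ hϖ)
  set T₁ := π ⁻¹ᵁ PrimeSpectrum.basicOpen ϖ with hT₁
  refine ⟨fun U => ?_⟩
  have e : U ⊓ T₁ = T₁.ι ''ᵁ (T₁.ι ⁻¹ᵁ (U ⊓ T₁)) := by
    ext x
    simp only [TopologicalSpace.Opens.coe_inf, Set.mem_inter_iff, SetLike.mem_coe]
    constructor
    · rintro ⟨h1, h2⟩
      exact ⟨⟨x, h2⟩, ⟨h1, h2⟩, rfl⟩
    · rintro ⟨y, hy, rfl⟩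
      exact hy
  have h1 : _root_.IsReduced Γ(T, U ⊓ T₁) := by
    rw [e]
    exact (inferInstance : _root_.IsReduced Γ(T₁.toScheme, T₁.ι ⁻¹ᵁ (U ⊓ T₁)))
  exact isReduced_of_injective (T.presheaf.map (homOfLE (inf_le_left : U ⊓ T₁ ≤ U)).op).hom
    (hdense U)

end Groth.Agent.Lib.Helper26.ModZA
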