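import Mathlib

set_option autoImplicit false
universe u

namespace Groth.Agent.Lib.Helper26.RatExtA

/-- Noetherian ring `B`, prime `p` with `B_p` a domain: some `B_a` (`a ∉ p`) is a domain. -/
theorem exists_away_isDomain (B : Type u) [CommRing B] [IsNoetherianRing B] (p : Ideal B)
    [p.IsPrime] (L : Type u) [CommRing L] [Algebra B L] [IsLocalization.AtPrime L p] [IsDomain L] :
    ∃ a : B, a ∉ p ∧ ∀ (A' : Type u) [CommRing A'] [Algebra B A'] [IsLocalization.Away a A'],
      IsDomain A' := by
  classical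
  obtain ⟨T, hT⟩ := (IsNoetherian.noetherian (RingHom.ker (algebraMap B L)) :
    (RingHom.ker (algebraMap B L)).FG)
  have h1 : ∀ t : B, t ∈ RingHom.ker (algebraMap B L) → ∃ s : B, s ∉ p ∧ s * t = 0 := by
    intro t ht
    rw [RingHom.mem_ker, IsLocalization.map_eq_zero_iff p.primeCompl L t] at ht
    obtain ⟨m, hm⟩ := ht
    exact ⟨m.1, m.2, hm⟩
  have h2 : ∀ t : (T : Set B), ∃ s : B, s ∉ p ∧ s * t.1 = 0 := fun t =>
    h1 t.1 (hT ▸ Ideal.subset_span t.2)
  choose s hs1 hs2 using h2
  refine ⟨∏ t ∈ T.attach, s ⟨t.1, t.2⟩, ?_, ?_⟩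
  · intro hmem
    rw [Ideal.IsPrime.prod_mem_iff] at hmem
    obtain ⟨t, _, ht⟩ := hmem
    exact hs1 _ ht
  · intro A' _ _ _
    set a := ∏ t ∈ T.attach, s ⟨t.1, t.2⟩ with ha
    have hap : a ∉ p := by
      intro hmem
      rw [ha, Ideal.IsPrime.prod_mem_iff] at hmem
      obtain ⟨t, _, ht⟩ := hmem
      exact hs1 _ ht
    have h3 : ∀ x ∈ RingHom.ker (algebraMap B L), a * x = 0 := by
      intro x hx
      rw [← hT] at hx
      refine Submodule.span_induction (p := fun x _ => a * x = 0) ?_ ?_ ?_ ?_ hx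
      · intro t ht
        have hdvd : s ⟨t, ht⟩ ∣ a :=
          Finset.dvd_prod_of_mem (fun t : T => s ⟨t.1, t.2⟩) (Finset.mem_attach T ⟨t, ht⟩)
        obtain ⟨c, hc⟩ := hdvd
        rw [hc, mul_comm (s ⟨t, ht⟩) c, mul_assoc, hs2 ⟨t, ht⟩, mul_zero]
      · simp
      · intro x y _ _ hx hy
        rw [mul_add, hx, hy, add_zero]
      · intro r x _ hx
        rw [smul_eq_mul, mul_left_comm, hx, mul_zero]
    have hu : IsUnit (algebraMap B L a) := IsLocalization.map_units L (⟨a, hap⟩ : p.primeCompl)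
    let φ : A' →+* L := IsLocalization.Away.lift a hu
    have hφ : ∀ b : B, φ (algebraMap B A' b) = algebraMap B L b := fun b =>
      IsLocalization.Away.lift_eq a hu b
    have hinj : Function.Injective φ := by
      rw [injective_iff_map_eq_zero]
      intro z hz
      obtain ⟨x, m, rfl⟩ := IsLocalization.exists_mk'_eq (Submonoid.powers a) z
      have e1 : IsLocalization.mk' A' x m * algebraMap B A' m.1 = algebraMap B A' x :=
        IsLocalization.mk'_spec A' x m
      have e2 : algebraMap B L x = 0 := by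
        rw [← hφ, ← e1, map_mul, hz, zero_mul]
      have e3 : a * x = 0 := h3 x e2
      have e4 : algebraMap B A' x = 0 := by
        have hua : IsUnit (algebraMap B A' a) := IsLocalization.Away.algebraMap_isUnit a
        have : algebraMap B A' a * algebraMap B A' x = 0 := by
          rw [← map_mul, e3, map_zero]
        exact (hua.mul_right_eq_zero).mp this
      have hum : IsUnit (algebraMap B A' m.1) := IsLocalization.map_units A' m
      rw [e4] at e1
      exact (hum.mul_left_eq_zero).mp e1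
    exact Function.Injective.isDomain φ hinj

theorem valuationRing_of_normal (O : Type u) [CommRing O] [IsDomain O] [IsLocalRing O]
    [IsNoetherianRing O] [IsIntegrallyClosed O] (hdim : ringKrullDim O ≤ 1) : ValuationRing O := by
  by_cases hF : IsField O
  · letI := hF.toField
    infer_instance
  · have key := ((IsDiscreteValuationRing.TFAE O hF).out 1 3 :
      ValuationRing O ↔ (IsIntegrallyClosed O ∧ ∃! P : Ideal O, P ≠ ⊥ ∧ P.IsPrime))
    refine key.mpr ⟨inferInstance, ?_⟩
    haveI : Ring.KrullDimLE 1 O := Ring.krullDimLE_iff.mpr hdim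
    have hne : IsLocalRing.maximalIdeal O ≠ ⊥ := IsLocalRing.isField_iff_maximalIdeal_eq.not.mp hF
    refine ⟨IsLocalRing.maximalIdeal O, ⟨hne, inferInstance⟩, ?_⟩
    rintro P ⟨hP1, hP2⟩
    exact IsLocalRing.eq_maximalIdeal (hP2.isMaximal_of_ne_bot hP1)

end Groth.Agent.Lib.Helper26.RatExtA
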