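import Mathlib
import Groth.Agent.Lib.Helper1.NormalSmooth
import Groth.Agent.Lib.Helper26.RatExtA

set_option autoImplicit false
universe u

open CategoryTheory AlgebraicGeometry

namespace Groth.Agent.Lib.Helper26.RatExtB

theorem stalk_normal {R : Type u} [CommRing R] [IsDedekindDomain R] {X : Scheme.{u}}
    (pX : X ⟶ Spec (CommRingCat.of R)) [Smooth pX] (x : X) :
    IsDomain (X.presheaf.stalk x) ∧ IsIntegrallyClosed (X.presheaf.stalk x) := by
  obtain ⟨_, ⟨W, hW, rfl⟩, hxW, -⟩ :=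
    X.isBasis_affineOpens.exists_subset_of_mem_open (Set.mem_univ x) isOpen_univ
  have e : W ≤ pX ⁻¹ᵁ ⊤ := le_top
  have h1 : RingHom.Smooth (pX.appLE ⊤ W e).hom :=
    HasRingHomProperty.appLE @Smooth pX inferInstance ⟨⊤, isAffineOpen_top _⟩ ⟨W, hW⟩ e
  let φ : R →+* Γ(X, W) :=
    (pX.appLE ⊤ W e).hom.comp (Scheme.ΓSpecIso (CommRingCat.of R)).inv.hom
  have h2 : φ.Smooth :=
    (RingHom.Smooth.of_bijective (ConcreteCategory.bijective_of_isIso
      (Scheme.ΓSpecIso (CommRingCat.of R)).inv)).comp h1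
  letI : Algebra R Γ(X, W) := φ.toAlgebra
  haveI : Algebra.Smooth R Γ(X, W) := h2
  have hR : EGA4.IsNormalRing R := fun p _ => ⟨inferInstance, inferInstance⟩
  have hB := Groth.Agent.Lib.Helper1.NormalSmooth.isNormalRing_of_smooth R Γ(X, W) hR
  letI := TopCat.Presheaf.algebra_section_stalk X.presheaf (⟨x, hxW⟩ : W)
  haveI := hW.isLocalization_stalk ⟨x, hxW⟩
  obtain ⟨h3, h4⟩ := hB (hW.primeIdealOf ⟨x, hxW⟩).asIdeal
  let ε : Localization.AtPrime (hW.primeIdealOf ⟨x, hxW⟩).asIdeal ≃ₐ[Γ(X, W)]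
      X.presheaf.stalk x :=
    IsLocalization.algEquiv (hW.primeIdealOf ⟨x, hxW⟩).asIdeal.primeCompl _ _
  exact ⟨MulEquiv.isDomain _ ε.symm.toRingEquiv.toMulEquiv, IsIntegrallyClosed.of_equiv ε.toRingEquiv⟩




theorem exists_integral_nbhd (X : Scheme.{u}) [IsLocallyNoetherian X] (x : X)
    [IsDomain (X.presheaf.stalk x)] :
    ∃ W₀ : X.Opens, x ∈ W₀ ∧ IsIntegral W₀.toScheme := by
  obtain ⟨_, ⟨W, hW, rfl⟩, hxW, -⟩ :=
    X.isBasis_affineOpens.exists_subset_of_mem_open (Set.mem_univ x) isOpen_univ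
  haveI : IsNoetherianRing Γ(X, W) := IsLocallyNoetherian.component_noetherian ⟨W, hW⟩
  letI := TopCat.Presheaf.algebra_section_stalk X.presheaf (⟨x, hxW⟩ : W)
  haveI := hW.isLocalization_stalk ⟨x, hxW⟩
  obtain ⟨a, hap, ha⟩ := Groth.Agent.Lib.Helper26.RatExtA.exists_away_isDomain Γ(X, W) (hW.primeIdealOf ⟨x, hxW⟩).asIdeal
    (X.presheaf.stalk x)
  haveI := hW.isLocalization_basicOpen a
  have hdom : IsDomain Γ(X, X.basicOpen a) := ha _
  have hx : x ∈ X.basicOpen a := by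
    rw [Scheme.mem_basicOpen X a x hxW]
    have := (IsLocalization.AtPrime.isUnit_to_map_iff (X.presheaf.stalk x)
      (hW.primeIdealOf ⟨x, hxW⟩).asIdeal a).mpr hap
    exact this
  refine ⟨X.basicOpen a, hx, ?_⟩
  haveI : IsAffine (X.basicOpen a).toScheme := hW.basicOpen a
  haveI : Nonempty (X.basicOpen a).toScheme := ⟨⟨x, hx⟩⟩
  haveI : IsDomain Γ((X.basicOpen a).toScheme, ⊤) :=
    MulEquiv.isDomain _ (X.basicOpen a).topIso.commRingCatIsoToRingEquiv.toMulEquiv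
  exact isIntegral_of_isAffine_of_isDomain _


end Groth.Agent.Lib.Helper26.RatExtB
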