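import Mathlib

set_option autoImplicit false
universe u

open CategoryTheory AlgebraicGeometry

namespace Groth.Agent.Lib.Helper26.RatExtC

theorem fromSpecStalkOfMem_specializes {X Y : Scheme.{u}} (g : X.PartialMap Y) {x y : X}
    (h : y ⤳ x) (hx : x ∈ g.domain) (hy : y ∈ g.domain) :
    Spec.map (X.presheaf.stalkSpecializes h) ≫ g.fromSpecStalkOfMem hx =
      g.fromSpecStalkOfMem hy := by
  unfold Scheme.PartialMap.fromSpecStalkOfMem
  rw [← Category.assoc]
  congr 1
  rw [← cancel_mono g.domain.ι, Category.assoc, Scheme.Opens.fromSpecStalkOfMem_ι,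
    Scheme.Opens.fromSpecStalkOfMem_ι, Scheme.SpecMap_stalkSpecializes_fromSpecStalk]

theorem exists_partialMap_of_valuationRing {S X Y : Scheme.{u}} [IsIntegral X] (sX : X ⟶ S)
    (sY : Y ⟶ S) [IsProper sY] (f : X.PartialMap Y) (hf : f.hom ≫ sY = f.domain.ι ≫ sX) (x : X)
    [ValuationRing (X.presheaf.stalk x)] [X.IsGermInjectiveAt x] :
    ∃ g : X.PartialMap Y, x ∈ g.domain ∧ g.equiv f ∧ g.hom ≫ sY = g.domain.ι ≫ sX := by
  have hex : ValuativeCriterion.Existence sY :=
    ((UniversallyClosed.eq_valuativeCriterion ▸ (inferInstance : UniversallyClosed sY) :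
      (ValuativeCriterion.Existence ⊓ @QuasiCompact) sY)).1
  have hspec : genericPoint X ⤳ x := (genericPoint_spec X).specializes trivial
  have hη : genericPoint X ∈ f.domain :=
    (genericPoint_specializes _).mem_open f.domain.2 f.dense_domain.nonempty.choose_spec
  have w : f.fromFunctionField ≫ sY =
      Spec.map (CommRingCat.ofHom (algebraMap (X.presheaf.stalk x) X.functionField)) ≫
        (X.fromSpecStalk x ≫ sX) := by
    have e1 : Spec.map (CommRingCat.ofHom (algebraMap (X.presheaf.stalk x) X.functionField)) ≫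
        X.fromSpecStalk x = X.fromSpecStalk (genericPoint X) :=
      Scheme.SpecMap_stalkSpecializes_fromSpecStalk hspec
    rw [← Category.assoc, e1]
    unfold Scheme.PartialMap.fromFunctionField Scheme.PartialMap.fromSpecStalkOfMem
    rw [Category.assoc, hf, ← Category.assoc, Scheme.Opens.fromSpecStalkOfMem_ι]
  have hdom : IsDomain ↑(X.presheaf.stalk x) := inferInstance
  let Sq : ValuativeCommSq sY :=
    { R := X.presheaf.stalk x
      domain := hdom
      valuationRing := ‹_›
      K := X.functionField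
      i₁ := f.fromFunctionField
      i₂ := X.fromSpecStalk x ≫ sX
      commSq := ⟨w⟩ }
  obtain ⟨l, hl₁, hl₂⟩ := (hex Sq).exists_lift
  change Spec (X.presheaf.stalk x) ⟶ Y at l
  change Spec.map (CommRingCat.ofHom (algebraMap (X.presheaf.stalk x) X.functionField)) ≫ l =
    f.fromFunctionField at hl₁
  change l ≫ sY = X.fromSpecStalk x ≫ sX at hl₂
  let g := Scheme.PartialMap.ofFromSpecStalk sX sY l hl₂
  have hxg : x ∈ g.domain := Scheme.PartialMap.mem_domain_ofFromSpecStalk sX sY l hl₂
  refine ⟨g, hxg, ?_, Scheme.PartialMap.ofFromSpecStalk_comp sX sY l hl₂⟩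
  rw [← Scheme.PartialMap.toRationalMap_eq_iff]
  apply Scheme.RationalMap.eq_of_fromFunctionField_eq
  rw [Scheme.RationalMap.fromFunctionField_toRationalMap,
    Scheme.RationalMap.fromFunctionField_toRationalMap]
  have hηg : genericPoint X ∈ g.domain := hspec.mem_open g.domain.2 hxg
  have e2 : g.fromFunctionField = g.fromSpecStalkOfMem hηg := rfl
  rw [e2, ← fromSpecStalkOfMem_specializes g hspec hxg hηg,
    Scheme.PartialMap.fromSpecStalkOfMem_ofFromSpecStalk sX sY l hl₂]
  exact hl₁

end Groth.Agent.Lib.Helper26.RatExtC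

namespace Groth.Agent.Lib.Helper26.RatExtC

theorem exists_partialMap_of_valuationRing' {S X Y : Scheme.{u}} [IsIntegral X] (sX : X ⟶ S)
    (sY : Y ⟶ S) [IsProper sY] (f : X.PartialMap Y) (hf : f.hom ≫ sY = f.domain.ι ≫ sX) (x : X)
    [ValuationRing (X.presheaf.stalk x)] [X.IsGermInjectiveAt x] :
    ∃ g : X.PartialMap Y, x ∈ g.domain ∧ g.hom ≫ sY = g.domain.ι ≫ sX ∧
      X.homOfLE (inf_le_left : g.domain ⊓ f.domain ≤ g.domain) ≫ g.hom =
        X.homOfLE (inf_le_right : g.domain ⊓ f.domain ≤ f.domain) ≫ f.hom := by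
  obtain ⟨g, hxg, heq, hg⟩ := exists_partialMap_of_valuationRing sX sY f hf x
  refine ⟨g, hxg, hg, ?_⟩
  letI : X.Over S := ⟨sX⟩
  letI : Y.Over S := ⟨sY⟩
  haveI : IsSeparated (Y ↘ S) := (inferInstance : IsSeparated sY)
  haveI : g.IsOver S := ⟨hg⟩
  haveI : f.IsOver S := ⟨hf⟩
  have := (Scheme.PartialMap.equiv_iff_of_isSeparated (S := S) (f := g) (g := f)).mp heq
  exact this

end Groth.Agent.Lib.Helper26.RatExtC
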