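import Mathlib
import Groth.Agent.Lib.Helper26.RatExtA
import Groth.Agent.Lib.Helper26.RatExtB
import Groth.Agent.Lib.Helper26.RatExtC
import Groth.Agent.Lib.Helper26.ModZA

set_option autoImplicit false
universe u

open CategoryTheory AlgebraicGeometry

namespace Groth.Agent.Lib.Helper26.ModZB

open Groth.Agent.Lib.Helper26

/-- the generic point of an integral open of a flat `R`-scheme lies in the generic fibre. -/
theorem genericPoint_mem {R : Type u} [CommRing R] [IsDomain R] (ϖ : R) (hϖ : ϖ ≠ 0)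
    {C : Scheme.{u}} (πC : C ⟶ Spec (CommRingCat.of R)) [Flat πC] (W₀ : C.Opens)
    [IsIntegral W₀.toScheme] :
    genericPoint W₀.toScheme ∈ W₀.ι ⁻¹ᵁ (πC ⁻¹ᵁ (PrimeSpectrum.basicOpen ϖ)) := by
  set η' := genericPoint W₀.toScheme with hη'
  let ξ : Spec (CommRingCat.of R) := ⟨⊥, Ideal.isPrime_bot⟩
  have h1 : ξ ⤳ πC (W₀.ι η') :=
    (PrimeSpectrum.le_iff_specializes (R := R) ξ (πC (W₀.ι η'))).mp
      (bot_le (a := (πC (W₀.ι η')).asIdeal))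
  obtain ⟨y₁, hy₁, hπ⟩ := (Flat.generalizingMap πC) h1
  have hy₁W : y₁ ∈ W₀ := hy₁.mem_open W₀.2 η'.2
  let y₁' : W₀.toScheme := ⟨y₁, hy₁W⟩
  have h2 : y₁' ⤳ η' := W₀.ι.isOpenEmbedding.isInducing.specializes_iff.mp hy₁
  have h3 : η' ⤳ y₁' := genericPoint_specializes y₁'
  have h4 : y₁' = η' := (h2.antisymm h3).eq
  show ϖ ∉ (πC (W₀.ι η')).asIdeal
  rw [← h4]
  change ϖ ∉ (πC y₁).asIdeal
  rw [hπ]
  show ϖ ∉ (⊥ : Ideal R)
  simpa using hϖ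

end Groth.Agent.Lib.Helper26.ModZB

namespace Groth.Agent.Lib.Helper26.ModZB

open Groth.Agent.Lib.Helper26

theorem core {R : Type u} [CommRing R] [IsDomain R] [IsNoetherianRing R] (ϖ : R) (hϖ : ϖ ≠ 0)
    {C Z : Scheme.{u}} (πC : C ⟶ Spec (CommRingCat.of R)) [Flat πC] [LocallyOfFiniteType πC]
    (g : Z ⟶ C) [IsProper g] [Flat (g ≫ πC)]
    (hgen : IsIso (g ∣_ (πC ⁻¹ᵁ (PrimeSpectrum.basicOpen ϖ))))
    (c : C) (hdom : IsDomain (C.presheaf.stalk c)) (hnorm : IsIntegrallyClosed (C.presheaf.stalk c))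
    (hdim : ringKrullDim (C.presheaf.stalk c) ≤ 1) :
    ∃ V : C.Opens, c ∈ V ∧ IsIso (g ∣_ V) := by
  haveI : IsLocallyNoetherian C := LocallyOfFiniteType.isLocallyNoetherian πC
  haveI := hdom
  obtain ⟨W₀, hcW₀, hint⟩ := RatExtB.exists_integral_nbhd C c
  haveI := hint
  let c' : W₀.toScheme := ⟨c, hcW₀⟩
  haveI : IsLocallyNoetherian W₀.toScheme := LocallyOfFiniteType.isLocallyNoetherian (W₀.ι ≫ πC)
  let e : C.presheaf.stalk (W₀.ι c') ≅ W₀.toScheme.presheaf.stalk c' := asIso (W₀.ι.stalkMap c')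
  haveI : IsIntegrallyClosed (W₀.toScheme.presheaf.stalk c') :=
    @IsIntegrallyClosed.of_equiv _ _ _ _ e.commRingCatIsoToRingEquiv hnorm
  have hdim' : ringKrullDim (W₀.toScheme.presheaf.stalk c') ≤ 1 := by
    rw [← ringKrullDim_eq_of_ringEquiv e.commRingCatIsoToRingEquiv]
    exact hdim
  haveI : ValuationRing (W₀.toScheme.presheaf.stalk c') :=
    RatExtA.valuationRing_of_normal _ hdim'
  set Cη : C.Opens := πC ⁻¹ᵁ (PrimeSpectrum.basicOpen ϖ) with hCη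
  have hηmem := genericPoint_mem ϖ hϖ πC W₀
  let f' : W₀.toScheme.PartialMap Z :=
    { domain := W₀.ι ⁻¹ᵁ Cη
      dense_domain := (W₀.ι ⁻¹ᵁ Cη).2.dense ⟨_, hηmem⟩
      hom := (W₀.ι ∣_ Cη) ≫ inv (g ∣_ Cη) ≫ (g ⁻¹ᵁ Cη).ι }
  have hf' : f'.hom ≫ g = f'.domain.ι ≫ W₀.ι := by
    change ((W₀.ι ∣_ Cη) ≫ inv (g ∣_ Cη) ≫ (g ⁻¹ᵁ Cη).ι) ≫ g = (W₀.ι ⁻¹ᵁ Cη).ι ≫ W₀.ι
    rw [Category.assoc, Category.assoc, ← morphismRestrict_ι g Cη, IsIso.inv_hom_id_assoc,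
      morphismRestrict_ι]
  obtain ⟨σ', hcσ', -, hσ'⟩ :=
    RatExtC.exists_partialMap_of_valuationRing (S := C) W₀.ι g f' hf' c'
  let V : C.Opens := W₀.ι ''ᵁ σ'.domain
  have hcV : c ∈ V := ⟨c', hcσ', rfl⟩
  have hVW : V ≤ W₀ := by
    rintro _ ⟨y, -, rfl⟩
    exact y.2
  let σ : V.toScheme ⟶ Z := (W₀.ι.isoImage σ'.domain).inv ≫ σ'.hom
  have hσ : σ ≫ g = V.ι := by
    change ((W₀.ι.isoImage σ'.domain).inv ≫ σ'.hom) ≫ g = V.ι
    rw [Category.assoc, hσ', Scheme.Hom.isoImage_inv_ι]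
  refine ⟨V, hcV, ?_⟩
  have hrange : Set.range σ.base ⊆ Set.range (g ⁻¹ᵁ V).ι.base := by
    rintro _ ⟨v, rfl⟩
    rw [Scheme.Opens.range_ι]
    show g (σ v) ∈ V
    have : g (σ v) = V.ι v := by
      rw [← Scheme.Hom.comp_apply, hσ]
    rw [this]
    exact v.2
  let σV : V.toScheme ⟶ (g ⁻¹ᵁ V).toScheme := IsOpenImmersion.lift (g ⁻¹ᵁ V).ι σ hrange
  have hσV : σV ≫ (g ⁻¹ᵁ V).ι = σ := IsOpenImmersion.lift_fac _ _ _
  have hsec : σV ≫ (g ∣_ V) = 𝟙 _ := by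
    rw [← cancel_mono V.ι, Category.assoc, morphismRestrict_ι, ← Category.assoc, hσV, hσ,
      Category.id_comp]
  haveI : IsClosedImmersion (σV ≫ (g ∣_ V)) := by
    rw [hsec]
    infer_instance
  haveI : IsClosedImmersion σV := IsClosedImmersion.of_comp σV (g ∣_ V)
  -- injectivity of g on the generic fibre
  have hinj : ∀ a b : Z, g a ∈ Cη → g a = g b → a = b := by
    intro a b ha hab
    have hb : g b ∈ Cη := hab ▸ ha
    have h1 : (g ∣_ Cη) ⟨a, ha⟩ = (g ∣_ Cη) ⟨b, hb⟩ := by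
      apply Subtype.ext
      rw [morphismRestrict_base_coe, morphismRestrict_base_coe]
      exact hab
    have h2 := (ConcreteCategory.bijective_of_isIso (g ∣_ Cη).base).1 h1
    exact congrArg Subtype.val h2
  haveI : Surjective σV := by
    constructor
    intro z
    have hclosed : IsClosed (Set.range σV.base) := σV.isClosedEmbedding.isClosed_range
    let ξ : Spec (CommRingCat.of R) := ⟨⊥, Ideal.isPrime_bot⟩
    have h1 : ξ ⤳ (g ≫ πC) z.1 :=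
      (PrimeSpectrum.le_iff_specializes (R := R) ξ ((g ≫ πC) z.1)).mp
        (bot_le (a := ((g ≫ πC) z.1).asIdeal))
    obtain ⟨z₁, hz₁, hπ⟩ := (Flat.generalizingMap (g ≫ πC)) h1
    have hz₁V : z₁ ∈ g ⁻¹ᵁ V := hz₁.mem_open (g ⁻¹ᵁ V).2 z.2
    let z₁' : (g ⁻¹ᵁ V).toScheme := ⟨z₁, hz₁V⟩
    have h2 : z₁' ⤳ z := (g ⁻¹ᵁ V).ι.isOpenEmbedding.isInducing.specializes_iff.mp hz₁
    have hgz₁ : g z₁ ∈ Cη := by
      show ϖ ∉ (πC (g z₁)).asIdeal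
      have : πC (g z₁) = ξ := by rw [← hπ]; rfl
      rw [this]
      show ϖ ∉ (⊥ : Ideal R)
      simpa using hϖ
    have h3 : σV ((g ∣_ V) z₁') = z₁' := by
      apply Subtype.ext
      apply (hinj _ _ hgz₁ _).symm
      have h4 : g ((σV ((g ∣_ V) z₁')).1) = ((g ∣_ V) (σV ((g ∣_ V) z₁'))).1 :=
        (morphismRestrict_base_coe g V _).symm
      rw [h4, ← Scheme.Hom.comp_apply, hsec]
      exact (morphismRestrict_base_coe g V z₁').symm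
    exact h2.mem_closed hclosed ⟨_, h3⟩
  -- reducedness
  haveI : Flat ((g ⁻¹ᵁ V).ι ≫ g ≫ πC) := inferInstance
  haveI : IsReduced (g ⁻¹ᵁ V).toScheme := by
    apply ModZA.isReduced_of_flat ϖ hϖ ((g ⁻¹ᵁ V).ι ≫ g ≫ πC)
    set T₁ : (g ⁻¹ᵁ V).toScheme.Opens :=
      ((g ⁻¹ᵁ V).ι ≫ g ≫ πC) ⁻¹ᵁ (PrimeSpectrum.basicOpen ϖ) with hT₁
    have hr1 : Set.range (T₁.ι ≫ (g ⁻¹ᵁ V).ι).base ⊆ Set.range (g ⁻¹ᵁ Cη).ι.base := by
      rintro _ ⟨t, rfl⟩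
      rw [Scheme.Opens.range_ι]
      exact t.2
    let k := IsOpenImmersion.lift (g ⁻¹ᵁ Cη).ι (T₁.ι ≫ (g ⁻¹ᵁ V).ι) hr1
    have hk : k ≫ (g ⁻¹ᵁ Cη).ι = T₁.ι ≫ (g ⁻¹ᵁ V).ι := IsOpenImmersion.lift_fac _ _ _
    haveI : IsOpenImmersion (k ≫ (g ⁻¹ᵁ Cη).ι) := by rw [hk]; infer_instance
    haveI : IsOpenImmersion k := IsOpenImmersion.of_comp k (g ⁻¹ᵁ Cη).ι
    have hdecomp : T₁.ι ≫ (g ⁻¹ᵁ V).ι ≫ g = k ≫ (g ∣_ Cη) ≫ Cη.ι := by
      rw [morphismRestrict_ι, ← Category.assoc k, hk, Category.assoc]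
    haveI : IsOpenImmersion (T₁.ι ≫ (g ⁻¹ᵁ V).ι ≫ g) := by rw [hdecomp]; infer_instance
    have hr2 : Set.range (T₁.ι ≫ (g ⁻¹ᵁ V).ι ≫ g).base ⊆ Set.range W₀.ι.base := by
      rintro _ ⟨t, rfl⟩
      rw [Scheme.Opens.range_ι]
      exact hVW t.1.2
    let j := IsOpenImmersion.lift W₀.ι (T₁.ι ≫ (g ⁻¹ᵁ V).ι ≫ g) hr2
    have hj : j ≫ W₀.ι = T₁.ι ≫ (g ⁻¹ᵁ V).ι ≫ g := IsOpenImmersion.lift_fac _ _ _
    haveI : IsOpenImmersion (j ≫ W₀.ι) := by rw [hj]; infer_instance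
    haveI : IsOpenImmersion j := IsOpenImmersion.of_comp j W₀.ι
    exact isReduced_of_isOpenImmersion j
  haveI : IsIso σV := isIso_of_isClosedImmersion_of_surjective σV
  haveI : IsIso (σV ≫ (g ∣_ V)) := by rw [hsec]; infer_instance
  exact IsIso.of_isIso_comp_left σV (g ∣_ V)

end Groth.Agent.Lib.Helper26.ModZB

namespace Groth.Agent.Lib.Helper26.ModZB

theorem main_19198 (R : Type u) [CommRing R] [IsDomain R]
    [IsDiscreteValuationRing R] {C X Z : Scheme.{u}} (πC : C ⟶ Spec (CommRingCat.of R)) [Flat πC]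
    [LocallyOfFiniteType πC] (f : X ⟶ C) [IsProper f] (i : Z ⟶ X) [IsClosedImmersion i]
    [Flat ((i ≫ f) ≫ πC)] (ϖ : R) (hϖ : Irreducible ϖ)
    (hgen : IsIso ((i ≫ f) ∣_ (πC ⁻¹ᵁ (PrimeSpectrum.basicOpen ϖ))))
    (c : C) (hdom : IsDomain (C.presheaf.stalk c)) (hnorm : IsIntegrallyClosed (C.presheaf.stalk c))
    (hdim : ringKrullDim (C.presheaf.stalk c) = 1) :
    ∃ V : C.Opens, c ∈ V ∧ IsIso ((i ≫ f) ∣_ V) :=
  core ϖ hϖ.ne_zero πC (i ≫ f) hgen c hdom hnorm hdim.le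

end Groth.Agent.Lib.Helper26.ModZB
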