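import Mathlib
import Groth.Agent.Lib.Helper26.MonSmA

namespace Groth.Agent.Lib.Helper26.MonSmB
open Groth.Agent.Lib.Helper26.MonSmA
open scoped TensorProduct
open KaehlerDifferential

variable {k : Type*} [Field k] {N : Type*} [AddCommMonoid N] [DecidableEq N]

noncomputable abbrev Phi (k : Type*) [Field k] (S : Finset N) :
    MvPolynomial ↥S k →ₐ[k] AddMonoidAlgebra k N :=
  AddMonoidAlgebra.mapDomainAlgHom k k (L S).toAddMonoidHom

lemma Phi_monomial (S : Finset N) (a : ↥S →₀ ℕ) (c : k) :
    Phi k S (MvPolynomial.monomial a c) = AddMonoidAlgebra.single (L S a) c := by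
  rw [← MvPolynomial.single_eq_monomial]
  simp [Phi]

lemma coeff_Phi_of_unique (S : Finset N) (f : MvPolynomial ↥S k) (n : N) (a₀ : ↥S →₀ ℕ)
    (h1 : L S a₀ = n) (h2 : ∀ a, L S a = n → a = a₀) :
    (Phi k S f).coeff n = MvPolynomial.coeff a₀ f := by
  classical
  induction f using MvPolynomial.induction_on' with
  | add p q hp hq =>
    rw [map_add, AddMonoidAlgebra.coeff_add, Finsupp.add_apply, hp, hq, MvPolynomial.coeff_add]
  | monomial a c =>
    rw [Phi_monomial, MvPolynomial.coeff_monomial]
    by_cases h : a = a₀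
    · subst h; simp [h1, AddMonoidAlgebra.coeff_single]
    · have : L S a ≠ n := fun hh => h (h2 a hh)
      simp [h, this, AddMonoidAlgebra.coeff_single]

lemma Phi_surjective (S : Finset N) (hS : AddSubmonoid.closure (S : Set N) = ⊤) :
    Function.Surjective (Phi k S) := by
  intro y
  obtain ⟨x, hx⟩ := Finsupp.mapDomain_surjective (L_surjective S hS) (M := k) y.coeff
  refine ⟨AddMonoidAlgebra.ofCoeff x, ?_⟩
  apply AddMonoidAlgebra.coeff_injective
  simpa [Phi] using hx

theorem Phi_injective [IsCancelAdd N] (S : Finset N)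
    (hS : AddSubmonoid.closure (S : Set N) = ⊤)
    (hmin : ∀ s ∈ S, s ∉ AddSubmonoid.closure ((S.erase s : Finset N) : Set N))
    (hsharp : ∀ n : N, IsAddUnit n → n = 0)
    [Algebra.FormallySmooth k (AddMonoidAlgebra k N)] : Function.Injective (Phi k S) := by
  classical
  have h0 := zero_notMem_of_min S hmin
  letI : Algebra (MvPolynomial ↥S k) (AddMonoidAlgebra k N) := (Phi k S).toRingHom.toAlgebra
  haveI : IsScalarTower k (MvPolynomial ↥S k) (AddMonoidAlgebra k N) :=
    IsScalarTower.of_algebraMap_eq' (Phi k S).comp_algebraMap.symm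
  have hsurj : Function.Surjective (algebraMap (MvPolynomial ↥S k) (AddMonoidAlgebra k N)) :=
    Phi_surjective S hS
  set K := RingHom.ker (algebraMap (MvPolynomial ↥S k) (AddMonoidAlgebra k N)) with hK
  obtain ⟨l, hl⟩ := (Algebra.FormallySmooth.iff_split_injection (R := k) hsurj).mp inferInstance
  set M : Ideal (MvPolynomial ↥S k) :=
    RingHom.ker (MvPolynomial.constantCoeff (R := k) (σ := ↥S)) with hM
  have hKM : K ≤ M := by
    intro x hx
    rw [hM, RingHom.mem_ker, MvPolynomial.constantCoeff_eq]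
    have hx' : Phi k S x = 0 := hx
    have := coeff_Phi_of_unique S x 0 0 (map_zero _) (fun a ha => L_eq_zero S hsharp h0 a ha)
    rw [hx'] at this
    simpa using this.symm
  have hpd : ∀ x ∈ K, ∀ i : ↥S, MvPolynomial.pderiv i x ∈ M := by
    intro x hx i
    rw [hM, RingHom.mem_ker, MvPolynomial.constantCoeff_eq, MvPolynomial.coeff_pderiv]
    have hx' : Phi k S x = 0 := hx
    have := coeff_Phi_of_unique S x (i : N) (Finsupp.single i 1) (by simp)
      (fun a ha => L_eq_gen S hsharp h0 i (hmin _ i.2) a ha)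
    rw [hx'] at this
    simp only [AddMonoidAlgebra.coeff_zero, Finsupp.coe_zero, Pi.zero_apply] at this
    simp [← this]
  have key : ∀ x ∈ K, x ∈ M * K := by
    intro x hx
    have e1 : K.toCotangent ⟨x, hx⟩ = l (1 ⊗ₜ D k _ x) := by
      have := LinearMap.congr_fun hl (K.toCotangent ⟨x, hx⟩)
      rw [LinearMap.comp_apply, kerCotangentToTensor_toCotangent] at this
      exact this.symm
    have e2 : D k (MvPolynomial ↥S k) x
        = ∑ i, MvPolynomial.pderiv i x • D k _ (MvPolynomial.X i) := by
      have := (KaehlerDifferential.mvPolynomialBasis k ↥S).sum_repr (D k _ x)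
      simp only [mvPolynomialBasis_repr_apply, mvPolynomialBasis_apply] at this
      exact this.symm
    choose y hy using fun i : ↥S =>
      Ideal.toCotangent_surjective K (l (1 ⊗ₜ D k _ (MvPolynomial.X i)))
    have e3 : K.toCotangent ⟨x, hx⟩ = K.toCotangent (∑ i, MvPolynomial.pderiv i x • y i) := by
      rw [e1, e2, TensorProduct.tmul_sum, map_sum, map_sum]
      refine Finset.sum_congr rfl fun i _ => ?_
      rw [TensorProduct.tmul_smul, map_smul, map_smul, hy]
    rw [Ideal.toCotangent_eq] at e3
    have e4 : ((∑ i, MvPolynomial.pderiv i x • y i : K) : MvPolynomial ↥S k) ∈ M * K := by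
      rw [AddSubmonoidClass.coe_finsetSum]
      refine Ideal.sum_mem _ fun i _ => ?_
      exact Ideal.mul_mem_mul (hpd x hx i) (y i).2
    have e5 : K ^ 2 ≤ M * K := by rw [pow_two]; exact Ideal.mul_mono_left hKM
    have := add_mem (e5 e3) e4
    simpa using this
  have hfg : (K : Submodule (MvPolynomial ↥S k) (MvPolynomial ↥S k)).FG :=
    IsNoetherian.noetherian K
  obtain ⟨r, hr1, hr2⟩ := Submodule.exists_sub_one_mem_and_smul_eq_zero_of_fg_of_le_smul M K hfg
    (by rw [smul_eq_mul]; exact key)
  have hr0 : r ≠ 0 := by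
    rintro rfl
    rw [hM, RingHom.mem_ker] at hr1
    simp at hr1
  have hKbot : K = ⊥ := by
    rw [eq_bot_iff]
    intro x hx
    have := hr2 x hx
    rw [smul_eq_mul, mul_eq_zero] at this
    exact this.resolve_left hr0
  exact (RingHom.injective_iff_ker_eq_bot _).mpr hKbot

end Groth.Agent.Lib.Helper26.MonSmB
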