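import Mathlib
import Groth.Agent.Lib.Helper26.MonSmB

namespace Groth.Agent.Lib.Helper26.MonSmC
open Groth.Agent.Lib.Helper26.MonSmA Groth.Agent.Lib.Helper26.MonSmB
open scoped TensorProduct

universe u

theorem main_18238 (R : Type u) [CommRing R] (N : Type)
    [AddCommMonoid N] [AddMonoid.FG N] [IsCancelAdd N] (hsharp : ∀ n : N, IsAddUnit n → n = 0)
    [Algebra.Smooth R (AddMonoidAlgebra R N)] :
    ∃ (P : Type u) (_ : AddCommGroup P) (_ : Module R P), Module.Finite R P ∧ Module.Projective R P ∧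
      Nonempty (AddMonoidAlgebra R N ≃ₐ[R] SymmetricAlgebra R P) := by
  classical
  obtain ⟨S, hS, hmin⟩ := exists_min_gen (N := N)
  rcases subsingleton_or_nontrivial R with hR | hR
  · refine ⟨PUnit, inferInstance, inferInstance, inferInstance, inferInstance, ⟨?_⟩⟩
    haveI : Subsingleton (AddMonoidAlgebra R N) := inferInstance
    haveI : Subsingleton (SymmetricAlgebra R PUnit.{u+1}) :=
      (algebraMap R (SymmetricAlgebra R PUnit.{u+1})).codomain_trivial
    exact
      { toFun := fun _ => 0
        invFun := fun _ => 0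
        left_inv := fun _ => Subsingleton.elim _ _
        right_inv := fun _ => Subsingleton.elim _ _
        map_mul' := fun _ _ => Subsingleton.elim _ _
        map_add' := fun _ _ => Subsingleton.elim _ _
        commutes' := fun _ => Subsingleton.elim _ _ }
  · obtain ⟨𝔪, h𝔪⟩ := Ideal.exists_maximal R
    letI : Field (R ⧸ 𝔪) := Ideal.Quotient.field 𝔪
    haveI : Algebra.FormallySmooth (R ⧸ 𝔪) ((R ⧸ 𝔪) ⊗[R] AddMonoidAlgebra R N) := inferInstance
    haveI : Algebra.FormallySmooth (R ⧸ 𝔪) (AddMonoidAlgebra (R ⧸ 𝔪) N) :=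
      Algebra.FormallySmooth.of_equiv (AddMonoidAlgebra.scalarTensorEquiv R (R ⧸ 𝔪))
    have hinj := Phi_injective (k := R ⧸ 𝔪) S hS hmin hsharp
    have hLinj : Function.Injective (L S) := by
      intro a b hab
      have : Phi (R ⧸ 𝔪) S (MvPolynomial.monomial a 1) = Phi (R ⧸ 𝔪) S (MvPolynomial.monomial b 1) := by
        rw [Phi_monomial, Phi_monomial, hab]
      exact MvPolynomial.monomial_left_injective (one_ne_zero) (hinj this)
    let e : (↥S →₀ ℕ) ≃+ N :=
      AddEquiv.ofBijective (L S).toAddMonoidHom ⟨hLinj, L_surjective S hS⟩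
    refine ⟨↥S →₀ R, inferInstance, inferInstance, inferInstance, inferInstance, ⟨?_⟩⟩
    exact (AddMonoidAlgebra.domCongr R R e).symm.trans
      (SymmetricAlgebra.equivMvPolynomial (Finsupp.basisSingleOne)).symm

end Groth.Agent.Lib.Helper26.MonSmC
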