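import Mathlib

set_option autoImplicit false
set_option linter.style.haveILetI false
set_option linter.unusedSectionVars false

namespace Groth.Agent.Lib.Helper26.Mono1

open PowerSeries

universe u

variable {k : Type u} [Field k]

/-- gaps of a subspace of `k[[t]]`: the naturals that are not orders of elements -/
def gaps (V : Submodule k (PowerSeries k)) : Set ℕ := {n | ∀ f ∈ V, PowerSeries.order f ≠ n}

variable (V : Submodule k (PowerSeries k)) (N : ℕ)
  (hN : ∀ f : PowerSeries k, (N : ℕ∞) ≤ PowerSeries.order f → f ∈ V)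

include hN in
lemma gaps_lt {n : ℕ} (hn : n ∈ gaps V) : n < N := by
  by_contra hle
  push Not at hle
  refine hn (X ^ n) (hN _ ?_) (order_X_pow n)
  rw [order_X_pow]
  exact_mod_cast hle

include hN in
lemma gaps_finite : (gaps V).Finite :=
  (Set.finite_lt_nat N).subset fun _ hn => gaps_lt V N hN hn

/-- killing the leading term -/
lemma order_sub_smul {f w : PowerSeries k} {n : ℕ} (hf : PowerSeries.order f = n)
    (hw : PowerSeries.order w = n) :
    ((n + 1 : ℕ) : ℕ∞) ≤ PowerSeries.order (f - (coeff n f / coeff n w) • w) := by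
  apply nat_le_order
  intro i hi
  rw [map_sub, map_smul, smul_eq_mul]
  rcases Nat.lt_succ_iff_lt_or_eq.mp hi with h | h
  · rw [coeff_of_lt_order i (by rw [hf]; exact_mod_cast h),
      coeff_of_lt_order i (by rw [hw]; exact_mod_cast h), mul_zero, sub_zero]
  · subst h
    have hw0 : coeff i w ≠ 0 := by
      rw [order_eq_nat] at hw
      exact hw.1
    field_simp
    ring

include hN in
lemma span_gaps (j : ℕ) : ∀ f : PowerSeries k, (N : ℕ∞) ≤ PowerSeries.order f + j →
    V.mkQ f ∈ Submodule.span k (Set.range fun n : gaps V => V.mkQ (X ^ (n : ℕ))) := by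
  induction j with
  | zero =>
    intro f hf
    have : f ∈ V := hN f (by simpa using hf)
    rw [(Submodule.mkQ_apply V f), (Submodule.Quotient.mk_eq_zero V).mpr this]
    exact Submodule.zero_mem _
  | succ j ih =>
    intro f hf
    by_cases hf0 : f = 0
    · rw [hf0, map_zero]; exact Submodule.zero_mem _
    obtain ⟨n, hn⟩ : ∃ n : ℕ, PowerSeries.order f = n := by
      have := (PowerSeries.order_finite_iff_ne_zero (φ := f)).mpr hf0
      exact ⟨(PowerSeries.order f).toNat, (ENat.natCast_toNat this.ne).symm⟩
    by_cases hgap : n ∈ gaps V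
    · -- subtract the monomial
      have h1 := order_sub_smul (f := f) (w := X ^ n) hn (order_X_pow n)
      set f' := f - (coeff n f / coeff n (X ^ n : PowerSeries k)) • (X ^ n : PowerSeries k) with hf'
      have h2 : (N : ℕ∞) ≤ PowerSeries.order f' + j := by
        refine le_trans hf ?_
        rw [hn]
        calc ((n : ℕ∞)) + ((j + 1 : ℕ) : ℕ∞) = ((n + 1 : ℕ) : ℕ∞) + j := by push_cast; ring
          _ ≤ _ := by gcongr
      have h3 := ih f' h2
      have h4 : f = f' + (coeff n f / coeff n (X ^ n : PowerSeries k)) • (X ^ n : PowerSeries k) := by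
        rw [hf']; ring
      rw [h4, map_add, map_smul]
      refine Submodule.add_mem _ h3 (Submodule.smul_mem _ _ (Submodule.subset_span ⟨⟨n, hgap⟩, rfl⟩))
    · -- subtract an element of V
      have : ∃ w ∈ V, PowerSeries.order w = n := by
        by_contra hcon
        push Not at hcon
        exact hgap hcon
      obtain ⟨w, hwV, hw⟩ := this
      have h1 := order_sub_smul (f := f) (w := w) hn hw
      set f' := f - (coeff n f / coeff n w) • w with hf'
      have h2 : (N : ℕ∞) ≤ PowerSeries.order f' + j := by
        refine le_trans hf ?_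
        rw [hn]
        calc ((n : ℕ∞)) + ((j + 1 : ℕ) : ℕ∞) = ((n + 1 : ℕ) : ℕ∞) + j := by push_cast; ring
          _ ≤ _ := by gcongr
      have h3 := ih f' h2
      have h4 : V.mkQ f = V.mkQ f' := by
        rw [Submodule.mkQ_apply, Submodule.mkQ_apply, Submodule.Quotient.eq, hf']
        have : f - (f - (coeff n f / coeff n w) • w) = (coeff n f / coeff n w) • w := by ring
        rw [this]
        exact V.smul_mem _ hwV
      rw [h4]
      exact h3

lemma li_gaps : LinearIndependent k (fun n : gaps V => V.mkQ (X ^ (n : ℕ))) := by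
  classical
  rw [linearIndependent_iff']
  intro s g hsum
  by_contra hcon
  push Not at hcon
  obtain ⟨i₁, hi₁s, hi₁⟩ := hcon
  -- the polynomial
  set P : PowerSeries k := ∑ i ∈ s, g i • (X ^ (i : ℕ) : PowerSeries k) with hP
  have hPV : P ∈ V := by
    have : V.mkQ P = 0 := by
      rw [hP, map_sum]
      simpa only [map_smul] using hsum
    rwa [Submodule.mkQ_apply, Submodule.Quotient.mk_eq_zero] at this
  -- support
  let T : Finset ℕ := (s.filter fun i => g i ≠ 0).image (fun i : gaps V => (i : ℕ))
  have hT : T.Nonempty :=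
    ⟨(i₁ : ℕ), Finset.mem_image_of_mem (fun i : gaps V => (i : ℕ)) (Finset.mem_filter.mpr ⟨hi₁s, hi₁⟩)⟩
  set n₀ := T.min' hT with hn₀
  have hn₀T : n₀ ∈ T := Finset.min'_mem T hT
  obtain ⟨i₀, hi₀, hi₀n⟩ := Finset.mem_image.mp hn₀T
  rw [Finset.mem_filter] at hi₀
  have hcoeff : ∀ m : ℕ, coeff m P = ∑ i ∈ s, if m = (i : ℕ) then g i else 0 := by
    intro m
    rw [hP, map_sum]
    refine Finset.sum_congr rfl fun i _ => ?_
    rw [map_smul, coeff_X_pow, smul_eq_mul]
    split_ifs <;> simp
  have hord : PowerSeries.order P = n₀ := by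
    rw [order_eq_nat]
    constructor
    · rw [hcoeff, Finset.sum_eq_single i₀]
      · rw [if_pos hi₀n.symm]; exact hi₀.2
      · intro b _ hb
        rw [if_neg]
        intro h
        exact hb (Subtype.ext (h.symm.trans hi₀n.symm ▸ rfl))
      · intro h; exact absurd hi₀.1 h
    · intro m hm
      rw [hcoeff]
      refine Finset.sum_eq_zero fun i hi => ?_
      split_ifs with h
      · by_contra hgi
        have : (i : ℕ) ∈ T :=
          Finset.mem_image_of_mem (fun i : gaps V => (i : ℕ)) (Finset.mem_filter.mpr ⟨hi, hgi⟩)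
        have := Finset.min'_le T _ this
        omega
      · rfl
  exact i₀.2 P hPV (by rw [hord, ← hi₀n])

include hN in
theorem finrank_quotient_eq_ncard_gaps :
    Module.finrank k (PowerSeries k ⧸ V) = (gaps V).ncard := by
  have hsp : ⊤ ≤ Submodule.span k (Set.range fun n : gaps V => V.mkQ (X ^ (n : ℕ))) := by
    intro y _
    obtain ⟨f, rfl⟩ := V.mkQ_surjective y
    by_cases hf0 : f = 0
    · rw [hf0, map_zero]; exact Submodule.zero_mem _
    exact span_gaps V N hN N f le_add_self
  let b := Module.Basis.mk (li_gaps V) hsp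
  rw [Module.finrank_eq_nat_card_basis b, Nat.card_coe_set_eq]

end Groth.Agent.Lib.Helper26.Mono1
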