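import Mathlib

set_option autoImplicit false
set_option linter.style.haveILetI false
set_option linter.unusedSectionVars false

namespace Groth.Agent.Lib.Helper26.ValSemi

open PowerSeries

universe u

variable {k : Type u} [Field k] (A : Subalgebra k (PowerSeries k))

/-- successive approximation by elements of `N` -/
lemma approx (N : Submodule ↥A (PowerSeries k)) (c' : ℕ)
    (hΓ : ∀ n : ℕ, c' ≤ n → ∃ h ∈ N, PowerSeries.order h = n)
    (p : PowerSeries k) (hp : (c' : ℕ∞) ≤ PowerSeries.order p) (j : ℕ) :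
    ∃ n ∈ N, ((c' + j : ℕ) : ℕ∞) ≤ PowerSeries.order (p - n) := by
  induction j with
  | zero => exact ⟨0, N.zero_mem, by simpa using hp⟩
  | succ j ih =>
    obtain ⟨n, hn, hle⟩ := ih
    by_cases hlt : ((c' + (j + 1) : ℕ) : ℕ∞) ≤ PowerSeries.order (p - n)
    · exact ⟨n, hn, hlt⟩
    · have hord : PowerSeries.order (p - n) = ((c' + j : ℕ) : ℕ∞) := by
        apply le_antisymm _ hle
        rw [not_le] at hlt
        obtain ⟨m, hm⟩ := ENat.ne_top_iff_exists.mp (ne_top_of_lt hlt)
        rw [← hm] at hlt ⊢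
        have : m < c' + (j + 1) := by exact_mod_cast hlt
        have : m ≤ c' + j := by omega
        exact_mod_cast this
      obtain ⟨h, hh, hho⟩ := hΓ (c' + j) (Nat.le_add_right _ _)
      have hb : coeff (c' + j) h ≠ 0 := by
        rw [PowerSeries.order_eq_nat] at hho
        exact hho.1
      set a := coeff (c' + j) (p - n) with ha
      set b := coeff (c' + j) h with hbdef
      have hmem : (a / b) • h ∈ N := by
        have : (a / b) • h = (algebraMap k ↥A (a / b)) • h := (algebraMap_smul ↥A (a / b) h).symm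
        rw [this]
        exact N.smul_mem _ hh
      refine ⟨n + (a / b) • h, N.add_mem hn hmem, ?_⟩
      apply PowerSeries.le_order
      intro i hi
      have hi' : i < c' + (j + 1) := by exact_mod_cast hi
      have e1 : p - (n + (a / b) • h) = (p - n) - (a / b) • h := by ring
      rw [e1, map_sub, PowerSeries.coeff_smul]
      rcases Nat.lt_succ_iff_lt_or_eq.mp (show i < (c' + j) + 1 from hi') with h1 | h1
      · rw [PowerSeries.coeff_of_lt_order i (by rw [hord]; exact_mod_cast h1),
          PowerSeries.coeff_of_lt_order i (by rw [hho]; exact_mod_cast h1)]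
        simp
      · subst h1
        rw [← ha, ← hbdef, smul_eq_mul, div_mul_cancel₀ a hb, sub_self]

omit A in
/-- divisibility in `k[[t]]` by order -/
lemma exists_mul_of_order_le (s q : PowerSeries k) (e c' : ℕ) (hs : PowerSeries.order s = e)
    (hq : ((c' + e : ℕ) : ℕ∞) ≤ PowerSeries.order q) :
    ∃ p' : PowerSeries k, (c' : ℕ∞) ≤ PowerSeries.order p' ∧ q = s * p' := by
  have hs0 : s ≠ 0 := by
    intro h
    rw [h, PowerSeries.order_zero] at hs
    exact ENat.top_ne_natCast e hs
  obtain ⟨w, hw⟩ := PowerSeries.X_pow_order_dvd (φ := s)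
  rw [hs, ENat.toNat_natCast] at hw
  have hwo : PowerSeries.order w = 0 := by
    have h1 : PowerSeries.order s = PowerSeries.order ((X : PowerSeries k) ^ e) +
        PowerSeries.order w := by
      conv_lhs => rw [hw]
      exact PowerSeries.order_mul _ _
    rw [hs, PowerSeries.order_X_pow] at h1
    have h2 : (e : ℕ∞) + 0 = (e : ℕ∞) + PowerSeries.order w := by rw [add_zero]; exact h1
    exact (ENat.add_left_injective_of_ne_top (ENat.natCast_ne_top e)
      (by rw [add_comm, h2, add_comm] : (0 : ℕ∞) + e = PowerSeries.order w + e)).symm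
  have hwu : IsUnit w := by
    rw [PowerSeries.isUnit_iff_constantCoeff, isUnit_iff_ne_zero]
    have := (PowerSeries.order_eq_nat (n := 0)).mp (by exact_mod_cast hwo)
    simpa using this.1
  obtain ⟨w', hw'⟩ := hwu.exists_right_inv
  obtain ⟨q₁, hq₁⟩ : (X : PowerSeries k) ^ (c' + e) ∣ q := by
    rw [PowerSeries.X_pow_dvd_iff]
    intro m hm
    apply PowerSeries.coeff_of_lt_order
    exact lt_of_lt_of_le (by exact_mod_cast hm) hq
  refine ⟨w' * X ^ c' * q₁, ?_, ?_⟩
  · calc (c' : ℕ∞) = PowerSeries.order ((X : PowerSeries k) ^ c') :=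
          (PowerSeries.order_X_pow c').symm
      _ ≤ PowerSeries.order w' + PowerSeries.order ((X : PowerSeries k) ^ c') +
          PowerSeries.order q₁ := by
          rw [add_comm (PowerSeries.order w'), add_assoc]
          exact le_self_add
      _ = PowerSeries.order (w' * X ^ c' * q₁) := by
          rw [PowerSeries.order_mul, PowerSeries.order_mul]
  · rw [hq₁, hw, pow_add]
    calc (X : PowerSeries k) ^ c' * X ^ e * q₁ = (w * w') * (X ^ c' * X ^ e * q₁) := by
          rw [hw', one_mul]
      _ = X ^ e * w * (w' * X ^ c' * q₁) := by ring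

omit A in
lemma not_finite_powerSeries : ¬ Module.Finite k (PowerSeries k) := by
  intro h
  haveI : Algebra.IsIntegral k (PowerSeries k) := Algebra.IsIntegral.of_finite k (PowerSeries k)
  have hf : IsField (PowerSeries k) :=
    isField_of_isIntegral_of_isField' (Field.toIsField k)
  have hX : (X : PowerSeries k) ≠ 0 := PowerSeries.X_ne_zero
  obtain ⟨y, hy⟩ := hf.mul_inv_cancel hX
  have := congrArg (PowerSeries.constantCoeff (R := k)) hy
  simp at this

/-- an element of `A` of positive finite order -/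
lemma exists_pos_order (hA : Module.Finite ↥A (PowerSeries k)) :
    ∃ s ∈ A, ∃ e : ℕ, 0 < e ∧ PowerSeries.order s = e := by
  by_contra hcon
  have hconst : ∀ f ∈ A, f = PowerSeries.C (PowerSeries.constantCoeff f) := by
    intro f hf
    by_contra hne
    apply hcon
    set s := f - PowerSeries.C (PowerSeries.constantCoeff f) with hs
    have hsA : s ∈ A := A.sub_mem hf (A.algebraMap_mem _)
    have hs0 : s ≠ 0 := fun h => hne (sub_eq_zero.mp h)
    have hfin : PowerSeries.order s ≠ ⊤ := by rwa [Ne, PowerSeries.order_eq_top]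
    obtain ⟨e, he⟩ := ENat.ne_top_iff_exists.mp hfin
    refine ⟨s, hsA, e, ?_, he.symm⟩
    rcases Nat.eq_zero_or_pos e with h0 | h0
    · exfalso
      subst h0
      have := (PowerSeries.order_eq_nat (n := 0)).mp he.symm
      apply this.1
      simp [hs]
    · exact h0
  apply not_finite_powerSeries (k := k)
  obtain ⟨S, hS⟩ := hA.fg_top
  refine ⟨⟨S, ?_⟩⟩
  rw [eq_top_iff]
  intro x hxtop
  clear hxtop
  have hx : x ∈ Submodule.span ↥A (S : Set (PowerSeries k)) := by rw [hS]; trivial
  induction hx using Submodule.span_induction with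
  | mem y hy => exact Submodule.subset_span hy
  | zero => exact Submodule.zero_mem _
  | add y z _ _ hy hz => exact Submodule.add_mem _ hy hz
  | smul a y _ hy =>
    have ha := hconst a.1 a.2
    have : a • y = (PowerSeries.constantCoeff (a : PowerSeries k)) • y := by
      show (a : PowerSeries k) * y = _
      conv_lhs => rw [ha]
      rw [← PowerSeries.smul_eq_C_mul]
    rw [this]
    exact Submodule.smul_mem _ _ hy

/-- if all large integers are orders of elements of `N` then `N` contains all power series of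
large order. -/
theorem mem_of_order_ge (hA : Module.Finite ↥A (PowerSeries k))
    (N : Submodule ↥A (PowerSeries k)) (c' : ℕ)
    (hΓ : ∀ n : ℕ, c' ≤ n → ∃ h ∈ N, PowerSeries.order h = n)
    (p : PowerSeries k) (hp : (c' : ℕ∞) ≤ PowerSeries.order p) : p ∈ N := by
  obtain ⟨s, hsA, e, he, hse⟩ := exists_pos_order A hA
  -- the submodule of series of order ≥ c'
  let Pc : Submodule ↥A (PowerSeries k) :=
    { carrier := {q | (c' : ℕ∞) ≤ PowerSeries.order q}
      add_mem' := fun {a b} ha hb => le_trans (le_min ha hb) (PowerSeries.min_order_le_order_add a b)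
      zero_mem' := by simp
      smul_mem' := fun a q hq => by
        show (c' : ℕ∞) ≤ PowerSeries.order ((a : PowerSeries k) * q)
        rw [PowerSeries.order_mul]
        exact le_trans hq le_add_self }
  have hPc : ∀ q, q ∈ Pc ↔ (c' : ℕ∞) ≤ PowerSeries.order q := fun q => Iff.rfl
  have hPcfg : Pc.FG := by
    have : Pc = (⊤ : Submodule ↥A (PowerSeries k)).map
        (LinearMap.mulLeft ↥A ((X : PowerSeries k) ^ c')) := by
      ext q
      rw [hPc, Submodule.mem_map]
      constructor
      · intro hq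
        obtain ⟨q₁, hq₁⟩ : (X : PowerSeries k) ^ c' ∣ q := by
          rw [PowerSeries.X_pow_dvd_iff]
          intro m hm
          apply PowerSeries.coeff_of_lt_order
          exact lt_of_lt_of_le (by exact_mod_cast hm) hq
        exact ⟨q₁, trivial, hq₁.symm⟩
      · rintro ⟨q₁, -, rfl⟩
        rw [LinearMap.mulLeft_apply, PowerSeries.order_mul, PowerSeries.order_X_pow]
        exact le_self_add
    rw [this]
    exact hA.fg_top.map _
  let IQ : Submodule ↥A (PowerSeries k ⧸ N) := Pc.map N.mkQ
  have hIQfg : IQ.FG := hPcfg.map _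
  let s' : ↥A := ⟨s, hsA⟩
  have hle : IQ ≤ (Ideal.span {s'}) • IQ := by
    rintro _ ⟨q, hq, rfl⟩
    obtain ⟨n, hn, hord⟩ := approx A N c' hΓ q ((hPc q).mp hq) e
    obtain ⟨p', hp', hqe⟩ := exists_mul_of_order_le s (q - n) e c' hse hord
    have : N.mkQ q = s' • N.mkQ p' := by
      rw [← map_smul, Submodule.mkQ_apply, Submodule.mkQ_apply, Submodule.Quotient.eq]
      have : s' • p' = s * p' := rfl
      rw [this, ← hqe]
      simpa using hn
    rw [this]
    exact Submodule.smul_mem_smul (Ideal.mem_span_singleton_self s')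
      (Submodule.mem_map_of_mem ((hPc p').mpr hp'))
  obtain ⟨r, hr1, hr2⟩ :=
    Submodule.exists_sub_one_mem_and_smul_eq_zero_of_fg_of_le_smul (Ideal.span {s'}) IQ hIQfg hle
  obtain ⟨a, ha⟩ := Ideal.mem_span_singleton'.mp hr1
  have hrP : (r : PowerSeries k) = 1 + (a : PowerSeries k) * s := by
    have := congrArg (Subtype.val) ha
    simp only [Subalgebra.coe_mul, Subalgebra.coe_sub, Subalgebra.coe_one] at this
    rw [show (s' : PowerSeries k) = s from rfl] at this
    rw [this]; ring
  have hs0 : PowerSeries.constantCoeff s = 0 := by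
    rw [← PowerSeries.coeff_zero_eq_constantCoeff_apply]
    apply PowerSeries.coeff_of_lt_order
    rw [hse]
    exact_mod_cast he
  have hru : IsUnit (r : PowerSeries k) := by
    rw [PowerSeries.isUnit_iff_constantCoeff, hrP]
    simp [hs0]
  obtain ⟨ri, hri⟩ := hru.exists_right_inv
  have hp0 : ri * p ∈ Pc := by
    rw [hPc, PowerSeries.order_mul]
    exact le_trans hp le_add_self
  have h0 := hr2 (N.mkQ (ri * p)) (Submodule.mem_map_of_mem hp0)
  rw [← map_smul, Submodule.mkQ_apply, Submodule.Quotient.mk_eq_zero] at h0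
  have : r • (ri * p) = p := by
    show (r : PowerSeries k) * (ri * p) = p
    rw [← mul_assoc, hri, one_mul]
  rwa [this] at h0

theorem main_15034 (hA : Module.Finite ↥A (PowerSeries k))
    (M N : Submodule ↥A (PowerSeries k))
    (hM1 : (1 : PowerSeries k) ∈ M)
    (ΓM ΓN : Set ℕ) (hΓM : ∀ n : ℕ, n ∈ ΓM ↔ ∃ f ∈ M, PowerSeries.order f = n)
    (hΓN : ∀ n : ℕ, n ∈ ΓN ↔ ∃ f ∈ N, PowerSeries.order f = n) :
    (∀ n : ℕ, (∃ u : PowerSeries k, PowerSeries.order u = n ∧ ∀ m ∈ M, u * m ∈ N) →
      ∀ a ∈ ΓM, n + a ∈ ΓN) ∧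
    ∀ c' : ℕ, (∀ n : ℕ, c' ≤ n → ∃ u : PowerSeries k, PowerSeries.order u = n ∧
      ∀ m ∈ M, u * m ∈ N) ↔ (∀ n : ℕ, c' ≤ n → ∀ a ∈ ΓM, n + a ∈ ΓN) := by
  have part1 : ∀ n : ℕ, (∃ u : PowerSeries k, PowerSeries.order u = n ∧ ∀ m ∈ M, u * m ∈ N) →
      ∀ a ∈ ΓM, n + a ∈ ΓN := by
    rintro n ⟨u, hu, huM⟩ a ha
    obtain ⟨f, hf, hfa⟩ := (hΓM a).mp ha
    rw [hΓN]
    refine ⟨u * f, huM f hf, ?_⟩
    rw [PowerSeries.order_mul, hu, hfa]
    push_cast
    rfl
  refine ⟨part1, fun c' => ⟨fun h n hn => part1 n (h n hn), fun h n hn => ?_⟩⟩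
  have h0 : (0 : ℕ) ∈ ΓM := by
    rw [hΓM]
    exact ⟨1, hM1, by simp⟩
  have hΓ : ∀ n : ℕ, c' ≤ n → ∃ h ∈ N, PowerSeries.order h = n := by
    intro n hn
    have := h n hn 0 h0
    rw [add_zero, hΓN] at this
    exact this
  refine ⟨(X : PowerSeries k) ^ n, PowerSeries.order_X_pow n, fun m _ => ?_⟩
  apply mem_of_order_ge A hA N c' hΓ
  rw [PowerSeries.order_mul, PowerSeries.order_X_pow]
  exact le_trans (by exact_mod_cast hn) le_self_add

end Groth.Agent.Lib.Helper26.ValSemi




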