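import Mathlib
import Groth.Agent.Lib.Helper26.ValSemi
import Groth.Agent.Lib.Helper26.Mono1

set_option autoImplicit false
set_option linter.style.haveILetI false
set_option linter.unusedSectionVars false

namespace Groth.Agent.Lib.Helper26.Mono2

open TensorProduct

universe u

section Embed

variable (A : Type u) [CommRing A] [IsDomain A] (M : Type u) [AddCommGroup M] [Module A M]
  [Module.Finite A M] [NoZeroSMulDivisors A M]

/-- A finitely generated torsion-free module of rank one embeds in the ring. -/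
theorem exists_embedding
    (hrk : Module.finrank (FractionRing A) (TensorProduct A (FractionRing A) M) = 1) :
    (∃ ψ : M →ₗ[A] A, Function.Injective ψ) ∧ Nontrivial M := by
  classical
  set K := FractionRing A with hK
  have hnt : Nontrivial M := by
    by_contra hcon
    rw [not_nontrivial_iff_subsingleton] at hcon
    have : Subsingleton (K ⊗[A] M) := inferInstance
    rw [Module.finrank_zero_of_subsingleton] at hrk
    exact zero_ne_one hrk
  refine ⟨?_, hnt⟩
  have hfin : Module.finrank K (K ⊗[A] M) = Module.finrank K K := by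
    rw [hrk, Module.finrank_self]
  let e : (K ⊗[A] M) ≃ₗ[K] K := LinearEquiv.ofFinrankEq _ _ hfin
  let j : M →ₗ[A] K := (e.toLinearMap.restrictScalars A) ∘ₗ (TensorProduct.mk A K M 1)
  have hj : Function.Injective j := by
    rw [injective_iff_map_eq_zero]
    intro m hm
    have h1 : (TensorProduct.mk A K M 1) m = 0 := by
      apply e.injective
      rw [map_zero]
      exact hm
    rw [IsLocalizedModule.eq_zero_iff (nonZeroDivisors A)] at h1
    obtain ⟨s, hs⟩ := h1
    have hs0 : (s : A) ≠ 0 := nonZeroDivisors.coe_ne_zero s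
    rcases smul_eq_zero.mp (show (s : A) • m = 0 from hs) with h | h
    · exact absurd h hs0
    · exact h
  -- clear denominators
  obtain ⟨G, hG⟩ := (Module.finite_def.mp (inferInstance : Module.Finite A M))
  obtain ⟨d, hd⟩ := IsLocalization.exist_integer_multiples_of_finset (nonZeroDivisors A)
    (G.image j)
  have hint : ∀ m : M, (d : A) • j m ∈ LinearMap.range (Algebra.linearMap A K) := by
    intro m
    have hm : m ∈ Submodule.span A (G : Set M) := by rw [hG]; trivial
    refine Submodule.span_induction ?_ ?_ ?_ ?_ hm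
    · intro x hx
      obtain ⟨a, ha⟩ := hd (j x) (Finset.mem_image_of_mem j hx)
      exact ⟨a, ha⟩
    · rw [map_zero, smul_zero]; exact Submodule.zero_mem _
    · intro x y _ _ hx hy
      rw [map_add, smul_add]; exact Submodule.add_mem _ hx hy
    · intro c x _ hx
      rw [map_smul, smul_comm]; exact Submodule.smul_mem _ _ hx
  have hinjK : Function.Injective (Algebra.linearMap A K) :=
    IsFractionRing.injective A K
  let ψ₀ : M →ₗ[A] LinearMap.range (Algebra.linearMap A K) :=
    LinearMap.codRestrict _ ((d : A) • j) hint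
  let E := LinearEquiv.ofInjective (Algebra.linearMap A K) hinjK
  refine ⟨E.symm.toLinearMap ∘ₗ ψ₀, ?_⟩
  rw [LinearMap.coe_comp]
  refine E.symm.injective.comp ?_
  intro x y hxy
  have h1 := congrArg Subtype.val hxy
  simp only [ψ₀, LinearMap.codRestrict_apply, LinearMap.smul_apply] at h1
  have hd0 : (d : A) ≠ 0 := nonZeroDivisors.coe_ne_zero d
  have h2 : j x = j y := by
    have h3 : (algebraMap A K (d : A)) * j x = (algebraMap A K (d : A)) * j y := by
      rw [← Algebra.smul_def, ← Algebra.smul_def]; exact h1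
    have hdK : algebraMap A K (d : A) ≠ 0 := by
      rw [Ne, IsFractionRing.to_map_eq_zero_iff]; exact hd0
    exact mul_left_cancel₀ hdK h3
  exact hj h2

end Embed

section Cond

open PowerSeries
open Groth.Agent.Lib.Helper26.ValSemi

variable {k : Type u} [Field k] (A : Subalgebra k (PowerSeries k))

/-- conductor exponent: all series of large order lie in `A` -/
theorem exists_cond (hA : Module.Finite ↥A (PowerSeries k))
    (hbir : ∀ f : PowerSeries k, ∃ a ∈ A, a ≠ 0 ∧ a * f ∈ A) :
    ∃ s : ℕ, ∀ f : PowerSeries k, (s : ℕ∞) ≤ PowerSeries.order f → f ∈ A := by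
  classical
  obtain ⟨G, hG⟩ := Module.finite_def.mp hA
  choose den hdenA hden0 hdenf using hbir
  set a : PowerSeries k := ∏ g ∈ G, den g with ha
  have haA : a ∈ A := Subalgebra.prod_mem A fun g _ => hdenA g
  have ha0 : a ≠ 0 := Finset.prod_ne_zero_iff.mpr fun g _ => hden0 g
  have hmul : ∀ f : PowerSeries k, a * f ∈ A := by
    intro f
    have hf : f ∈ Submodule.span ↥A (G : Set (PowerSeries k)) := by rw [hG]; trivial
    refine Submodule.span_induction ?_ ?_ ?_ ?_ hf
    · intro g hg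
      have h2 : a * g = (∏ x ∈ G.erase g, den x) * (den g * g) := by
        rw [ha, ← Finset.mul_prod_erase G den hg]; ring
      rw [h2]
      exact A.mul_mem (Subalgebra.prod_mem A fun x _ => hdenA x) (hdenf g)
    · rw [mul_zero]; exact A.zero_mem
    · intro x y _ _ hx hy
      rw [mul_add]; exact A.add_mem hx hy
    · intro c x _ hx
      have : a * (c • x) = (c : PowerSeries k) * (a * x) := by
        rw [Algebra.smul_def]
        show a * ((c : PowerSeries k) * x) = _
        ring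
      rw [this]
      exact A.mul_mem c.2 hx
  obtain ⟨s, hs⟩ : ∃ s : ℕ, PowerSeries.order a = s := by
    have := (PowerSeries.order_finite_iff_ne_zero (φ := a)).mpr ha0
    exact ⟨(PowerSeries.order a).toNat, (ENat.natCast_toNat this.ne).symm⟩
  refine ⟨s, fun f hf => ?_⟩
  obtain ⟨p', _, hp'⟩ := exists_mul_of_order_le a f s 0 hs (by simpa using hf)
  rw [hp']
  exact hmul p'

/-- order of a nonzero series as a natural number -/
lemma exists_order_eq {f : PowerSeries k} (hf : f ≠ 0) : ∃ n : ℕ, PowerSeries.order f = n := by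
  have := (PowerSeries.order_finite_iff_ne_zero (φ := f)).mpr hf
  exact ⟨(PowerSeries.order f).toNat, (ENat.natCast_toNat this.ne).symm⟩

lemma mul_X_pow_of_le {f : PowerSeries k} {n : ℕ} (hf : (n : ℕ∞) ≤ PowerSeries.order f) :
    ∃ g : PowerSeries k, f = X ^ n * g := by
  obtain ⟨p', _, hp'⟩ := exists_mul_of_order_le (X ^ n : PowerSeries k) f n 0 (order_X_pow n)
    (by simpa using hf)
  exact ⟨p', hp'⟩

theorem normal_form (hA : Module.Finite ↥A (PowerSeries k)) (s : ℕ)
    (hs : ∀ f : PowerSeries k, (s : ℕ∞) ≤ PowerSeries.order f → f ∈ A)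
    (Γ : Set ℕ) (hΓ : ∀ n : ℕ, n ∈ Γ ↔ ∃ f ∈ A, PowerSeries.order f = n)
    (M₁ : Submodule ↥A (PowerSeries k)) (hM₁ : M₁ ≠ ⊥) :
    ∃ M' : Submodule ↥A (PowerSeries k),
      (Ideal.span {(PowerSeries.X : PowerSeries k) ^ (2 * Γᶜ.ncard)}).restrictScalars ↥A ≤ M' ∧
      Nonempty (↥M₁ ≃ₗ[↥A] ↥M') ∧
      Module.finrank k (PowerSeries k ⧸ M'.restrictScalars k) = Γᶜ.ncard := by
  classical
  -- minimal order in M₁
  obtain ⟨y₀, hy₀M, hy₀0⟩ := (Submodule.ne_bot_iff M₁).mp hM₁
  have hex : ∃ n : ℕ, ∃ y ∈ M₁, PowerSeries.order y = n := by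
    obtain ⟨n, hn⟩ := exists_order_eq hy₀0
    exact ⟨n, y₀, hy₀M, hn⟩
  set m₀ := Nat.find hex with hm₀
  obtain ⟨x, hxM, hxo⟩ := Nat.find_spec hex
  have hmin : ∀ y ∈ M₁, (m₀ : ℕ∞) ≤ PowerSeries.order y := by
    intro y hy
    by_cases hy0 : y = 0
    · rw [hy0, order_zero]; exact le_top
    · obtain ⟨n, hn⟩ := exists_order_eq hy0
      rw [hn]
      exact_mod_cast Nat.find_min' hex ⟨y, hy, hn⟩
  have hx0 : x ≠ 0 := by
    intro h
    rw [h, order_zero] at hxo
    exact ENat.top_ne_natCast _ hxo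
  let μ : PowerSeries k →ₗ[↥A] PowerSeries k := LinearMap.mulLeft ↥A x
  have hμ : ∀ z, μ z = x * z := fun z => rfl
  have hμinj : Function.Injective μ := fun a b hab => mul_left_cancel₀ hx0 hab
  set M₂ : Submodule ↥A (PowerSeries k) := M₁.comap μ with hM₂
  have hM₂map : M₂.map μ = M₁ := by
    rw [hM₂, Submodule.map_comap_eq, inf_eq_right]
    intro y hy
    obtain ⟨p', _, hp'⟩ := exists_mul_of_order_le x y m₀ 0 hxo (by simpa using hmin y hy)
    exact ⟨p', hp'.symm⟩
  let E1 : ↥M₂ ≃ₗ[↥A] ↥M₁ :=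
    (Submodule.equivMapOfInjective μ hμinj M₂).trans (LinearEquiv.ofEq _ _ hM₂map)
  have h1 : (1 : PowerSeries k) ∈ M₂ := by
    rw [hM₂, Submodule.mem_comap, hμ, mul_one]; exact hxM
  have hAM₂ : ∀ a ∈ A, a ∈ M₂ := by
    intro a ha
    have := M₂.smul_mem (⟨a, ha⟩ : ↥A) h1
    rwa [Algebra.smul_def, mul_one] at this
  -- value sets
  set Γ₂ : Set ℕ := {n | ∃ f ∈ M₂, PowerSeries.order f = n} with hΓ₂
  have hΓsub : Γ ⊆ Γ₂ := by
    intro n hn
    obtain ⟨f, hfA, hf⟩ := (hΓ n).mp hn
    exact ⟨f, hAM₂ f hfA, hf⟩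
  have hadd : ∀ a ∈ Γ, ∀ b ∈ Γ₂, a + b ∈ Γ₂ := by
    intro a ha b hb
    obtain ⟨f, hfA, hf⟩ := (hΓ a).mp ha
    obtain ⟨g, hgM, hg⟩ := hb
    refine ⟨f * g, ?_, ?_⟩
    · have := M₂.smul_mem (⟨f, hfA⟩ : ↥A) hgM
      rwa [Algebra.smul_def] at this
    · rw [order_mul, hf, hg]; norm_cast
  have hlarge : ∀ n : ℕ, s ≤ n → n ∈ Γ := by
    intro n hn
    rw [hΓ]
    refine ⟨X ^ n, hs _ ?_, order_X_pow n⟩
    rw [order_X_pow]; exact_mod_cast hn
  have hex2 : ∃ n : ℕ, ∀ n' : ℕ, n ≤ n' → n' ∈ Γ₂ := ⟨s, fun n' hn' => hΓsub (hlarge n' hn')⟩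
  set c' := Nat.find hex2 with hc'def
  have hc' : ∀ n' : ℕ, c' ≤ n' → n' ∈ Γ₂ := Nat.find_spec hex2
  have hc'min : c' ≠ 0 → c' - 1 ∉ Γ₂ := by
    intro h0 hmem
    have : ∀ n' : ℕ, c' - 1 ≤ n' → n' ∈ Γ₂ := by
      intro n' hn'
      rcases Nat.eq_or_lt_of_le hn' with h | h
      · rw [← h]; exact hmem
      · exact hc' n' (by omega)
    have := Nat.find_min' hex2 this
    omega
  have hmemM₂ : ∀ p : PowerSeries k, (c' : ℕ∞) ≤ PowerSeries.order p → p ∈ M₂ := fun p hp =>
    mem_of_order_ge A hA M₂ c' (fun n hn => hc' n hn) p hp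
  -- finiteness
  have hΓfin : (Γᶜ).Finite := (Set.finite_lt_nat s).subset fun n hn => by
    by_contra hle
    exact hn (hlarge n (not_lt.mp hle))
  have hG₂sub : Γ₂ᶜ ⊆ Γᶜ := Set.compl_subset_compl.mpr hΓsub
  have hG₂fin : (Γ₂ᶜ).Finite := hΓfin.subset hG₂sub
  set δ := Γᶜ.ncard with hδ
  set g₂ := Γ₂ᶜ.ncard with hg₂
  have hg₂δ : g₂ ≤ δ := Set.ncard_le_ncard hG₂sub hΓfin
  -- the key inequality
  have hkey : c' ≤ δ + g₂ := by
    by_cases h0 : c' = 0
    · omega
    have hnot := hc'min h0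
    have hsplit := Finset.card_filter_add_card_filter_not (s := Finset.range c') (fun n => n ∈ Γ)
    rw [Finset.card_range] at hsplit
    have h1' : ((Finset.range c').filter fun n => ¬ n ∈ Γ).card ≤ δ := by
      rw [hδ, Set.ncard_eq_toFinset_card _ hΓfin]
      apply Finset.card_le_card
      intro n hn
      rw [Finset.mem_filter] at hn
      rw [Set.Finite.mem_toFinset]
      exact hn.2
    have h2' : ((Finset.range c').filter fun n => n ∈ Γ).card ≤ g₂ := by
      rw [hg₂, Set.ncard_eq_toFinset_card _ hG₂fin]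
      apply Finset.card_le_card_of_injOn (fun n => c' - 1 - n)
      · intro n hn
        rw [Finset.mem_coe, Finset.mem_filter, Finset.mem_range] at hn
        rw [Finset.mem_coe, Set.Finite.mem_toFinset]
        intro hmem
        apply hnot
        have := hadd n hn.2 _ hmem
        have e : n + (c' - 1 - n) = c' - 1 := by omega
        rwa [e] at this
      · intro a ha b hb hab
        rw [Finset.mem_coe, Finset.mem_filter, Finset.mem_range] at ha hb
        simp only at hab
        omega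
    omega
  set r := δ - g₂ with hr
  let ν : PowerSeries k →ₗ[↥A] PowerSeries k := LinearMap.mulLeft ↥A ((X : PowerSeries k) ^ r)
  have hν : ∀ z, ν z = X ^ r * z := fun z => rfl
  have hXr0 : (X : PowerSeries k) ^ r ≠ 0 := pow_ne_zero _ X_ne_zero
  have hνinj : Function.Injective ν := fun a b hab => mul_left_cancel₀ hXr0 hab
  set M' : Submodule ↥A (PowerSeries k) := M₂.map ν with hM'
  let E2 : ↥M₂ ≃ₗ[↥A] ↥M' := Submodule.equivMapOfInjective ν hνinj M₂
  have hbig : ∀ f : PowerSeries k, ((2 * δ : ℕ) : ℕ∞) ≤ PowerSeries.order f → f ∈ M' := by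
    intro f hf
    obtain ⟨g, hg⟩ := mul_X_pow_of_le hf
    have e : 2 * δ = r + (δ + g₂) := by omega
    refine ⟨X ^ (δ + g₂) * g, hmemM₂ _ ?_, ?_⟩
    · rw [order_mul, order_X_pow]
      refine le_trans ?_ le_self_add
      exact_mod_cast hkey
    · rw [hν, hg, e]; ring
  refine ⟨M', ?_, ⟨E1.symm.trans E2⟩, ?_⟩
  · intro f hf
    rw [Submodule.restrictScalars_mem, Ideal.mem_span_singleton] at hf
    obtain ⟨g, rfl⟩ := hf
    apply hbig
    rw [order_mul, order_X_pow]
    exact le_self_add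
  · rw [Mono1.finrank_quotient_eq_ncard_gaps (M'.restrictScalars k) (2 * δ)
      (fun f hf => (Submodule.restrictScalars_mem k M' f).mpr (hbig f hf))]
    have hgaps : Mono1.gaps (M'.restrictScalars k) =
        (↑(Finset.range r) : Set ℕ) ∪ (fun g => r + g) '' Γ₂ᶜ := by
      ext n
      simp only [Mono1.gaps, Set.mem_ofPred_eq, Set.mem_union, Finset.coe_range, Set.mem_Iio,
        Set.mem_image, Set.mem_compl_iff]
      constructor
      · intro hn
        by_cases hnr : n < r
        · exact Or.inl hnr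
        · refine Or.inr ⟨n - r, ?_, by omega⟩
          rintro ⟨z, hzM, hz⟩
          refine hn (X ^ r * z) ((Submodule.restrictScalars_mem k M' _).mpr ⟨z, hzM, rfl⟩) ?_
          rw [order_mul, order_X_pow, hz]
          norm_cast
          omega
      · rintro (hnr | ⟨g, hg, rfl⟩) f hf hord
        · obtain ⟨z, hzM, rfl⟩ := (Submodule.restrictScalars_mem k M' _).mp hf
          rw [hν, order_mul, order_X_pow] at hord
          have : (r : ℕ∞) ≤ n := by rw [← hord]; exact le_self_add
          have : r ≤ n := by exact_mod_cast this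
          omega
        · obtain ⟨z, hzM, rfl⟩ := (Submodule.restrictScalars_mem k M' _).mp hf
          rw [hν, order_mul, order_X_pow] at hord
          apply hg
          refine ⟨z, hzM, ?_⟩
          have h3 : (r : ℕ∞) + PowerSeries.order z = (r : ℕ∞) + (g : ℕ∞) := by
            rw [hord]; norm_cast
          exact (ENat.add_right_injective_of_ne_top (ENat.natCast_ne_top r)) h3
    rw [hgaps, Set.ncard_union_eq _ (Finset.finite_toSet _) (hG₂fin.image _),
      Set.ncard_coe_finset, Finset.card_range,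
      Set.ncard_image_of_injective _ (add_right_injective r)]
    · omega
    · rw [Set.disjoint_left]
      rintro n hn ⟨g, _, hgn⟩
      rw [Finset.coe_range, Set.mem_Iio] at hn
      simp only at hgn
      omega

theorem main_15023 (A : Subalgebra k (PowerSeries k)) (hA : Module.Finite ↥A (PowerSeries k))
    (hbir : ∀ f : PowerSeries k, ∃ a ∈ A, a ≠ 0 ∧ a * f ∈ A) (Γ : Set ℕ)
    (hΓ : ∀ n : ℕ, n ∈ Γ ↔ ∃ f ∈ A, PowerSeries.order f = n)
    (M : Type u) [AddCommGroup M] [Module ↥A M] [Module.Finite ↥A M] [NoZeroSMulDivisors ↥A M]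
    (hrk : Module.finrank (FractionRing ↥A) (TensorProduct ↥A (FractionRing ↥A) M) = 1) :
    ∃ M' : Submodule ↥A (PowerSeries k),
      (Ideal.span {(PowerSeries.X : PowerSeries k) ^ (2 * Γᶜ.ncard)}).restrictScalars ↥A ≤ M' ∧
      Nonempty (M ≃ₗ[↥A] ↥M') ∧
      Module.finrank k (PowerSeries k ⧸ M'.restrictScalars k) = Γᶜ.ncard := by
  obtain ⟨⟨ψ, hψ⟩, hnt⟩ := exists_embedding ↥A M hrk
  let ψ' : M →ₗ[↥A] PowerSeries k := (Algebra.linearMap ↥A (PowerSeries k)) ∘ₗ ψ
  have hψ' : Function.Injective ψ' := by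
    rw [LinearMap.coe_comp]
    exact Subtype.val_injective.comp hψ
  set M₁ := LinearMap.range ψ' with hM₁def
  have hM₁ : M₁ ≠ ⊥ := by
    obtain ⟨m, hm⟩ := exists_ne (0 : M)
    intro h
    have : ψ' m ∈ M₁ := ⟨m, rfl⟩
    rw [h, Submodule.mem_bot] at this
    exact hm (hψ' (this.trans (map_zero ψ').symm))
  obtain ⟨s, hs⟩ := exists_cond A hA hbir
  obtain ⟨M', h1, ⟨E⟩, h3⟩ := normal_form A hA s hs Γ hΓ M₁ hM₁
  exact ⟨M', h1, ⟨(LinearEquiv.ofInjective ψ' hψ').trans E⟩, h3⟩

end Cond

end Groth.Agent.Lib.Helper26.Mono2
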