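import Mathlib
import Groth.Agent.Lib.Helper20.UnramifiedNear

set_option autoImplicit false
set_option backward.isDefEq.respectTransparency.types false
universe u v
open AlgebraicGeometry CategoryTheory CategoryTheory.Limits Topology

namespace Groth.Agent.Lib.Helper26.SecIso

open Groth.Agent.Lib.Helper20

theorem isIso_restrict_of_le {X S : Scheme.{u}} (π : X ⟶ S) (ε : S ⟶ X) (hε : ε ≫ π = 𝟙 S)
    (U₁ : S.Opens) [IsOpenImmersion (U₁.ι ≫ ε)] (U : S.Opens)
    (hle : π ⁻¹ᵁ U ≤ (U₁.ι ≫ ε).opensRange) : IsIso (π ∣_ U) := by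
  have hr : Set.range (π ⁻¹ᵁ U).ι.base ⊆ Set.range (U₁.ι ≫ ε).base := by
    rw [Scheme.Opens.range_ι]
    exact hle
  let l : (π ⁻¹ᵁ U).toScheme ⟶ U₁.toScheme := IsOpenImmersion.lift (U₁.ι ≫ ε) (π ⁻¹ᵁ U).ι hr
  have hl : l ≫ (U₁.ι ≫ ε) = (π ⁻¹ᵁ U).ι := IsOpenImmersion.lift_fac _ _ _
  have key : (π ⁻¹ᵁ U).ι ≫ π ≫ ε = (π ⁻¹ᵁ U).ι := by
    rw [← hl]
    simp only [Category.assoc]
    rw [reassoc_of% hε]
  have hr' : Set.range (U.ι ≫ ε).base ⊆ Set.range (π ⁻¹ᵁ U).ι.base := by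
    rw [Scheme.Opens.range_ι]
    rintro _ ⟨u, rfl⟩
    change π.base ((U.ι ≫ ε).base u) ∈ U
    have h1 : π.base ((U.ι ≫ ε).base u) = ((U.ι ≫ ε) ≫ π).base u := rfl
    rw [h1, Category.assoc, hε, Category.comp_id]
    exact u.2
  let e' : U.toScheme ⟶ (π ⁻¹ᵁ U).toScheme := IsOpenImmersion.lift (π ⁻¹ᵁ U).ι (U.ι ≫ ε) hr'
  have he' : e' ≫ (π ⁻¹ᵁ U).ι = U.ι ≫ ε := IsOpenImmersion.lift_fac _ _ _
  refine ⟨⟨e', ?_, ?_⟩⟩
  · rw [← cancel_mono (π ⁻¹ᵁ U).ι, Category.assoc, he', Category.id_comp,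
      ← Category.assoc, morphismRestrict_ι, Category.assoc]
    exact key
  · rw [← cancel_mono U.ι, Category.assoc, morphismRestrict_ι, ← Category.assoc, he',
      Category.assoc, hε, Category.comp_id, Category.id_comp]

theorem isOpenImmersion_of_comp_of_fu {A B C : Scheme.{u}} (q : A ⟶ B) (p : B ⟶ C)
    [LocallyOfFiniteType p] [FormallyUnramified p] [IsOpenImmersion (q ≫ p)] :
    IsOpenImmersion q := by
  have hd : IsOpenImmersion (pullback.diagonal p) := inferInstance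
  haveI : MorphismProperty.HasOfPostcompProperty @IsOpenImmersion
      (MorphismProperty.diagonal @IsOpenImmersion) := by
    rw [MorphismProperty.hasOfPostcompProperty_iff_le_diagonal]
  exact MorphismProperty.of_postcomp (W := @IsOpenImmersion)
    (W' := MorphismProperty.diagonal @IsOpenImmersion) q p hd inferInstance

theorem holdsNear_fu_of_fibre_iso {X S : Scheme.{u}} (π : X ⟶ S) (s : S) (W : X.Opens)
    [LocallyOfFiniteType (W.ι ≫ π)] (x : W) (hx : π.base x.1 = s)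
    [IsIso (π.fiberToSpecResidueField s)] :
    HoldsNear @FormallyUnramified (W.ι ≫ π) x := by
  let g := S.fromSpecResidueField s
  have hx' : x ∈ Set.range ((W.ι ≫ π).fiberι s).base := by
    rw [Scheme.Hom.range_fiberι]
    exact hx
  obtain ⟨x', hx'⟩ := hx'
  have hpb : IsPullback (pullback.fst W.ι (pullback.fst π g))
      (pullback.snd W.ι (pullback.fst π g) ≫ pullback.snd π g) (W.ι ≫ π) g :=
    (IsPullback.of_hasPullback W.ι (pullback.fst π g)).paste_vert (IsPullback.of_hasPullback π g)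
  haveI : IsIso (pullback.snd π g) := ‹IsIso (π.fiberToSpecResidueField s)›
  have hFU : FormallyUnramified (pullback.snd (W.ι ≫ π) g) := by
    rw [← hpb.isoPullback_inv_snd]
    infer_instance
  have h1 : HoldsNear @FormallyUnramified (pullback.snd (W.ι ≫ π) g) x' :=
    ⟨_, 𝟙 _, inferInstance, ⟨x', rfl⟩, by rw [Category.id_comp]; exact hFU⟩
  have h2 := (holdsNear_formallyUnramified_pullback_iff (W.ι ≫ π) g x').1 h1
  have h3 : pullback.fst (W.ι ≫ π) g x' = x := hx'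
  rw [h3] at h2
  exact h2

theorem main_5321 (X S : Scheme.{u}) (π : X ⟶ S) (ε : S ⟶ X) (hε : ε ≫ π = 𝟙 S)
    (hcl : IsClosedMap π.base) (s : S)
    (hfp : ∃ W : X.Opens, ε.base s ∈ W ∧ LocallyOfFinitePresentation (W.ι ≫ π))
    (hs : IsIso (π.fiberToSpecResidueField s)) :
    ∃ U : S.Opens, s ∈ U ∧ IsIso (π ∣_ U) := by
  obtain ⟨W, hsW, hW⟩ := hfp
  have hπε : ∀ t : S, π.base (ε.base t) = t := by
    intro t
    have h1 : π.base (ε.base t) = (ε ≫ π).base t := rfl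
    rw [h1, hε]
    rfl
  obtain ⟨W₀, w₀, hw₀, hmem, hq⟩ := holdsNear_fu_of_fibre_iso π s W ⟨ε.base s, hsW⟩ (hπε s)
  obtain ⟨y₀, hy₀⟩ := hmem
  let w : W₀ ⟶ X := w₀ ≫ W.ι
  haveI : FormallyUnramified (w ≫ π) := by
    change FormallyUnramified ((w₀ ≫ W.ι) ≫ π)
    rw [Category.assoc]
    exact hq
  haveI : LocallyOfFiniteType (w ≫ π) := by
    change LocallyOfFiniteType ((w₀ ≫ W.ι) ≫ π)
    rw [Category.assoc]
    infer_instance
  have hwy : w.base y₀ = ε.base s := by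
    change W.ι.base (w₀.base y₀) = ε.base s
    rw [hy₀]
    rfl
  let U₁ : S.Opens := ε ⁻¹ᵁ w.opensRange
  have hsU₁ : s ∈ U₁ := ⟨y₀, hwy⟩
  have hr : Set.range (U₁.ι ≫ ε).base ⊆ Set.range w.base := by
    rintro _ ⟨u, rfl⟩
    exact u.2
  let j' : U₁.toScheme ⟶ W₀ := IsOpenImmersion.lift w (U₁.ι ≫ ε) hr
  have hj' : j' ≫ w = U₁.ι ≫ ε := IsOpenImmersion.lift_fac _ _ _
  haveI : IsOpenImmersion (j' ≫ w ≫ π) := by
    rw [← Category.assoc, hj', Category.assoc, hε, Category.comp_id]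
    infer_instance
  haveI : IsOpenImmersion j' := isOpenImmersion_of_comp_of_fu j' (w ≫ π)
  haveI : IsOpenImmersion (U₁.ι ≫ ε) := by
    rw [← hj']
    infer_instance
  -- the fibre over `s` is the single point `ε s`
  have hfib : ∀ x : X, π.base x = s → x = ε.base s := by
    intro x hx
    have h1 : x ∈ Set.range (π.fiberι s).base := by
      rw [Scheme.Hom.range_fiberι]; exact hx
    have h2 : ε.base s ∈ Set.range (π.fiberι s).base := by
      rw [Scheme.Hom.range_fiberι]; exact hπε s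
    obtain ⟨a, rfl⟩ := h1
    obtain ⟨b, hb⟩ := h2
    rw [← hb]
    congr 1
    have hinj : Function.Injective (π.fiberToSpecResidueField s).base :=
      (TopCat.homeoOfIso (asIso (π.fiberToSpecResidueField s).base)).injective
    apply hinj
    exact Subsingleton.elim (α := PrimeSpectrum (S.residueField s)) _ _
  let Ω : X.Opens := (U₁.ι ≫ ε).opensRange
  have hsΩ : ε.base s ∈ Ω := ⟨⟨s, hsU₁⟩, rfl⟩
  let C : Set S := π.base '' ((Ω : Set X)ᶜ)
  have hC : IsClosed C := hcl _ Ω.isOpen.isClosed_compl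
  let U₂ : S.Opens := ⟨Cᶜ, hC.isOpen_compl⟩
  have hsU₂ : s ∈ U₂ := by
    rintro ⟨x, hxΩ, hxs⟩
    rw [hfib x hxs] at hxΩ
    exact hxΩ hsΩ
  refine ⟨U₂, hsU₂, isIso_restrict_of_le π ε hε U₁ U₂ ?_⟩
  intro x hx
  by_contra hxΩ
  exact hx ⟨x, hxΩ, rfl⟩

end Groth.Agent.Lib.Helper26.SecIso
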