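import Mathlib
import Groth.Agent.Lib.Helper26.SecIso
import Groth.Agent.Lib.Helper10.PreLocus

set_option autoImplicit false
set_option backward.isDefEq.respectTransparency.types false
universe u v
open AlgebraicGeometry CategoryTheory CategoryTheory.Limits MonoidalCategory
  CartesianMonoidalCategory MonObj GrpObj Topology

namespace Groth.Agent.Lib.Helper26.MonoTan



open KaehlerDifferential TrivSqZeroExt in
/-- A finite type algebra `A` over a field `k` all of whose residue fields at maximal ideals are `k`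
and all of whose dual-number points are determined by their reduction is formally unramified.
(Variant of `Groth.Agent.Lib.Helper7.formallyUnramified_of_dualNumber_points`, which assumes `k`
algebraically closed.) -/
theorem formallyUnramified_of_dualNumber_points' {k A : Type u} [Field k]
    [CommRing A] [Algebra k A] [Algebra.FiniteType k A]
    (hres : ∀ m : Ideal A, m.IsMaximal → Function.Bijective (algebraMap k (A ⧸ m)))
    (H : ∀ ψ₁ ψ₂ : A →ₐ[k] DualNumber k,
      (TrivSqZeroExt.fstHom k k k).comp ψ₁ = (TrivSqZeroExt.fstHom k k k).comp ψ₂ → ψ₁ = ψ₂) :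
    Algebra.FormallyUnramified k A := by
  by_contra hcon
  have hnt : Nontrivial Ω[A⁄k] := by
    by_contra h
    rw [not_nontrivial_iff_subsingleton] at h
    exact hcon ⟨h⟩
  obtain ⟨m, hm, hmtop⟩ : ∃ m : Ideal A, m.IsMaximal ∧ m • (⊤ : Submodule A Ω[A⁄k]) ≠ ⊤ := by
    have hann : Module.annihilator A Ω[A⁄k] ≠ ⊤ := by
      intro h
      have : (1 : A) ∈ Module.annihilator A Ω[A⁄k] := by rw [h]; trivial
      rw [Module.mem_annihilator] at this
      obtain ⟨x, y, hxy⟩ := exists_pair_ne Ω[A⁄k]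
      exact hxy (by rw [← one_smul A x, ← one_smul A y, this x, this y])
    obtain ⟨m, hm, hle⟩ := Ideal.exists_le_maximal _ hann
    refine ⟨m, hm, fun h => ?_⟩
    obtain ⟨r, hr1, hr⟩ := Submodule.exists_sub_one_mem_and_smul_eq_zero_of_fg_of_le_smul m
      (⊤ : Submodule A Ω[A⁄k]) Module.Finite.fg_top h.ge
    have hrm : r ∈ m := hle (Module.mem_annihilator.mpr fun x => hr x trivial)
    have : (1 : A) ∈ m := by
      have := m.sub_mem hrm hr1
      simpa using this
    exact hm.ne_top ((Ideal.eq_top_iff_one _).mpr this)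
  let _ := Ideal.Quotient.field m
  have hbij : Function.Bijective (algebraMap k (A ⧸ m)) := hres m hm
  let e : (A ⧸ m) ≃ₐ[k] k := (AlgEquiv.ofBijective (Algebra.ofId k (A ⧸ m)) hbij).symm
  let π : A →ₐ[k] k := (e : (A ⧸ m) →ₐ[k] k).comp (Ideal.Quotient.mkₐ k m)
  have hπ : ∀ a, π a = e (Ideal.Quotient.mk m a) := fun a => rfl
  let V := Ω[A⁄k] ⧸ (m • ⊤ : Submodule A Ω[A⁄k])
  have hVnt : Nontrivial V := Submodule.Quotient.nontrivial_iff.mpr hmtop
  obtain ⟨v, hv⟩ := exists_ne (0 : V)
  obtain ⟨φ, hφ⟩ : ∃ φ : Module.Dual (A ⧸ m) V, φ v ≠ 0 := by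
    by_contra h
    push Not at h
    exact hv ((Module.forall_dual_apply_eq_zero_iff (A ⧸ m) v).mp h)
  let q : Ω[A⁄k] → V := Submodule.Quotient.mk
  have hq_add : ∀ x y, q (x + y) = q x + q y := fun x y => rfl
  have hq_smul : ∀ (r : A) (x : Ω[A⁄k]), q (r • x) = Ideal.Quotient.mk m r • q x := fun r x => rfl
  let δ : A → k := fun a => e (φ (q (D k A a)))
  have hδ_add : ∀ a b, δ (a + b) = δ a + δ b := by
    intro a b
    simp only [δ, map_add, hq_add]
  have hδ_mul : ∀ a b, δ (a * b) = π a * δ b + π b * δ a := by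
    intro a b
    simp only [δ, Derivation.leibniz, hq_add, hq_smul, map_add, map_smul, smul_eq_mul, map_mul, hπ]
  have hδ_alg : ∀ c : k, δ (algebraMap k A c) = 0 := by
    intro c
    simp only [δ, Derivation.map_algebraMap]
    have : q 0 = 0 := rfl
    rw [this, map_zero, map_zero]
  let ψ₁ : A →ₐ[k] DualNumber k := (TrivSqZeroExt.inlAlgHom k k k).comp π
  let ψ₂ : A →ₐ[k] DualNumber k :=
    { toFun := fun a => inl (π a) + inr (δ a)
      map_one' := by
        have : δ 1 = 0 := by simpa using hδ_alg 1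
        rw [this, map_one, inr_zero, add_zero, inl_one]
      map_mul' := by
        intro a b
        ext
        · simp
        · simp [hδ_mul]; ring
      map_zero' := by
        have : δ 0 = 0 := by simpa using hδ_alg 0
        rw [this, map_zero, inr_zero, add_zero, inl_zero]
      map_add' := by
        intro a b
        rw [hδ_add, map_add, inl_add, inr_add]
        abel
      commutes' := by
        intro c
        rw [hδ_alg, inr_zero, add_zero, AlgHom.commutes]
        rfl }
  have h12 : ψ₁ = ψ₂ := by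
    apply H
    ext a
    simp [ψ₁, ψ₂]
  have hδ0 : ∀ a, δ a = 0 := by
    intro a
    have := congrArg (fun ψ : A →ₐ[k] DualNumber k => (ψ a).snd) h12
    simpa [ψ₁, ψ₂] using this.symm
  have hφD : ∀ a, φ (q (D k A a)) = 0 := fun a => e.injective (by simpa [δ] using hδ0 a)
  have hφq : ∀ x : Ω[A⁄k], φ (q x) = 0 := by
    intro x
    have hx : x ∈ Submodule.span A (Set.range (D k A)) := by
      rw [KaehlerDifferential.span_range_derivation]; trivial
    induction hx using Submodule.span_induction with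
    | mem y hy =>
      obtain ⟨a, rfl⟩ := hy
      exact hφD a
    | zero => exact map_zero φ
    | add y z _ _ hy hz => rw [hq_add, map_add, hy, hz, add_zero]
    | smul r y _ hy => rw [hq_smul, map_smul, hy, smul_zero]
  obtain ⟨x, rfl⟩ := Submodule.Quotient.mk_surjective _ v
  exact hφ (hφq x)

/-- for a `k`-algebra with a single prime ideal and a `k`-point, all residue fields are `k` -/
theorem bijective_algebraMap_quotient {k A : Type u} [Field k] [CommRing A] [Algebra k A]
    [Subsingleton (PrimeSpectrum A)] (π : A →ₐ[k] k) (m : Ideal A) (hm : m.IsMaximal) :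
    Function.Bijective (algebraMap k (A ⧸ m)) := by
  have hker : (RingHom.ker (π : A →+* k)).IsPrime := RingHom.ker_isPrime _
  have hmk : m = RingHom.ker (π : A →+* k) := by
    have := Subsingleton.elim (⟨m, hm.isPrime⟩ : PrimeSpectrum A) ⟨_, hker⟩
    exact congrArg PrimeSpectrum.asIdeal this
  haveI : Nontrivial (A ⧸ m) := Ideal.Quotient.nontrivial_iff.mpr hm.ne_top
  refine ⟨(algebraMap k (A ⧸ m)).injective, fun y => ?_⟩
  obtain ⟨a, rfl⟩ := Ideal.Quotient.mk_surjective y
  refine ⟨π a, ?_⟩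
  rw [IsScalarTower.algebraMap_apply k A (A ⧸ m), Ideal.Quotient.algebraMap_eq,
    Ideal.Quotient.eq, hmk, RingHom.mem_ker]
  simp


variable {k : Type u} [Field k]

/-- the only ring retraction `k[ε] → k` of the structure map is `ε ↦ 0` -/
lemma ringHom_dual_eq_fst (χ : DualNumber k →+* k)
    (h : ∀ a : k, χ (algebraMap k (DualNumber k) a) = a) :
    χ = (TrivSqZeroExt.fstHom k k k).toRingHom := by
  refine RingHom.ext fun x => ?_
  have hx : x = TrivSqZeroExt.inl x.fst + TrivSqZeroExt.inr x.snd :=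
    (TrivSqZeroExt.inl_fst_add_inr_snd_eq x).symm
  have h1 : χ (TrivSqZeroExt.inr x.snd) = 0 := by
    have h2 : (TrivSqZeroExt.inr x.snd : DualNumber k) * TrivSqZeroExt.inr x.snd = 0 :=
      TrivSqZeroExt.inr_mul_inr k x.snd x.snd
    have h3 := congrArg χ h2
    rw [map_mul, map_zero] at h3
    exact mul_self_eq_zero.mp h3
  have h4 : χ (TrivSqZeroExt.inl x.fst) = x.fst := h x.fst
  conv_lhs => rw [hx]
  rw [map_add, h1, h4, add_zero]
  rfl

section Main

variable (G G' : Over (Spec (CommRingCat.of k))) [GrpObj G] [GrpObj G']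
  [LocallyOfFiniteType G.hom] (f : G ⟶ G') [IsMonHom f]

/-- the scheme-theoretic kernel -/
noncomputable abbrev ker₀ : Scheme.{u} := pullback f.left η[G'].left

noncomputable abbrev ι₀ : ker₀ G G' f ⟶ G.left := pullback.fst f.left η[G'].left

noncomputable abbrev ν₀ : ker₀ G G' f ⟶ Spec (CommRingCat.of k) := pullback.snd f.left η[G'].left

lemma one_left : η[G].left ≫ f.left = η[G'].left := by
  have := congrArg (fun t => t.left) (IsMonHom.one_hom (f := f))
  exact this

noncomputable def e₀ : Spec (CommRingCat.of k) ⟶ ker₀ G G' f :=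
  pullback.lift η[G].left (𝟙 _) (by rw [one_left]; exact (Category.id_comp _).symm)

lemma e₀_ι₀ : e₀ G G' f ≫ ι₀ G G' f = η[G].left := pullback.lift_fst _ _ _

lemma e₀_ν₀ : e₀ G G' f ≫ ν₀ G G' f = 𝟙 _ := pullback.lift_snd _ _ _

lemma ι₀_hom : ι₀ G G' f ≫ G.hom = ν₀ G G' f := by
  rw [← Over.w f, ← Category.assoc, pullback.condition, Category.assoc, Over.w η[G']]
  exact Category.comp_id _

instance : Mono η[G'].left := by
  have h : η[G'].left ≫ G'.hom = 𝟙 _ := Over.w η[G']
  exact mono_of_mono_fac h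

instance : Mono (ι₀ G G' f) := inferInstance

instance : LocallyOfFiniteType f.left := by
  haveI : LocallyOfFiniteType (f.left ≫ G'.hom) := by rw [Over.w f]; infer_instance
  exact locallyOfFiniteType_of_comp f.left G'.hom

instance : LocallyOfFiniteType (ν₀ G G' f) := inferInstance

/-- injectivity on geometric points forces the kernel to be a single point -/
lemma eq_e₀_of_hgeom
    (hgeom : ∀ (K : Type u) [Field K] [IsAlgClosed K] [Algebra k K],
      Function.Injective (fun g : (Over.mk (Spec.map (CommRingCat.ofHom (algebraMap k K))) :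
        Over (Spec (CommRingCat.of k))) ⟶ G => g ≫ f))
    (n : ↥(ker₀ G G' f)) : n = e₀ G G' f (ν₀ G G' f n) := by
  let κ := (ker₀ G G' f).residueField n
  let K := AlgebraicClosure κ
  obtain ⟨y, h5⟩ : ∃ y : Spec (CommRingCat.of K) ⟶ ker₀ G G' f,
      y (default : ↥(Spec (CommRingCat.of K))) = n := by
    refine ⟨Spec.map (CommRingCat.ofHom (algebraMap κ K)) ≫
      (ker₀ G G' f).fromSpecResidueField n, ?_⟩
    rw [Scheme.Hom.comp_apply]
    exact Scheme.fromSpecResidueField_apply n _
  let φ : CommRingCat.of k ⟶ CommRingCat.of K := Spec.preimage (y ≫ ν₀ G G' f)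
  letI : Algebra k K := φ.hom.toAlgebra
  have hφ : Spec.map (CommRingCat.ofHom (algebraMap k K)) = y ≫ ν₀ G G' f :=
    Spec.map_preimage _
  have hη : η[G].left ≫ G.hom = 𝟙 (Spec (CommRingCat.of k)) := Over.w η[G]
  let g₁ : (Over.mk (Spec.map (CommRingCat.ofHom (algebraMap k K))) :
      Over (Spec (CommRingCat.of k))) ⟶ G :=
    Over.homMk (y ≫ ι₀ G G' f) (by
      change (y ≫ ι₀ G G' f) ≫ G.hom = Spec.map (CommRingCat.ofHom (algebraMap k K))
      rw [Category.assoc, ι₀_hom, hφ])
  let g₂ : (Over.mk (Spec.map (CommRingCat.ofHom (algebraMap k K))) :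
      Over (Spec (CommRingCat.of k))) ⟶ G :=
    Over.homMk (y ≫ ν₀ G G' f ≫ η[G].left) (by
      change (y ≫ ν₀ G G' f ≫ η[G].left) ≫ G.hom = Spec.map (CommRingCat.ofHom (algebraMap k K))
      simp only [Category.assoc]
      rw [hη, Category.comp_id, hφ])
  have h12 : g₁ = g₂ := by
    apply hgeom K
    apply Over.OverMorphism.ext
    change (y ≫ ι₀ G G' f) ≫ f.left = (y ≫ ν₀ G G' f ≫ η[G].left) ≫ f.left
    simp only [Category.assoc]
    rw [one_left, pullback.condition]
  have h3 : y ≫ ι₀ G G' f = y ≫ ν₀ G G' f ≫ η[G].left := congrArg (fun t => t.left) h12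
  have h4 : y = y ≫ ν₀ G G' f ≫ e₀ G G' f := by
    rw [← cancel_mono (ι₀ G G' f)]
    simp only [Category.assoc]
    rw [e₀_ι₀]
    exact h3
  have h6 := congrArg (fun t : Spec (CommRingCat.of K) ⟶ ker₀ G G' f =>
    t (default : ↥(Spec (CommRingCat.of K)))) h4
  simp only at h6
  rw [h5] at h6
  conv_lhs => rw [h6]
  change e₀ G G' f (ν₀ G G' f (y default)) = _
  rw [h5]

variable (hpt : ∀ n : ↥(ker₀ G G' f), n = e₀ G G' f (ν₀ G G' f n))

include hpt in
lemma subsingleton_ker₀ : Subsingleton ↥(ker₀ G G' f) := by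
  haveI : Subsingleton ↥(Spec (CommRingCat.of k)) :=
    inferInstanceAs (Subsingleton (PrimeSpectrum k))
  refine ⟨fun a b => ?_⟩
  rw [hpt a, hpt b, Subsingleton.elim (ν₀ G G' f a) (ν₀ G G' f b)]

include hpt in
lemma isAffine_ker₀ : IsAffine (ker₀ G G' f) := by
  haveI := subsingleton_ker₀ G G' f hpt
  let x₀ : ↥(ker₀ G G' f) := e₀ G G' f default
  let 𝒰 := (ker₀ G G' f).affineCover
  obtain ⟨z, hz⟩ := 𝒰.covers x₀
  haveI : Surjective (𝒰.f (𝒰.idx x₀)) := ⟨fun n => ⟨z, hz.trans (Subsingleton.elim _ _)⟩⟩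
  haveI : IsIso (𝒰.f (𝒰.idx x₀)) :=
    (isIso_iff_isOpenImmersion_and_surjective _).mpr ⟨inferInstance, inferInstance⟩
  exact IsAffine.of_isIso (inv (𝒰.f (𝒰.idx x₀)))

include hpt in
set_option maxHeartbeats 1000000 in
lemma formallyUnramified_ν₀
    (htan : ∀ g : (Over.mk (Spec.map (CommRingCat.ofHom (algebraMap k (DualNumber k)))) :
        Over (Spec (CommRingCat.of k))) ⟶ G,
      (∀ x : 𝟙_ (Over (Spec (CommRingCat.of k))) ⟶
        (Over.mk (Spec.map (CommRingCat.ofHom (algebraMap k (DualNumber k))))), x ≫ g = η[G]) →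
        g ≫ f = toUnit _ ≫ η[G'] → g = toUnit _ ≫ η[G]) :
    FormallyUnramified (ν₀ G G' f) := by
  haveI := subsingleton_ker₀ G G' f hpt
  haveI := isAffine_ker₀ G G' f hpt
  set N := ker₀ G G' f with hN
  let R : CommRingCat.{u} := Γ(N, ⊤)
  let iso : N ≅ Spec R := N.isoSpec
  let φ₀ : CommRingCat.of k ⟶ R := Spec.preimage (iso.inv ≫ ν₀ G G' f)
  have hφ₀ : Spec.map φ₀ = iso.inv ≫ ν₀ G G' f := Spec.map_preimage _
  have hν : ν₀ G G' f = iso.hom ≫ Spec.map φ₀ := by rw [hφ₀, Iso.hom_inv_id_assoc]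
  have hft : LocallyOfFiniteType (Spec.map φ₀) := by rw [hφ₀]; infer_instance
  rw [HasRingHomProperty.Spec_iff (P := @LocallyOfFiniteType)] at hft
  rw [hν, MorphismProperty.cancel_left_of_respectsIso (P := @FormallyUnramified),
    HasRingHomProperty.Spec_iff (P := @FormallyUnramified)]
  algebraize [φ₀.hom]
  change Algebra.FormallyUnramified k R
  -- the `k`-point
  let π₀ : R ⟶ CommRingCat.of k := Spec.preimage (e₀ G G' f ≫ iso.hom)
  have hπ₀ : Spec.map π₀ = e₀ G G' f ≫ iso.hom := Spec.map_preimage _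
  have hφπ : φ₀ ≫ π₀ = 𝟙 _ := by
    apply Spec.map_injective
    rw [Spec.map_comp, hπ₀, hφ₀, Category.assoc, Iso.hom_inv_id_assoc, e₀_ν₀, Spec.map_id]
  let π : R →ₐ[k] k :=
    { π₀.hom with
      commutes' := fun c => by
        have := congrArg (fun t => t.hom c) hφπ
        exact this }
  haveI : Subsingleton (PrimeSpectrum R) := by
    have hinj : Function.Injective iso.inv.base := iso.inv.homeomorph.injective
    exact hinj.subsingleton
  apply formallyUnramified_of_dualNumber_points'
  · intro m hm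
    exact bijective_algebraMap_quotient π m hm
  · intro ψ₁ ψ₂ h12
    have key : ∀ ψ : R →ₐ[k] DualNumber k,
        ∃ g : (Over.mk (Spec.map (CommRingCat.ofHom (algebraMap k (DualNumber k)))) :
          Over (Spec (CommRingCat.of k))) ⟶ G,
          g.left = Spec.map (CommRingCat.ofHom ψ.toRingHom) ≫ iso.inv ≫ ι₀ G G' f ∧
          g ≫ f = 1 := by
      intro ψ
      have hw : Spec.map (CommRingCat.ofHom ψ.toRingHom) ≫ iso.inv ≫ ν₀ G G' f =
          Spec.map (CommRingCat.ofHom (algebraMap k (DualNumber k))) := by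
        rw [← hφ₀, ← Spec.map_comp]
        congr 1
        refine CommRingCat.hom_ext (RingHom.ext fun c => ?_)
        exact ψ.commutes c
      refine ⟨Over.homMk (Spec.map (CommRingCat.ofHom ψ.toRingHom) ≫ iso.inv ≫ ι₀ G G' f) ?_,
        rfl, ?_⟩
      · change (Spec.map (CommRingCat.ofHom ψ.toRingHom) ≫ iso.inv ≫ ι₀ G G' f) ≫ G.hom =
          Spec.map (CommRingCat.ofHom (algebraMap k (DualNumber k)))
        simp only [Category.assoc]
        rw [ι₀_hom, hw]
      · apply Over.OverMorphism.ext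
        change (Spec.map (CommRingCat.ofHom ψ.toRingHom) ≫ iso.inv ≫ ι₀ G G' f) ≫ f.left =
          Spec.map (CommRingCat.ofHom (algebraMap k (DualNumber k))) ≫ η[G'].left
        simp only [Category.assoc]
        rw [pullback.condition, ← hw]
        simp only [Category.assoc]
    obtain ⟨g₁, hg₁l, hg₁f⟩ := key ψ₁
    obtain ⟨g₂, hg₂l, hg₂f⟩ := key ψ₂
    have h2 : (g₁ * g₂⁻¹) ≫ f = toUnit _ ≫ η[G'] := by
      rw [MonObj.mul_comp, GrpObj.inv_comp, hg₁f, hg₂f, inv_one, _root_.mul_one]
      rfl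
    have h1 : ∀ x : 𝟙_ (Over (Spec (CommRingCat.of k))) ⟶
        (Over.mk (Spec.map (CommRingCat.ofHom (algebraMap k (DualNumber k))))),
        x ≫ (g₁ * g₂⁻¹) = η[G] := by
      intro x
      have hx12 : x ≫ g₁ = x ≫ g₂ := by
        apply Over.OverMorphism.ext
        rw [Over.comp_left, Over.comp_left, hg₁l, hg₂l]
        let χ : CommRingCat.of (DualNumber k) ⟶ CommRingCat.of k := Spec.preimage x.left
        have hχ : Spec.map χ = x.left := Spec.map_preimage _
        have hx : x.left ≫ Spec.map (CommRingCat.ofHom (algebraMap k (DualNumber k))) =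
            𝟙 (Spec (CommRingCat.of k)) := Over.w x
        have hχ1 : CommRingCat.ofHom (algebraMap k (DualNumber k)) ≫ χ = 𝟙 _ := by
          apply Spec.map_injective
          rw [Spec.map_comp, hχ, hx, Spec.map_id]
        have hχ2 : χ.hom = (TrivSqZeroExt.fstHom k k k).toRingHom := by
          apply ringHom_dual_eq_fst
          intro a
          exact congrArg (fun t => t.hom a) hχ1
        have hcomp : ∀ ψ : R →ₐ[k] DualNumber k,
            x.left ≫ Spec.map (CommRingCat.ofHom ψ.toRingHom) =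
              Spec.map (CommRingCat.ofHom ((TrivSqZeroExt.fstHom k k k).comp ψ).toRingHom) := by
          intro ψ
          rw [← hχ, ← Spec.map_comp]
          congr 1
          refine CommRingCat.hom_ext (RingHom.ext fun a => ?_)
          change χ.hom (ψ a) = _
          rw [hχ2]
          rfl
        rw [← Category.assoc x.left, ← Category.assoc x.left, hcomp ψ₁, hcomp ψ₂, h12]
      rw [MonObj.comp_mul, GrpObj.comp_inv, hx12, mul_inv_cancel, Hom.one_def, toUnit_unit,
        Category.id_comp]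
    have h3 := htan (g₁ * g₂⁻¹) h1 h2
    have h4 : g₁ = g₂ := by
      have : g₁ * g₂⁻¹ = 1 := h3
      exact mul_inv_eq_one.mp this
    have h5 : Spec.map (CommRingCat.ofHom ψ₁.toRingHom) ≫ iso.inv ≫ ι₀ G G' f =
        Spec.map (CommRingCat.ofHom ψ₂.toRingHom) ≫ iso.inv ≫ ι₀ G G' f := by
      rw [← hg₁l, ← hg₂l, h4]
    rw [cancel_mono] at h5
    have h6 := Spec.map_injective h5
    ext a : 1
    exact congrArg (fun t => t.hom a) h6

end Main

theorem main_15609 (k : Type u) [Field k]
    (G G' : Over (Spec (CommRingCat.of k))) [GrpObj G] [GrpObj G'] [LocallyOfFiniteType G.hom]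
    (f : G ⟶ G') [IsMonHom f]
    (hgeom : ∀ (K : Type u) [Field K] [IsAlgClosed K] [Algebra k K],
      Function.Injective (fun g : (Over.mk (Spec.map (CommRingCat.ofHom (algebraMap k K))) :
        Over (Spec (CommRingCat.of k))) ⟶ G => g ≫ f))
    (htan : ∀ g : (Over.mk (Spec.map (CommRingCat.ofHom (algebraMap k (DualNumber k)))) :
        Over (Spec (CommRingCat.of k))) ⟶ G,
      (∀ x : 𝟙_ (Over (Spec (CommRingCat.of k))) ⟶
        (Over.mk (Spec.map (CommRingCat.ofHom (algebraMap k (DualNumber k))))), x ≫ g = η[G]) →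
        g ≫ f = toUnit _ ≫ η[G'] → g = toUnit _ ≫ η[G]) :
    Mono f := by
  have hpt := eq_e₀_of_hgeom G G' f hgeom
  haveI := subsingleton_ker₀ G G' f hpt
  haveI : FormallyUnramified (ν₀ G G' f) := formallyUnramified_ν₀ G G' f hpt htan
  haveI : IsOpenImmersion (e₀ G G' f ≫ ν₀ G G' f) := by rw [e₀_ν₀]; infer_instance
  haveI : IsOpenImmersion (e₀ G G' f) :=
    Groth.Agent.Lib.Helper26.SecIso.isOpenImmersion_of_comp_of_fu (e₀ G G' f) (ν₀ G G' f)
  haveI : Surjective (e₀ G G' f) := ⟨fun n => ⟨ν₀ G G' f n, (hpt n).symm⟩⟩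
  haveI : IsIso (e₀ G G' f) :=
    (isIso_iff_isOpenImmersion_and_surjective _).mpr ⟨inferInstance, inferInstance⟩
  have hνe : ν₀ G G' f ≫ e₀ G G' f = 𝟙 _ := by
    rw [← cancel_epi (e₀ G G' f), ← Category.assoc, e₀_ν₀, Category.id_comp, Category.comp_id]
  -- the kernel is trivial
  have hker : ∀ (T : Over (Spec (CommRingCat.of k))) (c : T ⟶ G), c ≫ f = 1 → c = 1 := by
    intro T c hc
    have hc' : c.left ≫ f.left = T.hom ≫ η[G'].left := congrArg (fun t => t.left) hc
    let t : T.left ⟶ ker₀ G G' f := pullback.lift c.left T.hom hc'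
    have ht1 : t ≫ ι₀ G G' f = c.left := pullback.lift_fst _ _ _
    have ht2 : t ≫ ν₀ G G' f = T.hom := pullback.lift_snd _ _ _
    apply Over.OverMorphism.ext
    change c.left = T.hom ≫ η[G].left
    rw [← ht1, ← Category.comp_id t, ← hνe]
    simp only [Category.assoc]
    rw [e₀_ι₀, ← Category.assoc, ht2]
  refine ⟨fun {T} a b hab => ?_⟩
  have h1 : (a * b⁻¹) ≫ f = 1 := by
    rw [MonObj.mul_comp, GrpObj.inv_comp, hab, mul_inv_cancel]
  exact mul_inv_eq_one.mp (hker T _ h1)

end Groth.Agent.Lib.Helper26.MonoTan
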