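import Mathlib
import Groth.Agent.Lib.Helper26.EtaleLocalScheme
set_option autoImplicit false
set_option linter.style.haveILetI false
universe u
open AlgebraicGeometry CategoryTheory Polynomial TopologicalSpace

namespace Groth.Agent.Lib.Helper26.MonogenicChart

section alg
variable {R S' : Type u} [CommRing R] [CommRing S'] [Algebra R S']

set_option backward.isDefEq.respectTransparency false in
theorem openImmersion_of_presentation (P : StandardEtalePresentation R S') :
    ∃ ψ : Localization.Away (AdjoinRoot.mk P.f (derivative P.f)) →ₐ[R] S',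
      IsOpenImmersion (Spec.map (CommRingCat.ofHom ψ.toRingHom)) := by
  let Af := AdjoinRoot P.f
  let T := Localization.Away (AdjoinRoot.mk P.f (derivative P.f))
  let α : Af →ₐ[R] S' := AdjoinRoot.liftAlgHom P.f (Algebra.ofId R S') P.x P.hasMap.1
  have hα : ∀ r : R[X], α (AdjoinRoot.mk P.f r) = aeval P.x r := by
    intro r
    rw [aeval_def]
    rfl
  have hunit : IsUnit (α (AdjoinRoot.mk P.f (derivative P.f))) := by
    rw [hα]
    exact P.hasMap.isUnit_derivative_f
  let ψ : T →ₐ[R] S' := IsLocalization.Away.liftAlgHom (AdjoinRoot.mk P.f (derivative P.f))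
    (f := α) hunit
  refine ⟨ψ, ?_⟩
  letI : Algebra Af S' := α.toRingHom.toAlgebra
  letI : Algebra T S' := ψ.toRingHom.toAlgebra
  haveI : IsScalarTower Af T S' := IsScalarTower.of_algebraMap_eq (fun a => by
    show α a = ψ (algebraMap Af T a)
    exact (IsLocalization.Away.lift_eq _ hunit a).symm)
  -- S' is the localization of Af away from g
  let e : S' ≃ₐ[R] Localization.Away (AdjoinRoot.mk P.f P.g) :=
    P.equivRing.trans P.equivAwayAdjoinRoot
  have he : ∀ a : Af, e (α a) = algebraMap Af _ a := by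
    intro a
    have : (e.toAlgHom.comp α) = IsScalarTower.toAlgHom R Af _ := by
      apply AdjoinRoot.algHom_ext
      have h0 : e (α (AdjoinRoot.root P.f)) = algebraMap Af _ (AdjoinRoot.root P.f) := by
        show P.equivAwayAdjoinRoot (P.equivRing (α (AdjoinRoot.root P.f))) = _
        have h1 : α (AdjoinRoot.root P.f) = P.x := AdjoinRoot.liftAlgHom_root _ _ _ _
        rw [h1, P.equivRing_x]
        simp [StandardEtalePair.equivAwayAdjoinRoot]
        rfl
      exact h0
    exact DFunLike.congr_fun this a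
  let e' : Localization.Away (AdjoinRoot.mk P.f P.g) ≃ₐ[Af] S' :=
    AlgEquiv.ofRingEquiv (f := e.symm.toRingEquiv) (fun a => by
      show e.symm (algebraMap Af _ a) = α a
      rw [← he a, AlgEquiv.symm_apply_apply])
  haveI hloc : IsLocalization.Away (AdjoinRoot.mk P.f P.g) S' :=
    IsLocalization.isLocalization_of_algEquiv (Submonoid.powers (AdjoinRoot.mk P.f P.g)) e'
  haveI : IsLocalization.Away (algebraMap Af S' (AdjoinRoot.mk P.f (derivative P.f))) S' :=
    IsLocalization.away_of_isUnit_of_bijective _ hunit Function.bijective_id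
  haveI : IsLocalization.Away (algebraMap Af T (AdjoinRoot.mk P.f P.g)) S' :=
    IsLocalization.Away.commutes (R := Af) T S' S' (AdjoinRoot.mk P.f (derivative P.f))
      (AdjoinRoot.mk P.f P.g)
  exact IsOpenImmersion.of_isLocalization (algebraMap Af T (AdjoinRoot.mk P.f P.g))

end alg

section alg2
variable (R S : Type u) [CommRing R] [CommRing S] [Algebra R S] [Algebra.Etale R S]

theorem exists_away (q : Ideal S) [q.IsPrime] :
    ∃ f ∉ q, ∀ (S' : Type u) [CommRing S'] [Algebra S S'] [Algebra R S'] [IsScalarTower R S S']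
      [IsLocalization.Away f S'],
      ∃ (p : R[X]) (_ : p.Monic)
        (ψ : Localization.Away (AdjoinRoot.mk p (derivative p)) →ₐ[R] S'),
        IsOpenImmersion (Spec.map (CommRingCat.ofHom ψ.toRingHom)) := by
  haveI : Algebra.FormallyEtale S (Localization.AtPrime q) :=
    Algebra.FormallyEtale.of_isLocalization q.primeCompl
  haveI : Algebra.IsEtaleAt R q := Algebra.FormallyEtale.comp R S _
  obtain ⟨f, hf, hstd⟩ := Algebra.IsEtaleAt.exists_isStandardEtale (R := R) q
  refine ⟨f, hf, fun S' _ _ _ _ _ => ?_⟩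
  let e₀ : Localization.Away f ≃ₐ[S] S' := IsLocalization.algEquiv (Submonoid.powers f) _ _
  let e₁ : Localization.Away f ≃ₐ[R] S' := e₀.restrictScalars R
  obtain ⟨P⟩ := hstd.nonempty_standardEtalePresentation
  let P' := P.mapEquiv e₁
  obtain ⟨ψ, hψ⟩ := openImmersion_of_presentation P'
  exact ⟨P'.f, P'.monic_f, ψ, hψ⟩

end alg2

section scheme

set_option backward.isDefEq.respectTransparency false in
theorem main {X Y : Scheme.{u}} (φ : X ⟶ Y) (x : X)
    (V : Y.Opens) (hV : IsAffineOpen V) (hxV : φ.base x ∈ V)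
    (hφ : ∃ W : X.Opens, x ∈ W ∧ Etale (W.ι ≫ φ)) :
    ∃ (U : X.Opens) (hU : IsAffineOpen U) (_ : x ∈ U) (e : U ≤ φ ⁻¹ᵁ V)
      (p : Polynomial Γ(Y, V)) (_ : p.Monic)
      (j : U.toScheme ⟶ Spec (CommRingCat.of (Localization.Away (AdjoinRoot.mk p (Polynomial.derivative p))))),
      IsOpenImmersion j ∧
        j ≫ Spec.map (CommRingCat.ofHom
            (algebraMap Γ(Y, V) (Localization.Away (AdjoinRoot.mk p (Polynomial.derivative p))))) =
          hU.isoSpec.hom ≫ Spec.map (φ.appLE V U e) := by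
  obtain ⟨W, hxW, hW⟩ := hφ
  obtain ⟨U₀, hU₀, hx₀, e₀⟩ : ∃ U₀ : X.Opens, IsAffineOpen U₀ ∧ x ∈ U₀ ∧ U₀ ≤ W ⊓ φ ⁻¹ᵁ V :=
    Opens.isBasis_iff_nbhd.mp X.isBasis_affineOpens
      (show x ∈ W ⊓ φ ⁻¹ᵁ V from ⟨hxW, hxV⟩)
  have e₀W : U₀ ≤ W := e₀.trans inf_le_left
  have e₀V : U₀ ≤ φ ⁻¹ᵁ V := e₀.trans inf_le_right
  have hU₀et : Etale (U₀.ι ≫ φ) := by
    have : U₀.ι = X.homOfLE e₀W ≫ W.ι := (X.homOfLE_ι e₀W).symm
    rw [this, Category.assoc]
    infer_instance
  have hQ : (φ.appLE V U₀ e₀V).hom.Etale := by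
    have h1 : Etale (φ.resLE V U₀ e₀V) := by
      have h2 : Etale (φ.resLE V U₀ e₀V ≫ V.ι) := by
        rw [Scheme.Hom.resLE_comp_ι]
        exact hU₀et
      exact MorphismProperty.of_postcomp (W := @Etale) (W' := @Etale) (φ.resLE V U₀ e₀V) V.ι
        inferInstance h2
    have : IsAffine U₀.toScheme := hU₀
    have : IsAffine V.toScheme := hV
    rw [HasRingHomProperty.iff_of_isAffine (P := @Etale)] at h1
    have hQ := (HasRingHomProperty.isLocal_ringHomProperty @Etale).respectsIso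
    rwa [hQ.arrow_mk_iso_iff (arrowResLEAppIso φ V U₀ e₀V)] at h1
  algebraize [(φ.appLE V U₀ e₀V).hom]
  set q := (hU₀.primeIdealOf ⟨x, hx₀⟩).asIdeal with hq
  obtain ⟨f, hfq, H⟩ := exists_away Γ(Y, V) Γ(X, U₀) q
  have hU : IsAffineOpen (X.basicOpen f) := hU₀.basicOpen f
  have hxU : x ∈ X.basicOpen f := mem_basicOpen_of_notMem_primeIdealOf hU₀ x hx₀ f hfq
  have eU : X.basicOpen f ≤ φ ⁻¹ᵁ V := (X.basicOpen_le f).trans e₀V
  haveI := hU₀.isLocalization_basicOpen f
  letI : Algebra Γ(Y, V) Γ(X, X.basicOpen f) := (φ.appLE V (X.basicOpen f) eU).hom.toAlgebra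
  haveI : IsScalarTower Γ(Y, V) Γ(X, U₀) Γ(X, X.basicOpen f) :=
    IsScalarTower.of_algebraMap_eq' (by
      show (φ.appLE V (X.basicOpen f) eU).hom = _
      rw [← Scheme.Hom.appLE_map φ e₀V (homOfLE (X.basicOpen_le f)).op, CommRingCat.hom_comp]
      rfl)
  obtain ⟨p, hp, ψ, hψ⟩ := H Γ(X, X.basicOpen f)
  refine ⟨X.basicOpen f, hU, hxU, eU, p, hp,
    hU.isoSpec.hom ≫ Spec.map (CommRingCat.ofHom ψ.toRingHom), inferInstance, ?_⟩
  rw [Category.assoc, ← Spec.map_comp]
  congr 2
  ext r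
  exact ψ.commutes r

end scheme

end Groth.Agent.Lib.Helper26.MonogenicChart
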