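import Mathlib

/-!
# Nagata's trick (adapted from `Mathlib/RingTheory/NoetherNormalization.lean`, whose key lemmas
are private) and an integral endomorphism of a polynomial ring sending `X 0` to a given
non-constant polynomial.
-/

set_option autoImplicit false
set_option linter.unusedVariables false
set_option linter.style.haveILetI false

namespace Groth.Agent.Lib.Helper26.NNa

open Polynomial MvPolynomial Ideal Nat RingHom List

variable {k : Type*} [Field k] {n : ℕ} (f : MvPolynomial (Fin (n + 1)) k)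
variable (v w : Fin (n + 1) →₀ ℕ)

section equivT

local notation3 "up" => 2 + f.totalDegree

variable {f v} in
lemma lt_up (vlt : ∀ i, v i < up) : ∀ l ∈ ofFn v, l < up := by
  grind

local notation3 "r" => fun (i : Fin (n + 1)) ↦ up ^ i.1

noncomputable abbrev T1 (c : k) :
    MvPolynomial (Fin (n + 1)) k →ₐ[k] MvPolynomial (Fin (n + 1)) k :=
  aeval fun i ↦ if i = 0 then X 0 else X i + c • X 0 ^ r i

lemma t1_comp_t1_neg (c : k) : (T1 f c).comp (T1 f (-c)) = AlgHom.id _ _ := by
  rw [comp_aeval, ← MvPolynomial.aeval_X_left]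
  ext i v
  cases i using Fin.cases <;> simp

noncomputable abbrev T := AlgEquiv.ofAlgHom (T1 f 1) (T1 f (-1))
  (t1_comp_t1_neg f 1) (by simpa using t1_comp_t1_neg f (-1))

lemma sum_r_mul_ne (vlt : ∀ i, v i < up) (wlt : ∀ i, w i < up) (ne : v ≠ w) :
    ∑ x : Fin (n + 1), r x * v x ≠ ∑ x : Fin (n + 1), r x * w x := by
  intro h
  refine ne <| Finsupp.ext <| congrFun <| ofFn_inj.mp ?_
  apply ofDigits_inj_of_len_eq (Nat.lt_add_right f.totalDegree one_lt_two)
    (by simp) (lt_up vlt) (lt_up wlt)
  simpa only [ofDigits_eq_sum_mapIdx, mapIdx_eq_ofFn, get_ofFn, length_ofFn,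
    Fin.val_cast, mul_comm, sum_ofFn] using! h

lemma degreeOf_zero_t {a : k} (ha : a ≠ 0) : ((T f) (monomial v a)).degreeOf 0 =
    ∑ i : Fin (n + 1), (r i) * v i := by
  rw [← natDegree_finSuccEquiv, monomial_eq, Finsupp.prod_pow v fun a ↦ X a]
  simp only [Fin.prod_univ_succ, Fin.sum_univ_succ, map_mul, map_prod, map_pow,
    AlgEquiv.ofAlgHom_apply, MvPolynomial.aeval_C, MvPolynomial.aeval_X, if_pos, Fin.succ_ne_zero,
    ite_false, one_smul, map_add, finSuccEquiv_X_zero, finSuccEquiv_X_succ, algebraMap_eq]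
  have h (i : Fin n) :
      (Polynomial.C (X (R := k) i) + Polynomial.X ^ r i.succ) ^ v i.succ ≠ 0 :=
    pow_ne_zero (v i.succ) (leadingCoeff_ne_zero.mp <| by simp [add_comm, leadingCoeff_X_pow_add_C])
  rw [natDegree_mul (by simp [ha]) (mul_ne_zero (by simp) (Finset.prod_ne_zero_iff.mpr
    (fun i _ ↦ h i))), natDegree_mul (by simp) (Finset.prod_ne_zero_iff.mpr (fun i _ ↦ h i)),
    natDegree_prod _ _ (fun i _ ↦ h i), natDegree_finSuccEquiv, degreeOf_C]
  simpa only [natDegree_pow, zero_add, natDegree_X, mul_one, Fin.val_zero, pow_zero, one_mul,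
    add_right_inj] using Finset.sum_congr rfl (fun i _ ↦ by
    rw [add_comm (Polynomial.C _), natDegree_X_pow_add_C, mul_comm])

lemma degreeOf_t_ne_of_ne (hv : v ∈ f.support) (hw : w ∈ f.support) (ne : v ≠ w) :
    (T f <| monomial v <| coeff v f).degreeOf 0 ≠
    (T f <| monomial w <| coeff w f).degreeOf 0 := by
  rw [degreeOf_zero_t _ _ <| mem_support_iff.mp hv, degreeOf_zero_t _ _ <| mem_support_iff.mp hw]
  refine sum_r_mul_ne f v w (fun i ↦ ?_) (fun i ↦ ?_) ne <;>
  exact lt_of_le_of_lt ((monomial_le_degreeOf i ‹_›).trans (degreeOf_le_totalDegree f i))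
    (by lia)

lemma leadingCoeff_finSuccEquiv_t :
    (finSuccEquiv k n ((T f) ((monomial v) (coeff v f)))).leadingCoeff =
    algebraMap k _ (coeff v f) := by
  rw [monomial_eq, Finsupp.prod_fintype]
  · simp only [map_mul, map_prod, leadingCoeff_mul, leadingCoeff_prod]
    rw [AlgEquiv.ofAlgHom_apply, algHom_C, algebraMap_eq, finSuccEquiv_apply,
      eval₂Hom_C, coe_comp]
    simp only [AlgEquiv.ofAlgHom_apply, Function.comp_apply, leadingCoeff_C, map_pow,
      leadingCoeff_pow, algebraMap_eq]
    have : ∀ j, ((finSuccEquiv k n) ((T1 f) 1 (X j))).leadingCoeff = 1 := fun j ↦ by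
      by_cases h : j = 0
      · simp [h, finSuccEquiv_apply]
      · simp only [aeval_eq_bind₁, bind₁_X_right, if_neg h, one_smul, map_add, map_pow]
        obtain ⟨i, rfl⟩ := Fin.exists_succ_eq.mpr h
        simp [finSuccEquiv_X_succ, finSuccEquiv_X_zero, add_comm]
    simp only [this, one_pow, Finset.prod_const_one, mul_one]
  exact fun i ↦ pow_zero _

lemma T_leadingcoeff_isUnit (fne : f ≠ 0) :
    IsUnit (finSuccEquiv k n (T f f)).leadingCoeff := by
  obtain ⟨v, vin, vs⟩ := Finset.exists_max_image f.support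
    (fun v ↦ (T f ((monomial v) (coeff v f))).degreeOf 0) (support_nonempty.mpr fne)
  set h := fun w ↦ (MvPolynomial.monomial w) (coeff w f)
  simp only [← natDegree_finSuccEquiv] at vs
  replace vs : ∀ x ∈ f.support \ {v}, (finSuccEquiv k n ((T f) (h x))).degree <
      (finSuccEquiv k n ((T f) (h v))).degree := by
    intro x hx
    obtain ⟨h1, h2⟩ := Finset.mem_sdiff.mp hx
    apply degree_lt_degree <| lt_of_le_of_ne (vs x h1) ?_
    simpa only [natDegree_finSuccEquiv]
      using degreeOf_t_ne_of_ne f _ _ h1 vin <| ne_of_not_mem_cons h2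
  have coeff : (finSuccEquiv k n ((T f) (h v + ∑ x ∈ f.support \ {v}, h x))).leadingCoeff =
      (finSuccEquiv k n ((T f) (h v))).leadingCoeff := by
    simp only [map_add, map_sum]
    rw [add_comm]
    apply leadingCoeff_add_of_degree_lt <| (lt_of_le_of_lt <| degree_sum_le _ _) ?_
    have h2 : h v ≠ 0 := by simpa [h] using mem_support_iff.mp vin
    replace h2 : (finSuccEquiv k n ((T f) (h v))) ≠ 0 := fun eq ↦ h2 <|
      by simpa only [map_eq_zero_iff _ (AlgEquiv.injective _)] using eq
    exact (Finset.sup_lt_iff <| Ne.bot_lt (fun x ↦ h2 <| degree_eq_bot.mp x)).mpr vs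
  nth_rw 2 [← f.support_sum_monomial_coeff]
  rw [Finset.sum_eq_add_sum_sdiff_singleton_of_mem vin h]
  rw [leadingCoeff_finSuccEquiv_t] at coeff
  simpa only [coeff, algebraMap_eq] using (mem_support_iff.mp vin).isUnit.map MvPolynomial.C

end equivT

section endo

variable (k n) in
/-- the ring hom `(MvPolynomial (Fin n) k)[X] → MvPolynomial (Fin (n+1)) k` inverse to
`finSuccEquiv` -/
noncomputable def θ : (MvPolynomial (Fin n) k)[X] →+* MvPolynomial (Fin (n + 1)) k :=
  Polynomial.eval₂RingHom (rename Fin.succ : MvPolynomial (Fin n) k →ₐ[k] _).toRingHom (X 0)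

lemma θ_finSuccEquiv (p : MvPolynomial (Fin (n + 1)) k) : θ k n (finSuccEquiv k n p) = p := by
  have : (θ k n).comp (finSuccEquiv k n).toRingEquiv.toRingHom = RingHom.id _ := by
    apply MvPolynomial.ringHom_ext
    · intro a
      simp [θ, finSuccEquiv_apply]
    · intro i
      cases i using Fin.cases <;> simp [θ, finSuccEquiv_X_zero, finSuccEquiv_X_succ]
  exact RingHom.congr_fun this p

theorem exists_integral_endo (F : MvPolynomial (Fin (n + 1)) k) (hF : ∀ c : k, F ≠ MvPolynomial.C c) :
    ∃ ψ : MvPolynomial (Fin (n + 1)) k →ₐ[k] MvPolynomial (Fin (n + 1)) k,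
      ψ (X 0) = F ∧ ψ.toRingHom.IsIntegral := by
  have hF0 : F ≠ 0 := by
    intro h
    exact hF 0 (by rw [h, MvPolynomial.C_0])
  set P := finSuccEquiv k n (T F F) with hP
  have hu : IsUnit P.leadingCoeff := T_leadingcoeff_isUnit F hF0
  let w : Fin (n + 1) → MvPolynomial (Fin (n + 1)) k := fun i => (T F).symm (X i)
  let ψ : MvPolynomial (Fin (n + 1)) k →ₐ[k] MvPolynomial (Fin (n + 1)) k :=
    aeval (fun i : Fin (n + 1) => Fin.cases F (fun j => w j.succ) i)
  have hψ0 : ψ (X 0) = F := by simp [ψ]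
  have hψs : ∀ j : Fin n, ψ (X j.succ) = w j.succ := by
    intro j
    simp [ψ]
  let ρ : MvPolynomial (Fin n) k →+* MvPolynomial (Fin (n + 1)) k :=
    (rename Fin.succ : MvPolynomial (Fin n) k →ₐ[k] _).toRingHom
  have hθP : θ k n P = T F F := θ_finSuccEquiv _
  -- degree positive
  have hN : 0 < P.natDegree := by
    by_contra h0
    have h0' : P.natDegree = 0 := by omega
    have hPc : P = Polynomial.C (P.coeff 0) := Polynomial.eq_C_of_natDegree_eq_zero h0'
    have hlc : P.leadingCoeff = P.coeff 0 := by rw [Polynomial.leadingCoeff, h0']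
    have h1 : T F F = ρ (P.coeff 0) := by
      rw [← hθP, hPc]
      simp [θ, ρ]
    have h2 : IsUnit (T F F) := by
      rw [h1]
      exact (hlc ▸ hu).map ρ
    have h3 : IsUnit F := by
      have := h2.map (T F).symm
      rwa [AlgEquiv.symm_apply_apply] at this
    obtain ⟨c, hc, hFc⟩ := MvPolynomial.isUnit_iff_eq_C_of_isReduced.mp h3
    exact hF c hFc
  have hkey : ψ.toRingHom.comp ρ = (T F).symm.toAlgHom.toRingHom.comp ρ := by
    apply MvPolynomial.ringHom_ext
    · intro a
      simp [ρ]
    · intro j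
      simp [ρ, hψs, w]
  -- integrality of w 0
  have hw0 : ψ.toRingHom.IsIntegralElem (w 0) := by
    have hmon : (hu.unit⁻¹.val • P).Monic := Polynomial.monic_of_isUnit_leadingCoeff_inv_smul hu
    set P' := hu.unit⁻¹.val • P with hP'
    have hP'eq : P' = Polynomial.C hu.unit⁻¹.val * P := by
      rw [hP', Polynomial.smul_eq_C_mul]
    have hune : (hu.unit⁻¹.val : MvPolynomial (Fin n) k) ≠ 0 := (hu.unit⁻¹).ne_zero
    have hdeg' : P'.natDegree = P.natDegree := Polynomial.natDegree_smul P hune
    have hmon2 : (P'.map ρ).Monic := hmon.map ρ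
    have hdeg2 : (P'.map ρ).natDegree = P.natDegree := by
      rw [hmon.natDegree_map ρ, hdeg']
    refine ⟨P'.map ρ - Polynomial.C (ρ hu.unit⁻¹.val * X 0), ?_, ?_⟩
    · apply Polynomial.Monic.sub_of_left hmon2
      refine lt_of_le_of_lt Polynomial.degree_C_le ?_
      rw [Polynomial.degree_eq_natDegree hmon2.ne_zero, hdeg2]
      exact_mod_cast hN
    · rw [Polynomial.eval₂_sub, Polynomial.eval₂_C, Polynomial.eval₂_map, hkey]
      have h1 : Polynomial.eval₂ ((T F).symm.toAlgHom.toRingHom.comp ρ) (w 0) P' =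
          (T F).symm (θ k n P') := by
        simp only [θ, w]
        rw [Polynomial.coe_eval₂RingHom]
        exact (Polynomial.hom_eval₂ P' ρ (T F).symm.toAlgHom.toRingHom (X 0)).symm
      rw [h1, hP'eq, map_mul, hθP]
      have h2 : θ k n (Polynomial.C (hu.unit⁻¹.val : MvPolynomial (Fin n) k)) = ρ hu.unit⁻¹.val := by
        simp [θ, ρ]
      rw [h2, map_mul]
      have h3 : (T F).symm (T F F) = F := (T F).symm_apply_apply F
      rw [h3]
      have h4 : ψ.toRingHom (ρ hu.unit⁻¹.val * X 0) = (T F).symm (ρ hu.unit⁻¹.val) * F := by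
        rw [map_mul]
        have := RingHom.congr_fun hkey hu.unit⁻¹.val
        simp only [RingHom.comp_apply] at this
        rw [this]
        congr 1
      rw [h4]
      exact sub_self _
  have hwi : ∀ i, ψ.toRingHom.IsIntegralElem (w i) := by
    intro i
    cases i using Fin.cases with
    | zero => exact hw0
    | succ j =>
      rw [← hψs j]
      exact ψ.toRingHom.isIntegralElem_map
  have hall : ∀ q : MvPolynomial (Fin (n + 1)) k, ψ.toRingHom.IsIntegralElem ((T F).symm q) := by
    intro q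
    induction q using MvPolynomial.induction_on with
    | C a =>
      have : (T F).symm (C a) = ψ.toRingHom (C a) := by simp
      rw [this]
      exact ψ.toRingHom.isIntegralElem_map
    | add p q hp hq =>
      rw [map_add]
      exact RingHom.IsIntegralElem.add _ hp hq
    | mul_X p i hp =>
      rw [map_mul]
      exact RingHom.IsIntegralElem.mul _ hp (hwi i)
  refine ⟨ψ, hψ0, ?_⟩
  intro x
  have := hall ((T F) x)
  rwa [(T F).symm_apply_apply] at this

end endo

end Groth.Agent.Lib.Helper26.NNa
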