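import Mathlib
import Groth.Agent.Lib.Helper26.NNa

set_option autoImplicit false
set_option linter.unusedVariables false
set_option linter.style.haveILetI false

namespace Groth.Agent.Lib.Helper26.NNb

open MvPolynomial

variable {k : Type*} [Field k]

theorem exists_integral_endo_nat (j m : ℕ) (F₀ : MvPolynomial (Fin (m + 1)) k)
    (hF₀ : ∀ c : k, F₀ ≠ C c) :
    ∃ Ψ : MvPolynomial ℕ k →ₐ[k] MvPolynomial ℕ k, Ψ.toRingHom.IsIntegral ∧
      (∀ l, l < j → Ψ (X l) = X l) ∧ (∀ l, j + m + 1 ≤ l → Ψ (X l) = X l) ∧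
      Ψ (X j) = rename (fun t : Fin (m + 1) => j + t.val) F₀ := by
  obtain ⟨ψ, hψ0, hψint⟩ := NNa.exists_integral_endo F₀ hF₀
  let emb : Fin (m + 1) → ℕ := fun t => j + t.val
  let Ψ : MvPolynomial ℕ k →ₐ[k] MvPolynomial ℕ k :=
    aeval (fun l => if h : j ≤ l ∧ l < j + m + 1 then
      rename emb (ψ (X ⟨l - j, by omega⟩)) else X l)
  have hΨlow : ∀ l, l < j → Ψ (X l) = X l := by
    intro l hl
    simp only [Ψ, aeval_X]
    rw [dif_neg (by omega)]
  have hΨhigh : ∀ l, j + m + 1 ≤ l → Ψ (X l) = X l := by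
    intro l hl
    simp only [Ψ, aeval_X]
    rw [dif_neg (by omega)]
  have hΨmid : ∀ t : Fin (m + 1), Ψ (X (emb t)) = rename emb (ψ (X t)) := by
    intro t
    simp only [Ψ, aeval_X]
    have ht := t.2
    rw [dif_pos ⟨by simp [emb], by simp only [emb]; omega⟩]
    congr 3
    ext
    simp [emb]
  have hcomm : Ψ.comp (rename emb) = (rename emb).comp ψ := by
    apply MvPolynomial.algHom_ext
    intro t
    simp only [AlgHom.comp_apply, rename_X]
    exact hΨmid t
  have hcomm' : Ψ.toRingHom.comp (rename emb : MvPolynomial (Fin (m + 1)) k →ₐ[k] _).toRingHom =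
      (rename emb : MvPolynomial (Fin (m + 1)) k →ₐ[k] _).toRingHom.comp ψ.toRingHom := by
    apply RingHom.ext
    intro x
    exact AlgHom.congr_fun hcomm x
  have hmid_int : ∀ t : Fin (m + 1), Ψ.toRingHom.IsIntegralElem (X (emb t)) := by
    intro t
    obtain ⟨p, hp, hp0⟩ := hψint (X t)
    refine ⟨p.map (rename emb : MvPolynomial (Fin (m + 1)) k →ₐ[k] _).toRingHom, hp.map _, ?_⟩
    rw [Polynomial.eval₂_map, hcomm']
    have := congrArg (rename emb : MvPolynomial (Fin (m + 1)) k →ₐ[k] _).toRingHom hp0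
    rw [Polynomial.hom_eval₂] at this
    simpa using this
  have hX : ∀ l, Ψ.toRingHom.IsIntegralElem (X l) := by
    intro l
    by_cases h : j ≤ l ∧ l < j + m + 1
    · have : l = emb ⟨l - j, by omega⟩ := by
        simp only [emb]
        omega
      rw [this]
      exact hmid_int _
    · have : Ψ (X l) = X l := by
        simp only [Ψ, aeval_X]
        rw [dif_neg h]
      rw [← this]
      exact Ψ.toRingHom.isIntegralElem_map
  refine ⟨Ψ, ?_, hΨlow, hΨhigh, ?_⟩
  · intro x
    induction x using MvPolynomial.induction_on with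
    | C a =>
      have : (C a : MvPolynomial ℕ k) = Ψ.toRingHom (C a) := by simp
      rw [this]
      exact Ψ.toRingHom.isIntegralElem_map
    | add p q hp hq => exact RingHom.IsIntegralElem.add _ hp hq
    | mul_X p i hp => exact RingHom.IsIntegralElem.mul _ hp (hX i)
  · have := hΨmid 0
    simp only [emb, Fin.val_zero, add_zero] at this
    rw [this, hψ0]

end Groth.Agent.Lib.Helper26.NNb
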