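import Mathlib
import Groth.Agent.Lib.Helper26.NNb
import Groth.Agent.Lib.Helper12.IntegralDim

set_option autoImplicit false
set_option linter.unusedVariables false
set_option linter.style.haveILetI false

namespace Groth.Agent.Lib.Helper26.NNc

open MvPolynomial

universe u

section dim

variable {k : Type u} [Field k]

lemma dim_mvPoly (n : ℕ) : ringKrullDim (MvPolynomial (Fin n) k) = (n : WithBot ℕ∞) := by
  rw [MvPolynomial.ringKrullDim_of_isNoetherianRing, ringKrullDim_eq_zero_of_field]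
  simp

lemma dim_of_integral_injective {B : Type u} [CommRing B] [Algebra k B] (n : ℕ)
    (g : MvPolynomial (Fin n) k →ₐ[k] B) (hinj : Function.Injective g)
    (hint : g.toRingHom.IsIntegral) :
    ringKrullDim B = (n : WithBot ℕ∞) := by
  letI := g.toRingHom.toAlgebra
  haveI : Algebra.IsIntegral (MvPolynomial (Fin n) k) B := ⟨hint⟩
  rw [← Helper12.ringKrullDim_eq_of_isIntegral_of_injective (MvPolynomial (Fin n) k) B hinj,
    dim_mvPoly]

/-- Lemma D: integral non-injective hom from a polynomial ring drops the dimension. -/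
lemma dim_lt_of_integral_of_not_injective {B : Type u} [CommRing B] [Algebra k B] (n : ℕ)
    (g : MvPolynomial (Fin n) k →ₐ[k] B) (hint : g.toRingHom.IsIntegral)
    (f : MvPolynomial (Fin n) k) (hf : f ≠ 0) (hgf : g f = 0) :
    ringKrullDim B + 1 ≤ (n : WithBot ℕ∞) := by
  have hle : Ideal.span {f} ≤ RingHom.ker g.toRingHom := by
    rw [Ideal.span_le]
    intro x hx
    rw [Set.mem_singleton_iff] at hx
    rw [hx]
    exact hgf
  let g' : MvPolynomial (Fin n) k ⧸ Ideal.span {f} →+* B :=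
    Ideal.Quotient.lift (Ideal.span {f}) g.toRingHom (fun a ha => hle ha)
  have hcomp : g'.comp (Ideal.Quotient.mk (Ideal.span {f})) = g.toRingHom := by
    ext x <;> simp [g']
  have hint' : g'.IsIntegral := by
    apply RingHom.IsIntegral.tower_top (Ideal.Quotient.mk (Ideal.span {f})) g'
    rw [hcomp]
    exact hint
  letI := g'.toAlgebra
  haveI : Algebra.IsIntegral (MvPolynomial (Fin n) k ⧸ Ideal.span {f}) B := ⟨hint'⟩
  have h1 := Helper12.ringKrullDim_le_of_isIntegral (MvPolynomial (Fin n) k ⧸ Ideal.span {f}) B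
  have h2 := ringKrullDim_quotient_succ_le_of_nonZeroDivisor
    (mem_nonZeroDivisors_of_ne_zero hf)
  rw [dim_mvPoly] at h2
  exact le_trans (add_le_add_left h1 1) h2

end dim

section construction

variable (k : Type u) {A : Type u} [Field k] [CommRing A] [Algebra k A]

structure Inv (d : ℕ) {r : ℕ} (q : Fin r → PrimeSpectrum A) (h : Fin r → ℕ) (j : ℕ)
    (y : ℕ → A) : Prop where
  zero : ∀ l, d ≤ l → y l = 0
  int : (aeval y : MvPolynomial ℕ k →ₐ[k] A).toRingHom.IsIntegral
  mem : ∀ l, l < j → ∀ i, l < h i → y l ∈ (q i).asIdeal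

variable [IsDomain A] [Algebra.FiniteType k A]

theorem base (d : ℕ) (hd : ringKrullDim A = (d : WithBot ℕ∞)) {r : ℕ}
    (q : Fin r → PrimeSpectrum A) (h : Fin r → ℕ) : ∃ y : ℕ → A, Inv k d q h 0 y := by
  obtain ⟨s, g, hinj, hint⟩ := exists_integral_inj_algHom_of_fg k A
  have hs : s = d := by
    have := dim_of_integral_injective s g hinj hint
    rw [hd] at this
    exact_mod_cast this.symm
  subst hs
  let y : ℕ → A := fun l => if hl : l < s then g (X ⟨l, hl⟩) else 0
  refine ⟨y, ?_, ?_, ?_⟩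
  · intro l hl
    simp only [y]
    rw [dif_neg (by omega)]
  · have hg : g = (aeval y).comp (rename Fin.val) := by
      apply algHom_ext
      intro t
      simp [y]
    apply RingHom.IsIntegral.tower_top
      (rename Fin.val : MvPolynomial (Fin s) k →ₐ[k] MvPolynomial ℕ k).toRingHom
      (aeval y : MvPolynomial ℕ k →ₐ[k] A).toRingHom
    have : (aeval y : MvPolynomial ℕ k →ₐ[k] A).toRingHom.comp
        (rename Fin.val : MvPolynomial (Fin s) k →ₐ[k] MvPolynomial ℕ k).toRingHom = g.toRingHom := by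
      rw [hg]
      rfl
    rw [this]
    exact hint
  · intro l hl
    omega

theorem step (d : ℕ) (hd : ringKrullDim A = (d : WithBot ℕ∞)) {r : ℕ}
    (q : Fin r → PrimeSpectrum A) (hq : StrictMono q) (h : Fin r → ℕ) (hh : ∀ i, h i ≤ d)
    (hdim : ∀ i, ringKrullDim (A ⧸ (q i).asIdeal) = ((d - h i : ℕ) : WithBot ℕ∞))
    (j : ℕ) (hj : j < d) (y : ℕ → A) (hy : Inv k d q h j y) :
    ∃ y', Inv k d q h (j + 1) y' := by
  classical
  by_cases hS : ∃ i, j < h i
  swap
  · refine ⟨y, hy.zero, hy.int, ?_⟩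
    intro l hl i hli
    rcases Nat.lt_succ_iff_lt_or_eq.mp hl with hl' | rfl
    · exact hy.mem l hl' i hli
    · exact absurd ⟨i, hli⟩ hS
  obtain ⟨i₀, hi₀, hmin⟩ : ∃ i₀, j < h i₀ ∧ ∀ i, j < h i → q i₀ ≤ q i := by
    let S := Finset.univ.filter (fun i : Fin r => j < h i)
    have hSne : S.Nonempty := by
      obtain ⟨i, hi⟩ := hS
      exact ⟨i, by simp [S, hi]⟩
    refine ⟨S.min' hSne, ?_, ?_⟩
    · have := Finset.min'_mem S hSne
      simpa [S] using this
    · intro i hi
      exact hq.monotone (Finset.min'_le S i (by simp [S, hi]))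
  set Q := (q i₀).asIdeal with hQ
  have hQprime : Q.IsPrime := (q i₀).isPrime
  obtain ⟨m, hm⟩ : ∃ m, j + m + 1 = d := ⟨d - j - 1, by omega⟩
  let emb : Fin (m + 1) → ℕ := fun t => j + t.val
  let g : MvPolynomial (Fin (m + 1)) k →ₐ[k] A := aeval (fun t => y (emb t))
  let gbar : MvPolynomial (Fin (m + 1)) k →ₐ[k] A ⧸ Q := (Ideal.Quotient.mkₐ k Q).comp g
  have hgbar_int : gbar.toRingHom.IsIntegral := by
    let π : MvPolynomial ℕ k →ₐ[k] MvPolynomial (Fin (m + 1)) k :=
      aeval (fun l => if hl : j ≤ l ∧ l < d then X ⟨l - j, by omega⟩ else 0)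
    have hcomp : (Ideal.Quotient.mkₐ k Q).comp (aeval y) = gbar.comp π := by
      apply algHom_ext
      intro l
      simp only [AlgHom.comp_apply, aeval_X, π]
      by_cases hl : j ≤ l ∧ l < d
      · rw [dif_pos hl]
        simp only [gbar, g, emb, AlgHom.comp_apply, aeval_X]
        congr 2
        omega
      · rw [dif_neg hl, map_zero]
        by_cases hl' : l < j
        · have := hy.mem l hl' i₀ (by omega)
          exact Ideal.Quotient.eq_zero_iff_mem.mpr this
        · have : y l = 0 := hy.zero l (by omega)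
          rw [this, map_zero]
    have h1 : ((Ideal.Quotient.mkₐ k Q).comp (aeval y)).toRingHom.IsIntegral :=
      RingHom.IsIntegral.trans _ _ hy.int
        (RingHom.isIntegral_of_surjective _ (Ideal.Quotient.mkₐ_surjective k Q))
    rw [hcomp] at h1
    exact RingHom.IsIntegral.tower_top π.toRingHom gbar.toRingHom h1
  have hnotinj : ¬ Function.Injective gbar := by
    intro hinj
    have h1 := dim_of_integral_injective (m + 1) gbar hinj hgbar_int
    rw [hdim i₀] at h1
    have : d - h i₀ = m + 1 := by exact_mod_cast h1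
    omega
  obtain ⟨F₀, hF₀ne, hF₀⟩ : ∃ F₀, F₀ ≠ 0 ∧ gbar F₀ = 0 := by
    rw [injective_iff_map_eq_zero] at hnotinj
    push Not at hnotinj
    obtain ⟨a, ha, ha'⟩ := hnotinj
    exact ⟨a, ha', ha⟩
  have hF₀C : ∀ c : k, F₀ ≠ C c := by
    intro c hc
    rw [hc] at hF₀ hF₀ne
    have hc0 : c ≠ 0 := by
      intro h0
      apply hF₀ne
      rw [h0, C_0]
    have : gbar (C c) = algebraMap k (A ⧸ Q) c := by
      rw [← MvPolynomial.algebraMap_eq, AlgHom.commutes]
    rw [this] at hF₀
    haveI : Nontrivial (A ⧸ Q) := Ideal.Quotient.nontrivial_iff.mpr hQprime.ne_top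
    exact hc0 ((map_eq_zero_iff _ (algebraMap k (A ⧸ Q)).injective).mp hF₀)
  obtain ⟨Ψ, hΨint, hΨlow, hΨhigh, hΨj⟩ := NNb.exists_integral_endo_nat j m F₀ hF₀C
  refine ⟨fun l => aeval y (Ψ (X l)), ?_, ?_, ?_⟩
  · intro l hl
    rw [hΨhigh l (by omega), aeval_X]
    exact hy.zero l hl
  · have : (aeval (fun l => aeval y (Ψ (X l))) : MvPolynomial ℕ k →ₐ[k] A) = (aeval y).comp Ψ := by
      apply algHom_ext
      intro l
      simp
    rw [this]
    exact RingHom.IsIntegral.trans _ _ hΨint hy.int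
  · intro l hl i hli
    rcases Nat.lt_succ_iff_lt_or_eq.mp hl with hl' | rfl
    · rw [hΨlow l hl', aeval_X]
      exact hy.mem l hl' i hli
    · rw [hΨj, aeval_rename]
      have h1 : g F₀ ∈ Q := Ideal.Quotient.eq_zero_iff_mem.mp hF₀
      exact (PrimeSpectrum.asIdeal_le_asIdeal _ _).mpr (hmin i hli) h1

theorem exists_y (d : ℕ) (hd : ringKrullDim A = (d : WithBot ℕ∞)) {r : ℕ}
    (q : Fin r → PrimeSpectrum A) (hq : StrictMono q) (h : Fin r → ℕ) (hh : ∀ i, h i ≤ d)
    (hdim : ∀ i, ringKrullDim (A ⧸ (q i).asIdeal) = ((d - h i : ℕ) : WithBot ℕ∞)) :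
    ∃ y : ℕ → A, Inv k d q h d y := by
  have : ∀ j, j ≤ d → ∃ y : ℕ → A, Inv k d q h j y := by
    intro j
    induction j with
    | zero =>
      intro _
      exact base k d hd q h
    | succ j ih =>
      intro hj
      obtain ⟨y, hy⟩ := ih (by omega)
      exact step k d hd q hq h hh hdim j (by omega) y hy
  exact this d le_rfl

end construction

end Groth.Agent.Lib.Helper26.NNc
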