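import Mathlib

set_option autoImplicit false
set_option linter.unusedVariables false
set_option linter.style.haveILetI false

namespace Groth.Agent.Lib.Helper26.NNp

open MvPolynomial

universe u

variable (k : Type u) [Field k]

/-- the ideal `(X_l : l < c)` of `k[X_0..X_{d-1}]` -/
noncomputable def P (d c : ℕ) : Ideal (MvPolynomial (Fin d) k) :=
  Ideal.span (X '' {l : Fin d | (l : ℕ) < c})

noncomputable def κ (d c : ℕ) : MvPolynomial (Fin d) k →ₐ[k] MvPolynomial (Fin (d - c)) k :=
  aeval (fun l : Fin d => if hl : c ≤ l.val then X ⟨l.val - c, by omega⟩ else 0)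

noncomputable def ι (d c : ℕ) : MvPolynomial (Fin (d - c)) k →ₐ[k] MvPolynomial (Fin d) k :=
  aeval (fun t : Fin (d - c) => X ⟨c + t.val, by omega⟩)

variable {k}

lemma κ_ι (d c : ℕ) (p : MvPolynomial (Fin (d - c)) k) : κ k d c (ι k d c p) = p := by
  have : (κ k d c).comp (ι k d c) = AlgHom.id k _ := by
    apply algHom_ext
    intro t
    simp only [AlgHom.comp_apply, ι, κ, aeval_X, AlgHom.id_apply]
    rw [dif_pos (by simp)]
    congr 1
    ext
    simp
  exact AlgHom.congr_fun this p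

lemma X_mem_P (d c : ℕ) (l : Fin d) (hl : l.val < c) : (X l : MvPolynomial (Fin d) k) ∈ P k d c :=
  Ideal.subset_span ⟨l, hl, rfl⟩

lemma sub_mem (d c : ℕ) (p : MvPolynomial (Fin d) k) : p - ι k d c (κ k d c p) ∈ P k d c := by
  have : (Ideal.Quotient.mkₐ k (P k d c)).comp ((ι k d c).comp (κ k d c)) =
      Ideal.Quotient.mkₐ k (P k d c) := by
    apply algHom_ext
    intro l
    simp only [AlgHom.comp_apply, κ, aeval_X]
    by_cases hl : c ≤ l.val
    · rw [dif_pos hl]
      simp only [ι, aeval_X]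
      congr 2
      ext
      simp only
      omega
    · rw [dif_neg hl, map_zero, map_zero]
      symm
      exact Ideal.Quotient.eq_zero_iff_mem.mpr (X_mem_P d c l (by omega))
  have h := AlgHom.congr_fun this p
  simp only [AlgHom.comp_apply, Ideal.Quotient.mkₐ_eq_mk] at h
  exact Ideal.Quotient.eq.mp h.symm

lemma ker_κ (d c : ℕ) : RingHom.ker (κ k d c).toRingHom = P k d c := by
  apply le_antisymm
  · intro p hp
    have hp' : κ k d c p = 0 := hp
    have := sub_mem d c p
    rwa [hp', map_zero, sub_zero] at this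
  · rw [P, Ideal.span_le]
    rintro _ ⟨l, hl, rfl⟩
    show κ k d c (X l) = 0
    simp only [κ, aeval_X]
    rw [dif_neg (by simpa using hl)]

lemma P_mono (d : ℕ) {a c : ℕ} (hac : a ≤ c) : P k d a ≤ P k d c := by
  apply Ideal.span_mono
  apply Set.image_mono
  intro l hl
  exact lt_of_lt_of_le hl hac

instance P_prime (d c : ℕ) : (P k d c).IsPrime := by
  rw [← ker_κ (k := k)]
  exact RingHom.ker_isPrime _

lemma P_zero (d : ℕ) : P k d 0 = ⊥ := by
  simp [P]

lemma X_notMem (d c : ℕ) (hc : c < d) : (X ⟨c, hc⟩ : MvPolynomial (Fin d) k) ∉ P k d c := by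
  rw [← ker_κ (k := k)]
  intro h
  have h' : κ k d c (X ⟨c, hc⟩) = 0 := h
  simp only [κ, aeval_X] at h'
  rw [dif_pos (by simp)] at h'
  exact MvPolynomial.X_ne_zero _ h'

lemma P_ne (d c : ℕ) (hc : c < d) : P k d c ≠ P k d (c + 1) := by
  intro h
  apply X_notMem (k := k) d c hc
  rw [h]
  exact X_mem_P d (c + 1) ⟨c, hc⟩ (by simp)

lemma mem_iff_of_le (d c : ℕ) (J : Ideal (MvPolynomial (Fin d) k)) (hJ : P k d c ≤ J)
    (p : MvPolynomial (Fin d) k) : p ∈ J ↔ κ k d c p ∈ J.comap (ι k d c) := by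
  rw [Ideal.mem_comap]
  have h := hJ (sub_mem d c p)
  constructor
  · intro hp
    have := J.sub_mem hp h
    rwa [sub_sub_cancel] at this
  · intro hp
    have := J.add_mem h hp
    rwa [sub_add_cancel] at this

lemma eq_of_comap_ι_eq (d c : ℕ) (J J' : Ideal (MvPolynomial (Fin d) k)) (hJ : P k d c ≤ J)
    (hJ' : P k d c ≤ J') (h : J.comap (ι k d c) = J'.comap (ι k d c)) : J = J' := by
  ext p
  rw [mem_iff_of_le d c J hJ, mem_iff_of_le d c J' hJ', h]

end Groth.Agent.Lib.Helper26.NNp
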