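import Mathlib
import Groth.Agent.Lib.Helper26.NNc
import Groth.Agent.Lib.Helper26.NNp

set_option autoImplicit false
set_option linter.unusedVariables false
set_option linter.style.haveILetI false

namespace Groth.Agent.Lib.Helper26.NNd

open MvPolynomial NNp NNc

universe u

lemma not_succ_le (n : ℕ) : ¬ ((n : WithBot ℕ∞) + 1 ≤ (n : WithBot ℕ∞)) := by
  intro h
  have : ((n + 1 : ℕ) : WithBot ℕ∞) ≤ ((n : ℕ) : WithBot ℕ∞) := by
    push_cast
    exact h
  rw [Nat.cast_le] at this
  omega

theorem part1 (k A : Type u) [Field k] [CommRing A] [IsDomain A] [Algebra k A]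
    [Algebra.FiniteType k A] (d : ℕ)
    (hd : ringKrullDim A = (d : WithBot ℕ∞)) (r : ℕ) (q : Fin r → PrimeSpectrum A)
    (hq : StrictMono q) (h : Fin r → ℕ) (hh : ∀ i, h i ≤ d)
    (hdim : ∀ i, ringKrullDim (A ⧸ (q i).asIdeal) = ((d - h i : ℕ) : WithBot ℕ∞)) :
    ∃ φ : MvPolynomial (Fin d) k →ₐ[k] A, φ.toRingHom.Finite ∧ Function.Injective φ ∧
      ∀ i, (q i).asIdeal.comap φ =
        Ideal.span (MvPolynomial.X '' {l : Fin d | (l : ℕ) < h i}) := by
  obtain ⟨y, hy⟩ := exists_y k d hd q hq h hh hdim
  let φ : MvPolynomial (Fin d) k →ₐ[k] A := aeval (fun l : Fin d => y l.val)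
  have hφint : φ.toRingHom.IsIntegral := by
    let π : MvPolynomial ℕ k →ₐ[k] MvPolynomial (Fin d) k :=
      aeval (fun l => if hl : l < d then X ⟨l, hl⟩ else 0)
    have hcomp : (aeval y : MvPolynomial ℕ k →ₐ[k] A) = φ.comp π := by
      apply algHom_ext
      intro l
      simp only [AlgHom.comp_apply, aeval_X, π]
      by_cases hl : l < d
      · rw [dif_pos hl]
        simp [φ]
      · rw [dif_neg hl, map_zero]
        exact hy.zero l (by omega)
    have h1 := hy.int
    rw [hcomp] at h1
    exact RingHom.IsIntegral.tower_top π.toRingHom φ.toRingHom h1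
  have hφfin : φ.toRingHom.Finite := by
    have hcomp : algebraMap k A = φ.toRingHom.comp (algebraMap k (MvPolynomial (Fin d) k)) := by
      ext c
      simp
    apply hφint.to_finite
    have : (algebraMap k A).FiniteType := RingHom.finiteType_algebraMap.mpr inferInstance
    rw [hcomp] at this
    exact this.of_comp_finiteType
  have hφinj : Function.Injective φ := by
    rw [injective_iff_map_eq_zero]
    intro f hf
    by_contra hf0
    have := dim_lt_of_integral_of_not_injective d φ hφint f hf0 hf
    rw [hd] at this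
    exact not_succ_le d this
  refine ⟨φ, hφfin, hφinj, ?_⟩
  intro i
  change _ = P k d (h i)
  have hle : P k d (h i) ≤ (q i).asIdeal.comap φ := by
    rw [P, Ideal.span_le]
    rintro _ ⟨l, hl, rfl⟩
    show φ (X l) ∈ (q i).asIdeal
    simp only [φ, aeval_X]
    exact hy.mem l.val l.2 i hl
  apply le_antisymm _ hle
  intro p hp
  by_contra hpP
  set f := κ k d (h i) p with hf
  have hf0 : f ≠ 0 := by
    intro h0
    apply hpP
    rw [← ker_κ (k := k)]
    exact h0
  have hιf : ι k d (h i) f ∈ (q i).asIdeal.comap φ := by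
    have h2 := hle (sub_mem d (h i) p)
    have := Ideal.sub_mem _ hp h2
    rwa [sub_sub_cancel] at this
  let Q := (q i).asIdeal
  let φ'' : MvPolynomial (Fin (d - h i)) k →ₐ[k] A ⧸ Q :=
    ((Ideal.Quotient.mkₐ k Q).comp φ).comp (ι k d (h i))
  have hint'' : φ''.toRingHom.IsIntegral := by
    have hcomp : (Ideal.Quotient.mkₐ k Q).comp φ = φ''.comp (κ k d (h i)) := by
      apply AlgHom.ext
      intro x
      simp only [AlgHom.comp_apply, φ'']
      have := hle (sub_mem d (h i) x)
      rw [Ideal.mem_comap, map_sub] at this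
      exact (Ideal.Quotient.eq.mpr this)
    have h1 : ((Ideal.Quotient.mkₐ k Q).comp φ).toRingHom.IsIntegral :=
      RingHom.IsIntegral.trans _ _ hφint
        (RingHom.isIntegral_of_surjective _ (Ideal.Quotient.mkₐ_surjective k Q))
    rw [hcomp] at h1
    exact RingHom.IsIntegral.tower_top (κ k d (h i)).toRingHom φ''.toRingHom h1
  have hφ''f : φ'' f = 0 := by
    simp only [φ'', AlgHom.comp_apply]
    exact Ideal.Quotient.eq_zero_iff_mem.mpr hιf
  have := dim_lt_of_integral_of_not_injective (d - h i) φ'' hint'' f hf0 hφ''f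
  rw [hdim i] at this
  exact not_succ_le _ this

end Groth.Agent.Lib.Helper26.NNd
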