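import Mathlib
import Groth.Agent.Lib.Helper26.NNp

set_option autoImplicit false
set_option linter.unusedVariables false
set_option linter.style.haveILetI false

namespace Groth.Agent.Lib.Helper26.NNe

open MvPolynomial NNp

universe u

variable {k A : Type u} [Field k] [CommRing A] [Algebra k A]

theorem insert_prime (d : ℕ) (φ : MvPolynomial (Fin d) k →ₐ[k] A)
    (hint : φ.toRingHom.IsIntegral)
    (𝔮 𝔮' : Ideal A) [h𝔮p : 𝔮.IsPrime] [h𝔮'p : 𝔮'.IsPrime] (hle : 𝔮 ≤ 𝔮') (a b c : ℕ)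
    (hac : a ≤ c) (hcb : c ≤ b)
    (h𝔮 : 𝔮.comap φ = P k d a) (h𝔮' : 𝔮'.comap φ = P k d b) :
    ∃ 𝔮'' : Ideal A, 𝔮''.IsPrime ∧ 𝔮 ≤ 𝔮'' ∧ 𝔮'' ≤ 𝔮' ∧ 𝔮''.comap φ = P k d c := by
  let S' := A ⧸ 𝔮
  let R'' := MvPolynomial (Fin (d - a)) k
  let mk : A →ₐ[k] S' := Ideal.Quotient.mkₐ k 𝔮
  let φ'' : R'' →ₐ[k] S' := (mk.comp φ).comp (ι k d a)
  have hP_le : P k d a ≤ 𝔮.comap φ := h𝔮.ge
  have hcomp : mk.comp φ = φ''.comp (κ k d a) := by
    apply AlgHom.ext
    intro x
    simp only [AlgHom.comp_apply, φ'']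
    have := hP_le (sub_mem d a x)
    rw [Ideal.mem_comap, map_sub] at this
    exact Ideal.Quotient.eq.mpr this
  have hint'' : φ''.toRingHom.IsIntegral := by
    have h1 : (mk.comp φ).toRingHom.IsIntegral :=
      RingHom.IsIntegral.trans _ _ hint
        (RingHom.isIntegral_of_surjective _ (Ideal.Quotient.mkₐ_surjective k 𝔮))
    rw [hcomp] at h1
    exact RingHom.IsIntegral.tower_top (κ k d a).toRingHom φ''.toRingHom h1
  have hinj'' : Function.Injective φ'' := by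
    rw [injective_iff_map_eq_zero]
    intro p hp
    have h1 : ι k d a p ∈ 𝔮.comap φ := by
      rw [Ideal.mem_comap]
      exact Ideal.Quotient.eq_zero_iff_mem.mp hp
    rw [h𝔮, ← ker_κ (k := k)] at h1
    have h2 : κ k d a (ι k d a p) = 0 := h1
    rwa [κ_ι] at h2
  letI : Algebra R'' S' := φ''.toRingHom.toAlgebra
  haveI : Algebra.IsIntegral R'' S' := ⟨hint''⟩
  haveI : FaithfulSMul R'' S' := (faithfulSMul_iff_algebraMap_injective R'' S').mpr hinj''
  haveI : IsDomain S' := Ideal.Quotient.isDomain 𝔮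
  haveI : IsIntegrallyClosed R'' := inferInstance
  haveI : Algebra.HasGoingDown R'' S' := inferInstance
  let pc : Ideal R'' := (P k d c).comap (ι k d a)
  let pb : Ideal R'' := (P k d b).comap (ι k d a)
  haveI : pc.IsPrime := Ideal.comap_isPrime _ _
  haveI : pb.IsPrime := Ideal.comap_isPrime _ _
  let Qb : Ideal S' := 𝔮'.map (Ideal.Quotient.mk 𝔮)
  have hker : RingHom.ker (Ideal.Quotient.mk 𝔮) ≤ 𝔮' := by
    rw [Ideal.mk_ker]
    exact hle
  haveI : Qb.IsPrime := Ideal.map_isPrime_of_surjective Ideal.Quotient.mk_surjective hker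
  have hcomapQb : Qb.comap (Ideal.Quotient.mk 𝔮) = 𝔮' := by
    rw [Ideal.comap_map_of_surjective _ Ideal.Quotient.mk_surjective, ← RingHom.ker_eq_comap_bot,
      Ideal.mk_ker]
    exact sup_eq_left.mpr hle
  have hcomap'' : ∀ J : Ideal S', J.comap (algebraMap R'' S') =
      ((J.comap (Ideal.Quotient.mk 𝔮)).comap φ).comap (ι k d a) := by
    intro J
    ext x
    simp only [Ideal.mem_comap]
    rfl
  haveI : Qb.LiesOver pb := ⟨by
    show pb = Qb.comap (algebraMap R'' S')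
    rw [hcomap'', hcomapQb, h𝔮']⟩
  obtain ⟨P'', hP''le, hP''prime, hP''over⟩ :=
    Ideal.exists_ideal_le_liesOver_of_le (p := pc) (q := pb) Qb
      (Ideal.comap_mono (P_mono d hcb))
  refine ⟨P''.comap (Ideal.Quotient.mk 𝔮), Ideal.comap_isPrime _ _, ?_, ?_, ?_⟩
  · intro x hx
    rw [Ideal.mem_comap, Ideal.Quotient.eq_zero_iff_mem.mpr hx]
    exact P''.zero_mem
  · rw [← hcomapQb]
    exact Ideal.comap_mono hP''le
  · apply eq_of_comap_ι_eq d a _ _ ?_ (P_mono d hac)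
    · have h1 : pc = P''.comap (algebraMap R'' S') := hP''over.over
      rw [hcomap''] at h1
      exact h1.symm
    · rw [← h𝔮]
      apply Ideal.comap_mono
      intro x hx
      rw [Ideal.mem_comap, Ideal.Quotient.eq_zero_iff_mem.mpr hx]
      exact P''.zero_mem

/-- the invariant for the chain construction -/
def Inv2 (d : ℕ) {r : ℕ} (q : Fin r → PrimeSpectrum A) (h : Fin r → ℕ)
    (φ : MvPolynomial (Fin d) k →ₐ[k] A) (j : ℕ) (Q : PrimeSpectrum A) : Prop :=
  Q.asIdeal.comap φ = P k d j ∧ ∀ i, j ≤ h i → Q ≤ q i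

theorem step2 (d : ℕ) {r : ℕ} (q : Fin r → PrimeSpectrum A) (hq : StrictMono q) (h : Fin r → ℕ)
    (φ : MvPolynomial (Fin d) k →ₐ[k] A) (hint : φ.toRingHom.IsIntegral)
    (hcomap : ∀ i, (q i).asIdeal.comap φ = P k d (h i))
    (j : ℕ) (hj : j < d) (Q : PrimeSpectrum A) (hQ : Inv2 d q h φ j Q) :
    ∃ Q' : PrimeSpectrum A, Inv2 d q h φ (j + 1) Q' ∧ Q ≤ Q' := by
  classical
  by_cases hS : ∃ i, j + 1 ≤ h i
  · obtain ⟨i₀, hi₀, hmin⟩ : ∃ i₀, j + 1 ≤ h i₀ ∧ ∀ i, j + 1 ≤ h i → q i₀ ≤ q i := by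
      let S := Finset.univ.filter (fun i : Fin r => j + 1 ≤ h i)
      have hSne : S.Nonempty := by
        obtain ⟨i, hi⟩ := hS
        exact ⟨i, by simp only [S, Finset.mem_filter, Finset.mem_univ, true_and]; exact hi⟩
      refine ⟨S.min' hSne, ?_, ?_⟩
      · have := Finset.min'_mem S hSne
        simp only [S, Finset.mem_filter, Finset.mem_univ, true_and] at this
        exact this
      · intro i hi
        exact hq.monotone (Finset.min'_le S i
          (by simp only [S, Finset.mem_filter, Finset.mem_univ, true_and]; exact hi))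
    have hle : Q.asIdeal ≤ (q i₀).asIdeal :=
      (PrimeSpectrum.asIdeal_le_asIdeal _ _).mpr (hQ.2 i₀ (by omega))
    haveI := Q.isPrime
    haveI := (q i₀).isPrime
    obtain ⟨𝔮'', h1, h2, h3, h4⟩ := insert_prime d φ hint Q.asIdeal (q i₀).asIdeal hle j (h i₀)
      (j + 1) (by omega) hi₀ hQ.1 (hcomap i₀)
    refine ⟨⟨𝔮'', h1⟩, ⟨h4, ?_⟩, ?_⟩
    · intro i hi
      refine le_trans ?_ (hmin i hi)
      exact (PrimeSpectrum.asIdeal_le_asIdeal _ _).mp h3
    · exact (PrimeSpectrum.asIdeal_le_asIdeal _ _).mp h2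
  · letI : Algebra (MvPolynomial (Fin d) k) A := φ.toRingHom.toAlgebra
    haveI : Algebra.IsIntegral (MvPolynomial (Fin d) k) A := ⟨hint⟩
    have hIP : Q.asIdeal.comap (algebraMap (MvPolynomial (Fin d) k) A) ≤ P k d (j + 1) := by
      have : Q.asIdeal.comap (algebraMap (MvPolynomial (Fin d) k) A) = Q.asIdeal.comap φ := rfl
      rw [this, hQ.1]
      exact P_mono d (by omega)
    obtain ⟨Q', hQ'ge, hQ'prime, hQ'comap⟩ :=
      Ideal.exists_ideal_over_prime_of_isIntegral (P k d (j + 1)) Q.asIdeal hIP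
    refine ⟨⟨Q', hQ'prime⟩, ⟨hQ'comap, ?_⟩, ?_⟩
    · intro i hi
      exact absurd ⟨i, hi⟩ hS
    · exact (PrimeSpectrum.asIdeal_le_asIdeal _ _).mp hQ'ge

theorem chain (d : ℕ) [IsDomain A] {r : ℕ} (q : Fin r → PrimeSpectrum A) (hq : StrictMono q)
    (h : Fin r → ℕ)
    (φ : MvPolynomial (Fin d) k →ₐ[k] A) (hint : φ.toRingHom.IsIntegral)
    (hinj : Function.Injective φ)
    (hcomap : ∀ i, (q i).asIdeal.comap φ = P k d (h i)) :
    ∀ n, n ≤ d → ∃ Q : ℕ → PrimeSpectrum A, (∀ j, j ≤ n → Inv2 d q h φ j (Q j)) ∧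
      (∀ j, j < n → Q j ≤ Q (j + 1)) := by
  intro n
  induction n with
  | zero =>
    intro _
    refine ⟨fun _ => ⟨⊥, Ideal.isPrime_bot⟩, ?_, ?_⟩
    · intro j hj
      have hj0 : j = 0 := by omega
      subst hj0
      refine ⟨?_, fun i _ => ?_⟩
      · rw [P_zero]
        show (⊥ : Ideal A).comap φ = ⊥
        rw [← RingHom.ker_eq_comap_bot]
        exact (RingHom.injective_iff_ker_eq_bot φ.toRingHom).mp hinj
      · exact (PrimeSpectrum.asIdeal_le_asIdeal _ _).mp bot_le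
    · intro j hj
      omega
  | succ n ih =>
    intro hn
    obtain ⟨Q, hQ1, hQ2⟩ := ih (by omega)
    obtain ⟨Q', hQ'1, hQ'2⟩ := step2 d q hq h φ hint hcomap n (by omega) (Q n) (hQ1 n le_rfl)
    refine ⟨Function.update Q (n + 1) Q', ?_, ?_⟩
    · intro j hj
      by_cases hjn : j = n + 1
      · subst hjn
        rw [Function.update_self]
        exact hQ'1
      · rw [Function.update_of_ne hjn]
        exact hQ1 j (by omega)
    · intro j hj
      by_cases hjn : j = n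
      · subst hjn
        rw [Function.update_self, Function.update_of_ne (by omega)]
        exact hQ'2
      · rw [Function.update_of_ne (by omega), Function.update_of_ne (by omega)]
        exact hQ2 j (by omega)

theorem part2 (k A : Type u) [Field k] [CommRing A] [IsDomain A] [Algebra k A] (d : ℕ)
    (r : ℕ) (q : Fin r → PrimeSpectrum A) (hq : StrictMono q) (h : Fin r → ℕ)
    (hh : ∀ i, h i ≤ d)
    (φ : MvPolynomial (Fin d) k →ₐ[k] A) (hfin : φ.toRingHom.Finite)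
    (hinj : Function.Injective φ)
    (hcomap : ∀ i, (q i).asIdeal.comap φ =
      Ideal.span (MvPolynomial.X '' {l : Fin d | (l : ℕ) < h i})) :
    ∃ Q : ℕ → PrimeSpectrum A,
      (∀ j, j ≤ d → (Q j).asIdeal.comap φ =
        Ideal.span (MvPolynomial.X '' {l : Fin d | (l : ℕ) < j})) ∧
      (∀ j, j < d → Q j < Q (j + 1)) ∧ (∀ i, Q (h i) = q i) := by
  have hint : φ.toRingHom.IsIntegral := hfin.to_isIntegral
  obtain ⟨Q, hQ1, hQ2⟩ := chain d q hq h φ hint hinj hcomap d le_rfl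
  letI : Algebra (MvPolynomial (Fin d) k) A := φ.toRingHom.toAlgebra
  haveI : Algebra.IsIntegral (MvPolynomial (Fin d) k) A := ⟨hint⟩
  have hstrict : ∀ (Q₁ Q₂ : PrimeSpectrum A), Q₁ ≤ Q₂ →
      Q₁.asIdeal.comap φ = Q₂.asIdeal.comap φ → Q₁ = Q₂ := by
    intro Q₁ Q₂ hle heq
    by_contra hne
    have hlt : Q₁.asIdeal < Q₂.asIdeal :=
      lt_of_le_of_ne ((PrimeSpectrum.asIdeal_le_asIdeal _ _).mpr hle)
        (fun h' => hne (PrimeSpectrum.ext h'))
    obtain ⟨x, hxQ, hxP⟩ := SetLike.exists_of_lt hlt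
    haveI := Q₁.isPrime
    have h1 := Ideal.comap_lt_comap_of_integral_mem_sdiff (R := MvPolynomial (Fin d) k)
      (le_of_lt hlt) ⟨hxQ, hxP⟩ (Algebra.IsIntegral.isIntegral x)
    have h2 : Q₁.asIdeal.comap (algebraMap (MvPolynomial (Fin d) k) A) =
        Q₂.asIdeal.comap (algebraMap (MvPolynomial (Fin d) k) A) := heq
    rw [h2] at h1
    exact lt_irrefl _ h1
  refine ⟨Q, fun j hj => (hQ1 j hj).1, ?_, ?_⟩
  · intro j hj
    refine lt_of_le_of_ne (hQ2 j hj) ?_
    intro heq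
    have h1 := (hQ1 j (by omega)).1
    have h2 := (hQ1 (j + 1) (by omega)).1
    rw [heq, h2] at h1
    exact P_ne d j hj h1.symm
  · intro i
    have h1 := hQ1 (h i) (hh i)
    exact hstrict _ _ (h1.2 i le_rfl) (h1.1.trans (hcomap i).symm)

end Groth.Agent.Lib.Helper26.NNe
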