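import Groth.Agent.Lib.Helper26.NumTypeGenusOne

/-!
# Numerical types all of whose indices are `(-2)`-indices: Cartan entries, maximum principle

`cc T i j = a i j / w i` are the (sign-reversed) Cartan integers of a numerical type.  For a type
consisting of `(-2)`-indices the row relation reads `2 m_i = ∑_{j ≠ i} cc i j * m_j`.
The maximum principle (`eq_of_subharmonic`): a non-negative non-zero integer vector `x` with
`2 x_i ≤ ∑_{j ≠ i} cc i j * x_j` on its support is proportional to `m`, hence harmonic.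
-/

set_option autoImplicit false
open Finset Models

namespace Groth.Agent.Lib.Helper26.NTC

variable {n : ℕ} (T : NumericalType n)

/-- Cartan entry `a i j / w i` -/
def cc (i j : Fin n) : ℤ := T.a i j / T.w i

theorem w_mul_cc (i j : Fin n) : T.w i * cc T i j = T.a i j :=
  Int.mul_ediv_cancel' (T.w_dvd i j)

theorem cc_nonneg {i j : Fin n} (h : i ≠ j) : 0 ≤ cc T i j :=
  Int.ediv_nonneg (T.offDiag_nonneg i j h) (T.w_pos i).le

theorem cc_eq_zero_iff {i j : Fin n} : cc T i j = 0 ↔ T.a i j = 0 := by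
  rw [← w_mul_cc T i j]
  constructor
  · intro h; rw [h, mul_zero]
  · intro h
    rcases mul_eq_zero.1 h with h | h
    · exact absurd h (T.w_pos i).ne'
    · exact h

theorem cc_symm_zero {i j : Fin n} : cc T i j = 0 ↔ cc T j i = 0 := by
  rw [cc_eq_zero_iff, cc_eq_zero_iff, T.symm.apply]

theorem w_cc_symm (i j : Fin n) : T.w i * cc T i j = T.w j * cc T j i := by
  rw [w_mul_cc, w_mul_cc, T.symm.apply]

theorem cc_pos_of_ne {i j : Fin n} (h : i ≠ j) (h0 : cc T i j ≠ 0) : 0 < cc T i j :=
  lt_of_le_of_ne (cc_nonneg T h) (Ne.symm h0)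

theorem cc_symm_pos {i j : Fin n} (h : i ≠ j) (h0 : 0 < cc T i j) : 0 < cc T j i :=
  cc_pos_of_ne T h.symm (fun h1 => h0.ne' ((cc_symm_zero T).2 h1))

/-- all indices are `(-2)`-indices (only the diagonal part) -/
def AllTwo : Prop := ∀ i, T.a i i = -2 * T.w i

variable {T}

theorem cc_self (h2 : AllTwo T) (i : Fin n) : cc T i i = -2 := by
  have h := w_mul_cc T i i
  rw [h2 i] at h
  have hw := (T.w_pos i).ne'
  have : T.w i * cc T i i = T.w i * (-2) := by rw [h]; ring
  exact mul_left_cancel₀ hw this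

/-- the row relation -/
theorem row (h2 : AllTwo T) (i : Fin n) : ∑ j ∈ univ.erase i, cc T i j * T.m j = 2 * T.m i := by
  have h := congrFun T.mulVec_m i
  simp only [Matrix.mulVec, dotProduct, Pi.zero_apply] at h
  have h1 : ∑ j, T.a i j * T.m j = T.w i * ∑ j, cc T i j * T.m j := by
    rw [Finset.mul_sum]
    refine Finset.sum_congr rfl (fun j _ => ?_)
    rw [← mul_assoc, w_mul_cc]
  rw [h1] at h
  have h3 : ∑ j, cc T i j * T.m j = 0 := by
    rcases mul_eq_zero.1 h with h | h
    · exact absurd h (T.w_pos i).ne'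
    · exact h
  rw [← Finset.add_sum_erase _ _ (Finset.mem_univ i), cc_self h2] at h3
  linarith

/-- partial row sums -/
theorem row_le (h2 : AllTwo T) (i : Fin n) (K : Finset (Fin n)) (hi : i ∉ K) :
    ∑ j ∈ K, cc T i j * T.m j ≤ 2 * T.m i := by
  rw [← row h2 i]
  refine Finset.sum_le_sum_of_subset_of_nonneg ?_ ?_
  · intro j hj
    rw [Finset.mem_erase]
    exact ⟨fun h => hi (h ▸ hj), Finset.mem_univ _⟩
  · intro j hj _
    exact mul_nonneg (cc_nonneg T (Finset.ne_of_mem_erase hj).symm) (T.m_pos j).le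

/-- if the partial row sum over `K` is everything, there are no other neighbours -/
theorem cc_eq_zero_of_row_eq (h2 : AllTwo T) (i : Fin n) (K : Finset (Fin n)) (hi : i ∉ K)
    (h : ∑ j ∈ K, cc T i j * T.m j = 2 * T.m i) (u : Fin n) (hui : u ≠ i) (hu : u ∉ K) :
    cc T i u = 0 := by
  by_contra hne
  have hpos := cc_pos_of_ne T hui.symm hne
  have h1 := row_le h2 i (insert u K) (by
    rw [Finset.mem_insert]; push Not; exact ⟨hui.symm, hi⟩)
  rw [Finset.sum_insert hu, h] at h1
  have := mul_pos hpos (T.m_pos u)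
  linarith

/-- if the partial row sum over `K` is not everything, there is another neighbour -/
theorem exists_of_row_lt (h2 : AllTwo T) (i : Fin n) (K : Finset (Fin n)) (hi : i ∉ K)
    (h : ∑ j ∈ K, cc T i j * T.m j < 2 * T.m i) :
    ∃ u, u ≠ i ∧ u ∉ K ∧ 0 < cc T i u := by
  by_contra hcon
  push Not at hcon
  have h0 : ∀ u ∈ univ.erase i, u ∉ K → cc T i u * T.m u = 0 := by
    intro u hu huK
    have hui := Finset.ne_of_mem_erase hu
    have := hcon u hui huK
    have h1 := cc_nonneg T hui.symm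
    rw [le_antisymm this h1, zero_mul]
  have hsub : K ⊆ univ.erase i := by
    intro j hj
    rw [Finset.mem_erase]
    exact ⟨fun h => hi (h ▸ hj), Finset.mem_univ _⟩
  have := Finset.sum_subset hsub h0
  rw [row h2 i] at this
  omega

/-- neighbours have at least half the multiplicity (weighted) -/
theorem half_le (h2 : AllTwo T) {i j : Fin n} (hij : i ≠ j) : cc T i j * T.m j ≤ 2 * T.m i := by
  have := row_le h2 i {j} (by simpa using hij)
  simpa using this

/-- **Maximum principle.** -/
theorem eq_of_subharmonic (x : Fin n → ℤ) (hx : ∀ i, 0 ≤ x i) (hne : ∃ i, 0 < x i)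
    (h : ∀ i, 0 < x i → 0 ≤ ∑ j, T.a i j * x j) (i j : Fin n) : x i * T.m j = x j * T.m i := by
  classical
  obtain ⟨k, hk⟩ := hne
  -- a maximiser of `x i / m i`
  obtain ⟨i0, -, hi0⟩ := Finset.exists_max_image univ (fun i => (x i : ℚ) / T.m i) ⟨k, mem_univ k⟩
  have hmpos : ∀ i, (0 : ℚ) < T.m i := fun i => by exact_mod_cast T.m_pos i
  have hmax : ∀ j, x j * T.m i0 ≤ x i0 * T.m j := by
    intro j
    have := hi0 j (mem_univ j)
    rw [div_le_div_iff₀ (hmpos j) (hmpos i0)] at this
    exact_mod_cast this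
  have hxi0 : 0 < x i0 := by
    have := hmax k
    have h1 : 0 < x k * T.m i0 := mul_pos hk (T.m_pos i0)
    by_contra hcon
    have h2 : x i0 ≤ 0 := not_lt.1 hcon
    have h3 : x i0 * T.m k ≤ 0 := mul_nonpos_of_nonpos_of_nonneg h2 (T.m_pos k).le
    omega
  set y : Fin n → ℤ := fun j => x i0 * T.m j - x j * T.m i0 with hy
  have hy0 : ∀ j, 0 ≤ y j := fun j => by simp only [hy]; linarith [hmax j]
  -- the zero set of `y` is closed under adjacency
  have hclosed : ∀ j, y j = 0 → ∀ l, T.a j l ≠ 0 → y l = 0 := by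
    intro j hj l hjl
    by_cases hlj : l = j
    · rw [hlj]; exact hj
    have hxj : 0 < x j := by
      simp only [hy] at hj
      have h1 : x j * T.m i0 = x i0 * T.m j := by linarith
      have h2 : 0 < x i0 * T.m j := mul_pos hxi0 (T.m_pos j)
      by_contra hcon
      have h3 : x j ≤ 0 := not_lt.1 hcon
      have h4 : x j * T.m i0 ≤ 0 := mul_nonpos_of_nonpos_of_nonneg h3 (T.m_pos i0).le
      omega
    have hax := h j hxj
    have ham : ∑ l, T.a j l * T.m l = 0 := by
      have := congrFun T.mulVec_m j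
      simpa only [Matrix.mulVec, dotProduct, Pi.zero_apply] using this
    have hay : ∑ l, T.a j l * y l = -(T.m i0 * ∑ l, T.a j l * x l) := by
      have : ∑ l, T.a j l * y l = x i0 * ∑ l, T.a j l * T.m l - T.m i0 * ∑ l, T.a j l * x l := by
        rw [Finset.mul_sum, Finset.mul_sum, ← Finset.sum_sub_distrib]
        refine Finset.sum_congr rfl (fun l _ => ?_)
        simp only [hy]; ring
      rw [this, ham]; ring
    have hay' : ∑ l, T.a j l * y l ≤ 0 := by
      rw [hay]
      have := mul_nonneg (T.m_pos i0).le hax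
      linarith
    have hterm : ∀ l ∈ univ, 0 ≤ T.a j l * y l := by
      intro l _
      by_cases hlj : l = j
      · rw [hlj, hj, mul_zero]
      · exact mul_nonneg (T.offDiag_nonneg j l (Ne.symm hlj)) (hy0 l)
    have hz := (Finset.sum_eq_zero_iff_of_nonneg hterm).1
      (le_antisymm hay' (Finset.sum_nonneg hterm)) l (mem_univ l)
    rcases mul_eq_zero.1 hz with h' | h'
    · exact absurd h' hjl
    · exact h'
  have hall : ∀ j, y j = 0 := by
    by_contra hcon
    push Not at hcon
    obtain ⟨j1, hj1⟩ := hcon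
    let Z : Finset (Fin n) := univ.filter (fun j => y j = 0)
    have hZ0 : Z.Nonempty := ⟨i0, by simp [Z, hy]⟩
    have hZ1 : Z ≠ univ := by
      intro hZ
      have : j1 ∈ Z := by rw [hZ]; exact mem_univ _
      simp only [Z, mem_filter, mem_univ, true_and] at this
      exact hj1 this
    obtain ⟨a, ha, b, hb, hab⟩ := T.connected Z hZ0 hZ1
    simp only [Z, mem_filter, mem_univ, true_and] at ha hb
    exact hb (hclosed a ha b hab)
  have hi := hall i
  have hj := hall j
  simp only [hy] at hi hj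
  have hm0 := (T.m_pos i0).ne'
  have : (x i * T.m j) * T.m i0 = (x j * T.m i) * T.m i0 := by
    have e1 : x i * T.m i0 = x i0 * T.m i := by linarith
    have e2 : x j * T.m i0 = x i0 * T.m j := by linarith
    calc (x i * T.m j) * T.m i0 = (x i * T.m i0) * T.m j := by ring
      _ = (x i0 * T.m i) * T.m j := by rw [e1]
      _ = (x i0 * T.m j) * T.m i := by ring
      _ = (x j * T.m i0) * T.m i := by rw [e2]
      _ = (x j * T.m i) * T.m i0 := by ring
  exact mul_right_cancel₀ hm0 this

/-- a vector proportional to `m` is harmonic -/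
theorem harmonic_of_prop (x : Fin n → ℤ) (h : ∀ i j, x i * T.m j = x j * T.m i) (i : Fin n) :
    ∑ j, T.a i j * x j = 0 := by
  have ham : ∑ l, T.a i l * T.m l = 0 := by
    have := congrFun T.mulVec_m i
    simpa only [Matrix.mulVec, dotProduct, Pi.zero_apply] using this
  have : T.m i * ∑ j, T.a i j * x j = x i * ∑ l, T.a i l * T.m l := by
    rw [Finset.mul_sum, Finset.mul_sum]
    refine Finset.sum_congr rfl (fun j _ => ?_)
    have := h i j
    calc T.m i * (T.a i j * x j) = T.a i j * (x j * T.m i) := by ring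
      _ = T.a i j * (x i * T.m j) := by rw [this]
      _ = x i * (T.a i j * T.m j) := by ring
  rw [ham, mul_zero] at this
  rcases mul_eq_zero.1 this with h' | h'
  · exact absurd h' (T.m_pos i).ne'
  · exact h'

/-- the `a`-row in terms of Cartan entries -/
theorem sum_a_eq (h2 : AllTwo T) (x : Fin n → ℤ) (i : Fin n) :
    ∑ j, T.a i j * x j = T.w i * (∑ j ∈ univ.erase i, cc T i j * x j - 2 * x i) := by
  rw [← Finset.add_sum_erase _ _ (Finset.mem_univ i), mul_sub, Finset.mul_sum, h2 i]
  have : ∑ j ∈ univ.erase i, T.a i j * x j = ∑ j ∈ univ.erase i, T.w i * (cc T i j * x j) := by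
    refine Finset.sum_congr rfl (fun j _ => ?_)
    rw [← mul_assoc, w_mul_cc]
  rw [this]; ring

/-- **Maximum principle**, Cartan form. -/
theorem eq_of_subharmonic' (h2 : AllTwo T) (x : Fin n → ℤ) (hx : ∀ i, 0 ≤ x i) (hne : ∃ i, 0 < x i)
    (h : ∀ i, 0 < x i → 2 * x i ≤ ∑ j ∈ univ.erase i, cc T i j * x j) :
    (∀ i j, x i * T.m j = x j * T.m i) ∧
      ∀ i, ∑ j ∈ univ.erase i, cc T i j * x j = 2 * x i := by
  have h1 := eq_of_subharmonic (T := T) x hx hne (fun i hi => by
    rw [sum_a_eq h2]
    exact mul_nonneg (T.w_pos i).le (by linarith [h i hi]))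
  refine ⟨h1, fun i => ?_⟩
  have := harmonic_of_prop x h1 i
  rw [sum_a_eq h2] at this
  rcases mul_eq_zero.1 this with h' | h'
  · exact absurd h' (T.w_pos i).ne'
  · linarith

/-- a set of indices closed under adjacency is everything -/
theorem eq_univ_of_closed (D : Finset (Fin n)) (hD : D.Nonempty)
    (h : ∀ i ∈ D, ∀ j, j ≠ i → cc T i j ≠ 0 → j ∈ D) : D = univ := by
  by_contra hne
  obtain ⟨i, hi, j, hj, hij⟩ := T.connected D hD hne
  have hji : j ≠ i := fun h' => hj (h' ▸ hi)
  exact hj (h i hi j hji (fun h0 => hij ((cc_eq_zero_iff T).1 h0)))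

end Groth.Agent.Lib.Helper26.NTC
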