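import Groth.Agent.Lib.Helper26.NTC9

/-!
# Assembling an explicitly explored numerical type

`IsType T k d ω C`: the type `T` is, after a bijection `e : Fin k → Fin n`, given by the
multiplicities `d i * m`, weights `ω i * w` and Cartan entries `C i j`.
`assemble` produces this from an injective `e` whose image is closed under adjacency.
-/

set_option autoImplicit false
open Finset Models

namespace Groth.Agent.Lib.Helper26.NTC

variable {n : ℕ} {T : NumericalType n}

variable (T) in
/-- `T` is the explicit type with multiplicities `d * m`, weights `ω * w`, Cartan entries `C` -/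
def IsType (k : ℕ) (d ω : Fin k → ℤ) (C : Fin k → Fin k → ℤ) : Prop :=
  ∃ (e : Fin k → Fin n) (m w : ℤ), Function.Bijective e ∧ (∀ i, T.m (e i) = d i * m) ∧
    (∀ i, T.w (e i) = ω i * w) ∧ (∀ i, T.a (e i) (e i) = -2 * (ω i * w)) ∧
    ∀ i j, i ≠ j → T.a (e i) (e j) = ω i * C i j * w

theorem assemble (h2 : AllTwo T) {k : ℕ} (hk : 0 < k) (e : Fin k → Fin n) (N : Fin k → List (Fin k))
    (d ω : Fin k → ℤ) (C : Fin k → Fin k → ℤ) (m w : ℤ)
    (hinj : Function.Injective e)
    (hnb : ∀ i, NbrsIn T (e i) ((N i).map e))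
    (hedge : ∀ i, ∀ j ∈ N i, cc T (e i) (e j) = C i j)
    (hC : ∀ i j, i ≠ j → j ∉ N i → C i j = 0)
    (hm : ∀ i, T.m (e i) = d i * m) (hw : ∀ i, T.w (e i) = ω i * w) :
    IsType T k d ω C := by
  classical
  have hsurj : Function.Surjective e := by
    have hD : (Finset.univ.image e) = univ := by
      refine eq_univ_of_closed (T := T) _ ⟨e ⟨0, hk⟩, Finset.mem_image.2 ⟨_, mem_univ _, rfl⟩⟩
        (fun i hi j hji hij => ?_)
      obtain ⟨i', -, rfl⟩ := Finset.mem_image.1 hi
      by_contra hj
      apply hij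
      apply hnb i' j hji
      intro hmem
      obtain ⟨j', -, rfl⟩ := List.mem_map.1 hmem
      exact hj (Finset.mem_image.2 ⟨j', mem_univ _, rfl⟩)
    intro v
    have : v ∈ Finset.univ.image e := by rw [hD]; exact mem_univ _
    obtain ⟨i, -, rfl⟩ := Finset.mem_image.1 this
    exact ⟨i, rfl⟩
  refine ⟨e, m, w, ⟨hinj, hsurj⟩, hm, hw, fun i => by rw [h2, hw], fun i j hij => ?_⟩
  rw [a_eq_w_cc, hw]
  by_cases hj : j ∈ N i
  · rw [hedge i j hj]; ring
  · rw [hC i j hij hj]
    have : cc T (e i) (e j) = 0 := by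
      apply hnb i (e j) (fun h => hij (hinj h).symm)
      intro hmem
      obtain ⟨j', hj', hjj⟩ := List.mem_map.1 hmem
      rw [hinj hjj] at hj'
      exact hj hj'
    rw [this]; ring

end Groth.Agent.Lib.Helper26.NTC
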