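import Groth.Agent.Lib.Helper26.NTC10

set_option autoImplicit false
open Finset Models

namespace Groth.Agent.Lib.Helper26.NTC

variable {n : ℕ} {T : NumericalType n}

variable (T) in
/-- an arm: a simple leaf `q 0`, regular indices `q 1, …, q (r-1)`, ending at a non-regular `q r` -/
structure Arm (q : ℕ → Fin n) (r : ℕ) : Prop where
  two_le : 2 ≤ r
  leaf : IsLeaf T (q 0) (q 1)
  reg : ∀ k, k + 2 ≤ r → IsReg T (q (k + 1)) (q k) (q (k + 2))
  m_eq : ∀ k, k ≤ r → T.m (q k) = (k + 1) * T.m (q 0)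
  inj : ∀ a b, a ≤ r → b ≤ r → q a = q b → a = b
  not_reg : ¬ Reg T (q r)

theorem exists_arm (h2 : AllTwo T) {l v j : Fin n} (hl : IsLeaf T l v) (hv : IsReg T v l j) :
    ∃ q r, Arm T q r := by
  obtain ⟨r, hr2, hnreg, hreg, hm, hinj⟩ := arm h2 hl hv
  refine ⟨ch T l v, r, hr2, hl, fun k hk => ch_isReg hl.adj hreg k (by omega), hm, hinj, hnreg⟩

/-- explicit patterns -/
def dF4a : Fin 5 → ℤ := ![1, 2, 3, 4, 2]
def wF4a : Fin 5 → ℤ := ![2, 2, 2, 1, 1]
def CF4a : Fin 5 → Fin 5 → ℤ := !![0, 1, 0, 0, 0; 1, 0, 1, 0, 0; 0, 1, 0, 1, 0; 0, 0, 2, 0, 1; 0, 0, 0, 1, 0]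
def NF4 : Fin 5 → List (Fin 5) := ![[1], [0, 2], [1, 3], [2, 4], [3]]

def dF4b : Fin 5 → ℤ := ![1, 2, 3, 2, 1]
def wF4b : Fin 5 → ℤ := ![1, 1, 1, 2, 2]
def CF4b : Fin 5 → Fin 5 → ℤ := !![0, 1, 0, 0, 0; 1, 0, 1, 0, 0; 0, 1, 0, 2, 0; 0, 0, 1, 0, 1; 0, 0, 0, 1, 0]

theorem IsLeaf.nbrsIn {l v : Fin n} (h : IsLeaf T l v) : NbrsIn T l [v] := by
  intro u hu huv
  exact h.2.2 u hu (by simpa using huv)

theorem IsReg.nbrsIn {v a b : Fin n} (h : IsReg T v a b) : NbrsIn T v [a, b] := by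
  intro u hu huv
  simp only [List.mem_cons, List.not_mem_nil, or_false, not_or] at huv
  exact h.2.2.2.2.2 u hu huv.1 huv.2

section

variable (h2 : AllTwo T) {q : ℕ → Fin n} {r : ℕ} (ha : Arm T q r)
include h2 ha

theorem Arm.mu_pos : 0 < T.m (q 0) := T.m_pos _

theorem Arm.adj_last : Adj T (q (r - 1)) (q r) := by
  have := ha.reg (r - 2) (by have := ha.two_le; omega)
  have e1 : r - 2 + 1 = r - 1 := by have := ha.two_le; omega
  have e2 : r - 2 + 2 = r := by have := ha.two_le; omega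
  rw [e1, e2] at this
  exact this.adj_right

theorem Arm.cc_last : cc T (q (r - 1)) (q r) = 1 := by
  have := ha.reg (r - 2) (by have := ha.two_le; omega)
  have e1 : r - 2 + 1 = r - 1 := by have := ha.two_le; omega
  have e2 : r - 2 + 2 = r := by have := ha.two_le; omega
  rw [e1, e2] at this
  exact this.2.2.2.2.1

theorem Arm.m_last : T.m (q r) = T.m (q (r - 1)) + T.m (q 0) ∧ 2 * T.m (q 0) ≤ T.m (q (r - 1)) := by
  have h1 := ha.m_eq r le_rfl
  have h2' := ha.m_eq (r - 1) (by omega)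
  have hr := ha.two_le
  have hμ := ha.mu_pos h2
  have e : ((r - 1 : ℕ) : ℤ) = (r : ℤ) - 1 := by omega
  rw [h1, h2', e]
  constructor
  · ring
  · have : (2 : ℤ) ≤ r := by exact_mod_cast hr
    nlinarith

end


theorem ne_of_m {a b : Fin n} (h : T.m a ≠ T.m b) : a ≠ b := fun e => h (e ▸ rfl)

theorem ne_of_adj {a b x : Fin n} (ha : cc T a x ≠ 0) (hb : cc T b x = 0) : a ≠ b := by
  intro h; rw [h] at ha; exact ha hb

/-- the cardinality from an injective enumeration closed under adjacency -/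
theorem closed_card {k : ℕ} (hk : 0 < k) (e : Fin k → Fin n) (N : Fin k → List (Fin k))
    (hinj : Function.Injective e) (hnb : ∀ i, NbrsIn T (e i) ((N i).map e)) : n = k := by
  classical
  have hD : (Finset.univ.image e) = univ := by
    refine eq_univ_of_closed (T := T) _ ⟨e ⟨0, hk⟩, Finset.mem_image.2 ⟨_, mem_univ _, rfl⟩⟩
      (fun i hi j hji hij => ?_)
    obtain ⟨i', -, rfl⟩ := Finset.mem_image.1 hi
    by_contra hj
    apply hij
    apply hnb i' j hji
    intro hmem
    obtain ⟨j', -, rfl⟩ := List.mem_map.1 hmem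
    exact hj (Finset.mem_image.2 ⟨j', mem_univ _, rfl⟩)
  have := Finset.card_image_of_injective Finset.univ hinj
  rw [hD, Finset.card_univ, Finset.card_univ, Fintype.card_fin, Fintype.card_fin] at this
  exact this

section

variable (h2 : AllTwo T) {q : ℕ → Fin n} {r : ℕ} (ha : Arm T q r)
include h2 ha

/-- the entry at the end of the arm is at most `2` (for `n ≥ 4`) -/
theorem Arm.cc_le_two (hn : 4 ≤ n) : cc T (q r) (q (r - 1)) ≤ 2 := by
  by_contra hcon
  push Not at hcon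
  obtain ⟨hM, hMp⟩ := ha.m_last h2
  have hμ := ha.mu_pos h2
  have hadj := ha.adj_last h2
  have hrow := row_one h2 hadj.1
  have hMp2 : T.m (q (r - 1)) = 2 * T.m (q 0) := by nlinarith
  have hc3 : cc T (q r) (q (r - 1)) = 3 := by nlinarith
  have hr : r = 2 := by
    have h1 := ha.m_eq (r - 1) (by omega)
    have hr := ha.two_le
    have e : ((r - 1 : ℕ) : ℤ) = (r : ℤ) - 1 := by omega
    rw [hMp2, e] at h1
    have : ((r : ℤ) - 2) * T.m (q 0) = 0 := by linarith
    rcases mul_eq_zero.1 this with h | h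
    · omega
    · omega
  subst hr
  have hnb2 : NbrsIn T (q 2) [q 1] := nbrsIn_one h2 hadj.1 (by
    show cc T (q 2) (q (2 - 1)) * T.m (q (2 - 1)) = _
    rw [hc3, hMp2, hM, hMp2]; ring)
  have hR := ha.reg 0 (by omega)
  have hinj : Function.Injective ![q 0, q 1, q 2] := by
    rw [← List.nodup_ofFn]
    simp only [List.ofFn_succ, Fin.isValue, Matrix.cons_val_zero, Matrix.cons_val_succ,
      List.ofFn_zero]
    simp only [List.nodup_cons, List.mem_cons, List.not_mem_nil, or_false, not_or, List.nodup_nil,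
      and_true, not_false_eq_true]
    refine ⟨⟨?_, ?_⟩, ?_⟩
    · exact fun h => by have := ha.inj 0 1 (by omega) (by omega) h; omega
    · exact fun h => by have := ha.inj 0 2 (by omega) (by omega) h; omega
    · exact fun h => by have := ha.inj 1 2 (by omega) (by omega) h; omega
  have := closed_card (T := T) (by norm_num : 0 < 3) ![q 0, q 1, q 2] ![[1], [0, 2], [1]] hinj (by
    intro i
    fin_cases i
    · exact ha.leaf.nbrsIn
    · exact hR.nbrsIn
    · exact hnb2)
  omega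

end

end Groth.Agent.Lib.Helper26.NTC
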