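import Groth.Agent.Lib.Helper26.NTC11

set_option autoImplicit false
open Finset Models

namespace Groth.Agent.Lib.Helper26.NTC

variable {n : ℕ} {T : NumericalType n}

section

variable (h2 : AllTwo T) {q : ℕ → Fin n} {r : ℕ} (ha : Arm T q r)
include h2 ha

theorem Arm.r_of_m {c : ℤ} (h : T.m (q r) = c * T.m (q 0)) : (r : ℤ) + 1 = c := by
  have h1 := ha.m_eq r le_rfl
  have hμ := ha.mu_pos h2
  rw [h] at h1
  have : (c - ((r : ℤ) + 1)) * T.m (q 0) = 0 := by linarith
  rcases mul_eq_zero.1 this with h' | h'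
  · linarith
  · omega

/-- the branch `cc (q r) (q (r-1)) = 2`: the two types on five indices with a double bond -/
theorem Arm.branch_c2 (hc : cc T (q r) (q (r - 1)) = 2) :
    IsType T 5 dF4a wF4a CF4a ∨ IsType T 5 dF4b wF4b CF4b := by
  obtain ⟨hM, hMp⟩ := ha.m_last h2
  have hμ := ha.mu_pos h2
  have hadj := ha.adj_last h2
  have hcl := ha.cc_last h2
  obtain ⟨s, hs⟩ : ∃ s, s = q r := ⟨_, rfl⟩
  obtain ⟨p, hp⟩ : ∃ p, p = q (r - 1) := ⟨_, rfl⟩
  obtain ⟨μ, hμ'⟩ : ∃ μ, μ = T.m (q 0) := ⟨_, rfl⟩
  rw [← hs, ← hp] at hc hadj hcl hM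
  rw [← hp] at hMp
  rw [← hμ'] at hM hMp hμ
  have hps : p ≠ s := hadj.1
  -- the child of `s`
  obtain ⟨k, hks, hkp, hck, hrow⟩ := child_one h2 hps (by rw [hc, hM]; linarith)
  obtain ⟨hcks, hb1, hb2⟩ := back h2 hks hck
  rw [hc] at hrow
  have hck1 : cc T s k = 1 := by
    by_contra hne
    have : 2 ≤ cc T s k := by omega
    nlinarith [T.m_pos k]
  rw [hck1, one_mul] at hrow
  have hmk : T.m k = 2 * μ := by
    by_contra hne
    have hlt : T.m k < 2 * μ := by
      rcases lt_or_gt_of_ne hne with h | h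
      · exact h
      · linarith
    obtain ⟨k2, hk2s, hk2p, hk2k, hck2, hrow2⟩ := child_two h2 hps hks hkp.symm (by
      rw [hc, hck1, hM]; linarith)
    obtain ⟨-, -, hb⟩ := back h2 hk2s hck2
    rw [hc, hck1] at hrow2
    have : T.m k2 ≤ cc T s k2 * T.m k2 := by nlinarith [T.m_pos k2]
    linarith
  have hnbs : NbrsIn T s [p, k] := nbrsIn_two h2 hps hks hkp.symm (by
    rw [hc, hck1, hmk, hM]; ring)
  have hcks1 : cc T k s = 1 := by
    by_contra hne
    have : 2 ≤ cc T k s := by omega
    nlinarith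
  rw [hcks1, one_mul] at hb1
  -- `r` is `2` or `3`
  have hMr : T.m s = ((r : ℤ) + 1) * μ := by rw [hs, hμ']; exact ha.m_eq r le_rfl
  have hr23 : r = 2 ∨ r = 3 := by
    have hr := ha.two_le
    have : r + 1 ≤ 4 := by
      by_contra hcon
      have : (5 : ℤ) ≤ (r : ℤ) + 1 := by omega
      nlinarith
    omega
  have wsym := fun a b => w_cc_symm T a b
  rcases hr23 with hr | hr
  · -- `r = 2`
    right
    subst hr
    norm_num at hp hMr
    have hm0 : T.m (q 0) = μ := hμ'.symm
    have hm1 : T.m p = 2 * μ := by linarith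
    have hl := ha.leaf
    have hR0 := ha.reg 0 (by omega)
    rw [← hs, ← hp] at hR0
    rw [← hp] at hl
    -- the child of `k`
    obtain ⟨k', hk'k, hk's, hck', hrow'⟩ := child_one h2 hks.symm (by rw [hcks1, hMr, hmk]; linarith)
    obtain ⟨hck'k, hb1', hb2'⟩ := back h2 hk'k hck'
    rw [hcks1, hMr, hmk] at hrow'
    have hck'1 : cc T k k' = 1 := by
      by_contra hne
      have : 2 ≤ cc T k k' := by omega
      nlinarith [T.m_pos k']
    rw [hck'1] at hrow'
    have hmk' : T.m k' = μ := by linarith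
    have hnbk : NbrsIn T k [s, k'] := nbrsIn_two h2 hks.symm hk'k hk's.symm (by
      rw [hcks1, hck'1, hMr, hmk, hmk']; ring)
    have hck'k1 : cc T k' k = 1 := by
      by_contra hne
      have : 2 ≤ cc T k' k := by omega
      nlinarith
    have hnbk' : NbrsIn T k' [k] := nbrsIn_one h2 hk'k.symm (by rw [hck'k1, hmk, hmk']; ring)
    have hq0k' : q 0 ≠ k' := by
      refine ne_of_adj (x := p) (by rw [hl.2.1]; norm_num) (hnbk' p ?_ ?_)
      · exact ne_of_m (by rw [hm1, hmk']; omega)
      · simpa using hkp.symm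
    refine assemble h2 (by norm_num) ![k', k, s, p, q 0] NF4 dF4b wF4b CF4b μ (T.w s) ?_ ?_ ?_
      (by decide) ?_ ?_
    · rw [← List.nodup_ofFn]
      simp only [List.ofFn_succ, Fin.isValue, Matrix.cons_val_zero, Matrix.cons_val_succ,
        List.ofFn_zero]
      simp only [List.nodup_cons, List.mem_cons, List.not_mem_nil, or_false, not_or, List.nodup_nil,
        and_true, not_false_eq_true]
      refine ⟨⟨?_, ?_, ?_, ?_⟩, ⟨?_, ?_, ?_⟩, ⟨?_, ?_⟩, ?_⟩
      · exact hk'k
      · exact hk's
      · exact ne_of_m (by rw [hmk', hm1]; omega)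
      · exact hq0k'.symm
      · exact hks
      · exact hkp
      · exact ne_of_m (by rw [hmk, hm0]; omega)
      · exact hps.symm
      · exact ne_of_m (by rw [hMr, hm0]; omega)
      · exact ne_of_m (by rw [hm1, hm0]; omega)
    · intro i
      fin_cases i
      · exact hnbk'
      · intro u hu huL
        exact hnbk u hu (by simpa [NF4, or_comm] using huL)
      · intro u hu huL
        exact hnbs u hu (by simpa [NF4, or_comm] using huL)
      · intro u hu huL
        exact hR0.nbrsIn u hu (by simpa [NF4, or_comm] using huL)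
      · exact hl.nbrsIn
    · intro i j hj
      fin_cases i <;> simp [NF4] at hj <;> rcases hj with rfl | rfl <;> simp [CF4b]
      all_goals first | exact hck'k1 | exact hck'1 | exact hcks1 | exact hck1 | exact hc | exact hcl | exact hR0.2.2.2.1 | exact hl.2.1
    · intro i
      fin_cases i <;> simp [dF4b] <;> linarith
    · have e1 := wsym k s
      have e2 := wsym k' k
      have e3 := wsym p s
      have e4 := wsym (q 0) p
      rw [hcks1, hck1] at e1
      rw [hck'k1, hck'1] at e2
      rw [hcl, hc] at e3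
      rw [hl.2.1, hR0.2.2.2.1] at e4
      intro i
      fin_cases i <;> simp [wF4b] <;> linarith
  · -- `r = 3`
    left
    subst hr
    norm_num at hp hMr
    have hm0 : T.m (q 0) = μ := hμ'.symm
    have hmp : T.m p = 3 * μ := by linarith
    have hm1 : T.m (q 1) = 2 * μ := by
      have := ha.m_eq 1 (by omega)
      rw [← hμ'] at this
      push_cast at this
      linarith
    have hl := ha.leaf
    have hR0 := ha.reg 0 (by omega)
    have hR1 := ha.reg 1 (by omega)
    norm_num at hR0 hR1
    rw [← hs, ← hp] at hR1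
    rw [← hp] at hR0
    have hnbk : NbrsIn T k [s] := nbrsIn_one h2 hks.symm (by rw [hcks1, hMr, hmk]; ring)
    have hq1k : q 1 ≠ k := by
      refine ne_of_adj (x := q 0) (by rw [hR0.2.2.2.1]; norm_num) (hnbk (q 0) ?_ ?_)
      · exact ne_of_m (by rw [hm0, hmk]; omega)
      · simpa using ne_of_m (by rw [hm0, hMr]; omega)
    refine assemble h2 (by norm_num) ![q 0, q 1, p, s, k] NF4 dF4a wF4a CF4a μ (T.w s) ?_ ?_ ?_
      (by decide) ?_ ?_
    · rw [← List.nodup_ofFn]
      simp only [List.ofFn_succ, Fin.isValue, Matrix.cons_val_zero, Matrix.cons_val_succ,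
        List.ofFn_zero]
      simp only [List.nodup_cons, List.mem_cons, List.not_mem_nil, or_false, not_or, List.nodup_nil,
        and_true, not_false_eq_true]
      refine ⟨⟨?_, ?_, ?_, ?_⟩, ⟨?_, ?_, ?_⟩, ⟨?_, ?_⟩, ?_⟩
      · exact ne_of_m (by rw [hm0, hm1]; omega)
      · exact ne_of_m (by rw [hm0, hmp]; omega)
      · exact ne_of_m (by rw [hm0, hMr]; omega)
      · exact ne_of_m (by rw [hm0, hmk]; omega)
      · exact ne_of_m (by rw [hm1, hmp]; omega)
      · exact ne_of_m (by rw [hm1, hMr]; omega)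
      · exact hq1k
      · exact hps
      · exact hkp.symm
      · exact hks.symm
    · intro i
      fin_cases i
      · exact hl.nbrsIn
      · exact hR0.nbrsIn
      · exact hR1.nbrsIn
      · exact hnbs
      · exact hnbk
    · intro i j hj
      fin_cases i <;> simp [NF4] at hj <;> rcases hj with rfl | rfl <;> simp [CF4a]
      all_goals first | exact hcks1 | exact hck1 | exact hc | exact hcl | exact hR0.2.2.2.1 | exact hR0.2.2.2.2.1 | exact hR1.2.2.2.1 | exact hl.2.1
    · intro i
      fin_cases i <;> simp [dF4a] <;> linarith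
    · have e1 := wsym k s
      have e3 := wsym p s
      have e4 := wsym (q 0) (q 1)
      have e5 := wsym (q 1) p
      rw [hcks1, hck1] at e1
      rw [hcl, hc] at e3
      rw [hl.2.1, hR0.2.2.2.1] at e4
      rw [hR0.2.2.2.2.1, hR1.2.2.2.1] at e5
      intro i
      fin_cases i <;> simp [wF4a] <;> linarith

end

end Groth.Agent.Lib.Helper26.NTC
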