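import Groth.Agent.Lib.Helper26.NTC12

set_option autoImplicit false
open Finset Models

namespace Groth.Agent.Lib.Helper26.NTC

variable {n : ℕ} {T : NumericalType n}

section

variable (h2 : AllTwo T) {q : ℕ → Fin n} {r : ℕ} (ha : Arm T q r)
include h2 ha

/-- the branch `cc (q r) (q (r-1)) = 1` with a double bond from `q r` to a child -/
theorem Arm.branch_c1_double (hc : cc T (q r) (q (r - 1)) = 1) {k1 : Fin n} (hk1s : k1 ≠ q r)
    (hk1p : k1 ≠ q (r - 1)) (hck1 : 2 ≤ cc T (q r) k1)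
    (hrow : cc T (q r) (q (r - 1)) * T.m (q (r - 1)) + cc T (q r) k1 * T.m k1 ≤ 2 * T.m (q r)) :
    IsType T 5 dF4b wF4b CF4b := by
  obtain ⟨hM, hMp⟩ := ha.m_last h2
  have hμ := ha.mu_pos h2
  have hadj := ha.adj_last h2
  have hcl := ha.cc_last h2
  have hMr : T.m (q r) = ((r : ℤ) + 1) * T.m (q 0) := ha.m_eq r le_rfl
  obtain ⟨s, hs⟩ : ∃ s, s = q r := ⟨_, rfl⟩
  obtain ⟨p, hp⟩ : ∃ p, p = q (r - 1) := ⟨_, rfl⟩
  obtain ⟨μ, hμ'⟩ : ∃ μ, μ = T.m (q 0) := ⟨_, rfl⟩
  rw [← hs, ← hp] at hc hadj hcl hM hrow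
  rw [← hs] at hk1s hck1 hMr
  rw [← hp] at hMp hk1p
  rw [← hμ'] at hM hMp hμ hMr
  have hps : p ≠ s := hadj.1
  have wsym := fun a b => w_cc_symm T a b
  obtain ⟨hck1s, hb1, hb2⟩ := back h2 hk1s (by omega : 0 < cc T s k1)
  rw [hc, one_mul] at hrow
  have hmk1pos := T.m_pos k1
  have hck12 : cc T s k1 = 2 := by
    by_contra hne
    have : 3 ≤ cc T s k1 := by omega
    nlinarith
  rw [hck12] at hrow
  have hck1s1 : cc T k1 s = 1 := by
    by_contra hne
    have : 2 ≤ cc T k1 s := by omega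
    nlinarith
  have hmk1 : 2 * T.m k1 = T.m s + μ := by
    by_contra hne
    have hlt : 2 * T.m k1 < T.m s + μ := by
      rcases lt_or_gt_of_ne hne with h | h
      · exact h
      · linarith
    obtain ⟨k2, hk2s, hk2p, hk2k, hck2, hrow2⟩ := child_two h2 hps hk1s hk1p.symm (by
      rw [hc, hck12, hM]; linarith)
    obtain ⟨-, -, hb⟩ := back h2 hk2s hck2
    rw [hc, hck12] at hrow2
    have : T.m k2 ≤ cc T s k2 * T.m k2 := by nlinarith [T.m_pos k2]
    linarith
  have hnbs : NbrsIn T s [p, k1] := nbrsIn_two h2 hps hk1s hk1p.symm (by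
    rw [hc, hck12, hM]; linarith)
  -- the child of `k1`
  obtain ⟨k', hk'k, hk's, hck', hrow'⟩ := child_one h2 hk1s.symm (by rw [hck1s1]; linarith)
  obtain ⟨hck'k, hb1', hb2'⟩ := back h2 hk'k hck'
  rw [hck1s1, one_mul] at hrow'
  have hmk'pos := T.m_pos k'
  have hck'1 : cc T k1 k' = 1 := by
    by_contra hne
    have : 2 ≤ cc T k1 k' := by omega
    nlinarith
  rw [hck'1, one_mul] at hrow'
  have hmk' : T.m k' = μ := by linarith
  have hMs : T.m s = 3 * μ := by linarith
  have hmk1' : T.m k1 = 2 * μ := by linarith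
  have hmp : T.m p = 2 * μ := by linarith
  have hr : r = 2 := by
    have hr := ha.two_le
    rw [hMs] at hMr
    have : ((r : ℤ) - 2) * μ = 0 := by linarith
    rcases mul_eq_zero.1 this with h | h
    · omega
    · omega
  subst hr
  norm_num at hp
  have hm0 : T.m (q 0) = μ := hμ'.symm
  have hl := ha.leaf
  have hR0 := ha.reg 0 (by omega)
  rw [← hs, ← hp] at hR0
  rw [← hp] at hl
  have hnbk : NbrsIn T k1 [s, k'] := nbrsIn_two h2 hk1s.symm hk'k hk's.symm (by
    rw [hck1s1, hck'1, hMs, hmk1', hmk']; ring)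
  have hck'k1 : cc T k' k1 = 1 := by
    by_contra hne
    have : 2 ≤ cc T k' k1 := by omega
    nlinarith
  have hnbk' : NbrsIn T k' [k1] := nbrsIn_one h2 hk'k.symm (by rw [hck'k1, hmk1', hmk']; ring)
  have hq0k' : q 0 ≠ k' := by
    refine ne_of_adj (x := p) (by rw [hl.2.1]; norm_num) (hnbk' p ?_ ?_)
    · exact ne_of_m (by rw [hmp, hmk']; omega)
    · simpa using hk1p.symm
  refine assemble h2 (by norm_num) ![q 0, p, s, k1, k'] NF4 dF4b wF4b CF4b μ (T.w s) ?_ ?_ ?_
    (by decide) ?_ ?_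
  · rw [← List.nodup_ofFn]
    simp only [List.ofFn_succ, Fin.isValue, Matrix.cons_val_zero, Matrix.cons_val_succ,
      List.ofFn_zero]
    simp only [List.nodup_cons, List.mem_cons, List.not_mem_nil, or_false, not_or, List.nodup_nil,
      and_true, not_false_eq_true]
    refine ⟨⟨?_, ?_, ?_, ?_⟩, ⟨?_, ?_, ?_⟩, ⟨?_, ?_⟩, ?_⟩
    · exact ne_of_m (by rw [hm0, hmp]; omega)
    · exact ne_of_m (by rw [hm0, hMs]; omega)
    · exact ne_of_m (by rw [hm0, hmk1']; omega)
    · exact hq0k'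
    · exact hps
    · exact hk1p.symm
    · exact ne_of_m (by rw [hmp, hmk']; omega)
    · exact hk1s.symm
    · exact hk's.symm
    · exact hk'k.symm
  · intro i
    fin_cases i
    · exact hl.nbrsIn
    · exact hR0.nbrsIn
    · exact hnbs
    · exact hnbk
    · exact hnbk'
  · intro i j hj
    fin_cases i <;> simp [NF4] at hj <;> rcases hj with rfl | rfl <;> simp [CF4b]
    all_goals first | exact hck'k1 | exact hck'1 | exact hck1s1 | exact hck12 | exact hc | exact hcl | exact hR0.2.2.2.1 | exact hl.2.1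
  · intro i
    fin_cases i <;> simp [dF4b] <;> linarith
  · have e1 := wsym k1 s
    have e2 := wsym k' k1
    have e3 := wsym p s
    have e4 := wsym (q 0) p
    rw [hck1s1, hck12] at e1
    rw [hck'k1, hck'1] at e2
    rw [hcl, hc] at e3
    rw [hl.2.1, hR0.2.2.2.1] at e4
    intro i
    fin_cases i <;> simp [wF4b] <;> linarith

end

end Groth.Agent.Lib.Helper26.NTC
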