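import Groth.Agent.Lib.Helper26.NTC13

set_option autoImplicit false
open Finset Models

namespace Groth.Agent.Lib.Helper26.NTC

variable {n : ℕ} {T : NumericalType n}

def dE6 : Fin 7 → ℤ := ![1, 2, 3, 1, 2, 1, 2]
def NE6 : Fin 7 → List (Fin 7) := ![[1], [0, 2], [1, 4, 6], [4], [2, 3], [6], [2, 5]]
def dE7 : Fin 8 → ℤ := ![1, 2, 3, 4, 3, 2, 1, 2]
def NE7 : Fin 8 → List (Fin 8) := ![[1], [0, 2], [1, 3], [2, 4, 7], [3, 5], [4, 6], [5], [3]]
def dE8 : Fin 9 → ℤ := ![1, 2, 3, 4, 5, 6, 4, 2, 3]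
def NE8 : Fin 9 → List (Fin 9) :=
  ![[1], [0, 2], [1, 3], [2, 4], [3, 5], [4, 6, 8], [5, 7], [6], [5]]

/-- simply laced Cartan pattern of an adjacency list -/
def Cof {k : ℕ} (N : Fin k → List (Fin k)) (i j : Fin k) : ℤ := if j ∈ N i then 1 else 0

section

variable (h2 : AllTwo T) {q : ℕ → Fin n} {r : ℕ} (ha : Arm T q r)
include h2 ha

/-- the structure at the end of the arm when the first two entries are `1` -/
theorem Arm.three_nbrs (hc : cc T (q r) (q (r - 1)) = 1) {k1 : Fin n} (hk1s : k1 ≠ q r)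
    (hk1p : k1 ≠ q (r - 1)) (hck1 : cc T (q r) k1 = 1) :
    ∃ k2, k2 ≠ q r ∧ k2 ≠ q (r - 1) ∧ k2 ≠ k1 ∧ cc T (q r) k2 = 1 ∧ cc T k1 (q r) = 1 ∧
      cc T k2 (q r) = 1 ∧ NbrsIn T (q r) [q (r - 1), k1, k2] ∧
      T.m k1 + T.m k2 = T.m (q r) + T.m (q 0) := by
  obtain ⟨hM, hMp⟩ := ha.m_last h2
  have hμ := ha.mu_pos h2
  have hadj := ha.adj_last h2
  have hnreg := ha.not_reg
  obtain ⟨s, hs⟩ : ∃ s, s = q r := ⟨_, rfl⟩
  obtain ⟨p, hp⟩ : ∃ p, p = q (r - 1) := ⟨_, rfl⟩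
  obtain ⟨μ, hμ'⟩ : ∃ μ, μ = T.m (q 0) := ⟨_, rfl⟩
  rw [← hs, ← hp] at hc hadj hM
  rw [← hs] at hk1s hck1 hnreg
  rw [← hp] at hMp hk1p
  rw [← hμ'] at hM hMp hμ
  rw [← hs, ← hp, ← hμ']
  have hps : p ≠ s := hadj.1
  obtain ⟨hck1s, hb1, hb2⟩ := back h2 hk1s (by omega : 0 < cc T s k1)
  have hrow1 := row_le h2 s {p, k1} (by simp [hps.symm, hk1s.symm])
  rw [Finset.sum_pair hk1p.symm, hc, hck1, one_mul, one_mul] at hrow1
  have hlt : cc T s p * T.m p + cc T s k1 * T.m k1 < 2 * T.m s := by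
    rw [hc, hck1, one_mul, one_mul]
    rcases lt_or_eq_of_le hrow1 with h | h
    · exact h
    · exfalso
      apply hnreg
      have hnb := nbrsIn_two h2 hps hk1s hk1p.symm (by rw [hc, hck1, one_mul, one_mul]; exact h)
      refine ⟨p, k1, hk1p.symm, hps, hk1s, hc, hck1, fun u hu h1 h2' => hnb u hu ?_⟩
      simp [h1, h2']
  obtain ⟨k2, hk2s, hk2p, hk2k, hck2, hrow2⟩ := child_two h2 hps hk1s hk1p.symm hlt
  obtain ⟨hck2s, hb1', hb2'⟩ := back h2 hk2s hck2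
  rw [hc, hck1, one_mul, one_mul] at hrow2
  have hmk2pos := T.m_pos k2
  have hmk1pos := T.m_pos k1
  have hck21 : cc T s k2 = 1 := by
    by_contra hne
    have : 2 ≤ cc T s k2 := by omega
    nlinarith
  rw [hck21, one_mul] at hrow2
  have hck1s1 : cc T k1 s = 1 := by
    by_contra hne
    have : 2 ≤ cc T k1 s := by omega
    nlinarith
  have hck2s1 : cc T k2 s = 1 := by
    by_contra hne
    have : 2 ≤ cc T k2 s := by omega
    nlinarith
  have hsum : T.m k1 + T.m k2 = T.m s + μ := by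
    by_contra hne
    have hlt' : T.m k1 + T.m k2 < T.m s + μ := by
      rcases lt_or_gt_of_ne hne with h | h
      · exact h
      · linarith
    obtain ⟨k3, hk3s, hk3p, hk3k1, hk3k2, hck3, hrow3⟩ := child_three h2 hps hk1s hk2s hk1p.symm
      hk2p.symm hk2k.symm (by rw [hc, hck1, hck21]; linarith)
    obtain ⟨-, -, hb⟩ := back h2 hk3s hck3
    rw [hc, hck1, hck21] at hrow3
    have : T.m k3 ≤ cc T s k3 * T.m k3 := by nlinarith [T.m_pos k3]
    linarith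
  refine ⟨k2, hk2s, hk2p, hk2k, hck21, hck1s1, hck2s1, ?_, hsum⟩
  exact nbrsIn_three h2 hps hk1s hk2s hk1p.symm hk2p.symm hk2k.symm (by
    rw [hc, hck1, hck21]; linarith)

/-- a child with positive remainder has remainder at least `μ` -/
theorem Arm.rem_ge {k : Fin n} (hks : k ≠ q r) (hcks : cc T k (q r) = 1)
    (hpos : T.m (q r) < 2 * T.m k) : T.m (q r) + T.m (q 0) ≤ 2 * T.m k := by
  obtain ⟨hM, hMp⟩ := ha.m_last h2
  obtain ⟨u, huk, hus, hcu, hrow⟩ := child_one h2 hks.symm (by rw [hcks, one_mul]; exact hpos)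
  obtain ⟨-, -, hb⟩ := back h2 huk hcu
  rw [hcks, one_mul] at hrow
  have : T.m u ≤ cc T k u * T.m u := by nlinarith [T.m_pos u]
  linarith

/-- a child `k` of the end of the arm with remainder `μ` when `M = 3 μ`: it has one further
neighbour, a simple leaf -/
theorem Arm.short_arm {μ : ℤ} (hμ : μ = T.m (q 0)) (hMs : T.m (q r) = 3 * μ) {k : Fin n}
    (hks : k ≠ q r) (hcks : cc T k (q r) = 1) (hmk : T.m k = 2 * μ) :
    ∃ u, u ≠ k ∧ u ≠ q r ∧ cc T k u = 1 ∧ cc T u k = 1 ∧ T.m u = μ ∧ NbrsIn T k [q r, u] ∧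
      NbrsIn T u [k] := by
  have hμpos : 0 < μ := by rw [hμ]; exact T.m_pos _
  obtain ⟨u, huk, hus, hcu, hrow⟩ := child_one h2 hks.symm (by rw [hcks, hMs, hmk]; linarith)
  obtain ⟨hcuk, hb1, hb2⟩ := back h2 huk hcu
  rw [hcks, hMs, hmk] at hrow
  have hmupos := T.m_pos u
  have hcu1 : cc T k u = 1 := by
    by_contra hne
    have : 2 ≤ cc T k u := by omega
    nlinarith
  rw [hcu1] at hrow
  have hmu : T.m u = μ := by linarith
  have hcuk1 : cc T u k = 1 := by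
    by_contra hne
    have : 2 ≤ cc T u k := by omega
    nlinarith
  refine ⟨u, huk, hus, hcu1, hcuk1, hmu, ?_, ?_⟩
  · exact nbrsIn_two h2 hks.symm huk hus.symm (by rw [hcks, hcu1, hMs, hmk, hmu]; ring)
  · exact nbrsIn_one h2 huk.symm (by rw [hcuk1, hmk, hmu]; ring)

/-- the `(μ, μ)` case: `E6` completed -/
theorem Arm.e6 (hc : cc T (q r) (q (r - 1)) = 1) {k1 k2 : Fin n} (hk1s : k1 ≠ q r)
    (hk1p : k1 ≠ q (r - 1)) (hck1 : cc T (q r) k1 = 1) (hk2s : k2 ≠ q r) (hk2p : k2 ≠ q (r - 1))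
    (hk2k : k2 ≠ k1) (hck2 : cc T (q r) k2 = 1) (hck1s : cc T k1 (q r) = 1)
    (hck2s : cc T k2 (q r) = 1) (hnbs : NbrsIn T (q r) [q (r - 1), k1, k2])
    (h1 : 2 * T.m k1 = T.m (q r) + T.m (q 0)) (h2' : 2 * T.m k2 = T.m (q r) + T.m (q 0))
    (hM3 : T.m (q r) ≤ 3 * T.m (q 0)) :
    IsType T 7 dE6 (fun _ => 1) (Cof NE6) := by
  obtain ⟨hM, hMp⟩ := ha.m_last h2
  have hμ := ha.mu_pos h2
  have hcl := ha.cc_last h2
  have hMr : T.m (q r) = ((r : ℤ) + 1) * T.m (q 0) := ha.m_eq r le_rfl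
  obtain ⟨μ, hμ'⟩ : ∃ μ, μ = T.m (q 0) := ⟨_, rfl⟩
  rw [← hμ'] at hM hMp hμ hMr h1 h2' hM3
  have hMs : T.m (q r) = 3 * μ := by linarith
  have hr : r = 2 := by
    have hr := ha.two_le
    rw [hMs] at hMr
    have : ((r : ℤ) - 2) * μ = 0 := by linarith
    rcases mul_eq_zero.1 this with h | h
    · omega
    · omega
  subst hr
  norm_num at hc hk1p hk2p hnbs hcl hM hMp
  have hm0 : T.m (q 0) = μ := hμ'.symm
  have hmp : T.m (q 1) = 2 * μ := by linarith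
  have hmk1 : T.m k1 = 2 * μ := by linarith
  have hmk2 : T.m k2 = 2 * μ := by linarith
  have hl := ha.leaf
  have hR0 := ha.reg 0 (by omega)
  norm_num at hR0
  obtain ⟨u1, hu1k, hu1s, hc1, hc1', hmu1, hnbk1, hnbu1⟩ :=
    ha.short_arm h2 hμ' hMs hk1s hck1s hmk1
  obtain ⟨u2, hu2k, hu2s, hc2, hc2', hmu2, hnbk2, hnbu2⟩ :=
    ha.short_arm h2 hμ' hMs hk2s hck2s hmk2
  have wsym := fun a b => w_cc_symm T a b
  have hq0u1 : q 0 ≠ u1 := by
    refine ne_of_adj (x := q 1) (by rw [hl.2.1]; norm_num) (hnbu1 (q 1) ?_ ?_)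
    · exact ne_of_m (by rw [hmp, hmu1]; omega)
    · simpa using (Ne.symm hk1p)
  have hq0u2 : q 0 ≠ u2 := by
    refine ne_of_adj (x := q 1) (by rw [hl.2.1]; norm_num) (hnbu2 (q 1) ?_ ?_)
    · exact ne_of_m (by rw [hmp, hmu2]; omega)
    · simpa using (Ne.symm hk2p)
  have hu1u2 : u1 ≠ u2 := by
    refine ne_of_adj (x := k1) (by rw [hc1']; norm_num) (hnbu2 k1 ?_ ?_)
    · exact ne_of_m (by rw [hmk1, hmu2]; omega)
    · simpa using hk2k.symm
  refine assemble h2 (by norm_num) ![q 0, q 1, q 2, u1, k1, u2, k2] NE6 dE6 (fun _ => 1) (Cof NE6)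
    μ (T.w (q 2)) ?_ ?_ ?_ (by decide) ?_ ?_
  · rw [← List.nodup_ofFn]
    simp only [List.ofFn_succ, Fin.isValue, Matrix.cons_val_zero, Matrix.cons_val_succ,
      List.ofFn_zero]
    simp only [List.nodup_cons, List.mem_cons, List.not_mem_nil, or_false, not_or, List.nodup_nil,
      and_true, not_false_eq_true]
    refine ⟨⟨?_, ?_, ?_, ?_, ?_, ?_⟩, ⟨?_, ?_, ?_, ?_, ?_⟩, ⟨?_, ?_, ?_, ?_⟩, ⟨?_, ?_, ?_⟩,
      ⟨?_, ?_⟩, ?_⟩
    · exact ne_of_m (by rw [hm0, hmp]; omega)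
    · exact ne_of_m (by rw [hm0, hMs]; omega)
    · exact hq0u1
    · exact ne_of_m (by rw [hm0, hmk1]; omega)
    · exact hq0u2
    · exact ne_of_m (by rw [hm0, hmk2]; omega)
    · exact ne_of_m (by rw [hmp, hMs]; omega)
    · exact ne_of_m (by rw [hmp, hmu1]; omega)
    · exact (Ne.symm hk1p)
    · exact ne_of_m (by rw [hmp, hmu2]; omega)
    · exact (Ne.symm hk2p)
    · exact hu1s.symm
    · exact hk1s.symm
    · exact hu2s.symm
    · exact hk2s.symm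
    · exact hu1k
    · exact hu1u2
    · exact ne_of_m (by rw [hmu1, hmk2]; omega)
    · exact ne_of_m (by rw [hmk1, hmu2]; omega)
    · exact hk2k.symm
    · exact hu2k
  · intro i
    fin_cases i
    · exact hl.nbrsIn
    · exact hR0.nbrsIn
    · exact hnbs
    · exact hnbu1
    · exact hnbk1
    · exact hnbu2
    · exact hnbk2
  · intro i j hj
    fin_cases i <;> simp [NE6] at hj <;> rcases hj with rfl | rfl | rfl <;> simp [Cof, NE6]
    all_goals first | exact hc1 | exact hc1' | exact hc2 | exact hc2' | exact hck1 | exact hck2 | exact hck1s | exact hck2s | exact hc | exact hcl | exact hR0.2.2.2.1 | exact hl.2.1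
  · intro i
    fin_cases i <;> simp [dE6] <;> linarith
  · have e1 := wsym k1 (q 2)
    have e2 := wsym u1 k1
    have e3 := wsym (q 1) (q 2)
    have e4 := wsym (q 0) (q 1)
    have e5 := wsym k2 (q 2)
    have e6 := wsym u2 k2
    rw [hck1s, hck1] at e1
    rw [hc1', hc1] at e2
    rw [hcl, hc] at e3
    rw [hl.2.1, hR0.2.2.2.1] at e4
    rw [hck2s, hck2] at e5
    rw [hc2', hc2] at e6
    intro i
    fin_cases i <;> simp <;> linarith

end

end Groth.Agent.Lib.Helper26.NTC
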