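import Groth.Agent.Lib.Helper26.NTC14

set_option autoImplicit false
open Finset Models

namespace Groth.Agent.Lib.Helper26.NTC

variable {n : ℕ} {T : NumericalType n}

theorem NbrsIn.mono {v : Fin n} {L L' : List (Fin n)} (h : NbrsIn T v L)
    (hL : ∀ x, x ∈ L → x ∈ L') : NbrsIn T v L' := fun u hu huL => h u hu (fun hm => huL (hL u hm))

section

variable (h2 : AllTwo T) {q : ℕ → Fin n} {r : ℕ} (ha : Arm T q r)
include h2 ha

/-- the `(0, 2 μ)` case, long arm (`r = 5`): `E8` completed -/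
theorem Arm.e8_long (hr : r = 5) (hc : cc T (q r) (q (r - 1)) = 1) {k1 k2 v : Fin n}
    (hk1s : k1 ≠ q r) (hk1p : k1 ≠ q (r - 1)) (hck1 : cc T (q r) k1 = 1) (hk2s : k2 ≠ q r)
    (hk2p : k2 ≠ q (r - 1)) (hk2k : k2 ≠ k1) (hck2 : cc T (q r) k2 = 1)
    (hck1s : cc T k1 (q r) = 1) (hck2s : cc T k2 (q r) = 1)
    (hnbs : NbrsIn T (q r) [q (r - 1), k1, k2]) (hnbk1 : NbrsIn T k1 [q r])
    (hvk2 : v ≠ k2) (hvs : v ≠ q r) (hcv : cc T k2 v = 1) (hcv' : cc T v k2 = 1)
    (hnbk2 : NbrsIn T k2 [q r, v]) (hnbv : NbrsIn T v [k2])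
    (hmk1 : T.m k1 = 3 * T.m (q 0)) (hmk2 : T.m k2 = 4 * T.m (q 0))
    (hmv : T.m v = 2 * T.m (q 0)) :
    IsType T 9 dE8 (fun _ => 1) (Cof NE8) := by
  subst hr
  have hμ := ha.mu_pos h2
  have hcl := ha.cc_last h2
  obtain ⟨μ, hμ'⟩ : ∃ μ, μ = T.m (q 0) := ⟨_, rfl⟩
  norm_num at hc hk1p hk2p hnbs hcl
  have hm : ∀ k, k ≤ 5 → T.m (q k) = ((k : ℤ) + 1) * μ := fun k hk => by
    rw [hμ']; exact ha.m_eq k hk
  have hm0 : T.m (q 0) = μ := hμ'.symm
  have hm1 : T.m (q 1) = 2 * μ := by have := hm 1 (by omega); push_cast at this; linarith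
  have hm2 : T.m (q 2) = 3 * μ := by have := hm 2 (by omega); push_cast at this; linarith
  have hm3 : T.m (q 3) = 4 * μ := by have := hm 3 (by omega); push_cast at this; linarith
  have hm4 : T.m (q 4) = 5 * μ := by have := hm 4 (by omega); push_cast at this; linarith
  have hm5 : T.m (q 5) = 6 * μ := by have := hm 5 (by omega); push_cast at this; linarith
  rw [← hμ'] at hμ hmk1 hmk2 hmv
  have hl := ha.leaf
  have hR0 := ha.reg 0 (by omega)
  have hR1 := ha.reg 1 (by omega)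
  have hR2 := ha.reg 2 (by omega)
  have hR3 := ha.reg 3 (by omega)
  norm_num at hR0 hR1 hR2 hR3
  have wsym := fun a b => w_cc_symm T a b
  have hq1v : q 1 ≠ v := by
    refine ne_of_adj (x := q 0) (by rw [hR0.2.2.2.1]; norm_num) (hnbv (q 0) ?_ ?_)
    · exact ne_of_m (by rw [hm0, hmv]; omega)
    · simpa using ne_of_m (by rw [hm0, hmk2]; omega)
  have hq2k1 : q 2 ≠ k1 := by
    refine ne_of_adj (x := q 1) (by rw [hR1.2.2.2.1]; norm_num) (hnbk1 (q 1) ?_ ?_)
    · exact ne_of_m (by rw [hm1, hmk1]; omega)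
    · simpa using ne_of_m (by rw [hm1, hm5]; omega)
  have hq3k2 : q 3 ≠ k2 := by
    refine ne_of_adj (x := q 2) (by rw [hR2.2.2.2.1]; norm_num) (hnbk2 (q 2) ?_ ?_)
    · exact ne_of_m (by rw [hm2, hmk2]; omega)
    · simp only [List.mem_cons, List.not_mem_nil, or_false, not_or]
      exact ⟨ne_of_m (by rw [hm2, hm5]; omega), ne_of_m (by rw [hm2, hmv]; omega)⟩
  refine assemble h2 (by norm_num) ![q 0, q 1, q 2, q 3, q 4, q 5, k2, v, k1] NE8 dE8 (fun _ => 1)
    (Cof NE8) μ (T.w (q 5)) ?_ ?_ ?_ (by decide) ?_ ?_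
  · rw [← List.nodup_ofFn]
    simp only [List.ofFn_succ, Fin.isValue, Matrix.cons_val_zero, Matrix.cons_val_succ,
      List.ofFn_zero]
    simp only [List.nodup_cons, List.mem_cons, List.not_mem_nil, or_false, not_or, List.nodup_nil,
      and_true, not_false_eq_true]
    refine ⟨⟨?_, ?_, ?_, ?_, ?_, ?_, ?_, ?_⟩, ⟨?_, ?_, ?_, ?_, ?_, ?_, ?_⟩, ⟨?_, ?_, ?_, ?_, ?_, ?_⟩,
      ⟨?_, ?_, ?_, ?_, ?_⟩, ⟨?_, ?_, ?_, ?_⟩, ⟨?_, ?_, ?_⟩, ⟨?_, ?_⟩, ?_⟩
    · exact ne_of_m (by rw [hm0, hm1]; omega)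
    · exact ne_of_m (by rw [hm0, hm2]; omega)
    · exact ne_of_m (by rw [hm0, hm3]; omega)
    · exact ne_of_m (by rw [hm0, hm4]; omega)
    · exact ne_of_m (by rw [hm0, hm5]; omega)
    · exact ne_of_m (by rw [hm0, hmk2]; omega)
    · exact ne_of_m (by rw [hm0, hmv]; omega)
    · exact ne_of_m (by rw [hm0, hmk1]; omega)
    · exact ne_of_m (by rw [hm1, hm2]; omega)
    · exact ne_of_m (by rw [hm1, hm3]; omega)
    · exact ne_of_m (by rw [hm1, hm4]; omega)
    · exact ne_of_m (by rw [hm1, hm5]; omega)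
    · exact ne_of_m (by rw [hm1, hmk2]; omega)
    · exact hq1v
    · exact ne_of_m (by rw [hm1, hmk1]; omega)
    · exact ne_of_m (by rw [hm2, hm3]; omega)
    · exact ne_of_m (by rw [hm2, hm4]; omega)
    · exact ne_of_m (by rw [hm2, hm5]; omega)
    · exact ne_of_m (by rw [hm2, hmk2]; omega)
    · exact ne_of_m (by rw [hm2, hmv]; omega)
    · exact hq2k1
    · exact ne_of_m (by rw [hm3, hm4]; omega)
    · exact ne_of_m (by rw [hm3, hm5]; omega)
    · exact hq3k2
    · exact ne_of_m (by rw [hm3, hmv]; omega)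
    · exact ne_of_m (by rw [hm3, hmk1]; omega)
    · exact ne_of_m (by rw [hm4, hm5]; omega)
    · exact ne_of_m (by rw [hm4, hmk2]; omega)
    · exact ne_of_m (by rw [hm4, hmv]; omega)
    · exact ne_of_m (by rw [hm4, hmk1]; omega)
    · exact Ne.symm hk2s
    · exact Ne.symm hvs
    · exact Ne.symm hk1s
    · exact Ne.symm hvk2
    · exact hk2k
    · exact ne_of_m (by rw [hmv, hmk1]; omega)
  · intro i
    fin_cases i
    · exact hl.nbrsIn
    · exact hR0.nbrsIn
    · exact hR1.nbrsIn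
    · exact hR2.nbrsIn
    · exact hR3.nbrsIn
    · exact hnbs.mono (by
        intro x hx
        simp only [List.mem_cons, List.not_mem_nil, or_false] at hx
        simp [NE7, NE8]
        tauto)
    · exact hnbk2
    · exact hnbv
    · exact hnbk1
  · intro i j hj
    fin_cases i <;> simp [NE8] at hj <;> rcases hj with rfl | rfl | rfl <;> simp [Cof, NE8]
    all_goals first | exact hcv | exact hcv' | exact hck1 | exact hck2 | exact hck1s | exact hck2s | exact hc | exact hcl | exact hl.2.1 | exact hR0.2.2.2.1 | exact hR0.2.2.2.2.1 | exact hR1.2.2.2.1 | exact hR1.2.2.2.2.1 | exact hR2.2.2.2.1 | exact hR2.2.2.2.2.1 | exact hR3.2.2.2.1 | exact hR3.2.2.2.2.1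
  · intro i
    fin_cases i <;> simp [dE8] <;> linarith
  · have e0 := wsym (q 0) (q 1)
    have e1 := wsym (q 1) (q 2)
    have e2 := wsym (q 2) (q 3)
    have e3 := wsym (q 3) (q 4)
    have e4 := wsym (q 4) (q 5)
    have e5 := wsym k2 (q 5)
    have e6 := wsym v k2
    have e7 := wsym k1 (q 5)
    rw [hl.2.1, hR0.2.2.2.1] at e0
    rw [hR0.2.2.2.2.1, hR1.2.2.2.1] at e1
    rw [hR1.2.2.2.2.1, hR2.2.2.2.1] at e2
    rw [hR2.2.2.2.2.1, hR3.2.2.2.1] at e3
    rw [hcl, hc] at e4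
    rw [hck2s, hck2] at e5
    rw [hcv', hcv] at e6
    rw [hck1s, hck1] at e7
    intro i
    fin_cases i <;> simp <;> linarith

/-- the `(0, 2 μ)` case with `r = 3`: `E7` completed -/
theorem Arm.e7 (hr : r = 3) (hc : cc T (q r) (q (r - 1)) = 1) {k1 k2 v v' : Fin n}
    (hk1s : k1 ≠ q r) (hck1 : cc T (q r) k1 = 1) (hk2s : k2 ≠ q r)
    (hk2p : k2 ≠ q (r - 1)) (hk2k : k2 ≠ k1) (hck2 : cc T (q r) k2 = 1)
    (hck1s : cc T k1 (q r) = 1) (hck2s : cc T k2 (q r) = 1)
    (hnbs : NbrsIn T (q r) [q (r - 1), k1, k2]) (hnbk1 : NbrsIn T k1 [q r])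
    (hvk2 : v ≠ k2) (hvs : v ≠ q r) (hcv : cc T k2 v = 1) (hcv' : cc T v k2 = 1)
    (hnbk2 : NbrsIn T k2 [q r, v])
    (hv'v : v' ≠ v) (hcvv' : cc T v v' = 1) (hcv'v : cc T v' v = 1)
    (hnbv : NbrsIn T v [k2, v']) (hnbv' : NbrsIn T v' [v])
    (hmk1 : T.m k1 = 2 * T.m (q 0)) (hmk2 : T.m k2 = 3 * T.m (q 0))
    (hmv : T.m v = 2 * T.m (q 0)) (hmv' : T.m v' = T.m (q 0)) :
    IsType T 8 dE7 (fun _ => 1) (Cof NE7) := by
  subst hr
  have hμ := ha.mu_pos h2
  have hcl := ha.cc_last h2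
  obtain ⟨μ, hμ'⟩ : ∃ μ, μ = T.m (q 0) := ⟨_, rfl⟩
  norm_num at hc hk2p hnbs hcl
  have hm : ∀ k, k ≤ 3 → T.m (q k) = ((k : ℤ) + 1) * μ := fun k hk => by
    rw [hμ']; exact ha.m_eq k hk
  have hm0 : T.m (q 0) = μ := hμ'.symm
  have hm1 : T.m (q 1) = 2 * μ := by have := hm 1 (by omega); push_cast at this; linarith
  have hm2 : T.m (q 2) = 3 * μ := by have := hm 2 (by omega); push_cast at this; linarith
  have hm3 : T.m (q 3) = 4 * μ := by have := hm 3 (by omega); push_cast at this; linarith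
  rw [← hμ'] at hμ hmk1 hmk2 hmv hmv'
  have hl := ha.leaf
  have hR0 := ha.reg 0 (by omega)
  have hR1 := ha.reg 1 (by omega)
  norm_num at hR0 hR1
  have wsym := fun a b => w_cc_symm T a b
  have hq1v : q 1 ≠ v := by
    refine ne_of_adj (x := q 2) (by rw [hR0.2.2.2.2.1]; norm_num) (hnbv (q 2) ?_ ?_)
    · exact ne_of_m (by rw [hm2, hmv]; omega)
    · simp only [List.mem_cons, List.not_mem_nil, or_false, not_or]
      exact ⟨Ne.symm hk2p, ne_of_m (by rw [hm2, hmv']; omega)⟩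
  have hq1k1 : q 1 ≠ k1 := by
    refine ne_of_adj (x := q 0) (by rw [hR0.2.2.2.1]; norm_num) (hnbk1 (q 0) ?_ ?_)
    · exact ne_of_m (by rw [hm0, hmk1]; omega)
    · simpa using ne_of_m (by rw [hm0, hm3]; omega)
  have hvk1 : v ≠ k1 := by
    refine ne_of_adj (x := k2) (by rw [hcv']; norm_num) (hnbk1 k2 hk2k ?_)
    simpa using hk2s
  have hq0v' : q 0 ≠ v' := by
    refine ne_of_adj (x := q 1) (by rw [hl.2.1]; norm_num) (hnbv' (q 1) ?_ ?_)
    · exact ne_of_m (by rw [hm1, hmv']; omega)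
    · simpa using hq1v
  refine assemble h2 (by norm_num) ![q 0, q 1, q 2, q 3, k2, v, v', k1] NE7 dE7 (fun _ => 1)
    (Cof NE7) μ (T.w (q 3)) ?_ ?_ ?_ (by decide) ?_ ?_
  · rw [← List.nodup_ofFn]
    simp only [List.ofFn_succ, Fin.isValue, Matrix.cons_val_zero, Matrix.cons_val_succ,
      List.ofFn_zero]
    simp only [List.nodup_cons, List.mem_cons, List.not_mem_nil, or_false, not_or, List.nodup_nil,
      and_true, not_false_eq_true]
    refine ⟨⟨?_, ?_, ?_, ?_, ?_, ?_, ?_⟩, ⟨?_, ?_, ?_, ?_, ?_, ?_⟩, ⟨?_, ?_, ?_, ?_, ?_⟩,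
      ⟨?_, ?_, ?_, ?_⟩, ⟨?_, ?_, ?_⟩, ⟨?_, ?_⟩, ?_⟩
    · exact ne_of_m (by rw [hm0, hm1]; omega)
    · exact ne_of_m (by rw [hm0, hm2]; omega)
    · exact ne_of_m (by rw [hm0, hm3]; omega)
    · exact ne_of_m (by rw [hm0, hmk2]; omega)
    · exact ne_of_m (by rw [hm0, hmv]; omega)
    · exact hq0v'
    · exact ne_of_m (by rw [hm0, hmk1]; omega)
    · exact ne_of_m (by rw [hm1, hm2]; omega)
    · exact ne_of_m (by rw [hm1, hm3]; omega)
    · exact ne_of_m (by rw [hm1, hmk2]; omega)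
    · exact hq1v
    · exact ne_of_m (by rw [hm1, hmv']; omega)
    · exact hq1k1
    · exact ne_of_m (by rw [hm2, hm3]; omega)
    · exact Ne.symm hk2p
    · exact ne_of_m (by rw [hm2, hmv]; omega)
    · exact ne_of_m (by rw [hm2, hmv']; omega)
    · exact ne_of_m (by rw [hm2, hmk1]; omega)
    · exact Ne.symm hk2s
    · exact Ne.symm hvs
    · exact ne_of_m (by rw [hm3, hmv']; omega)
    · exact Ne.symm hk1s
    · exact Ne.symm hvk2
    · exact ne_of_m (by rw [hmk2, hmv']; omega)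
    · exact hk2k
    · exact Ne.symm hv'v
    · exact hvk1
    · exact ne_of_m (by rw [hmv', hmk1]; omega)
  · intro i
    fin_cases i
    · exact hl.nbrsIn
    · exact hR0.nbrsIn
    · exact hR1.nbrsIn
    · exact hnbs.mono (by
        intro x hx
        simp only [List.mem_cons, List.not_mem_nil, or_false] at hx
        simp [NE7, NE8]
        tauto)
    · exact hnbk2
    · exact hnbv
    · exact hnbv'
    · exact hnbk1
  · intro i j hj
    fin_cases i <;> simp [NE7] at hj <;> rcases hj with rfl | rfl | rfl <;> simp [Cof, NE7]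
    all_goals first | exact hcv | exact hcv' | exact hcvv' | exact hcv'v | exact hck1 | exact hck2 | exact hck1s | exact hck2s | exact hc | exact hcl | exact hl.2.1 | exact hR0.2.2.2.1 | exact hR0.2.2.2.2.1 | exact hR1.2.2.2.1 | exact hR1.2.2.2.2.1
  · intro i
    fin_cases i <;> simp [dE7] <;> linarith
  · have e0 := wsym (q 0) (q 1)
    have e1 := wsym (q 1) (q 2)
    have e4 := wsym (q 2) (q 3)
    have e5 := wsym k2 (q 3)
    have e6 := wsym v k2
    have e7 := wsym k1 (q 3)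
    have e8 := wsym v' v
    rw [hl.2.1, hR0.2.2.2.1] at e0
    rw [hR0.2.2.2.2.1, hR1.2.2.2.1] at e1
    rw [hcl, hc] at e4
    rw [hck2s, hck2] at e5
    rw [hcv', hcv] at e6
    rw [hck1s, hck1] at e7
    rw [hcv'v, hcvv'] at e8
    intro i
    fin_cases i <;> simp <;> linarith

/-- the `(0, 2 μ)` case with `r = 2`: `E8` completed, seen from its arm of length two -/
theorem Arm.e8_short (hr : r = 2) (hc : cc T (q r) (q (r - 1)) = 1) {k1 k2 v v' v'' v''' : Fin n}
    {ν : ℤ} (hν : T.m (q 0) = 2 * ν)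
    (hk1s : k1 ≠ q r) (hck1 : cc T (q r) k1 = 1) (hk2s : k2 ≠ q r)
    (hk2k : k2 ≠ k1) (hck2 : cc T (q r) k2 = 1)
    (hck1s : cc T k1 (q r) = 1) (hck2s : cc T k2 (q r) = 1)
    (hnbs : NbrsIn T (q r) [q (r - 1), k1, k2]) (hnbk1 : NbrsIn T k1 [q r])
    (hvk2 : v ≠ k2) (hvs : v ≠ q r) (hcv : cc T k2 v = 1) (hcv' : cc T v k2 = 1)
    (hnbk2 : NbrsIn T k2 [q r, v])
    (hv'v : v' ≠ v) (hcvv' : cc T v v' = 1) (hcv'v : cc T v' v = 1)
    (hnbv : NbrsIn T v [k2, v'])
    (hv''v' : v'' ≠ v') (hc1 : cc T v' v'' = 1) (hc1' : cc T v'' v' = 1)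
    (hnbv' : NbrsIn T v' [v, v''])
    (hv'''v'' : v''' ≠ v'') (hc2 : cc T v'' v''' = 1) (hc2' : cc T v''' v'' = 1)
    (hnbv'' : NbrsIn T v'' [v', v''']) (hnbv''' : NbrsIn T v''' [v''])
    (hmk1 : T.m k1 = 3 * ν) (hmk2 : T.m k2 = 5 * ν)
    (hmv : T.m v = 4 * ν) (hmv' : T.m v' = 3 * ν) (hmv'' : T.m v'' = 2 * ν)
    (hmv''' : T.m v''' = ν) :
    IsType T 9 dE8 (fun _ => 1) (Cof NE8) := by
  subst hr
  have hμ := ha.mu_pos h2
  have hcl := ha.cc_last h2
  norm_num at hc hnbs hcl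
  have hm0 : T.m (q 0) = 2 * ν := hν
  have hm1 : T.m (q 1) = 4 * ν := by
    have := ha.m_eq 1 (by omega); push_cast at this; linarith
  have hm2 : T.m (q 2) = 6 * ν := by
    have := ha.m_eq 2 (by omega); push_cast at this; linarith
  have hνpos : 0 < ν := by linarith
  have hl := ha.leaf
  have hR0 := ha.reg 0 (by omega)
  norm_num at hR0
  have wsym := fun a b => w_cc_symm T a b
  have hvq1 : v ≠ q 1 := by
    refine (ne_of_adj (x := q 2) (by rw [hcl]; norm_num) (hnbv (q 2) (Ne.symm hvs) ?_)).symm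
    simp only [List.mem_cons, List.not_mem_nil, or_false, not_or]
    exact ⟨Ne.symm hk2s, ne_of_m (by rw [hm2, hmv']; omega)⟩
  have hv'k1 : v' ≠ k1 := by
    refine (ne_of_adj (x := q 2) (by rw [hck1s]; norm_num) (hnbv' (q 2) ?_ ?_)).symm
    · exact ne_of_m (by rw [hm2, hmv']; omega)
    · simp only [List.mem_cons, List.not_mem_nil, or_false, not_or]
      exact ⟨Ne.symm hvs, ne_of_m (by rw [hm2, hmv'']; omega)⟩
  have hv''q0 : v'' ≠ q 0 := by
    refine (ne_of_adj (x := q 1) (by rw [hl.2.1]; norm_num) (hnbv'' (q 1) ?_ ?_)).symm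
    · exact ne_of_m (by rw [hm1, hmv'']; omega)
    · simp only [List.mem_cons, List.not_mem_nil, or_false, not_or]
      exact ⟨ne_of_m (by rw [hm1, hmv']; omega), ne_of_m (by rw [hm1, hmv''']; omega)⟩
  refine assemble h2 (by norm_num) ![v''', v'', v', v, k2, q 2, q 1, q 0, k1] NE8 dE8 (fun _ => 1)
    (Cof NE8) ν (T.w (q 2)) ?_ ?_ ?_ (by decide) ?_ ?_
  · rw [← List.nodup_ofFn]
    simp only [List.ofFn_succ, Fin.isValue, Matrix.cons_val_zero, Matrix.cons_val_succ,
      List.ofFn_zero]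
    simp only [List.nodup_cons, List.mem_cons, List.not_mem_nil, or_false, not_or, List.nodup_nil,
      and_true, not_false_eq_true]
    refine ⟨⟨?_, ?_, ?_, ?_, ?_, ?_, ?_, ?_⟩, ⟨?_, ?_, ?_, ?_, ?_, ?_, ?_⟩, ⟨?_, ?_, ?_, ?_, ?_, ?_⟩,
      ⟨?_, ?_, ?_, ?_, ?_⟩, ⟨?_, ?_, ?_, ?_⟩, ⟨?_, ?_, ?_⟩, ⟨?_, ?_⟩, ?_⟩
    · exact hv'''v''
    · exact ne_of_m (by rw [hmv''', hmv']; omega)
    · exact ne_of_m (by rw [hmv''', hmv]; omega)
    · exact ne_of_m (by rw [hmv''', hmk2]; omega)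
    · exact ne_of_m (by rw [hmv''', hm2]; omega)
    · exact ne_of_m (by rw [hmv''', hm1]; omega)
    · exact ne_of_m (by rw [hmv''', hm0]; omega)
    · exact ne_of_m (by rw [hmv''', hmk1]; omega)
    · exact hv''v'
    · exact ne_of_m (by rw [hmv'', hmv]; omega)
    · exact ne_of_m (by rw [hmv'', hmk2]; omega)
    · exact ne_of_m (by rw [hmv'', hm2]; omega)
    · exact ne_of_m (by rw [hmv'', hm1]; omega)
    · exact hv''q0
    · exact ne_of_m (by rw [hmv'', hmk1]; omega)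
    · exact hv'v
    · exact ne_of_m (by rw [hmv', hmk2]; omega)
    · exact ne_of_m (by rw [hmv', hm2]; omega)
    · exact ne_of_m (by rw [hmv', hm1]; omega)
    · exact ne_of_m (by rw [hmv', hm0]; omega)
    · exact hv'k1
    · exact hvk2
    · exact hvs
    · exact hvq1
    · exact ne_of_m (by rw [hmv, hm0]; omega)
    · exact ne_of_m (by rw [hmv, hmk1]; omega)
    · exact hk2s
    · exact ne_of_m (by rw [hmk2, hm1]; omega)
    · exact ne_of_m (by rw [hmk2, hm0]; omega)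
    · exact hk2k
    · exact ne_of_m (by rw [hm2, hm1]; omega)
    · exact ne_of_m (by rw [hm2, hm0]; omega)
    · exact Ne.symm hk1s
    · exact ne_of_m (by rw [hm1, hm0]; omega)
    · exact ne_of_m (by rw [hm1, hmk1]; omega)
    · exact ne_of_m (by rw [hm0, hmk1]; omega)
  · intro i
    fin_cases i
    · exact hnbv'''
    · exact hnbv''.mono (by
        intro x hx
        simp only [List.mem_cons, List.not_mem_nil, or_false] at hx
        simp [NE7, NE8]
        tauto)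
    · exact hnbv'.mono (by
        intro x hx
        simp only [List.mem_cons, List.not_mem_nil, or_false] at hx
        simp [NE7, NE8]
        tauto)
    · exact hnbv.mono (by
        intro x hx
        simp only [List.mem_cons, List.not_mem_nil, or_false] at hx
        simp [NE7, NE8]
        tauto)
    · exact hnbk2.mono (by
        intro x hx
        simp only [List.mem_cons, List.not_mem_nil, or_false] at hx
        simp [NE7, NE8]
        tauto)
    · exact hnbs.mono (by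
        intro x hx
        simp only [List.mem_cons, List.not_mem_nil, or_false] at hx
        simp [NE7, NE8]
        tauto)
    · exact hR0.nbrsIn.mono (by
        intro x hx
        simp only [List.mem_cons, List.not_mem_nil, or_false] at hx
        simp [NE7, NE8]
        tauto)
    · exact hl.nbrsIn
    · exact hnbk1
  · intro i j hj
    fin_cases i <;> simp [NE8] at hj <;> rcases hj with rfl | rfl | rfl <;> simp [Cof, NE8]
    all_goals first | exact hcv | exact hcv' | exact hcvv' | exact hcv'v | exact hc1 | exact hc1' | exact hc2 | exact hc2' | exact hck1 | exact hck2 | exact hck1s | exact hck2s | exact hc | exact hcl | exact hl.2.1 | exact hR0.2.2.2.1 | exact hR0.2.2.2.2.1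
  · intro i
    fin_cases i <;> simp [dE8] <;> linarith
  · have e0 := wsym (q 0) (q 1)
    have e4 := wsym (q 1) (q 2)
    have e5 := wsym k2 (q 2)
    have e6 := wsym v k2
    have e7 := wsym k1 (q 2)
    have e8 := wsym v' v
    have e9 := wsym v'' v'
    have e10 := wsym v''' v''
    rw [hl.2.1, hR0.2.2.2.1] at e0
    rw [hcl, hc] at e4
    rw [hck2s, hck2] at e5
    rw [hcv', hcv] at e6
    rw [hck1s, hck1] at e7
    rw [hcv'v, hcvv'] at e8
    rw [hc1', hc1] at e9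
    rw [hc2', hc2] at e10
    intro i
    fin_cases i <;> simp <;> linarith

end

end Groth.Agent.Lib.Helper26.NTC
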