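import Groth.Agent.Lib.Helper26.NTC15

set_option autoImplicit false
open Finset Models

namespace Groth.Agent.Lib.Helper26.NTC

variable {n : ℕ} {T : NumericalType n}

theorem two_mul_le {c x : ℤ} (hc : 2 ≤ c) (hx : 0 ≤ x) : 2 * x ≤ c * x :=
  mul_le_mul_of_nonneg_right hc hx

theorem le_mul_of_pos' {c x : ℤ} (hc : 0 < c) (hx : 0 ≤ x) : x ≤ c * x := by
  have : 1 * x ≤ c * x := mul_le_mul_of_nonneg_right (by omega) hx
  linarith

section

variable (h2 : AllTwo T) {q : ℕ → Fin n} {r : ℕ} (ha : Arm T q r)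
include h2 ha

/-- the `(0, 2 μ)` case: the child `k1` is a leaf -/
theorem Arm.tail (hc : cc T (q r) (q (r - 1)) = 1) {k1 k2 : Fin n}
    (hk1s : k1 ≠ q r) (hk1p : k1 ≠ q (r - 1)) (hck1 : cc T (q r) k1 = 1) (hk2s : k2 ≠ q r)
    (hk2p : k2 ≠ q (r - 1)) (hk2k : k2 ≠ k1) (hck2 : cc T (q r) k2 = 1)
    (hck1s : cc T k1 (q r) = 1) (hck2s : cc T k2 (q r) = 1)
    (hnbs : NbrsIn T (q r) [q (r - 1), k1, k2])
    (hsum : T.m k1 + T.m k2 = T.m (q r) + T.m (q 0)) (h1 : 2 * T.m k1 = T.m (q r)) :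
    IsType T 8 dE7 (fun _ => 1) (Cof NE7) ∨ IsType T 9 dE8 (fun _ => 1) (Cof NE8) := by
  obtain ⟨hM, hMp⟩ := ha.m_last h2
  have hμ := ha.mu_pos h2
  have hMr : T.m (q r) = ((r : ℤ) + 1) * T.m (q 0) := ha.m_eq r le_rfl
  have hr2 := ha.two_le
  obtain ⟨μ, hμ'⟩ : ∃ μ, μ = T.m (q 0) := ⟨_, rfl⟩
  rw [← hμ'] at hM hMp hμ hMr hsum
  have hM3 : 3 * μ ≤ T.m (q r) := by linarith
  have hmk2 : 2 * T.m k2 = T.m (q r) + 2 * μ := by linarith
  have hnbk1 : NbrsIn T k1 [q r] := nbrsIn_one h2 hk1s.symm (by rw [hck1s, one_mul]; linarith)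
  -- the child `v` of `k2`
  obtain ⟨v, hvk2, hvs, hcv, hrow⟩ := child_one h2 hk2s.symm (by rw [hck2s, one_mul]; linarith)
  obtain ⟨hcvk, hb1, hb2⟩ := back h2 hvk2 hcv
  rw [hck2s, one_mul] at hrow
  have hmvpos := T.m_pos v
  have hcv1 : cc T k2 v = 1 := by
    by_contra hne
    have : 2 ≤ cc T k2 v := by omega
    linarith [two_mul_le this hmvpos.le]
  rw [hcv1, one_mul] at hrow
  have hcvk1 : cc T v k2 = 1 := by
    by_contra hne
    have : 2 ≤ cc T v k2 := by omega
    linarith [two_mul_le this (T.m_pos k2).le]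
  rw [hcvk1, one_mul] at hb1
  have hmv : T.m v = 2 * μ := by
    by_contra hne
    have hlt : T.m v < 2 * μ := by
      rcases lt_or_gt_of_ne hne with h | h
      · exact h
      · linarith
    obtain ⟨v2, hv2k, hv2s, hv2v, hcv2, hrow2⟩ := child_two h2 hk2s.symm hvk2 hvs.symm (by
      rw [hck2s, hcv1]; linarith)
    obtain ⟨-, -, hb⟩ := back h2 hv2k hcv2
    rw [hck2s, hcv1] at hrow2
    have : T.m v2 ≤ cc T k2 v2 * T.m v2 := le_mul_of_pos' hcv2 (T.m_pos v2).le
    linarith
  have hnbk2 : NbrsIn T k2 [q r, v] := nbrsIn_two h2 hk2s.symm hvk2 hvs.symm (by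
    rw [hck2s, hcv1, hmv]; linarith)
  rw [hmv] at hb1
  rcases eq_or_lt_of_le hb1 with h4 | h4
  · -- `m k2 = 4 μ`, `r = 5`
    right
    have h4' : T.m k2 = 4 * μ := by linarith
    have hMs : T.m (q r) = 6 * μ := by linarith
    have hr : r = 5 := by
      rw [hMs] at hMr
      have : ((r : ℤ) - 5) * μ = 0 := by linarith
      rcases mul_eq_zero.1 this with h | h
      · omega
      · omega
    have hnbv : NbrsIn T v [k2] := nbrsIn_one h2 hvk2.symm (by rw [hcvk1, h4', hmv]; ring)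
    exact ha.e8_long h2 hr hc hk1s hk1p hck1 hk2s hk2p hk2k hck2 hck1s hck2s hnbs hnbk1 hvk2 hvs hcv1
      hcvk1 hnbk2 hnbv (by rw [← hμ']; linarith) (by rw [← hμ']; exact h4') (by rw [← hμ']; exact hmv)
  · -- `m k2 < 4 μ`: a child `v'` of `v`
    obtain ⟨v', hv'v, hv'k, hcv', hrow'⟩ := child_one h2 hvk2.symm (by rw [hcvk1, hmv]; linarith)
    obtain ⟨hcv'v, hb1', hb2'⟩ := back h2 hv'v hcv'
    rw [hcvk1, one_mul, hmv] at hrow'
    rw [hmv] at hb1' hb2'
    have hmv'pos := T.m_pos v'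
    have hmv'ge : μ ≤ T.m v' := by linarith
    have hle : T.m v' ≤ cc T v v' * T.m v' := le_mul_of_pos' hcv' hmv'pos.le
    have hM4 : T.m (q r) ≤ 4 * μ := by linarith
    have hr23 : r = 2 ∨ r = 3 := by
      have : r + 1 ≤ 4 := by
        by_contra hcon
        have : (5 : ℤ) ≤ (r : ℤ) + 1 := by omega
        linarith [mul_le_mul_of_nonneg_right this hμ.le]
      omega
    rcases hr23 with hr | hr
    · -- `r = 2`
      right
      have hMs : T.m (q r) = 3 * μ := by rw [hMr, hr]; push_cast; ring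
      obtain ⟨ν, hν⟩ : ∃ ν, ν = T.m k1 - μ := ⟨_, rfl⟩
      have hμν : μ = 2 * ν := by linarith
      have hνpos : 0 < ν := by linarith
      have hmk1 : T.m k1 = 3 * ν := by linarith
      have hmk2' : T.m k2 = 5 * ν := by linarith
      have hmv4 : T.m v = 4 * ν := by linarith
      rw [hmk2', hμν] at hrow'
      rw [hμν] at hb1' hb2'
      have hcvv'1 : cc T v v' = 1 := by
        by_contra hne
        have : 2 ≤ cc T v v' := by omega
        linarith [two_mul_le this hmv'pos.le]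
      have hcv'v1 : cc T v' v = 1 := by
        by_contra hne
        have : 2 ≤ cc T v' v := by omega
        linarith [two_mul_le this (show (0 : ℤ) ≤ 2 * (2 * ν) by linarith)]
      rw [hcvv'1, one_mul] at hrow'
      have hmv' : T.m v' = 3 * ν := by
        by_contra hne
        have hlt : T.m v' < 3 * ν := by
          rcases lt_or_gt_of_ne hne with h | h
          · exact h
          · linarith
        obtain ⟨v2, hv2v, hv2k, hv2v', hcv2, hrow2⟩ := child_two h2 hvk2.symm hv'v hv'k.symm (by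
          rw [hcvk1, hcvv'1, hmk2', hmv4]; linarith)
        obtain ⟨-, -, hb⟩ := back h2 hv2v hcv2
        rw [hcvk1, hcvv'1, hmk2', hmv4] at hrow2
        rw [hmv4] at hb
        have : T.m v2 ≤ cc T v v2 * T.m v2 := le_mul_of_pos' hcv2 (T.m_pos v2).le
        linarith
      have hnbv : NbrsIn T v [k2, v'] := nbrsIn_two h2 hvk2.symm hv'v hv'k.symm (by
        rw [hcvk1, hcvv'1, hmk2', hmv4, hmv']; ring)
      -- the child `v''` of `v'`
      obtain ⟨v'', hv''v', hv''v, hc1, hrow1⟩ := child_one h2 hv'v.symm (by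
        rw [hcv'v1, hmv4, hmv']; linarith)
      obtain ⟨hc1', hbb1, hbb2⟩ := back h2 hv''v' hc1
      rw [hcv'v1, hmv4, hmv'] at hrow1
      rw [hmv'] at hbb1 hbb2
      have hmv''pos := T.m_pos v''
      have hc11 : cc T v' v'' = 1 := by
        by_contra hne
        have : 2 ≤ cc T v' v'' := by omega
        linarith [two_mul_le this hmv''pos.le]
      rw [hc11, one_mul] at hrow1
      have hc1'1 : cc T v'' v' = 1 := by
        by_contra hne
        have : 2 ≤ cc T v'' v' := by omega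
        linarith [two_mul_le this (show (0 : ℤ) ≤ 3 * ν by linarith)]
      have hmv'' : T.m v'' = 2 * ν := by
        by_contra hne
        have hlt : T.m v'' < 2 * ν := by
          rcases lt_or_gt_of_ne hne with h | h
          · exact h
          · linarith
        obtain ⟨v3, hv3v', hv3v, hv3v'', hcv3, hrow3⟩ := child_two h2 hv'v.symm hv''v' hv''v.symm (by
          rw [hcv'v1, hc11, hmv4, hmv']; linarith)
        obtain ⟨-, -, hb⟩ := back h2 hv3v' hcv3
        rw [hcv'v1, hc11, hmv4, hmv'] at hrow3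
        rw [hmv'] at hb
        have : T.m v3 ≤ cc T v' v3 * T.m v3 := le_mul_of_pos' hcv3 (T.m_pos v3).le
        linarith
      have hnbv' : NbrsIn T v' [v, v''] := nbrsIn_two h2 hv'v.symm hv''v' hv''v.symm (by
        rw [hcv'v1, hc11, hmv4, hmv', hmv'']; ring)
      -- the child `v'''` of `v''`
      obtain ⟨v''', hv'''v'', hv'''v', hc2, hrow2⟩ := child_one h2 hv''v'.symm (by
        rw [hc1'1, hmv', hmv'']; linarith)
      obtain ⟨hc2', hbc1, hbc2⟩ := back h2 hv'''v'' hc2
      rw [hc1'1, hmv', hmv''] at hrow2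
      rw [hmv''] at hbc1 hbc2
      have hmv'''pos := T.m_pos v'''
      have hc21 : cc T v'' v''' = 1 := by
        by_contra hne
        have : 2 ≤ cc T v'' v''' := by omega
        linarith [two_mul_le this hmv'''pos.le]
      rw [hc21, one_mul] at hrow2
      have hmv''' : T.m v''' = ν := by linarith
      have hc2'1 : cc T v''' v'' = 1 := by
        by_contra hne
        have : 2 ≤ cc T v''' v'' := by omega
        linarith [two_mul_le this (show (0 : ℤ) ≤ 2 * ν by linarith)]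
      have hnbv'' : NbrsIn T v'' [v', v'''] := nbrsIn_two h2 hv''v'.symm hv'''v'' hv'''v'.symm (by
        rw [hc1'1, hc21, hmv', hmv'', hmv''']; ring)
      have hnbv''' : NbrsIn T v''' [v''] := nbrsIn_one h2 hv'''v''.symm (by
        rw [hc2'1, hmv'', hmv''']; ring)
      exact ha.e8_short h2 hr hc (by rw [← hμ']; exact hμν) hk1s hck1 hk2s hk2k hck2 hck1s hck2s hnbs
        hnbk1 hvk2 hvs hcv1 hcvk1 hnbk2 hv'v hcvv'1 hcv'v1 hnbv hv''v' hc11 hc1'1 hnbv' hv'''v'' hc21
        hc2'1 hnbv'' hnbv''' hmk1 hmk2' hmv4 hmv' hmv'' hmv'''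
    · -- `r = 3`
      left
      have hMs : T.m (q r) = 4 * μ := by rw [hMr, hr]; push_cast; ring
      have hmk1 : T.m k1 = 2 * μ := by linarith
      have hmk2' : T.m k2 = 3 * μ := by linarith
      rw [hmk2'] at hrow'
      have hcvv'1 : cc T v v' = 1 := by
        by_contra hne
        have : 2 ≤ cc T v v' := by omega
        linarith [two_mul_le this hmv'pos.le]
      rw [hcvv'1, one_mul] at hrow'
      have hmv' : T.m v' = μ := by linarith
      have hcv'v1 : cc T v' v = 1 := by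
        by_contra hne
        have : 2 ≤ cc T v' v := by omega
        linarith [two_mul_le this (show (0 : ℤ) ≤ 2 * μ by linarith)]
      have hnbv : NbrsIn T v [k2, v'] := nbrsIn_two h2 hvk2.symm hv'v hv'k.symm (by
        rw [hcvk1, hcvv'1, hmk2', hmv, hmv']; ring)
      have hnbv' : NbrsIn T v' [v] := nbrsIn_one h2 hv'v.symm (by rw [hcv'v1, hmv, hmv']; ring)
      exact ha.e7 h2 hr hc hk1s hck1 hk2s hk2p hk2k hck2 hck1s hck2s hnbs hnbk1 hvk2 hvs hcv1 hcvk1
        hnbk2 hv'v hcvv'1 hcv'v1 hnbv hnbv' (by rw [← hμ']; exact hmk1) (by rw [← hμ']; exact hmk2')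
        (by rw [← hμ']; exact hmv) (by rw [← hμ']; exact hmv')

end

end Groth.Agent.Lib.Helper26.NTC
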