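import Groth.Agent.Lib.Helper26.NTC16

set_option autoImplicit false
open Finset Models

namespace Groth.Agent.Lib.Helper26.NTC

variable {n : ℕ} {T : NumericalType n}

variable (T) in
/-- the five exceptional types -/
def Exceptional : Prop :=
  IsType T 5 dF4a wF4a CF4a ∨ IsType T 5 dF4b wF4b CF4b ∨ IsType T 7 dE6 (fun _ => 1) (Cof NE6) ∨
    IsType T 8 dE7 (fun _ => 1) (Cof NE7) ∨ IsType T 9 dE8 (fun _ => 1) (Cof NE8)

section

variable (h2 : AllTwo T) {q : ℕ → Fin n} {r : ℕ} (ha : Arm T q r)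
include h2 ha

/-- the branch `cc (q r) (q (r-1)) = 1` -/
theorem Arm.branch_c1 (hc : cc T (q r) (q (r - 1)) = 1) : Exceptional T := by
  obtain ⟨hM, hMp⟩ := ha.m_last h2
  have hμ := ha.mu_pos h2
  have hadj := ha.adj_last h2
  obtain ⟨k1, hk1s, hk1p, hck1, hrow⟩ := child_one h2 hadj.1 (by rw [hc, one_mul]; linarith)
  by_cases hck1' : 2 ≤ cc T (q r) k1
  · exact Or.inr (Or.inl (ha.branch_c1_double h2 hc hk1s hk1p hck1' hrow))
  have hck11 : cc T (q r) k1 = 1 := by omega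
  obtain ⟨k2, hk2s, hk2p, hk2k, hck2, hck1s, hck2s, hnbs, hsum⟩ :=
    ha.three_nbrs h2 hc hk1s hk1p hck11
  obtain ⟨-, -, hb1⟩ := back h2 hk1s hck1
  obtain ⟨-, -, hb2⟩ := back h2 hk2s (by rw [hck2]; norm_num)
  rcases eq_or_lt_of_le hb1 with e1 | l1
  · -- `k1` is a leaf
    rcases ha.tail h2 hc hk1s hk1p hck11 hk2s hk2p hk2k hck2 hck1s hck2s hnbs hsum e1.symm with h | h
    · exact Or.inr (Or.inr (Or.inr (Or.inl h)))
    · exact Or.inr (Or.inr (Or.inr (Or.inr h)))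
  rcases eq_or_lt_of_le hb2 with e2 | l2
  · -- `k2` is a leaf
    have hnbs' : NbrsIn T (q r) [q (r - 1), k2, k1] := hnbs.mono (by
      intro x hx
      simp only [List.mem_cons, List.not_mem_nil, or_false] at hx ⊢
      tauto)
    rcases ha.tail h2 hc hk2s hk2p hck2 hk1s hk1p hk2k.symm hck11 hck2s hck1s hnbs'
      (by linarith) e2.symm with h | h
    · exact Or.inr (Or.inr (Or.inr (Or.inl h)))
    · exact Or.inr (Or.inr (Or.inr (Or.inr h)))
  -- both remainders positive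
  have g1 := ha.rem_ge h2 hk1s hck1s l1
  have g2 := ha.rem_ge h2 hk2s hck2s l2
  have f1 : 2 * T.m k1 = T.m (q r) + T.m (q 0) := by linarith
  have f2 : 2 * T.m k2 = T.m (q r) + T.m (q 0) := by linarith
  have hM3 : T.m (q r) ≤ 3 * T.m (q 0) := by
    obtain ⟨u, huk, hus, hcu, hrow'⟩ := child_one h2 hk1s.symm (by rw [hck1s, one_mul]; exact l1)
    obtain ⟨-, -, hb⟩ := back h2 huk hcu
    rw [hck1s, one_mul] at hrow'
    have := le_mul_of_pos' hcu (T.m_pos u).le
    linarith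
  exact Or.inr (Or.inr (Or.inl (ha.e6 h2 hc hk1s hk1p hck11 hk2s hk2p hk2k hck2 hck1s hck2s hnbs
    f1 f2 hM3)))

end

/-- **Case 1**: if `xf` is not subharmonic the type is exceptional. -/
theorem case1 (h2 : AllTwo T) (hn : 4 ≤ n) (hnb : ¬ NoBad T) : Exceptional T := by
  obtain ⟨l, v, j, hl, hv⟩ := exists_bad h2 (by omega) hnb
  obtain ⟨q, r, ha⟩ := exists_arm h2 hl hv
  have hpos := (ha.adj_last h2).symm.pos
  have hle := ha.cc_le_two h2 hn
  have hc : cc T (q r) (q (r - 1)) = 1 ∨ cc T (q r) (q (r - 1)) = 2 := by omega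
  rcases hc with hc | hc
  · exact ha.branch_c1 h2 hc
  · rcases ha.branch_c2 h2 hc with h | h
    · exact Or.inl h
    · exact Or.inr (Or.inl h)

end Groth.Agent.Lib.Helper26.NTC
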