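import Groth.Agent.Lib.Helper26.NTC17

/-!
# The classification of minimal numerical types of genus one on at least four indices
-/

set_option autoImplicit false
open Finset Models

namespace Groth.Agent.Lib.Helper26.NTC

variable {n : ℕ} {T : NumericalType n}

theorem IsType.card {k : ℕ} {d ω : Fin k → ℤ} {C : Fin k → Fin k → ℤ} (h : IsType T k d ω C) :
    n = k := by
  obtain ⟨e, -, -, he, -⟩ := h
  have := Fintype.card_of_bijective he
  simpa using this.symm

variable (T) in
/-- `v` is the centre of a star of simple leaves -/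
def IsStar (v : Fin n) : Prop :=
  xf T v = 2 ∧ (∀ u, u ≠ v → cc T v u ≠ 0 → xf T u = 1) ∧ degc T v = 4

/-- in a star every other index is a simple leaf attached to the centre -/
theorem IsStar.isLeaf {v : Fin n} (h : IsStar T v) (u : Fin n) (hu : u ≠ v) : IsLeaf T u v := by
  classical
  have hD : (univ.filter (fun u => u = v ∨ cc T v u ≠ 0)) = univ := by
    refine eq_univ_of_closed (T := T) _ ⟨v, by simp⟩ (fun i hi j hji hij => ?_)
    simp only [Finset.mem_filter, mem_univ, true_and] at hi ⊢
    by_cases hiv : i = v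
    · subst hiv; exact Or.inr hij
    · rcases hi with hi | hi
      · exact absurd hi hiv
      · have hl := isLeaf_of_xf (h.2.1 i hiv hi) hiv hi
        left
        exact hl.eq_of_adj ⟨hji.symm, hij⟩
  have : u ∈ univ.filter (fun u => u = v ∨ cc T v u ≠ 0) := by rw [hD]; exact mem_univ _
  simp only [Finset.mem_filter, mem_univ, true_and] at this
  rcases this with h' | h'
  · exact absurd h' hu
  · exact isLeaf_of_xf (h.2.1 u hu h') hu h'

theorem IsStar.cc_pos {v : Fin n} (h : IsStar T v) (u : Fin n) (hu : u ≠ v) : 1 ≤ cc T v u := by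
  have hl := h.isLeaf u hu
  have := cc_symm_pos T hu (by rw [hl.2.1]; norm_num)
  omega

theorem IsStar.card_le {v : Fin n} (h : IsStar T v) : n ≤ 5 := by
  have h4 := h.2.2
  unfold degc at h4
  have : ∑ u ∈ univ.erase v, (1 : ℤ) ≤ ∑ u ∈ univ.erase v, cc T v u :=
    Finset.sum_le_sum (fun u hu => h.cc_pos u (Finset.ne_of_mem_erase hu))
  rw [h4, Finset.sum_const, Finset.card_erase_of_mem (mem_univ v), Finset.card_univ,
    Fintype.card_fin] at this
  simp at this
  omega

/-- **Classification.** -/
theorem classify (hn : 4 ≤ n) (hmin : T.IsMinimal) (hg : T.genus = 1) :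
    (∀ i, T.g i = 0) ∧ AllTwo T ∧ (Fams' T ∨ Exceptional T ∨ ∃ v, IsStar T v) := by
  have hmt := NumType.isMinusTwo_of_isMinimal_of_genus_one T (by omega) hmin hg
  have h2 : AllTwo T := fun i => (hmt i).2
  refine ⟨fun i => (hmt i).1, h2, ?_⟩
  by_cases hnb : NoBad T
  · rcases case2_fams h2 (by omega) hnb with h | ⟨v, hv⟩
    · exact Or.inl h
    · exact Or.inr (Or.inr ⟨v, hv⟩)
  · exact Or.inr (Or.inl (case1 h2 hn hnb))

end Groth.Agent.Lib.Helper26.NTC
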