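import Groth.Agent.Lib.Helper26.NTC18

/-!
# Stars of simple leaves (the types on four and five indices with a centre)
-/

set_option autoImplicit false
open Finset Models

namespace Groth.Agent.Lib.Helper26.NTC

variable {n : ℕ} {T : NumericalType n}

theorem IsStar.m_eq (h2 : AllTwo T) {v : Fin n} (h : IsStar T v) (u : Fin n) (hu : u ≠ v) :
    T.m v = 2 * T.m u := (h.isLeaf u hu).m_eq h2

theorem IsStar.w_eq {v : Fin n} (h : IsStar T v) (u : Fin n) (hu : u ≠ v) :
    T.w u = cc T v u * T.w v := (h.isLeaf u hu).w_eq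

theorem IsStar.a_eq {v : Fin n} (h : IsStar T v) (u : Fin n) (hu : u ≠ v) :
    T.a v u = cc T v u * T.w v := by
  rw [T.symm.apply]; exact (h.isLeaf u hu).a_eq

theorem IsStar.a_zero {v : Fin n} (h : IsStar T v) (u u' : Fin n) (hu : u ≠ v) (hu' : u' ≠ v)
    (huu : u ≠ u') : T.a u u' = 0 :=
  a_zero_of_cc ((h.isLeaf u hu).2.2 u' huu.symm hu')

/-- on five indices all entries of the star are `1` -/
theorem IsStar.cc_five {T : NumericalType 5} {v : Fin 5} (h : IsStar T v) (u : Fin 5)
    (hu : u ≠ v) : cc T v u = 1 := by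
  have h4 := h.2.2
  unfold degc at h4
  have hsum : ∑ u ∈ univ.erase v, (cc T v u - 1) = 0 := by
    rw [Finset.sum_sub_distrib, h4, Finset.sum_const, Finset.card_erase_of_mem (mem_univ v)]
    simp
  have := (Finset.sum_eq_zero_iff_of_nonneg (fun u hu' => by
    have := h.cc_pos u (Finset.ne_of_mem_erase hu'); omega)).1 hsum u
    (Finset.mem_erase.2 ⟨hu, mem_univ _⟩)
  omega

/-- on four indices one entry of the star is `2`, the others are `1` -/
theorem IsStar.cc_four {T : NumericalType 4} {v : Fin 4} (h : IsStar T v) :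
    ∃ l, l ≠ v ∧ cc T v l = 2 ∧ ∀ u, u ≠ v → u ≠ l → cc T v u = 1 := by
  have h4 := h.2.2
  unfold degc at h4
  have hsum : ∑ u ∈ univ.erase v, (cc T v u - 1) = 1 := by
    rw [Finset.sum_sub_distrib, h4, Finset.sum_const, Finset.card_erase_of_mem (mem_univ v)]
    simp
  obtain ⟨l, hl, hl1, hl0⟩ := sum_one (fun u hu' => by
    have := h.cc_pos u (Finset.ne_of_mem_erase hu'); omega) hsum
  refine ⟨l, Finset.ne_of_mem_erase hl, by omega, fun u hu hul => ?_⟩
  have := hl0 u (Finset.mem_erase.2 ⟨hu, mem_univ _⟩) hul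
  omega

end Groth.Agent.Lib.Helper26.NTC
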