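import Groth.Agent.Lib.Helper26.NTC1

/-!
# Chains of regular indices in a numerical type

An index `v` is *regular* if it has exactly two neighbours, both with Cartan entry `1`.
Following regular indices from an edge `p0 — p1` gives a sequence `ch p0 p1 : ℕ → Fin n`; it is
injective until it returns to `p0` (`ch_injOn`, `ch_core`), and it must leave the regular indices
if `p0` has only one regular neighbour (`exists_stop`).
-/

set_option autoImplicit false
open Finset Models

namespace Groth.Agent.Lib.Helper26.NTC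

variable {n : ℕ} (T : NumericalType n)

/-- adjacency in the dual graph -/
def Adj (i j : Fin n) : Prop := i ≠ j ∧ cc T i j ≠ 0

variable {T}

theorem Adj.symm {i j : Fin n} (h : Adj T i j) : Adj T j i :=
  ⟨h.1.symm, fun h0 => h.2 ((cc_symm_zero T).2 h0)⟩

theorem Adj.pos {i j : Fin n} (h : Adj T i j) : 0 < cc T i j := cc_pos_of_ne T h.1 h.2

theorem not_adj_self (i : Fin n) : ¬ Adj T i i := fun h => h.1 rfl

variable (T)

/-- `v` has exactly the two neighbours `a`, `b`, with Cartan entries `1` -/
def IsReg (v a b : Fin n) : Prop :=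
  a ≠ b ∧ a ≠ v ∧ b ≠ v ∧ cc T v a = 1 ∧ cc T v b = 1 ∧
    ∀ u, u ≠ v → u ≠ a → u ≠ b → cc T v u = 0

/-- regular index -/
def Reg (v : Fin n) : Prop := ∃ a b, IsReg T v a b

variable {T}

theorem IsReg.swap {v a b : Fin n} (h : IsReg T v a b) : IsReg T v b a :=
  ⟨h.1.symm, h.2.2.1, h.2.1, h.2.2.2.2.1, h.2.2.2.1, fun u h1 h2 h3 => h.2.2.2.2.2 u h1 h3 h2⟩

theorem IsReg.adj_left {v a b : Fin n} (h : IsReg T v a b) : Adj T v a :=
  ⟨h.2.1.symm, by rw [h.2.2.2.1]; norm_num⟩

theorem IsReg.adj_right {v a b : Fin n} (h : IsReg T v a b) : Adj T v b := h.swap.adj_left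

theorem IsReg.eq_or_eq {v a b : Fin n} (h : IsReg T v a b) {u : Fin n} (hu : Adj T v u) :
    u = a ∨ u = b := by
  by_contra hcon
  push Not at hcon
  exact hu.2 (h.2.2.2.2.2 u hu.1.symm hcon.1 hcon.2)

variable (T)

open Classical in
/-- the neighbour of `v` other than `a` -/
noncomputable def other (v a : Fin n) : Fin n :=
  if h : ∃ b, b ≠ a ∧ Adj T v b then Classical.choose h else a

variable {T}

theorem other_spec {v a : Fin n} (hv : Reg T v) (ha : Adj T v a) :
    IsReg T v a (other T v a) := by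
  obtain ⟨x, y, hxy⟩ := hv
  have hex : ∃ b, b ≠ a ∧ Adj T v b := by
    rcases hxy.eq_or_eq ha with h | h
    · exact ⟨y, by rw [h]; exact hxy.1.symm, hxy.adj_right⟩
    · exact ⟨x, by rw [h]; exact hxy.1, hxy.adj_left⟩
  have hspec := Classical.choose_spec hex
  have hdef : other T v a = Classical.choose hex := by
    unfold other
    rw [dif_pos hex]
  rw [hdef]
  obtain ⟨b, hb⟩ : ∃ b, b = Classical.choose hex := ⟨_, rfl⟩
  rw [← hb] at hspec ⊢
  rcases hxy.eq_or_eq ha with h | h
  · rcases hxy.eq_or_eq hspec.2 with h' | h'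
    · exact absurd (h'.trans h.symm) hspec.1
    · rw [h, h']; exact hxy
  · rcases hxy.eq_or_eq hspec.2 with h' | h'
    · rw [h, h']; exact hxy.swap
    · exact absurd (h'.trans h.symm) hspec.1

variable (T)

/-- the chain following regular indices from the edge `p0 — p1` -/
noncomputable def ch (p0 p1 : Fin n) : ℕ → Fin n
  | 0 => p0
  | 1 => p1
  | (k + 2) => other T (ch p0 p1 (k + 1)) (ch p0 p1 k)

variable {T}

@[simp] theorem ch_zero (p0 p1 : Fin n) : ch T p0 p1 0 = p0 := rfl
@[simp] theorem ch_one (p0 p1 : Fin n) : ch T p0 p1 1 = p1 := rfl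
theorem ch_succ_succ (p0 p1 : Fin n) (k : ℕ) :
    ch T p0 p1 (k + 2) = other T (ch T p0 p1 (k + 1)) (ch T p0 p1 k) := rfl

section chain

variable {p0 p1 : Fin n} {r : ℕ} (h01 : Adj T p0 p1)
  (hreg : ∀ k, 1 ≤ k → k < r → Reg T (ch T p0 p1 k))

include h01 hreg

/-- consecutive members are adjacent -/
theorem ch_adj : ∀ k, k < r → Adj T (ch T p0 p1 k) (ch T p0 p1 (k + 1)) := by
  intro k
  induction k with
  | zero => intro _; exact h01
  | succ k ih =>
    intro hk
    have h1 := ih (by omega)
    have h2 := other_spec (hreg (k + 1) (by omega) hk) h1.symm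
    rw [ch_succ_succ]
    exact h2.adj_right

/-- the regular structure along the chain -/
theorem ch_isReg (k : ℕ) (hk : k + 1 < r) :
    IsReg T (ch T p0 p1 (k + 1)) (ch T p0 p1 k) (ch T p0 p1 (k + 2)) := by
  have h1 := ch_adj h01 hreg k (by omega)
  exact other_spec (hreg (k + 1) (by omega) hk) h1.symm

theorem ch_ne2 (k : ℕ) (hk : k + 1 < r) : ch T p0 p1 (k + 2) ≠ ch T p0 p1 k :=
  (ch_isReg h01 hreg k hk).1.symm

/-- first-return core: a repetition in the chain can only hit the start -/
theorem ch_core (i j : ℕ) (hij : i < j) (hj : j ≤ r)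
    (hinj : ∀ a b, a < j → b < j → ch T p0 p1 a = ch T p0 p1 b → a = b)
    (heq : ch T p0 p1 i = ch T p0 p1 j) : i = 0 := by
  by_contra hi
  obtain ⟨i', rfl⟩ : ∃ i', i = i' + 1 := ⟨i - 1, by omega⟩
  obtain ⟨j', rfl⟩ : ∃ j', j = j' + 1 := ⟨j - 1, by omega⟩
  have hr1 := ch_isReg h01 hreg i' (by omega)
  have hadj := ch_adj h01 hreg j' (by omega)
  rw [← heq] at hadj
  have hjne : j' ≠ i' + 1 := by
    intro h
    rw [h] at hadj
    exact not_adj_self _ hadj
  rcases hr1.eq_or_eq hadj.symm with h | h
  · have := hinj j' i' (by omega) (by omega) h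
    omega
  · have := hinj j' (i' + 2) (by omega) (by omega) h
    have h3 : j' + 1 = i' + 3 := by omega
    have h4 : ch T p0 p1 (i' + 1) = ch T p0 p1 (i' + 3) := by rw [heq, h3]
    exact ch_ne2 h01 hreg (i' + 1) (by omega) h4.symm

/-- the chain is injective if `p0` has `p1` as its only regular neighbour -/
theorem ch_injOn (hp0 : ∀ u, Reg T u → Adj T u p0 → u = p1) :
    ∀ j, j ≤ r → ∀ a b, a ≤ j → b ≤ j → ch T p0 p1 a = ch T p0 p1 b → a = b := by
  intro j
  induction j with
  | zero => intro _ a b ha hb _; omega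
  | succ j ih =>
    intro hj
    have ih' := ih (by omega)
    have key : ∀ i, i ≤ j → ch T p0 p1 i ≠ ch T p0 p1 (j + 1) := by
      intro i hi heq
      have hi0 := ch_core h01 hreg i (j + 1) (by omega) hj
        (fun a b ha hb => ih' a b (by omega) (by omega)) heq
      subst hi0
      have hadj := ch_adj h01 hreg j (by omega)
      rw [← heq, ch_zero] at hadj
      rcases Nat.eq_zero_or_pos j with hj0 | hj0
      · subst hj0
        exact not_adj_self _ hadj
      · have h1 := hp0 _ (hreg j hj0 (by omega)) hadj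
        have h2 : j = 1 := ih' j 1 le_rfl hj0 (by rw [h1, ch_one])
        subst h2
        exact ch_ne2 h01 hreg 0 (by omega) heq.symm
    intro a b ha hb hab
    rcases Nat.lt_or_ge a (j + 1) with ha' | ha'
    · rcases Nat.lt_or_ge b (j + 1) with hb' | hb'
      · exact ih' a b (by omega) (by omega) hab
      · have : b = j + 1 := by omega
        subst this
        exact absurd hab (key a (by omega))
    · have : a = j + 1 := by omega
      subst this
      rcases Nat.lt_or_ge b (j + 1) with hb' | hb'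
      · exact absurd hab.symm (key b (by omega))
      · omega

end chain

/-- the chain leaves the regular indices -/
theorem exists_stop {p0 p1 : Fin n} (h01 : Adj T p0 p1)
    (hp0 : ∀ u, Reg T u → Adj T u p0 → u = p1) :
    ∃ r, 1 ≤ r ∧ ¬ Reg T (ch T p0 p1 r) ∧ ∀ k, 1 ≤ k → k < r → Reg T (ch T p0 p1 k) := by
  classical
  by_cases hex : ∃ r, 1 ≤ r ∧ ¬ Reg T (ch T p0 p1 r)
  · refine ⟨Nat.find hex, (Nat.find_spec hex).1, (Nat.find_spec hex).2, fun k hk1 hk => ?_⟩
    by_contra hcon
    exact Nat.find_min hex hk ⟨hk1, hcon⟩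
  · exfalso
    push Not at hex
    have hreg : ∀ k, 1 ≤ k → k < n + 1 → Reg T (ch T p0 p1 k) := fun k hk _ => hex k hk
    have hinj := ch_injOn h01 hreg hp0 n (by omega)
    have : Fintype.card (Fin (n + 1)) ≤ Fintype.card (Fin n) :=
      Fintype.card_le_of_injective (fun i : Fin (n + 1) => ch T p0 p1 i.val) (by
        intro a b hab
        exact Fin.ext (hinj a.val b.val (by omega) (by omega) hab))
    simp at this

/-- if all indices are regular, the chain returns to its start after visiting everything -/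
theorem exists_return {p0 p1 : Fin n} (h01 : Adj T p0 p1) (hall : ∀ v, Reg T v) :
    ∃ r, 2 ≤ r ∧ ch T p0 p1 r = p0 ∧
      (∀ a b, a < r → b < r → ch T p0 p1 a = ch T p0 p1 b → a = b) := by
  classical
  have hreg : ∀ r k, 1 ≤ k → k < r → Reg T (ch T p0 p1 k) := fun r k _ _ => hall _
  -- there is a repetition
  have hex : ∃ j, ∃ i, i < j ∧ ch T p0 p1 i = ch T p0 p1 j := by
    by_contra hcon
    push Not at hcon
    have : Fintype.card (Fin (n + 1)) ≤ Fintype.card (Fin n) :=
      Fintype.card_le_of_injective (fun i : Fin (n + 1) => ch T p0 p1 i.val) (by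
        intro a b hab
        by_contra hne
        rcases Nat.lt_or_gt_of_ne (fun h => hne (Fin.ext h)) with h | h
        · exact hcon b.val a.val h hab
        · exact hcon a.val b.val h hab.symm)
    simp at this
  obtain ⟨i, hij, heq⟩ := Nat.find_spec hex
  set j := Nat.find hex with hj
  have hinj : ∀ a b, a < j → b < j → ch T p0 p1 a = ch T p0 p1 b → a = b := by
    intro a b ha hb hab
    by_contra hne
    rcases Nat.lt_or_gt_of_ne hne with h | h
    · exact Nat.find_min hex hb ⟨a, h, hab⟩
    · exact Nat.find_min hex ha ⟨b, h, hab.symm⟩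
  have hi0 := ch_core h01 (hreg j) i j hij le_rfl hinj heq
  subst hi0
  refine ⟨j, ?_, heq.symm, hinj⟩
  by_contra hlt
  have hj1 : j = 1 := by omega
  rw [hj1, ch_zero, ch_one] at heq
  exact h01.1 heq

end Groth.Agent.Lib.Helper26.NTC
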