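import Groth.Agent.Lib.Helper26.NTC2

/-!
# Local profiles of a numerical type of `(-2)`-indices

`degc v` is the weighted degree, `xf v` is `1` on simple leaves (`degc v = 1`) and `2` elsewhere.
If `xf` is subharmonic (`NoBad`), it is harmonic and proportional to `m`, and every non-leaf index
has one of five local profiles (`profile`).
-/

set_option autoImplicit false
open Finset Models

namespace Groth.Agent.Lib.Helper26.NTC

section sums

variable {ι : Type*} [DecidableEq ι]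

theorem sum_zero_all {S : Finset ι} {f : ι → ℤ} (hf : ∀ u ∈ S, 0 ≤ f u) (h : ∑ u ∈ S, f u = 0) :
    ∀ u ∈ S, f u = 0 := (Finset.sum_eq_zero_iff_of_nonneg hf).1 h

theorem peel {S : Finset ι} {f : ι → ℤ} (hf : ∀ u ∈ S, 0 ≤ f u) {d : ℤ} (hd : 0 < d)
    (h : ∑ u ∈ S, f u = d) : ∃ u ∈ S, 0 < f u ∧ ∑ u' ∈ S.erase u, f u' = d - f u := by
  by_contra hcon
  push Not at hcon
  have h0 : ∀ u ∈ S, f u = 0 := by
    intro u hu
    by_contra hne
    have hpos : 0 < f u := lt_of_le_of_ne (hf u hu) (Ne.symm hne)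
    apply hcon u hu hpos
    rw [← h, ← Finset.add_sum_erase S f hu]; ring
  rw [Finset.sum_eq_zero h0] at h
  omega

theorem sum_one {S : Finset ι} {f : ι → ℤ} (hf : ∀ u ∈ S, 0 ≤ f u) (h : ∑ u ∈ S, f u = 1) :
    ∃ u ∈ S, f u = 1 ∧ ∀ u' ∈ S, u' ≠ u → f u' = 0 := by
  obtain ⟨u, hu, hpos, hrest⟩ := peel hf one_pos h
  have hf' : ∀ u' ∈ S.erase u, 0 ≤ f u' := fun u' hu' => hf u' (Finset.mem_of_mem_erase hu')
  have hnn := Finset.sum_nonneg hf'
  have h1 : f u = 1 := by omega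
  refine ⟨u, hu, h1, fun u' hu' hne => ?_⟩
  rw [h1, sub_self] at hrest
  exact sum_zero_all hf' hrest u' (Finset.mem_erase.2 ⟨hne, hu'⟩)

theorem sum_two {S : Finset ι} {f : ι → ℤ} (hf : ∀ u ∈ S, 0 ≤ f u) (h : ∑ u ∈ S, f u = 2) :
    (∃ u ∈ S, f u = 2 ∧ ∀ u' ∈ S, u' ≠ u → f u' = 0) ∨
    (∃ u ∈ S, ∃ v ∈ S, u ≠ v ∧ f u = 1 ∧ f v = 1 ∧ ∀ u' ∈ S, u' ≠ u → u' ≠ v → f u' = 0) := by
  obtain ⟨u, hu, hpos, hrest⟩ := peel hf two_pos h
  have hf' : ∀ u' ∈ S.erase u, 0 ≤ f u' := fun u' hu' => hf u' (Finset.mem_of_mem_erase hu')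
  have hnn := Finset.sum_nonneg hf'
  have h1 : f u = 1 ∨ f u = 2 := by omega
  rcases h1 with h1 | h1
  · right
    rw [h1] at hrest
    obtain ⟨v, hv, hv1, hv0⟩ := sum_one hf' (by rw [hrest]; norm_num)
    refine ⟨u, hu, v, Finset.mem_of_mem_erase hv, (Finset.ne_of_mem_erase hv).symm, h1, hv1,
      fun u' hu' hne1 hne2 => hv0 u' (Finset.mem_erase.2 ⟨hne1, hu'⟩) hne2⟩
  · left
    refine ⟨u, hu, h1, fun u' hu' hne => ?_⟩
    rw [h1, sub_self] at hrest
    exact sum_zero_all hf' hrest u' (Finset.mem_erase.2 ⟨hne, hu'⟩)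

end sums

variable {n : ℕ} (T : NumericalType n)

/-- weighted degree -/
def degc (v : Fin n) : ℤ := ∑ u ∈ univ.erase v, cc T v u

/-- test function: `1` on simple leaves, `2` elsewhere -/
def xf (v : Fin n) : ℤ := if degc T v = 1 then 1 else 2

/-- `v` is a simple leaf attached to `u` -/
def IsLeaf (v u : Fin n) : Prop := u ≠ v ∧ cc T v u = 1 ∧ ∀ u', u' ≠ v → u' ≠ u → cc T v u' = 0

variable {T}

theorem xf_pos (v : Fin n) : 0 < xf T v := by unfold xf; split_ifs <;> norm_num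

theorem xf_eq_one_or (v : Fin n) : xf T v = 1 ∨ xf T v = 2 := by
  unfold xf; split_ifs <;> simp

theorem xf_eq_one_iff (v : Fin n) : xf T v = 1 ↔ degc T v = 1 := by
  unfold xf; split_ifs with h <;> simp [h]

theorem xf_eq_two_iff (v : Fin n) : xf T v = 2 ↔ degc T v ≠ 1 := by
  unfold xf; split_ifs with h <;> simp [h]

theorem cc_nonneg_erase (v : Fin n) : ∀ u ∈ univ.erase v, 0 ≤ cc T v u :=
  fun u hu => cc_nonneg T (Finset.ne_of_mem_erase hu).symm

theorem exists_isLeaf {v : Fin n} (h : degc T v = 1) : ∃ u, IsLeaf T v u := by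
  obtain ⟨u, hu, h1, h0⟩ := sum_one (cc_nonneg_erase v) h
  exact ⟨u, Finset.ne_of_mem_erase hu, h1, fun u' h1' h2' =>
    h0 u' (Finset.mem_erase.2 ⟨h1', mem_univ _⟩) h2'⟩

theorem IsLeaf.degc {v u : Fin n} (h : IsLeaf T v u) : degc T v = 1 := by
  unfold NTC.degc
  rw [← Finset.add_sum_erase _ _ (Finset.mem_erase.2 ⟨h.1, mem_univ u⟩), h.2.1]
  rw [Finset.sum_eq_zero]
  · norm_num
  · intro u' hu'
    exact h.2.2 u' (Finset.ne_of_mem_erase (Finset.mem_of_mem_erase hu')) (Finset.ne_of_mem_erase hu')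

theorem IsLeaf.adj {v u : Fin n} (h : IsLeaf T v u) : Adj T v u :=
  ⟨h.1.symm, by rw [h.2.1]; norm_num⟩

theorem IsLeaf.eq_of_adj {v u u' : Fin n} (h : IsLeaf T v u) (h' : Adj T v u') : u' = u := by
  by_contra hne
  exact h'.2 (h.2.2 u' h'.1.symm hne)

theorem IsLeaf.m_eq (h2 : AllTwo T) {v u : Fin n} (h : IsLeaf T v u) : T.m u = 2 * T.m v := by
  have := cc_eq_zero_of_row_eq h2 v ∅ (by simp)
  have hrow := row h2 v
  rw [← Finset.add_sum_erase _ _ (Finset.mem_erase.2 ⟨h.1, mem_univ u⟩), h.2.1,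
    Finset.sum_eq_zero] at hrow
  · linarith
  · intro u' hu'
    rw [h.2.2 u' (Finset.ne_of_mem_erase (Finset.mem_of_mem_erase hu')) (Finset.ne_of_mem_erase hu'),
      zero_mul]

theorem degc_pos (hn : 2 ≤ n) (v : Fin n) : 0 < degc T v := by
  classical
  have hne : ({v} : Finset (Fin n)) ≠ univ := by
    intro h
    have := congrArg Finset.card h
    simp at this
    omega
  obtain ⟨i, hi, j, hj, hij⟩ := T.connected {v} ⟨v, by simp⟩ hne
  rw [Finset.mem_singleton] at hi hj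
  subst hi
  have hpos : 0 < cc T i j := cc_pos_of_ne T (Ne.symm hj) (fun h => hij ((cc_eq_zero_iff T).1 h))
  unfold degc
  calc 0 < cc T i j := hpos
    _ ≤ ∑ u ∈ univ.erase i, cc T i u :=
      Finset.single_le_sum (cc_nonneg_erase i) (Finset.mem_erase.2 ⟨hj, mem_univ _⟩)

theorem Reg.degc {v : Fin n} (h : Reg T v) : degc T v = 2 := by
  obtain ⟨a, b, hab, hav, hbv, ha, hb, h0⟩ := h
  unfold NTC.degc
  rw [← Finset.add_sum_erase _ _ (Finset.mem_erase.2 ⟨hav, mem_univ a⟩),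
    ← Finset.add_sum_erase _ _ (Finset.mem_erase.2 ⟨hab.symm, Finset.mem_erase.2 ⟨hbv, mem_univ b⟩⟩),
    ha, hb, Finset.sum_eq_zero]
  · norm_num
  · intro u hu
    have h1 := Finset.ne_of_mem_erase hu
    have h2 := Finset.ne_of_mem_erase (Finset.mem_of_mem_erase hu)
    have h3 := Finset.ne_of_mem_erase (Finset.mem_of_mem_erase (Finset.mem_of_mem_erase hu))
    exact h0 u h3 h2 h1

variable (T)

/-- `xf` is subharmonic -/
def NoBad : Prop := ∀ v, 2 * xf T v ≤ ∑ u ∈ univ.erase v, cc T v u * xf T u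

variable {T}

theorem harm_of_noBad (h2 : AllTwo T) (hn : 0 < n) (h : NoBad T) :
    (∀ i j, xf T i * T.m j = xf T j * T.m i) ∧
      ∀ v, ∑ u ∈ univ.erase v, cc T v u * xf T u = 2 * xf T v :=
  eq_of_subharmonic' h2 (xf T) (fun i => (xf_pos i).le) ⟨⟨0, hn⟩, xf_pos _⟩ (fun i _ => h i)

/-- the five local profiles of a non-leaf index when `xf` is harmonic -/
theorem profile (harm : ∀ v, ∑ u ∈ univ.erase v, cc T v u * xf T u = 2 * xf T v)
    (v : Fin n) (hv : xf T v = 2) :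
    (∃ a b, IsReg T v a b ∧ xf T a = 2 ∧ xf T b = 2) ∨
    (∃ a, a ≠ v ∧ xf T a = 2 ∧ cc T v a = 2 ∧ ∀ u, u ≠ v → u ≠ a → cc T v u = 0) ∨
    (∃ a l1 l2, a ≠ v ∧ l1 ≠ v ∧ l2 ≠ v ∧ l1 ≠ l2 ∧ xf T a = 2 ∧ xf T l1 = 1 ∧ xf T l2 = 1 ∧
      cc T v a = 1 ∧ cc T v l1 = 1 ∧ cc T v l2 = 1 ∧
      ∀ u, u ≠ v → u ≠ a → u ≠ l1 → u ≠ l2 → cc T v u = 0) ∨
    (∃ a l, a ≠ v ∧ l ≠ v ∧ xf T a = 2 ∧ xf T l = 1 ∧ cc T v a = 1 ∧ cc T v l = 2 ∧
      ∀ u, u ≠ v → u ≠ a → u ≠ l → cc T v u = 0) ∨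
    ((∀ u, u ≠ v → cc T v u ≠ 0 → xf T u = 1) ∧ degc T v = 4) := by
  classical
  have hh := harm v
  rw [hv] at hh
  set S := univ.erase v with hS
  set N2 := S.filter (fun u => xf T u = 2) with hN2
  set N1 := S.filter (fun u => xf T u = 1) with hN1
  have hsplit : ∑ u ∈ S, cc T v u * xf T u = 2 * ∑ u ∈ N2, cc T v u + ∑ u ∈ N1, cc T v u := by
    have h1 : ∑ u ∈ S, cc T v u * xf T u =
        ∑ u ∈ N2, cc T v u * xf T u + ∑ u ∈ S.filter (fun u => ¬ xf T u = 2), cc T v u * xf T u :=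
      (Finset.sum_filter_add_sum_filter_not S _ _).symm
    have h2 : S.filter (fun u => ¬ xf T u = 2) = N1 := by
      ext u
      simp only [hN1, Finset.mem_filter, and_congr_right_iff]
      intro _
      rcases xf_eq_one_or (T := T) u with h | h <;> simp [h]
    rw [h1, h2, Finset.mul_sum]
    congr 1
    · refine Finset.sum_congr rfl (fun u hu => ?_)
      rw [(Finset.mem_filter.1 hu).2]; ring
    · refine Finset.sum_congr rfl (fun u hu => ?_)
      rw [(Finset.mem_filter.1 hu).2]; ring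
  have hnn2 : ∀ u ∈ N2, 0 ≤ cc T v u := fun u hu => cc_nonneg_erase v u (Finset.mem_filter.1 hu).1
  have hnn1 : ∀ u ∈ N1, 0 ≤ cc T v u := fun u hu => cc_nonneg_erase v u (Finset.mem_filter.1 hu).1
  have hs2 := Finset.sum_nonneg hnn2
  have hs1 := Finset.sum_nonneg hnn1
  rw [hsplit] at hh
  -- membership helpers
  have hmem : ∀ u, u ≠ v → u ∈ N2 ∨ u ∈ N1 := by
    intro u hu
    rcases xf_eq_one_or (T := T) u with h | h
    · right; exact Finset.mem_filter.2 ⟨Finset.mem_erase.2 ⟨hu, mem_univ _⟩, h⟩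
    · left; exact Finset.mem_filter.2 ⟨Finset.mem_erase.2 ⟨hu, mem_univ _⟩, h⟩
  have hd2 : ∑ u ∈ N2, cc T v u = 0 ∨ ∑ u ∈ N2, cc T v u = 1 ∨ ∑ u ∈ N2, cc T v u = 2 := by omega
  rcases hd2 with hd2 | hd2 | hd2
  · -- star
    right; right; right; right
    have hd1 : ∑ u ∈ N1, cc T v u = 4 := by omega
    have hz := sum_zero_all hnn2 hd2
    refine ⟨fun u hu hne => ?_, ?_⟩
    · rcases hmem u hu with h | h
      · exact absurd (hz u h) hne
      · exact (Finset.mem_filter.1 h).2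
    · unfold degc
      rw [← hS]
      have h1 : ∑ u ∈ S, cc T v u =
          ∑ u ∈ N2, cc T v u + ∑ u ∈ S.filter (fun u => ¬ xf T u = 2), cc T v u :=
        (Finset.sum_filter_add_sum_filter_not S _ _).symm
      have h2 : S.filter (fun u => ¬ xf T u = 2) = N1 := by
        ext u
        simp only [hN1, Finset.mem_filter, and_congr_right_iff]
        intro _
        rcases xf_eq_one_or (T := T) u with h | h <;> simp [h]
      rw [h1, h2, hd2, hd1]; norm_num
  · -- one non-leaf neighbour with entry 1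
    have hd1 : ∑ u ∈ N1, cc T v u = 2 := by omega
    obtain ⟨a, ha, ha1, ha0⟩ := sum_one hnn2 hd2
    have hav : a ≠ v := Finset.ne_of_mem_erase (Finset.mem_filter.1 ha).1
    have hxa : xf T a = 2 := (Finset.mem_filter.1 ha).2
    rcases sum_two hnn1 hd1 with ⟨l, hl, hl2, hl0⟩ | ⟨l1, hl1, l2, hl2, hne, h11, h21, hl0⟩
    · right; right; right; left
      have hlv : l ≠ v := Finset.ne_of_mem_erase (Finset.mem_filter.1 hl).1
      refine ⟨a, l, hav, hlv, hxa, (Finset.mem_filter.1 hl).2, ha1, hl2, fun u hu hua hul => ?_⟩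
      rcases hmem u hu with h | h
      · exact ha0 u h hua
      · exact hl0 u h hul
    · right; right; left
      have hl1v : l1 ≠ v := Finset.ne_of_mem_erase (Finset.mem_filter.1 hl1).1
      have hl2v : l2 ≠ v := Finset.ne_of_mem_erase (Finset.mem_filter.1 hl2).1
      refine ⟨a, l1, l2, hav, hl1v, hl2v, hne, hxa, (Finset.mem_filter.1 hl1).2,
        (Finset.mem_filter.1 hl2).2, ha1, h11, h21, fun u hu hua hu1 hu2 => ?_⟩
      rcases hmem u hu with h | h
      · exact ha0 u h hua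
      · exact hl0 u h hu1 hu2
  · -- no leaf neighbours
    have hd1 : ∑ u ∈ N1, cc T v u = 0 := by omega
    have hz := sum_zero_all hnn1 hd1
    rcases sum_two hnn2 hd2 with ⟨a, ha, ha2, ha0⟩ | ⟨a, ha, b, hb, hne, ha1, hb1, hab0⟩
    · right; left
      have hav : a ≠ v := Finset.ne_of_mem_erase (Finset.mem_filter.1 ha).1
      refine ⟨a, hav, (Finset.mem_filter.1 ha).2, ha2, fun u hu hua => ?_⟩
      rcases hmem u hu with h | h
      · exact ha0 u h hua
      · exact hz u h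
    · left
      have hav : a ≠ v := Finset.ne_of_mem_erase (Finset.mem_filter.1 ha).1
      have hbv : b ≠ v := Finset.ne_of_mem_erase (Finset.mem_filter.1 hb).1
      refine ⟨a, b, ⟨hne, hav, hbv, ha1, hb1, fun u hu hua hub => ?_⟩, (Finset.mem_filter.1 ha).2,
        (Finset.mem_filter.1 hb).2⟩
      rcases hmem u hu with h | h
      · exact hab0 u h hua hub
      · exact hz u h

end Groth.Agent.Lib.Helper26.NTC
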