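import Groth.Agent.Lib.Helper26.NTC3

/-!
# The chain structure of a numerical type of `(-2)`-indices with harmonic `xf`

If `xf` is subharmonic (`NoBad`) then either all indices are regular (a cycle), or some index is
the centre of a star of simple leaves, or the type is a chain `q 0, …, q r` of indices whose
interior is regular and whose two ends carry one of three end structures (`IsEnd`).
-/

set_option autoImplicit false
open Finset Models

namespace Groth.Agent.Lib.Helper26.NTC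

variable {n : ℕ} (T : NumericalType n)

/-- end structure at `v`: apart from `a`, the neighbours of `v` are the simple leaves in `pend`,
which is empty (`cc v a = 2`), one leaf with entry `2`, or two leaves with entries `1`. -/
def IsEnd (v a : Fin n) (pend : List (Fin n)) : Prop :=
  a ≠ v ∧ (∀ u, u ≠ v → u ≠ a → u ∉ pend → cc T v u = 0) ∧ (∀ l ∈ pend, IsLeaf T l v) ∧ a ∉ pend ∧
  ((pend = [] ∧ cc T v a = 2) ∨ (∃ l, pend = [l] ∧ cc T v a = 1 ∧ cc T v l = 2) ∨
   (∃ l1 l2, pend = [l1, l2] ∧ l1 ≠ l2 ∧ cc T v a = 1 ∧ cc T v l1 = 1 ∧ cc T v l2 = 1))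

/-- a chain of indices with regular interior -/
structure IsChain (q : ℕ → Fin n) (r : ℕ) : Prop where
  inj : ∀ a b, a ≤ r → b ≤ r → q a = q b → a = b
  reg : ∀ k, k + 2 ≤ r → IsReg T (q (k + 1)) (q k) (q (k + 2))

variable {T}

theorem IsChain.rev {q : ℕ → Fin n} {r : ℕ} (h : IsChain T q r) :
    IsChain T (fun k => q (r - k)) r := by
  refine ⟨fun a b ha hb hab => ?_, fun k hk => ?_⟩
  · have := h.inj (r - a) (r - b) (by omega) (by omega) hab
    omega
  · have := (h.reg (r - k - 2) (by omega)).swap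
    have e1 : r - k - 2 + 1 = r - (k + 1) := by omega
    have e2 : r - k - 2 + 2 = r - k := by omega
    have e3 : r - k - 2 = r - (k + 2) := by omega
    rw [e1, e2, e3] at this
    exact this

theorem IsEnd.adj {v a : Fin n} {pend : List (Fin n)} (h : IsEnd T v a pend) : Adj T v a := by
  refine ⟨h.1.symm, ?_⟩
  rcases h.2.2.2.2 with ⟨-, h1⟩ | ⟨l, -, h1, -⟩ | ⟨l1, l2, -, -, h1, -⟩ <;> rw [h1] <;> norm_num

theorem IsEnd.eq_or_mem {v a u : Fin n} {pend : List (Fin n)} (h : IsEnd T v a pend)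
    (hu : Adj T v u) : u = a ∨ u ∈ pend := by
  by_contra hcon
  push Not at hcon
  exact hu.2 (h.2.1 u hu.1.symm hcon.1 hcon.2)

theorem Reg.xf_eq {v : Fin n} (h : Reg T v) : xf T v = 2 := by
  rw [xf_eq_two_iff, h.degc]; norm_num

theorem IsLeaf.xf_eq {v u : Fin n} (h : IsLeaf T v u) : xf T v = 1 := by
  rw [xf_eq_one_iff, h.degc]

/-- a leaf neighbour of `v` is a leaf attached to `v` -/
theorem isLeaf_of_xf {v l : Fin n} (hl : xf T l = 1) (hlv : l ≠ v) (h : cc T v l ≠ 0) :
    IsLeaf T l v := by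
  obtain ⟨u, hu⟩ := exists_isLeaf ((xf_eq_one_iff l).1 hl)
  have : Adj T l v := ⟨hlv, fun h0 => h ((cc_symm_zero T).1 h0)⟩
  rw [hu.eq_of_adj this]
  exact hu

section harm

variable (harm : ∀ v, ∑ u ∈ univ.erase v, cc T v u * xf T u = 2 * xf T v)
include harm

/-- neighbours of a regular index are not leaves -/
theorem Reg.xf_nbr {v u : Fin n} (h : Reg T v) (hu : Adj T v u) : NTC.xf T u = 2 := by
  obtain ⟨a, b, hab⟩ := h
  have hh := harm v
  rw [Reg.xf_eq ⟨a, b, hab⟩] at hh
  obtain ⟨hne, hav, hbv, ha, hb, h0⟩ := hab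
  rw [← Finset.add_sum_erase _ _ (Finset.mem_erase.2 ⟨hav, mem_univ a⟩),
    ← Finset.add_sum_erase _ _ (Finset.mem_erase.2 ⟨hne.symm, Finset.mem_erase.2 ⟨hbv, mem_univ b⟩⟩),
    ha, hb, Finset.sum_eq_zero] at hh
  · have h1 := xf_eq_one_or (T := T) a
    have h2 := xf_eq_one_or (T := T) b
    have h3 : NTC.xf T a = 2 ∧ NTC.xf T b = 2 := by omega
    rcases IsReg.eq_or_eq ⟨hne, hav, hbv, ha, hb, h0⟩ hu with h | h
    · rw [h]; exact h3.1
    · rw [h]; exact h3.2
  · intro u hu
    have h1 := Finset.ne_of_mem_erase hu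
    have h2 := Finset.ne_of_mem_erase (Finset.mem_of_mem_erase hu)
    have h3 := Finset.ne_of_mem_erase (Finset.mem_of_mem_erase (Finset.mem_of_mem_erase hu))
    rw [h0 u h3 h2 h1, zero_mul]

/-- a non-leaf, non-regular, non-star index carries an end structure -/
theorem exists_isEnd (v : Fin n) (hv : xf T v = 2) (hnr : ¬ Reg T v)
    (hns : ¬ ((∀ u, u ≠ v → cc T v u ≠ 0 → xf T u = 1) ∧ degc T v = 4)) :
    ∃ a pend, IsEnd T v a pend ∧ xf T a = 2 := by
  rcases profile harm v hv with ⟨a, b, hab, -, -⟩ | ⟨a, hav, hxa, ha2, h0⟩ |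
    ⟨a, l1, l2, hav, hl1v, hl2v, hne, hxa, hx1, hx2, ha, h1, h2, h0⟩ |
    ⟨a, l, hav, hlv, hxa, hxl, ha, hl, h0⟩ | hstar
  · exact absurd ⟨a, b, hab⟩ hnr
  · exact ⟨a, [], ⟨hav, fun u h1 h2 _ => h0 u h1 h2, by simp, by simp, Or.inl ⟨rfl, ha2⟩⟩, hxa⟩
  · refine ⟨a, [l1, l2], ⟨hav, fun u hu1 hu2 hu3 => ?_, ?_, ?_, Or.inr (Or.inr
      ⟨l1, l2, rfl, hne, ha, h1, h2⟩)⟩, hxa⟩
    · simp only [List.mem_cons, List.not_mem_nil, or_false, not_or] at hu3
      exact h0 u hu1 hu2 hu3.1 hu3.2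
    · intro l hl
      simp only [List.mem_cons, List.not_mem_nil, or_false] at hl
      rcases hl with rfl | rfl
      · exact isLeaf_of_xf hx1 hl1v (by rw [h1]; norm_num)
      · exact isLeaf_of_xf hx2 hl2v (by rw [h2]; norm_num)
    · simp only [List.mem_cons, List.not_mem_nil, or_false, not_or]
      constructor
      · rintro rfl; omega
      · rintro rfl; omega
  · refine ⟨a, [l], ⟨hav, fun u hu1 hu2 hu3 => ?_, ?_, ?_, Or.inr (Or.inl ⟨l, rfl, ha, hl⟩)⟩, hxa⟩
    · simp only [List.mem_cons, List.not_mem_nil, or_false] at hu3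
      exact h0 u hu1 hu2 hu3
    · intro l' hl'
      simp only [List.mem_cons, List.not_mem_nil, or_false] at hl'
      subst hl'
      exact isLeaf_of_xf hxl hlv (by rw [hl]; norm_num)
    · simp only [List.mem_cons, List.not_mem_nil, or_false]
      rintro rfl; omega
  · exact absurd hstar hns

/-- **Structure theorem** when `xf` is harmonic. -/
theorem case2 (hn : 3 ≤ n) :
    (∀ v, Reg T v) ∨
    (∃ v, xf T v = 2 ∧ (∀ u, u ≠ v → cc T v u ≠ 0 → xf T u = 1) ∧ degc T v = 4) ∨
    (∃ (q : ℕ → Fin n) (r : ℕ) (A B : List (Fin n)), 1 ≤ r ∧ IsChain T q r ∧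
      IsEnd T (q 0) (q 1) A ∧ IsEnd T (q r) (q (r - 1)) B) := by
  classical
  by_cases hall : ∀ v, Reg T v
  · exact Or.inl hall
  right
  push Not at hall
  obtain ⟨v0, hv0⟩ := hall
  -- a non-regular non-leaf index
  have hex : ∃ p0, xf T p0 = 2 ∧ ¬ Reg T p0 := by
    rcases xf_eq_one_or (T := T) v0 with h1 | h1
    · obtain ⟨u, hu⟩ := exists_isLeaf ((xf_eq_one_iff v0).1 h1)
      have hxu : xf T u = 2 := by
        rcases xf_eq_one_or (T := T) u with h | h
        · exfalso
          have hu' := isLeaf_of_xf h hu.1 (by rw [hu.2.1]; norm_num)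
          have hD : ({v0, u} : Finset (Fin n)) = univ := by
            refine eq_univ_of_closed (T := T) _ ⟨v0, by simp⟩ (fun i hi j hji hij => ?_)
            simp only [Finset.mem_insert, Finset.mem_singleton] at hi ⊢
            rcases hi with rfl | rfl
            · right; exact hu.eq_of_adj ⟨hji.symm, hij⟩
            · left; exact hu'.eq_of_adj ⟨hji.symm, hij⟩
          have := congrArg Finset.card hD
          rw [Finset.card_univ, Fintype.card_fin] at this
          have h2 : ({v0, u} : Finset (Fin n)).card ≤ 2 := Finset.card_le_two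
          omega
        · exact h
      refine ⟨u, hxu, fun hr => ?_⟩
      have := Reg.xf_nbr harm hr hu.adj.symm
      omega
    · exact ⟨v0, h1, hv0⟩
  obtain ⟨p0, hx0, hr0⟩ := hex
  by_cases hstar : (∀ u, u ≠ p0 → cc T p0 u ≠ 0 → xf T u = 1) ∧ degc T p0 = 4
  · exact Or.inl ⟨p0, hx0, hstar⟩
  right
  obtain ⟨p1, A, hA, hx1⟩ := exists_isEnd harm p0 hx0 hr0 hstar
  have h01 := hA.adj
  have hp0 : ∀ u, Reg T u → Adj T u p0 → u = p1 := by
    intro u hu hadj
    rcases hA.eq_or_mem hadj.symm with h | h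
    · exact h
    · have := (hA.2.2.1 u h).xf_eq
      rw [Reg.xf_eq hu] at this
      omega
  obtain ⟨r, hr1, hnreg, hreg⟩ := exists_stop h01 hp0
  have hinj := ch_injOn h01 hreg hp0 r le_rfl
  have hadj := ch_adj h01 hreg (r - 1) (by omega)
  have e1 : r - 1 + 1 = r := by omega
  rw [e1] at hadj
  -- the previous index is not a leaf
  have hxprev : xf T (ch T p0 p1 (r - 1)) = 2 := by
    rcases Nat.lt_or_ge 1 r with h | h
    · exact Reg.xf_eq (hreg (r - 1) (by omega) (by omega))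
    · have : r - 1 = 0 := by omega
      rw [this, ch_zero]; exact hx0
  have hxr : xf T (ch T p0 p1 r) = 2 := by
    rcases Nat.lt_or_ge 1 r with h | h
    · exact Reg.xf_nbr harm (hreg (r - 1) (by omega) (by omega)) hadj
    · have : r = 1 := by omega
      rw [this, ch_one]; exact hx1
  have hns : ¬ ((∀ u, u ≠ ch T p0 p1 r → cc T (ch T p0 p1 r) u ≠ 0 → xf T u = 1) ∧
      degc T (ch T p0 p1 r) = 4) := by
    rintro ⟨h, -⟩
    have := h _ hadj.symm.1.symm hadj.symm.2
    omega
  obtain ⟨a', B, hB, hxa'⟩ := exists_isEnd harm _ hxr hnreg hns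
  have ha' : ch T p0 p1 (r - 1) = a' := by
    rcases hB.eq_or_mem hadj.symm with h | h
    · exact h
    · have := (hB.2.2.1 _ h).xf_eq
      omega
  refine ⟨ch T p0 p1, r, A, B, hr1, ⟨hinj, fun k hk => ch_isReg h01 hreg k (by omega)⟩, ?_, ?_⟩
  · rw [ch_zero, ch_one]; exact hA
  · rw [ha']; exact hB

end harm

end Groth.Agent.Lib.Helper26.NTC
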