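import Groth.Agent.Lib.Helper26.NTC4

/-!
# Enumerating a chain with two end structures

Given a chain `q 0, …, q r` with end structures `A` at `q 0` and `B` at `q r`, the list
`A ++ [q 0, …, q r] ++ B` enumerates all indices without repetition (`chain_enum`), and the only
non-zero entries are the evident ones (`PAdj`).
-/

set_option autoImplicit false
open Finset Models

namespace Groth.Agent.Lib.Helper26.NTC

variable {n : ℕ} {T : NumericalType n}

theorem IsEnd.nodup {v a : Fin n} {pend : List (Fin n)} (h : IsEnd T v a pend) : pend.Nodup := by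
  rcases h.2.2.2.2 with ⟨h1, -⟩ | ⟨l, h1, -⟩ | ⟨l1, l2, h1, hne, -⟩
  · rw [h1]; simp
  · rw [h1]; simp
  · rw [h1]; simp [hne]

theorem IsEnd.not_isLeaf {v a : Fin n} {pend : List (Fin n)} (h : IsEnd T v a pend) (u : Fin n) :
    ¬ IsLeaf T v u := by
  intro hl
  have hau : a = u := hl.eq_of_adj h.adj
  rcases h.2.2.2.2 with ⟨-, h1⟩ | ⟨l, h1, h2, h3⟩ | ⟨l1, l2, h1, hne, h2, h3, h4⟩
  · rw [hau, hl.2.1] at h1; norm_num at h1
  · have hlv : l ≠ v := (h.2.2.1 l (by rw [h1]; simp)).adj.1
    have : l = u := hl.eq_of_adj ⟨hlv.symm, by rw [h3]; norm_num⟩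
    apply h.2.2.2.1
    rw [h1, hau, ← this]; simp
  · have hlv : l1 ≠ v := (h.2.2.1 l1 (by rw [h1]; simp)).adj.1
    have : l1 = u := hl.eq_of_adj ⟨hlv.symm, by rw [h3]; norm_num⟩
    apply h.2.2.2.1
    rw [h1, hau, ← this]; simp

theorem Reg.not_isLeaf {v : Fin n} (h : Reg T v) (u : Fin n) : ¬ IsLeaf T v u := by
  intro hl
  have := h.degc
  rw [hl.degc] at this
  norm_num at this

/-- pattern adjacency of the enumeration `A ++ chain ++ B` -/
def PAdj (α r i j : ℕ) : Prop :=
  (i < α ∧ j = α) ∨ (j < α ∧ i = α) ∨ (α ≤ i ∧ j = i + 1 ∧ j ≤ α + r) ∨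
    (α ≤ j ∧ i = j + 1 ∧ i ≤ α + r) ∨ (i = α + r ∧ α + r < j) ∨ (j = α + r ∧ α + r < i)

/-- the enumeration `A ++ [q 0, …, q r] ++ B` -/
def enum (q : ℕ → Fin n) (r : ℕ) (A B : List (Fin n)) (i : ℕ) : Fin n :=
  if i < A.length then A.getD i (q 0)
  else if i ≤ A.length + r then q (i - A.length)
  else B.getD (i - A.length - r - 1) (q 0)

theorem enum_A {q : ℕ → Fin n} {r : ℕ} {A B : List (Fin n)} {i : ℕ} (hi : i < A.length) :
    enum q r A B i = A[i] := by
  unfold enum
  rw [if_pos hi, List.getD_eq_getElem _ _ hi]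

theorem enum_chain {q : ℕ → Fin n} {r : ℕ} {A B : List (Fin n)} {i : ℕ} (h1 : A.length ≤ i)
    (h2 : i ≤ A.length + r) : enum q r A B i = q (i - A.length) := by
  unfold enum
  rw [if_neg (by omega), if_pos h2]

theorem enum_B {q : ℕ → Fin n} {r : ℕ} {A B : List (Fin n)} {i : ℕ} (h1 : A.length + r < i)
    (h2 : i < A.length + r + 1 + B.length) :
    enum q r A B i = B[i - A.length - r - 1]'(by omega) := by
  unfold enum
  rw [if_neg (by omega), if_neg (by omega), List.getD_eq_getElem _ _ (by omega)]

section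

variable {q : ℕ → Fin n} {r : ℕ} {A B : List (Fin n)} (hr : 1 ≤ r) (hc : IsChain T q r)
  (hA : IsEnd T (q 0) (q 1) A) (hB : IsEnd T (q r) (q (r - 1)) B)

include hr hc hA hB

theorem chain_not_isLeaf (k : ℕ) (hk : k ≤ r) (u : Fin n) : ¬ IsLeaf T (q k) u := by
  rcases Nat.eq_zero_or_pos k with h0 | h0
  · subst h0; exact hA.not_isLeaf u
  rcases Nat.lt_or_ge k r with h1 | h1
  · have := hc.reg (k - 1) (by omega)
    have e : k - 1 + 1 = k := by omega
    rw [e] at this
    exact Reg.not_isLeaf ⟨_, _, this⟩ u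
  · have : k = r := by omega
    subst this; exact hB.not_isLeaf u

theorem enum_nbr (i : ℕ) (hi : i < A.length + r + 1 + B.length) (u : Fin n)
    (hu : Adj T (enum q r A B i) u) :
    ∃ j, j < A.length + r + 1 + B.length ∧ PAdj A.length r i j ∧ u = enum q r A B j := by
  rcases Nat.lt_or_ge i A.length with h1 | h1
  · -- a pendant of the first end
    rw [enum_A h1] at hu
    have hl := hA.2.2.1 _ (List.getElem_mem h1)
    refine ⟨A.length, by omega, Or.inl ⟨h1, rfl⟩, ?_⟩
    rw [enum_chain le_rfl (by omega), Nat.sub_self]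
    exact hl.eq_of_adj hu
  rcases Nat.lt_or_ge (A.length + r) i with h2 | h2
  · -- a pendant of the second end
    rw [enum_B h2 hi] at hu
    have hl := hB.2.2.1 _ (List.getElem_mem (by omega : i - A.length - r - 1 < B.length))
    refine ⟨A.length + r, by omega, Or.inr (Or.inr (Or.inr (Or.inr (Or.inr ⟨rfl, h2⟩)))), ?_⟩
    rw [enum_chain (by omega) le_rfl, Nat.add_sub_cancel_left]
    exact hl.eq_of_adj hu
  -- a member of the chain
  rw [enum_chain h1 h2] at hu
  obtain ⟨k, rfl⟩ : ∃ k, i = A.length + k := ⟨i - A.length, by omega⟩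
  rw [Nat.add_sub_cancel_left] at hu
  have hk : k ≤ r := by omega
  rcases Nat.eq_zero_or_pos k with h0 | h0
  · subst h0
    rcases hA.eq_or_mem hu with h | h
    · refine ⟨A.length + 1, by omega, Or.inr (Or.inr (Or.inl ⟨by omega, by omega, by omega⟩)), ?_⟩
      rw [enum_chain (by omega) (by omega), Nat.add_sub_cancel_left]
      exact h
    · obtain ⟨j, hj, hj'⟩ := List.mem_iff_getElem.1 h
      refine ⟨j, by omega, Or.inr (Or.inl ⟨hj, by omega⟩), ?_⟩
      rw [enum_A hj, hj']
  rcases Nat.lt_or_ge k r with h3 | h3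
  · have hreg := hc.reg (k - 1) (by omega)
    have e : k - 1 + 1 = k := by omega
    have e' : k - 1 + 2 = k + 1 := by omega
    rw [e, e'] at hreg
    rcases hreg.eq_or_eq hu with h | h
    · refine ⟨A.length + (k - 1), by omega,
        Or.inr (Or.inr (Or.inr (Or.inl ⟨by omega, by omega, by omega⟩))), ?_⟩
      rw [enum_chain (by omega) (by omega), Nat.add_sub_cancel_left]
      exact h
    · refine ⟨A.length + (k + 1), by omega,
        Or.inr (Or.inr (Or.inl ⟨by omega, by omega, by omega⟩)), ?_⟩
      rw [enum_chain (by omega) (by omega), Nat.add_sub_cancel_left]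
      exact h
  · have hkr : k = r := by omega
    subst hkr
    rcases hB.eq_or_mem hu with h | h
    · refine ⟨A.length + (k - 1), by omega,
        Or.inr (Or.inr (Or.inr (Or.inl ⟨by omega, by omega, by omega⟩))), ?_⟩
      rw [enum_chain (by omega) (by omega), Nat.add_sub_cancel_left]
      exact h
    · obtain ⟨j, hj, hj'⟩ := List.mem_iff_getElem.1 h
      refine ⟨A.length + k + 1 + j, by omega,
        Or.inr (Or.inr (Or.inr (Or.inr (Or.inl ⟨rfl, by omega⟩)))), ?_⟩
      rw [enum_B (by omega) (by omega)]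
      have : A.length + k + 1 + j - A.length - k - 1 = j := by omega
      simp only [this, hj']

theorem enum_inj (i j : ℕ) (hi : i < A.length + r + 1 + B.length)
    (hj : j < A.length + r + 1 + B.length) (h : enum q r A B i = enum q r A B j) : i = j := by
  -- classify the segments
  have key : ∀ i j, i < A.length + r + 1 + B.length → j < A.length + r + 1 + B.length →
      i < j → enum q r A B i ≠ enum q r A B j := by
    intro i j hi hj hij heq
    rcases Nat.lt_or_ge i A.length with hi1 | hi1
    · rw [enum_A hi1] at heq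
      have hli := hA.2.2.1 _ (List.getElem_mem hi1)
      rcases Nat.lt_or_ge j A.length with hj1 | hj1
      · rw [enum_A hj1] at heq
        have := (hA.nodup.getElem_inj_iff).1 heq
        omega
      rcases Nat.lt_or_ge (A.length + r) j with hj2 | hj2
      · rw [enum_B hj2 hj] at heq
        have hlj := hB.2.2.1 _ (List.getElem_mem (by omega : j - A.length - r - 1 < B.length))
        rw [← heq] at hlj
        have := hli.eq_of_adj hlj.adj
        have := hc.inj r 0 le_rfl (by omega) this
        omega
      · rw [enum_chain hj1 hj2] at heq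
        rw [heq] at hli
        exact chain_not_isLeaf hr hc hA hB _ (by omega) _ hli
    rcases Nat.lt_or_ge (A.length + r) i with hi2 | hi2
    · rw [enum_B hi2 hi, enum_B (by omega) hj] at heq
      have := (hB.nodup.getElem_inj_iff).1 heq
      omega
    · rw [enum_chain hi1 hi2] at heq
      rcases Nat.lt_or_ge (A.length + r) j with hj2 | hj2
      · rw [enum_B hj2 hj] at heq
        have hlj := hB.2.2.1 _ (List.getElem_mem (by omega : j - A.length - r - 1 < B.length))
        rw [← heq] at hlj
        exact chain_not_isLeaf hr hc hA hB _ (by omega) _ hlj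
      · rw [enum_chain (by omega) hj2] at heq
        have := hc.inj _ _ (by omega) (by omega) heq
        omega
  by_contra hne
  rcases Nat.lt_or_gt_of_ne hne with h' | h'
  · exact key i j hi hj h' h
  · exact key j i hj hi h' h.symm

theorem enum_surj (v : Fin n) : ∃ i, i < A.length + r + 1 + B.length ∧ enum q r A B i = v := by
  classical
  have hD : (Finset.range (A.length + r + 1 + B.length)).image (enum q r A B) = univ := by
    refine eq_univ_of_closed (T := T) _ ⟨enum q r A B 0, Finset.mem_image.2
      ⟨0, Finset.mem_range.2 (by omega), rfl⟩⟩ (fun i hi j hji hij => ?_)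
    obtain ⟨i', hi', rfl⟩ := Finset.mem_image.1 hi
    obtain ⟨j', hj', -, rfl⟩ := enum_nbr hr hc hA hB i' (Finset.mem_range.1 hi') j ⟨hji.symm, hij⟩
    exact Finset.mem_image.2 ⟨j', Finset.mem_range.2 hj', rfl⟩
  have : v ∈ (Finset.range (A.length + r + 1 + B.length)).image (enum q r A B) := by
    rw [hD]; exact mem_univ _
  obtain ⟨i, hi, rfl⟩ := Finset.mem_image.1 this
  exact ⟨i, Finset.mem_range.1 hi, rfl⟩

theorem enum_card : n = A.length + r + 1 + B.length := by
  classical
  have hD : (Finset.range (A.length + r + 1 + B.length)).image (enum q r A B) = univ := by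
    ext v
    simp only [Finset.mem_image, Finset.mem_range, mem_univ, iff_true]
    obtain ⟨i, hi, h⟩ := enum_surj hr hc hA hB v
    exact ⟨i, hi, h⟩
  have h1 := Finset.card_image_of_injOn (s := Finset.range (A.length + r + 1 + B.length))
    (f := enum q r A B) (by
      intro i hi j hj h
      exact enum_inj hr hc hA hB i j (Finset.mem_range.1 (Finset.mem_coe.1 hi))
        (Finset.mem_range.1 (Finset.mem_coe.1 hj)) h)
  rw [hD, Finset.card_univ, Fintype.card_fin, Finset.card_range] at h1
  exact h1

/-- the enumeration as a permutation, with its adjacency pattern -/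
theorem chain_enum :
    ∃ σ : Equiv.Perm (Fin n), (∀ i, σ i = enum q r A B i.val) ∧
      (∀ i j : Fin n, i ≠ j → cc T (σ i) (σ j) ≠ 0 → PAdj A.length r i.val j.val) := by
  have hn := enum_card hr hc hA hB
  have hinj : Function.Injective (fun i : Fin n => enum q r A B i.val) := by
    intro i j h
    exact Fin.ext (enum_inj hr hc hA hB i.val j.val (by omega) (by omega) h)
  refine ⟨Equiv.ofBijective _ ⟨hinj, Finite.injective_iff_surjective.1 hinj⟩, fun i => rfl,
    fun i j hij h => ?_⟩
  simp only [Equiv.ofBijective_apply] at h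
  obtain ⟨j', hj', hp, hjj⟩ := enum_nbr hr hc hA hB i.val (by omega) _
    ⟨fun h' => hij (hinj h'), h⟩
  have := enum_inj hr hc hA hB j.val j' (by omega) hj' hjj
  rw [this]; exact hp

end

end Groth.Agent.Lib.Helper26.NTC
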