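import Groth.Agent.Lib.Helper26.NTC5

/-!
# Weights, multiplicities and intersection numbers along a chain with two end structures
-/

set_option autoImplicit false
open Finset Models

namespace Groth.Agent.Lib.Helper26.NTC

variable {n : ℕ} {T : NumericalType n}

theorem a_eq_w_cc (i j : Fin n) : T.a i j = T.w i * cc T i j := (w_mul_cc T i j).symm

theorem IsLeaf.w_eq {l v : Fin n} (h : IsLeaf T l v) : T.w l = cc T v l * T.w v := by
  have := w_cc_symm T l v
  rw [h.2.1, mul_one] at this
  rw [this]; ring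

theorem IsLeaf.a_eq {l v : Fin n} (h : IsLeaf T l v) : T.a l v = cc T v l * T.w v := by
  rw [a_eq_w_cc, h.2.1, mul_one, h.w_eq]

theorem a_zero_of_cc {i j : Fin n} (h : cc T i j = 0) : T.a i j = 0 := (cc_eq_zero_iff T).1 h

section

variable {q : ℕ → Fin n} {r : ℕ} {A B : List (Fin n)} (hr : 1 ≤ r) (hc : IsChain T q r)
  (hA : IsEnd T (q 0) (q 1) A) (hB : IsEnd T (q r) (q (r - 1)) B)

include hr hc hA hB

theorem cc_fwd (k : ℕ) (h1 : 1 ≤ k) (h2 : k + 1 ≤ r) : cc T (q k) (q (k + 1)) = 1 := by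
  have := hc.reg (k - 1) (by omega)
  have e : k - 1 + 1 = k := by omega
  have e' : k - 1 + 2 = k + 1 := by omega
  rw [e, e'] at this
  exact this.2.2.2.2.1

theorem cc_bwd (k : ℕ) (h2 : k + 2 ≤ r) : cc T (q (k + 1)) (q k) = 1 :=
  (hc.reg k h2).2.2.2.1

/-- interior weights -/
theorem w_interior (k : ℕ) (h1 : 1 ≤ k) (h2 : k < r) :
    T.w (q k) = cc T (q 0) (q 1) * T.w (q 0) := by
  induction k with
  | zero => omega
  | succ k ih =>
    have hs := w_cc_symm T (q (k + 1)) (q k)
    rw [cc_bwd hr hc hA hB k (by omega), mul_one] at hs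
    rcases Nat.eq_zero_or_pos k with h0 | h0
    · subst h0
      rw [hs]; ring
    · rw [hs, cc_fwd hr hc hA hB k h0 (by omega), mul_one]
      exact ih h0 (by omega)

/-- the last weight -/
theorem w_last : T.w (q r) * cc T (q r) (q (r - 1)) = cc T (q 0) (q 1) * T.w (q 0) := by
  rcases Nat.lt_or_ge 1 r with h | h
  · have hs := w_cc_symm T (q r) (q (r - 1))
    have e : r - 1 + 1 = r := by omega
    have := cc_fwd hr hc hA hB (r - 1) (by omega) (by omega)
    rw [e] at this
    rw [hs, this, mul_one]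
    exact w_interior hr hc hA hB (r - 1) (by omega) (by omega)
  · have : r = 1 := by omega
    subst this
    have hs := w_cc_symm T (q 1) (q 0)
    rw [hs]; ring

/-- all chain edges carry the same intersection number -/
theorem a_chain (k : ℕ) (hk : k < r) : T.a (q k) (q (k + 1)) = cc T (q 0) (q 1) * T.w (q 0) := by
  rcases Nat.eq_zero_or_pos k with h0 | h0
  · subst h0
    rw [a_eq_w_cc]; ring
  · rw [a_eq_w_cc, cc_fwd hr hc hA hB k h0 (by omega), mul_one]
    exact w_interior hr hc hA hB k h0 hk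

theorem xf_chain (k : ℕ) (hk : k ≤ r) : xf T (q k) = 2 := by
  rw [xf_eq_two_iff]
  intro h
  obtain ⟨u, hu⟩ := exists_isLeaf h
  exact chain_not_isLeaf hr hc hA hB k hk u hu

end

end Groth.Agent.Lib.Helper26.NTC
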