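import Groth.Agent.Lib.Helper26.NTC6

set_option autoImplicit false
open Finset Models

namespace Groth.Agent.Lib.Helper26.NTC

variable {n : ℕ} (T : NumericalType n)

/-- the `n`-cycle -/
def Fam1 (σ : Equiv.Perm (Fin n)) (m w : ℤ) : Prop :=
  ((∀ i : Fin n, T.m (σ i) = m) ∧
        (∀ i : Fin n, T.w (σ i) = w) ∧
        (∀ i j : Fin n, i.val < j.val → j.val = i.val + 1 → T.a (σ i) (σ j) = w) ∧
        (∀ i j : Fin n, i.val < j.val → i.val = 0 ∧ j.val + 1 = n → T.a (σ i) (σ j) = w) ∧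
        (∀ i j : Fin n, i.val < j.val → ¬ (j.val = i.val + 1) → ¬ (i.val = 0 ∧ j.val + 1 = n) → T.a (σ i) (σ j) = 0))

def Fam2 (σ : Equiv.Perm (Fin n)) (m w : ℤ) : Prop :=
  ((∀ i : Fin n, i.val + 1 < n → T.m (σ i) = 2 * m) ∧
        (∀ i : Fin n, i.val + 1 = n → T.m (σ i) = m) ∧
        (∀ i : Fin n, i.val = 0 → T.w (σ i) = w) ∧
        (∀ i : Fin n, 0 < i.val ∧ i.val + 1 < n → T.w (σ i) = 2 * w) ∧
        (∀ i : Fin n, i.val + 1 = n → T.w (σ i) = 4 * w) ∧
        (∀ i j : Fin n, i.val < j.val → j.val = i.val + 1 ∧ j.val + 1 < n → T.a (σ i) (σ j) = 2 * w) ∧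
        (∀ i j : Fin n, i.val < j.val → j.val = i.val + 1 ∧ j.val + 1 = n → T.a (σ i) (σ j) = 4 * w) ∧
        (∀ i j : Fin n, i.val < j.val → ¬ (j.val = i.val + 1 ∧ j.val + 1 < n) → ¬ (j.val = i.val + 1 ∧ j.val + 1 = n) → T.a (σ i) (σ j) = 0))

def Fam3 (σ : Equiv.Perm (Fin n)) (m w : ℤ) : Prop :=
  ((∀ i : Fin n, T.m (σ i) = m) ∧
        (∀ i : Fin n, i.val = 0 → T.w (σ i) = w) ∧
        (∀ i : Fin n, 0 < i.val ∧ i.val + 1 < n → T.w (σ i) = 2 * w) ∧
        (∀ i : Fin n, i.val + 1 = n → T.w (σ i) = w) ∧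
        (∀ i j : Fin n, i.val < j.val → j.val = i.val + 1 → T.a (σ i) (σ j) = 2 * w) ∧
        (∀ i j : Fin n, i.val < j.val → ¬ (j.val = i.val + 1) → T.a (σ i) (σ j) = 0))

def Fam4 (σ : Equiv.Perm (Fin n)) (m w : ℤ) : Prop :=
  ((∀ i : Fin n, i.val = 0 → T.m (σ i) = m) ∧
        (∀ i : Fin n, 0 < i.val ∧ i.val + 1 < n → T.m (σ i) = 2 * m) ∧
        (∀ i : Fin n, i.val + 1 = n → T.m (σ i) = m) ∧
        (∀ i : Fin n, i.val = 0 → T.w (σ i) = 2 * w) ∧
        (∀ i : Fin n, 0 < i.val ∧ i.val + 1 < n → T.w (σ i) = w) ∧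
        (∀ i : Fin n, i.val + 1 = n → T.w (σ i) = 2 * w) ∧
        (∀ i j : Fin n, i.val < j.val → i.val = 0 ∧ j.val = 1 → T.a (σ i) (σ j) = 2 * w) ∧
        (∀ i j : Fin n, i.val < j.val → j.val = i.val + 1 ∧ 1 ≤ i.val ∧ j.val + 2 ≤ n → T.a (σ i) (σ j) = w) ∧
        (∀ i j : Fin n, i.val < j.val → j.val = i.val + 1 ∧ j.val + 1 = n → T.a (σ i) (σ j) = 2 * w) ∧
        (∀ i j : Fin n, i.val < j.val → ¬ (i.val = 0 ∧ j.val = 1) → ¬ (j.val = i.val + 1 ∧ 1 ≤ i.val ∧ j.val + 2 ≤ n) → ¬ (j.val = i.val + 1 ∧ j.val + 1 = n) → T.a (σ i) (σ j) = 0))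

def Fam5 (σ : Equiv.Perm (Fin n)) (m w : ℤ) : Prop :=
  ((∀ i : Fin n, i.val = 0 → T.m (σ i) = m) ∧
        (∀ i : Fin n, 1 ≤ i.val ∧ i.val + 2 < n → T.m (σ i) = 2 * m) ∧
        (∀ i : Fin n, n ≤ i.val + 2 → T.m (σ i) = m) ∧
        (∀ i : Fin n, i.val = 0 → T.w (σ i) = 2 * w) ∧
        (∀ i : Fin n, 0 < i.val → T.w (σ i) = w) ∧
        (∀ i j : Fin n, i.val < j.val → i.val = 0 ∧ j.val = 1 → T.a (σ i) (σ j) = 2 * w) ∧
        (∀ i j : Fin n, i.val < j.val → j.val = i.val + 1 ∧ 1 ≤ i.val ∧ j.val + 2 ≤ n → T.a (σ i) (σ j) = w) ∧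
        (∀ i j : Fin n, i.val < j.val → i.val + 3 = n ∧ j.val + 1 = n → T.a (σ i) (σ j) = w) ∧
        (∀ i j : Fin n, i.val < j.val → ¬ (i.val = 0 ∧ j.val = 1) → ¬ (j.val = i.val + 1 ∧ 1 ≤ i.val ∧ j.val + 2 ≤ n) → ¬ (i.val + 3 = n ∧ j.val + 1 = n) → T.a (σ i) (σ j) = 0))

def Fam6 (σ : Equiv.Perm (Fin n)) (m w : ℤ) : Prop :=
  ((∀ i : Fin n, i.val + 2 < n → T.m (σ i) = 2 * m) ∧
        (∀ i : Fin n, n ≤ i.val + 2 → T.m (σ i) = m) ∧
        (∀ i : Fin n, i.val = 0 → T.w (σ i) = w) ∧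
        (∀ i : Fin n, 0 < i.val → T.w (σ i) = 2 * w) ∧
        (∀ i j : Fin n, i.val < j.val → j.val = i.val + 1 ∧ j.val + 2 ≤ n → T.a (σ i) (σ j) = 2 * w) ∧
        (∀ i j : Fin n, i.val < j.val → i.val + 3 = n ∧ j.val + 1 = n → T.a (σ i) (σ j) = 2 * w) ∧
        (∀ i j : Fin n, i.val < j.val → ¬ (j.val = i.val + 1 ∧ j.val + 2 ≤ n) → ¬ (i.val + 3 = n ∧ j.val + 1 = n) → T.a (σ i) (σ j) = 0))

def Fam7 (σ : Equiv.Perm (Fin n)) (m w : ℤ) : Prop :=
  ((∀ i : Fin n, i.val ≤ 1 → T.m (σ i) = m) ∧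
        (∀ i : Fin n, 2 ≤ i.val ∧ i.val + 2 < n → T.m (σ i) = 2 * m) ∧
        (∀ i : Fin n, n ≤ i.val + 2 → T.m (σ i) = m) ∧
        (∀ i : Fin n, T.w (σ i) = w) ∧
        (∀ i j : Fin n, i.val < j.val → i.val = 0 ∧ j.val = 2 → T.a (σ i) (σ j) = w) ∧
        (∀ i j : Fin n, i.val < j.val → i.val = 1 ∧ j.val = 2 → T.a (σ i) (σ j) = w) ∧
        (∀ i j : Fin n, i.val < j.val → j.val = i.val + 1 ∧ 2 ≤ i.val ∧ j.val + 2 ≤ n → T.a (σ i) (σ j) = w) ∧
        (∀ i j : Fin n, i.val < j.val → i.val + 3 = n ∧ j.val + 1 = n → T.a (σ i) (σ j) = w) ∧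
        (∀ i j : Fin n, i.val < j.val → ¬ (i.val = 0 ∧ j.val = 2) → ¬ (i.val = 1 ∧ j.val = 2) → ¬ (j.val = i.val + 1 ∧ 2 ≤ i.val ∧ j.val + 2 ≤ n) → ¬ (i.val + 3 = n ∧ j.val + 1 = n) → T.a (σ i) (σ j) = 0))

variable {T}

section

variable {q : ℕ → Fin n} {r : ℕ} {A B : List (Fin n)} (hr : 1 ≤ r) (hc : IsChain T q r)
  (hA : IsEnd T (q 0) (q 1) A) (hB : IsEnd T (q r) (q (r - 1)) B)
  (prop : ∀ i j, xf T i * T.m j = xf T j * T.m i)
  {σ : Equiv.Perm (Fin n)} (hσ : ∀ i, σ i = enum q r A B i.val)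
  (hadj : ∀ i j : Fin n, i ≠ j → cc T (σ i) (σ j) ≠ 0 → PAdj A.length r i.val j.val)

omit hσ hadj in
theorem a_zero_of_not_pAdj {α r' : ℕ}
    (hadj' : ∀ i j : Fin n, i ≠ j → cc T (σ i) (σ j) ≠ 0 → PAdj α r' i.val j.val)
    (i j : Fin n) (hij : i ≠ j) (h : ¬ PAdj α r' i.val j.val) :
    T.a (σ i) (σ j) = 0 := by
  apply a_zero_of_cc
  by_contra hne
  exact h (hadj' i j hij hne)

include hr hc hA hB prop in
theorem m_chain_leaf (k : ℕ) (hk : k ≤ r) {l v : Fin n} (hl : IsLeaf T l v) :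
    T.m (q k) = 2 * T.m l := by
  have := prop (q k) l
  rw [xf_chain hr hc hA hB k hk, hl.xf_eq] at this
  linarith

include hr hc hA hB prop in
theorem m_chain_chain (k k' : ℕ) (hk : k ≤ r) (hk' : k' ≤ r) : T.m (q k) = T.m (q k') := by
  have := prop (q k) (q k')
  rw [xf_chain hr hc hA hB k hk, xf_chain hr hc hA hB k' hk'] at this
  linarith

include prop in
theorem m_leaf_leaf {l v l' v' : Fin n} (hl : IsLeaf T l v) (hl' : IsLeaf T l' v') :
    T.m l = T.m l' := by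
  have := prop l l'
  rw [hl.xf_eq, hl'.xf_eq] at this
  linarith

end

/-- type `(Q, P)`: family 2 -/
theorem fam_QP {q : ℕ → Fin n} {r : ℕ} {l : Fin n} (hr : 1 ≤ r) (hc : IsChain T q r)
    (hA : IsEnd T (q 0) (q 1) []) (hB : IsEnd T (q r) (q (r - 1)) [l])
    (hA2 : cc T (q 0) (q 1) = 2) (hB1 : cc T (q r) (q (r - 1)) = 1) (hBl : cc T (q r) l = 2)
    (prop : ∀ i j, xf T i * T.m j = xf T j * T.m i) :
    ∃ σ m w, Fam2 T σ m w := by
  have hn := enum_card hr hc hA hB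
  obtain ⟨σ, hσ, hadj⟩ := chain_enum hr hc hA hB
  simp only [List.length_nil, List.length_cons] at hn hadj
  have hl : IsLeaf T l (q r) := hB.2.2.1 l (by simp)
  have hσc : ∀ i : Fin n, i.val ≤ r → σ i = q i.val := by
    intro i hi
    rw [hσ, enum_chain (by simp) (by simpa using hi)]
    simp
  have hσl : ∀ i : Fin n, i.val = r + 1 → σ i = l := by
    intro i hi
    rw [hσ, enum_B (by simp; omega) (by simp; omega)]
    simp [hi]
  have hwl := w_last hr hc hA hB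
  rw [hB1, hA2, mul_one] at hwl
  refine ⟨σ, T.m l, T.w (q 0), ?_, ?_, ?_, ?_, ?_, ?_, ?_, ?_⟩
  · intro i hi
    rw [hσc i (by omega)]
    exact m_chain_leaf hr hc hA hB prop _ (by omega) hl
  · intro i hi
    rw [hσl i (by omega)]
  · intro i hi
    rw [hσc i (by omega), hi]
  · intro i hi
    rw [hσc i (by omega)]
    rcases Nat.lt_or_ge i.val r with h | h
    · rw [w_interior hr hc hA hB _ (by omega) h, hA2]
    · have : i.val = r := by omega
      rw [this, hwl]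
  · intro i hi
    rw [hσl i (by omega), hl.w_eq, hBl, hwl]; ring
  · intro i j hij hc'
    rw [hσc i (by omega), hσc j (by omega), hc'.1, a_chain hr hc hA hB _ (by omega), hA2]
  · intro i j hij hc'
    rw [hσc i (by omega), hσl j (by omega), T.symm.apply]
    have : i.val = r := by omega
    rw [this, hl.a_eq, hBl, hwl]; ring
  · intro i j hij h1 h2
    apply a_zero_of_not_pAdj hadj i j (by intro h; rw [h] at hij; omega)
    simp only [PAdj]
    omega


section allone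

variable {q : ℕ → Fin n} {r : ℕ} {A B : List (Fin n)} (hr : 1 ≤ r) (hc : IsChain T q r)
  (hA : IsEnd T (q 0) (q 1) A) (hB : IsEnd T (q r) (q (r - 1)) B)

include hr hc hA hB in
/-- when both chain ends have entry `1`, all chain weights agree -/
theorem w_chain_one (hA1 : cc T (q 0) (q 1) = 1) (hB1 : cc T (q r) (q (r - 1)) = 1) (k : ℕ)
    (hk : k ≤ r) : T.w (q k) = T.w (q 0) := by
  rcases Nat.eq_zero_or_pos k with h0 | h0
  · rw [h0]
  rcases Nat.lt_or_ge k r with h | h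
  · rw [w_interior hr hc hA hB k h0 h, hA1, one_mul]
  · have : k = r := by omega
    have hwl := w_last hr hc hA hB
    rw [hB1, hA1, mul_one, one_mul] at hwl
    rw [this, hwl]

end allone

/-- type `(Q, Q)`: family 3 -/
theorem fam_QQ {q : ℕ → Fin n} {r : ℕ} (hr : 1 ≤ r) (hc : IsChain T q r)
    (hA : IsEnd T (q 0) (q 1) []) (hB : IsEnd T (q r) (q (r - 1)) [])
    (hA2 : cc T (q 0) (q 1) = 2) (hB2 : cc T (q r) (q (r - 1)) = 2)
    (prop : ∀ i j, xf T i * T.m j = xf T j * T.m i) :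
    ∃ σ m w, Fam3 T σ m w := by
  have hn := enum_card hr hc hA hB
  obtain ⟨σ, hσ, hadj⟩ := chain_enum hr hc hA hB
  simp only [List.length_nil] at hn hadj
  have hσc : ∀ i : Fin n, σ i = q i.val := by
    intro i
    rw [hσ, enum_chain (by simp) (by simp; omega)]
    simp
  have hwl := w_last hr hc hA hB
  rw [hB2, hA2] at hwl
  have hwl' : T.w (q r) = T.w (q 0) := by linarith
  refine ⟨σ, T.m (q 0), T.w (q 0), ?_, ?_, ?_, ?_, ?_, ?_⟩
  · intro i
    rw [hσc i]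
    exact m_chain_chain hr hc hA hB prop _ _ (by omega) (by omega)
  · intro i hi
    rw [hσc i, hi]
  · intro i hi
    rw [hσc i, w_interior hr hc hA hB _ (by omega) (by omega), hA2]
  · intro i hi
    rw [hσc i]
    have : i.val = r := by omega
    rw [this, hwl']
  · intro i j hij hc'
    rw [hσc i, hσc j, hc', a_chain hr hc hA hB _ (by omega), hA2]
  · intro i j hij h1
    apply a_zero_of_not_pAdj hadj i j (by intro h; rw [h] at hij; omega)
    simp only [PAdj]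
    omega

/-- type `(P, P)`: family 4 -/
theorem fam_PP {q : ℕ → Fin n} {r : ℕ} {l l' : Fin n} (hr : 1 ≤ r) (hc : IsChain T q r)
    (hA : IsEnd T (q 0) (q 1) [l]) (hB : IsEnd T (q r) (q (r - 1)) [l'])
    (hA1 : cc T (q 0) (q 1) = 1) (hAl : cc T (q 0) l = 2)
    (hB1 : cc T (q r) (q (r - 1)) = 1) (hBl : cc T (q r) l' = 2)
    (prop : ∀ i j, xf T i * T.m j = xf T j * T.m i) :
    ∃ σ m w, Fam4 T σ m w := by
  have hn := enum_card hr hc hA hB
  obtain ⟨σ, hσ, hadj⟩ := chain_enum hr hc hA hB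
  simp only [List.length_nil, List.length_cons] at hn hadj
  have hl : IsLeaf T l (q 0) := hA.2.2.1 l (by simp)
  have hl' : IsLeaf T l' (q r) := hB.2.2.1 l' (by simp)
  have hσ0 : ∀ i : Fin n, i.val = 0 → σ i = l := by
    intro i hi
    rw [hσ, enum_A (by simp; omega)]
    simp [hi]
  have hσc : ∀ i : Fin n, 1 ≤ i.val → i.val ≤ r + 1 → σ i = q (i.val - 1) := by
    intro i hi1 hi
    rw [hσ, enum_chain (by simpa using hi1) (by simp; omega)]
    simp
  have hσl : ∀ i : Fin n, i.val = r + 2 → σ i = l' := by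
    intro i hi
    rw [hσ, enum_B (by simp; omega) (by simp; omega)]
    simp [hi]
  have hw := w_chain_one hr hc hA hB hA1 hB1
  refine ⟨σ, T.m l, T.w (q 0), ?_, ?_, ?_, ?_, ?_, ?_, ?_, ?_, ?_, ?_⟩
  · intro i hi
    rw [hσ0 i hi]
  · intro i hi
    rw [hσc i (by omega) (by omega)]
    exact m_chain_leaf hr hc hA hB prop _ (by omega) hl
  · intro i hi
    rw [hσl i (by omega)]
    exact m_leaf_leaf prop hl' hl
  · intro i hi
    rw [hσ0 i hi, hl.w_eq, hAl]
  · intro i hi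
    rw [hσc i (by omega) (by omega), hw _ (by omega)]
  · intro i hi
    rw [hσl i (by omega), hl'.w_eq, hBl, hw _ le_rfl]
  · intro i j hij hc'
    rw [hσ0 i hc'.1, hσc j (by omega) (by omega), hc'.2, hl.a_eq, hAl]
  · intro i j hij hc'
    rw [hσc i (by omega) (by omega), hσc j (by omega) (by omega)]
    have : j.val - 1 = (i.val - 1) + 1 := by omega
    rw [this, a_chain hr hc hA hB _ (by omega), hA1, one_mul]
  · intro i j hij hc'
    rw [hσc i (by omega) (by omega), hσl j (by omega), T.symm.apply]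
    have : i.val - 1 = r := by omega
    rw [this, hl'.a_eq, hBl, hw _ le_rfl]
  · intro i j hij h1 h2 h3
    apply a_zero_of_not_pAdj hadj i j (by intro h; rw [h] at hij; omega)
    simp only [PAdj]
    omega

/-- type `(P, F)`: family 5 -/
theorem fam_PF {q : ℕ → Fin n} {r : ℕ} {l f1 f2 : Fin n} (hr : 1 ≤ r) (hc : IsChain T q r)
    (hA : IsEnd T (q 0) (q 1) [l]) (hB : IsEnd T (q r) (q (r - 1)) [f1, f2])
    (hA1 : cc T (q 0) (q 1) = 1) (hAl : cc T (q 0) l = 2)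
    (hB1 : cc T (q r) (q (r - 1)) = 1) (hBf1 : cc T (q r) f1 = 1) (hBf2 : cc T (q r) f2 = 1)
    (prop : ∀ i j, xf T i * T.m j = xf T j * T.m i) :
    5 ≤ n ∧ ∃ σ m w, Fam5 T σ m w := by
  have hn := enum_card hr hc hA hB
  obtain ⟨σ, hσ, hadj⟩ := chain_enum hr hc hA hB
  simp only [List.length_nil, List.length_cons] at hn hadj
  refine ⟨by omega, ?_⟩
  have hl : IsLeaf T l (q 0) := hA.2.2.1 l (by simp)
  have hf1 : IsLeaf T f1 (q r) := hB.2.2.1 f1 (by simp)
  have hf2 : IsLeaf T f2 (q r) := hB.2.2.1 f2 (by simp)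
  have hσ0 : ∀ i : Fin n, i.val = 0 → σ i = l := by
    intro i hi
    rw [hσ, enum_A (by simp; omega)]
    simp [hi]
  have hσc : ∀ i : Fin n, 1 ≤ i.val → i.val ≤ r + 1 → σ i = q (i.val - 1) := by
    intro i hi1 hi
    rw [hσ, enum_chain (by simpa using hi1) (by simp; omega)]
    simp
  have hσ1 : ∀ i : Fin n, i.val = r + 2 → σ i = f1 := by
    intro i hi
    rw [hσ, enum_B (by simp; omega) (by simp; omega)]
    simp [hi]
  have hσ2 : ∀ i : Fin n, i.val = r + 3 → σ i = f2 := by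
    intro i hi
    rw [hσ, enum_B (by simp; omega) (by simp; omega)]
    simp [hi]
  have hw := w_chain_one hr hc hA hB hA1 hB1
  refine ⟨σ, T.m l, T.w (q 0), ?_, ?_, ?_, ?_, ?_, ?_, ?_, ?_, ?_⟩
  · intro i hi
    rw [hσ0 i hi]
  · intro i hi
    rw [hσc i (by omega) (by omega)]
    exact m_chain_leaf hr hc hA hB prop _ (by omega) hl
  · intro i hi
    rcases Nat.lt_or_ge i.val (r + 3) with h | h
    · rw [hσ1 i (by omega)]
      exact m_leaf_leaf prop hf1 hl
    · rw [hσ2 i (by omega)]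
      exact m_leaf_leaf prop hf2 hl
  · intro i hi
    rw [hσ0 i hi, hl.w_eq, hAl]
  · intro i hi
    rcases Nat.lt_or_ge i.val (r + 2) with h | h
    · rw [hσc i (by omega) (by omega), hw _ (by omega)]
    rcases Nat.lt_or_ge i.val (r + 3) with h' | h'
    · rw [hσ1 i (by omega), hf1.w_eq, hBf1, hw _ le_rfl, one_mul]
    · rw [hσ2 i (by omega), hf2.w_eq, hBf2, hw _ le_rfl, one_mul]
  · intro i j hij hc'
    rw [hσ0 i hc'.1, hσc j (by omega) (by omega), hc'.2, hl.a_eq, hAl]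
  · intro i j hij hc'
    rcases Nat.lt_or_ge j.val (r + 2) with h | h
    · rw [hσc i (by omega) (by omega), hσc j (by omega) (by omega)]
      have : j.val - 1 = (i.val - 1) + 1 := by omega
      rw [this, a_chain hr hc hA hB _ (by omega), hA1, one_mul]
    · rw [hσc i (by omega) (by omega), hσ1 j (by omega), T.symm.apply]
      have : i.val - 1 = r := by omega
      rw [this, hf1.a_eq, hBf1, hw _ le_rfl, one_mul]
  · intro i j hij hc'
    rw [hσc i (by omega) (by omega), hσ2 j (by omega), T.symm.apply]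
    have : i.val - 1 = r := by omega
    rw [this, hf2.a_eq, hBf2, hw _ le_rfl, one_mul]
  · intro i j hij h1 h2 h3
    apply a_zero_of_not_pAdj hadj i j (by intro h; rw [h] at hij; omega)
    simp only [PAdj]
    omega

/-- type `(Q, F)`: family 6 -/
theorem fam_QF {q : ℕ → Fin n} {r : ℕ} {f1 f2 : Fin n} (hr : 1 ≤ r) (hc : IsChain T q r)
    (hA : IsEnd T (q 0) (q 1) []) (hB : IsEnd T (q r) (q (r - 1)) [f1, f2])
    (hA2 : cc T (q 0) (q 1) = 2)
    (hB1 : cc T (q r) (q (r - 1)) = 1) (hBf1 : cc T (q r) f1 = 1) (hBf2 : cc T (q r) f2 = 1)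
    (prop : ∀ i j, xf T i * T.m j = xf T j * T.m i) :
    ∃ σ m w, Fam6 T σ m w := by
  have hn := enum_card hr hc hA hB
  obtain ⟨σ, hσ, hadj⟩ := chain_enum hr hc hA hB
  simp only [List.length_nil, List.length_cons] at hn hadj
  have hf1 : IsLeaf T f1 (q r) := hB.2.2.1 f1 (by simp)
  have hf2 : IsLeaf T f2 (q r) := hB.2.2.1 f2 (by simp)
  have hσc : ∀ i : Fin n, i.val ≤ r → σ i = q i.val := by
    intro i hi
    rw [hσ, enum_chain (by simp) (by simpa using hi)]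
    simp
  have hσ1 : ∀ i : Fin n, i.val = r + 1 → σ i = f1 := by
    intro i hi
    rw [hσ, enum_B (by simp; omega) (by simp; omega)]
    simp [hi]
  have hσ2 : ∀ i : Fin n, i.val = r + 2 → σ i = f2 := by
    intro i hi
    rw [hσ, enum_B (by simp; omega) (by simp; omega)]
    simp [hi]
  have hwl := w_last hr hc hA hB
  rw [hB1, hA2, mul_one] at hwl
  refine ⟨σ, T.m f1, T.w (q 0), ?_, ?_, ?_, ?_, ?_, ?_, ?_⟩
  · intro i hi
    rw [hσc i (by omega)]
    exact m_chain_leaf hr hc hA hB prop _ (by omega) hf1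
  · intro i hi
    rcases Nat.lt_or_ge i.val (r + 2) with h | h
    · rw [hσ1 i (by omega)]
    · rw [hσ2 i (by omega)]
      exact m_leaf_leaf prop hf2 hf1
  · intro i hi
    rw [hσc i (by omega), hi]
  · intro i hi
    rcases Nat.lt_or_ge i.val r with h | h
    · rw [hσc i (by omega), w_interior hr hc hA hB _ (by omega) h, hA2]
    rcases Nat.lt_or_ge i.val (r + 1) with h' | h'
    · rw [hσc i (by omega)]
      have : i.val = r := by omega
      rw [this, hwl]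
    rcases Nat.lt_or_ge i.val (r + 2) with h'' | h''
    · rw [hσ1 i (by omega), hf1.w_eq, hBf1, hwl, one_mul]
    · rw [hσ2 i (by omega), hf2.w_eq, hBf2, hwl, one_mul]
  · intro i j hij hc'
    rcases Nat.lt_or_ge j.val (r + 1) with h | h
    · rw [hσc i (by omega), hσc j (by omega), hc'.1, a_chain hr hc hA hB _ (by omega), hA2]
    · rw [hσc i (by omega), hσ1 j (by omega), T.symm.apply]
      have : i.val = r := by omega
      rw [this, hf1.a_eq, hBf1, hwl, one_mul]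
  · intro i j hij hc'
    rw [hσc i (by omega), hσ2 j (by omega), T.symm.apply]
    have : i.val = r := by omega
    rw [this, hf2.a_eq, hBf2, hwl, one_mul]
  · intro i j hij h1 h2
    apply a_zero_of_not_pAdj hadj i j (by intro h; rw [h] at hij; omega)
    simp only [PAdj]
    omega

/-- type `(F, F)`: family 7 -/
theorem fam_FF {q : ℕ → Fin n} {r : ℕ} {l1 l2 f1 f2 : Fin n} (hr : 1 ≤ r) (hc : IsChain T q r)
    (hA : IsEnd T (q 0) (q 1) [l1, l2]) (hB : IsEnd T (q r) (q (r - 1)) [f1, f2])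
    (hA1 : cc T (q 0) (q 1) = 1) (hAl1 : cc T (q 0) l1 = 1) (hAl2 : cc T (q 0) l2 = 1)
    (hB1 : cc T (q r) (q (r - 1)) = 1) (hBf1 : cc T (q r) f1 = 1) (hBf2 : cc T (q r) f2 = 1)
    (prop : ∀ i j, xf T i * T.m j = xf T j * T.m i) :
    6 ≤ n ∧ ∃ σ m w, Fam7 T σ m w := by
  have hn := enum_card hr hc hA hB
  obtain ⟨σ, hσ, hadj⟩ := chain_enum hr hc hA hB
  simp only [List.length_nil, List.length_cons] at hn hadj
  refine ⟨by omega, ?_⟩
  have hl1 : IsLeaf T l1 (q 0) := hA.2.2.1 l1 (by simp)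
  have hl2 : IsLeaf T l2 (q 0) := hA.2.2.1 l2 (by simp)
  have hf1 : IsLeaf T f1 (q r) := hB.2.2.1 f1 (by simp)
  have hf2 : IsLeaf T f2 (q r) := hB.2.2.1 f2 (by simp)
  have hσ0 : ∀ i : Fin n, i.val = 0 → σ i = l1 := by
    intro i hi
    rw [hσ, enum_A (by simp; omega)]
    simp [hi]
  have hσ0' : ∀ i : Fin n, i.val = 1 → σ i = l2 := by
    intro i hi
    rw [hσ, enum_A (by simp; omega)]
    simp [hi]
  have hσc : ∀ i : Fin n, 2 ≤ i.val → i.val ≤ r + 2 → σ i = q (i.val - 2) := by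
    intro i hi1 hi
    rw [hσ, enum_chain (by simpa using hi1) (by simp; omega)]
    simp
  have hσ1 : ∀ i : Fin n, i.val = r + 3 → σ i = f1 := by
    intro i hi
    rw [hσ, enum_B (by simp; omega) (by simp; omega)]
    simp [hi]
  have hσ2 : ∀ i : Fin n, i.val = r + 4 → σ i = f2 := by
    intro i hi
    rw [hσ, enum_B (by simp; omega) (by simp; omega)]
    simp [hi]
  have hw := w_chain_one hr hc hA hB hA1 hB1
  refine ⟨σ, T.m l1, T.w (q 0), ?_, ?_, ?_, ?_, ?_, ?_, ?_, ?_, ?_⟩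
  · intro i hi
    rcases Nat.lt_or_ge i.val 1 with h | h
    · rw [hσ0 i (by omega)]
    · rw [hσ0' i (by omega)]
      exact m_leaf_leaf prop hl2 hl1
  · intro i hi
    rw [hσc i (by omega) (by omega)]
    exact m_chain_leaf hr hc hA hB prop _ (by omega) hl1
  · intro i hi
    rcases Nat.lt_or_ge i.val (r + 4) with h | h
    · rw [hσ1 i (by omega)]
      exact m_leaf_leaf prop hf1 hl1
    · rw [hσ2 i (by omega)]
      exact m_leaf_leaf prop hf2 hl1
  · intro i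
    rcases Nat.lt_or_ge i.val 1 with h | h
    · rw [hσ0 i (by omega), hl1.w_eq, hAl1, one_mul]
    rcases Nat.lt_or_ge i.val 2 with h0 | h0
    · rw [hσ0' i (by omega), hl2.w_eq, hAl2, one_mul]
    rcases Nat.lt_or_ge i.val (r + 3) with h1 | h1
    · rw [hσc i (by omega) (by omega), hw _ (by omega)]
    rcases Nat.lt_or_ge i.val (r + 4) with h' | h'
    · rw [hσ1 i (by omega), hf1.w_eq, hBf1, hw _ le_rfl, one_mul]
    · rw [hσ2 i (by omega), hf2.w_eq, hBf2, hw _ le_rfl, one_mul]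
  · intro i j hij hc'
    rw [hσ0 i hc'.1, hσc j (by omega) (by omega)]
    have : j.val - 2 = 0 := by omega
    rw [this, hl1.a_eq, hAl1, one_mul]
  · intro i j hij hc'
    rw [hσ0' i hc'.1, hσc j (by omega) (by omega)]
    have : j.val - 2 = 0 := by omega
    rw [this, hl2.a_eq, hAl2, one_mul]
  · intro i j hij hc'
    rcases Nat.lt_or_ge j.val (r + 3) with h | h
    · rw [hσc i (by omega) (by omega), hσc j (by omega) (by omega)]
      have : j.val - 2 = (i.val - 2) + 1 := by omega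
      rw [this, a_chain hr hc hA hB _ (by omega), hA1, one_mul]
    · rw [hσc i (by omega) (by omega), hσ1 j (by omega), T.symm.apply]
      have : i.val - 2 = r := by omega
      rw [this, hf1.a_eq, hBf1, hw _ le_rfl, one_mul]
  · intro i j hij hc'
    rw [hσc i (by omega) (by omega), hσ2 j (by omega), T.symm.apply]
    have : i.val - 2 = r := by omega
    rw [this, hf2.a_eq, hBf2, hw _ le_rfl, one_mul]
  · intro i j hij h1 h2 h3 h4
    apply a_zero_of_not_pAdj hadj i j (by intro h; rw [h] at hij; omega)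
    simp only [PAdj]
    omega

end Groth.Agent.Lib.Helper26.NTC
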