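import Groth.Agent.Lib.Helper26.NTC7

set_option autoImplicit false
open Finset Models

namespace Groth.Agent.Lib.Helper26.NTC

variable {n : ℕ} {T : NumericalType n}

/-- all indices regular: the `n`-cycle, family 1 -/
theorem fam_cycle (hn : 3 ≤ n) (hall : ∀ v, Reg T v)
    (prop : ∀ i j, xf T i * T.m j = xf T j * T.m i) : ∃ σ m w, Fam1 T σ m w := by
  classical
  let p0 : Fin n := ⟨0, by omega⟩
  obtain ⟨p1, b, hp0⟩ := hall p0
  have h01 : Adj T p0 p1 := hp0.adj_left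
  obtain ⟨r, hr2, hret, hinj⟩ := exists_return h01 hall
  have hreg : ∀ k, 1 ≤ k → k < r + 2 → Reg T (ch T p0 p1 k) := fun _ _ _ => hall _
  have hR : ∀ k, k + 1 ≤ r →
      IsReg T (ch T p0 p1 (k + 1)) (ch T p0 p1 k) (ch T p0 p1 (k + 2)) :=
    fun k hk => ch_isReg h01 hreg k (by omega)
  -- the structure at `p0`
  have hR0 : IsReg T p0 (ch T p0 p1 (r - 1)) p1 := by
    have h := hR (r - 1) (by omega)
    have e1 : r - 1 + 1 = r := by omega
    have e2 : r - 1 + 2 = r + 1 := by omega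
    rw [e1, e2, hret] at h
    rcases h.eq_or_eq h01 with h' | h'
    · exfalso
      have : 1 = r - 1 := hinj 1 (r - 1) (by omega) (by omega) (by rw [ch_one]; exact h')
      have hr : r = 2 := by omega
      have := ch_ne2 h01 hreg 0 (by omega)
      rw [hr] at hret
      exact this hret
    · rw [← h'] at h; exact h
  -- neighbours
  have hnbr : ∀ i, i < r → ∀ u, Adj T (ch T p0 p1 i) u →
      ∃ j, j < r ∧ u = ch T p0 p1 j ∧ (j = i + 1 ∨ i = j + 1 ∨ (i = 0 ∧ j + 1 = r) ∨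
        (j = 0 ∧ i + 1 = r)) := by
    intro i hi u hu
    rcases Nat.eq_zero_or_pos i with h0 | h0
    · subst h0
      rw [ch_zero] at hu
      rcases hR0.eq_or_eq hu with h | h
      · exact ⟨r - 1, by omega, h, Or.inr (Or.inr (Or.inl ⟨rfl, by omega⟩))⟩
      · exact ⟨1, by omega, by rw [ch_one]; exact h, Or.inl rfl⟩
    · have h := hR (i - 1) (by omega)
      have e1 : i - 1 + 1 = i := by omega
      have e2 : i - 1 + 2 = i + 1 := by omega
      rw [e1, e2] at h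
      rcases h.eq_or_eq hu with h' | h'
      · exact ⟨i - 1, by omega, h', Or.inr (Or.inl (by omega))⟩
      · rcases Nat.lt_or_ge (i + 1) r with h1 | h1
        · exact ⟨i + 1, h1, h', Or.inl rfl⟩
        · have : i + 1 = r := by omega
          rw [this, hret] at h'
          exact ⟨0, by omega, by rw [ch_zero]; exact h', Or.inr (Or.inr (Or.inr ⟨rfl, this⟩))⟩
  -- the chain visits everything
  have hD : (Finset.range r).image (ch T p0 p1) = univ := by
    refine eq_univ_of_closed (T := T) _ ⟨ch T p0 p1 0, Finset.mem_image.2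
      ⟨0, Finset.mem_range.2 (by omega), rfl⟩⟩ (fun i hi j hji hij => ?_)
    obtain ⟨i', hi', rfl⟩ := Finset.mem_image.1 hi
    obtain ⟨j', hj', rfl, -⟩ := hnbr i' (Finset.mem_range.1 hi') j ⟨hji.symm, hij⟩
    exact Finset.mem_image.2 ⟨j', Finset.mem_range.2 hj', rfl⟩
  have hrn : r = n := by
    have h1 := Finset.card_image_of_injOn (s := Finset.range r) (f := ch T p0 p1) (by
      intro i hi j hj h
      exact hinj i j (Finset.mem_range.1 (Finset.mem_coe.1 hi))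
        (Finset.mem_range.1 (Finset.mem_coe.1 hj)) h)
    rw [hD, Finset.card_univ, Fintype.card_fin, Finset.card_range] at h1
    exact h1.symm
  subst hrn
  have hinj' : Function.Injective (fun i : Fin r => ch T p0 p1 i.val) := by
    intro i j h
    exact Fin.ext (hinj i.val j.val i.isLt j.isLt h)
  -- entries
  have hfwd : ∀ k, k < r → cc T (ch T p0 p1 k) (ch T p0 p1 (k + 1)) = 1 := by
    intro k hk
    rcases Nat.eq_zero_or_pos k with h0 | h0
    · subst h0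
      rw [ch_zero, ch_one]; exact hR0.2.2.2.2.1
    · have h := hR (k - 1) (by omega)
      have e1 : k - 1 + 1 = k := by omega
      have e2 : k - 1 + 2 = k + 1 := by omega
      rw [e1, e2] at h
      exact h.2.2.2.2.1
  have hbwd : ∀ k, k < r → cc T (ch T p0 p1 (k + 1)) (ch T p0 p1 k) = 1 :=
    fun k hk => (hR k (by omega)).2.2.2.1
  have hw : ∀ k, k ≤ r → T.w (ch T p0 p1 k) = T.w p0 := by
    intro k
    induction k with
    | zero => intro _; rfl
    | succ k ih =>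
      intro hk
      have hs := w_cc_symm T (ch T p0 p1 (k + 1)) (ch T p0 p1 k)
      rw [hbwd k (by omega), hfwd k (by omega), mul_one, mul_one] at hs
      rw [hs]; exact ih (by omega)
  have hbij : Function.Bijective (fun i : Fin r => ch T p0 p1 i.val) :=
    ⟨hinj', Finite.injective_iff_surjective.1 hinj'⟩
  obtain ⟨σ, hσ⟩ : ∃ σ : Equiv.Perm (Fin r), ∀ i, σ i = ch T p0 p1 i.val :=
    ⟨Equiv.ofBijective _ hbij, fun i => rfl⟩
  refine ⟨σ, T.m p0, T.w p0, ?_, ?_, ?_, ?_, ?_⟩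
  · intro i
    rw [hσ]
    have := prop (ch T p0 p1 i.val) p0
    rw [Reg.xf_eq (hall _), Reg.xf_eq (hall _)] at this
    linarith
  · intro i
    rw [hσ]
    exact hw _ (by omega)
  · intro i j hij hj
    rw [hσ, hσ]
    rw [hj, a_eq_w_cc, hfwd _ i.isLt, mul_one]
    exact hw _ (by omega)
  · intro i j hij hc
    rw [hσ, hσ]
    have e : j.val = r - 1 := by omega
    rw [hc.1, e, ch_zero, a_eq_w_cc, hR0.2.2.2.1, mul_one]
  · intro i j hij h1 h2
    rw [hσ, hσ]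
    apply a_zero_of_cc
    by_contra hne
    have hij' : ch T p0 p1 i.val ≠ ch T p0 p1 j.val := by
      intro h
      have := hinj i.val j.val i.isLt j.isLt h
      omega
    obtain ⟨j', hj', hjj, hcase⟩ := hnbr i.val i.isLt _ ⟨hij', hne⟩
    have := hinj j.val j' j.isLt hj' hjj
    omega


variable (T) in
/-- the seven infinite families -/
def Fams : Prop := ∃ (σ : Equiv.Perm (Fin n)) (m w : ℤ),
  (Fam1 T σ m w ∨ Fam2 T σ m w ∨ Fam3 T σ m w ∨ Fam4 T σ m w ∨ Fam5 T σ m w ∨ Fam6 T σ m w ∨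
    Fam7 T σ m w)

variable (T) in
/-- the seven infinite families, remembering the range of `n` for the forked ones -/
def Fams' : Prop := ∃ (σ : Equiv.Perm (Fin n)) (m w : ℤ),
  (Fam1 T σ m w ∨ Fam2 T σ m w ∨ Fam3 T σ m w ∨ Fam4 T σ m w ∨ (Fam5 T σ m w ∧ 5 ≤ n) ∨
    Fam6 T σ m w ∨ (Fam7 T σ m w ∧ 6 ≤ n))

theorem Fams'.fams (h : Fams' T) : Fams T := by
  obtain ⟨σ, m, w, h⟩ := h
  refine ⟨σ, m, w, ?_⟩
  rcases h with h | h | h | h | h | h | h
  · exact Or.inl h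
  · exact Or.inr (Or.inl h)
  · exact Or.inr (Or.inr (Or.inl h))
  · exact Or.inr (Or.inr (Or.inr (Or.inl h)))
  · exact Or.inr (Or.inr (Or.inr (Or.inr (Or.inl h.1))))
  · exact Or.inr (Or.inr (Or.inr (Or.inr (Or.inr (Or.inl h)))))
  · exact Or.inr (Or.inr (Or.inr (Or.inr (Or.inr (Or.inr h.1)))))

theorem rev_config {q : ℕ → Fin n} {r : ℕ} {A B : List (Fin n)} (hr : 1 ≤ r) (hc : IsChain T q r)
    (hA : IsEnd T (q 0) (q 1) A) (hB : IsEnd T (q r) (q (r - 1)) B) :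
    ∃ q' : ℕ → Fin n, IsChain T q' r ∧ IsEnd T (q' 0) (q' 1) B ∧ IsEnd T (q' r) (q' (r - 1)) A ∧
      q' 0 = q r ∧ q' 1 = q (r - 1) ∧ q' r = q 0 ∧ q' (r - 1) = q 1 := by
  have e1 : r - r = 0 := Nat.sub_self r
  have e2 : r - (r - 1) = 1 := by omega
  refine ⟨fun k => q (r - k), hc.rev, hB, ?_, rfl, rfl, ?_, ?_⟩
  · show IsEnd T (q (r - r)) (q (r - (r - 1))) A
    rw [e1, e2]; exact hA
  · show q (r - r) = q 0
    rw [e1]
  · show q (r - (r - 1)) = q 1
    rw [e2]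

/-- **Case 2**: if `xf` is subharmonic the type is in one of the seven families, or a star. -/
theorem case2_fams (h2 : AllTwo T) (hn : 3 ≤ n) (hnb : NoBad T) :
    Fams' T ∨ ∃ v, xf T v = 2 ∧ (∀ u, u ≠ v → cc T v u ≠ 0 → xf T u = 1) ∧ degc T v = 4 := by
  obtain ⟨prop, harm⟩ := harm_of_noBad h2 (by omega) hnb
  rcases case2 harm hn with hall | hstar | ⟨q, r, A, B, hr, hc, hA, hB⟩
  · left
    obtain ⟨σ, m, w, h⟩ := fam_cycle hn hall prop
    exact ⟨σ, m, w, Or.inl h⟩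
  · exact Or.inr hstar
  left
  -- normalise the order of the two ends
  have main : ∀ (q : ℕ → Fin n) (A B : List (Fin n)), IsChain T q r → IsEnd T (q 0) (q 1) A →
      IsEnd T (q r) (q (r - 1)) B → Fams' T := by
    intro q A B hc hA hB
    rcases hA.2.2.2.2 with ⟨hA0, hA2⟩ | ⟨l, hA0, hA1, hAl⟩ | ⟨l1, l2, hA0, -, hA1, hAl1, hAl2⟩ <;>
    rcases hB.2.2.2.2 with ⟨hB0, hB2⟩ | ⟨l', hB0, hB1, hBl⟩ | ⟨f1, f2, hB0, -, hB1, hBf1, hBf2⟩
    · subst hA0; subst hB0
      obtain ⟨σ, m, w, h⟩ := fam_QQ hr hc hA hB hA2 hB2 prop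
      exact ⟨σ, m, w, Or.inr (Or.inr (Or.inl h))⟩
    · subst hA0; subst hB0
      obtain ⟨σ, m, w, h⟩ := fam_QP hr hc hA hB hA2 hB1 hBl prop
      exact ⟨σ, m, w, Or.inr (Or.inl h)⟩
    · subst hA0; subst hB0
      obtain ⟨σ, m, w, h⟩ := fam_QF hr hc hA hB hA2 hB1 hBf1 hBf2 prop
      exact ⟨σ, m, w, Or.inr (Or.inr (Or.inr (Or.inr (Or.inr (Or.inl h)))))⟩
    · subst hA0; subst hB0
      obtain ⟨q', hc', hA', hB', e1, e2, e3, e4⟩ := rev_config hr hc hA hB
      obtain ⟨σ, m, w, h⟩ := fam_QP hr hc' hA' hB' (by rw [e1, e2]; exact hB2)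
        (by rw [e3, e4]; exact hA1) (by rw [e3]; exact hAl) prop
      exact ⟨σ, m, w, Or.inr (Or.inl h)⟩
    · subst hA0; subst hB0
      obtain ⟨σ, m, w, h⟩ := fam_PP hr hc hA hB hA1 hAl hB1 hBl prop
      exact ⟨σ, m, w, Or.inr (Or.inr (Or.inr (Or.inl h)))⟩
    · subst hA0; subst hB0
      obtain ⟨h5, σ, m, w, h⟩ := fam_PF hr hc hA hB hA1 hAl hB1 hBf1 hBf2 prop
      exact ⟨σ, m, w, Or.inr (Or.inr (Or.inr (Or.inr (Or.inl ⟨h, h5⟩))))⟩
    · subst hA0; subst hB0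
      obtain ⟨q', hc', hA', hB', e1, e2, e3, e4⟩ := rev_config hr hc hA hB
      obtain ⟨σ, m, w, h⟩ := fam_QF hr hc' hA' hB' (by rw [e1, e2]; exact hB2)
        (by rw [e3, e4]; exact hA1) (by rw [e3]; exact hAl1) (by rw [e3]; exact hAl2) prop
      exact ⟨σ, m, w, Or.inr (Or.inr (Or.inr (Or.inr (Or.inr (Or.inl h)))))⟩
    · subst hA0; subst hB0
      obtain ⟨q', hc', hA', hB', e1, e2, e3, e4⟩ := rev_config hr hc hA hB
      obtain ⟨h5, σ, m, w, h⟩ := fam_PF hr hc' hA' hB' (by rw [e1, e2]; exact hB1)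
        (by rw [e1]; exact hBl) (by rw [e3, e4]; exact hA1) (by rw [e3]; exact hAl1)
        (by rw [e3]; exact hAl2) prop
      exact ⟨σ, m, w, Or.inr (Or.inr (Or.inr (Or.inr (Or.inl ⟨h, h5⟩))))⟩
    · subst hA0; subst hB0
      obtain ⟨h6, σ, m, w, h⟩ := fam_FF hr hc hA hB hA1 hAl1 hAl2 hB1 hBf1 hBf2 prop
      exact ⟨σ, m, w, Or.inr (Or.inr (Or.inr (Or.inr (Or.inr (Or.inr ⟨h, h6⟩)))))⟩
  exact main q A B hc hA hB

end Groth.Agent.Lib.Helper26.NTC
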