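import Groth.Agent.Lib.Helper26.NTC8

/-!
# Bad indices, arms, and exploration tools

If `xf` is not subharmonic there is a regular index adjacent to a simple leaf (`exists_bad`); the
chain starting at the leaf is an arm along which `m` is an arithmetic progression (`arm`).
Small tools for exploring neighbours through the row relation.
-/

set_option autoImplicit false
open Finset Models

namespace Groth.Agent.Lib.Helper26.NTC

variable {n : ℕ} {T : NumericalType n}

variable (T) in
/-- all neighbours of `v` lie in the list `L` -/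
def NbrsIn (v : Fin n) (L : List (Fin n)) : Prop := ∀ u, u ≠ v → u ∉ L → cc T v u = 0

section tools

variable (h2 : AllTwo T)
include h2

theorem nbrsIn_one {v a : Fin n} (hav : a ≠ v) (h : cc T v a * T.m a = 2 * T.m v) :
    NbrsIn T v [a] := by
  intro u hu hua
  refine cc_eq_zero_of_row_eq h2 v {a} (by simpa using hav.symm) (by simpa using h) u hu ?_
  simpa using hua

theorem nbrsIn_two {v a b : Fin n} (hav : a ≠ v) (hbv : b ≠ v) (hab : a ≠ b)
    (h : cc T v a * T.m a + cc T v b * T.m b = 2 * T.m v) : NbrsIn T v [a, b] := by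
  intro u hu hua
  refine cc_eq_zero_of_row_eq h2 v {a, b} (by simp [hav.symm, hbv.symm])
    (by rw [Finset.sum_pair hab]; exact h) u hu ?_
  simpa using hua

theorem nbrsIn_three {v a b c : Fin n} (hav : a ≠ v) (hbv : b ≠ v) (hcv : c ≠ v) (hab : a ≠ b)
    (hac : a ≠ c) (hbc : b ≠ c)
    (h : cc T v a * T.m a + cc T v b * T.m b + cc T v c * T.m c = 2 * T.m v) :
    NbrsIn T v [a, b, c] := by
  intro u hu hua
  refine cc_eq_zero_of_row_eq h2 v {a, b, c} (by simp [hav.symm, hbv.symm, hcv.symm])
    (by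
      rw [Finset.sum_insert (by simp [hab, hac]), Finset.sum_pair hbc]
      linarith) u hu ?_
  simpa using hua

theorem child_one {v a : Fin n} (hav : a ≠ v) (h : cc T v a * T.m a < 2 * T.m v) :
    ∃ u, u ≠ v ∧ u ≠ a ∧ 0 < cc T v u ∧ cc T v a * T.m a + cc T v u * T.m u ≤ 2 * T.m v := by
  obtain ⟨u, hu, hua, hpos⟩ := exists_of_row_lt h2 v {a} (by simpa using hav.symm)
    (by simpa using h)
  have hua' : u ≠ a := by simpa using hua
  refine ⟨u, hu, hua', hpos, ?_⟩
  have := row_le h2 v {a, u} (by simp [hav.symm, hu.symm])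
  rwa [Finset.sum_pair hua'.symm] at this

theorem child_two {v a b : Fin n} (hav : a ≠ v) (hbv : b ≠ v) (hab : a ≠ b)
    (h : cc T v a * T.m a + cc T v b * T.m b < 2 * T.m v) :
    ∃ u, u ≠ v ∧ u ≠ a ∧ u ≠ b ∧ 0 < cc T v u ∧
      cc T v a * T.m a + cc T v b * T.m b + cc T v u * T.m u ≤ 2 * T.m v := by
  obtain ⟨u, hu, hua, hpos⟩ := exists_of_row_lt h2 v {a, b} (by simp [hav.symm, hbv.symm])
    (by rw [Finset.sum_pair hab]; exact h)
  have hua' : u ≠ a ∧ u ≠ b := by simpa using hua
  refine ⟨u, hu, hua'.1, hua'.2, hpos, ?_⟩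
  have := row_le h2 v {a, b, u} (by simp [hav.symm, hbv.symm, hu.symm])
  rw [Finset.sum_insert (by simp [hab, hua'.1.symm]), Finset.sum_pair hua'.2.symm] at this
  linarith

theorem child_three {v a b c : Fin n} (hav : a ≠ v) (hbv : b ≠ v) (hcv : c ≠ v) (hab : a ≠ b)
    (hac : a ≠ c) (hbc : b ≠ c)
    (h : cc T v a * T.m a + cc T v b * T.m b + cc T v c * T.m c < 2 * T.m v) :
    ∃ u, u ≠ v ∧ u ≠ a ∧ u ≠ b ∧ u ≠ c ∧ 0 < cc T v u ∧
      cc T v a * T.m a + cc T v b * T.m b + cc T v c * T.m c + cc T v u * T.m u ≤ 2 * T.m v := by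
  obtain ⟨u, hu, hua, hpos⟩ := exists_of_row_lt h2 v {a, b, c}
    (by simp [hav.symm, hbv.symm, hcv.symm])
    (by
      rw [Finset.sum_insert (by simp [hab, hac]), Finset.sum_pair hbc]
      linarith)
  have hua' : u ≠ a ∧ u ≠ b ∧ u ≠ c := by simpa using hua
  refine ⟨u, hu, hua'.1, hua'.2.1, hua'.2.2, hpos, ?_⟩
  have := row_le h2 v {a, b, c, u} (by simp [hav.symm, hbv.symm, hcv.symm, hu.symm])
  rw [Finset.sum_insert (by simp [hab, hac, hua'.1.symm]),
    Finset.sum_insert (by simp [hbc, hua'.2.1.symm]), Finset.sum_pair hua'.2.2.symm] at this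
  linarith

/-- a neighbour `u` of `v`: the reverse entry is positive and `m v ≤ 2 m u` -/
theorem back {u v : Fin n} (huv : u ≠ v) (h : 0 < cc T v u) :
    0 < cc T u v ∧ cc T u v * T.m v ≤ 2 * T.m u ∧ T.m v ≤ 2 * T.m u := by
  have h1 := cc_symm_pos T huv.symm h
  have h3 := half_le h2 huv
  refine ⟨h1, h3, ?_⟩
  have := T.m_pos v
  nlinarith

theorem row_one {v a : Fin n} (hav : a ≠ v) : cc T v a * T.m a ≤ 2 * T.m v := half_le h2 hav.symm

end tools

/-- a bad index: a regular index adjacent to a simple leaf -/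
theorem exists_bad (h2 : AllTwo T) (hn : 3 ≤ n) (hnb : ¬ NoBad T) :
    ∃ l v j, IsLeaf T l v ∧ IsReg T v l j := by
  classical
  unfold NoBad at hnb
  push Not at hnb
  obtain ⟨v, hv⟩ := hnb
  rcases xf_eq_one_or (T := T) v with hx | hx
  · -- a leaf cannot be bad
    exfalso
    obtain ⟨u, hu⟩ := exists_isLeaf ((xf_eq_one_iff v).1 hx)
    rw [hx, ← Finset.add_sum_erase _ _ (Finset.mem_erase.2 ⟨hu.1, mem_univ u⟩), hu.2.1,
      Finset.sum_eq_zero] at hv
    · have hxu : xf T u = 1 := by
        rcases xf_eq_one_or (T := T) u with h | h <;> [exact h; omega]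
      have hu' := isLeaf_of_xf hxu hu.1 (by rw [hu.2.1]; norm_num)
      have hD : ({v, u} : Finset (Fin n)) = univ := by
        refine eq_univ_of_closed (T := T) _ ⟨v, by simp⟩ (fun i hi j hji hij => ?_)
        simp only [Finset.mem_insert, Finset.mem_singleton] at hi ⊢
        rcases hi with rfl | rfl
        · right; exact hu.eq_of_adj ⟨hji.symm, hij⟩
        · left; exact hu'.eq_of_adj ⟨hji.symm, hij⟩
      have := congrArg Finset.card hD
      rw [Finset.card_univ, Fintype.card_fin] at this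
      have h2' : ({v, u} : Finset (Fin n)).card ≤ 2 := Finset.card_le_two
      omega
    · intro u' hu'
      rw [hu.2.2 u' (Finset.ne_of_mem_erase (Finset.mem_of_mem_erase hu'))
        (Finset.ne_of_mem_erase hu'), zero_mul]
  · rw [hx] at hv
    set S := univ.erase v with hS
    set N2 := S.filter (fun u => xf T u = 2) with hN2
    set N1 := S.filter (fun u => xf T u = 1) with hN1
    have hN1' : S.filter (fun u => ¬ xf T u = 2) = N1 := by
      ext u
      simp only [hN1, Finset.mem_filter, and_congr_right_iff]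
      intro _
      rcases xf_eq_one_or (T := T) u with h | h <;> simp [h]
    have hsplit : ∑ u ∈ S, cc T v u * xf T u = 2 * ∑ u ∈ N2, cc T v u + ∑ u ∈ N1, cc T v u := by
      have h1 : ∑ u ∈ S, cc T v u * xf T u =
          ∑ u ∈ N2, cc T v u * xf T u + ∑ u ∈ S.filter (fun u => ¬ xf T u = 2), cc T v u * xf T u :=
        (Finset.sum_filter_add_sum_filter_not S _ _).symm
      rw [h1, hN1', Finset.mul_sum]
      congr 1
      · refine Finset.sum_congr rfl (fun u hu => ?_)
        rw [(Finset.mem_filter.1 hu).2]; ring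
      · refine Finset.sum_congr rfl (fun u hu => ?_)
        rw [(Finset.mem_filter.1 hu).2]; ring
    have hdeg : degc T v = ∑ u ∈ N2, cc T v u + ∑ u ∈ N1, cc T v u := by
      unfold degc
      rw [← hS, ← hN1']
      exact (Finset.sum_filter_add_sum_filter_not S _ _).symm
    have hnn2 : ∀ u ∈ N2, 0 ≤ cc T v u := fun u hu => cc_nonneg_erase v u (Finset.mem_filter.1 hu).1
    have hnn1 : ∀ u ∈ N1, 0 ≤ cc T v u := fun u hu => cc_nonneg_erase v u (Finset.mem_filter.1 hu).1
    have hs2 := Finset.sum_nonneg hnn2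
    have hs1 := Finset.sum_nonneg hnn1
    have hdpos := degc_pos (T := T) (by omega : 2 ≤ n) v
    have hdne : degc T v ≠ 1 := (xf_eq_two_iff v).1 hx
    rw [hsplit] at hv
    have hmem : ∀ u, u ≠ v → u ∈ N2 ∨ u ∈ N1 := by
      intro u hu
      rcases xf_eq_one_or (T := T) u with h | h
      · right; exact Finset.mem_filter.2 ⟨Finset.mem_erase.2 ⟨hu, mem_univ _⟩, h⟩
      · left; exact Finset.mem_filter.2 ⟨Finset.mem_erase.2 ⟨hu, mem_univ _⟩, h⟩
    have hd2 : ∑ u ∈ N2, cc T v u = 0 ∨ ∑ u ∈ N2, cc T v u = 1 := by omega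
    rcases hd2 with hd2 | hd2
    · -- all neighbours are leaves: impossible
      exfalso
      have hz := sum_zero_all hnn2 hd2
      have hrow := row h2 v
      have h4 : ∑ u ∈ univ.erase v, cc T v u * (2 * T.m u) = ∑ u ∈ univ.erase v, cc T v u * T.m v := by
        refine Finset.sum_congr rfl (fun u hu => ?_)
        have huv := Finset.ne_of_mem_erase hu
        by_cases h0 : cc T v u = 0
        · rw [h0, zero_mul, zero_mul]
        · rcases hmem u huv with h | h
          · exact absurd (hz u h) h0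
          · have hl := isLeaf_of_xf (Finset.mem_filter.1 h).2 huv h0
            rw [hl.m_eq h2]
      have h5 : ∑ u ∈ univ.erase v, cc T v u * (2 * T.m u) = 2 * (2 * T.m v) := by
        rw [← hrow, Finset.mul_sum]
        refine Finset.sum_congr rfl (fun u _ => ?_)
        ring
      rw [h5, ← Finset.sum_mul] at h4
      have h6 : (∑ u ∈ univ.erase v, cc T v u) = degc T v := rfl
      rw [h6] at h4
      have hm := T.m_pos v
      have : degc T v = 4 := by
        have : (degc T v - 4) * T.m v = 0 := by linarith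
        rcases mul_eq_zero.1 this with h | h
        · linarith
        · omega
      omega
    · have hd1 : ∑ u ∈ N1, cc T v u = 1 := by omega
      obtain ⟨j, hj, hj1, hj0⟩ := sum_one hnn2 hd2
      obtain ⟨l, hl, hl1, hl0⟩ := sum_one hnn1 hd1
      have hjv : j ≠ v := Finset.ne_of_mem_erase (Finset.mem_filter.1 hj).1
      have hlv : l ≠ v := Finset.ne_of_mem_erase (Finset.mem_filter.1 hl).1
      have hlj : l ≠ j := by
        intro h
        have h1 := (Finset.mem_filter.1 hj).2
        have h2' := (Finset.mem_filter.1 hl).2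
        rw [h] at h2'; omega
      refine ⟨l, v, j, isLeaf_of_xf (Finset.mem_filter.1 hl).2 hlv (by rw [hl1]; norm_num),
        hlj, hlv, hjv, hl1, hj1, fun u hu hul huj => ?_⟩
      rcases hmem u hu with h | h
      · exact hj0 u h huj
      · exact hl0 u h hul

/-- **The arm** from a simple leaf `l` attached to a regular index `v`. -/
theorem arm (h2 : AllTwo T) {l v j : Fin n} (hl : IsLeaf T l v) (hv : IsReg T v l j) :
    ∃ r, 2 ≤ r ∧ ¬ Reg T (ch T l v r) ∧ (∀ k, 1 ≤ k → k < r → Reg T (ch T l v k)) ∧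
      (∀ k, k ≤ r → T.m (ch T l v k) = (k + 1) * T.m l) ∧
      (∀ a b, a ≤ r → b ≤ r → ch T l v a = ch T l v b → a = b) := by
  have h01 : Adj T l v := hl.adj
  have hp0 : ∀ u, Reg T u → Adj T u l → u = v := fun u _ hu => hl.eq_of_adj hu.symm
  obtain ⟨r, hr1, hnreg, hreg⟩ := exists_stop h01 hp0
  have hr2 : 2 ≤ r := by
    by_contra hlt
    have : r = 1 := by omega
    rw [this, ch_one] at hnreg
    exact hnreg ⟨l, j, hv⟩
  have hm : ∀ k, k ≤ r → T.m (ch T l v k) = (k + 1) * T.m l ∧
      (k + 1 ≤ r → T.m (ch T l v (k + 1)) = (k + 2) * T.m l) := by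
    intro k
    induction k with
    | zero =>
      intro _
      refine ⟨by simp, fun _ => ?_⟩
      rw [ch_one, hl.m_eq h2]; push_cast; ring
    | succ k ih =>
      intro hk
      obtain ⟨ih1, ih2⟩ := ih (by omega)
      have ih2' := ih2 hk
      refine ⟨by rw [ih2']; push_cast; ring, fun hk' => ?_⟩
      have hR := ch_isReg h01 hreg k (by omega)
      have hrow := row h2 (ch T l v (k + 1))
      obtain ⟨hne, h1, h2', hc1, hc2, h0⟩ := hR
      rw [← Finset.add_sum_erase _ _ (Finset.mem_erase.2 ⟨h1, mem_univ _⟩),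
        ← Finset.add_sum_erase _ _ (Finset.mem_erase.2 ⟨hne.symm, Finset.mem_erase.2 ⟨h2', mem_univ _⟩⟩),
        hc1, hc2, Finset.sum_eq_zero] at hrow
      · rw [ih1, ih2'] at hrow
        push_cast at hrow ⊢
        linarith
      · intro u hu
        have e1 := Finset.ne_of_mem_erase hu
        have e2 := Finset.ne_of_mem_erase (Finset.mem_of_mem_erase hu)
        have e3 := Finset.ne_of_mem_erase (Finset.mem_of_mem_erase (Finset.mem_of_mem_erase hu))
        rw [h0 u e3 e2 e1, zero_mul]
  exact ⟨r, hr2, hnreg, hreg, fun k hk => (hm k hk).1, ch_injOn h01 hreg hp0 r le_rfl⟩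

end Groth.Agent.Lib.Helper26.NTC
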