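import Mathlib
import Groth.Agent.Lib.Helper26.NearB

set_option autoImplicit false
set_option backward.isDefEq.respectTransparency.types false
universe u v
open AlgebraicGeometry CategoryTheory CategoryTheory.Limits MonoidalCategory
  CartesianMonoidalCategory MonObj GrpObj
open Groth.Agent.Lib.Helper20 Groth.Agent.Lib.Helper26 Groth.Agent.Lib.Helper26.NearA
  Groth.Agent.Lib.Helper26.NearB

namespace Groth.Agent.Lib.Helper26.NearC

open Groth.Agent.Lib.Helper10.GrpTranslate Groth.Agent.Lib.Helper10.HomSp in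
/-- the largest open on which a homomorphism of group schemes has a property `Q` (whose locus is a
`NearProp`, and which implies flat and lfp) is an open subgroup -/
theorem maxOpen_isSubgroup (Q : MorphismProperty Scheme.{u}) [Q.RespectsIso]
    (hQ : NearProp (fun {X Y : Scheme.{u}} (f : X ⟶ Y) (x : X) => HoldsNear Q f x))
    (hQfl : ∀ {X Y : Scheme.{u}} (f : X ⟶ Y), Q f → Flat f ∧ LocallyOfFinitePresentation f)
    (S : Scheme.{u}) (G H : Over S) [GrpObj G] [GrpObj H] (u : G ⟶ H) [IsMonHom u]
    (hfl : Flat G.hom ∨ Flat H.hom)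
    (hfp : LocallyOfFinitePresentation G.hom ∨ LocallyOfFinitePresentation H.hom)
    (V : G.left.Opens) (hV : Q (V.ι ≫ u.left))
    (hmax : ∀ W : G.left.Opens, Q (W.ι ≫ u.left) → W ≤ V) :
    IsOpen (G.hom.base '' (V : Set G.left)) ∧
    (∀ g ∈ V, ∀ p : ↥(𝟙_ (Over S)).left, (𝟙_ (Over S)).hom.base p = G.hom.base g →
      η[G].left.base p ∈ V) ∧
    (∀ g ∈ V, ι[G].left.base g ∈ V) ∧
    (∀ z : ↥(G ⊗ G).left, (fst G G).left.base z ∈ V → (snd G G).left.base z ∈ V →
      μ[G].left.base z ∈ V) := by
  have hw : u.left ≫ H.hom = G.hom := Over.w u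
  obtain ⟨hVfl, hVfp⟩ := hQfl _ hV
  -- `V` is the locus of `Q`
  have hloc : ∀ x : G.left, x ∈ V ↔ HoldsNear Q u.left x := by
    intro x
    constructor
    · intro hx
      exact holdsNear_of_opens Q u.left V hV x hx
    · intro hx
      obtain ⟨U, hxU, hU⟩ := (holdsNear_iff_opens Q u.left x).1 hx
      exact hmax U hU hxU
  -- `V` is flat and lfp over `S`
  have e0 : V.ι ≫ G.hom = (V.ι ≫ u.left) ≫ H.hom := by rw [Category.assoc, hw]
  have hVSfl : Flat (V.ι ≫ G.hom) := by
    rcases hfl with h | h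
    · infer_instance
    · rw [e0]; infer_instance
  have hVSfp : LocallyOfFinitePresentation (V.ι ≫ G.hom) := by
    rcases hfp with h | h
    · infer_instance
    · rw [e0]; infer_instance
  let T : Over S := Over.mk (V.ι ≫ G.hom)
  let j : T ⟶ G := Over.homMk V.ι rfl
  haveI : Flat T.hom := hVSfl
  haveI : LocallyOfFinitePresentation T.hom := hVSfp
  -- inverse
  have hinv : ∀ g ∈ V, ι[G].left.base g ∈ V := by
    intro g hg
    haveI : IsIso ι[G].left := inferInstanceAs (IsIso ((Over.forget _).map ι[G]))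
    haveI : IsIso ι[H].left := inferInstanceAs (IsIso ((Over.forget _).map ι[H]))
    rw [hloc] at hg
    change ι[G].left g ∈ V
    rw [hloc, ← hQ.iso_source ι[G].left u.left g]
    have e : ι[G].left ≫ u.left = u.left ≫ ι[H].left := by
      rw [← Over.comp_left, ← Over.comp_left, GrpObj.inv_hom u]
    rw [e, hQ.iso_target]
    exact hg
  -- multiplication
  have hmul : ∀ z : ↥(G ⊗ G).left, (fst G G).left.base z ∈ V → (snd G G).left.base z ∈ V →
      μ[G].left.base z ∈ V := by
    intro z h1 h2
    have sq : IsPullback (j ▷ G).left (fst T G).left (fst G G).left j.left :=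
      (isPullback_whiskerRight_fst j G).map (Over.forget S)
    obtain ⟨z', hz1, -⟩ := Groth.Agent.Lib.Helper10.FlatPt.exists_preimage_of_isPullback sq z
      ⟨(fst G G).left z, h1⟩ rfl
    have key := transl_stable hQ u (T := T) j z'
    have e : transl j ≫ snd T G = (j ▷ G) ≫ μ[G] := by
      rw [transl_snd, Hom.mul_def]
      congr 1
    have e1 : (snd T G).left z' = (snd G G).left z := by
      rw [← hz1, ← Scheme.Hom.comp_apply, ← Over.comp_left, whiskerRight_snd]
    have e2 : (transl j ≫ snd T G).left z' = μ[G].left z := by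
      rw [e, Over.comp_left, Scheme.Hom.comp_apply, hz1]
    rw [e1, e2] at key
    change μ[G].left z ∈ V
    rw [hloc, ← key, ← hloc]
    exact h2
  refine ⟨?_, ?_, hinv, hmul⟩
  · have : G.hom.base '' (V : Set G.left) = Set.range (V.ι ≫ G.hom) := by
      rw [Scheme.Hom.comp_base, TopCat.coe_comp, Set.range_comp]
      congr 1
      exact (Scheme.Opens.range_ι V).symm
    rw [this]
    exact (V.ι ≫ G.hom).isOpenMap.isOpen_range
  · intro g hg p hp
    let z : (G ⊗ G).left := (lift (𝟙 G) ι[G]).left g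
    have hz1 : (fst G G).left z = g := by
      show (fst G G).left ((lift (𝟙 G) ι[G]).left g) = g
      rw [← Scheme.Hom.comp_apply, ← Over.comp_left, lift_fst, Over.id_left]
      rfl
    have hz2 : (snd G G).left z = ι[G].left g := by
      show (snd G G).left ((lift (𝟙 G) ι[G]).left g) = _
      rw [← Scheme.Hom.comp_apply, ← Over.comp_left, lift_snd]
    have hz := hmul z (by rw [hz1]; exact hg) (by rw [hz2]; exact hinv g hg)
    have hμ : μ[G].left z = η[G].left ((toUnit G).left g) := by
      show μ[G].left ((lift (𝟙 G) ι[G]).left g) = _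
      rw [← Scheme.Hom.comp_apply, ← Scheme.Hom.comp_apply, ← Over.comp_left, ← Over.comp_left,
        GrpObj.right_inv]
    have hp' : (toUnit G).left g = p := by
      rw [Over.toUnit_left]
      have h0 : (𝟙_ (Over S)).hom = 𝟙 S := Over.tensorUnit_hom
      rw [h0] at hp
      exact hp.symm
    rw [hμ, hp'] at hz
    exact hz

theorem main_5310 (S : Scheme.{u}) (G H : Over S) [GrpObj G] [GrpObj H]
    (u : G ⟶ H) [IsMonHom u]
    (hfl : Flat G.hom ∨ Flat H.hom)
    (hfp : LocallyOfFinitePresentation G.hom ∨ LocallyOfFinitePresentation H.hom)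
    (P : MorphismProperty Scheme.{u})
    (hP : (∀ (X Y : Scheme.{u}) (f : X ⟶ Y), P f ↔ (Flat f ∧ LocallyOfFinitePresentation f)) ∨
      (∀ (X Y : Scheme.{u}) (f : X ⟶ Y), P f ↔ Smooth f) ∨
      (∀ (X Y : Scheme.{u}) (f : X ⟶ Y), P f ↔ Etale f))
    (V : G.left.Opens) (hV : P (V.ι ≫ u.left))
    (hmax : ∀ W : G.left.Opens, P (W.ι ≫ u.left) → W ≤ V) :
    IsOpen (G.hom.base '' (V : Set G.left)) ∧
    (∀ g ∈ V, ∀ p : ↥(𝟙_ (Over S)).left, (𝟙_ (Over S)).hom.base p = G.hom.base g →
      η[G].left.base p ∈ V) ∧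
    (∀ g ∈ V, ι[G].left.base g ∈ V) ∧
    (∀ z : ↥(G ⊗ G).left, (fst G G).left.base z ∈ V → (snd G G).left.base z ∈ V →
      μ[G].left.base z ∈ V) := by
  rcases hP with hP | hP | hP
  · have hPQ : P = (@Flat ⊓ @LocallyOfFinitePresentation : MorphismProperty Scheme.{u}) := by
      ext X Y f
      exact hP X Y f
    subst hPQ
    exact maxOpen_isSubgroup _ nearProp_flat_lfp (fun f hf => hf) S G H u hfl hfp V hV hmax
  · have hPQ : P = @Smooth := by
      ext X Y f
      exact hP X Y f
    subst hPQ
    exact maxOpen_isSubgroup _ nearProp_smooth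
      (fun f hf => by
        haveI : Smooth f := hf
        exact ⟨inferInstance, inferInstance⟩) S G H u hfl hfp V hV hmax
  · have hPQ : P = @Etale := by
      ext X Y f
      exact hP X Y f
    subst hPQ
    exact maxOpen_isSubgroup _ nearProp_etale
      (fun f hf => by
        haveI : Etale f := hf
        exact ⟨inferInstance, inferInstance⟩) S G H u hfl hfp V hV hmax

end Groth.Agent.Lib.Helper26.NearC
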