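import Mathlib
import Groth.Agent.Lib.Helper10.NeutFib4
import Groth.Agent.Lib.Helper10.IdComp8
import Groth.Agent.Lib.Helper10.FlatPt3
import Groth.Agent.Lib.Helper10.FppfGen1
import Groth.Agent.Lib.Helper26.GrpLocA

set_option autoImplicit false
set_option backward.isDefEq.respectTransparency.types false
universe u v
open AlgebraicGeometry CategoryTheory CategoryTheory.Limits MonoidalCategory
  CartesianMonoidalCategory MonObj GrpObj
open Groth.Agent.Lib.Helper26 Groth.Agent.Lib.Helper10.IdComp Groth.Agent.Lib.Helper10.NeutFib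
  Groth.Agent.Lib.Helper10

namespace Groth.Agent.Lib.Helper26.NeutA

section Field

variable (k : Type u) [Field k] {G H : Over (Spec (CommRingCat.of k))} [GrpObj G] [GrpObj H]
  (pt : ↥(𝟙_ (Over (Spec (CommRingCat.of k)))).left)

/-- a flat lfp homomorphism of group schemes over a field (source locally of finite type) maps the
neutral component onto the neutral component -/
theorem Z0_subset_image (f : G ⟶ H) [IsMonHom f] [Flat f.left]
    [LocallyOfFinitePresentation f.left] [LocallyOfFiniteType G.hom] :
    Z0 k H pt ⊆ f.left '' Z0 k G pt := by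
  obtain ⟨inst, hmon⟩ := exists_grpObj_idObj k G pt
  letI := inst
  haveI := hmon
  let f₀ : idObj k G pt ⟶ H := idIncl k G pt ≫ f
  haveI : IsMonHom f₀ := inferInstance
  haveI : Flat (idIncl k G pt).left := flat_idIncl k G pt
  haveI : IsLocallyNoetherian G.left := LocallyOfFiniteType.isLocallyNoetherian G.hom
  haveI : LocallyOfFinitePresentation (idIncl k G pt).left := inferInstance
  haveI : Flat f₀.left := by
    change Flat ((idIncl k G pt).left ≫ f.left)
    infer_instance
  haveI : LocallyOfFinitePresentation f₀.left := by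
    change LocallyOfFinitePresentation ((idIncl k G pt).left ≫ f.left)
    infer_instance
  have hopen : IsOpen (Set.range f₀.left) := f₀.left.isOpenMap.isOpen_range
  have he : η[H].left pt ∈ Set.range f₀.left :=
    ⟨η[idObj k G pt].left pt, by
      rw [← Scheme.Hom.comp_apply, ← Over.comp_left, IsMonHom.one_hom]⟩
  intro h hh
  obtain ⟨z, hz, h1, h2⟩ := exists_mul_of_mem_Z0 k H pt h hh _ hopen he
  obtain ⟨z', hz'⟩ := FppfGen.mem_range_tensorHom f₀ z h1 h2
  refine ⟨(idIncl k G pt).left (μ[idObj k G pt].left z'), ?_, ?_⟩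
  · rw [← range_idIncl]
    exact ⟨_, rfl⟩
  · have e : μ[idObj k G pt] ≫ f₀ = (f₀ ⊗ₘ f₀) ≫ μ[H] := IsMonHom.mul_hom f₀
    have := congrArg (fun ψ => ψ.left z') e
    simp only [Over.comp_left, Scheme.Hom.comp_apply] at this
    rw [hz', hz] at this
    exact this

/-- a reduced group scheme over a field has a point of its neutral component whose local ring is
a field -/
theorem exists_isField_stalk_connectedComponent [IsReduced H.left] :
    ∃ ξ : H.left, ξ ∈ connectedComponent (η[H].left pt) ∧ IsField (H.left.presheaf.stalk ξ) := by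
  set X := H.left
  set x : X := η[H].left pt
  obtain ⟨_, ⟨U, hU, rfl⟩, hxU, -⟩ :=
    X.isBasis_affineOpens.exists_subset_of_mem_open (Set.mem_univ x) isOpen_univ
  let q : PrimeSpectrum Γ(X, U) := hU.primeIdealOf ⟨x, hxU⟩
  obtain ⟨p, hp, hpq⟩ := Ideal.exists_minimalPrimes_le (I := (⊥ : Ideal Γ(X, U)))
    (J := q.asIdeal) bot_le
  have hp' : p ∈ minimalPrimes Γ(X, U) := hp
  haveI : p.IsPrime := hp.1.1
  let y : PrimeSpectrum Γ(X, U) := ⟨p, hp.1.1⟩
  have hy : hU.fromSpec y ∈ U := by
    have : hU.fromSpec y ∈ Set.range hU.fromSpec := ⟨y, rfl⟩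
    rwa [hU.range_fromSpec] at this
  have hspec : hU.fromSpec y ⤳ x := by
    have h1 : y ⤳ q := (PrimeSpectrum.le_iff_specializes y q).1 hpq
    have h2 := h1.map hU.fromSpec.continuous
    have h3 : hU.fromSpec q = x := hU.fromSpec_primeIdealOf ⟨x, hxU⟩
    rw [h3] at h2
    exact h2
  refine ⟨hU.fromSpec y, ?_, ?_⟩
  · have hx : x ∈ closure {hU.fromSpec y} := hspec.mem_closure
    have hconn : _root_.IsPreconnected (closure {hU.fromSpec y}) :=
      (isPreconnected_singleton).closure
    exact hconn.subset_connectedComponent hx (subset_closure rfl)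
  · letI := TopCat.Presheaf.algebra_section_stalk X.presheaf ⟨hU.fromSpec y, hy⟩
    haveI : IsLocalization.AtPrime (X.presheaf.stalk (hU.fromSpec y)) p :=
      hU.isLocalization_stalk' y hy
    haveI : Ring.KrullDimLE 0 (X.presheaf.stalk (hU.fromSpec y)) :=
      Ring.KrullDimLE.of_isLocalization p hp' _
    exact Ring.KrullDimLE.isField_of_isReduced

end Field

section Global

variable {S : Scheme.{u}} (G H : Over S) [GrpObj G] [GrpObj H] (u : G ⟶ H) [IsMonHom u]

/-- the fibre homomorphism -/
noncomputable abbrev fibHom (s : S) : fib G s ⟶ fib H s :=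
  (Over.pullback (S.fromSpecResidueField s)).map u

theorem fibHom_incl (s : S) (x : (fib G s).left) :
    incl H s ((fibHom G H u s).left x) = u.left (incl G s x) := by
  obtain ⟨i1, i2, i3, hsq⟩ := GrpFlatB.exists_fibre_hom G H u s
  have := congrArg (fun ψ : (fib G s).left ⟶ H.left => ψ x) hsq.w
  exact this.symm

theorem fibHom_isPullback (s : S) :
    IsPullback (incl G s) (fibHom G H u s).left u.left (incl H s) := by
  obtain ⟨i1, i2, i3, hsq⟩ := GrpFlatB.exists_fibre_hom G H u s
  exact hsq

theorem image_neutralSet_of_flat [LocallyOfFinitePresentation G.hom]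
    [LocallyOfFinitePresentation H.hom] [Flat u.left] :
    u.left '' SGA3x.neutralSet G = SGA3x.neutralSet H := by
  have hw : u.left ≫ H.hom = G.hom := Over.w u
  haveI : LocallyOfFinitePresentation u.left :=
    Groth.Agent.Lib.Helper14.AS.locallyOfFinitePresentation_of_comp u.left H.hom
      (by rw [hw]; infer_instance) inferInstance
  apply Set.Subset.antisymm (image_neutralSet_subset H G u)
  intro h hh
  obtain ⟨h', hh', hcc⟩ := (mem_neutralSet_iff H h).1 hh
  set s := H.hom h with hs
  rw [connectedComponent_unit_eq_Z0] at hcc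
  have hsq := fibHom_isPullback G H u s
  haveI : Flat (fibHom G H u s).left :=
    MorphismProperty.of_isPullback (P := @Flat) hsq inferInstance
  haveI : LocallyOfFinitePresentation (fibHom G H u s).left :=
    MorphismProperty.of_isPullback (P := @LocallyOfFinitePresentation) hsq inferInstance
  haveI : LocallyOfFiniteType (fib G s).hom :=
    inferInstanceAs (LocallyOfFiniteType (pullback.snd G.hom (S.fromSpecResidueField s)))
  obtain ⟨g', hg', hgh⟩ := Z0_subset_image (S.residueField s) (kpt s) (fibHom G H u s) hcc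
  refine ⟨incl G s g', ?_, ?_⟩
  · rw [incl_mem_neutralSet_iff, connectedComponent_unit_eq_Z0]
    exact hg'
  · rw [← fibHom_incl, hgh]
    exact hh'

theorem flat_of_image_neutralSet [LocallyOfFinitePresentation G.hom]
    [LocallyOfFinitePresentation H.hom] [Flat G.hom]
    (hred : ∀ s : S, IsReduced (H.hom.fiber s))
    (himg : u.left '' SGA3x.neutralSet G = SGA3x.neutralSet H) : Flat u.left := by
  have hw : u.left ≫ H.hom = G.hom := Over.w u
  rw [Flat.iff_flat_stalkMap]
  intro x
  set s := G.hom x with hs
  obtain ⟨x', hx'⟩ := exists_incl G s x rfl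
  have hsq := fibHom_isPullback G H u s
  haveI : IsReduced (fib H s).left := hred s
  obtain ⟨ξ, hξcc, hξF⟩ := exists_isField_stalk_connectedComponent (S.residueField s) (kpt s)
    (H := fib H s)
  have hξ : incl H s ξ ∈ SGA3x.neutralSet H := (incl_mem_neutralSet_iff H s ξ).2 hξcc
  rw [← himg] at hξ
  obtain ⟨g, -, hg⟩ := hξ
  have hgs : G.hom g = s := by
    have h1 : H.hom (u.left g) = G.hom g := by
      rw [← Scheme.Hom.comp_apply, hw]
    rw [← h1, hg]
    exact hom_incl H s ξ
  obtain ⟨x₀, hx₀⟩ := exists_incl G s g hgs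
  have hux₀ : (fibHom G H u s).left x₀ = ξ := by
    apply incl_injective H s
    rw [fibHom_incl, hx₀, hg]
  have hfl0 : ((fibHom G H u s).left.stalkMap x₀).hom.Flat :=
    FlatPt.flatAt_of_isField (fibHom G H u s).left x₀ (by rw [hux₀]; exact hξF)
  have hflus : Flat (fibHom G H u s).left :=
    GrpLocA.flat_of_flatAt_field (k := S.residueField s) (fibHom G H u s) x₀ hfl0
  have h1 := GrpLocA.flatAt_of_fibre_flatAt u.left H.hom G.hom hw s
    (fibHom G H u s).left hsq.w.symm (Over.w (fibHom G H u s)) x'
    ((Flat.iff_flat_stalkMap (fibHom G H u s).left).1 hflus x')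
  have e : G.hom.fiberι s x' = x := hx'
  rw [e] at h1
  exact h1

end Global

theorem main_5328 (S : Scheme.{u}) (G H : Over S) [GrpObj G] [GrpObj H]
    [LocallyOfFinitePresentation G.hom] [LocallyOfFinitePresentation H.hom] (u : G ⟶ H)
    [IsMonHom u] :
    (Flat u.left → u.left.base '' SGA3x.neutralSet G = SGA3x.neutralSet H) ∧
    (Flat G.hom → (∀ s : S, IsReduced (H.hom.fiber s)) →
      u.left.base '' SGA3x.neutralSet G = SGA3x.neutralSet H → Flat u.left) := by
  constructor
  · intro h
    exact image_neutralSet_of_flat G H u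
  · intro h1 h2 h3
    exact flat_of_image_neutralSet G H u h2 h3

end Groth.Agent.Lib.Helper26.NeutA
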