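import Mathlib

set_option autoImplicit false

universe u

namespace Groth.Agent.Lib.Helper26

/-- Every element of `I.map φ` lies in `J.map φ` for some finitely generated `J ≤ I`. -/
theorem exists_fg_le_mem_map {R S' : Type*} [CommRing R] [CommRing S'] (φ : R →+* S')
    (I : Ideal R) (e : S') (he : e ∈ I.map φ) :
    ∃ J : Ideal R, J.FG ∧ J ≤ I ∧ e ∈ J.map φ := by
  induction he using Submodule.span_induction with
  | mem x hx =>
    obtain ⟨a, ha, rfl⟩ := hx
    exact ⟨Ideal.span {a}, ⟨{a}, by simp⟩, (Ideal.span_singleton_le_iff_mem _).mpr ha,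
      Ideal.mem_map_of_mem _ (Ideal.mem_span_singleton_self a)⟩
  | zero => exact ⟨⊥, Submodule.fg_bot, bot_le, Ideal.zero_mem _⟩
  | add x y _ _ hx hy =>
    obtain ⟨J₁, h₁, h₁', h₁''⟩ := hx
    obtain ⟨J₂, h₂, h₂', h₂''⟩ := hy
    refine ⟨J₁ ⊔ J₂, Submodule.FG.sup h₁ h₂, sup_le h₁' h₂', ?_⟩
    exact Ideal.add_mem _ (Ideal.map_mono le_sup_left h₁'') (Ideal.map_mono le_sup_right h₂'')
  | smul a x _ hx =>
    obtain ⟨J, h, h', h''⟩ := hx
    exact ⟨J, h, h', Ideal.mul_mem_left _ _ h''⟩

/-- If `S → S'/IS'` is surjective with `S'` of finite type over `R` and `I` locally nilpotent,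
then `S → S'` is surjective. -/
theorem surjective_of_surjective_mod_locally_nilpotent (R S S' : Type*) [CommRing R] [CommRing S]
    [CommRing S'] [Algebra R S] [Algebra R S'] [Algebra.FiniteType R S'] (I : Ideal R)
    (hI : ∀ x ∈ I, IsNilpotent x) (f : S →ₐ[R] S')
    (hf : Function.Surjective ((Ideal.Quotient.mk (I.map (algebraMap R S'))).comp f.toRingHom)) :
    Function.Surjective f := by
  classical
  obtain ⟨s, hs⟩ := (Algebra.FiniteType.out : (⊤ : Subalgebra R S').FG)
  -- for each generator, a preimage modulo `I S'`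
  have h1 : ∀ x : S', ∃ t : S, x - f t ∈ I.map (algebraMap R S') := by
    intro x
    obtain ⟨t, ht⟩ := hf (Ideal.Quotient.mk _ x)
    refine ⟨t, ?_⟩
    rw [← Ideal.Quotient.eq]
    exact ht.symm
  choose t ht using h1
  have h2 : ∀ x : S', ∃ J : Ideal R, J.FG ∧ J ≤ I ∧ x - f (t x) ∈ J.map (algebraMap R S') :=
    fun x => exists_fg_le_mem_map _ I _ (ht x)
  choose Jx hJfg hJle hJmem using h2
  let J : Ideal R := s.sup Jx
  have hJ_fg : J.FG := Submodule.fg_finset_sup s Jx (fun i _ => hJfg i)
  have hJ_le : J ≤ I := Finset.sup_le (fun i _ => hJle i)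
  have hJ_nil : IsNilpotent J := by
    rw [hJ_fg.isNilpotent_iff_le_nilradical]
    intro a ha
    exact hI a (hJ_le ha)
  obtain ⟨N, hN⟩ := hJ_nil
  let K₁ : Ideal S' := J.map (algebraMap R S')
  -- surjectivity modulo `K₁`
  have h3 : ∀ x : S', ∃ t : S, x - f t ∈ K₁ := by
    let π : S' →ₐ[R] S' ⧸ K₁ := Ideal.Quotient.mkₐ R K₁
    let U : Subalgebra R S' := ((π.comp f).range).comap π
    have hU : U = ⊤ := by
      rw [eq_top_iff, ← hs, Algebra.adjoin_le_iff]
      intro x hx
      refine ⟨t x, ?_⟩
      change Ideal.Quotient.mk K₁ (f (t x)) = Ideal.Quotient.mk K₁ x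
      rw [eq_comm, Ideal.Quotient.eq]
      exact Ideal.map_mono (Finset.le_sup (f := Jx) hx) (hJmem x)
    intro x
    have hx : x ∈ U := hU ▸ Algebra.mem_top
    obtain ⟨t', ht'⟩ := hx
    refine ⟨t', ?_⟩
    rw [← Ideal.Quotient.eq]
    exact ht'.symm
  -- submodule formulation
  let Tm : Submodule R S' := Subalgebra.toSubmodule f.range
  have hK : ∀ m : ℕ, Tm ⊔ (J ^ m) • (⊤ : Submodule R S') = ⊤ := by
    intro m
    induction m with
    | zero => rw [pow_zero, Ideal.one_eq_top, Submodule.top_smul, sup_top_eq]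
    | succ m ih =>
      have h4 : Tm ⊔ J • (⊤ : Submodule R S') = ⊤ := by
        rw [eq_top_iff]
        intro x _
        obtain ⟨t', ht'⟩ := h3 x
        have : x = f t' + (x - f t') := by ring
        rw [this]
        refine Submodule.add_mem_sup ⟨t', rfl⟩ ?_
        rw [Ideal.smul_top_eq_map]
        exact ht'
      have h5 : (J ^ m) • (⊤ : Submodule R S') ≤ Tm ⊔ (J ^ (m + 1)) • (⊤ : Submodule R S') :=
        calc (J ^ m) • (⊤ : Submodule R S')
            = (J ^ m) • (Tm ⊔ J • (⊤ : Submodule R S')) := by rw [h4]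
          _ = (J ^ m) • Tm ⊔ (J ^ m) • (J • (⊤ : Submodule R S')) := Submodule.smul_sup _ _ _
          _ ≤ Tm ⊔ (J ^ (m + 1)) • (⊤ : Submodule R S') := by
            refine sup_le_sup Submodule.smul_le_right ?_
            rw [← Submodule.smul_assoc, smul_eq_mul, ← pow_succ]
      rw [eq_top_iff]
      calc (⊤ : Submodule R S') = Tm ⊔ (J ^ m) • (⊤ : Submodule R S') := ih.symm
        _ ≤ Tm ⊔ (J ^ (m + 1)) • (⊤ : Submodule R S') := sup_le le_sup_left h5
  have hTm : Tm = ⊤ := by
    have := hK N
    rwa [hN, Ideal.zero_eq_bot, Submodule.bot_smul, sup_bot_eq] at this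
  intro x
  have hx : x ∈ Tm := hTm ▸ Submodule.mem_top
  exact hx

end Groth.Agent.Lib.Helper26

namespace Groth.Agent.Lib.Helper26

/-- The kernel of a surjection from a finite type algebra onto a finitely presented algebra is
finitely generated. -/
theorem ker_fg_of_surjective_of_finiteType {R A B : Type*} [CommRing R] [CommRing A] [CommRing B]
    [Algebra R A] [Algebra R B] [Algebra.FiniteType R A] [Algebra.FinitePresentation R B]
    (f : A →ₐ[R] B) (hf : Function.Surjective f) : (RingHom.ker f.toRingHom).FG := by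
  obtain ⟨n, g, hg⟩ := Algebra.FiniteType.iff_quotient_mvPolynomial''.mp
    (inferInstance : Algebra.FiniteType R A)
  convert (Algebra.FinitePresentation.ker_fg_of_mvPolynomial (f.comp g) (hf.comp hg)).map
    g.toRingHom
  simp_rw [RingHom.ker_eq_comap_bot, AlgHom.toRingHom_eq_coe, AlgHom.comp_toRingHom]
  rw [← Ideal.comap_comap, Ideal.map_comap_of_surjective (g : MvPolynomial (Fin n) R →+* A) hg]

/-- Bijectivity modulo a locally nilpotent ideal implies bijectivity, under flatness and
finite presentation hypotheses. -/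
theorem bijective_of_bijective_mod_locally_nilpotent (R S S' : Type*)
    [CommRing R] [CommRing S] [CommRing S'] [Algebra R S] [Algebra R S'] [Algebra.FiniteType R S]
    [Algebra.FinitePresentation R S'] [Module.Flat R S'] (I : Ideal R) (hI : ∀ x ∈ I, IsNilpotent x)
    (f : S →ₐ[R] S')
    (hsurj : Function.Surjective ((Ideal.Quotient.mk (I.map (algebraMap R S'))).comp f.toRingHom))
    (hker : ∀ s : S, f s ∈ I.map (algebraMap R S') → s ∈ I.map (algebraMap R S)) :
    Function.Bijective f := by
  have hfs : Function.Surjective f :=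
    surjective_of_surjective_mod_locally_nilpotent R S S' I hI f hsurj
  refine ⟨?_, hfs⟩
  have hfg : (RingHom.ker f.toRingHom).FG := ker_fg_of_surjective_of_finiteType f hfs
  -- flatness
  have hflat := LinearMap.ker_inf_smul_top_eq_smul_of_flat I f.toLinearMap hfs
  have hKle : LinearMap.ker f.toLinearMap ≤ I • (⊤ : Submodule R S) := by
    intro k hk
    rw [Ideal.smul_top_eq_map]
    apply hker
    have : f k = 0 := hk
    rw [this]
    exact Ideal.zero_mem _
  rw [inf_eq_left.mpr hKle] at hflat
  -- Nakayama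
  have hIN : RingHom.ker f.toRingHom ≤ (I.map (algebraMap R S)) • RingHom.ker f.toRingHom := by
    intro k hk
    have hk' : k ∈ LinearMap.ker f.toLinearMap := hk
    rw [hflat] at hk'
    refine Submodule.smul_induction_on hk' ?_ ?_
    · intro a ha x hx
      have hax : a • x = algebraMap R S a • x := (algebraMap_smul S a x).symm
      rw [hax]
      have hx' : x ∈ RingHom.ker f.toRingHom := hx
      exact Submodule.smul_mem_smul (Ideal.mem_map_of_mem (algebraMap R S) ha) hx'
    · intro x y hx hy
      exact add_mem hx hy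
  have hjac : I.map (algebraMap R S) ≤ Ideal.jacobson ⊥ := by
    rw [Ideal.jacobson_bot]
    refine le_trans ?_ (nilradical_le_jacobson S)
    rw [Ideal.map_le_iff_le_comap]
    intro a ha
    exact (hI a ha).map (algebraMap R S)
  have hbot := Submodule.eq_bot_of_le_smul_of_le_jacobson_bot (I.map (algebraMap R S))
    (RingHom.ker f.toRingHom) hfg hIN hjac
  exact (RingHom.injective_iff_ker_eq_bot f.toRingHom).mpr hbot

end Groth.Agent.Lib.Helper26
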