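import Mathlib
import Groth.Prelude.Def_W4c2brnrinvarInvFld
import Groth.Agent.Lib.Helper26.NoName

set_option linter.style.haveILetI false

universe u

namespace Groth.Agent.Lib.Helper26.NoNameStable

open IntermediateField

variable {k : Type u} [Field k]

section PolyEnd

variable {α : Type*}

/-- The variables of the rational function field, as a family. -/
noncomputable abbrev Xf (α : Type*) (k : Type u) [Field k] : α → InvFld.Fld α k :=
  fun i => InvFld.X i

theorem algMap_injective (α : Type*) :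
    Function.Injective (algebraMap (MvPolynomial α k) (InvFld.Fld α k)) :=
  IsFractionRing.injective _ _

/-- the linear span of the variables in the fraction field is the image of the span of the
variables in the polynomial ring -/
theorem exists_poly_of_mem_span (z : InvFld.Fld α k)
    (hz : z ∈ Submodule.span k (Set.range (Xf α k))) :
    ∃ c : MvPolynomial α k, c ∈ Submodule.span k (Set.range (MvPolynomial.X : α → MvPolynomial α k))
      ∧ algebraMap _ (InvFld.Fld α k) c = z := by
  have : Set.range (Xf α k) =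
      (IsScalarTower.toAlgHom k (MvPolynomial α k) (InvFld.Fld α k)).toLinearMap ''
        (Set.range (MvPolynomial.X : α → MvPolynomial α k)) := by
    rw [← Set.range_comp]; rfl
  rw [this, ← Submodule.map_span] at hz
  obtain ⟨c, hc, rfl⟩ := hz
  exact ⟨c, hc, rfl⟩

/-- A `k`-automorphism of `k(x)` which is linear on the variables restricts to an endomorphism
of the polynomial ring. -/
theorem exists_polyEnd (g : InvFld.Fld α k ≃ₐ[k] InvFld.Fld α k)
    (hg : ∀ i, g (InvFld.X i) ∈ Submodule.span k (Set.range (Xf α k))) :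
    ∃ ρ : MvPolynomial α k →ₐ[k] MvPolynomial α k,
      (∀ p, algebraMap _ (InvFld.Fld α k) (ρ p) = g (algebraMap _ _ p)) ∧
      ∀ i, ρ (MvPolynomial.X i) ∈
        Submodule.span k (Set.range (MvPolynomial.X : α → MvPolynomial α k)) := by
  choose c hc1 hc2 using fun i => exists_poly_of_mem_span (g (InvFld.X i)) (hg i)
  refine ⟨MvPolynomial.aeval c, ?_, fun i => by rw [MvPolynomial.aeval_X]; exact hc1 i⟩
  intro p
  have : (IsScalarTower.toAlgHom k (MvPolynomial α k) (InvFld.Fld α k)).comp (MvPolynomial.aeval c) =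
      (g : InvFld.Fld α k →ₐ[k] InvFld.Fld α k).comp
        (IsScalarTower.toAlgHom k (MvPolynomial α k) (InvFld.Fld α k)) := by
    apply MvPolynomial.algHom_ext
    intro i
    simp only [AlgHom.comp_apply, MvPolynomial.aeval_X, IsScalarTower.coe_toAlgHom']
    exact hc2 i
  exact DFunLike.congr_fun this p

end PolyEnd


section Action

variable {α : Type*} (G : Subgroup (InvFld.Fld α k ≃ₐ[k] InvFld.Fld α k))
  (hG : ∀ σ ∈ G, ∀ i, σ (InvFld.X i) ∈ Submodule.span k (Set.range (Xf α k)))

/-- The action of `G` on the polynomial ring. -/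
noncomputable def rho (g : G) : MvPolynomial α k →ₐ[k] MvPolynomial α k :=
  (exists_polyEnd (g : InvFld.Fld α k ≃ₐ[k] InvFld.Fld α k) (hG g g.2)).choose

theorem rho_spec (g : G) (p : MvPolynomial α k) :
    algebraMap _ (InvFld.Fld α k) (rho G hG g p) =
      (g : InvFld.Fld α k ≃ₐ[k] InvFld.Fld α k) (algebraMap _ _ p) :=
  (exists_polyEnd (g : InvFld.Fld α k ≃ₐ[k] InvFld.Fld α k) (hG g g.2)).choose_spec.1 p

theorem rho_X_mem (g : G) (i : α) : rho G hG g (MvPolynomial.X i) ∈
    Submodule.span k (Set.range (MvPolynomial.X : α → MvPolynomial α k)) :=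
  (exists_polyEnd (g : InvFld.Fld α k ≃ₐ[k] InvFld.Fld α k) (hG g g.2)).choose_spec.2 i

theorem rho_one : rho G hG 1 = AlgHom.id k _ := by
  ext1 p
  apply algMap_injective α
  rw [rho_spec]
  rfl

theorem rho_mul (g h : G) : rho G hG (g * h) = (rho G hG g).comp (rho G hG h) := by
  ext1 p
  apply algMap_injective α
  rw [AlgHom.comp_apply, rho_spec, rho_spec, rho_spec]
  rfl

theorem rho_eq_one_iff (g : G) : rho G hG g = AlgHom.id k _ ↔ g = 1 := by
  constructor
  · intro h
    apply Subtype.ext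
    apply AlgEquiv.ext
    intro z
    obtain ⟨a, b, -, rfl⟩ := IsFractionRing.div_surjective (A := MvPolynomial α k) z
    rw [map_div₀, ← rho_spec G hG, ← rho_spec G hG, h]
    rfl
  · rintro rfl
    exact rho_one G hG

end Action

section Diagonal

variable {α β : Type*} (G : Subgroup (InvFld.Fld α k ≃ₐ[k] InvFld.Fld α k))
  (hG : ∀ σ ∈ G, ∀ i, σ (InvFld.X i) ∈ Submodule.span k (Set.range (Xf α k)))
  (H : Subgroup (InvFld.Fld β k ≃ₐ[k] InvFld.Fld β k))
  (hH : ∀ σ ∈ H, ∀ i, σ (InvFld.X i) ∈ Submodule.span k (Set.range (Xf β k)))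
  (e : G →* H)

/-- The diagonal action on the polynomial ring in both sets of variables. -/
noncomputable def Rho (g : G) : MvPolynomial (α ⊕ β) k →ₐ[k] MvPolynomial (α ⊕ β) k :=
  MvPolynomial.aeval (Sum.elim
    (fun i => MvPolynomial.rename Sum.inl (rho G hG g (MvPolynomial.X i)))
    (fun j => MvPolynomial.rename Sum.inr (rho H hH (e g) (MvPolynomial.X j))))

theorem Rho_rename_inl (g : G) (p : MvPolynomial α k) :
    Rho G hG H hH e g (MvPolynomial.rename Sum.inl p) =
      MvPolynomial.rename Sum.inl (rho G hG g p) := by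
  have : (Rho G hG H hH e g).comp (MvPolynomial.rename Sum.inl) =
      (MvPolynomial.rename Sum.inl).comp (rho G hG g) := by
    apply MvPolynomial.algHom_ext
    intro i
    simp [Rho]
  exact DFunLike.congr_fun this p

theorem Rho_rename_inr (g : G) (p : MvPolynomial β k) :
    Rho G hG H hH e g (MvPolynomial.rename Sum.inr p) =
      MvPolynomial.rename Sum.inr (rho H hH (e g) p) := by
  have : (Rho G hG H hH e g).comp (MvPolynomial.rename Sum.inr) =
      (MvPolynomial.rename Sum.inr).comp (rho H hH (e g)) := by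
    apply MvPolynomial.algHom_ext
    intro i
    simp [Rho]
  exact DFunLike.congr_fun this p

theorem Rho_X_inl (g : G) (i : α) :
    Rho G hG H hH e g (MvPolynomial.X (Sum.inl i)) =
      MvPolynomial.rename Sum.inl (rho G hG g (MvPolynomial.X i)) := by
  simp [Rho]

theorem Rho_X_inr (g : G) (j : β) :
    Rho G hG H hH e g (MvPolynomial.X (Sum.inr j)) =
      MvPolynomial.rename Sum.inr (rho H hH (e g) (MvPolynomial.X j)) := by
  simp [Rho]

theorem Rho_one : Rho G hG H hH e 1 = AlgHom.id k _ := by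
  apply MvPolynomial.algHom_ext
  rintro (i | j)
  · rw [Rho_X_inl, rho_one]; simp
  · rw [Rho_X_inr, map_one, rho_one]; simp

theorem Rho_mul (g h : G) :
    Rho G hG H hH e (g * h) = (Rho G hG H hH e g).comp (Rho G hG H hH e h) := by
  apply MvPolynomial.algHom_ext
  rintro (i | j)
  · rw [AlgHom.comp_apply, Rho_X_inl, Rho_X_inl, Rho_rename_inl, rho_mul]; rfl
  · rw [AlgHom.comp_apply, Rho_X_inr, Rho_X_inr, Rho_rename_inr, map_mul, rho_mul]; rfl

/-- The diagonal action as algebra automorphisms. -/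
noncomputable def RhoEquiv (g : G) : MvPolynomial (α ⊕ β) k ≃ₐ[k] MvPolynomial (α ⊕ β) k :=
  AlgEquiv.ofAlgHom (Rho G hG H hH e g) (Rho G hG H hH e g⁻¹)
    (by rw [← Rho_mul, mul_inv_cancel, Rho_one]) (by rw [← Rho_mul, inv_mul_cancel, Rho_one])

theorem RhoEquiv_apply (g : G) (p : MvPolynomial (α ⊕ β) k) :
    RhoEquiv G hG H hH e g p = Rho G hG H hH e g p := rfl

/-- The diagonal action on the rational function field. -/
noncomputable def psiFun (g : G) : InvFld.Fld (α ⊕ β) k ≃ₐ[k] InvFld.Fld (α ⊕ β) k :=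
  IsFractionRing.algEquivOfAlgEquiv (RhoEquiv G hG H hH e g)

theorem psiFun_algebraMap (g : G) (p : MvPolynomial (α ⊕ β) k) :
    psiFun G hG H hH e g (algebraMap _ _ p) = algebraMap _ _ (Rho G hG H hH e g p) := by
  rw [psiFun, IsFractionRing.algEquivOfAlgEquiv_algebraMap, RhoEquiv_apply]

/-- The diagonal action on the rational function field, as a group homomorphism. -/
noncomputable def psi : G →* (InvFld.Fld (α ⊕ β) k ≃ₐ[k] InvFld.Fld (α ⊕ β) k) :=
  MonoidHom.mk' (psiFun G hG H hH e) (by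
    intro g h
    apply AlgEquiv.ext
    intro z
    obtain ⟨a, b, -, rfl⟩ := IsFractionRing.div_surjective (A := MvPolynomial (α ⊕ β) k) z
    rw [AlgEquiv.mul_apply, map_div₀, map_div₀, map_div₀]
    simp only [psiFun_algebraMap, Rho_mul, AlgHom.comp_apply])

theorem psi_algebraMap (g : G) (p : MvPolynomial (α ⊕ β) k) :
    psi G hG H hH e g (algebraMap _ _ p) = algebraMap _ _ (Rho G hG H hH e g p) :=
  psiFun_algebraMap G hG H hH e g p

end Diagonal


/-- A field generated over (the image of) `A` by an algebraically independent family is the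
rational function field over `A`. -/
theorem fld_equiv_of_adjoin {k A M : Type*} [Field k] [Field A] [Field M] [Algebra k A]
    [Algebra A M] [Algebra k M] [IsScalarTower k A M] {ι : Type*} (t : ι → M)
    (ht : AlgebraicIndependent A t) (E : IntermediateField k M)
    (hE : ∀ z, z ∈ E ↔ z ∈ IntermediateField.adjoin A (Set.range t)) :
    Nonempty (InvFld.Fld ι A ≃ₐ[k] E) := by
  let e1 : InvFld.Fld ι A ≃ₐ[k] IntermediateField.adjoin A (Set.range t) :=
    ht.aevalEquivField.restrictScalars k
  let f2 : IntermediateField.adjoin A (Set.range t) →ₐ[k] E :=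
    ((IntermediateField.adjoin A (Set.range t)).val.restrictScalars k).codRestrict E.toSubalgebra
      (fun z => (hE _).mpr z.2)
  have hf2 : Function.Bijective f2 := by
    constructor
    · intro a b hab
      apply Subtype.ext
      exact congrArg (fun z : E => (z : M)) hab
    · intro z
      exact ⟨⟨z, (hE _).mp z.2⟩, Subtype.ext rfl⟩
  exact ⟨e1.trans (AlgEquiv.ofBijective f2 hf2)⟩


section Embedding

variable {α β : Type*}

/-- `k[x] → k(x, y)`. -/
noncomputable def jL : MvPolynomial α k →ₐ[k] InvFld.Fld (α ⊕ β) k :=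
  (IsScalarTower.toAlgHom k (MvPolynomial (α ⊕ β) k) (InvFld.Fld (α ⊕ β) k)).comp
    (MvPolynomial.rename Sum.inl)

/-- `k[y] → k(x, y)`. -/
noncomputable def jR : MvPolynomial β k →ₐ[k] InvFld.Fld (α ⊕ β) k :=
  (IsScalarTower.toAlgHom k (MvPolynomial (α ⊕ β) k) (InvFld.Fld (α ⊕ β) k)).comp
    (MvPolynomial.rename Sum.inr)

theorem jL_apply (p : MvPolynomial α k) :
    (jL : MvPolynomial α k →ₐ[k] InvFld.Fld (α ⊕ β) k) p =
      algebraMap _ _ (MvPolynomial.rename (Sum.inl : α → α ⊕ β) p) := rfl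

theorem jR_apply (p : MvPolynomial β k) :
    (jR : MvPolynomial β k →ₐ[k] InvFld.Fld (α ⊕ β) k) p =
      algebraMap _ _ (MvPolynomial.rename (Sum.inr : β → α ⊕ β) p) := rfl

theorem jL_injective :
    Function.Injective (jL : MvPolynomial α k →ₐ[k] InvFld.Fld (α ⊕ β) k) := by
  intro p q h
  rw [jL_apply, jL_apply] at h
  exact MvPolynomial.rename_injective _ Sum.inl_injective (algMap_injective (α ⊕ β) h)

theorem jR_injective :
    Function.Injective (jR : MvPolynomial β k →ₐ[k] InvFld.Fld (α ⊕ β) k) := by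
  intro p q h
  rw [jR_apply, jR_apply] at h
  exact MvPolynomial.rename_injective _ Sum.inr_injective (algMap_injective (α ⊕ β) h)

/-- The embedding of `k(x)` into `k(x, y)`. -/
noncomputable def iotaL : InvFld.Fld α k →ₐ[k] InvFld.Fld (α ⊕ β) k :=
  IsFractionRing.liftAlgHom (g := jL) jL_injective

/-- The embedding of `k(y)` into `k(x, y)`. -/
noncomputable def iotaR : InvFld.Fld β k →ₐ[k] InvFld.Fld (α ⊕ β) k :=
  IsFractionRing.liftAlgHom (g := jR) jR_injective

theorem iotaL_algebraMap (p : MvPolynomial α k) :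
    (iotaL : InvFld.Fld α k →ₐ[k] InvFld.Fld (α ⊕ β) k) (algebraMap _ _ p) =
      algebraMap _ _ (MvPolynomial.rename (Sum.inl : α → α ⊕ β) p) := by
  rw [iotaL, IsFractionRing.liftAlgHom_apply, IsFractionRing.lift_algebraMap]
  rfl

theorem iotaR_algebraMap (p : MvPolynomial β k) :
    (iotaR : InvFld.Fld β k →ₐ[k] InvFld.Fld (α ⊕ β) k) (algebraMap _ _ p) =
      algebraMap _ _ (MvPolynomial.rename (Sum.inr : β → α ⊕ β) p) := by
  rw [iotaR, IsFractionRing.liftAlgHom_apply, IsFractionRing.lift_algebraMap]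
  rfl

end Embedding


section Equivariance

variable {α β : Type*} (G : Subgroup (InvFld.Fld α k ≃ₐ[k] InvFld.Fld α k))
  (hG : ∀ σ ∈ G, ∀ i, σ (InvFld.X i) ∈ Submodule.span k (Set.range (Xf α k)))
  (H : Subgroup (InvFld.Fld β k ≃ₐ[k] InvFld.Fld β k))
  (hH : ∀ σ ∈ H, ∀ i, σ (InvFld.X i) ∈ Submodule.span k (Set.range (Xf β k)))
  (e : G →* H)

theorem psi_iotaL (g : G) (z : InvFld.Fld α k) :
    psi G hG H hH e g (iotaL z) = iotaL ((g : InvFld.Fld α k ≃ₐ[k] InvFld.Fld α k) z) := by
  obtain ⟨a, b, -, rfl⟩ := IsFractionRing.div_surjective (A := MvPolynomial α k) z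
  simp only [map_div₀, iotaL_algebraMap, psi_algebraMap, Rho_rename_inl, ← rho_spec G hG]

theorem psi_iotaR (g : G) (z : InvFld.Fld β k) :
    psi G hG H hH e g (iotaR z) = iotaR ((e g : InvFld.Fld β k ≃ₐ[k] InvFld.Fld β k) z) := by
  obtain ⟨a, b, -, rfl⟩ := IsFractionRing.div_surjective (A := MvPolynomial β k) z
  simp only [map_div₀, iotaR_algebraMap, psi_algebraMap, Rho_rename_inr, ← rho_spec H hH]

theorem jL_mem_span (c : MvPolynomial α k)
    (hc : c ∈ Submodule.span k (Set.range (MvPolynomial.X : α → MvPolynomial α k))) :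
    (jL : MvPolynomial α k →ₐ[k] InvFld.Fld (α ⊕ β) k) c ∈ Submodule.span k
      (Set.range fun j : α => (InvFld.X (Sum.inl j) : InvFld.Fld (α ⊕ β) k)) := by
  have h := Submodule.apply_mem_span_image_of_mem_span
    (jL : MvPolynomial α k →ₐ[k] InvFld.Fld (α ⊕ β) k).toLinearMap hc
  rw [← Set.range_comp] at h
  have hfun : (fun j : α => (InvFld.X (Sum.inl j) : InvFld.Fld (α ⊕ β) k)) =
      ⇑(jL : MvPolynomial α k →ₐ[k] InvFld.Fld (α ⊕ β) k).toLinearMap ∘ MvPolynomial.X := by
    funext j
    rw [Function.comp_apply, AlgHom.toLinearMap_apply, jL_apply, MvPolynomial.rename_X]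
  rw [hfun]
  exact h

theorem jR_mem_span (c : MvPolynomial β k)
    (hc : c ∈ Submodule.span k (Set.range (MvPolynomial.X : β → MvPolynomial β k))) :
    (jR : MvPolynomial β k →ₐ[k] InvFld.Fld (α ⊕ β) k) c ∈ Submodule.span k
      (Set.range fun j : β => (InvFld.X (Sum.inr j) : InvFld.Fld (α ⊕ β) k)) := by
  have h := Submodule.apply_mem_span_image_of_mem_span
    (jR : MvPolynomial β k →ₐ[k] InvFld.Fld (α ⊕ β) k).toLinearMap hc
  rw [← Set.range_comp] at h
  have hfun : (fun j : β => (InvFld.X (Sum.inr j) : InvFld.Fld (α ⊕ β) k)) =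
      ⇑(jR : MvPolynomial β k →ₐ[k] InvFld.Fld (α ⊕ β) k).toLinearMap ∘ MvPolynomial.X := by
    funext j
    rw [Function.comp_apply, AlgHom.toLinearMap_apply, jR_apply, MvPolynomial.rename_X]
  rw [hfun]
  exact h

theorem psi_X_inl (g : G) (i : α) :
    psi G hG H hH e g (InvFld.X (Sum.inl i)) = jL (rho G hG g (MvPolynomial.X i)) := by
  rw [psi_algebraMap, Rho_X_inl, jL_apply]

theorem psi_X_inr (g : G) (j : β) :
    psi G hG H hH e g (InvFld.X (Sum.inr j)) = jR (rho H hH (e g) (MvPolynomial.X j)) := by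
  rw [psi_algebraMap, Rho_X_inr, jR_apply]

theorem psi_X_inl_mem (g : G) (i : α) :
    psi G hG H hH e g (InvFld.X (Sum.inl i)) ∈ Submodule.span k
      (Set.range fun j : α => (InvFld.X (Sum.inl j) : InvFld.Fld (α ⊕ β) k)) := by
  rw [psi_X_inl]
  exact jL_mem_span _ (rho_X_mem G hG g i)

theorem psi_X_inr_mem (g : G) (i : β) :
    psi G hG H hH e g (InvFld.X (Sum.inr i)) ∈ Submodule.span k
      (Set.range fun j : β => (InvFld.X (Sum.inr j) : InvFld.Fld (α ⊕ β) k)) := by
  rw [psi_X_inr]
  exact jR_mem_span _ (rho_X_mem H hH (e g) i)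

theorem eq_one_of_psi_fix_inl (g : G)
    (h : ∀ i : α, psi G hG H hH e g (InvFld.X (Sum.inl i)) = InvFld.X (Sum.inl i)) : g = 1 := by
  rw [← rho_eq_one_iff G hG]
  apply MvPolynomial.algHom_ext
  intro i
  apply jL_injective (β := β)
  rw [← psi_X_inl G hG H hH e, h i, AlgHom.id_apply, jL_apply, MvPolynomial.rename_X]

theorem eq_one_of_psi_fix_inr (he : Function.Injective e) (g : G)
    (h : ∀ i : β, psi G hG H hH e g (InvFld.X (Sum.inr i)) = InvFld.X (Sum.inr i)) : g = 1 := by
  apply he
  rw [map_one, ← rho_eq_one_iff H hH]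
  apply MvPolynomial.algHom_ext
  intro i
  apply jR_injective (α := α)
  rw [← psi_X_inr G hG H hH e, h i, AlgHom.id_apply, jR_apply, MvPolynomial.rename_X]

end Equivariance

end Groth.Agent.Lib.Helper26.NoNameStable
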