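import Mathlib
import Groth.Prelude.Def_W4c2brnrinvarInvFld
import Groth.Agent.Lib.Helper26.NoName
import Groth.Agent.Lib.Helper26.NoNameConcrete
import Groth.Agent.Lib.Helper26.NoNameStable

set_option linter.style.haveILetI false

universe u

namespace Groth.Agent.Lib.Helper26.NoNameStable

open IntermediateField

section Half

/-- Identification of `k(V)^G (t)` with the invariants of the big field. -/
theorem half {k L M : Type*} [Field k] [Field L] [Field M] [Algebra k L] [Algebra k M]
    (G : Subgroup (L ≃ₐ[k] L)) (Γ : Subgroup (M ≃ₐ[k] M)) (ι : L →ₐ[k] M)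
    (K : IntermediateField k M)
    (h1 : ∀ z, ι z ∈ K) (h2 : ∀ w ∈ K, ∃ z, ι z = w)
    (h3 : ∀ σ ∈ Γ, ∃ g ∈ G, ∀ z, σ (ι z) = ι (g z))
    (h4 : ∀ g ∈ G, ∃ σ ∈ Γ, ∀ z, σ (ι z) = ι (g z))
    {r : Type*} (t : r → M)
    (ht : AlgebraicIndependent (↥(K ⊓ IntermediateField.fixedField Γ)) t)
    (hgen : IntermediateField.restrictScalars k
      (IntermediateField.adjoin (↥(K ⊓ IntermediateField.fixedField Γ)) (Set.range t)) =
        IntermediateField.fixedField Γ) :
    Nonempty (InvFld.Fld r (↥(IntermediateField.fixedField G)) ≃ₐ[k]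
      ↥(IntermediateField.fixedField Γ)) := by
  have hfix : ∀ a : ↥(IntermediateField.fixedField G),
      ι (a : L) ∈ K ⊓ IntermediateField.fixedField Γ := by
    intro a
    refine ⟨h1 _, ?_⟩
    rintro ⟨σ, hσ⟩
    obtain ⟨g, hg, hgσ⟩ := h3 σ hσ
    change σ (ι a) = ι a
    rw [hgσ]
    congr 1
    exact a.2 ⟨g, hg⟩
  let φ0 : ↥(IntermediateField.fixedField G) →+* M :=
    (ι : L →+* M).comp (algebraMap (↥(IntermediateField.fixedField G)) L)
  let φ : ↥(IntermediateField.fixedField G) →+* ↥(K ⊓ IntermediateField.fixedField Γ) :=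
    φ0.codRestrict (K ⊓ IntermediateField.fixedField Γ) hfix
  letI : Algebra (↥(IntermediateField.fixedField G)) M := φ0.toAlgebra
  haveI : IsScalarTower k (↥(IntermediateField.fixedField G)) M :=
    IsScalarTower.of_algebraMap_eq (fun c => (ι.commutes c).symm)
  letI : Algebra (↥(IntermediateField.fixedField G)) (↥(K ⊓ IntermediateField.fixedField Γ)) :=
    φ.toAlgebra
  haveI : IsScalarTower (↥(IntermediateField.fixedField G))
      (↥(K ⊓ IntermediateField.fixedField Γ)) M :=
    IsScalarTower.of_algebraMap_eq (fun a => rfl)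
  have ht' : AlgebraicIndependent (↥(IntermediateField.fixedField G)) t :=
    ht.restrictScalars φ.injective
  refine fld_equiv_of_adjoin t ht' (IntermediateField.fixedField Γ) (fun z => ?_)
  rw [← hgen, IntermediateField.mem_restrictScalars]
  constructor
  · intro hz
    induction hz using IntermediateField.adjoin_induction with
    | mem x hx => exact IntermediateField.subset_adjoin _ _ hx
    | algebraMap f =>
      obtain ⟨z, hz⟩ := h2 (f : M) f.2.1
      have hzfix : z ∈ IntermediateField.fixedField G := by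
        rintro ⟨g, hg⟩
        obtain ⟨σ, hσ, hσg⟩ := h4 g hg
        apply ι.toRingHom.injective
        change ι (g z) = ι z
        rw [← hσg, hz]
        exact f.2.2 ⟨σ, hσ⟩
      have : algebraMap (↥(K ⊓ IntermediateField.fixedField Γ)) M f =
          algebraMap (↥(IntermediateField.fixedField G)) M ⟨z, hzfix⟩ := hz.symm
      rw [this]
      exact IntermediateField.algebraMap_mem _ _
    | add x y _ _ hx hy => exact add_mem hx hy
    | inv x _ hx => exact inv_mem hx
    | mul x y _ _ hx hy => exact mul_mem hx hy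
  · intro hz
    induction hz using IntermediateField.adjoin_induction with
    | mem x hx => exact IntermediateField.subset_adjoin _ _ hx
    | algebraMap a =>
      have : algebraMap (↥(IntermediateField.fixedField G)) M a =
          algebraMap (↥(K ⊓ IntermediateField.fixedField Γ)) M (φ a) := rfl
      rw [this]
      exact IntermediateField.algebraMap_mem _ _
    | add x y _ _ hx hy => exact add_mem hx hy
    | inv x _ hx => exact inv_mem hx
    | mul x y _ _ hx hy => exact mul_mem hx hy

end Half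


section Swapped

open Groth.Agent.Lib.Helper26.NoNameConcrete

variable (k : Type u) [Field k] (n m : ℕ)

theorem algebraicIndependent_xv' :
    AlgebraicIndependent (IntermediateField.adjoin k (Set.range (yv k n m))) (xv k n m) := by
  have h := NoNameConcrete.algebraicIndependent_X k (Fin n ⊕ Fin m)
  have h2 : AlgebraicIndependent k (Sum.elim (xv k n m) (yv k n m)) := by
    convert h using 1
    ext (_ | _) <;> rfl
  rw [IntermediateField.algebraicIndependent_adjoin_iff]
  exact (AlgebraicIndependent.sumElim_iff.mp h2).2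

theorem adjoin_xv_eq_top' :
    IntermediateField.adjoin (IntermediateField.adjoin k (Set.range (yv k n m)))
      (Set.range (xv k n m)) = ⊤ := by
  set K := IntermediateField.adjoin k (Set.range (yv k n m)) with hKdef
  set E := IntermediateField.adjoin K (Set.range (xv k n m)) with hEdef
  have hpoly : ∀ p : MvPolynomial (Fin n ⊕ Fin m) k,
      algebraMap (MvPolynomial (Fin n ⊕ Fin m) k) (InvFld.Fld (Fin n ⊕ Fin m) k) p ∈ E := by
    intro p
    induction p using MvPolynomial.induction_on with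
    | C a =>
      have : algebraMap (MvPolynomial (Fin n ⊕ Fin m) k) (InvFld.Fld (Fin n ⊕ Fin m) k)
          (MvPolynomial.C a) = algebraMap K (InvFld.Fld (Fin n ⊕ Fin m) k) (algebraMap k K a) := by
        rw [← IsScalarTower.algebraMap_apply, ← MvPolynomial.algebraMap_eq,
          ← IsScalarTower.algebraMap_apply]
      rw [this]
      exact E.algebraMap_mem _
    | add p q hp hq => rw [map_add]; exact add_mem hp hq
    | mul_X p i hp =>
      rw [map_mul]
      refine mul_mem hp ?_
      rcases i with i | j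
      · exact IntermediateField.subset_adjoin K _ (Set.mem_range_self i)
      · have hx : (InvFld.X (Sum.inr j) : InvFld.Fld (Fin n ⊕ Fin m) k) ∈ K :=
          IntermediateField.subset_adjoin k _ (Set.mem_range_self j)
        exact E.algebraMap_mem ⟨_, hx⟩
  rw [eq_top_iff]
  intro z _
  obtain ⟨a, b, -, rfl⟩ := IsFractionRing.div_surjective (A := MvPolynomial (Fin n ⊕ Fin m) k) z
  exact div_mem (hpoly a) (hpoly b)

/-- The no-name lemma with the roles of the two sets of variables exchanged. -/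
theorem main' (G : Subgroup (InvFld.Fld (Fin n ⊕ Fin m) k ≃ₐ[k] InvFld.Fld (Fin n ⊕ Fin m) k))
    [Finite G]
    (hx : ∀ σ ∈ G, ∀ i : Fin n, σ (InvFld.X (Sum.inl i)) ∈ Submodule.span k
      (Set.range fun j : Fin n => (InvFld.X (Sum.inl j) : InvFld.Fld (Fin n ⊕ Fin m) k)))
    (hy : ∀ σ ∈ G, ∀ i : Fin m, σ (InvFld.X (Sum.inr i)) ∈ Submodule.span k
      (Set.range fun j : Fin m => (InvFld.X (Sum.inr j) : InvFld.Fld (Fin n ⊕ Fin m) k)))
    (hfaith : ∀ σ ∈ G, (∀ i : Fin m, σ (InvFld.X (Sum.inr i)) = InvFld.X (Sum.inr i)) → σ = 1) :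
    ∃ t : Fin n → InvFld.Fld (Fin n ⊕ Fin m) k,
      AlgebraicIndependent (↥(IntermediateField.adjoin k (Set.range (yv k n m)) ⊓
        IntermediateField.fixedField G)) t ∧
      IntermediateField.restrictScalars k (IntermediateField.adjoin
        (↥(IntermediateField.adjoin k (Set.range (yv k n m)) ⊓ IntermediateField.fixedField G))
        (Set.range t)) = IntermediateField.fixedField G := by
  have hK : ∀ σ ∈ G, ∀ a ∈ IntermediateField.adjoin k (Set.range (yv k n m)),
      σ a ∈ IntermediateField.adjoin k (Set.range (yv k n m)) := by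
    intro σ hσ a ha
    induction ha using IntermediateField.adjoin_induction with
    | mem a ha =>
      obtain ⟨i, rfl⟩ := ha
      exact span_le_adjoin k n m _ _ (hy σ hσ i)
    | algebraMap c => rw [AlgEquiv.commutes]; exact IntermediateField.algebraMap_mem _ _
    | add a b _ _ ha hb => rw [map_add]; exact add_mem ha hb
    | inv a _ ha => rw [map_inv₀]; exact inv_mem ha
    | mul a b _ _ ha hb => rw [map_mul]; exact mul_mem ha hb
  have hfaith' : ∀ σ ∈ G, (∀ a ∈ IntermediateField.adjoin k (Set.range (yv k n m)), σ a = a) →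
      σ = 1 := fun σ hσ h => hfaith σ hσ fun i =>
    h _ (IntermediateField.subset_adjoin k _ (Set.mem_range_self i))
  have hstab : ∀ σ ∈ G, ∀ j, σ (xv k n m j) ∈
      Submodule.span (IntermediateField.adjoin k (Set.range (yv k n m))) (Set.range (xv k n m)) :=
    fun σ hσ j => Submodule.span_le_restrictScalars k
      (IntermediateField.adjoin k (Set.range (yv k n m))) _ (hx σ hσ j)
  exact Groth.Agent.Lib.Helper26.NoName.noName G _ hK hfaith' (xv k n m)
    (algebraicIndependent_xv' k n m) (adjoin_xv_eq_top' k n m) hstab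

end Swapped

section Final

open Groth.Agent.Lib.Helper26.NoNameConcrete

variable (k : Type u) [Field k] (n m : ℕ)

theorem iotaL_mem (z : InvFld.Fld (Fin n) k) :
    (iotaL : InvFld.Fld (Fin n) k →ₐ[k] InvFld.Fld (Fin n ⊕ Fin m) k) z ∈
      IntermediateField.adjoin k (Set.range (xv k n m)) := by
  have hpoly : ∀ p : MvPolynomial (Fin n) k,
      (iotaL : InvFld.Fld (Fin n) k →ₐ[k] InvFld.Fld (Fin n ⊕ Fin m) k) (algebraMap _ _ p) ∈
        IntermediateField.adjoin k (Set.range (xv k n m)) := by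
    intro p
    induction p using MvPolynomial.induction_on with
    | C a =>
      rw [← MvPolynomial.algebraMap_eq, ← IsScalarTower.algebraMap_apply, AlgHom.commutes]
      exact IntermediateField.algebraMap_mem _ _
    | add p q hp hq => rw [map_add, map_add]; exact add_mem hp hq
    | mul_X p i hp =>
      rw [map_mul, map_mul]
      refine mul_mem hp ?_
      rw [iotaL_algebraMap, MvPolynomial.rename_X]
      exact IntermediateField.subset_adjoin k _ (Set.mem_range_self i)
  obtain ⟨a, b, -, rfl⟩ := IsFractionRing.div_surjective (A := MvPolynomial (Fin n) k) z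
  rw [map_div₀]
  exact div_mem (hpoly a) (hpoly b)

theorem iotaR_mem (z : InvFld.Fld (Fin m) k) :
    (iotaR : InvFld.Fld (Fin m) k →ₐ[k] InvFld.Fld (Fin n ⊕ Fin m) k) z ∈
      IntermediateField.adjoin k (Set.range (yv k n m)) := by
  have hpoly : ∀ p : MvPolynomial (Fin m) k,
      (iotaR : InvFld.Fld (Fin m) k →ₐ[k] InvFld.Fld (Fin n ⊕ Fin m) k) (algebraMap _ _ p) ∈
        IntermediateField.adjoin k (Set.range (yv k n m)) := by
    intro p
    induction p using MvPolynomial.induction_on with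
    | C a =>
      rw [← MvPolynomial.algebraMap_eq, ← IsScalarTower.algebraMap_apply, AlgHom.commutes]
      exact IntermediateField.algebraMap_mem _ _
    | add p q hp hq => rw [map_add, map_add]; exact add_mem hp hq
    | mul_X p i hp =>
      rw [map_mul, map_mul]
      refine mul_mem hp ?_
      rw [iotaR_algebraMap, MvPolynomial.rename_X]
      exact IntermediateField.subset_adjoin k _ (Set.mem_range_self i)
  obtain ⟨a, b, -, rfl⟩ := IsFractionRing.div_surjective (A := MvPolynomial (Fin m) k) z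
  rw [map_div₀]
  exact div_mem (hpoly a) (hpoly b)

theorem exists_iotaL_eq (w : InvFld.Fld (Fin n ⊕ Fin m) k)
    (hw : w ∈ IntermediateField.adjoin k (Set.range (xv k n m))) :
    ∃ z, (iotaL : InvFld.Fld (Fin n) k →ₐ[k] InvFld.Fld (Fin n ⊕ Fin m) k) z = w := by
  have : IntermediateField.adjoin k (Set.range (xv k n m)) ≤
      (iotaL : InvFld.Fld (Fin n) k →ₐ[k] InvFld.Fld (Fin n ⊕ Fin m) k).fieldRange := by
    rw [IntermediateField.adjoin_le_iff]
    rintro _ ⟨i, rfl⟩
    refine ⟨InvFld.X i, ?_⟩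
    change iotaL (algebraMap _ _ (MvPolynomial.X i)) = _
    rw [iotaL_algebraMap, MvPolynomial.rename_X]
  exact this hw

theorem exists_iotaR_eq (w : InvFld.Fld (Fin n ⊕ Fin m) k)
    (hw : w ∈ IntermediateField.adjoin k (Set.range (yv k n m))) :
    ∃ z, (iotaR : InvFld.Fld (Fin m) k →ₐ[k] InvFld.Fld (Fin n ⊕ Fin m) k) z = w := by
  have : IntermediateField.adjoin k (Set.range (yv k n m)) ≤
      (iotaR : InvFld.Fld (Fin m) k →ₐ[k] InvFld.Fld (Fin n ⊕ Fin m) k).fieldRange := by
    rw [IntermediateField.adjoin_le_iff]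
    rintro _ ⟨i, rfl⟩
    refine ⟨InvFld.X i, ?_⟩
    change iotaR (algebraMap _ _ (MvPolynomial.X i)) = _
    rw [iotaR_algebraMap, MvPolynomial.rename_X]
  exact this hw

/-- Stable equivalence of the fields of invariants of two faithful linear representations
(S15696). -/
theorem stable (G : Subgroup (InvFld.Fld (Fin n) k ≃ₐ[k] InvFld.Fld (Fin n) k)) [Finite G]
    (H : Subgroup (InvFld.Fld (Fin m) k ≃ₐ[k] InvFld.Fld (Fin m) k)) [Finite H] (e : G ≃* H)
    (hG : ∀ σ ∈ G, ∀ i : Fin n, σ (InvFld.X i) ∈ Submodule.span k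
      (Set.range fun j : Fin n => (InvFld.X j : InvFld.Fld (Fin n) k)))
    (hH : ∀ τ ∈ H, ∀ i : Fin m, τ (InvFld.X i) ∈ Submodule.span k
      (Set.range fun j : Fin m => (InvFld.X j : InvFld.Fld (Fin m) k))) :
    ∃ r s : ℕ, Nonempty (InvFld.Fld (Fin r) (IntermediateField.fixedField G) ≃ₐ[k]
      InvFld.Fld (Fin s) (IntermediateField.fixedField H)) := by
  set ψ := psi G hG H hH e.toMonoidHom with hψ
  set Γ : Subgroup (InvFld.Fld (Fin n ⊕ Fin m) k ≃ₐ[k] InvFld.Fld (Fin n ⊕ Fin m) k) :=
    ψ.range with hΓ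
  haveI : Finite Γ := Finite.of_surjective ψ.rangeRestrict ψ.rangeRestrict_surjective
  have hx : ∀ σ ∈ Γ, ∀ i : Fin n, σ (InvFld.X (Sum.inl i)) ∈ Submodule.span k
      (Set.range fun j : Fin n => (InvFld.X (Sum.inl j) : InvFld.Fld (Fin n ⊕ Fin m) k)) := by
    rintro _ ⟨g, rfl⟩ i
    exact psi_X_inl_mem G hG H hH e.toMonoidHom g i
  have hy : ∀ σ ∈ Γ, ∀ i : Fin m, σ (InvFld.X (Sum.inr i)) ∈ Submodule.span k
      (Set.range fun j : Fin m => (InvFld.X (Sum.inr j) : InvFld.Fld (Fin n ⊕ Fin m) k)) := by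
    rintro _ ⟨g, rfl⟩ i
    exact psi_X_inr_mem G hG H hH e.toMonoidHom g i
  have hfx : ∀ σ ∈ Γ, (∀ i : Fin n, σ (InvFld.X (Sum.inl i)) = InvFld.X (Sum.inl i)) →
      σ = 1 := by
    rintro _ ⟨g, rfl⟩ h
    rw [eq_one_of_psi_fix_inl G hG H hH e.toMonoidHom g h, map_one]
  have hfy : ∀ σ ∈ Γ, (∀ i : Fin m, σ (InvFld.X (Sum.inr i)) = InvFld.X (Sum.inr i)) →
      σ = 1 := by
    rintro _ ⟨g, rfl⟩ h
    rw [eq_one_of_psi_fix_inr G hG H hH e.toMonoidHom e.injective g h, map_one]
  obtain ⟨t, ht, hgen⟩ := NoNameConcrete.main k n m Γ hx hy hfx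
  obtain ⟨t', ht', hgen'⟩ := main' k n m Γ hx hy hfy
  have E1 : Nonempty (InvFld.Fld (Fin m) (↥(IntermediateField.fixedField G)) ≃ₐ[k]
      ↥(IntermediateField.fixedField Γ)) := by
    refine half G Γ iotaL (IntermediateField.adjoin k (Set.range (xv k n m)))
      (iotaL_mem k n m) (exists_iotaL_eq k n m) ?_ ?_ t ht hgen
    · rintro _ ⟨g, rfl⟩
      exact ⟨g, g.2, fun z => psi_iotaL G hG H hH e.toMonoidHom g z⟩
    · intro g hg
      exact ⟨ψ ⟨g, hg⟩, ⟨⟨g, hg⟩, rfl⟩, fun z => psi_iotaL G hG H hH e.toMonoidHom ⟨g, hg⟩ z⟩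
  have E2 : Nonempty (InvFld.Fld (Fin n) (↥(IntermediateField.fixedField H)) ≃ₐ[k]
      ↥(IntermediateField.fixedField Γ)) := by
    refine half H Γ iotaR (IntermediateField.adjoin k (Set.range (yv k n m)))
      (iotaR_mem k n m) (exists_iotaR_eq k n m) ?_ ?_ t' ht' hgen'
    · rintro _ ⟨g, rfl⟩
      exact ⟨e g, (e g).2, fun z => psi_iotaR G hG H hH e.toMonoidHom g z⟩
    · intro h hh
      refine ⟨ψ (e.symm ⟨h, hh⟩), ⟨e.symm ⟨h, hh⟩, rfl⟩, fun z => ?_⟩
      have := psi_iotaR G hG H hH e.toMonoidHom (e.symm ⟨h, hh⟩) z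
      rw [this]
      simp
  obtain ⟨e1⟩ := E1
  obtain ⟨e2⟩ := E2
  exact ⟨m, n, ⟨e1.trans e2.symm⟩⟩

end Final

end Groth.Agent.Lib.Helper26.NoNameStable
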