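import Mathlib
import Groth.Prelude.Def_W4c2brnrinvarInvFld
import Groth.Agent.Lib.Helper26.NoNameStable2

set_option linter.style.haveILetI false

universe u

namespace Groth.Agent.Lib.Helper26.NoNameSym

open IntermediateField

variable (k : Type u) [Field k] (n : ℕ)

/-- The permutation action of the symmetric group on the rational function field. -/
noncomputable def permHom :
    Equiv.Perm (Fin n) →* (InvFld.Fld (Fin n) k ≃ₐ[k] InvFld.Fld (Fin n) k) :=
  MonoidHom.mk' (fun σ => IsFractionRing.algEquivOfAlgEquiv (MvPolynomial.renameEquiv k σ)) (by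
    intro σ τ
    apply AlgEquiv.ext
    intro z
    obtain ⟨a, b, -, rfl⟩ := IsFractionRing.div_surjective (A := MvPolynomial (Fin n) k) z
    rw [AlgEquiv.mul_apply, map_div₀, map_div₀, map_div₀]
    simp only [IsFractionRing.algEquivOfAlgEquiv_algebraMap, MvPolynomial.renameEquiv_apply,
      MvPolynomial.rename_rename]
    rfl)

theorem permHom_algebraMap (σ : Equiv.Perm (Fin n)) (p : MvPolynomial (Fin n) k) :
    permHom k n σ (algebraMap _ _ p) = algebraMap _ _ (MvPolynomial.rename σ p) := by
  change IsFractionRing.algEquivOfAlgEquiv (MvPolynomial.renameEquiv k σ) _ = _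
  rw [IsFractionRing.algEquivOfAlgEquiv_algebraMap, MvPolynomial.renameEquiv_apply]

theorem permHom_injective : Function.Injective (permHom k n) := by
  intro σ τ h
  ext i
  have h1 := DFunLike.congr_fun h
    (algebraMap (MvPolynomial (Fin n) k) (InvFld.Fld (Fin n) k) (MvPolynomial.X i))
  rw [permHom_algebraMap, permHom_algebraMap, MvPolynomial.rename_X, MvPolynomial.rename_X] at h1
  have h2 := IsFractionRing.injective (MvPolynomial (Fin n) k) (InvFld.Fld (Fin n) k) h1
  exact congrArg Fin.val (MvPolynomial.X_injective h2)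

theorem permHom_X_mem (σ : Equiv.Perm (Fin n)) (i : Fin n) :
    permHom k n σ (InvFld.X i) ∈ Submodule.span k
      (Set.range fun j : Fin n => (InvFld.X j : InvFld.Fld (Fin n) k)) := by
  rw [permHom_algebraMap, MvPolynomial.rename_X]
  exact Submodule.subset_span ⟨σ i, rfl⟩


/-- The elementary symmetric functions in the rational function field. -/
noncomputable def u0 (i : Fin n) : InvFld.Fld (Fin n) k :=
  algebraMap (MvPolynomial (Fin n) k) _ (MvPolynomial.esymm (Fin n) k (i + 1))

theorem algMap_sym_fixed (p : MvPolynomial (Fin n) k) (hp : p.IsSymmetric) :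
    algebraMap (MvPolynomial (Fin n) k) (InvFld.Fld (Fin n) k) p ∈
      IntermediateField.fixedField (permHom k n).range := by
  rintro ⟨_, σ, rfl⟩
  change permHom k n σ _ = _
  rw [permHom_algebraMap, hp σ]

theorem sym_of_algMap_fixed (p : MvPolynomial (Fin n) k)
    (hp : algebraMap (MvPolynomial (Fin n) k) (InvFld.Fld (Fin n) k) p ∈
      IntermediateField.fixedField (permHom k n).range) : p.IsSymmetric := by
  intro σ
  apply IsFractionRing.injective (MvPolynomial (Fin n) k) (InvFld.Fld (Fin n) k)
  rw [← permHom_algebraMap]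
  exact hp ⟨permHom k n σ, σ, rfl⟩

/-- The elementary symmetric functions as elements of the fixed field. -/
noncomputable def uu (i : Fin n) : ↥(IntermediateField.fixedField (permHom k n).range) :=
  ⟨u0 k n i, algMap_sym_fixed k n _ (MvPolynomial.esymm_isSymmetric _ _ _)⟩

theorem aeval_esymm_injective : Function.Injective
    (MvPolynomial.aeval (fun i : Fin n => MvPolynomial.esymm (Fin n) k (i + 1)) :
      MvPolynomial (Fin n) k →ₐ[k] MvPolynomial (Fin n) k) := by
  intro p q h
  apply (MvPolynomial.esymmAlgHom_fin_bijective (R := k) n).injective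
  apply Subtype.ext
  rw [MvPolynomial.esymmAlgHom_apply, MvPolynomial.esymmAlgHom_apply]
  exact h

theorem exists_aeval_esymm_eq (p : MvPolynomial (Fin n) k) (hp : p.IsSymmetric) :
    ∃ q : MvPolynomial (Fin n) k,
      MvPolynomial.aeval (fun i : Fin n => MvPolynomial.esymm (Fin n) k (i + 1)) q = p := by
  obtain ⟨q, hq⟩ := (MvPolynomial.esymmAlgHom_fin_bijective (R := k) n).surjective ⟨p, hp⟩
  refine ⟨q, ?_⟩
  rw [← MvPolynomial.esymmAlgHom_apply, hq]

theorem algebraicIndependent_u0 : AlgebraicIndependent k (u0 k n) := by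
  have h1 : AlgebraicIndependent k (fun i : Fin n => MvPolynomial.esymm (Fin n) k (i + 1)) :=
    algebraicIndependent_iff_injective_aeval.mpr (aeval_esymm_injective k n)
  exact h1.map' (f := IsScalarTower.toAlgHom k (MvPolynomial (Fin n) k) (InvFld.Fld (Fin n) k))
    (IsFractionRing.injective (MvPolynomial (Fin n) k) (InvFld.Fld (Fin n) k))

theorem algebraicIndependent_uu : AlgebraicIndependent k (uu k n) := by
  apply AlgebraicIndependent.of_comp (IntermediateField.fixedField (permHom k n).range).val
  exact algebraicIndependent_u0 k n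

/-- Symmetric polynomials lie in the field generated by the elementary symmetric functions. -/
theorem sym_mem_adjoin (p : MvPolynomial (Fin n) k) (hp : p.IsSymmetric) :
    (⟨algebraMap _ _ p, algMap_sym_fixed k n p hp⟩ :
      ↥(IntermediateField.fixedField (permHom k n).range)) ∈
      IntermediateField.adjoin k (Set.range (uu k n)) := by
  obtain ⟨q, rfl⟩ := exists_aeval_esymm_eq k n p hp
  have : (⟨algebraMap _ _ (MvPolynomial.aeval
      (fun i : Fin n => MvPolynomial.esymm (Fin n) k (i + 1)) q), algMap_sym_fixed k n _ hp⟩ :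
      ↥(IntermediateField.fixedField (permHom k n).range)) = MvPolynomial.aeval (uu k n) q := by
    apply Subtype.ext
    have h1 : ((MvPolynomial.aeval (uu k n) q :
        ↥(IntermediateField.fixedField (permHom k n).range)) : InvFld.Fld (Fin n) k) =
        MvPolynomial.aeval (u0 k n) q := by
      exact MvPolynomial.comp_aeval_apply (f := uu k n)
        (IntermediateField.fixedField (permHom k n).range).val q
    rw [h1]
    exact MvPolynomial.comp_aeval_apply
      (f := fun i : Fin n => MvPolynomial.esymm (Fin n) k (i + 1))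
      (IsScalarTower.toAlgHom k (MvPolynomial (Fin n) k) (InvFld.Fld (Fin n) k)) q
  rw [this]
  have h3 : MvPolynomial.aeval (uu k n) q ∈ Algebra.adjoin k (Set.range (uu k n)) := by
    rw [Algebra.adjoin_range_eq_range_aeval]
    exact ⟨q, rfl⟩
  exact IntermediateField.algebra_adjoin_le_adjoin k _ h3

theorem adjoin_uu_eq_top : IntermediateField.adjoin k (Set.range (uu k n)) = ⊤ := by
  classical
  rw [eq_top_iff]
  rintro ⟨z, hz⟩ -
  obtain ⟨a, b, hb, rfl⟩ := IsFractionRing.div_surjective (A := MvPolynomial (Fin n) k) z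
  have hb0 : b ≠ 0 := nonZeroDivisors.ne_zero hb
  set N : MvPolynomial (Fin n) k := ∏ σ : Equiv.Perm (Fin n), MvPolynomial.rename σ b with hN
  set R : MvPolynomial (Fin n) k :=
    ∏ σ ∈ (Finset.univ : Finset (Equiv.Perm (Fin n))).erase 1, MvPolynomial.rename σ b with hR
  have hsplit : N = b * R := by
    rw [hN, hR, ← Finset.mul_prod_erase Finset.univ _ (Finset.mem_univ (1 : Equiv.Perm (Fin n)))]
    congr 1
    simp
  have hNsym : N.IsSymmetric := by
    intro τ
    rw [hN, map_prod]
    simp_rw [MvPolynomial.rename_rename]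
    exact Fintype.prod_equiv (Equiv.mulLeft τ) _ _ (fun σ => rfl)
  have hNne : N ≠ 0 := by
    rw [hN]
    exact Finset.prod_ne_zero_iff.mpr fun σ _ =>
      (map_ne_zero_iff _ (MvPolynomial.rename_injective _ σ.injective)).mpr hb0
  have hRne : R ≠ 0 := fun h => hNne (by rw [hsplit, h, mul_zero])
  have hzeq : algebraMap (MvPolynomial (Fin n) k) (InvFld.Fld (Fin n) k) a / algebraMap _ _ b =
      algebraMap _ _ (a * R) / algebraMap _ _ N := by
    have h1 : algebraMap (MvPolynomial (Fin n) k) (InvFld.Fld (Fin n) k) b ≠ 0 :=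
      (map_ne_zero_iff _ (IsFractionRing.injective _ _)).mpr hb0
    have h2 : algebraMap (MvPolynomial (Fin n) k) (InvFld.Fld (Fin n) k) R ≠ 0 :=
      (map_ne_zero_iff _ (IsFractionRing.injective _ _)).mpr hRne
    rw [hsplit, map_mul, map_mul]
    field_simp
  have hNfix := algMap_sym_fixed k n N hNsym
  have haRfix : algebraMap (MvPolynomial (Fin n) k) (InvFld.Fld (Fin n) k) (a * R) ∈
      IntermediateField.fixedField (permHom k n).range := by
    have h1 : algebraMap (MvPolynomial (Fin n) k) (InvFld.Fld (Fin n) k) N ≠ 0 :=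
      (map_ne_zero_iff _ (IsFractionRing.injective _ _)).mpr hNne
    have : algebraMap (MvPolynomial (Fin n) k) (InvFld.Fld (Fin n) k) (a * R) =
        (algebraMap _ _ a / algebraMap _ _ b) * algebraMap _ _ N := by
      rw [hzeq]; field_simp
    rw [this]
    exact mul_mem hz hNfix
  have haRsym := sym_of_algMap_fixed k n _ haRfix
  have h1 := sym_mem_adjoin k n _ haRsym
  have h2 := sym_mem_adjoin k n _ hNsym
  have : (⟨algebraMap (MvPolynomial (Fin n) k) (InvFld.Fld (Fin n) k) a / algebraMap _ _ b, hz⟩ :
      ↥(IntermediateField.fixedField (permHom k n).range)) =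
      ⟨algebraMap _ _ (a * R), haRfix⟩ / ⟨algebraMap _ _ N, hNfix⟩ := by
    apply Subtype.ext
    exact hzeq
  rw [this]
  exact div_mem h1 h2


section Gen

variable {k}

/-- A purely transcendental extension of a purely transcendental extension is purely
transcendental. -/
theorem gen_fld {A : Type*} [Field A] [Algebra k A] {ι κ : Type*} (u : ι → A)
    (hu : AlgebraicIndependent k u) (hgen : IntermediateField.adjoin k (Set.range u) = ⊤) :
    AlgebraicIndependent k (Sum.elim (fun j : κ => (InvFld.X j : InvFld.Fld κ A))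
      (algebraMap A (InvFld.Fld κ A) ∘ u)) ∧
    IntermediateField.adjoin k (Set.range (Sum.elim (fun j : κ => (InvFld.X j : InvFld.Fld κ A))
      (algebraMap A (InvFld.Fld κ A) ∘ u))) = ⊤ := by
  refine ⟨hu.sumElim_comp (NoNameConcrete.algebraicIndependent_X A κ), ?_⟩
  set w := Sum.elim (fun j : κ => (InvFld.X j : InvFld.Fld κ A))
      (algebraMap A (InvFld.Fld κ A) ∘ u) with hw
  set E := IntermediateField.adjoin k (Set.range w) with hE
  have hA : ∀ c : A, algebraMap A (InvFld.Fld κ A) c ∈ E := by
    intro c
    have hc : c ∈ IntermediateField.adjoin k (Set.range u) := by rw [hgen]; trivial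
    induction hc using IntermediateField.adjoin_induction with
    | mem x hx =>
      obtain ⟨i, rfl⟩ := hx
      exact IntermediateField.subset_adjoin k _ ⟨Sum.inr i, rfl⟩
    | algebraMap a =>
      rw [← IsScalarTower.algebraMap_apply]
      exact IntermediateField.algebraMap_mem _ _
    | add x y _ _ hx hy => rw [map_add]; exact add_mem hx hy
    | inv x _ hx => rw [map_inv₀]; exact inv_mem hx
    | mul x y _ _ hx hy => rw [map_mul]; exact mul_mem hx hy
  have hpoly : ∀ p : MvPolynomial κ A, algebraMap (MvPolynomial κ A) (InvFld.Fld κ A) p ∈ E := by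
    intro p
    induction p using MvPolynomial.induction_on with
    | C a =>
      rw [← MvPolynomial.algebraMap_eq, ← IsScalarTower.algebraMap_apply]
      exact hA a
    | add p q hp hq => rw [map_add]; exact add_mem hp hq
    | mul_X p i hp =>
      rw [map_mul]
      exact mul_mem hp (IntermediateField.subset_adjoin k _ ⟨Sum.inl i, rfl⟩)
  rw [eq_top_iff]
  intro z _
  obtain ⟨a, b, -, rfl⟩ := IsFractionRing.div_surjective (A := MvPolynomial κ A) z
  exact div_mem (hpoly a) (hpoly b)

/-- Transport of generators along an isomorphism. -/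
theorem gen_transport {B B' : Type*} [Field B] [Field B'] [Algebra k B] [Algebra k B']
    (e : B ≃ₐ[k] B') {ι : Type*} (w : ι → B') (hw : AlgebraicIndependent k w)
    (hgen : IntermediateField.adjoin k (Set.range w) = ⊤) :
    AlgebraicIndependent k (e.symm ∘ w) ∧
      IntermediateField.adjoin k (Set.range (e.symm ∘ w)) = ⊤ := by
  refine ⟨hw.map' (f := e.symm.toAlgHom) e.symm.injective, ?_⟩
  rw [eq_top_iff]
  intro z _
  have hz : e z ∈ IntermediateField.adjoin k (Set.range w) := by rw [hgen]; trivial
  have : z = e.symm (e z) := (e.symm_apply_apply z).symm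
  rw [this]
  generalize e z = y at hz
  induction hz using IntermediateField.adjoin_induction with
  | mem x hx =>
    obtain ⟨i, rfl⟩ := hx
    exact IntermediateField.subset_adjoin k _ ⟨i, rfl⟩
  | algebraMap a => rw [AlgEquiv.commutes]; exact IntermediateField.algebraMap_mem _ _
  | add x y _ _ hx hy => rw [map_add]; exact add_mem hx hy
  | inv x _ hx => rw [map_inv₀]; exact inv_mem hx
  | mul x y _ _ hx hy => rw [map_mul]; exact mul_mem hx hy

end Gen

/-- The field of invariants of a faithful linear representation of the symmetric group is stably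
purely transcendental (S15698). -/
theorem sym (m : ℕ) (G : Subgroup (InvFld.Fld (Fin m) k ≃ₐ[k] InvFld.Fld (Fin m) k)) [Finite G]
    (e : G ≃* Equiv.Perm (Fin n))
    (hG : ∀ σ ∈ G, ∀ i : Fin m, σ (InvFld.X i) ∈ Submodule.span k
      (Set.range fun j : Fin m => (InvFld.X j : InvFld.Fld (Fin m) k))) :
    ∃ (r N : ℕ) (t : Fin N → InvFld.Fld (Fin r) (IntermediateField.fixedField G)),
      AlgebraicIndependent k t ∧ IntermediateField.adjoin k (Set.range t) = ⊤ := by
  set H := (permHom k n).range with hHdef
  haveI : Finite H :=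
    Finite.of_surjective (permHom k n).rangeRestrict (permHom k n).rangeRestrict_surjective
  let e' : G ≃* H := e.trans (MonoidHom.ofInjective (permHom_injective k n))
  have hH : ∀ τ ∈ H, ∀ i : Fin n, τ (InvFld.X i) ∈ Submodule.span k
      (Set.range fun j : Fin n => (InvFld.X j : InvFld.Fld (Fin n) k)) := by
    rintro _ ⟨σ, rfl⟩ i
    exact permHom_X_mem k n σ i
  obtain ⟨r, s, ⟨E⟩⟩ := NoNameStable.stable k m n G H e' hG hH
  obtain ⟨h1, h2⟩ := gen_fld (κ := Fin s) (uu k n) (algebraicIndependent_uu k n)
    (adjoin_uu_eq_top k n)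
  obtain ⟨h3, h4⟩ := gen_transport E _ h1 h2
  refine ⟨r, s + n, _ ∘ (finSumFinEquiv (m := s) (n := n)).symm,
    h3.comp _ (finSumFinEquiv (m := s) (n := n)).symm.injective, ?_⟩
  rw [EquivLike.range_comp]
  exact h4

end Groth.Agent.Lib.Helper26.NoNameSym
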