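import Mathlib
import Groth.Agent.Lib.Helper21.AdicNoetherian

set_option autoImplicit false
open IsLocalRing

namespace Groth.Agent.Lib.Helper26.Node24B

universe u

section phi
variable (A B : Type u) [CommRing A] [IsLocalRing A]
    [CommRing B] [IsLocalRing B] [Algebra A B] [IsLocalHom (algebraMap A B)]

theorem pow_le_comap (n : ℕ) :
    maximalIdeal A ^ n ≤ (maximalIdeal B ^ n).comap (algebraMap A B) := by
  rw [← Ideal.map_le_iff_le_comap, Ideal.map_pow]
  apply Ideal.pow_right_mono
  rw [Ideal.map_le_iff_le_comap]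
  intro a ha
  exact (IsLocalRing.mem_maximalIdeal _).mpr (fun h => (IsLocalRing.mem_maximalIdeal _).mp ha
    (isUnit_of_map_unit (algebraMap A B) a h))

/-- the map `A/𝔪_A^n → B/𝔪_B^n` -/
noncomputable def gmap (n : ℕ) : A ⧸ maximalIdeal A ^ n →+* B ⧸ maximalIdeal B ^ n :=
  Ideal.quotientMap _ (algebraMap A B) (pow_le_comap A B n)

@[simp] theorem gmap_mk (n : ℕ) (a : A) :
    gmap A B n (Ideal.Quotient.mk _ a) = Ideal.Quotient.mk _ (algebraMap A B a) := by
  simp [gmap]

theorem evalₐ_eq_mk {R : Type u} [CommRing R] (I : Ideal R) (x : AdicCompletion I R) :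
    ∃ f : AdicCompletion.AdicCauchySequence I R, x = AdicCompletion.mk I R f ∧
      ∀ n, AdicCompletion.evalₐ I n x = Ideal.Quotient.mk _ (f n) := by
  obtain ⟨f, rfl⟩ := AdicCompletion.mk_surjective I R x
  exact ⟨f, rfl, fun n => AdicCompletion.evalₐ_mk I n f⟩

theorem factorPow_evalₐ {R : Type u} [CommRing R] (I : Ideal R) (x : AdicCompletion I R)
    {m n : ℕ} (hle : m ≤ n) :
    Ideal.Quotient.factorPow I hle (AdicCompletion.evalₐ I n x) = AdicCompletion.evalₐ I m x := by
  obtain ⟨f, -, hf⟩ := evalₐ_eq_mk I x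
  rw [hf n, hf m]
  simp only [Ideal.Quotient.factorPow, Ideal.Quotient.factor_mk]
  rw [Ideal.Quotient.eq]
  have := f.2 hle
  rw [SModEq.sub_mem, smul_eq_mul, Ideal.mul_top] at this
  have h2 := Ideal.neg_mem_iff _ |>.mpr this
  simpa using h2

theorem phi_compat {m n : ℕ} (hle : m ≤ n) :
    (Ideal.Quotient.factorPow (maximalIdeal B) hle).comp
        ((gmap A B n).comp (AdicCompletion.evalₐ (maximalIdeal A) n).toRingHom) =
      (gmap A B m).comp (AdicCompletion.evalₐ (maximalIdeal A) m).toRingHom := by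
  ext x
  simp only [RingHom.coe_comp, Function.comp_apply, AlgHom.toRingHom_eq_coe, RingHom.coe_coe]
  rw [← factorPow_evalₐ (maximalIdeal A) x hle]
  obtain ⟨a, ha⟩ := Ideal.Quotient.mk_surjective (AdicCompletion.evalₐ (maximalIdeal A) n x)
  rw [← ha]
  simp only [Ideal.Quotient.factorPow, Ideal.Quotient.factor_mk, gmap_mk]

/-- the induced map on completions -/
noncomputable def phi : AdicCompletion (maximalIdeal A) A →+* AdicCompletion (maximalIdeal B) B :=
  AdicCompletion.liftRingHom (maximalIdeal B)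
    (fun n => (gmap A B n).comp (AdicCompletion.evalₐ (maximalIdeal A) n).toRingHom)
    (fun hle => phi_compat A B hle)

theorem evalₐ_phi (n : ℕ) (x : AdicCompletion (maximalIdeal A) A) :
    AdicCompletion.evalₐ (maximalIdeal B) n (phi A B x) =
      gmap A B n (AdicCompletion.evalₐ (maximalIdeal A) n x) := by
  unfold phi
  rw [AdicCompletion.evalₐ_liftRingHom _ _ (fun hle => phi_compat A B hle)]
  rfl

theorem phi_algebraMap (a : A) :
    phi A B (algebraMap A (AdicCompletion (maximalIdeal A) A) a) =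
      algebraMap A (AdicCompletion (maximalIdeal B) B) a := by
  apply AdicCompletion.ext_evalₐ
  intro n
  rw [evalₐ_phi, AdicCompletion.algebraMap_apply, AdicCompletion.algebraMap_apply,
    AdicCompletion.evalₐ_of, AdicCompletion.evalₐ_of, Algebra.algebraMap_self, RingHom.id_apply,
    gmap_mk]

end phi

end Groth.Agent.Lib.Helper26.Node24B
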