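import Mathlib
import Groth.Agent.Lib.Helper21.AdicNoetherian
import Groth.Agent.Lib.Helper1.ArtFunPS
import Groth.Agent.Lib.Helper26.Node24A
import Groth.Agent.Lib.Helper26.Node24B
import Groth.Agent.Lib.Helper26.Node24C

set_option autoImplicit false
open IsLocalRing

namespace Groth.Agent.Lib.Helper26.Node24D

universe u

section general
variable {R : Type u} [CommRing R] [IsLocalRing R] [IsNoetherianRing R]

theorem isNoetherianRing_cpl : IsNoetherianRing (AdicCompletion (maximalIdeal R) R) :=
  Groth.Agent.Lib.Helper21.isNoetherianRing_adicCompletion_of_fg (maximalIdeal R)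
    (IsNoetherian.noetherian _)

theorem mem_pow_iff (x : AdicCompletion (maximalIdeal R) R) (n : ℕ) :
    x ∈ maximalIdeal (AdicCompletion (maximalIdeal R) R) ^ n ↔
      AdicCompletion.evalₐ (maximalIdeal R) n x = 0 := by
  rw [AdicCompletion.maximalIdeal_eq_map, ← Ideal.map_pow]
  have h1 : x ∈ Ideal.map (algebraMap R (AdicCompletion (maximalIdeal R) R)) (maximalIdeal R ^ n) ↔
      x ∈ LinearMap.ker (AdicCompletion.eval (maximalIdeal R) R n) := by
    rw [← AdicCompletion.pow_smul_top_eq_ker_eval (maximalIdeal R).fg_of_isNoetherianRing,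
      Ideal.smul_top_eq_map]
    rfl
  rw [h1, LinearMap.mem_ker]
  constructor
  · intro h
    rw [← AdicCompletion.factor_eval_eq_evalₐ (maximalIdeal R) x (by simp), h, map_zero]
  · intro h
    rw [← AdicCompletion.factor_evalₐ_eq_eval (maximalIdeal R) x (by simp), h, map_zero]

theorem mk_sub_of_mem (f : AdicCompletion.AdicCauchySequence (maximalIdeal R) R) (n : ℕ) :
    AdicCompletion.mk (maximalIdeal R) R f - AdicCompletion.of (maximalIdeal R) R (f n) ∈
      maximalIdeal (AdicCompletion (maximalIdeal R) R) ^ n := by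
  rw [mem_pow_iff, map_sub, AdicCompletion.evalₐ_mk, AdicCompletion.evalₐ_of, sub_self]

/-- ideals of the completion are closed -/
theorem mem_of_forall_approx (J : Ideal (AdicCompletion (maximalIdeal R) R))
    (x : AdicCompletion (maximalIdeal R) R)
    (h : ∀ n, ∃ j ∈ J, x - j ∈ maximalIdeal (AdicCompletion (maximalIdeal R) R) ^ n) : x ∈ J := by
  haveI := isNoetherianRing_cpl (R := R)
  have hH : IsHausdorff (maximalIdeal (AdicCompletion (maximalIdeal R) R))
      (AdicCompletion (maximalIdeal R) R ⧸ J) := inferInstance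
  rw [← Ideal.Quotient.eq_zero_iff_mem]
  apply hH.haus'
  intro n
  obtain ⟨j, hj, hxj⟩ := h n
  rw [SModEq.zero]
  have : (Ideal.Quotient.mk J x) = (x - j) • (Ideal.Quotient.mk J 1) := by
    rw [Algebra.smul_def, Ideal.Quotient.algebraMap_eq, map_one, mul_one, map_sub,
      Ideal.Quotient.eq_zero_iff_mem.mpr hj, sub_zero]
  rw [this]
  exact Submodule.smul_mem_smul hxj trivial

theorem exists_sub_algebraMap_mem (x : AdicCompletion (maximalIdeal R) R) :
    ∃ r : R, x - AdicCompletion.of (maximalIdeal R) R r ∈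
      maximalIdeal (AdicCompletion (maximalIdeal R) R) := by
  obtain ⟨r, hr⟩ := Ideal.Quotient.mk_surjective (AdicCompletion.evalₐ (maximalIdeal R) 1 x)
  refine ⟨r, ?_⟩
  have := (mem_pow_iff (x - AdicCompletion.of (maximalIdeal R) R r) 1).mpr (by
    rw [map_sub, AdicCompletion.evalₐ_of, hr, sub_self])
  simpa using this

end general

end Groth.Agent.Lib.Helper26.Node24D
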