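import Mathlib
import Groth.Agent.Lib.Helper1.ArtFunPS
import Groth.Agent.Lib.Helper26.Node24A
import Groth.Agent.Lib.Helper26.Node24B
import Groth.Agent.Lib.Helper26.Node24C
import Groth.Agent.Lib.Helper26.Node24D

set_option autoImplicit false
open IsLocalRing

namespace Groth.Agent.Lib.Helper26.Node24E

open Groth.Agent.Lib.Helper26.Node24A Groth.Agent.Lib.Helper26.Node24B
  Groth.Agent.Lib.Helper26.Node24C Groth.Agent.Lib.Helper26.Node24D

universe u

variable (A B : Type u) [CommRing A] [IsLocalRing A] [IsNoetherianRing A]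
    [CommRing B] [IsLocalRing B] [IsNoetherianRing B] [Algebra A B] [IsLocalHom (algebraMap A B)]

omit [IsLocalRing A] [IsNoetherianRing A] [IsLocalHom (algebraMap A B)] in
theorem limit_mem (𝔞 : Ideal A) (f : AdicCompletion.AdicCauchySequence (maximalIdeal B) B) (u : B)
    (h : ∀ n, f n - u ∈ 𝔞.map (algebraMap A B)) :
    AdicCompletion.mk _ _ f - algebraMap B (AdicCompletion (maximalIdeal B) B) u ∈
      𝔞.map (algebraMap A (AdicCompletion (maximalIdeal B) B)) := by
  apply mem_of_forall_approx
  intro n
  refine ⟨algebraMap B (AdicCompletion (maximalIdeal B) B) (f n - u), ?_, ?_⟩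
  · rw [IsScalarTower.algebraMap_eq A B (AdicCompletion (maximalIdeal B) B), ← Ideal.map_map]
    exact Ideal.mem_map_of_mem _ (h n)
  · have : AdicCompletion.mk (maximalIdeal B) B f - algebraMap B (AdicCompletion (maximalIdeal B) B) u -
        algebraMap B (AdicCompletion (maximalIdeal B) B) (f n - u) =
        AdicCompletion.mk (maximalIdeal B) B f - AdicCompletion.of (maximalIdeal B) B (f n) := by
      rw [map_sub, AdicCompletion.algebraMap_apply, AdicCompletion.algebraMap_apply]
      simp only [Algebra.algebraMap_self, RingHom.id_apply]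
      ring
    rw [this]
    exact mk_sub_of_mem f n

/-- the data produced by the approximation process, packaged in the completions -/
theorem exists_limits
    (hres : Function.Bijective (IsLocalRing.ResidueField.map (algebraMap A B)))
    (u v : B)
    (huv : u * v ∈ (maximalIdeal A).map (algebraMap A B))
    (hgen : maximalIdeal B = Ideal.span {u, v} ⊔ (maximalIdeal A).map (algebraMap A B)) :
    ∃ (α : AdicCompletion (maximalIdeal A) A) (uh vh : AdicCompletion (maximalIdeal B) B),
      α ∈ (maximalIdeal A).map (algebraMap A (AdicCompletion (maximalIdeal A) A)) ∧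
      uh * vh = phi A B α ∧
      uh - algebraMap B (AdicCompletion (maximalIdeal B) B) u ∈
        (maximalIdeal A).map (algebraMap A (AdicCompletion (maximalIdeal B) B)) ∧
      vh - algebraMap B (AdicCompletion (maximalIdeal B) B) v ∈
        (maximalIdeal A).map (algebraMap A (AdicCompletion (maximalIdeal B) B)) := by
  obtain ⟨us, vs, αs, hu0, hv0, hus, hvs, hαs, hprod, hustep, hvstep, hαstep⟩ :=
    exists_approx hres u v huv hgen
  have hmapB : ∀ N : ℕ, ((maximalIdeal A) ^ N).map (algebraMap A B) ≤ (maximalIdeal B) ^ N := by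
    intro N
    rw [Ideal.map_le_iff_le_comap]; exact pow_le_comap A B N
  -- Cauchy sequences
  let fu : AdicCompletion.AdicCauchySequence (maximalIdeal B) B :=
    AdicCompletion.AdicCauchySequence.mk _ _ us (by
      intro n
      rw [SModEq.sub_mem, smul_eq_mul, Ideal.mul_top]
      have := hmapB (n + 1) (hustep n)
      have h2 := Ideal.pow_le_pow_right (Nat.le_succ n) this
      rw [← Ideal.neg_mem_iff]; simpa using h2)
  let fv : AdicCompletion.AdicCauchySequence (maximalIdeal B) B :=
    AdicCompletion.AdicCauchySequence.mk _ _ vs (by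
      intro n
      rw [SModEq.sub_mem, smul_eq_mul, Ideal.mul_top]
      have := hmapB (n + 1) (hvstep n)
      have h2 := Ideal.pow_le_pow_right (Nat.le_succ n) this
      rw [← Ideal.neg_mem_iff]; simpa using h2)
  let fα : AdicCompletion.AdicCauchySequence (maximalIdeal A) A :=
    AdicCompletion.AdicCauchySequence.mk _ _ αs (by
      intro n
      rw [SModEq.sub_mem, smul_eq_mul, Ideal.mul_top]
      have h2 := Ideal.pow_le_pow_right (Nat.le_succ n) (hαstep n)
      rw [← Ideal.neg_mem_iff]; simpa using h2)
  refine ⟨AdicCompletion.mk _ _ fα, AdicCompletion.mk _ _ fu, AdicCompletion.mk _ _ fv, ?_, ?_, ?_, ?_⟩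
  · rw [← AdicCompletion.maximalIdeal_eq_map]
    have h1 := (mem_pow_iff (AdicCompletion.mk (maximalIdeal A) A fα) 1).mpr (by
      rw [AdicCompletion.evalₐ_mk, Ideal.Quotient.eq_zero_iff_mem, pow_one]
      exact hαs 1)
    simpa using h1
  · apply AdicCompletion.ext_evalₐ
    intro n
    rw [map_mul, AdicCompletion.evalₐ_mk, AdicCompletion.evalₐ_mk, evalₐ_phi,
      AdicCompletion.evalₐ_mk, gmap_mk, ← map_mul, Ideal.Quotient.eq]
    exact Ideal.pow_le_pow_right (Nat.le_succ n) (hmapB (n + 1) (hprod n))
  · exact limit_mem A B (maximalIdeal A) fu u hus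
  · exact limit_mem A B (maximalIdeal A) fv v hvs


omit [IsNoetherianRing A] in
theorem mapA_le : (maximalIdeal A).map (algebraMap A (AdicCompletion (maximalIdeal B) B)) ≤
    maximalIdeal (AdicCompletion (maximalIdeal B) B) := by
  rw [IsScalarTower.algebraMap_eq A B (AdicCompletion (maximalIdeal B) B), ← Ideal.map_map,
    AdicCompletion.maximalIdeal_eq_map]
  apply Ideal.map_mono
  exact ((IsLocalRing.local_hom_TFAE (algebraMap A B)).out 0 2).mp ‹IsLocalHom (algebraMap A B)›

omit [IsNoetherianRing A] in
theorem algebraMap_mem_max (a : A) (ha : a ∈ maximalIdeal A) :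
    algebraMap A (AdicCompletion (maximalIdeal B) B) a ∈
      maximalIdeal (AdicCompletion (maximalIdeal B) B) :=
  mapA_le A B (Ideal.mem_map_of_mem _ ha)

theorem phi_mem_max (r : AdicCompletion (maximalIdeal A) A)
    (hr : r ∈ maximalIdeal (AdicCompletion (maximalIdeal A) A)) :
    phi A B r ∈ maximalIdeal (AdicCompletion (maximalIdeal B) B) := by
  rw [AdicCompletion.maximalIdeal_eq_map] at hr
  have hle : (maximalIdeal A).map (algebraMap A (AdicCompletion (maximalIdeal A) A)) ≤
      (maximalIdeal (AdicCompletion (maximalIdeal B) B)).comap (phi A B) := by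
    rw [Ideal.map_le_iff_le_comap]
    intro a ha
    rw [Ideal.mem_comap, Ideal.mem_comap, phi_algebraMap]
    exact algebraMap_mem_max A B a ha
  exact hle hr

theorem Psi_surjective
    (hres : Function.Bijective (IsLocalRing.ResidueField.map (algebraMap A B)))
    (u v : B)
    (hgen : IsLocalRing.maximalIdeal B = Ideal.span {u, v} ⊔ (IsLocalRing.maximalIdeal A).map (algebraMap A B))
    (uh vh : AdicCompletion (maximalIdeal B) B)
    (huh : uh - algebraMap B (AdicCompletion (maximalIdeal B) B) u ∈
        (maximalIdeal A).map (algebraMap A (AdicCompletion (maximalIdeal B) B)))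
    (hvh : vh - algebraMap B (AdicCompletion (maximalIdeal B) B) v ∈
        (maximalIdeal A).map (algebraMap A (AdicCompletion (maximalIdeal B) B)))
    (huh' : uh ∈ maximalIdeal (AdicCompletion (maximalIdeal B) B))
    (hvh' : vh ∈ maximalIdeal (AdicCompletion (maximalIdeal B) B))
    (Ψ : MvPowerSeries (Fin 2) (AdicCompletion (maximalIdeal A) A) →+* AdicCompletion (maximalIdeal B) B)
    (hΨC : ∀ r, Ψ (MvPowerSeries.C r) = phi A B r)
    (hΨ0 : Ψ (MvPowerSeries.X 0) = uh) (hΨ1 : Ψ (MvPowerSeries.X 1) = vh) :
    Function.Surjective Ψ := by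
  have hJ : (maximalIdeal (MvPowerSeries (Fin 2) (AdicCompletion (maximalIdeal A) A))).map Ψ =
      maximalIdeal (AdicCompletion (maximalIdeal B) B) := by
    apply le_antisymm
    · rw [Groth.Agent.Lib.Helper1.ArtFunLib.PS.maximalIdeal_eq_sup, Ideal.map_sup]
      apply sup_le
      · rw [Ideal.map_map, Ideal.map_le_iff_le_comap]
        intro r hr
        rw [Ideal.mem_comap, RingHom.comp_apply, hΨC]
        exact phi_mem_max A B r hr
      · rw [Ideal.map_span, Ideal.span_le]
        rintro _ ⟨_, ⟨i, rfl⟩, rfl⟩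
        fin_cases i
        · show Ψ (MvPowerSeries.X 0) ∈ _
          rw [hΨ0]; exact huh'
        · show Ψ (MvPowerSeries.X 1) ∈ _
          rw [hΨ1]; exact hvh'
    · have hA : (maximalIdeal A).map (algebraMap A (AdicCompletion (maximalIdeal B) B)) ≤
          (maximalIdeal (MvPowerSeries (Fin 2) (AdicCompletion (maximalIdeal A) A))).map Ψ := by
        rw [Ideal.map_le_iff_le_comap]
        intro a ha
        rw [Ideal.mem_comap, ← phi_algebraMap, ← hΨC]
        apply Ideal.mem_map_of_mem
        rw [Groth.Agent.Lib.Helper1.ArtFunLib.PS.maximalIdeal_eq_sup]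
        apply Ideal.mem_sup_left
        apply Ideal.mem_map_of_mem
        rw [AdicCompletion.maximalIdeal_eq_map]
        exact Ideal.mem_map_of_mem _ ha
      have hX : ∀ i, Ψ (MvPowerSeries.X i) ∈
          (maximalIdeal (MvPowerSeries (Fin 2) (AdicCompletion (maximalIdeal A) A))).map Ψ := by
        intro i
        apply Ideal.mem_map_of_mem
        exact Groth.Agent.Lib.Helper1.ArtFunLib.PS.X_mem_maximalIdeal i
      rw [AdicCompletion.maximalIdeal_eq_map]
      refine (Ideal.map_mono hgen.le).trans ?_
      rw [Ideal.map_sup, Ideal.map_map, ← IsScalarTower.algebraMap_eq]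
      apply sup_le _ hA
      rw [Ideal.map_span, Ideal.span_le]
      rintro _ ⟨w, hw, rfl⟩
      rcases hw with rfl | rfl
      · have : algebraMap B (AdicCompletion (maximalIdeal B) B) w = uh -
            (uh - algebraMap B (AdicCompletion (maximalIdeal B) B) w) := by ring
        rw [SetLike.mem_coe, this]
        exact Ideal.sub_mem _ (hΨ0 ▸ hX 0) (hA huh)
      · have : algebraMap B (AdicCompletion (maximalIdeal B) B) w = vh -
            (vh - algebraMap B (AdicCompletion (maximalIdeal B) B) w) := by ring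
        rw [SetLike.mem_coe, this]
        exact Ideal.sub_mem _ (hΨ1 ▸ hX 1) (hA hvh)
  have : IsAdicComplete (maximalIdeal (MvPowerSeries (Fin 2) (AdicCompletion (maximalIdeal A) A)))
      (MvPowerSeries (Fin 2) (AdicCompletion (maximalIdeal A) A)) :=
    Groth.Agent.Lib.Helper1.ArtFunLib.PS.isAdicComplete_mvPowerSeries
  have : IsHausdorff ((maximalIdeal (MvPowerSeries (Fin 2)
      (AdicCompletion (maximalIdeal A) A))).map Ψ) (AdicCompletion (maximalIdeal B) B) := by
    rw [hJ]; infer_instance
  apply surjective_of_mk_map_comp_surjective Ψ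
    (I := maximalIdeal (MvPowerSeries (Fin 2) (AdicCompletion (maximalIdeal A) A)))
  intro y
  obtain ⟨bh, rfl⟩ := Ideal.Quotient.mk_surjective y
  obtain ⟨b, hb⟩ := exists_sub_algebraMap_mem bh
  obtain ⟨a, ha⟩ := exists_sub_mem_max hres b
  refine ⟨MvPowerSeries.C (algebraMap A (AdicCompletion (maximalIdeal A) A) a), ?_⟩
  rw [RingHom.comp_apply, hΨC, phi_algebraMap, Ideal.Quotient.eq, hJ, ← Ideal.neg_mem_iff]
  have h1 : algebraMap B (AdicCompletion (maximalIdeal B) B) (b - algebraMap A B a) ∈
      maximalIdeal (AdicCompletion (maximalIdeal B) B) := by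
    rw [AdicCompletion.maximalIdeal_eq_map]; exact Ideal.mem_map_of_mem _ ha
  have h2 : -(algebraMap A (AdicCompletion (maximalIdeal B) B) a - bh) =
      (bh - AdicCompletion.of (maximalIdeal B) B b) +
        algebraMap B (AdicCompletion (maximalIdeal B) B) (b - algebraMap A B a) := by
    rw [map_sub, ← IsScalarTower.algebraMap_apply]
    have : algebraMap B (AdicCompletion (maximalIdeal B) B) b = AdicCompletion.of (maximalIdeal B) B b := rfl
    rw [this]
    ring
  rw [h2]
  exact Ideal.add_mem _ hb h1

theorem main_7924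
    (hres : Function.Bijective (IsLocalRing.ResidueField.map (algebraMap A B)))
    (u v : B) (hu : u ∈ IsLocalRing.maximalIdeal B) (hv : v ∈ IsLocalRing.maximalIdeal B)
    (huv : u * v ∈ (IsLocalRing.maximalIdeal A).map (algebraMap A B))
    (hgen : IsLocalRing.maximalIdeal B = Ideal.span {u, v} ⊔ (IsLocalRing.maximalIdeal A).map (algebraMap A B)) :
    ∃ (α : AdicCompletion (IsLocalRing.maximalIdeal A) A)
      (_ : α ∈ (IsLocalRing.maximalIdeal A).map (algebraMap A (AdicCompletion (IsLocalRing.maximalIdeal A) A)))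
      (ψ : (MvPowerSeries (Fin 2) (AdicCompletion (IsLocalRing.maximalIdeal A) A) ⧸ Ideal.span
          {(MvPowerSeries.X 0 * MvPowerSeries.X 1 -
            MvPowerSeries.C α :
              MvPowerSeries (Fin 2) (AdicCompletion (IsLocalRing.maximalIdeal A) A))}) →ₐ[A]
        AdicCompletion (IsLocalRing.maximalIdeal B) B),
      Function.Surjective ψ ∧
        ψ (Ideal.Quotient.mk _ (MvPowerSeries.X 0)) -
            algebraMap B (AdicCompletion (IsLocalRing.maximalIdeal B) B) u ∈
          (IsLocalRing.maximalIdeal A).map (algebraMap A (AdicCompletion (IsLocalRing.maximalIdeal B) B)) ∧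
        ψ (Ideal.Quotient.mk _ (MvPowerSeries.X 1)) -
            algebraMap B (AdicCompletion (IsLocalRing.maximalIdeal B) B) v ∈
          (IsLocalRing.maximalIdeal A).map (algebraMap A (AdicCompletion (IsLocalRing.maximalIdeal B) B)) := by
  obtain ⟨α, uh, vh, hα, hprod, huh, hvh⟩ := exists_limits A B hres u v huv hgen
  have hmA := mapA_le A B
  have hofu : algebraMap B (AdicCompletion (maximalIdeal B) B) u ∈
      maximalIdeal (AdicCompletion (maximalIdeal B) B) := by
    rw [AdicCompletion.maximalIdeal_eq_map]; exact Ideal.mem_map_of_mem _ hu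
  have hofv : algebraMap B (AdicCompletion (maximalIdeal B) B) v ∈
      maximalIdeal (AdicCompletion (maximalIdeal B) B) := by
    rw [AdicCompletion.maximalIdeal_eq_map]; exact Ideal.mem_map_of_mem _ hv
  have huh' : uh ∈ maximalIdeal (AdicCompletion (maximalIdeal B) B) := by
    have : uh = (uh - algebraMap B (AdicCompletion (maximalIdeal B) B) u) +
        algebraMap B (AdicCompletion (maximalIdeal B) B) u := by ring
    rw [this]; exact Ideal.add_mem _ (hmA huh) hofu
  have hvh' : vh ∈ maximalIdeal (AdicCompletion (maximalIdeal B) B) := by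
    have : vh = (vh - algebraMap B (AdicCompletion (maximalIdeal B) B) v) +
        algebraMap B (AdicCompletion (maximalIdeal B) B) v := by ring
    rw [this]; exact Ideal.add_mem _ (hmA hvh) hofv
  obtain ⟨Ψ, hΨC, hΨX⟩ := exists_evalHom (phi A B) ![uh, vh] (by
    intro i; fin_cases i
    · simpa using huh'
    · simpa using hvh')
  have hΨ0 : Ψ (MvPowerSeries.X 0) = uh := by rw [hΨX]; rfl
  have hΨ1 : Ψ (MvPowerSeries.X 1) = vh := by rw [hΨX]; rfl
  have hcomm : ∀ a : A, Ψ (algebraMap A (MvPowerSeries (Fin 2) (AdicCompletion (maximalIdeal A) A)) a) =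
      algebraMap A (AdicCompletion (maximalIdeal B) B) a := by
    intro a
    rw [MvPowerSeries.algebraMap_apply, hΨC, phi_algebraMap]
  let Ψa : MvPowerSeries (Fin 2) (AdicCompletion (maximalIdeal A) A) →ₐ[A]
      AdicCompletion (maximalIdeal B) B := { Ψ with commutes' := hcomm }
  have hΨa : ∀ x, Ψa x = Ψ x := fun x => rfl
  have hker : ∀ x ∈ Ideal.span
          {(MvPowerSeries.X 0 * MvPowerSeries.X 1 -
            MvPowerSeries.C α :
              MvPowerSeries (Fin 2) (AdicCompletion (IsLocalRing.maximalIdeal A) A))}, Ψa x = 0 := by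
    intro x hx
    have hle : Ideal.span
          {(MvPowerSeries.X 0 * MvPowerSeries.X 1 -
            MvPowerSeries.C α :
              MvPowerSeries (Fin 2) (AdicCompletion (IsLocalRing.maximalIdeal A) A))} ≤
        RingHom.ker Ψ := by
      rw [Ideal.span_le, Set.singleton_subset_iff, SetLike.mem_coe, RingHom.mem_ker, map_sub,
        map_mul, hΨ0, hΨ1, hΨC, hprod, sub_self]
    exact hle hx
  refine ⟨α, hα, Ideal.Quotient.liftₐ _ Ψa hker, ?_, ?_, ?_⟩
  · -- surjectivity
    have hs := Psi_surjective A B hres u v hgen uh vh huh hvh huh' hvh' Ψ hΨC hΨ0 hΨ1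
    intro y
    obtain ⟨x, hx⟩ := hs y
    exact ⟨Ideal.Quotient.mk _ x, hx⟩
  · show Ψ (MvPowerSeries.X 0) - _ ∈ _
    rw [hΨ0]; exact huh
  · show Ψ (MvPowerSeries.X 1) - _ ∈ _
    rw [hΨ1]; exact hvh

end Groth.Agent.Lib.Helper26.Node24E
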