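import Mathlib
import Groth.Agent.Lib.Helper3.PowerSeriesAut
import Groth.Agent.Lib.Helper26.Node24E
import Groth.Agent.Lib.Helper26.Node25A

set_option autoImplicit false
open IsLocalRing

namespace Groth.Agent.Lib.Helper26.Node25B

open Groth.Agent.Lib.Helper26.Node24A Groth.Agent.Lib.Helper26.Node24B
  Groth.Agent.Lib.Helper26.Node24C Groth.Agent.Lib.Helper26.Node24D
  Groth.Agent.Lib.Helper26.Node24E Groth.Agent.Lib.Helper26.Node25A

universe u

/-- sandwich: a surjection out of a ring which is itself a quotient of a Noetherian ring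
isomorphic to the target is injective -/
theorem injective_of_sandwich {T S T' : Type u} [CommRing T] [IsNoetherianRing T] [CommRing S]
    [CommRing T'] (τ : T →+* S) (hτ : Function.Surjective τ) (l : S →+* T')
    (hl : Function.Surjective l) (e : T' ≃+* T) : Function.Injective l := by
  let θ : T →+* T := e.toRingHom.comp (l.comp τ)
  have hθ : Function.Surjective θ := e.surjective.comp (hl.comp hτ)
  have hinj := Groth.Agent.Lib.Helper3.ringHom_injective_of_surjective_of_isNoetherianRing θ hθ
  rw [injective_iff_map_eq_zero]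
  intro s hs
  obtain ⟨t, rfl⟩ := hτ s
  have : θ t = 0 := by
    show e (l (τ t)) = 0
    rw [hs, map_zero]
  rw [(injective_iff_map_eq_zero θ).mp hinj t this, map_zero]

section res
variable (A : Type u) [CommRing A] [IsLocalRing A] [IsNoetherianRing A]

/-- the residue map of the completion, with values in the residue field of `A` -/
noncomputable def resH : AdicCompletion (maximalIdeal A) A →+* ResidueField A :=
  (RingEquiv.ofBijective _ (AdicCompletion.residueField_map_bijective A)).symm.toRingHom.comp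
    (residue (AdicCompletion (maximalIdeal A) A))

theorem resH_apply (x : AdicCompletion (maximalIdeal A) A) :
    resH A x = (RingEquiv.ofBijective _ (AdicCompletion.residueField_map_bijective A)).symm
      (residue _ x) := rfl

theorem resH_algebraMap (a : A) :
    resH A (algebraMap A (AdicCompletion (maximalIdeal A) A) a) = residue A a := by
  rw [resH_apply, RingEquiv.symm_apply_eq, RingEquiv.ofBijective_apply,
    IsLocalRing.ResidueField.map_residue]

theorem resH_surjective : Function.Surjective (resH A) := by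
  intro x
  obtain ⟨a, rfl⟩ := residue_surjective x
  exact ⟨_, resH_algebraMap A a⟩

theorem ker_resH : RingHom.ker (resH A) =
    (maximalIdeal A).map (algebraMap A (AdicCompletion (maximalIdeal A) A)) := by
  rw [← AdicCompletion.maximalIdeal_eq_map]
  ext x
  rw [RingHom.mem_ker, resH_apply, EmbeddingLike.map_eq_zero_iff, residue_eq_zero_iff]

end res


section main
variable (A B : Type u) [CommRing A] [IsLocalRing A] [IsNoetherianRing A]
    [CommRing B] [IsLocalRing B] [IsNoetherianRing B] [Algebra A B] [IsLocalHom (algebraMap A B)]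

theorem exists_Psi
    (hres : Function.Bijective (IsLocalRing.ResidueField.map (algebraMap A B)))
    (u v : B) (hu : u ∈ IsLocalRing.maximalIdeal B) (hv : v ∈ IsLocalRing.maximalIdeal B)
    (huv : u * v ∈ (IsLocalRing.maximalIdeal A).map (algebraMap A B))
    (hgen : IsLocalRing.maximalIdeal B = Ideal.span {u, v} ⊔ (IsLocalRing.maximalIdeal A).map (algebraMap A B)) :
    ∃ (α : AdicCompletion (maximalIdeal A) A)
      (Ψ : MvPowerSeries (Fin 2) (AdicCompletion (maximalIdeal A) A) →ₐ[A]
        AdicCompletion (maximalIdeal B) B),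
      α ∈ (maximalIdeal A).map (algebraMap A (AdicCompletion (maximalIdeal A) A)) ∧
      Function.Surjective Ψ ∧
      Ψ (MvPowerSeries.X 0 * MvPowerSeries.X 1 - MvPowerSeries.C α) = 0 ∧
      Ψ (MvPowerSeries.X 0) - algebraMap B (AdicCompletion (maximalIdeal B) B) u ∈
          (maximalIdeal A).map (algebraMap A (AdicCompletion (maximalIdeal B) B)) ∧
      Ψ (MvPowerSeries.X 1) - algebraMap B (AdicCompletion (maximalIdeal B) B) v ∈
          (maximalIdeal A).map (algebraMap A (AdicCompletion (maximalIdeal B) B)) := by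
  obtain ⟨α, uh, vh, hα, hprod, huh, hvh⟩ := exists_limits A B hres u v huv hgen
  have hmA := mapA_le A B
  have hofu : algebraMap B (AdicCompletion (maximalIdeal B) B) u ∈
      maximalIdeal (AdicCompletion (maximalIdeal B) B) := by
    rw [AdicCompletion.maximalIdeal_eq_map]; exact Ideal.mem_map_of_mem _ hu
  have hofv : algebraMap B (AdicCompletion (maximalIdeal B) B) v ∈
      maximalIdeal (AdicCompletion (maximalIdeal B) B) := by
    rw [AdicCompletion.maximalIdeal_eq_map]; exact Ideal.mem_map_of_mem _ hv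
  have huh' : uh ∈ maximalIdeal (AdicCompletion (maximalIdeal B) B) := by
    have : uh = (uh - algebraMap B (AdicCompletion (maximalIdeal B) B) u) +
        algebraMap B (AdicCompletion (maximalIdeal B) B) u := by ring
    rw [this]; exact Ideal.add_mem _ (hmA huh) hofu
  have hvh' : vh ∈ maximalIdeal (AdicCompletion (maximalIdeal B) B) := by
    have : vh = (vh - algebraMap B (AdicCompletion (maximalIdeal B) B) v) +
        algebraMap B (AdicCompletion (maximalIdeal B) B) v := by ring
    rw [this]; exact Ideal.add_mem _ (hmA hvh) hofv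
  obtain ⟨Ψ, hΨC, hΨX⟩ := exists_evalHom (phi A B) ![uh, vh] (by
    intro i; fin_cases i
    · simpa using huh'
    · simpa using hvh')
  have hΨ0 : Ψ (MvPowerSeries.X 0) = uh := by rw [hΨX]; rfl
  have hΨ1 : Ψ (MvPowerSeries.X 1) = vh := by rw [hΨX]; rfl
  have hcomm : ∀ a : A, Ψ (algebraMap A (MvPowerSeries (Fin 2) (AdicCompletion (maximalIdeal A) A)) a) =
      algebraMap A (AdicCompletion (maximalIdeal B) B) a := by
    intro a
    rw [MvPowerSeries.algebraMap_apply, hΨC, phi_algebraMap]
  let Ψa : MvPowerSeries (Fin 2) (AdicCompletion (maximalIdeal A) A) →ₐ[A]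
      AdicCompletion (maximalIdeal B) B := { Ψ with commutes' := hcomm }
  refine ⟨α, Ψa, hα, ?_, ?_, ?_, ?_⟩
  · exact Psi_surjective A B hres u v hgen uh vh huh hvh huh' hvh' Ψ hΨC hΨ0 hΨ1
  · show Ψ _ = 0
    rw [map_sub, map_mul, hΨ0, hΨ1, hΨC, hprod, sub_self]
  · show Ψ _ - _ ∈ _
    rw [hΨ0]; exact huh
  · show Ψ _ - _ ∈ _
    rw [hΨ1]; exact hvh

omit [IsNoetherianRing A] in
theorem C_mem_of_mem (α : AdicCompletion (maximalIdeal A) A)
    (hα : α ∈ (maximalIdeal A).map (algebraMap A (AdicCompletion (maximalIdeal A) A))) :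
    (MvPowerSeries.C α : MvPowerSeries (Fin 2) (AdicCompletion (maximalIdeal A) A)) ∈
      (maximalIdeal A).map (algebraMap A (MvPowerSeries (Fin 2) (AdicCompletion (maximalIdeal A) A))) := by
  have h1 : (MvPowerSeries.C : AdicCompletion (maximalIdeal A) A →+*
      MvPowerSeries (Fin 2) (AdicCompletion (maximalIdeal A) A)).comp
        (algebraMap A (AdicCompletion (maximalIdeal A) A)) =
      algebraMap A (MvPowerSeries (Fin 2) (AdicCompletion (maximalIdeal A) A)) := by
    ext1 a
    rw [RingHom.comp_apply, MvPowerSeries.algebraMap_apply]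
  rw [← h1, ← Ideal.map_map]
  exact Ideal.mem_map_of_mem _ hα

omit [IsNoetherianRing B] [IsLocalHom (algebraMap A B)] in
theorem ker_le_fibre
    (e : AdicCompletion ((IsLocalRing.maximalIdeal B).map (Ideal.Quotient.mk
          ((IsLocalRing.maximalIdeal A).map (algebraMap A B))))
          (B ⧸ (IsLocalRing.maximalIdeal A).map (algebraMap A B)) ≃+*
        (MvPowerSeries (Fin 2) (IsLocalRing.ResidueField A) ⧸
          Ideal.span {(MvPowerSeries.X 0 * MvPowerSeries.X 1 : MvPowerSeries (Fin 2) (IsLocalRing.ResidueField A))}))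
    (α : AdicCompletion (maximalIdeal A) A)
    (hα : α ∈ (maximalIdeal A).map (algebraMap A (AdicCompletion (maximalIdeal A) A)))
    (Ψ : MvPowerSeries (Fin 2) (AdicCompletion (maximalIdeal A) A) →ₐ[A]
        AdicCompletion (maximalIdeal B) B)
    (hΨs : Function.Surjective Ψ)
    (hΨg : Ψ (MvPowerSeries.X 0 * MvPowerSeries.X 1 - MvPowerSeries.C α) = 0) :
    RingHom.ker Ψ ≤ Ideal.span {(MvPowerSeries.X 0 * MvPowerSeries.X 1 - MvPowerSeries.C α :
        MvPowerSeries (Fin 2) (AdicCompletion (maximalIdeal A) A))} ⊔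
      (maximalIdeal A).map (algebraMap A (MvPowerSeries (Fin 2) (AdicCompletion (maximalIdeal A) A))) := by
  set g : MvPowerSeries (Fin 2) (AdicCompletion (maximalIdeal A) A) :=
    MvPowerSeries.X 0 * MvPowerSeries.X 1 - MvPowerSeries.C α with hg
  set 𝔞' := (maximalIdeal A).map
    (algebraMap A (MvPowerSeries (Fin 2) (AdicCompletion (maximalIdeal A) A))) with h𝔞'
  set P := Ideal.span {g} ⊔ 𝔞' with hP
  -- the coefficientwise residue map
  let mapres : MvPowerSeries (Fin 2) (AdicCompletion (maximalIdeal A) A) →+*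
      MvPowerSeries (Fin 2) (ResidueField A) := MvPowerSeries.map (resH A)
  have hms : Function.Surjective mapres := mvmap_surjective _ (resH_surjective A)
  have hker : RingHom.ker mapres ≤ 𝔞' := by
    intro f hf
    have h1 := (mem_ker_mvmap (resH A) f).mp hf
    apply mem_map_of_coeff_mem (maximalIdeal A) (IsNoetherian.noetherian _) f
    intro d
    rw [← ker_resH]
    exact h1 d
  have hker' : RingHom.ker mapres ≤ RingHom.ker (Ideal.Quotient.mk P) := by
    rw [Ideal.mk_ker]
    exact hker.trans le_sup_right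
  let τ0 : MvPowerSeries (Fin 2) (ResidueField A) →+*
      MvPowerSeries (Fin 2) (AdicCompletion (maximalIdeal A) A) ⧸ P :=
    mapres.liftOfSurjective hms ⟨Ideal.Quotient.mk P, hker'⟩
  have hτ0 : ∀ f, τ0 (mapres f) = Ideal.Quotient.mk P f := fun f =>
    RingHom.liftOfSurjective_comp_apply mapres hms ⟨Ideal.Quotient.mk P, hker'⟩ f
  have hXX : (MvPowerSeries.X 0 * MvPowerSeries.X 1 :
      MvPowerSeries (Fin 2) (AdicCompletion (maximalIdeal A) A)) ∈ P := by
    have : (MvPowerSeries.X 0 * MvPowerSeries.X 1 :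
        MvPowerSeries (Fin 2) (AdicCompletion (maximalIdeal A) A)) = g + MvPowerSeries.C α := by
      rw [hg]; ring
    rw [this]
    exact Ideal.add_mem _ (Ideal.mem_sup_left (Ideal.subset_span rfl))
      (Ideal.mem_sup_right (C_mem_of_mem A α hα))
  have hτ0X : τ0 (MvPowerSeries.X 0 * MvPowerSeries.X 1) = 0 := by
    have : (MvPowerSeries.X 0 * MvPowerSeries.X 1 : MvPowerSeries (Fin 2) (ResidueField A)) =
        mapres (MvPowerSeries.X 0 * MvPowerSeries.X 1) := by
      rw [map_mul]
      show _ = MvPowerSeries.map (resH A) _ * MvPowerSeries.map (resH A) _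
      rw [MvPowerSeries.map_X, MvPowerSeries.map_X]
    rw [this, hτ0, Ideal.Quotient.eq_zero_iff_mem]
    exact hXX
  let τ : (MvPowerSeries (Fin 2) (IsLocalRing.ResidueField A) ⧸
          Ideal.span {(MvPowerSeries.X 0 * MvPowerSeries.X 1 :
            MvPowerSeries (Fin 2) (IsLocalRing.ResidueField A))}) →+*
      MvPowerSeries (Fin 2) (AdicCompletion (maximalIdeal A) A) ⧸ P :=
    Ideal.Quotient.lift _ τ0 (by
      intro x hx
      obtain ⟨c, rfl⟩ := Ideal.mem_span_singleton'.mp hx
      rw [map_mul, hτ0X, mul_zero])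
  have hτ : Function.Surjective τ := by
    intro s
    obtain ⟨f, rfl⟩ := Ideal.Quotient.mk_surjective s
    refine ⟨Ideal.Quotient.mk _ (mapres f), ?_⟩
    show τ0 (mapres f) = _
    exact hτ0 f
  -- the map to the completed fibre
  let ρ : AdicCompletion (maximalIdeal B) B →+*
      AdicCompletion ((IsLocalRing.maximalIdeal B).map (Ideal.Quotient.mk
          ((IsLocalRing.maximalIdeal A).map (algebraMap A B))))
          (B ⧸ (IsLocalRing.maximalIdeal A).map (algebraMap A B)) :=
    cmap (Ideal.Quotient.mk ((IsLocalRing.maximalIdeal A).map (algebraMap A B)))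
      (maximalIdeal B) _ le_rfl
  have hρ : Function.Surjective ρ :=
    cmap_surjective _ _ _ le_rfl Ideal.Quotient.mk_surjective rfl
  have hρA : ∀ a ∈ maximalIdeal A, ρ (algebraMap A (AdicCompletion (maximalIdeal B) B) a) = 0 := by
    intro a ha
    have : algebraMap A (AdicCompletion (maximalIdeal B) B) a =
        AdicCompletion.of (maximalIdeal B) B (algebraMap A B a) := rfl
    rw [this]
    show cmap _ _ _ _ _ = 0
    rw [cmap_of, Ideal.Quotient.eq_zero_iff_mem.mpr (Ideal.mem_map_of_mem _ ha), map_zero]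
  have hPker : ∀ x ∈ P, (ρ.comp (Ψ : MvPowerSeries (Fin 2) (AdicCompletion (maximalIdeal A) A) →+*
      AdicCompletion (maximalIdeal B) B)) x = 0 := by
    have hle : P ≤ RingHom.ker (ρ.comp (Ψ : MvPowerSeries (Fin 2)
        (AdicCompletion (maximalIdeal A) A) →+* AdicCompletion (maximalIdeal B) B)) := by
      apply sup_le
      · rw [Ideal.span_le, Set.singleton_subset_iff, SetLike.mem_coe, RingHom.mem_ker,
          RingHom.comp_apply]
        show ρ (Ψ g) = 0
        rw [hΨg, map_zero]
      · rw [h𝔞', Ideal.map_le_iff_le_comap]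
        intro a ha
        rw [Ideal.mem_comap, RingHom.mem_ker, RingHom.comp_apply]
        show ρ (Ψ _) = 0
        rw [AlgHom.commutes]
        exact hρA a ha
    exact fun x hx => hle hx
  let l : MvPowerSeries (Fin 2) (AdicCompletion (maximalIdeal A) A) ⧸ P →+* _ :=
    Ideal.Quotient.lift P _ hPker
  have hl : Function.Surjective l := by
    intro y
    obtain ⟨b, rfl⟩ := hρ y
    obtain ⟨x, rfl⟩ := hΨs b
    exact ⟨Ideal.Quotient.mk P x, rfl⟩
  have hinj := injective_of_sandwich τ hτ l hl e
  intro x hx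
  rw [← Ideal.Quotient.eq_zero_iff_mem]
  apply hinj
  rw [map_zero]
  show ρ (Ψ x) = 0
  rw [RingHom.mem_ker] at hx
  rw [hx, map_zero]

theorem mapA_le_max : (maximalIdeal A).map
    (algebraMap A (MvPowerSeries (Fin 2) (AdicCompletion (maximalIdeal A) A))) ≤
      maximalIdeal (MvPowerSeries (Fin 2) (AdicCompletion (maximalIdeal A) A)) := by
  rw [Ideal.map_le_iff_le_comap]
  intro a ha
  rw [Ideal.mem_comap, MvPowerSeries.algebraMap_apply,
    Groth.Agent.Lib.Helper1.ArtFunLib.PS.maximalIdeal_eq_sup]
  apply Ideal.mem_sup_left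
  apply Ideal.mem_map_of_mem
  rw [AdicCompletion.maximalIdeal_eq_map]
  exact Ideal.mem_map_of_mem _ ha

theorem main_7925
    (hres : Function.Bijective (IsLocalRing.ResidueField.map (algebraMap A B)))
    (u v : B) (hu : u ∈ IsLocalRing.maximalIdeal B) (hv : v ∈ IsLocalRing.maximalIdeal B)
    (huv : u * v ∈ (IsLocalRing.maximalIdeal A).map (algebraMap A B))
    (hgen : IsLocalRing.maximalIdeal B = Ideal.span {u, v} ⊔ (IsLocalRing.maximalIdeal A).map (algebraMap A B)) [Module.Flat A B]
    (hfib : ∃ e : AdicCompletion ((IsLocalRing.maximalIdeal B).map (Ideal.Quotient.mk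
          ((IsLocalRing.maximalIdeal A).map (algebraMap A B))))
          (B ⧸ (IsLocalRing.maximalIdeal A).map (algebraMap A B)) ≃+*
        (MvPowerSeries (Fin 2) (IsLocalRing.ResidueField A) ⧸
          Ideal.span {(MvPowerSeries.X 0 * MvPowerSeries.X 1 : MvPowerSeries (Fin 2) (IsLocalRing.ResidueField A))}),
      ∀ a : A, e (algebraMap (B ⧸ (IsLocalRing.maximalIdeal A).map (algebraMap A B)) _
          (Ideal.Quotient.mk _ (algebraMap A B a))) =
        Ideal.Quotient.mk _ (MvPowerSeries.C (IsLocalRing.residue A a))) :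
    ∃ (α : AdicCompletion (IsLocalRing.maximalIdeal A) A)
      (_ : α ∈ (IsLocalRing.maximalIdeal A).map (algebraMap A (AdicCompletion (IsLocalRing.maximalIdeal A) A)))
      (ψ : (MvPowerSeries (Fin 2) (AdicCompletion (IsLocalRing.maximalIdeal A) A) ⧸ Ideal.span
          {(MvPowerSeries.X 0 * MvPowerSeries.X 1 -
            MvPowerSeries.C α :
              MvPowerSeries (Fin 2) (AdicCompletion (IsLocalRing.maximalIdeal A) A))}) ≃ₐ[A]
        AdicCompletion (IsLocalRing.maximalIdeal B) B),
      ψ (Ideal.Quotient.mk _ (MvPowerSeries.X 0)) -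
            algebraMap B (AdicCompletion (IsLocalRing.maximalIdeal B) B) u ∈
          (IsLocalRing.maximalIdeal A).map (algebraMap A (AdicCompletion (IsLocalRing.maximalIdeal B) B)) ∧
        ψ (Ideal.Quotient.mk _ (MvPowerSeries.X 1)) -
            algebraMap B (AdicCompletion (IsLocalRing.maximalIdeal B) B) v ∈
          (IsLocalRing.maximalIdeal A).map (algebraMap A (AdicCompletion (IsLocalRing.maximalIdeal B) B)) := by
  obtain ⟨e, -⟩ := hfib
  obtain ⟨α, Ψ, hα, hΨs, hΨg, hΨ0, hΨ1⟩ := exists_Psi A B hres u v hu hv huv hgen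
  have hfibre := ker_le_fibre A B e α hα Ψ hΨs hΨg
  have : Module.Flat A (AdicCompletion (maximalIdeal B) B) :=
    Module.Flat.trans A B (AdicCompletion (maximalIdeal B) B)
  have : IsNoetherianRing (AdicCompletion (maximalIdeal A) A) := isNoetherianRing_cpl
  have hF := ker_inf_map_le Ψ hΨs (maximalIdeal A)
  have hgK : Ideal.span {(MvPowerSeries.X 0 * MvPowerSeries.X 1 - MvPowerSeries.C α :
      MvPowerSeries (Fin 2) (AdicCompletion (maximalIdeal A) A))} ≤ RingHom.ker Ψ := by
    rw [Ideal.span_le, Set.singleton_subset_iff, SetLike.mem_coe, RingHom.mem_ker]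
    exact hΨg
  have hKle : RingHom.ker Ψ ≤ Ideal.span {(MvPowerSeries.X 0 * MvPowerSeries.X 1 -
      MvPowerSeries.C α : MvPowerSeries (Fin 2) (AdicCompletion (maximalIdeal A) A))} := by
    apply Submodule.le_of_le_smul_of_le_jacobson_bot (I := (maximalIdeal A).map
      (algebraMap A (MvPowerSeries (Fin 2) (AdicCompletion (maximalIdeal A) A))))
      (IsNoetherian.noetherian _)
    · rw [IsLocalRing.jacobson_eq_maximalIdeal ⊥ bot_ne_top]
      exact mapA_le_max A
    · intro x hx
      obtain ⟨y, hy, z, hz, rfl⟩ := Submodule.mem_sup.mp (hfibre hx)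
      have hzK : z ∈ RingHom.ker Ψ := by
        have := Ideal.sub_mem _ hx (hgK hy)
        simpa using this
      refine Submodule.add_mem_sup hy ?_
      rw [smul_eq_mul]
      exact hF ⟨hzK, hz⟩
  have hker : ∀ x ∈ Ideal.span {(MvPowerSeries.X 0 * MvPowerSeries.X 1 -
      MvPowerSeries.C α : MvPowerSeries (Fin 2) (AdicCompletion (maximalIdeal A) A))}, Ψ x = 0 :=
    fun x hx => hgK hx
  have hbij : Function.Bijective (Ideal.Quotient.liftₐ _ Ψ hker) := by
    constructor
    · rw [injective_iff_map_eq_zero]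
      intro y hy
      obtain ⟨x, rfl⟩ := Ideal.Quotient.mk_surjective y
      rw [Ideal.Quotient.eq_zero_iff_mem]
      apply hKle
      rw [RingHom.mem_ker]
      exact hy
    · intro y
      obtain ⟨x, hx⟩ := hΨs y
      exact ⟨Ideal.Quotient.mk _ x, hx⟩
  refine ⟨α, hα, AlgEquiv.ofBijective _ hbij, ?_, ?_⟩
  · exact hΨ0
  · exact hΨ1

end main

end Groth.Agent.Lib.Helper26.Node25B
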