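import Mathlib
import Groth.Prelude.Def_W4c2arithlefschetzNode

/-!
# The formal double point `B[[x,y]]/(xy - a)`: basic lemmas
-/

set_option autoImplicit false
universe u
open ArLef ArLef.NodeAlg

namespace Groth.Agent.Lib.Helper26.NodeAlgLib

variable {B : Type u} [CommRing B]

/-- divisibility by a constant is coefficientwise -/
theorem C_dvd_iff (a : B) (f : MvPowerSeries (Fin 2) B) :
    MvPowerSeries.C a ∣ f ↔ ∀ n, a ∣ MvPowerSeries.coeff n f := by
  constructor
  · rintro ⟨g, rfl⟩ n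
    rw [MvPowerSeries.coeff_C_mul]
    exact dvd_mul_right _ _
  · intro h
    choose g hg using h
    let g' : MvPowerSeries (Fin 2) B := fun n => g n
    refine ⟨g', ?_⟩
    ext n
    rw [MvPowerSeries.coeff_C_mul, hg n]
    rfl

theorem coeff_XY_mul (y : MvPowerSeries (Fin 2) B) (n : Fin 2 →₀ ℕ) :
    MvPowerSeries.coeff ((Finsupp.single 0 1 + Finsupp.single 1 1) + n)
      (MvPowerSeries.X 0 * MvPowerSeries.X 1 * y) = MvPowerSeries.coeff n y := by
  rw [MvPowerSeries.X_def, MvPowerSeries.X_def, MvPowerSeries.monomial_mul_monomial,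
    MvPowerSeries.coeff_add_monomial_mul, one_mul, one_mul]

/-- `a` is a nonzerodivisor on `B[[x,y]]/(xy - a)` when `B` is a domain and `a ≠ 0`. -/
theorem smul_eq_zero_imp [IsDomain B] (a : B) (ha : a ≠ 0) (x : NodeAlg B a)
    (hx : algebraMap B (NodeAlg B a) a * x = 0) : x = 0 := by
  obtain ⟨x, rfl⟩ := Ideal.Quotient.mk_surjective x
  have h1 : (MvPowerSeries.C a : MvPowerSeries (Fin 2) B) * x ∈
      Ideal.span {(MvPowerSeries.X 0 * MvPowerSeries.X 1 - MvPowerSeries.C a :
        MvPowerSeries (Fin 2) B)} := by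
    rw [← Ideal.Quotient.eq_zero_iff_mem, map_mul]
    exact hx
  obtain ⟨y, hy⟩ := Ideal.mem_span_singleton'.1 h1
  -- a (x + y) = XY y
  have h2 : (MvPowerSeries.C a : MvPowerSeries (Fin 2) B) * (x + y) =
      MvPowerSeries.X 0 * MvPowerSeries.X 1 * y := by
    rw [mul_add, ← hy]; ring
  have h3 : MvPowerSeries.C a ∣ y := by
    rw [C_dvd_iff]
    intro n
    rw [← coeff_XY_mul y n, ← h2, MvPowerSeries.coeff_C_mul]
    exact dvd_mul_right _ _
  obtain ⟨y', rfl⟩ := h3
  have h4 : (MvPowerSeries.C a : MvPowerSeries (Fin 2) B) * (x + MvPowerSeries.C a * y') =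
      MvPowerSeries.C a * (MvPowerSeries.X 0 * MvPowerSeries.X 1 * y') := by
    rw [h2]; ring
  have hC : (MvPowerSeries.C a : MvPowerSeries (Fin 2) B) ≠ 0 := by
    intro h
    apply ha
    have := congrArg MvPowerSeries.constantCoeff h
    simpa using this
  have h5 := mul_left_cancel₀ hC h4
  rw [Ideal.Quotient.eq_zero_iff_mem, Ideal.mem_span_singleton']
  refine ⟨y', ?_⟩
  have : x = MvPowerSeries.X 0 * MvPowerSeries.X 1 * y' - MvPowerSeries.C a * y' := by
    rw [← h5]; ring
  rw [this]; ring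

theorem pow_smul_eq_zero_imp [IsDomain B] (a : B) (ha : a ≠ 0) (j : ℕ) (x : NodeAlg B a)
    (hx : algebraMap B (NodeAlg B a) (a ^ j) * x = 0) : x = 0 := by
  induction j with
  | zero => simpa using hx
  | succ j ih =>
    apply ih
    apply smul_eq_zero_imp a ha
    rw [← mul_assoc, ← map_mul, ← pow_succ']
    exact hx

/-- the residue map `B[[x,y]]/(xy - a) → B/(a)` -/
noncomputable def resHom (a : B) : NodeAlg B a →+* B ⧸ Ideal.span ({a} : Set B) :=
  Ideal.Quotient.lift _ ((Ideal.Quotient.mk (Ideal.span ({a} : Set B))).comp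
    (MvPowerSeries.constantCoeff (σ := Fin 2) (R := B))) (by
    intro x hx
    obtain ⟨y, rfl⟩ := Ideal.mem_span_singleton'.1 hx
    rw [RingHom.comp_apply, map_mul, map_sub, map_mul]
    simp only [MvPowerSeries.constantCoeff_X, MvPowerSeries.constantCoeff_C, zero_mul, zero_sub,
      mul_neg, map_neg, map_mul]
    rw [Ideal.Quotient.eq_zero_iff_mem.2 (Ideal.mem_span_singleton_self a), mul_zero, neg_zero])

theorem resHom_t (a : B) : resHom a (NodeAlg.t a) = 0 := by
  simp [resHom, NodeAlg.t]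

theorem resHom_e (a : B) : resHom a (NodeAlg.e a) = 0 := by
  simp [resHom, NodeAlg.e]

theorem resHom_algebraMap (a b : B) :
    resHom a (algebraMap B (NodeAlg B a) b) = Ideal.Quotient.mk _ b := by
  change resHom a (Ideal.Quotient.mk _ (MvPowerSeries.C b)) = _
  simp [resHom]

theorem t_mul_e (a : B) : NodeAlg.t a * NodeAlg.e a = algebraMap B (NodeAlg B a) a := by
  change Ideal.Quotient.mk _ (MvPowerSeries.X 0) * Ideal.Quotient.mk _ (MvPowerSeries.X 1) =
    Ideal.Quotient.mk _ (MvPowerSeries.C a)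
  rw [← map_mul, Ideal.Quotient.eq]
  exact Ideal.mem_span_singleton_self _

end Groth.Agent.Lib.Helper26.NodeAlgLib
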