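import Mathlib
import Groth.Prelude.Def_W4c2arithlefschetzNode
import Groth.Agent.Lib.Helper26.NodeAlgLib

/-!
# The formal double point `B[[x,y]]/(xy - a)`: structure (helper26)

* `restr i`: restriction of a two-variable power series to the `i`-th axis
* `br i`: the branch maps `NodeAlg B a → (B/a)[[X]]`, their kernels
* continuity of ring endomorphisms (via Krull's intersection theorem)
* a general length lemma for `R/(I + (xy))`
-/

set_option autoImplicit false
universe u
open ArLef ArLef.NodeAlg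

namespace Groth.Agent.Lib.Helper26.NodeAlg2

open MvPowerSeries

section restr

variable {R : Type u} [CommRing R]

/-- restriction to the `i`-th axis. -/
noncomputable def restr (i : Fin 2) : MvPowerSeries (Fin 2) R →+* PowerSeries R where
  toFun f := PowerSeries.mk fun n => coeff (Finsupp.single i n) f
  map_one' := by
    ext n
    rw [PowerSeries.coeff_mk, MvPowerSeries.coeff_one, PowerSeries.coeff_one]
    simp only [Finsupp.single_eq_zero]
  map_mul' f g := by
    ext n
    rw [PowerSeries.coeff_mk, MvPowerSeries.coeff_mul, PowerSeries.coeff_mul,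
      Finsupp.antidiagonal_single, Finset.sum_map]
    refine Finset.sum_congr rfl fun p _ => ?_
    rw [PowerSeries.coeff_mk, PowerSeries.coeff_mk]
    rfl
  map_zero' := by
    ext n
    simp
  map_add' f g := by
    ext n
    rw [PowerSeries.coeff_mk, map_add, map_add, PowerSeries.coeff_mk, PowerSeries.coeff_mk]

lemma coeff_restr (i : Fin 2) (n : ℕ) (f : MvPowerSeries (Fin 2) R) :
    PowerSeries.coeff n (restr i f) = coeff (Finsupp.single i n) f := by
  exact PowerSeries.coeff_mk (R := R) n (fun n => coeff (Finsupp.single i n) f)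

lemma restr_X_same (i : Fin 2) : restr i (X i : MvPowerSeries (Fin 2) R) = PowerSeries.X := by
  ext n
  rw [coeff_restr, MvPowerSeries.coeff_X, PowerSeries.coeff_X]
  by_cases h : n = 1
  · subst h; simp
  · rw [if_neg h, if_neg]
    intro h2
    apply h
    have := DFunLike.congr_fun h2 i
    simpa using this

lemma restr_X_ne {i j : Fin 2} (h : i ≠ j) : restr i (X j : MvPowerSeries (Fin 2) R) = 0 := by
  ext n
  rw [coeff_restr, MvPowerSeries.coeff_X, map_zero, if_neg]
  intro h2
  have := DFunLike.congr_fun h2 j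
  rw [Finsupp.single_eq_same, Finsupp.single_eq_of_ne h.symm] at this
  · exact absurd this (by norm_num)

lemma restr_C (i : Fin 2) (b : R) : restr i (C b : MvPowerSeries (Fin 2) R) = PowerSeries.C b := by
  ext n
  rw [coeff_restr, MvPowerSeries.coeff_C, PowerSeries.coeff_C]
  simp only [Finsupp.single_eq_zero]

lemma eq_single_of_apply_eq_zero {i j : Fin 2} (h : i ≠ j) (m : Fin 2 →₀ ℕ) (hm : m j = 0) :
    m = Finsupp.single i (m i) := by
  ext k
  have hk : k = i ∨ k = j := by
    fin_cases i <;> fin_cases j <;> fin_cases k <;> simp_all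
  rcases hk with rfl | rfl
  · rw [Finsupp.single_eq_same]
  · rw [hm, Finsupp.single_eq_of_ne h.symm]

lemma restr_eq_zero_iff {i j : Fin 2} (h : i ≠ j) (f : MvPowerSeries (Fin 2) R) :
    restr i f = 0 ↔ X j ∣ f := by
  rw [MvPowerSeries.X_dvd_iff]
  constructor
  · intro hf m hm
    rw [eq_single_of_apply_eq_zero h m hm, ← coeff_restr, hf, map_zero]
  · intro hf
    ext n
    rw [coeff_restr, map_zero]
    apply hf
    rw [Finsupp.single_eq_of_ne h.symm]

/-- extension of a one-variable series along the `i`-th axis. -/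
noncomputable def ext1 (i j : Fin 2) (g : PowerSeries R) : MvPowerSeries (Fin 2) R :=
  fun m => if m j = 0 then PowerSeries.coeff (m i) g else 0

lemma restr_ext1 {i j : Fin 2} (h : i ≠ j) (g : PowerSeries R) : restr i (ext1 i j g) = g := by
  ext n
  rw [coeff_restr]
  show (if (Finsupp.single i n) j = 0 then PowerSeries.coeff ((Finsupp.single i n) i) g else 0) = _
  rw [Finsupp.single_eq_of_ne h.symm, if_pos rfl, Finsupp.single_eq_same]

end restr

section decomp

variable {R : Type u} [CommRing R]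

/-- every two-variable series is a polynomial plus a multiple of `X₀ⁿ` plus a multiple of `X₁ⁿ`. -/
lemma decomp (f : MvPowerSeries (Fin 2) R) (n : ℕ) :
    ∃ (p : MvPolynomial (Fin 2) R) (r s : MvPowerSeries (Fin 2) R),
      f = (p : MvPowerSeries (Fin 2) R) + X 0 ^ n * r + X 1 ^ n * s := by
  classical
  let N : Fin 2 →₀ ℕ := Finsupp.single 0 n + Finsupp.single 1 n
  let p : MvPolynomial (Fin 2) R := MvPowerSeries.trunc' R N f
  let g : MvPowerSeries (Fin 2) R := f - p
  have hg : ∀ m : Fin 2 →₀ ℕ, m 0 < n → m 1 < n → coeff m g = 0 := by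
    intro m h0 h1
    have hm : m ≤ N := by
      intro k
      fin_cases k
      · simp [N]; omega
      · simp [N]; omega
    show coeff m (f - (p : MvPowerSeries (Fin 2) R)) = 0
    rw [map_sub, MvPolynomial.coeff_coe, MvPowerSeries.coeff_trunc', if_pos hm, sub_self]
  let g₁ : MvPowerSeries (Fin 2) R := fun m => if m 0 < n then coeff m g else 0
  have h1 : (X 0 : MvPowerSeries (Fin 2) R) ^ n ∣ g - g₁ := by
    rw [MvPowerSeries.X_pow_dvd_iff]
    intro m hm
    rw [map_sub]
    show coeff m g - (if m 0 < n then coeff m g else 0) = 0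
    rw [if_pos hm, sub_self]
  have h2 : (X 1 : MvPowerSeries (Fin 2) R) ^ n ∣ g₁ := by
    rw [MvPowerSeries.X_pow_dvd_iff]
    intro m hm
    show (if m 0 < n then coeff m g else 0) = 0
    split_ifs with h0
    · exact hg m h0 hm
    · rfl
  obtain ⟨r, hr⟩ := h1
  obtain ⟨s, hs⟩ := h2
  refine ⟨p, r, s, ?_⟩
  rw [← hr, ← hs]
  show f = (p : MvPowerSeries (Fin 2) R) + (f - p - g₁) + g₁
  ring

end decomp

section node

variable {B : Type u} [CommRing B] (a : B)

/-- the quotient map `B[[x,y]] → NodeAlg B a` -/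
noncomputable abbrev qm : MvPowerSeries (Fin 2) B →+* NodeAlg B a := Ideal.Quotient.mk _

lemma qm_surjective : Function.Surjective (qm a) := Ideal.Quotient.mk_surjective

lemma qm_X0 : qm a (X 0) = NodeAlg.t a := rfl
lemma qm_X1 : qm a (X 1) = NodeAlg.e a := rfl
lemma qm_C (b : B) : qm a (C b) = algebraMap B (NodeAlg B a) b := rfl

/-- the variable as a function of the index -/
noncomputable def var (i : Fin 2) : NodeAlg B a := qm a (X i)

lemma var_zero : var a 0 = NodeAlg.t a := rfl
lemma var_one : var a 1 = NodeAlg.e a := rfl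

/-- the branch maps: `br 0` kills `e`, `br 1` kills `t`. -/
noncomputable def br (i : Fin 2) : NodeAlg B a →+* PowerSeries (B ⧸ Ideal.span ({a} : Set B)) :=
  Ideal.Quotient.lift _ ((PowerSeries.map (Ideal.Quotient.mk (Ideal.span ({a} : Set B)))).comp
    (restr i)) (by
    intro x hx
    obtain ⟨y, rfl⟩ := Ideal.mem_span_singleton'.1 hx
    rw [map_mul, map_sub, map_mul]
    have h1 : ((PowerSeries.map (Ideal.Quotient.mk (Ideal.span ({a} : Set B)))).comp (restr i))
        (X 0) * ((PowerSeries.map (Ideal.Quotient.mk (Ideal.span ({a} : Set B)))).comp (restr i))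
        (X 1) = 0 := by
      fin_cases i
      · have : restr (0 : Fin 2) (X 1 : MvPowerSeries (Fin 2) B) = 0 := restr_X_ne (by decide)
        simp only [Fin.zero_eta, RingHom.comp_apply, this, map_zero, mul_zero]
      · have : restr (1 : Fin 2) (X 0 : MvPowerSeries (Fin 2) B) = 0 := restr_X_ne (by decide)
        simp only [Fin.mk_one, RingHom.comp_apply, this, map_zero, zero_mul]
    have h2 : ((PowerSeries.map (Ideal.Quotient.mk (Ideal.span ({a} : Set B)))).comp (restr i))
        (C a) = 0 := by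
      rw [RingHom.comp_apply, restr_C, PowerSeries.map_C,
        Ideal.Quotient.eq_zero_iff_mem.2 (Ideal.mem_span_singleton_self a), map_zero]
    rw [h1, h2, sub_zero, mul_zero])

lemma br_qm (i : Fin 2) (f : MvPowerSeries (Fin 2) B) :
    br a i (qm a f) = PowerSeries.map (Ideal.Quotient.mk (Ideal.span ({a} : Set B))) (restr i f) :=
  rfl

lemma br_var_same (i : Fin 2) : br a i (var a i) = PowerSeries.X := by
  rw [var, br_qm, restr_X_same, PowerSeries.map_X]

lemma br_var_ne {i j : Fin 2} (h : i ≠ j) : br a i (var a j) = 0 := by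
  rw [var, br_qm, restr_X_ne h, map_zero]

lemma br_algebraMap (i : Fin 2) (b : B) :
    br a i (algebraMap B (NodeAlg B a) b) = PowerSeries.C (Ideal.Quotient.mk _ b) := by
  rw [← qm_C, br_qm, restr_C, PowerSeries.map_C]

lemma br_surjective {i j : Fin 2} (h : i ≠ j) : Function.Surjective (br a i) := by
  intro g
  have hs : Function.Surjective (PowerSeries.map (Ideal.Quotient.mk (Ideal.span ({a} : Set B)))) := by
    intro g
    refine ⟨PowerSeries.mk fun n =>
      (Ideal.Quotient.mk_surjective (PowerSeries.coeff n g)).choose, ?_⟩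
    ext n
    rw [PowerSeries.coeff_map, PowerSeries.coeff_mk]
    exact (Ideal.Quotient.mk_surjective (PowerSeries.coeff n g)).choose_spec
  obtain ⟨g', rfl⟩ := hs g
  exact ⟨qm a (ext1 i j g'), by rw [br_qm, restr_ext1 h]⟩

lemma var_mul_var {i j : Fin 2} (h : i ≠ j) :
    var a i * var a j = algebraMap B (NodeAlg B a) a := by
  have h01 : var a 0 * var a 1 = algebraMap B (NodeAlg B a) a := NodeAlgLib.t_mul_e a
  fin_cases i <;> fin_cases j
  · exact absurd rfl h
  · exact h01
  · rw [mul_comm]; exact h01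
  · exact absurd rfl h

lemma br_eq_zero_iff {i j : Fin 2} (h : i ≠ j) (x : NodeAlg B a) :
    br a i x = 0 ↔ var a j ∣ x := by
  constructor
  · intro hx
    obtain ⟨f, rfl⟩ := qm_surjective a x
    rw [br_qm] at hx
    -- all coefficients of restr i f are divisible by a
    have h1 : ∀ n, ∃ c, PowerSeries.coeff n (restr i f) = a * c := by
      intro n
      have := congrArg (PowerSeries.coeff n) hx
      rw [PowerSeries.coeff_map, map_zero, Ideal.Quotient.eq_zero_iff_mem,
        Ideal.mem_span_singleton] at this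
      exact this
    choose c hc using h1
    have h2 : restr i (f - C a * ext1 i j (PowerSeries.mk c)) = 0 := by
      rw [map_sub, map_mul, restr_C, restr_ext1 h, sub_eq_zero]
      ext n
      rw [PowerSeries.coeff_C_mul, PowerSeries.coeff_mk, hc n]
    rw [restr_eq_zero_iff h] at h2
    obtain ⟨g, hg⟩ := h2
    have h3 : f = X j * g + C a * ext1 i j (PowerSeries.mk c) := by
      rw [← hg]; ring
    rw [h3, map_add, map_mul, map_mul, qm_C, ← var_mul_var a h]
    refine dvd_add (Dvd.intro _ rfl) ?_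
    exact ⟨var a i * qm a (ext1 i j (PowerSeries.mk c)), by
      show var a i * var a j * _ = var a j * _
      ring⟩
  · rintro ⟨y, rfl⟩
    rw [map_mul, br_var_ne a h, zero_mul]

lemma ker_br {i j : Fin 2} (h : i ≠ j) : RingHom.ker (br a i) = Ideal.span {var a j} := by
  ext x
  rw [RingHom.mem_ker, br_eq_zero_iff a h, Ideal.mem_span_singleton]

/-- the ideal `(t, e)` -/
noncomputable abbrev mm : Ideal (NodeAlg B a) := Ideal.span {NodeAlg.t a, NodeAlg.e a}

lemma t_mem_mm : NodeAlg.t a ∈ mm a := Ideal.subset_span (by simp)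
lemma e_mem_mm : NodeAlg.e a ∈ mm a := Ideal.subset_span (by simp)

lemma isUnit_qm_of_constantCoeff {f : MvPowerSeries (Fin 2) B}
    (hf : IsUnit (MvPowerSeries.constantCoeff f)) : IsUnit (qm a f) :=
  (MvPowerSeries.isUnit_iff_constantCoeff.2 hf).map (qm a)

/-- a series with zero constant coefficient lies in `(X₀, X₁)`. -/
lemma mem_span_X_of_constantCoeff_eq_zero {f : MvPowerSeries (Fin 2) B}
    (hf : MvPowerSeries.constantCoeff f = 0) :
    ∃ r s : MvPowerSeries (Fin 2) B, f = X 0 * r + X 1 * s := by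
  let g₁ : MvPowerSeries (Fin 2) B := fun m => if m 0 = 0 then coeff m f else 0
  have h1 : (X 0 : MvPowerSeries (Fin 2) B) ∣ f - g₁ := by
    rw [MvPowerSeries.X_dvd_iff]
    intro m hm
    rw [map_sub]
    show coeff m f - (if m 0 = 0 then coeff m f else 0) = 0
    rw [if_pos hm, sub_self]
  have h2 : (X 1 : MvPowerSeries (Fin 2) B) ∣ g₁ := by
    rw [MvPowerSeries.X_dvd_iff]
    intro m hm
    show (if m 0 = 0 then coeff m f else 0) = 0
    split_ifs with h0
    · have : m = 0 := by
        ext k
        fin_cases k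
        · exact h0
        · exact hm
      rw [this]
      exact hf
    · rfl
  obtain ⟨r, hr⟩ := h1
  obtain ⟨s, hs⟩ := h2
  refine ⟨r, s, ?_⟩
  rw [← hr, ← hs]
  ring

lemma mm_le_jacobson : mm a ≤ Ideal.jacobson ⊥ := by
  intro x hx
  rw [Ideal.mem_jacobson_bot]
  intro y
  rw [mm, Ideal.mem_span_pair] at hx
  obtain ⟨c, d, rfl⟩ := hx
  obtain ⟨c', rfl⟩ := qm_surjective a c
  obtain ⟨d', rfl⟩ := qm_surjective a d
  obtain ⟨y', rfl⟩ := qm_surjective a y
  have : (qm a c' * NodeAlg.t a + qm a d' * NodeAlg.e a) * qm a y' + 1 =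
      qm a ((c' * X 0 + d' * X 1) * y' + 1) := by
    simp only [map_add, map_mul, map_one]
  rw [this]
  apply isUnit_qm_of_constantCoeff
  simp

end node

section general

variable {A : Type u} [CommRing A]

/-- the elements moved by `σ` only within `I` form a subring. -/
def fixSubring (σ : A →+* A) (I : Ideal A) : Subring A where
  carrier := {a | σ a - a ∈ I}
  mul_mem' := by
    intro a b ha hb
    simp only [Set.mem_ofPred_eq] at ha hb ⊢
    have : σ (a * b) - a * b = σ a * (σ b - b) + b * (σ a - a) := by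
      rw [map_mul]; ring
    rw [this]
    exact add_mem (Ideal.mul_mem_left _ _ hb) (Ideal.mul_mem_left _ _ ha)
  one_mem' := by
    simp only [Set.mem_ofPred_eq]
    rw [map_one, sub_self]; exact zero_mem _
  add_mem' := by
    intro a b ha hb
    simp only [Set.mem_ofPred_eq] at ha hb ⊢
    have : σ (a + b) - (a + b) = (σ a - a) + (σ b - b) := by
      rw [map_add]; ring
    rw [this]; exact add_mem ha hb
  zero_mem' := by
    simp only [Set.mem_ofPred_eq]
    rw [map_zero, sub_self]; exact zero_mem _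
  neg_mem' := by
    intro a ha
    simp only [Set.mem_ofPred_eq] at ha ⊢
    have : σ (-a) - (-a) = -(σ a - a) := by
      rw [map_neg]; ring
    rw [this]; exact neg_mem ha

lemma mem_fixSubring (σ : A →+* A) (I : Ideal A) (a : A) :
    a ∈ fixSubring σ I ↔ σ a - a ∈ I := Iff.rfl

/-- length of `R/(I + (xy))` when `x` is regular modulo `I`. -/
lemma length_sup_span_mul (I : Ideal A) (x y : A) (hx : ∀ z, x * z ∈ I → z ∈ I) :
    Module.length A (A ⧸ (I ⊔ Ideal.span {x * y})) =
      Module.length A (A ⧸ (I ⊔ Ideal.span {y})) + Module.length A (A ⧸ (I ⊔ Ideal.span {x})) := by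
  have hmem : ∀ (w : A) (z : A), z ∈ I ⊔ Ideal.span {w} ↔ ∃ c, z - c * w ∈ I := by
    intro w z
    rw [Submodule.mem_sup]
    constructor
    · rintro ⟨i, hi, s, hs, rfl⟩
      obtain ⟨c, rfl⟩ := Ideal.mem_span_singleton'.1 hs
      exact ⟨c, by rwa [add_sub_cancel_right]⟩
    · rintro ⟨c, hc⟩
      exact ⟨z - c * w, hc, c * w, Ideal.mem_span_singleton'.2 ⟨c, rfl⟩, by ring⟩
  let μ : (A ⧸ (I ⊔ Ideal.span {y})) →ₗ[A] (A ⧸ (I ⊔ Ideal.span {x * y})) :=
    Submodule.mapQ _ _ (LinearMap.mulLeft A x) (by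
      intro z hz
      rw [Submodule.mem_comap, LinearMap.mulLeft_apply, hmem]
      obtain ⟨c, hc⟩ := (hmem y z).1 hz
      refine ⟨c, ?_⟩
      have : x * z - c * (x * y) = x * (z - c * y) := by ring
      rw [this]
      exact Ideal.mul_mem_left _ _ hc)
  let ν : (A ⧸ (I ⊔ Ideal.span {x * y})) →ₗ[A] (A ⧸ (I ⊔ Ideal.span {x})) :=
    Submodule.mapQ _ _ LinearMap.id (by
      intro z hz
      rw [Submodule.mem_comap, LinearMap.id_apply, hmem]
      obtain ⟨c, hc⟩ := (hmem (x * y) z).1 hz
      refine ⟨c * y, ?_⟩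
      have : z - c * y * x = z - c * (x * y) := by ring
      rw [this]
      exact hc)
  have hμ : Function.Injective μ := by
    rw [← LinearMap.ker_eq_bot, LinearMap.ker_eq_bot']
    intro z hz
    obtain ⟨z, rfl⟩ := Submodule.Quotient.mk_surjective _ z
    have h1 : μ (Submodule.Quotient.mk z) = Submodule.Quotient.mk (x * z) := rfl
    rw [h1, Submodule.Quotient.mk_eq_zero, hmem] at hz
    rw [Submodule.Quotient.mk_eq_zero, hmem]
    obtain ⟨c, hc⟩ := hz
    refine ⟨c, hx _ ?_⟩
    have : x * (z - c * y) = x * z - c * (x * y) := by ring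
    rw [this]
    exact hc
  have hν : Function.Surjective ν := by
    intro z
    obtain ⟨z, rfl⟩ := Submodule.Quotient.mk_surjective _ z
    exact ⟨Submodule.Quotient.mk z, rfl⟩
  have hex : Function.Exact μ ν := by
    intro z
    constructor
    · intro hz
      obtain ⟨z, rfl⟩ := Submodule.Quotient.mk_surjective _ z
      have h1 : ν (Submodule.Quotient.mk z) = Submodule.Quotient.mk z := rfl
      rw [h1, Submodule.Quotient.mk_eq_zero, hmem] at hz
      obtain ⟨c, hc⟩ := hz
      refine ⟨Submodule.Quotient.mk c, ?_⟩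
      have h2 : μ (Submodule.Quotient.mk c) = Submodule.Quotient.mk (x * c) := rfl
      rw [h2, Submodule.Quotient.eq]
      apply Submodule.mem_sup_left
      have : x * c - z = -(z - c * x) := by ring
      rw [this]
      exact neg_mem hc
    · rintro ⟨w, rfl⟩
      obtain ⟨w, rfl⟩ := Submodule.Quotient.mk_surjective _ w
      have h1 : ν (μ (Submodule.Quotient.mk w)) = Submodule.Quotient.mk (x * w) := rfl
      rw [h1, Submodule.Quotient.mk_eq_zero]
      apply Submodule.mem_sup_right
      exact Ideal.mem_span_singleton'.2 ⟨w, by ring⟩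
  exact Module.length_eq_add_of_exact μ ν hμ hν hex

lemma length_sup_span_pow (I : Ideal A) (x : A) (hx : ∀ z, x * z ∈ I → z ∈ I) (m : ℕ) :
    Module.length A (A ⧸ (I ⊔ Ideal.span {x ^ m})) =
      (m : ℕ∞) * Module.length A (A ⧸ (I ⊔ Ideal.span {x})) := by
  induction m with
  | zero =>
    have : I ⊔ Ideal.span {x ^ 0} = ⊤ := by
      rw [pow_zero, Ideal.span_singleton_one, sup_top_eq]
    rw [this, Nat.cast_zero, zero_mul, Module.length_eq_zero_iff]
    infer_instance
  | succ m ih =>
    rw [pow_succ', length_sup_span_mul I x (x ^ m) hx, ih, Nat.cast_succ, add_mul, one_mul]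

/-- `length (M/(P ⊓ Q)) + length (M/(P ⊔ Q)) = length (M/P) + length (M/Q)`. -/
lemma length_inf_add_length_sup {M : Type u} [AddCommGroup M] [Module A M] (P Q : Submodule A M) :
    Module.length A (M ⧸ (P ⊓ Q)) + Module.length A (M ⧸ (P ⊔ Q)) =
      Module.length A (M ⧸ P) + Module.length A (M ⧸ Q) := by
  let f : (M ⧸ (P ⊓ Q)) →ₗ[A] (M ⧸ P) × (M ⧸ Q) :=
    LinearMap.prod (Submodule.mapQ _ _ LinearMap.id (fun z hz => hz.1))
      (Submodule.mapQ _ _ LinearMap.id (fun z hz => hz.2))
  let g : (M ⧸ P) × (M ⧸ Q) →ₗ[A] (M ⧸ (P ⊔ Q)) :=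
    LinearMap.coprod (Submodule.mapQ _ _ LinearMap.id (fun z hz => Submodule.mem_sup_left hz))
      (-(Submodule.mapQ _ _ LinearMap.id (fun z hz => Submodule.mem_sup_right hz)))
  have hf : Function.Injective f := by
    rw [← LinearMap.ker_eq_bot, LinearMap.ker_eq_bot']
    intro z hz
    obtain ⟨z, rfl⟩ := Submodule.Quotient.mk_surjective _ z
    have h1 : f (Submodule.Quotient.mk z) = (Submodule.Quotient.mk z, Submodule.Quotient.mk z) := rfl
    rw [h1, Prod.mk_eq_zero, Submodule.Quotient.mk_eq_zero, Submodule.Quotient.mk_eq_zero] at hz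
    rw [Submodule.Quotient.mk_eq_zero]
    exact hz
  have hgapp : ∀ u v : M, g (Submodule.Quotient.mk u, Submodule.Quotient.mk v) =
      Submodule.Quotient.mk (u - v) := by
    intro u v
    simp only [g, LinearMap.coprod_apply, LinearMap.neg_apply, Submodule.mapQ_apply,
      LinearMap.id_apply]
    rw [← sub_eq_add_neg, ← Submodule.Quotient.mk_sub]
  have hg : Function.Surjective g := by
    intro z
    obtain ⟨z, rfl⟩ := Submodule.Quotient.mk_surjective _ z
    refine ⟨(Submodule.Quotient.mk z, Submodule.Quotient.mk 0), ?_⟩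
    rw [hgapp, sub_zero]
  have hex : Function.Exact f g := by
    rintro ⟨u, v⟩
    obtain ⟨u, rfl⟩ := Submodule.Quotient.mk_surjective _ u
    obtain ⟨v, rfl⟩ := Submodule.Quotient.mk_surjective _ v
    have h1 := hgapp u v
    rw [h1, Submodule.Quotient.mk_eq_zero]
    constructor
    · intro h
      obtain ⟨p, hp, q, hq, hpq⟩ := Submodule.mem_sup.1 h
      refine ⟨Submodule.Quotient.mk (u - p), ?_⟩
      have h2 : f (Submodule.Quotient.mk (u - p)) =
          (Submodule.Quotient.mk (u - p), Submodule.Quotient.mk (u - p)) := rfl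
      rw [h2, Prod.mk.injEq, Submodule.Quotient.eq, Submodule.Quotient.eq]
      constructor
      · have : u - p - u = -p := by abel
        rw [this]; exact neg_mem hp
      · have : u - p - v = q := by rw [sub_right_comm, ← hpq, add_sub_cancel_left]
        rw [this]; exact hq
    · rintro ⟨w, hw⟩
      obtain ⟨w, rfl⟩ := Submodule.Quotient.mk_surjective _ w
      have h2 : f (Submodule.Quotient.mk w) =
          (Submodule.Quotient.mk w, Submodule.Quotient.mk w) := rfl
      rw [h2, Prod.mk.injEq, Submodule.Quotient.eq, Submodule.Quotient.eq] at hw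
      have : u - v = -(w - u) + (w - v) := by abel
      rw [this]
      exact add_mem (Submodule.mem_sup_left (neg_mem hw.1)) (Submodule.mem_sup_right hw.2)
  have := Module.length_eq_add_of_exact f g hf hg hex
  rw [Module.length_prod] at this
  exact this.symm

end general

section node2

variable {B : Type u} [CommRing B] (a : B)

/-- closedness of ideals of the node algebra for the `(t,e)`-adic topology. -/
lemma mem_of_forall_mem_sup_pow [IsNoetherianRing B] (J : Ideal (NodeAlg B a)) (x : NodeAlg B a)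
    (h : ∀ n : ℕ, x ∈ J ⊔ (mm a) ^ n) : x ∈ J := by
  have hk := Ideal.iInf_pow_smul_eq_bot_of_le_jacobson (M := NodeAlg B a ⧸ J) (mm a)
    (mm_le_jacobson a)
  have h1 : (Submodule.Quotient.mk x : NodeAlg B a ⧸ J) ∈
      (⨅ i : ℕ, (mm a) ^ i • ⊤ : Submodule (NodeAlg B a) (NodeAlg B a ⧸ J)) := by
    rw [Submodule.mem_iInf]
    intro n
    obtain ⟨j, hj, m, hm, rfl⟩ := Submodule.mem_sup.1 (h n)
    have : (Submodule.Quotient.mk (j + m) : NodeAlg B a ⧸ J) =
        m • (Submodule.Quotient.mk 1 : NodeAlg B a ⧸ J) := by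
      rw [← Submodule.Quotient.mk_smul, smul_eq_mul, mul_one, Submodule.Quotient.eq]
      simpa using hj
    rw [this]
    exact Submodule.smul_mem_smul hm Submodule.mem_top
  rw [hk, Submodule.mem_bot] at h1
  exact (Submodule.Quotient.mk_eq_zero J).1 h1

/-- continuity: a ring endomorphism of the node algebra preserving `(t,e)` moves every element
within the ideal `J` as soon as it does so for constants and the two coordinates. -/
theorem fix_mem [IsNoetherianRing B] (σ : NodeAlg B a →+* NodeAlg B a) (J : Ideal (NodeAlg B a))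
    (hB : ∀ b : B, σ (algebraMap B (NodeAlg B a) b) - algebraMap B (NodeAlg B a) b ∈ J)
    (ht : σ (NodeAlg.t a) - NodeAlg.t a ∈ J) (he : σ (NodeAlg.e a) - NodeAlg.e a ∈ J)
    (ht' : σ (NodeAlg.t a) ∈ mm a) (he' : σ (NodeAlg.e a) ∈ mm a) (x : NodeAlg B a) :
    σ x - x ∈ J := by
  have hpoly : ∀ p : MvPolynomial (Fin 2) B,
      qm a (p : MvPowerSeries (Fin 2) B) ∈ fixSubring σ J := by
    intro p
    induction p using MvPolynomial.induction_on with
    | C b => rw [MvPolynomial.coe_C]; exact hB b
    | add p q hp hq => rw [MvPolynomial.coe_add, map_add]; exact add_mem hp hq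
    | mul_X p i hp =>
      rw [MvPolynomial.coe_mul, MvPolynomial.coe_X, map_mul]
      refine mul_mem hp ?_
      fin_cases i
      · exact ht
      · exact he
  apply mem_of_forall_mem_sup_pow a J
  intro n
  obtain ⟨f, rfl⟩ := qm_surjective a x
  obtain ⟨p, r, s, hf⟩ := decomp f n
  have hx : qm a f = qm a p + NodeAlg.t a ^ n * qm a r + NodeAlg.e a ^ n * qm a s := by
    rw [hf]
    simp only [map_add, map_mul, map_pow]
  rw [hx]
  have h1 : σ (qm a p) - qm a p ∈ J := hpoly p
  have h2 : σ (NodeAlg.t a ^ n * qm a r) - NodeAlg.t a ^ n * qm a r ∈ (mm a) ^ n := by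
    rw [map_mul, map_pow]
    exact sub_mem (Ideal.mul_mem_right _ _ (Ideal.pow_mem_pow ht' n))
      (Ideal.mul_mem_right _ _ (Ideal.pow_mem_pow (t_mem_mm a) n))
  have h3 : σ (NodeAlg.e a ^ n * qm a s) - NodeAlg.e a ^ n * qm a s ∈ (mm a) ^ n := by
    rw [map_mul, map_pow]
    exact sub_mem (Ideal.mul_mem_right _ _ (Ideal.pow_mem_pow he' n))
      (Ideal.mul_mem_right _ _ (Ideal.pow_mem_pow (e_mem_mm a) n))
  have : σ (qm a p + NodeAlg.t a ^ n * qm a r + NodeAlg.e a ^ n * qm a s) -
      (qm a p + NodeAlg.t a ^ n * qm a r + NodeAlg.e a ^ n * qm a s) =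
      (σ (qm a p) - qm a p) + ((σ (NodeAlg.t a ^ n * qm a r) - NodeAlg.t a ^ n * qm a r) +
        (σ (NodeAlg.e a ^ n * qm a s) - NodeAlg.e a ^ n * qm a s)) := by
    rw [map_add, map_add]; ring
  rw [this]
  exact Submodule.add_mem_sup h1 (add_mem h2 h3)

/-- `(t)` and `(e)` are prime when `B/a` is a domain. -/
lemma var_dvd_mul [IsDomain (B ⧸ Ideal.span ({a} : Set B))] {i j : Fin 2} (h : i ≠ j)
    {x y : NodeAlg B a} (hxy : var a j ∣ x * y) : var a j ∣ x ∨ var a j ∣ y := by
  rw [← br_eq_zero_iff a h, map_mul, mul_eq_zero] at hxy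
  rcases hxy with h1 | h1
  · exact Or.inl ((br_eq_zero_iff a h x).1 h1)
  · exact Or.inr ((br_eq_zero_iff a h y).1 h1)

/-- `t` and `e` are nonzerodivisors when `B` is a domain and `a ≠ 0`. -/
lemma var_mul_eq_zero [IsDomain B] (ha : a ≠ 0) (i : Fin 2) {x : NodeAlg B a}
    (hx : var a i * x = 0) : x = 0 := by
  apply NodeAlgLib.smul_eq_zero_imp a ha
  obtain ⟨j, hj⟩ : ∃ j : Fin 2, j ≠ i := by
    fin_cases i
    · exact ⟨1, by decide⟩
    · exact ⟨0, by decide⟩
  rw [← var_mul_var a hj, mul_assoc, hx, mul_zero]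

lemma var_mul_cancel [IsDomain B] (ha : a ≠ 0) (i : Fin 2) {x y : NodeAlg B a}
    (hxy : var a i * x = var a i * y) : x = y := by
  rw [← sub_eq_zero]
  apply var_mul_eq_zero a ha i
  rw [mul_sub, hxy, sub_self]

lemma mm_le_ker_resHom : mm a ≤ RingHom.ker (NodeAlgLib.resHom a) := by
  rw [mm, Ideal.span_le]
  intro x hx
  rcases hx with rfl | hx
  · exact NodeAlgLib.resHom_t a
  · rw [Set.mem_singleton_iff] at hx
    subst hx
    exact NodeAlgLib.resHom_e a

lemma not_isUnit_of_mem_mm (ha : ¬ IsUnit a) {x : NodeAlg B a} (hx : x ∈ mm a) : ¬ IsUnit x := by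
  intro hu
  have h1 : NodeAlgLib.resHom a x = 0 := mm_le_ker_resHom a hx
  have h2 := hu.map (NodeAlgLib.resHom a)
  rw [h1] at h2
  have : Nontrivial (B ⧸ Ideal.span ({a} : Set B)) := by
    rw [Ideal.Quotient.nontrivial_iff, Ne, Ideal.span_singleton_eq_top]
    exact ha
  exact not_isUnit_zero h2

/-- every element is a unit or lies in `(t, e)`, provided every nonunit of `B` is a multiple
of `a`. -/
lemma isUnit_or_mem_mm (hmax : ∀ c : B, ¬ IsUnit c → a ∣ c) (x : NodeAlg B a) :
    IsUnit x ∨ x ∈ mm a := by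
  obtain ⟨f, rfl⟩ := qm_surjective a x
  by_cases hu : IsUnit (MvPowerSeries.constantCoeff f)
  · exact Or.inl (isUnit_qm_of_constantCoeff a hu)
  · right
    obtain ⟨c, hc⟩ := hmax _ hu
    have h0 : MvPowerSeries.constantCoeff (f - C (MvPowerSeries.constantCoeff f)) = 0 := by
      simp
    obtain ⟨r, s, hrs⟩ := mem_span_X_of_constantCoeff_eq_zero h0
    have hf : f = X 0 * r + X 1 * s + C a * C c := by
      rw [← hrs, ← map_mul, ← hc]; ring
    rw [hf, map_add, map_add, map_mul, map_mul, map_mul, qm_X0, qm_X1, qm_C,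
      ← NodeAlgLib.t_mul_e a]
    refine add_mem (add_mem (Ideal.mul_mem_right _ _ (t_mem_mm a))
      (Ideal.mul_mem_right _ _ (e_mem_mm a))) ?_
    exact Ideal.mul_mem_right _ _ (Ideal.mul_mem_right _ _ (t_mem_mm a))

end node2

end Groth.Agent.Lib.Helper26.NodeAlg2
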