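import Mathlib

set_option autoImplicit false

namespace Groth.Agent.Lib.Helper26.NodeAlphaAbs

open PowerSeries

variable {R A : Type*} [CommRing R] [CommRing A] [Algebra R A]
  (x y : A) (p q : R) (ofX ofY : PowerSeries R →ₐ[R] A)
  (hX : ofX X = x) (hY : ofY X = y) (hxy : x * y = algebraMap R A (p * q))
  (hex : ∀ a : A, ∃ f g : PowerSeries R, a = ofX f + y * ofY g)
  (huniq : ∀ f g : PowerSeries R, ofX f + y * ofY g = 0 → f = 0 ∧ g = 0)

/-- the map `(a, b) ↦ (x a + p b, q a + y b)` -/
def alpha (v : Fin 2 → A) : Fin 2 → A :=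
  ![x * v 0 + algebraMap R A p * v 1, algebraMap R A q * v 0 + y * v 1]

omit [Algebra R A] in
theorem X_mul_eq_zero (f : PowerSeries R) (h : X * f = 0) : f = 0 := by
  ext n
  have := congrArg (PowerSeries.coeff (n + 1)) h
  rwa [PowerSeries.coeff_succ_X_mul, map_zero] at this

include hX hY huniq in
theorem alpha_restrict_eq_zero (f g : PowerSeries R)
    (h : alpha x y p q ![ofX f, ofY g] = 0) : f = 0 ∧ g = 0 := by
  have h0 := congrFun h 0
  have h1 := congrFun h 1
  simp only [alpha, Matrix.cons_val_zero, Matrix.cons_val_one, Pi.zero_apply] at h0 h1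
  have h1' : ofX (C q * f) + y * ofY g = 0 := by
    rw [map_mul, ← h1]
    congr 1
    rw [← PowerSeries.algebraMap_eq, AlgHom.commutes]
  obtain ⟨-, hg⟩ := huniq _ _ h1'
  subst hg
  have h0' : ofX (X * f) + y * ofY 0 = 0 := by
    rw [map_mul, hX, map_zero, mul_zero, add_zero]
    rw [map_zero, mul_zero, add_zero] at h0
    exact h0
  obtain ⟨hf, -⟩ := huniq _ _ h0'
  exact ⟨X_mul_eq_zero f hf, rfl⟩

include hX hY hxy hex in
/-- every value of `alpha` is a value on a pair `(f(x), g(y))` -/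
theorem alpha_eq_restrict (v : Fin 2 → A) :
    ∃ (a₂ b₁' F G : PowerSeries R),
      alpha x y p q v = alpha x y p q ![ofX F, ofY G] ∧
      v 0 = ofX F - algebraMap R A p * ofX b₁' + y * ofY a₂ ∧
      v 1 = ofY G - algebraMap R A q * ofY a₂ + x * ofX b₁' := by
  obtain ⟨a₁, a₂, ha⟩ := hex (v 0)
  obtain ⟨b₁, b₂, hb⟩ := hex (v 1)
  set b₁' : PowerSeries R := PowerSeries.mk fun n => coeff (n + 1) b₁ with hb₁'
  have hb₁ : b₁ = X * b₁' + C (constantCoeff b₁) := PowerSeries.eq_X_mul_shift_add_const b₁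
  have hCp : ∀ r : R, ofX (C r) = algebraMap R A r := by
    intro r; rw [← PowerSeries.algebraMap_eq, AlgHom.commutes]
  have hCq : ∀ r : R, ofY (C r) = algebraMap R A r := by
    intro r; rw [← PowerSeries.algebraMap_eq, AlgHom.commutes]
  have hxy' : x * y = algebraMap R A p * algebraMap R A q := by rw [hxy, map_mul]
  have hb' : v 1 = algebraMap R A (constantCoeff b₁) + x * ofX b₁' + y * ofY b₂ := by
    rw [hb]
    conv_lhs => rw [hb₁]
    rw [map_add, map_mul, hX, hCp]; ring
  refine ⟨a₂, b₁', a₁ + C p * b₁', C (constantCoeff b₁) + X * b₂ + C q * a₂, ?_, ?_, ?_⟩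
  · unfold alpha
    simp only [Matrix.cons_val_zero, Matrix.cons_val_one]
    rw [ha, hb']
    simp only [map_add, map_mul, hX, hY, hCp, hCq]
    congr 1
    · linear_combination (ofY a₂) * hxy'
    · congr 1
      linear_combination (ofX b₁') * hxy'
  · rw [ha]
    simp only [map_add, map_mul, hCp]
    ring
  · rw [hb']
    simp only [map_add, map_mul, hY, hCq]
    ring

end Groth.Agent.Lib.Helper26.NodeAlphaAbs
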