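import Mathlib

set_option autoImplicit false
open MvPowerSeries

namespace Groth.Agent.Lib.Helper26.NodeNF

variable {R : Type*} [CommRing R]

/-- the exponent `(a, b)` -/
noncomputable def idx (a b : ℕ) : Fin 2 →₀ ℕ := Finsupp.single 0 a + Finsupp.single 1 b

@[simp] theorem idx_zero (a b : ℕ) : idx a b 0 = a := by simp [idx]
@[simp] theorem idx_one (a b : ℕ) : idx a b 1 = b := by simp [idx]

theorem eq_idx (d : Fin 2 →₀ ℕ) : d = idx (d 0) (d 1) := by
  ext i
  fin_cases i <;> simp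

theorem idx_add (a b a' b' : ℕ) : idx a b + idx a' b' = idx (a + a') (b + b') := by
  ext i
  fin_cases i <;> simp

theorem idx_le_iff (a b a' b' : ℕ) : idx a b ≤ idx a' b' ↔ a ≤ a' ∧ b ≤ b' := by
  rw [Finsupp.le_def]
  constructor
  · intro h
    have h0 := h 0
    have h1 := h 1
    simp only [idx_zero, idx_one] at h0 h1
    exact ⟨h0, h1⟩
  · rintro ⟨h0, h1⟩ i
    fin_cases i
    · simpa using h0
    · simpa using h1

theorem idx_zero_zero : idx 0 0 = 0 := by
  ext i
  fin_cases i <;> simp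

/-- coefficient at `(a, b)` -/
noncomputable def cf (F : MvPowerSeries (Fin 2) R) (a b : ℕ) : R := coeff (idx a b) F

/-- series with given coefficients -/
def mkF (c : ℕ → ℕ → R) : MvPowerSeries (Fin 2) R := fun d => c (d 0) (d 1)

@[simp] theorem cf_mkF (c : ℕ → ℕ → R) (a b : ℕ) : cf (mkF c) a b = c a b := by
  show c (idx a b 0) (idx a b 1) = _
  rw [idx_zero, idx_one]

theorem ext_cf {F G : MvPowerSeries (Fin 2) R} (h : ∀ a b, cf F a b = cf G a b) : F = G := by
  ext d
  rw [eq_idx d]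
  exact h _ _

@[simp] theorem cf_add (F G : MvPowerSeries (Fin 2) R) (a b : ℕ) :
    cf (F + G) a b = cf F a b + cf G a b := by simp [cf]

@[simp] theorem cf_sub (F G : MvPowerSeries (Fin 2) R) (a b : ℕ) :
    cf (F - G) a b = cf F a b - cf G a b := by simp [cf]

@[simp] theorem cf_zero (a b : ℕ) : cf (0 : MvPowerSeries (Fin 2) R) a b = 0 := by simp [cf]

theorem cf_C_mul (t : R) (G : MvPowerSeries (Fin 2) R) (a b : ℕ) :
    cf (C t * G) a b = t * cf G a b := by simp [cf]

theorem X0X1_eq : (X 0 * X 1 : MvPowerSeries (Fin 2) R) = monomial (idx 1 1) 1 := by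
  rw [X_def, X_def, monomial_mul_monomial, mul_one]
  rfl

theorem cf_X0X1_mul_succ (G : MvPowerSeries (Fin 2) R) (a b : ℕ) :
    cf (X 0 * X 1 * G) (a + 1) (b + 1) = cf G a b := by
  rw [X0X1_eq, cf, show idx (a + 1) (b + 1) = idx 1 1 + idx a b by rw [idx_add, add_comm 1, add_comm 1],
    coeff_add_monomial_mul, one_mul]
  rfl

theorem cf_X0X1_mul_right (G : MvPowerSeries (Fin 2) R) (a : ℕ) :
    cf (X 0 * X 1 * G) a 0 = 0 := by
  rw [X0X1_eq, cf, coeff_monomial_mul, if_neg]
  rw [idx_le_iff]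
  omega

theorem cf_X0X1_mul_left (G : MvPowerSeries (Fin 2) R) (b : ℕ) :
    cf (X 0 * X 1 * G) 0 b = 0 := by
  rw [X0X1_eq, cf, coeff_monomial_mul, if_neg]
  rw [idx_le_iff]
  omega

theorem cf_rel_mul_succ (t : R) (G : MvPowerSeries (Fin 2) R) (a b : ℕ) :
    cf ((X 0 * X 1 - C t) * G) (a + 1) (b + 1) = cf G a b - t * cf G (a + 1) (b + 1) := by
  rw [sub_mul, cf_sub, cf_X0X1_mul_succ, cf_C_mul]

theorem cf_rel_mul_right (t : R) (G : MvPowerSeries (Fin 2) R) (a : ℕ) :
    cf ((X 0 * X 1 - C t) * G) a 0 = - (t * cf G a 0) := by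
  rw [sub_mul, cf_sub, cf_X0X1_mul_right, cf_C_mul, zero_sub]

theorem cf_rel_mul_left (t : R) (G : MvPowerSeries (Fin 2) R) (b : ℕ) :
    cf ((X 0 * X 1 - C t) * G) 0 b = - (t * cf G 0 b) := by
  rw [sub_mul, cf_sub, cf_X0X1_mul_left, cf_C_mul, zero_sub]

theorem cf_smul (r : R) (F : MvPowerSeries (Fin 2) R) (a b : ℕ) :
    cf (r • F) a b = r * cf F a b := by simp [cf]

section Sum

variable (t : R) (Sg : (ℕ → R) →ₗ[R] R)

/-- the `x`-part of the normal form -/
noncomputable def nux (F : MvPowerSeries (Fin 2) R) (n : ℕ) : R := Sg (fun j => cf F (n + j) j)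

/-- the `y`-part of the normal form (coefficient of `y^(n+1)`) -/
noncomputable def nuy (F : MvPowerSeries (Fin 2) R) (n : ℕ) : R := Sg (fun j => cf F j (n + 1 + j))

theorem nux_sub (F G : MvPowerSeries (Fin 2) R) (n : ℕ) :
    nux Sg (F - G) n = nux Sg F n - nux Sg G n := by
  unfold nux
  have : (fun j => cf (F - G) (n + j) j) = (fun j => cf F (n + j) j) - (fun j => cf G (n + j) j) := by
    funext j; simp
  rw [this, map_sub]

theorem nuy_sub (F G : MvPowerSeries (Fin 2) R) (n : ℕ) :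
    nuy Sg (F - G) n = nuy Sg F n - nuy Sg G n := by
  unfold nuy
  have : (fun j => cf (F - G) j (n + 1 + j)) =
      (fun j => cf F j (n + 1 + j)) - (fun j => cf G j (n + 1 + j)) := by
    funext j; simp
  rw [this, map_sub]

variable (hSg : ∀ c : ℕ → R, Sg c = c 0 + t * Sg (fun j => c (j + 1)))
include hSg

theorem Sg_tele (d : ℕ → R) (e : ℕ → R) (h0 : e 0 = - (t * d 0))
    (hs : ∀ j, e (j + 1) = d j - t * d (j + 1)) : Sg e = 0 := by
  rw [hSg e, h0]
  have h1 : (fun j => e (j + 1)) = d - t • (fun j => d (j + 1)) := by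
    funext j
    rw [hs j]
    simp
  rw [h1, map_sub, map_smul, smul_eq_mul]
  have h2 := hSg d
  rw [h2]
  ring

theorem nux_rel_mul (G : MvPowerSeries (Fin 2) R) (n : ℕ) :
    nux Sg ((X 0 * X 1 - C t) * G) n = 0 := by
  apply Sg_tele t Sg hSg (fun j => cf G (n + j) j)
  · show cf _ (n + 0) 0 = _
    rw [cf_rel_mul_right]
  · intro j
    show cf _ (n + (j + 1)) (j + 1) = _
    rw [← add_assoc, cf_rel_mul_succ]

theorem nuy_rel_mul (G : MvPowerSeries (Fin 2) R) (n : ℕ) :
    nuy Sg ((X 0 * X 1 - C t) * G) n = 0 := by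
  apply Sg_tele t Sg hSg (fun j => cf G j (n + 1 + j))
  · show cf _ 0 (n + 1 + 0) = _
    rw [cf_rel_mul_left]
  · intro j
    show cf _ (j + 1) (n + 1 + (j + 1)) = _
    rw [← add_assoc, cf_rel_mul_succ]

/-- the element `f(x) + y g(y)` with coefficient sequences `f`, `g` -/
def nfElt (f g : ℕ → R) : MvPowerSeries (Fin 2) R :=
  mkF (fun a b => if b = 0 then f a else if a = 0 then g (b - 1) else 0)

omit hSg in
theorem cf_nfElt_right (f g : ℕ → R) (a : ℕ) : cf (nfElt f g) a 0 = f a := by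
  simp [nfElt]

omit hSg in
theorem cf_nfElt_left (f g : ℕ → R) (b : ℕ) : cf (nfElt f g) 0 (b + 1) = g b := by
  simp [nfElt]

omit hSg in
theorem cf_nfElt_succ (f g : ℕ → R) (a b : ℕ) : cf (nfElt f g) (a + 1) (b + 1) = 0 := by
  simp [nfElt]

theorem nux_nfElt (f g : ℕ → R) (n : ℕ) : nux Sg (nfElt f g) n = f n := by
  unfold nux
  rw [hSg]
  have h1 : (fun j => cf (nfElt f g) (n + (j + 1)) (j + 1)) = 0 := by
    funext j
    rw [← add_assoc, cf_nfElt_succ]; rfl
  rw [h1, map_zero, mul_zero, add_zero]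
  show cf _ (n + 0) 0 = _
  rw [cf_nfElt_right]; rfl

theorem nuy_nfElt (f g : ℕ → R) (n : ℕ) : nuy Sg (nfElt f g) n = g n := by
  unfold nuy
  rw [hSg]
  have h1 : (fun j => cf (nfElt f g) (j + 1) (n + 1 + (j + 1))) = 0 := by
    funext j
    rw [← add_assoc, cf_nfElt_succ]; rfl
  rw [h1, map_zero, mul_zero, add_zero]
  show cf _ 0 (n + 1 + 0) = _
  rw [add_zero, cf_nfElt_left]

/-- uniqueness of the normal form -/
theorem nfElt_unique (f g : ℕ → R) (G : MvPowerSeries (Fin 2) R)
    (h : nfElt f g = (X 0 * X 1 - C t) * G) : f = 0 ∧ g = 0 := by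
  constructor
  · funext n
    rw [← nux_nfElt t Sg hSg f g n, h, nux_rel_mul t Sg hSg]; rfl
  · funext n
    rw [← nuy_nfElt t Sg hSg f g n, h, nuy_rel_mul t Sg hSg]; rfl

/-- existence of the normal form -/
theorem nfElt_exists (F : MvPowerSeries (Fin 2) R) :
    ∃ G, F - nfElt (nux Sg F) (nuy Sg F) = (X 0 * X 1 - C t) * G := by
  set H := F - nfElt (nux Sg F) (nuy Sg F) with hH
  have hHx : ∀ n, nux Sg H n = 0 := by
    intro n
    rw [hH, nux_sub, nux_nfElt t Sg hSg, sub_self]
  have hHy : ∀ n, nuy Sg H n = 0 := by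
    intro n
    rw [hH, nuy_sub, nuy_nfElt t Sg hSg, sub_self]
  refine ⟨mkF (fun a b => Sg (fun j => cf H (a + 1 + j) (b + 1 + j))), ?_⟩
  apply ext_cf
  intro a b
  rcases Nat.eq_zero_or_pos b with hb | hb
  · subst hb
    rw [cf_rel_mul_right, cf_mkF]
    have := hHx a
    unfold nux at this
    rw [hSg] at this
    have h2 : (fun j => cf H (a + (j + 1)) (j + 1)) = (fun j => cf H (a + 1 + j) (0 + 1 + j)) := by
      funext j
      congr 1 <;> omega
    rw [h2] at this
    have h3 : cf H a 0 = cf H (a + 0) 0 := by rw [add_zero]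
    rw [h3]
    linear_combination this
  · obtain ⟨b, rfl⟩ : ∃ b', b = b' + 1 := ⟨b - 1, by omega⟩
    rcases Nat.eq_zero_or_pos a with ha | ha
    · subst ha
      rw [cf_rel_mul_left, cf_mkF]
      have := hHy b
      unfold nuy at this
      rw [hSg] at this
      have h2 : (fun j => cf H (j + 1) (b + 1 + (j + 1))) =
          (fun j => cf H (0 + 1 + j) (b + 1 + 1 + j)) := by
        funext j
        congr 1 <;> omega
      rw [h2] at this
      have h3 : cf H 0 (b + 1) = cf H 0 (b + 1 + 0) := by rw [add_zero]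
      rw [h3]
      linear_combination this
    · obtain ⟨a, rfl⟩ : ∃ a', a = a' + 1 := ⟨a - 1, by omega⟩
      rw [cf_rel_mul_succ, cf_mkF, cf_mkF]
      rw [hSg (fun j => cf H (a + 1 + j) (b + 1 + j))]
      have h2 : (fun j => cf H (a + 1 + (j + 1)) (b + 1 + (j + 1))) =
          (fun j => cf H (a + 1 + 1 + j) (b + 1 + 1 + j)) := by
        funext j
        congr 1 <;> omega
      rw [h2]
      show _ = cf H (a + 1 + 0) (b + 1 + 0) + _ - _
      rw [add_zero, add_zero]
      ring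

end Sum

theorem cf_toMv_zero (f : PowerSeries R) (a b : ℕ) :
    cf (PowerSeries.toMvPowerSeries (σ := Fin 2) 0 f) a b =
      if b = 0 then PowerSeries.coeff a f else 0 := by
  rw [PowerSeries.toMvPowerSeries_apply]
  split_ifs with hb
  · subst hb
    have h1 : idx a 0 = Finsupp.embDomain (Function.Embedding.punit (0 : Fin 2))
        (Finsupp.single () a) := by
      rw [Finsupp.embDomain_single]
      simp [idx, Function.Embedding.punit]
    rw [cf, h1]
    exact coeff_embDomain_rename (Function.Embedding.punit (0 : Fin 2)) f (Finsupp.single () a)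
  · rw [cf]
    apply coeff_rename_eq_zero
    rintro ⟨y, hy⟩
    have := congrArg (fun d => d 1) hy
    simp only [idx_one] at this
    rw [Finsupp.mapDomain_of_notMem_range] at this
    · exact hb this.symm
    · rintro ⟨u, hu⟩
      exact absurd hu (by simp)

theorem cf_toMv_one (g : PowerSeries R) (a b : ℕ) :
    cf (PowerSeries.toMvPowerSeries (σ := Fin 2) 1 g) a b =
      if a = 0 then PowerSeries.coeff b g else 0 := by
  rw [PowerSeries.toMvPowerSeries_apply]
  split_ifs with ha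
  · subst ha
    have h1 : idx 0 b = Finsupp.embDomain (Function.Embedding.punit (1 : Fin 2))
        (Finsupp.single () b) := by
      rw [Finsupp.embDomain_single]
      simp [idx, Function.Embedding.punit]
    rw [cf, h1]
    exact coeff_embDomain_rename (Function.Embedding.punit (1 : Fin 2)) g (Finsupp.single () b)
  · rw [cf]
    apply coeff_rename_eq_zero
    rintro ⟨y, hy⟩
    have := congrArg (fun d => d 0) hy
    simp only [idx_zero] at this
    rw [Finsupp.mapDomain_of_notMem_range] at this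
    · exact ha this.symm
    · rintro ⟨u, hu⟩
      exact absurd hu (by simp)

theorem X1_eq : (X 1 : MvPowerSeries (Fin 2) R) = monomial (idx 0 1) 1 := by
  rw [X_def]
  congr 1
  simp [idx]

theorem X0_eq : (X 0 : MvPowerSeries (Fin 2) R) = monomial (idx 1 0) 1 := by
  rw [X_def]
  congr 1
  simp [idx]

theorem cf_X1_mul_succ (G : MvPowerSeries (Fin 2) R) (a b : ℕ) :
    cf (X 1 * G) a (b + 1) = cf G a b := by
  rw [X1_eq, cf, show idx a (b + 1) = idx 0 1 + idx a b by rw [idx_add, zero_add, add_comm 1],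
    coeff_add_monomial_mul, one_mul]
  rfl

theorem cf_X1_mul_zero (G : MvPowerSeries (Fin 2) R) (a : ℕ) :
    cf (X 1 * G) a 0 = 0 := by
  rw [X1_eq, cf, coeff_monomial_mul, if_neg]
  rw [idx_le_iff]
  omega

theorem cf_X0_mul_succ (G : MvPowerSeries (Fin 2) R) (a b : ℕ) :
    cf (X 0 * G) (a + 1) b = cf G a b := by
  rw [X0_eq, cf, show idx (a + 1) b = idx 1 0 + idx a b by rw [idx_add, zero_add, add_comm 1],
    coeff_add_monomial_mul, one_mul]
  rfl

theorem cf_X0_mul_zero (G : MvPowerSeries (Fin 2) R) (b : ℕ) :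
    cf (X 0 * G) 0 b = 0 := by
  rw [X0_eq, cf, coeff_monomial_mul, if_neg]
  rw [idx_le_iff]
  omega

/-- `f(x) + y g(y)` as an `nfElt` -/
theorem toMv_add_eq_nfElt (f g : PowerSeries R) :
    PowerSeries.toMvPowerSeries (σ := Fin 2) 0 f + X 1 * PowerSeries.toMvPowerSeries (σ := Fin 2) 1 g =
      nfElt (fun n => PowerSeries.coeff n f) (fun n => PowerSeries.coeff n g) := by
  apply ext_cf
  intro a b
  rw [cf_add, cf_toMv_zero, nfElt, cf_mkF]
  rcases Nat.eq_zero_or_pos b with hb | hb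
  · subst hb
    rw [cf_X1_mul_zero, if_pos rfl, if_pos rfl, add_zero]
  · obtain ⟨b, rfl⟩ : ∃ b', b = b' + 1 := ⟨b - 1, by omega⟩
    have hb1 : ¬ (b + 1 = 0) := by omega
    rw [cf_X1_mul_succ, cf_toMv_one, if_neg hb1, if_neg hb1, zero_add, Nat.add_sub_cancel]

theorem exists_limit {S : Type*} [CommRing S] (I : Ideal S) [IsPrecomplete I S] (f : ℕ → S)
    (hf : ∀ n, f (n + 1) - f n ∈ I ^ n) : ∃ L, ∀ n, f n - L ∈ I ^ n := by
  have hmn : ∀ m n, m ≤ n → f n - f m ∈ I ^ m := by
    intro m n hmn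
    induction n, hmn using Nat.le_induction with
    | base => simp
    | succ n hmn ih =>
      have : f (n + 1) - f m = (f (n + 1) - f n) + (f n - f m) := by ring
      rw [this]
      exact Ideal.add_mem _ (Ideal.pow_le_pow_right hmn (hf n)) ih
  obtain ⟨L, hL⟩ := IsPrecomplete.prec (I := I) (M := S) ‹_› (f := f) (by
    intro m n hmn'
    rw [SModEq.sub_mem, smul_eq_mul, Ideal.mul_top]
    have := hmn m n hmn'
    rw [← Ideal.neg_mem_iff]
    simpa using this)
  refine ⟨L, fun n => ?_⟩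
  have := hL n
  rwa [SModEq.sub_mem, smul_eq_mul, Ideal.mul_top] at this

theorem eq_zero_of_forall_mem {S : Type*} [CommRing S] (I : Ideal S) [IsHausdorff I S] (x : S)
    (hx : ∀ n, x ∈ I ^ n) : x = 0 := by
  apply IsHausdorff.haus (I := I) (M := S) ‹_›
  intro n
  rw [SModEq.zero, smul_eq_mul, Ideal.mul_top]
  exact hx n

/-- partial sums `∑_{j<N} t^j c_j` -/
def psum (t : R) (c : ℕ → R) (N : ℕ) : R := ∑ j ∈ Finset.range N, t ^ j * c j

theorem psum_succ' (t : R) (c : ℕ → R) (N : ℕ) :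
    psum t c (N + 1) = c 0 + t * psum t (fun j => c (j + 1)) N := by
  unfold psum
  rw [Finset.sum_range_succ', pow_zero, one_mul, add_comm, Finset.mul_sum]
  congr 1
  apply Finset.sum_congr rfl
  intro j _
  rw [pow_succ]; ring

theorem psum_add (t : R) (c c' : ℕ → R) (N : ℕ) :
    psum t (c + c') N = psum t c N + psum t c' N := by
  unfold psum
  rw [← Finset.sum_add_distrib]
  apply Finset.sum_congr rfl
  intro j _
  simp [mul_add]

theorem psum_smul (t r : R) (c : ℕ → R) (N : ℕ) :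
    psum t (r • c) N = r * psum t c N := by
  unfold psum
  rw [Finset.mul_sum]
  apply Finset.sum_congr rfl
  intro j _
  simp; ring

theorem exists_Sg (I : Ideal R) [IsAdicComplete I R] (t : R) (ht : t ∈ I) :
    ∃ Sg : (ℕ → R) →ₗ[R] R, ∀ c : ℕ → R, Sg c = c 0 + t * Sg (fun j => c (j + 1)) := by
  have hex : ∀ c : ℕ → R, ∃ L, ∀ N, psum t c N - L ∈ I ^ N := by
    intro c
    apply exists_limit I
    intro N
    unfold psum
    rw [Finset.sum_range_succ, add_sub_cancel_left]
    exact Ideal.mul_mem_right _ _ (Ideal.pow_mem_pow ht N)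
  choose L hL using hex
  have huniq : ∀ (c : ℕ → R) (L' : R), (∀ N, psum t c N - L' ∈ I ^ N) → L c = L' := by
    intro c L' h
    rw [← sub_eq_zero]
    apply eq_zero_of_forall_mem I
    intro N
    have := Ideal.sub_mem _ (h N) (hL c N)
    simpa using this
  refine ⟨{ toFun := L, map_add' := ?_, map_smul' := ?_ }, ?_⟩
  · intro c c'
    apply huniq
    intro N
    rw [psum_add]
    have := Ideal.add_mem _ (hL c N) (hL c' N)
    convert this using 1; ring
  · intro r c
    apply huniq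
    intro N
    rw [psum_smul, RingHom.id_apply, smul_eq_mul, ← mul_sub]
    exact Ideal.mul_mem_left _ _ (hL c N)
  · intro c
    show L c = c 0 + t * L (fun j => c (j + 1))
    apply huniq
    intro N
    rcases Nat.eq_zero_or_pos N with hN | hN
    · subst hN; simp
    · obtain ⟨N, rfl⟩ : ∃ N', N = N' + 1 := ⟨N - 1, by omega⟩
      rw [psum_succ']
      have h1 : c 0 + t * psum t (fun j => c (j + 1)) N - (c 0 + t * L (fun j => c (j + 1))) =
          t * (psum t (fun j => c (j + 1)) N - L (fun j => c (j + 1))) := by ring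
      rw [h1, pow_succ']
      exact Ideal.mul_mem_mul ht (hL _ N)

theorem exists_Sg_zero : ∃ Sg : (ℕ → R) →ₗ[R] R,
    ∀ c : ℕ → R, Sg c = c 0 + (0 : R) * Sg (fun j => c (j + 1)) :=
  ⟨LinearMap.proj 0, fun c => by simp⟩

/-- existence of the normal form `f(x) + y g(y)` modulo `xy - t` -/
theorem exists_normalForm (t : R) (Sg : (ℕ → R) →ₗ[R] R)
    (hSg : ∀ c : ℕ → R, Sg c = c 0 + t * Sg (fun j => c (j + 1)))
    (F : MvPowerSeries (Fin 2) R) :
    ∃ f g : PowerSeries R,
      F - (PowerSeries.toMvPowerSeries (σ := Fin 2) 0 f +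
        X 1 * PowerSeries.toMvPowerSeries (σ := Fin 2) 1 g) ∈
        Ideal.span {(X 0 * X 1 - C t : MvPowerSeries (Fin 2) R)} := by
  obtain ⟨G, hG⟩ := nfElt_exists t Sg hSg F
  refine ⟨PowerSeries.mk (nux Sg F), PowerSeries.mk (nuy Sg F), ?_⟩
  rw [toMv_add_eq_nfElt]
  simp only [PowerSeries.coeff_mk]
  rw [hG]
  exact Ideal.mul_mem_right _ _ (Ideal.subset_span rfl)

/-- uniqueness of the normal form `f(x) + y g(y)` modulo `xy - t` -/
theorem normalForm_unique (t : R) (Sg : (ℕ → R) →ₗ[R] R)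
    (hSg : ∀ c : ℕ → R, Sg c = c 0 + t * Sg (fun j => c (j + 1)))
    (f g : PowerSeries R)
    (h : PowerSeries.toMvPowerSeries (σ := Fin 2) 0 f +
        X 1 * PowerSeries.toMvPowerSeries (σ := Fin 2) 1 g ∈
        Ideal.span {(X 0 * X 1 - C t : MvPowerSeries (Fin 2) R)}) : f = 0 ∧ g = 0 := by
  obtain ⟨G, hG⟩ := Ideal.mem_span_singleton'.mp h
  rw [toMv_add_eq_nfElt] at hG
  obtain ⟨h1, h2⟩ := nfElt_unique t Sg hSg _ _ G (by rw [← hG, mul_comm])
  constructor
  · ext n; exact congrFun h1 n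
  · ext n; exact congrFun h2 n

end Groth.Agent.Lib.Helper26.NodeNF
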