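import Mathlib
import Groth.Prelude.Def_W4c5spincurvestfNode
import Groth.Agent.Lib.Helper26.NodeNF
import Groth.Agent.Lib.Helper26.NodeAlphaAbs

set_option autoImplicit false
universe u

namespace Groth.Agent.Lib.Helper26.NodeAlphaC

open Groth.Agent.Lib.Helper26.NodeNF Groth.Agent.Lib.Helper26.NodeAlphaAbs SpinCurv

variable (R : Type u) [CommRing R] (π : R)

/-- `f ↦ f(x)` as an algebra hom -/
noncomputable def ofXh : PowerSeries R →ₐ[R] NodeRing R π :=
  (Ideal.Quotient.mkₐ R _).comp (PowerSeries.toMvPowerSeries (σ := Fin 2) 0)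

/-- `g ↦ g(y)` as an algebra hom -/
noncomputable def ofYh : PowerSeries R →ₐ[R] NodeRing R π :=
  (Ideal.Quotient.mkₐ R _).comp (PowerSeries.toMvPowerSeries (σ := Fin 2) 1)

theorem ofXh_apply (f : PowerSeries R) : ofXh R π f = NodeRing.ofX R π f := rfl
theorem ofYh_apply (f : PowerSeries R) : ofYh R π f = NodeRing.ofY R π f := rfl

theorem ofXh_X : ofXh R π PowerSeries.X = NodeRing.x R π := by
  rw [ofXh_apply]
  show Ideal.Quotient.mk _ _ = Ideal.Quotient.mk _ _
  rw [PowerSeries.toMvPowerSeries_X]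

theorem ofYh_X : ofYh R π PowerSeries.X = NodeRing.y R π := by
  rw [ofYh_apply]
  show Ideal.Quotient.mk _ _ = Ideal.Quotient.mk _ _
  rw [PowerSeries.toMvPowerSeries_X]

theorem x_mul_y : NodeRing.x R π * NodeRing.y R π = algebraMap R (NodeRing R π) π := by
  show Ideal.Quotient.mk _ _ * Ideal.Quotient.mk _ _ = Ideal.Quotient.mk _ (MvPowerSeries.C π)
  rw [← map_mul, Ideal.Quotient.eq]
  exact Ideal.subset_span rfl

variable {R π}

theorem exists_nf (Sg : (ℕ → R) →ₗ[R] R)
    (hSg : ∀ c : ℕ → R, Sg c = c 0 + π * Sg (fun j => c (j + 1))) (a : NodeRing R π) :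
    ∃ f g : PowerSeries R, a = ofXh R π f + NodeRing.y R π * ofYh R π g := by
  obtain ⟨F, rfl⟩ := Ideal.Quotient.mk_surjective a
  obtain ⟨f, g, h⟩ := exists_normalForm π Sg hSg F
  refine ⟨f, g, ?_⟩
  rw [ofXh_apply, ofYh_apply]
  show Ideal.Quotient.mk _ F = Ideal.Quotient.mk _ _ + Ideal.Quotient.mk _ _ * Ideal.Quotient.mk _ _
  rw [← map_mul, ← map_add, Ideal.Quotient.eq]
  exact h

theorem nf_unique (Sg : (ℕ → R) →ₗ[R] R)
    (hSg : ∀ c : ℕ → R, Sg c = c 0 + π * Sg (fun j => c (j + 1))) (f g : PowerSeries R)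
    (h : ofXh R π f + NodeRing.y R π * ofYh R π g = 0) : f = 0 ∧ g = 0 := by
  apply normalForm_unique π Sg hSg
  rw [ofXh_apply, ofYh_apply] at h
  change Ideal.Quotient.mk _ _ + Ideal.Quotient.mk _ _ * Ideal.Quotient.mk _ _ = 0 at h
  rw [← map_mul, ← map_add, Ideal.Quotient.eq_zero_iff_mem] at h
  exact h

theorem nodeAlpha_mulVec (p q : R) (v : Fin 2 → NodeRing R (p * q)) :
    Matrix.mulVec (nodeAlpha R p q) v =
      alpha (NodeRing.x R (p * q)) (NodeRing.y R (p * q)) p q v := by
  ext i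
  fin_cases i <;> simp [nodeAlpha, alpha, Matrix.mulVec, dotProduct, Fin.sum_univ_two]

section Main

open IsLocalRing

variable (R)
variable [IsNoetherianRing R] [IsLocalRing R] [IsAdicComplete (IsLocalRing.maximalIdeal R) R]
    (p q : R) (hp : p ∈ IsLocalRing.maximalIdeal R) (hq : q ∈ IsLocalRing.maximalIdeal R)

include hp in
theorem main_18433 :
    Function.Injective (fun fg : PowerSeries R × PowerSeries R =>
        Matrix.mulVec (SpinCurv.nodeAlpha R p q)
          ![SpinCurv.NodeRing.ofX R (p * q) fg.1, SpinCurv.NodeRing.ofY R (p * q) fg.2]) ∧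
    Set.range (fun fg : PowerSeries R × PowerSeries R =>
        Matrix.mulVec (SpinCurv.nodeAlpha R p q)
          ![SpinCurv.NodeRing.ofX R (p * q) fg.1, SpinCurv.NodeRing.ofY R (p * q) fg.2]) =
      Set.range (Matrix.mulVec (SpinCurv.nodeAlpha R p q)) := by
  obtain ⟨Sg, hSg⟩ := exists_Sg (maximalIdeal R) (p * q) (Ideal.mul_mem_right _ _ hp)
  have hex := exists_nf Sg hSg
  have huniq := nf_unique Sg hSg
  constructor
  · rintro ⟨f, g⟩ ⟨f', g'⟩ h
    simp only at h
    have h2 : Matrix.mulVec (SpinCurv.nodeAlpha R p q)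
        ![ofXh R (p * q) (f - f'), ofYh R (p * q) (g - g')] = 0 := by
      have h3 : ![ofXh R (p * q) (f - f'), ofYh R (p * q) (g - g')] =
          ![NodeRing.ofX R (p * q) f, NodeRing.ofY R (p * q) g] -
            ![NodeRing.ofX R (p * q) f', NodeRing.ofY R (p * q) g'] := by
        ext i
        fin_cases i
        · show ofXh R (p * q) (f - f') = ofXh R (p * q) f - ofXh R (p * q) f'
          exact map_sub _ _ _
        · show ofYh R (p * q) (g - g') = ofYh R (p * q) g - ofYh R (p * q) g'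
          exact map_sub _ _ _
      rw [h3, Matrix.mulVec_sub, h, sub_self]
    rw [nodeAlpha_mulVec] at h2
    obtain ⟨h4, h5⟩ := alpha_restrict_eq_zero _ _ p q _ _ (ofXh_X R (p * q)) (ofYh_X R (p * q))
      huniq _ _ h2
    rw [sub_eq_zero] at h4 h5
    rw [h4, h5]
  · ext w
    constructor
    · rintro ⟨fg, rfl⟩
      exact ⟨_, rfl⟩
    · rintro ⟨v, rfl⟩
      obtain ⟨a₂, b₁', F, G, h, -, -⟩ := alpha_eq_restrict _ _ p q _ _ (ofXh_X R (p * q))
        (ofYh_X R (p * q)) (x_mul_y R (p * q)) hex v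
      refine ⟨(F, G), ?_⟩
      simp only
      rw [nodeAlpha_mulVec, nodeAlpha_mulVec]
      exact h.symm

include hp in
theorem main_18432 :
    LinearMap.ker (Matrix.mulVecLin (SpinCurv.nodeAlpha R p q)) =
      Submodule.span (SpinCurv.NodeRing R (p * q))
        {![algebraMap R (SpinCurv.NodeRing R (p * q)) p, -SpinCurv.NodeRing.x R (p * q)],
         ![SpinCurv.NodeRing.y R (p * q), -algebraMap R (SpinCurv.NodeRing R (p * q)) q]} := by
  obtain ⟨Sg, hSg⟩ := exists_Sg (maximalIdeal R) (p * q) (Ideal.mul_mem_right _ _ hp)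
  have hex := exists_nf Sg hSg
  have huniq := nf_unique Sg hSg
  have hxy := x_mul_y R (p * q)
  apply le_antisymm
  · intro v hv
    rw [LinearMap.mem_ker, Matrix.mulVecLin_apply, nodeAlpha_mulVec] at hv
    obtain ⟨a₂, b₁', F, G, h, hv0, hv1⟩ := alpha_eq_restrict _ _ p q _ _ (ofXh_X R (p * q))
      (ofYh_X R (p * q)) hxy hex v
    rw [hv] at h
    obtain ⟨hF, hG⟩ := alpha_restrict_eq_zero _ _ p q _ _ (ofXh_X R (p * q)) (ofYh_X R (p * q))
      huniq _ _ h.symm
    subst hF hG
    have hv' : v = (-(ofXh R (p * q) b₁')) •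
        ![algebraMap R (SpinCurv.NodeRing R (p * q)) p, -SpinCurv.NodeRing.x R (p * q)] +
        (ofYh R (p * q) a₂) •
        ![SpinCurv.NodeRing.y R (p * q), -algebraMap R (SpinCurv.NodeRing R (p * q)) q] := by
      ext i
      fin_cases i
      · show v 0 = (-(ofXh R (p * q) b₁')) * (algebraMap R (SpinCurv.NodeRing R (p * q)) p) +
          (ofYh R (p * q) a₂) * (SpinCurv.NodeRing.y R (p * q))
        rw [hv0, map_zero]; ring
      · show v 1 = (-(ofXh R (p * q) b₁')) * (-SpinCurv.NodeRing.x R (p * q)) +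
          (ofYh R (p * q) a₂) * (-algebraMap R (SpinCurv.NodeRing R (p * q)) q)
        rw [hv1, map_zero]; ring
    rw [hv']
    exact Submodule.add_mem _
      (Submodule.smul_mem _ _ (Submodule.subset_span (Set.mem_insert _ _)))
      (Submodule.smul_mem _ _ (Submodule.subset_span (Set.mem_insert_of_mem _ rfl)))
  · rw [Submodule.span_le]
    have hxy' : NodeRing.x R (p * q) * NodeRing.y R (p * q) =
        algebraMap R (NodeRing R (p * q)) p * algebraMap R (NodeRing R (p * q)) q := by
      rw [hxy, map_mul]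
    rintro v (rfl | rfl)
    · rw [SetLike.mem_coe, LinearMap.mem_ker, Matrix.mulVecLin_apply, nodeAlpha_mulVec]
      ext i
      fin_cases i
      · simp only [alpha, Fin.zero_eta, Matrix.cons_val_zero, Matrix.cons_val_one, Pi.zero_apply]
        ring
      · simp only [alpha, Fin.mk_one, Matrix.cons_val_zero, Matrix.cons_val_one, Pi.zero_apply]
        linear_combination (-1 : NodeRing R (p * q)) * hxy'
    · rw [SetLike.mem_coe, LinearMap.mem_ker, Matrix.mulVecLin_apply, nodeAlpha_mulVec]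
      ext i
      fin_cases i
      · simp only [alpha, Fin.zero_eta, Matrix.cons_val_zero, Matrix.cons_val_one, Pi.zero_apply]
        linear_combination hxy'
      · simp only [alpha, Fin.mk_one, Matrix.cons_val_zero, Matrix.cons_val_one, Pi.zero_apply]
        ring

end Main

end Groth.Agent.Lib.Helper26.NodeAlphaC
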