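import Mathlib
import Groth.Agent.Lib.Helper10.Resolution

set_option autoImplicit false
universe u

open CategoryTheory

namespace Groth.Agent.Lib.Helper26.PeriodicRes

variable {N : Type u} [CommRing N] (a b : N)

/-- multiplication by `c` as an endomorphism of `N` in `ModuleCat N`. -/
noncomputable def mulHom (c : N) : ModuleCat.of N N ⟶ ModuleCat.of N N :=
  ModuleCat.ofHom (LinearMap.mulLeft N c)

@[simp] lemma mulHom_apply (c z : N) : (mulHom c).hom z = c * z := rfl

/-- the differential: `a` in even spots, `b` in odd ones. -/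
noncomputable def dd (n : ℕ) : ModuleCat.of N N ⟶ ModuleCat.of N N :=
  if Even n then mulHom a else mulHom b

lemma dd_sq (hab : a * b = 0) (n : ℕ) : dd a b (n + 1) ≫ dd a b n = 0 := by
  ext
  rcases Nat.even_or_odd n with h | h
  · have h' : ¬ Even (n + 1) := by
      rw [Nat.not_even_iff_odd]; exact h.add_one
    simp only [dd, if_pos h, if_neg h']
    show a * (b * 1) = (0 : N)
    rw [mul_one, hab]
  · have h' : Even (n + 1) := h.add_one
    have h'' : ¬ Even n := by rw [Nat.not_even_iff_odd]; exact h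
    simp only [dd, if_pos h', if_neg h'']
    show b * (a * 1) = (0 : N)
    rw [mul_one, mul_comm, hab]

/-- the periodic complex. -/
noncomputable def cx (hab : a * b = 0) : ChainComplex (ModuleCat.{u} N) ℕ :=
  ChainComplex.of (fun _ => ModuleCat.of N N) (dd a b) (dd_sq a b hab)

lemma cx_d (hab : a * b = 0) (n : ℕ) : (cx a b hab).d (n + 1) n = dd a b n :=
  ChainComplex.of_d (fun _ => ModuleCat.of N N) (dd a b) n

lemma cx_exactAt (hab : a * b = 0) (h1 : ∀ z, a * z = 0 → ∃ w, z = b * w)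
    (h2 : ∀ z, b * z = 0 → ∃ w, z = a * w) (n : ℕ) : (cx a b hab).ExactAt (n + 1) := by
  rw [HomologicalComplex.exactAt_iff' _ (n + 2) (n + 1) n (by simp) (by simp),
    ShortComplex.moduleCat_exact_iff]
  intro x hx
  change ((cx a b hab).d (n + 1) n).hom x = 0 at hx
  change ∃ x₁ : N, ((cx a b hab).d (n + 2) (n + 1)).hom x₁ = x
  change N at x
  rw [cx_d] at hx
  rw [cx_d]
  rcases Nat.even_or_odd n with h | h
  · have h' : ¬ Even (n + 1) := by
      rw [Nat.not_even_iff_odd]; exact h.add_one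
    simp only [dd, if_pos h, if_neg h'] at hx ⊢
    obtain ⟨w, hw⟩ := h1 x hx
    exact ⟨w, hw.symm⟩
  · have h' : Even (n + 1) := h.add_one
    have h'' : ¬ Even n := by rw [Nat.not_even_iff_odd]; exact h
    simp only [dd, if_pos h', if_neg h''] at hx ⊢
    obtain ⟨w, hw⟩ := h2 x hx
    exact ⟨w, hw.symm⟩


/-- the augmentation `N ⟶ N/(a)`. -/
noncomputable def aug : ModuleCat.of N N ⟶ ModuleCat.of N (N ⧸ Ideal.span {a}) :=
  ModuleCat.ofHom (Submodule.mkQ (Ideal.span {a}))

lemma aug_apply (z : N) : (aug a).hom z = Ideal.Quotient.mk (Ideal.span {a}) z := rfl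

lemma cx_d_aug (hab : a * b = 0) : (cx a b hab).d 1 0 ≫ aug a = 0 := by
  rw [cx_d]
  ext
  simp only [dd, if_pos (show Even 0 from Even.zero)]
  show Ideal.Quotient.mk (Ideal.span {a}) (a * 1) = 0
  rw [Ideal.Quotient.eq_zero_iff_mem, mul_one]
  exact Ideal.subset_span rfl

/-- the periodic resolution of `N/(a)`. -/
noncomputable def res (hab : a * b = 0) (h1 : ∀ z, a * z = 0 → ∃ w, z = b * w)
    (h2 : ∀ z, b * z = 0 → ∃ w, z = a * w) :
    ProjectiveResolution (ModuleCat.of N (N ⧸ Ideal.span {a})) :=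
  Groth.Agent.Lib.Helper10.projectiveResolutionOfExact _ (cx a b hab)
    (fun _ => by dsimp [cx]; infer_instance) (aug a) (cx_d_aug a b hab)
    (by
      rw [ShortComplex.moduleCat_exact_iff]
      intro x hx
      change N at x
      change (aug a).hom x = 0 at hx
      change ∃ x₁ : N, ((cx a b hab).d 1 0).hom x₁ = x
      rw [aug_apply, Ideal.Quotient.eq_zero_iff_mem, Ideal.mem_span_singleton'] at hx
      obtain ⟨w, hw⟩ := hx
      refine ⟨w, ?_⟩
      rw [cx_d]
      simp only [dd, if_pos (show Even 0 from Even.zero)]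
      show a * w = x
      rw [mul_comm, hw])
    (by
      have : Epi (aug a) := by
        rw [ModuleCat.epi_iff_surjective]
        exact Ideal.Quotient.mk_surjective
      exact this)
    (cx_exactAt a b hab h1 h2)


section ext

variable (hab : a * b = 0) (h1 : ∀ z, a * z = 0 → ∃ w, z = b * w)
    (h2 : ∀ z, b * z = 0 → ∃ w, z = a * w) (Y : ModuleCat.{u} N)

/-- the map `N ⟶ Y`, `1 ↦ c`, from the `n`-th term of the resolution. -/
noncomputable def toY (n : ℕ) (c : Y) : (res a b hab h1 h2).complex.X n ⟶ Y :=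
  (ModuleCat.ofHom (LinearMap.toSpanSingleton N Y c) : ModuleCat.of N N ⟶ Y)

lemma toY_apply (n : ℕ) (c : Y) (z : N) :
    (toY a b hab h1 h2 Y n c).hom (z : N) = z • c := rfl

lemma toY_add (n : ℕ) (c c' : Y) :
    toY a b hab h1 h2 Y n (c + c') = toY a b hab h1 h2 Y n c + toY a b hab h1 h2 Y n c' := by
  apply ModuleCat.hom_ext
  apply LinearMap.ext
  intro z
  change N at z
  show z • (c + c') = z • c + z • c'
  rw [smul_add]

lemma toY_hom_one (n : ℕ) (f : (res a b hab h1 h2).complex.X n ⟶ Y) :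
    toY a b hab h1 h2 Y n (f.hom (1 : N)) = f := by
  apply ModuleCat.hom_ext
  apply LinearMap.ext
  intro z
  change N at z
  show z • f.hom (1 : N) = f.hom z
  have := f.hom.map_smul z (1 : N)
  rw [← this]
  congr 1
  exact mul_one z

lemma res_d21_apply (z : N) : ((res a b hab h1 h2).complex.d 2 1).hom z = b * z := by
  show ((cx a b hab).d 2 1).hom z = b * z
  rw [cx_d]
  show (if Even 1 then mulHom a else mulHom b).hom z = b * z
  rw [if_neg Nat.not_even_one]
  rfl

lemma res_d10_apply (z : N) : ((res a b hab h1 h2).complex.d 1 0).hom z = a * z := by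
  show ((cx a b hab).d 1 0).hom z = a * z
  rw [cx_d]
  show (if Even 0 then mulHom a else mulHom b).hom z = a * z
  rw [if_pos Even.zero]
  rfl

lemma cocycle (c : Y) (hc : b • c = 0) :
    (res a b hab h1 h2).complex.d 2 1 ≫ toY a b hab h1 h2 Y 1 c = 0 := by
  apply ModuleCat.hom_ext
  apply LinearMap.ext
  intro z
  change N at z
  show (toY a b hab h1 h2 Y 1 c).hom (((res a b hab h1 h2).complex.d 2 1).hom z) = 0
  rw [res_d21_apply, toY_apply, mul_smul, smul_comm, hc, smul_zero]

/-- the class in `Ext¹(N/(a), Y)` attached to `c ∈ Y` with `b c = 0`. -/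
noncomputable def phi (c : Y) (hc : b • c = 0) :
    Abelian.Ext (ModuleCat.of N (N ⧸ Ideal.span {a})) Y 1 :=
  (res a b hab h1 h2).extMk (toY a b hab h1 h2 Y 1 c) 2 rfl
    (cocycle a b hab h1 h2 Y c hc)

lemma phi_add (c c' : Y) (hc : b • c = 0) (hc' : b • c' = 0) :
    phi a b hab h1 h2 Y (c + c') (by rw [smul_add, hc, hc', add_zero]) =
      phi a b hab h1 h2 Y c hc + phi a b hab h1 h2 Y c' hc' := by
  unfold phi
  rw [ProjectiveResolution.add_extMk]
  congr 1
  exact toY_add a b hab h1 h2 Y 1 c c'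

lemma phi_eq_zero_iff (c : Y) (hc : b • c = 0) :
    phi a b hab h1 h2 Y c hc = 0 ↔ ∃ c' : Y, a • c' = c := by
  unfold phi
  rw [ProjectiveResolution.extMk_eq_zero_iff _ _ _ _ _ 0 rfl]
  constructor
  · rintro ⟨g, hg⟩
    refine ⟨g.hom (1 : N), ?_⟩
    have := congrArg (fun f : (res a b hab h1 h2).complex.X 1 ⟶ Y => f.hom (1 : N)) hg
    simp only [toY_apply, one_smul] at this
    rw [← this]
    show a • g.hom (1 : N) = g.hom (((res a b hab h1 h2).complex.d 1 0).hom (1 : N))
    rw [res_d10_apply]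
    exact (g.hom.map_smul a (1 : N)).symm
  · rintro ⟨c', rfl⟩
    refine ⟨toY a b hab h1 h2 Y 0 c', ?_⟩
    apply ModuleCat.hom_ext
    apply LinearMap.ext
    intro z
    change N at z
    show (toY a b hab h1 h2 Y 0 c').hom (((res a b hab h1 h2).complex.d 1 0).hom z) =
      (toY a b hab h1 h2 Y 1 (a • c')).hom z
    rw [res_d10_apply, toY_apply, toY_apply, mul_smul, smul_comm]

lemma phi_surjective (hY : ∀ c : Y, b • c = 0)
    (α : Abelian.Ext (ModuleCat.of N (N ⧸ Ideal.span {a})) Y 1) :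
    ∃ c : Y, phi a b hab h1 h2 Y c (hY c) = α := by
  obtain ⟨f, hf, rfl⟩ := (res a b hab h1 h2).extMk_surjective α 2 rfl
  refine ⟨f.hom (1 : N), ?_⟩
  unfold phi
  congr 1
  exact toY_hom_one a b hab h1 h2 Y 1 f

end ext


section lin

variable (hab : a * b = 0) (h1 : ∀ z, a * z = 0 → ∃ w, z = b * w)
    (h2 : ∀ z, b * z = 0 → ∃ w, z = a * w) (Y : ModuleCat.{u} N)
    {k : Type u} [Field k] [Algebra k N]

lemma smul_id_apply (r : k) (y : Y) : (r • 𝟙 Y : Y ⟶ Y).hom y = algebraMap k N r • y := rfl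

lemma smul_phi (r : k) (c : Y) (hc : b • c = 0) :
    r • phi a b hab h1 h2 Y c hc =
      phi a b hab h1 h2 Y (algebraMap k N r • c) (by rw [smul_comm, hc, smul_zero]) := by
  unfold phi
  rw [Abelian.Ext.smul_eq_comp_mk₀, ProjectiveResolution.extMk_comp_mk₀]
  congr 1
  apply ModuleCat.hom_ext
  apply LinearMap.ext
  intro z
  change N at z
  show (r • 𝟙 Y : Y ⟶ Y).hom ((toY a b hab h1 h2 Y 1 c).hom z) =
    (toY a b hab h1 h2 Y 1 (algebraMap k N r • c)).hom z
  rw [smul_id_apply, toY_apply, toY_apply, smul_comm]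

end lin


section fin

variable (hab : a * b = 0) (h1 : ∀ z, a * z = 0 → ∃ w, z = b * w)
    (h2 : ∀ z, b * z = 0 → ∃ w, z = a * w) (Y : ModuleCat.{u} N)
    {k : Type u} [Field k] [Algebra k N]

lemma phi_congr {c c' : Y} (h : c = c') (hc : b • c = 0) :
    phi a b hab h1 h2 Y c hc = phi a b hab h1 h2 Y c' (h ▸ hc) := by
  subst h; rfl

theorem finrank_ext_one (hab : a * b = 0) (h1 : ∀ z, a * z = 0 → ∃ w, z = b * w)
    (h2 : ∀ z, b * z = 0 → ∃ w, z = a * w) (hY : ∀ c : Y, b • c = 0) (y₀ : Y)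
    (hgen : ∀ c : Y, ∃ (r : k) (c' : Y), c = algebraMap k N r • y₀ + a • c')
    (hindep : ∀ r : k, (∃ c' : Y, a • c' = algebraMap k N r • y₀) → r = 0) :
    Module.finrank k (Abelian.Ext (ModuleCat.of N (N ⧸ Ideal.span {a})) Y 1) = 1 := by
  let Ψ : k →ₗ[k] Abelian.Ext (ModuleCat.of N (N ⧸ Ideal.span {a})) Y 1 :=
    { toFun := fun r => phi a b hab h1 h2 Y (algebraMap k N r • y₀) (hY _)
      map_add' := by
        intro r s
        rw [← phi_add]
        apply phi_congr
        rw [map_add, add_smul]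
      map_smul' := by
        intro s r
        rw [RingHom.id_apply, smul_phi]
        apply phi_congr
        rw [smul_eq_mul, map_mul, mul_smul] }
  have hΨ : ∀ r, Ψ r = phi a b hab h1 h2 Y (algebraMap k N r • y₀) (hY _) := fun _ => rfl
  have hinj : Function.Injective Ψ := by
    rw [← LinearMap.ker_eq_bot, LinearMap.ker_eq_bot']
    intro r hr
    rw [hΨ, phi_eq_zero_iff] at hr
    exact hindep r hr
  have hsurj : Function.Surjective Ψ := by
    intro α
    obtain ⟨c, rfl⟩ := phi_surjective a b hab h1 h2 Y hY α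
    obtain ⟨r, c', hc⟩ := hgen c
    refine ⟨r, ?_⟩
    rw [hΨ, phi_congr a b hab h1 h2 Y hc, phi_add a b hab h1 h2 Y _ _ (hY _) (hY _)]
    have h0 : phi a b hab h1 h2 Y (a • c') (hY _) = 0 := by
      rw [phi_eq_zero_iff]; exact ⟨c', rfl⟩
    rw [h0, add_zero]
  have e := LinearEquiv.ofBijective Ψ ⟨hinj, hsurj⟩
  rw [← e.finrank_eq, Module.finrank_self]

end fin

end Groth.Agent.Lib.Helper26.PeriodicRes
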