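import Mathlib
import Groth.Agent.Lib.Helper26.PeriodicRes
import Groth.Agent.Lib.Helper26.NodeAlg2

set_option autoImplicit false
universe u

open CategoryTheory MvPowerSeries

namespace Groth.Agent.Lib.Helper26.NodeExt

variable (k : Type u) [Field k]

local notation "P" => MvPowerSeries (Fin 2) k
local notation "I" => Ideal.span {(X (0 : Fin 2) : MvPowerSeries (Fin 2) k) * X (1 : Fin 2)}
local notation "N" => MvPowerSeries (Fin 2) k ⧸ Ideal.span {(X (0 : Fin 2) : MvPowerSeries (Fin 2) k) * X (1 : Fin 2)}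
local notation "mk" => Ideal.Quotient.mk (Ideal.span {(X (0 : Fin 2) : MvPowerSeries (Fin 2) k) * X (1 : Fin 2)})

lemma X_ne_zero' (i : Fin 2) : (X i : P) ≠ 0 := by
  intro h
  have := congrArg (coeff (Finsupp.single i 1)) h
  rw [coeff_X, if_pos rfl, map_zero] at this
  exact one_ne_zero this

lemma ann_X1 (z : N) (hz : mk (X 1) * z = 0) : ∃ w, z = mk (X 0) * w := by
  obtain ⟨p, rfl⟩ := Ideal.Quotient.mk_surjective z
  rw [← map_mul, Ideal.Quotient.eq_zero_iff_mem, Ideal.mem_span_singleton'] at hz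
  obtain ⟨q, hq⟩ := hz
  refine ⟨mk q, ?_⟩
  rw [← map_mul]
  congr 1
  have : (X 1 : P) * p = X 1 * (X 0 * q) := by rw [← hq]; ring
  exact mul_left_cancel₀ (X_ne_zero' k 1) this

lemma ann_X0 (z : N) (hz : mk (X 0) * z = 0) : ∃ w, z = mk (X 1) * w := by
  obtain ⟨p, rfl⟩ := Ideal.Quotient.mk_surjective z
  rw [← map_mul, Ideal.Quotient.eq_zero_iff_mem, Ideal.mem_span_singleton'] at hz
  obtain ⟨q, hq⟩ := hz
  refine ⟨mk q, ?_⟩
  rw [← map_mul]
  congr 1
  have : (X 0 : P) * p = X 0 * (X 1 * q) := by rw [← hq]; ring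
  exact mul_left_cancel₀ (X_ne_zero' k 0) this

lemma X1_mul_X0 : mk (X 1) * mk (X 0) = 0 := by
  rw [← map_mul, Ideal.Quotient.eq_zero_iff_mem, mul_comm]
  exact Ideal.subset_span rfl

theorem main : Module.finrank k (Abelian.Ext
    (ModuleCat.of N (N ⧸ Ideal.span {mk (X (1 : Fin 2))}))
    (ModuleCat.of N (N ⧸ Ideal.span {mk (X (0 : Fin 2))})) 1) = 1 := by
  refine PeriodicRes.finrank_ext_one (mk (X 1)) (mk (X 0))
    (ModuleCat.of N (N ⧸ Ideal.span {mk (X (0 : Fin 2))})) (X1_mul_X0 k) (ann_X1 k) (ann_X0 k)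
    ?_ (Ideal.Quotient.mk _ 1) ?_ ?_
  · intro c
    obtain ⟨z, rfl⟩ := Ideal.Quotient.mk_surjective c
    show Ideal.Quotient.mk (Ideal.span {mk (X (0 : Fin 2))}) (mk (X 0) * z) = 0
    rw [Ideal.Quotient.eq_zero_iff_mem]
    exact Ideal.mul_mem_right _ _ (Ideal.subset_span rfl)
  · intro c
    obtain ⟨z, rfl⟩ := Ideal.Quotient.mk_surjective c
    obtain ⟨p, rfl⟩ := Ideal.Quotient.mk_surjective z
    have h0 : MvPowerSeries.constantCoeff (p - C (MvPowerSeries.constantCoeff p)) = 0 := by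
      simp
    obtain ⟨r, s, hrs⟩ := NodeAlg2.mem_span_X_of_constantCoeff_eq_zero h0
    generalize MvPowerSeries.constantCoeff p = c0 at hrs
    refine ⟨c0, Ideal.Quotient.mk _ (mk s), ?_⟩
    show Ideal.Quotient.mk (Ideal.span {mk (X (0 : Fin 2))}) (mk p) =
      Ideal.Quotient.mk (Ideal.span {mk (X (0 : Fin 2))})
        (algebraMap k N c0 * 1 + mk (X 1) * mk s)
    rw [Ideal.Quotient.eq, Ideal.mem_span_singleton']
    refine ⟨mk r, ?_⟩
    have hp : p = C c0 + X 0 * r + X 1 * s := by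
      rw [add_assoc, ← hrs]; ring
    have halg : algebraMap k N c0 = mk (C c0) := rfl
    rw [halg, mul_one, hp]
    simp only [map_add, map_mul]
    ring
  · intro r hr
    obtain ⟨c', hc'⟩ := hr
    obtain ⟨z, rfl⟩ := Ideal.Quotient.mk_surjective c'
    obtain ⟨p, rfl⟩ := Ideal.Quotient.mk_surjective z
    have h : Ideal.Quotient.mk (Ideal.span {mk (X (0 : Fin 2))}) (mk (X 1) * mk p) =
      Ideal.Quotient.mk (Ideal.span {mk (X (0 : Fin 2))}) (algebraMap k N r * 1) := hc'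
    rw [Ideal.Quotient.eq, Ideal.mem_span_singleton'] at h
    obtain ⟨w, hw⟩ := h
    obtain ⟨q, rfl⟩ := Ideal.Quotient.mk_surjective w
    have halg : algebraMap k N r = mk (C r) := rfl
    rw [halg, mul_one, ← map_mul, ← map_mul, ← map_sub, eq_comm, ← sub_eq_zero, ← map_sub,
      Ideal.Quotient.eq_zero_iff_mem, Ideal.mem_span_singleton'] at hw
    obtain ⟨v, hv⟩ := hw
    have := congrArg MvPowerSeries.constantCoeff hv
    simp at this
    exact this.symm ▸ rfl

end Groth.Agent.Lib.Helper26.NodeExt
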