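import Mathlib
import Groth.Prelude.Def_W4c2arithlefschetzNode
import Groth.Agent.Lib.Helper26.NodeAlg2

/-!
# Automorphisms of the formal double point fixing the branches (helper26)
-/

set_option autoImplicit false
universe u
open ArLef ArLef.NodeAlg

namespace Groth.Agent.Lib.Helper26.NodeFix

open Groth.Agent.Lib.Helper26.NodeAlg2 Groth.Agent.Lib.Helper26

section gen

variable {B : Type u} [CommRing B] (a : B)

lemma br0_t : br a 0 (NodeAlg.t a) = PowerSeries.X := br_var_same a 0
lemma br0_e : br a 0 (NodeAlg.e a) = 0 := br_var_ne a (i := 0) (j := 1) (by decide)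
lemma br1_t : br a 1 (NodeAlg.t a) = 0 := br_var_ne a (i := 1) (j := 0) (by decide)
lemma br1_e : br a 1 (NodeAlg.e a) = PowerSeries.X := br_var_same a 1

lemma mm_isMaximal (ha : ¬ IsUnit a) (hmax : ∀ c : B, ¬ IsUnit c → a ∣ c) : (mm a).IsMaximal := by
  rw [Ideal.isMaximal_iff]
  constructor
  · intro h1
    exact not_isUnit_of_mem_mm a ha h1 isUnit_one
  · intro J x _ hx hxJ
    rcases isUnit_or_mem_mm a hmax x with hu | hm
    · have := Ideal.eq_top_of_isUnit_mem J hxJ hu
      rw [this]; trivial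
    · exact absurd hm hx

lemma length_quot_mm (ha : ¬ IsUnit a) (hmax : ∀ c : B, ¬ IsUnit c → a ∣ c) :
    Module.length (NodeAlg B a) (NodeAlg B a ⧸ mm a) = 1 := by
  rw [Module.length_eq_one_iff, isSimpleModule_iff_isCoatom, ← Ideal.isMaximal_def]
  exact mm_isMaximal a ha hmax

/-- `(t) ∩ (e) = (a)`; stated elementwise. -/
lemma t_mul_eq_e_mul [IsDomain (B ⧸ Ideal.span ({a} : Set B))] {y z : NodeAlg B a}
    (h : NodeAlg.t a * y = NodeAlg.e a * z) :
    ∃ y', NodeAlg.t a * y = algebraMap B (NodeAlg B a) a * y' := by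
  have h1 : br a 0 y = 0 := by
    have := congrArg (br a 0) h
    rw [map_mul, map_mul, br0_t, br0_e, zero_mul] at this
    rcases mul_eq_zero.1 this with h' | h'
    · exact absurd h' PowerSeries.X_ne_zero
    · exact h'
  rw [br_eq_zero_iff a (i := 0) (j := 1) (by decide)] at h1
  obtain ⟨y', rfl⟩ := h1
  refine ⟨y', ?_⟩
  rw [← NodeAlgLib.t_mul_e a]
  show NodeAlg.t a * (NodeAlg.e a * y') = _
  ring

end gen

section field

variable {k : Type u} [Field k]

instance quotDomainZero : IsDomain (k ⧸ Ideal.span ({0} : Set k)) := by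
  have : (Ideal.span ({0} : Set k)).IsPrime := by
    rw [Ideal.span_singleton_eq_bot.2 rfl]
    exact Ideal.isPrime_bot
  exact Ideal.Quotient.isDomain _

theorem main_field (σ : ArLef.NodeAlg k 0 ≃ₐ[k] ArLef.NodeAlg k 0) (α β : (ArLef.NodeAlg k 0)ˣ)
    (ht : σ (ArLef.NodeAlg.t (0 : k)) = (α : ArLef.NodeAlg k 0) * ArLef.NodeAlg.t (0 : k))
    (he : σ (ArLef.NodeAlg.e (0 : k)) = (β : ArLef.NodeAlg k 0) * ArLef.NodeAlg.e (0 : k)) :
    Module.length (ArLef.NodeAlg k 0) (ArLef.NodeAlg k 0 ⧸ ArLef.fixIdeal σ) + 1 =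
      Module.length (ArLef.NodeAlg k 0) (ArLef.NodeAlg k 0 ⧸ (ArLef.fixIdeal σ ⊔
        Ideal.span ({ArLef.NodeAlg.t (0 : k)} : Set (ArLef.NodeAlg k 0)))) +
      Module.length (ArLef.NodeAlg k 0) (ArLef.NodeAlg k 0 ⧸ (ArLef.fixIdeal σ ⊔
        Ideal.span ({ArLef.NodeAlg.e (0 : k)} : Set (ArLef.NodeAlg k 0)))) := by
  set T : NodeAlg k 0 := NodeAlg.t (0 : k) with hT
  set E : NodeAlg k 0 := NodeAlg.e (0 : k) with hE
  have hTE : T * E = 0 := by
    rw [hT, hE, NodeAlgLib.t_mul_e, map_zero]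
  set I' : Ideal (NodeAlg k 0) := Ideal.span {((α : NodeAlg k 0) - 1) * T, ((β : NodeAlg k 0) - 1) * E}
    with hI'
  have hI : ArLef.fixIdeal σ = I' := by
    apply le_antisymm
    · rw [ArLef.fixIdeal, Ideal.span_le]
      rintro _ ⟨x, rfl⟩
      show σ x - x ∈ _
      refine fix_mem (0 : k) (σ : NodeAlg k 0 ≃ₐ[k] NodeAlg k 0).toRingEquiv.toRingHom I'
        ?_ ?_ ?_ ?_ ?_ x
      · intro b
        show σ (algebraMap k _ b) - algebraMap k _ b ∈ _
        rw [AlgEquiv.commutes, sub_self]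
        exact zero_mem _
      · show σ T - T ∈ I'
        rw [ht]
        have : (α : NodeAlg k 0) * T - T = ((α : NodeAlg k 0) - 1) * T := by ring
        rw [this]
        exact Ideal.subset_span (by simp)
      · show σ E - E ∈ I'
        rw [he]
        have : (β : NodeAlg k 0) * E - E = ((β : NodeAlg k 0) - 1) * E := by ring
        rw [this]
        exact Ideal.subset_span (by simp)
      · show σ T ∈ _
        rw [ht]
        exact Ideal.mul_mem_left _ _ (t_mem_mm 0)
      · show σ E ∈ _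
        rw [he]
        exact Ideal.mul_mem_left _ _ (e_mem_mm 0)
    · rw [hI', Ideal.span_le]
      intro x hx
      rcases hx with rfl | hx
      · have : ((α : NodeAlg k 0) - 1) * T = σ T - T := by rw [ht]; ring
        rw [this]
        exact Ideal.subset_span ⟨T, rfl⟩
      · rw [Set.mem_singleton_iff] at hx
        subst hx
        have : ((β : NodeAlg k 0) - 1) * E = σ E - E := by rw [he]; ring
        rw [this]
        exact Ideal.subset_span ⟨E, rfl⟩
  have hIm : I' ≤ mm (0 : k) := by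
    rw [hI', Ideal.span_le]
    intro x hx
    rcases hx with rfl | hx
    · exact Ideal.mul_mem_left _ _ (t_mem_mm 0)
    · rw [Set.mem_singleton_iff] at hx
      subst hx
      exact Ideal.mul_mem_left _ _ (e_mem_mm 0)
  have hsup : (I' ⊔ Ideal.span {T}) ⊔ (I' ⊔ Ideal.span {E}) = mm (0 : k) := by
    apply le_antisymm
    · refine sup_le (sup_le hIm ?_) (sup_le hIm ?_)
      · rw [Ideal.span_le, Set.singleton_subset_iff]; exact t_mem_mm 0
      · rw [Ideal.span_le, Set.singleton_subset_iff]; exact e_mem_mm 0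
    · rw [mm, Ideal.span_le]
      intro x hx
      rcases hx with rfl | hx
      · exact Submodule.mem_sup_left (Submodule.mem_sup_right (Ideal.mem_span_singleton_self _))
      · rw [Set.mem_singleton_iff] at hx
        subst hx
        exact Submodule.mem_sup_right (Submodule.mem_sup_right (Ideal.mem_span_singleton_self _))
  have hinf : (I' ⊔ Ideal.span {T}) ⊓ (I' ⊔ Ideal.span {E}) = I' := by
    apply le_antisymm
    · intro x hx
      obtain ⟨hx1, hx2⟩ := hx
      obtain ⟨i₁, hi₁, tc, htc, rfl⟩ := Submodule.mem_sup.1 hx1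
      obtain ⟨i₂, hi₂, ed, hed, h12⟩ := Submodule.mem_sup.1 hx2
      obtain ⟨c, rfl⟩ := Ideal.mem_span_singleton'.1 htc
      obtain ⟨d, rfl⟩ := Ideal.mem_span_singleton'.1 hed
      have h3 : i₂ - i₁ ∈ I' := sub_mem hi₂ hi₁
      rw [hI', Ideal.mem_span_pair] at h3
      obtain ⟨r, s, hrs⟩ := h3
      -- t (c - r (α - 1)) = e (s (β - 1) + d)
      have h4 : NodeAlg.t (0 : k) * (c - r * ((α : NodeAlg k 0) - 1)) =
          NodeAlg.e (0 : k) * (s * ((β : NodeAlg k 0) - 1) + d) := by
        rw [← hT, ← hE]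
        linear_combination -h12 - hrs
      obtain ⟨y', hy'⟩ := t_mul_eq_e_mul (0 : k) h4
      have h0 : algebraMap k (NodeAlg k 0) 0 = 0 := map_zero _
      rw [h0, zero_mul, ← hT] at hy'
      have h5 : c * T = r * (((α : NodeAlg k 0) - 1) * T) := by
        linear_combination hy'
      rw [h5]
      exact add_mem hi₁ (Ideal.mul_mem_left _ _ (Ideal.subset_span (by simp)))
    · exact le_inf le_sup_left le_sup_left
  have hlen := length_inf_add_length_sup (A := NodeAlg k 0) (I' ⊔ Ideal.span {T})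
    (I' ⊔ Ideal.span {E})
  rw [hinf, hsup, length_quot_mm (0 : k) not_isUnit_zero
    (fun c hc => by rw [isUnit_iff_ne_zero, not_not] at hc; rw [hc])] at hlen
  rw [hI]
  exact hlen

end field

end Groth.Agent.Lib.Helper26.NodeFix
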