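import Mathlib
import Groth.Prelude.Def_W4c2arithlefschetzNode
import Groth.Agent.Lib.Helper26.NodeAlg2

/-!
# Automorphisms of the formal double point switching the branches (helper26)
-/

set_option autoImplicit false
universe u
open ArLef ArLef.NodeAlg

namespace Groth.Agent.Lib.Helper26.NodeSwap

open Groth.Agent.Lib.Helper26.NodeAlg2 Groth.Agent.Lib.Helper26

variable {B : Type u} [CommRing B] [IsDomain B] [IsDiscreteValuationRing B]

instance quotDomain (π : B) [Fact (Irreducible π)] :
    IsDomain (B ⧸ Ideal.span ({π} : Set B)) := by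
  have hπ : Irreducible π := Fact.out
  have : (Ideal.span ({π} : Set B)).IsPrime :=
    (Ideal.span_singleton_prime hπ.ne_zero).2 hπ.prime
  exact Ideal.Quotient.isDomain _

lemma br0_t (π : B) : br π 0 (NodeAlg.t π) = PowerSeries.X := br_var_same π 0
lemma br0_e (π : B) : br π 0 (NodeAlg.e π) = 0 := br_var_ne π (i := 0) (j := 1) (by decide)
lemma br1_t (π : B) : br π 1 (NodeAlg.t π) = 0 := br_var_ne π (i := 1) (j := 0) (by decide)
lemma br1_e (π : B) : br π 1 (NodeAlg.e π) = PowerSeries.X := br_var_same π 1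

lemma map_mm_sq_le (π : B) :
    Ideal.map (br π 0) ((mm π) ^ 2) ≤ Ideal.span {(PowerSeries.X : PowerSeries (B ⧸ Ideal.span ({π} : Set B))) ^ 2} := by
  rw [Ideal.map_pow, ← Ideal.span_singleton_pow]
  apply Ideal.pow_right_mono
  rw [mm, Ideal.map_span, Ideal.span_le]
  rintro _ ⟨x, hx, rfl⟩
  rcases hx with rfl | hx
  · rw [br0_t]; exact Ideal.mem_span_singleton_self _
  · rw [Set.mem_singleton_iff] at hx
    subst hx
    rw [br0_e]; exact zero_mem _

/-- an element whose image under `br 0` has unit linear coefficient is not in `(t,e)²`. -/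
lemma not_mem_mm_sq (π : B) (hπ : Irreducible π) {h : NodeAlg B π}
    (hh : br π 0 h = -PowerSeries.X) : h ∉ (mm π) ^ 2 := by
  intro hmem
  have h1 := map_mm_sq_le π (Ideal.mem_map_of_mem (br π 0) hmem)
  rw [Ideal.mem_span_singleton, hh, PowerSeries.X_pow_dvd_iff] at h1
  have h2 := h1 1 (by norm_num)
  rw [map_neg, PowerSeries.coeff_one_X, neg_eq_zero] at h2
  have : Nontrivial (B ⧸ Ideal.span ({π} : Set B)) := by
    rw [Ideal.Quotient.nontrivial_iff, Ne, Ideal.span_singleton_eq_top]
    exact hπ.not_isUnit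
  exact one_ne_zero h2

/-- regularity: `t e z ∈ (h)` implies `z ∈ (h)` when `h ≡ -t mod e` and `h ≡ unit * e mod t`. -/
lemma mem_span_of_te_mul_mem (π : B) (hπ : Irreducible π) {h : NodeAlg B π}
    (h0 : br π 0 h = -PowerSeries.X)
    (h1 : ∃ w, IsUnit w ∧ br π 1 h = w * PowerSeries.X)
    {z : NodeAlg B π} (hz : NodeAlg.t π * NodeAlg.e π * z ∈ Ideal.span {h}) :
    z ∈ Ideal.span {h} := by
  haveI : Fact (Irreducible π) := ⟨hπ⟩
  obtain ⟨y, hy⟩ := Ideal.mem_span_singleton'.1 hz
  -- hy : y * h = t e z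
  obtain ⟨w, hw, h1⟩ := h1
  have e1 : br π 1 y = 0 := by
    have := congrArg (br π 1) hy
    rw [map_mul, map_mul, map_mul, br1_t, zero_mul, zero_mul, h1] at this
    rcases mul_eq_zero.1 this with h' | h'
    · exact h'
    · rcases mul_eq_zero.1 h' with h'' | h''
      · exact absurd h'' hw.ne_zero
      · exact absurd h'' PowerSeries.X_ne_zero
  rw [br_eq_zero_iff π (i := 1) (j := 0) (by decide)] at e1
  obtain ⟨y₁, rfl⟩ := e1
  have e2 : NodeAlg.e π * z = y₁ * h := by
    apply var_mul_cancel π hπ.ne_zero 0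
    show NodeAlg.t π * _ = NodeAlg.t π * _
    rw [← mul_assoc, ← hy]
    show var π 0 * y₁ * h = NodeAlg.t π * (y₁ * h)
    rw [var_zero]; ring
  have e3 : br π 0 y₁ = 0 := by
    have := congrArg (br π 0) e2
    rw [map_mul, map_mul, br0_e, zero_mul, h0] at this
    rcases mul_eq_zero.1 this.symm with h' | h'
    · exact h'
    · rw [neg_eq_zero] at h'
      exact absurd h' PowerSeries.X_ne_zero
  rw [br_eq_zero_iff π (i := 0) (j := 1) (by decide)] at e3
  obtain ⟨y₂, rfl⟩ := e3
  have e4 : z = y₂ * h := by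
    apply var_mul_cancel π hπ.ne_zero 1
    show NodeAlg.e π * z = NodeAlg.e π * _
    rw [e2]
    show var π 1 * y₂ * h = NodeAlg.e π * (y₂ * h)
    rw [var_one]; ring
  rw [e4]
  exact Ideal.mul_mem_left _ _ (Ideal.mem_span_singleton_self h)

theorem main_alg (π : B) (hπ : Irreducible π)
    (σ : ArLef.NodeAlg B π ≃ₐ[B] ArLef.NodeAlg B π)
    (ht : Associated (σ (ArLef.NodeAlg.t π)) (ArLef.NodeAlg.e π))
    (he : Associated (σ (ArLef.NodeAlg.e π)) (ArLef.NodeAlg.t π)) :
    ∃ h : ArLef.NodeAlg B π, ArLef.fixIdeal σ = Ideal.span {h} ∧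
      h ∉ (Ideal.span ({ArLef.NodeAlg.t π, ArLef.NodeAlg.e π} : Set (ArLef.NodeAlg B π))) ^ 2 ∧
      IsSMulRegular (ArLef.NodeAlg B π ⧸ Ideal.span ({h} : Set (ArLef.NodeAlg B π))) π := by
  haveI : Fact (Irreducible π) := ⟨hπ⟩
  obtain ⟨u, hu⟩ := ht.symm
  obtain ⟨v, hv⟩ := he.symm
  -- hu : e * u = σ t, hv : t * v = σ e
  have hte : NodeAlg.t π * NodeAlg.e π = algebraMap B (NodeAlg B π) π := NodeAlgLib.t_mul_e π
  have huv : (u : NodeAlg B π) * v = 1 := by
    have h1 : σ (NodeAlg.t π) * σ (NodeAlg.e π) = algebraMap B (NodeAlg B π) π := by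
      rw [← map_mul, hte, AlgEquiv.commutes]
    rw [← hu, ← hv] at h1
    have h2 : algebraMap B (NodeAlg B π) π * ((u : NodeAlg B π) * v - 1) = 0 := by
      rw [← hte] at h1 ⊢
      linear_combination h1
    have := NodeAlgLib.smul_eq_zero_imp π hπ.ne_zero _ h2
    exact sub_eq_zero.1 this
  set h : NodeAlg B π := σ (NodeAlg.t π) - NodeAlg.t π with hh
  have hσe : σ (NodeAlg.e π) - NodeAlg.e π = -(v : NodeAlg B π) * h := by
    rw [hh, ← hu, ← hv]
    linear_combination (NodeAlg.e π) * huv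
  have hb0 : br π 0 h = -PowerSeries.X := by
    rw [hh, map_sub, ← hu, map_mul, br0_e, zero_mul, br0_t, zero_sub]
  have hb1 : ∃ w, IsUnit w ∧ br π 1 h = w * PowerSeries.X := by
    refine ⟨br π 1 u, u.isUnit.map (br π 1), ?_⟩
    rw [hh, map_sub, ← hu, map_mul, br1_e, br1_t, sub_zero, mul_comm]
  refine ⟨h, ?_, not_mem_mm_sq π hπ hb0, ?_⟩
  · apply le_antisymm
    · rw [ArLef.fixIdeal, Ideal.span_le]
      rintro _ ⟨x, rfl⟩
      show σ x - x ∈ Ideal.span {h}
      refine fix_mem π (σ : NodeAlg B π ≃ₐ[B] NodeAlg B π).toRingEquiv.toRingHom (Ideal.span {h})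
        ?_ ?_ ?_ ?_ ?_ x
      · intro b
        show σ (algebraMap B _ b) - algebraMap B _ b ∈ _
        rw [AlgEquiv.commutes, sub_self]
        exact zero_mem _
      · exact Ideal.mem_span_singleton_self h
      · show σ (NodeAlg.e π) - NodeAlg.e π ∈ _
        rw [hσe]
        exact Ideal.mul_mem_left _ _ (Ideal.mem_span_singleton_self h)
      · show σ (NodeAlg.t π) ∈ _
        rw [← hu]
        exact Ideal.mul_mem_right _ _ (e_mem_mm π)
      · show σ (NodeAlg.e π) ∈ _
        rw [← hv]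
        exact Ideal.mul_mem_right _ _ (t_mem_mm π)
    · rw [Ideal.span_le]
      intro x hx
      rw [Set.mem_singleton_iff] at hx
      subst hx
      exact Ideal.subset_span ⟨NodeAlg.t π, rfl⟩
  · rw [isSMulRegular_iff_right_eq_zero_of_smul]
    intro m hm
    obtain ⟨z, rfl⟩ := Ideal.Quotient.mk_surjective m
    have h1 : π • (Ideal.Quotient.mk (Ideal.span {h}) z) =
        Ideal.Quotient.mk (Ideal.span {h}) (NodeAlg.t π * NodeAlg.e π * z) := by
      rw [hte, ← Algebra.smul_def]
      rfl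
    rw [h1, Ideal.Quotient.eq_zero_iff_mem] at hm
    rw [Ideal.Quotient.eq_zero_iff_mem]
    exact mem_span_of_te_mul_mem π hπ hb0 hb1 hm

lemma hmax_of_irreducible (π : B) (hπ : Irreducible π) : ∀ c : B, ¬ IsUnit c → π ∣ c := by
  intro c hc
  have : c ∈ IsLocalRing.maximalIdeal B := (IsLocalRing.mem_maximalIdeal c).2 hc
  rwa [hπ.maximalIdeal_eq, Ideal.mem_span_singleton] at this

lemma mm_isMaximal (π : B) (hπ : Irreducible π) : (mm π).IsMaximal := by
  rw [Ideal.isMaximal_iff]
  constructor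
  · intro h1
    exact not_isUnit_of_mem_mm π hπ.not_isUnit h1 isUnit_one
  · intro J x _ hx hxJ
    rcases isUnit_or_mem_mm π (hmax_of_irreducible π hπ) x with hu | hm
    · have := Ideal.eq_top_of_isUnit_mem J hxJ hu
      rw [this]; trivial
    · exact absurd hm hx

lemma length_quot_mm (π : B) (hπ : Irreducible π) :
    Module.length (NodeAlg B π) (NodeAlg B π ⧸ mm π) = 1 := by
  rw [Module.length_eq_one_iff, isSimpleModule_iff_isCoatom, ← Ideal.isMaximal_def]
  exact mm_isMaximal π hπ

/-- `e` is regular modulo `h` when `h ≡ -t mod e`. -/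
lemma e_regular_mod (π : B) (hπ : Irreducible π) {h : NodeAlg B π}
    (h0 : br π 0 h = -PowerSeries.X) (z : NodeAlg B π)
    (hz : NodeAlg.e π * z ∈ Ideal.span {h}) : z ∈ Ideal.span {h} := by
  haveI : Fact (Irreducible π) := ⟨hπ⟩
  obtain ⟨y, hy⟩ := Ideal.mem_span_singleton'.1 hz
  have e3 : br π 0 y = 0 := by
    have := congrArg (br π 0) hy
    rw [map_mul, map_mul, br0_e, zero_mul, h0] at this
    rcases mul_eq_zero.1 this with h' | h'
    · exact h'
    · rw [neg_eq_zero] at h'
      exact absurd h' PowerSeries.X_ne_zero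
  rw [br_eq_zero_iff π (i := 0) (j := 1) (by decide)] at e3
  obtain ⟨y₂, rfl⟩ := e3
  have e4 : z = y₂ * h := by
    apply var_mul_cancel π hπ.ne_zero 1
    show NodeAlg.e π * z = NodeAlg.e π * _
    rw [← hy]
    show var π 1 * y₂ * h = NodeAlg.e π * (y₂ * h)
    rw [var_one]; ring
  rw [e4]
  exact Ideal.mul_mem_left _ _ (Ideal.mem_span_singleton_self h)

theorem main_ring (π : B) (hπ : Irreducible π)
    (j : ℕ) (hj : 1 ≤ j) (γ : B) (hγ : IsUnit γ)
    (σ : ArLef.NodeAlg B π ≃+* ArLef.NodeAlg B π)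
    (hσB : ∀ b : B, σ (algebraMap B (ArLef.NodeAlg B π) b) - algebraMap B (ArLef.NodeAlg B π) b ∈
      Ideal.span ({algebraMap B (ArLef.NodeAlg B π) (π ^ j)} : Set (ArLef.NodeAlg B π)))
    (hσπ : σ (algebraMap B (ArLef.NodeAlg B π) π) = algebraMap B (ArLef.NodeAlg B π) (π + γ * π ^ j))
    (ht : Associated (σ (ArLef.NodeAlg.t π)) (ArLef.NodeAlg.e π))
    (he : Associated (σ (ArLef.NodeAlg.e π)) (ArLef.NodeAlg.t π)) :
    (∀ g : ArLef.NodeAlg B π, ArLef.fixIdeal σ ≤ Ideal.span ({g} : Set (ArLef.NodeAlg B π)) →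
        IsUnit g) ∧
      Module.length (ArLef.NodeAlg B π) (ArLef.NodeAlg B π ⧸ ArLef.fixIdeal σ) =
        ((2 * j - 1 : ℕ) : ℕ∞) := by
  haveI : Fact (Irreducible π) := ⟨hπ⟩
  obtain ⟨k, rfl⟩ : ∃ k, j = k + 1 := ⟨j - 1, by omega⟩
  obtain ⟨u, hu⟩ := ht.symm
  obtain ⟨v, hv⟩ := he.symm
  set P : NodeAlg B π := algebraMap B (NodeAlg B π) π with hP
  set G : NodeAlg B π := algebraMap B (NodeAlg B π) γ with hG
  have hGu : IsUnit G := hγ.map _
  have hte : NodeAlg.t π * NodeAlg.e π = P := NodeAlgLib.t_mul_e π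
  have huv : (u : NodeAlg B π) * v = 1 + G * P ^ k := by
    have h1 : σ (NodeAlg.t π) * σ (NodeAlg.e π) = P + G * P ^ (k + 1) := by
      rw [← map_mul, hte, hσπ, map_add, map_mul, map_pow]
    rw [← hu, ← hv] at h1
    have h2 : P * ((u : NodeAlg B π) * v - (1 + G * P ^ k)) = 0 := by
      rw [pow_succ] at h1
      rw [← hte] at h1 ⊢
      linear_combination h1
    have := NodeAlgLib.smul_eq_zero_imp π hπ.ne_zero _ h2
    exact sub_eq_zero.1 this
  set h : NodeAlg B π := σ (NodeAlg.t π) - NodeAlg.t π with hh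
  have hσe : σ (NodeAlg.e π) - NodeAlg.e π = -(v : NodeAlg B π) * h + G * (P ^ k * NodeAlg.e π) := by
    rw [hh, ← hu, ← hv]
    linear_combination (NodeAlg.e π) * huv
  have hb0 : br π 0 h = -PowerSeries.X := by
    rw [hh, map_sub, ← hu, map_mul, br0_e, zero_mul, br0_t, zero_sub]
  -- the fixed ideal
  have hI : ArLef.fixIdeal σ = Ideal.span {h} ⊔ Ideal.span {P ^ k * NodeAlg.e π} := by
    apply le_antisymm
    · rw [ArLef.fixIdeal, Ideal.span_le]
      rintro _ ⟨x, rfl⟩
      show σ x - x ∈ _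
      refine fix_mem π σ.toRingHom _ ?_ ?_ ?_ ?_ ?_ x
      · intro b
        have := hσB b
        rw [Ideal.mem_span_singleton] at this
        obtain ⟨c, hc⟩ := this
        show σ (algebraMap B _ b) - algebraMap B _ b ∈ _
        rw [hc, map_pow, ← hP, pow_succ, ← hte]
        apply Submodule.mem_sup_right
        rw [Ideal.mem_span_singleton]
        exact ⟨NodeAlg.t π * c, by ring⟩
      · exact Submodule.mem_sup_left (Ideal.mem_span_singleton_self h)
      · show σ (NodeAlg.e π) - NodeAlg.e π ∈ _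
        rw [hσe]
        exact add_mem (Submodule.mem_sup_left (Ideal.mul_mem_left _ _ (Ideal.mem_span_singleton_self h)))
          (Submodule.mem_sup_right (Ideal.mul_mem_left _ _ (Ideal.mem_span_singleton_self _)))
      · show σ (NodeAlg.t π) ∈ _
        rw [← hu]
        exact Ideal.mul_mem_right _ _ (e_mem_mm π)
      · show σ (NodeAlg.e π) ∈ _
        rw [← hv]
        exact Ideal.mul_mem_right _ _ (t_mem_mm π)
    · rw [sup_le_iff, Ideal.span_le, Ideal.span_le]
      have h1 : h ∈ ArLef.fixIdeal σ := Ideal.subset_span ⟨NodeAlg.t π, rfl⟩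
      have h2 : σ (NodeAlg.e π) - NodeAlg.e π ∈ ArLef.fixIdeal σ :=
        Ideal.subset_span ⟨NodeAlg.e π, rfl⟩
      constructor
      · intro x hx
        rw [Set.mem_singleton_iff] at hx
        subst hx
        exact h1
      · intro x hx
        rw [Set.mem_singleton_iff] at hx
        subst hx
        obtain ⟨G', hG'⟩ := hGu.exists_left_inv
        have h3 : P ^ k * NodeAlg.e π =
            G' * ((σ (NodeAlg.e π) - NodeAlg.e π) + (v : NodeAlg B π) * h) := by
          rw [hσe]
          linear_combination (-(P ^ k * NodeAlg.e π)) * hG'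
        rw [h3]
        exact Ideal.mul_mem_left _ _ (add_mem h2 (Ideal.mul_mem_left _ _ h1))
  -- replace `P^k e` by `e^(2k+1)` modulo `h`
  have hPe : P - (u : NodeAlg B π) * NodeAlg.e π ^ 2 ∈ Ideal.span {h} := by
    rw [Ideal.mem_span_singleton]
    refine ⟨-NodeAlg.e π, ?_⟩
    rw [hh, ← hu, ← hte]; ring
  have hPk : P ^ k - ((u : NodeAlg B π) * NodeAlg.e π ^ 2) ^ k ∈ Ideal.span {h} := by
    obtain ⟨c, hc⟩ := sub_dvd_pow_sub_pow P ((u : NodeAlg B π) * NodeAlg.e π ^ 2) k
    rw [hc]
    exact Ideal.mul_mem_right _ _ hPe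
  have hI2 : Ideal.span {h} ⊔ Ideal.span {P ^ k * NodeAlg.e π} =
      Ideal.span {h} ⊔ Ideal.span {NodeAlg.e π ^ (2 * k + 1)} := by
    have key : P ^ k * NodeAlg.e π - (u : NodeAlg B π) ^ k * NodeAlg.e π ^ (2 * k + 1) ∈
        Ideal.span {h} := by
      have : P ^ k * NodeAlg.e π - (u : NodeAlg B π) ^ k * NodeAlg.e π ^ (2 * k + 1) =
          (P ^ k - ((u : NodeAlg B π) * NodeAlg.e π ^ 2) ^ k) * NodeAlg.e π := by
        rw [mul_pow, ← pow_mul, pow_succ]; ring
      rw [this]
      exact Ideal.mul_mem_right _ _ hPk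
    apply le_antisymm
    · rw [sup_le_iff]
      refine ⟨le_sup_left, ?_⟩
      rw [Ideal.span_le]
      intro x hx
      rw [Set.mem_singleton_iff] at hx
      subst hx
      have : P ^ k * NodeAlg.e π = (P ^ k * NodeAlg.e π -
          (u : NodeAlg B π) ^ k * NodeAlg.e π ^ (2 * k + 1)) +
          (u : NodeAlg B π) ^ k * NodeAlg.e π ^ (2 * k + 1) := by ring
      rw [this]
      exact add_mem (Submodule.mem_sup_left key)
        (Submodule.mem_sup_right (Ideal.mul_mem_left _ _ (Ideal.mem_span_singleton_self _)))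
    · rw [sup_le_iff]
      refine ⟨le_sup_left, ?_⟩
      rw [Ideal.span_le]
      intro x hx
      rw [Set.mem_singleton_iff] at hx
      subst hx
      have hinv : ((u⁻¹ : (NodeAlg B π)ˣ) : NodeAlg B π) ^ k * (u : NodeAlg B π) ^ k = 1 := by
        rw [← mul_pow, Units.inv_mul, one_pow]
      have : NodeAlg.e π ^ (2 * k + 1) = ((u⁻¹ : (NodeAlg B π)ˣ) : NodeAlg B π) ^ k *
          (P ^ k * NodeAlg.e π - (P ^ k * NodeAlg.e π -
          (u : NodeAlg B π) ^ k * NodeAlg.e π ^ (2 * k + 1))) := by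
        linear_combination (-(NodeAlg.e π ^ (2 * k + 1))) * hinv
      rw [this]
      refine Ideal.mul_mem_left _ _ (sub_mem ?_ (Submodule.mem_sup_left key))
      exact Submodule.mem_sup_right (Ideal.mem_span_singleton_self _)
  have hreg := e_regular_mod π hπ hb0
  have hmm : Ideal.span {h} ⊔ Ideal.span {NodeAlg.e π} = mm π := by
    apply le_antisymm
    · rw [sup_le_iff, Ideal.span_le, Ideal.span_le]
      constructor
      · intro x hx
        rw [Set.mem_singleton_iff] at hx
        subst hx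
        rw [hh, ← hu]
        exact sub_mem (Ideal.mul_mem_right _ _ (e_mem_mm π)) (t_mem_mm π)
      · intro x hx
        rw [Set.mem_singleton_iff] at hx
        subst hx
        exact e_mem_mm π
    · rw [mm, Ideal.span_le]
      intro x hx
      rcases hx with rfl | hx
      · have : NodeAlg.t π = (u : NodeAlg B π) * NodeAlg.e π - h := by
          rw [hh, ← hu]; ring
        rw [this]
        exact sub_mem (Submodule.mem_sup_right (Ideal.mul_mem_left _ _
          (Ideal.mem_span_singleton_self _)))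
          (Submodule.mem_sup_left (Ideal.mem_span_singleton_self _))
      · rw [Set.mem_singleton_iff] at hx
        subst hx
        exact Submodule.mem_sup_right (Ideal.mem_span_singleton_self _)
  constructor
  · intro g hg
    rcases isUnit_or_mem_mm π (hmax_of_irreducible π hπ) g with hgu | hgm
    · exact hgu
    · exfalso
      rw [hI, hI2, sup_le_iff, Ideal.span_le, Ideal.span_le, Set.singleton_subset_iff,
        Set.singleton_subset_iff] at hg
      obtain ⟨c, hc⟩ := Ideal.mem_span_singleton'.1 hg.1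
      rcases isUnit_or_mem_mm π (hmax_of_irreducible π hπ) c with hcu | hcm
      · -- (g) = (h)
        have hgh : g ∈ Ideal.span {h} := by
          obtain ⟨c', hc'⟩ := hcu.exists_left_inv
          have : g = c' * h := by rw [← hc, ← mul_assoc, hc', one_mul]
          rw [this]
          exact Ideal.mul_mem_left _ _ (Ideal.mem_span_singleton_self h)
        have hle : Ideal.span {g} ≤ Ideal.span {h} := by
          rw [Ideal.span_le, Set.singleton_subset_iff]; exact hgh
        have h1 : ∀ n : ℕ, NodeAlg.e π ^ n ∈ Ideal.span {h} → (1 : NodeAlg B π) ∈ Ideal.span {h} := by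
          intro n
          induction n with
          | zero => intro hn; simpa using hn
          | succ n ih =>
            intro hn
            apply ih
            apply hreg
            rw [← pow_succ']
            exact hn
        have h2 := h1 _ (hle hg.2)
        rw [Ideal.mem_span_singleton] at h2
        have hhu : IsUnit h := isUnit_of_dvd_one h2
        have hhm : h ∈ mm π := by
          rw [hh, ← hu]
          exact sub_mem (Ideal.mul_mem_right _ _ (e_mem_mm π)) (t_mem_mm π)
        exact not_isUnit_of_mem_mm π hπ.not_isUnit hhm hhu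
      · apply not_mem_mm_sq π hπ hb0
        rw [← hc, pow_two]
        exact Ideal.mul_mem_mul hcm hgm
  · rw [hI, hI2, length_sup_span_pow _ _ hreg, hmm, length_quot_mm π hπ, mul_one]
    congr 1

end Groth.Agent.Lib.Helper26.NodeSwap
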