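import Mathlib
import Groth.Prelude.Def_W4c2arithlefschetzNode
import Groth.Agent.Lib.Helper26.NodeAlg2
import Groth.Agent.Lib.Helper26.NodeSwap
import Groth.Agent.Lib.Helper26.NodeFix

/-!
# Automorphisms of the arithmetic double point fixing the branches (helper26)
-/

set_option autoImplicit false
universe u
open ArLef ArLef.NodeAlg

namespace Groth.Agent.Lib.Helper26.NodeFix2

open Groth.Agent.Lib.Helper26.NodeAlg2 Groth.Agent.Lib.Helper26

section general

variable {A : Type u} [CommRing A]

lemma length_sup_span_pow_mul (I : Ideal A) (x w : A) (hx : ∀ z, x * z ∈ I → z ∈ I) (m : ℕ) :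
    Module.length A (A ⧸ (I ⊔ Ideal.span {x ^ m * w})) =
      (m : ℕ∞) * Module.length A (A ⧸ (I ⊔ Ideal.span {x})) +
        Module.length A (A ⧸ (I ⊔ Ideal.span {w})) := by
  induction m with
  | zero => rw [pow_zero, one_mul, Nat.cast_zero, zero_mul, zero_add]
  | succ m ih =>
    rw [pow_succ', mul_assoc, length_sup_span_mul I x (x ^ m * w) hx, ih, Nat.cast_succ, add_mul,
      one_mul]
    abel

lemma span_pair_eq_sup (x y : A) : Ideal.span {x, y} = Ideal.span {x} ⊔ Ideal.span {y} := by
  rw [← Ideal.span_union]; rfl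

lemma span_singleton_unit_mul {u : A} (hu : IsUnit u) (x : A) :
    Ideal.span {u * x} = Ideal.span {x} :=
  Ideal.span_singleton_mul_left_unit hu x

end general

variable {B : Type u} [CommRing B] [IsDomain B] [IsDiscreteValuationRing B]

/-- the variables are regular modulo any element they do not divide -/
lemma var_regular_mod (π : B) (hπ : Irreducible π) {i j : Fin 2} (hij : i ≠ j) {w : NodeAlg B π}
    (hw : ¬ var π j ∣ w) (z : NodeAlg B π) (hz : var π j * z ∈ Ideal.span {w}) :
    z ∈ Ideal.span {w} := by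
  haveI : Fact (Irreducible π) := ⟨hπ⟩
  obtain ⟨y, hy⟩ := Ideal.mem_span_singleton'.1 hz
  have h1 : var π j ∣ y * w := ⟨z, hy⟩
  rcases var_dvd_mul π hij h1 with h2 | h2
  · obtain ⟨y', rfl⟩ := h2
    have : z = y' * w := by
      apply var_mul_cancel π hπ.ne_zero j
      rw [← hy]; ring
    rw [this]
    exact Ideal.mul_mem_left _ _ (Ideal.mem_span_singleton_self w)
  · exact absurd h2 hw

lemma not_e_dvd_t (π : B) (hπ : Irreducible π) : ¬ NodeAlg.e π ∣ NodeAlg.t π := by
  haveI : Fact (Irreducible π) := ⟨hπ⟩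
  intro h
  have := (br_eq_zero_iff π (i := 0) (j := 1) (by decide) (NodeAlg.t π)).2 h
  rw [NodeSwap.br0_t] at this
  exact PowerSeries.X_ne_zero this

lemma not_t_dvd_e (π : B) (hπ : Irreducible π) : ¬ NodeAlg.t π ∣ NodeAlg.e π := by
  haveI : Fact (Irreducible π) := ⟨hπ⟩
  intro h
  have := (br_eq_zero_iff π (i := 1) (j := 0) (by decide) (NodeAlg.e π)).2 h
  rw [NodeSwap.br1_e] at this
  exact PowerSeries.X_ne_zero this

theorem main (π : B) (hπ : Irreducible π)
    (j : ℕ) (hj : 1 ≤ j) (γ : B) (hγ : IsUnit γ)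
    (σ : ArLef.NodeAlg B π ≃+* ArLef.NodeAlg B π)
    (hσB : ∀ b : B, σ (algebraMap B (ArLef.NodeAlg B π) b) - algebraMap B (ArLef.NodeAlg B π) b ∈
      Ideal.span ({algebraMap B (ArLef.NodeAlg B π) (π ^ j)} : Set (ArLef.NodeAlg B π)))
    (hσπ : σ (algebraMap B (ArLef.NodeAlg B π) π) = algebraMap B (ArLef.NodeAlg B π) (π + γ * π ^ j))
    (α β : (ArLef.NodeAlg B π)ˣ)
    (ht : σ (ArLef.NodeAlg.t π) = (α : ArLef.NodeAlg B π) * ArLef.NodeAlg.t π)
    (he : σ (ArLef.NodeAlg.e π) = (β : ArLef.NodeAlg B π) * ArLef.NodeAlg.e π)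
    (htb : ¬ (ArLef.NodeAlg.t π ∣ (β : ArLef.NodeAlg B π) - 1))
    (hea : ¬ (ArLef.NodeAlg.e π ∣ (α : ArLef.NodeAlg B π) - 1)) :
    Module.length (ArLef.NodeAlg B π) (ArLef.NodeAlg B π ⧸ ArLef.fixIdeal σ) =
      (j : ℕ∞) * (Module.length (ArLef.NodeAlg B π) (ArLef.NodeAlg B π ⧸
        Ideal.span ({ArLef.NodeAlg.t π, (β : ArLef.NodeAlg B π) - 1} : Set (ArLef.NodeAlg B π))) +
        Module.length (ArLef.NodeAlg B π) (ArLef.NodeAlg B π ⧸
        Ideal.span ({ArLef.NodeAlg.e π, (α : ArLef.NodeAlg B π) - 1} : Set (ArLef.NodeAlg B π)))) + 1 := by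
  haveI : Fact (Irreducible π) := ⟨hπ⟩
  obtain ⟨k, rfl⟩ : ∃ k, j = k + 1 := ⟨j - 1, by omega⟩
  set P : NodeAlg B π := algebraMap B (NodeAlg B π) π with hP
  set G : NodeAlg B π := algebraMap B (NodeAlg B π) γ with hG
  set T : NodeAlg B π := NodeAlg.t π with hT
  set E : NodeAlg B π := NodeAlg.e π with hE
  have hGu : IsUnit G := hγ.map _
  have hte : T * E = P := NodeAlgLib.t_mul_e π
  have hab : (α : NodeAlg B π) * β = 1 + G * P ^ k := by
    have h1 : σ T * σ E = P + G * P ^ (k + 1) := by
      rw [← map_mul, hte, hσπ, map_add, map_mul, map_pow]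
    rw [ht, he] at h1
    have h2 : P * ((α : NodeAlg B π) * β - (1 + G * P ^ k)) = 0 := by
      rw [pow_succ] at h1
      rw [← hte] at h1 ⊢
      linear_combination h1
    have := NodeAlgLib.smul_eq_zero_imp π hπ.ne_zero _ h2
    exact sub_eq_zero.1 this
  set b : NodeAlg B π := (β : NodeAlg B π) - 1 with hb
  set c : NodeAlg B π := G * P ^ k - b with hc
  have hβa : (β : NodeAlg B π) * ((α : NodeAlg B π) - 1) = c := by
    rw [hc, hb]; linear_combination hab
  have hbc : b + c = G * P ^ k := by rw [hc]; ring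
  have hec : ¬ E ∣ c := by
    intro h
    apply hea
    rw [← hβa] at h
    rcases var_dvd_mul π (i := 0) (j := 1) (by decide) h with h' | h'
    · exfalso
      exact NodeAlg2.not_isUnit_of_mem_mm π hπ.not_isUnit
        (Ideal.mem_span_singleton.2 h' |> fun h'' => by
          obtain ⟨y, hy⟩ := h'
          rw [hy]
          exact Ideal.mul_mem_right _ _ (e_mem_mm π)) β.isUnit
    · exact h'
  -- the fixed ideal
  have hPJ : P ^ (k + 1) ∈ Ideal.span {c * T, b * E} := by
    obtain ⟨G', hG'⟩ := hGu.exists_left_inv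
    have : P ^ (k + 1) = G' * (E * (c * T) + T * (b * E)) := by
      have h1 : E * (c * T) + T * (b * E) = G * P ^ (k + 1) := by
        rw [pow_succ]
        linear_combination (T * E) * hbc + (G * P ^ k) * hte
      rw [h1, ← mul_assoc, hG', one_mul]
    rw [this]
    exact Ideal.mul_mem_left _ _ (add_mem (Ideal.mul_mem_left _ _ (Ideal.subset_span (by simp)))
      (Ideal.mul_mem_left _ _ (Ideal.subset_span (by simp))))
  have hαT : σ T - T = ((β⁻¹ : (NodeAlg B π)ˣ) : NodeAlg B π) * (c * T) := by
    rw [ht, ← hβa, ← mul_assoc, ← mul_assoc, Units.inv_mul, one_mul]; ring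
  have hI : ArLef.fixIdeal σ = Ideal.span {c * T, b * E} := by
    apply le_antisymm
    · rw [ArLef.fixIdeal, Ideal.span_le]
      rintro _ ⟨x, rfl⟩
      show σ x - x ∈ _
      refine fix_mem π σ.toRingHom _ ?_ ?_ ?_ ?_ ?_ x
      · intro b'
        have := hσB b'
        rw [Ideal.mem_span_singleton] at this
        obtain ⟨d, hd⟩ := this
        show σ (algebraMap B _ b') - algebraMap B _ b' ∈ _
        rw [hd, map_pow, ← hP]
        exact Ideal.mul_mem_right _ _ hPJ
      · show σ T - T ∈ _
        rw [hαT]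
        exact Ideal.mul_mem_left _ _ (Ideal.subset_span (by simp))
      · show σ E - E ∈ _
        rw [he]
        have : (β : NodeAlg B π) * E - E = b * E := by rw [hb]; ring
        rw [this]
        exact Ideal.subset_span (by simp)
      · show σ T ∈ _
        rw [ht]
        exact Ideal.mul_mem_left _ _ (t_mem_mm π)
      · show σ E ∈ _
        rw [he]
        exact Ideal.mul_mem_left _ _ (e_mem_mm π)
    · rw [Ideal.span_le]
      intro x hx
      rcases hx with rfl | hx
      · have : c * T = (β : NodeAlg B π) * (σ T - T) := by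
          rw [hαT, ← mul_assoc, Units.mul_inv, one_mul]
        rw [this]
        exact Ideal.mul_mem_left _ _ (Ideal.subset_span ⟨T, rfl⟩)
      · rw [Set.mem_singleton_iff] at hx
        subst hx
        have : b * E = σ E - E := by rw [he, hb]; ring
        rw [this]
        exact Ideal.subset_span ⟨E, rfl⟩
  -- abbreviations for the two branch lengths
  have hs1 : Ideal.span {T, (β : NodeAlg B π) - 1} = Ideal.span {b} ⊔ Ideal.span {T} := by
    rw [span_pair_eq_sup, sup_comm]
  have hs2 : Ideal.span {E, (α : NodeAlg B π) - 1} = Ideal.span {E} ⊔ Ideal.span {c} := by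
    rw [span_pair_eq_sup, ← hβa, span_singleton_unit_mul β.isUnit]
  rw [hI, hs1, hs2]
  set s₁ := Module.length (NodeAlg B π) (NodeAlg B π ⧸ (Ideal.span {b} ⊔ Ideal.span {T})) with hs₁
  set s₂ := Module.length (NodeAlg B π) (NodeAlg B π ⧸ (Ideal.span {E} ⊔ Ideal.span {c})) with hs₂
  -- regularity facts
  have hectT : ¬ E ∣ c * T := by
    intro h
    rcases var_dvd_mul π (i := 0) (j := 1) (by decide) h with h' | h'
    · exact hec h'
    · exact not_e_dvd_t π hπ h'
  have r1 : ∀ z, E * z ∈ Ideal.span {c * T} → z ∈ Ideal.span {c * T} :=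
    var_regular_mod π hπ (i := 0) (j := 1) (by decide) hectT
  have r2 : ∀ z, T * z ∈ Ideal.span {E} → z ∈ Ideal.span {E} :=
    var_regular_mod π hπ (i := 1) (j := 0) (by decide) (not_t_dvd_e π hπ)
  have r3 : ∀ z, T * z ∈ Ideal.span {b} → z ∈ Ideal.span {b} :=
    var_regular_mod π hπ (i := 1) (j := 0) (by decide) htb
  -- step 1: split off `e`
  have step1 : Module.length (NodeAlg B π) (NodeAlg B π ⧸ Ideal.span {c * T, b * E}) =
      Module.length (NodeAlg B π) (NodeAlg B π ⧸ (Ideal.span {c * T} ⊔ Ideal.span {b})) +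
      Module.length (NodeAlg B π) (NodeAlg B π ⧸ (Ideal.span {c * T} ⊔ Ideal.span {E})) := by
    rw [span_pair_eq_sup, mul_comm b E]
    exact length_sup_span_mul _ E b r1
  -- step 2: the second term
  have step2 : Module.length (NodeAlg B π) (NodeAlg B π ⧸ (Ideal.span {c * T} ⊔ Ideal.span {E})) =
      s₂ + 1 := by
    rw [sup_comm, mul_comm c T, length_sup_span_mul _ T c r2]
    have : Ideal.span {E} ⊔ Ideal.span {T} = mm π := by
      rw [sup_comm, ← span_pair_eq_sup]
    rw [this, NodeSwap.length_quot_mm π hπ]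
  -- step 3: the first term
  have hsup3 : Ideal.span {c * T} ⊔ Ideal.span {b} =
      Ideal.span {b} ⊔ Ideal.span {T ^ (k + 1) * E ^ k} := by
    have key : c * T - G * (T ^ (k + 1) * E ^ k) ∈ Ideal.span {b} := by
      rw [Ideal.mem_span_singleton]
      refine ⟨-T, ?_⟩
      rw [hc, ← hte, mul_pow]; ring
    obtain ⟨G', hG'⟩ := hGu.exists_left_inv
    apply le_antisymm
    · rw [sup_le_iff]
      refine ⟨?_, le_sup_left⟩
      rw [Ideal.span_le, Set.singleton_subset_iff]
      have : c * T = (c * T - G * (T ^ (k + 1) * E ^ k)) + G * (T ^ (k + 1) * E ^ k) := by ring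
      rw [this]
      exact add_mem (Submodule.mem_sup_left key)
        (Submodule.mem_sup_right (Ideal.mul_mem_left _ _ (Ideal.mem_span_singleton_self _)))
    · rw [sup_le_iff]
      refine ⟨le_sup_right, ?_⟩
      rw [Ideal.span_le, Set.singleton_subset_iff]
      have : T ^ (k + 1) * E ^ k = G' * (c * T - (c * T - G * (T ^ (k + 1) * E ^ k))) := by
        linear_combination (-(T ^ (k + 1) * E ^ k)) * hG'
      rw [this]
      exact Ideal.mul_mem_left _ _ (sub_mem
        (Submodule.mem_sup_left (Ideal.mem_span_singleton_self _))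
        (Submodule.mem_sup_right key))
  have step3 : Module.length (NodeAlg B π) (NodeAlg B π ⧸ (Ideal.span {c * T} ⊔ Ideal.span {b})) =
      ((k + 1 : ℕ) : ℕ∞) * s₁ + (k : ℕ∞) * s₂ := by
    rw [hsup3, length_sup_span_pow_mul _ T (E ^ k) r3 (k + 1)]
    congr 1
    rcases Nat.eq_zero_or_pos k with hk | hk
    · subst hk
      rw [pow_zero, Ideal.span_singleton_one, sup_top_eq, Nat.cast_zero, zero_mul,
        Module.length_eq_zero_iff]
      infer_instance
    · -- `e ∤ b` since `e ∣ P^k`
      have hEP : E ∣ G * P ^ k := by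
        obtain ⟨k', rfl⟩ : ∃ k', k = k' + 1 := ⟨k - 1, by omega⟩
        rw [pow_succ, ← hte]
        exact ⟨G * (T * E) ^ k' * T, by ring⟩
      have heb : ¬ E ∣ b := by
        intro h
        apply hec
        rw [hc]
        exact dvd_sub hEP h
      have r4 : ∀ z, E * z ∈ Ideal.span {b} → z ∈ Ideal.span {b} :=
        var_regular_mod π hπ (i := 0) (j := 1) (by decide) heb
      rw [length_sup_span_pow _ E r4 k]
      congr 1
      -- (b, e) = (e, c)
      have : Ideal.span {b} ⊔ Ideal.span {E} = Ideal.span {E} ⊔ Ideal.span {c} := by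
        obtain ⟨d, hd⟩ := hEP
        apply le_antisymm
        · rw [sup_le_iff]
          refine ⟨?_, le_sup_left⟩
          rw [Ideal.span_le, Set.singleton_subset_iff]
          have : b = E * d - c := by rw [← hd, hc]; ring
          rw [this]
          exact sub_mem (Submodule.mem_sup_left (Ideal.mul_mem_right _ _
            (Ideal.mem_span_singleton_self _)))
            (Submodule.mem_sup_right (Ideal.mem_span_singleton_self _))
        · rw [sup_le_iff]
          refine ⟨le_sup_right, ?_⟩
          rw [Ideal.span_le, Set.singleton_subset_iff]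
          have : c = E * d - b := by rw [← hd, hc]
          rw [this]
          exact sub_mem (Submodule.mem_sup_right (Ideal.mul_mem_right _ _
            (Ideal.mem_span_singleton_self _)))
            (Submodule.mem_sup_left (Ideal.mem_span_singleton_self _))
      rw [this]
  rw [step1, step2, step3]
  push_cast
  ring

end Groth.Agent.Lib.Helper26.NodeFix2
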