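import Mathlib
import Groth.Prelude.Def_W4c2arithlefschetzNode
import Groth.Agent.Lib.Helper26.NodeAlg2
import Groth.Agent.Lib.Helper26.NodeSwap
import Groth.Agent.Lib.Helper26.NodeFix
import Groth.Agent.Lib.Helper26.NodeFix2

/-!
# Automorphisms of the arithmetic double point fixing the branches: divisorial cases (helper26)
-/

set_option autoImplicit false
universe u
open ArLef ArLef.NodeAlg

namespace Groth.Agent.Lib.Helper26.NodeFix3

open Groth.Agent.Lib.Helper26.NodeAlg2 Groth.Agent.Lib.Helper26 Groth.Agent.Lib.Helper26.NodeFix2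

variable {B : Type u} [CommRing B] [IsDomain B] [IsDiscreteValuationRing B]

/-- The basic length computation: if `b + c = G t^m₁ e^m₂` with `G` a unit, `t ∤ b`, `e ∤ c`, then
`N/(ct, be)` has length `1 + (m₁+1) ℓ(N/(b,t)) + (m₂+1) ℓ(N/(e,c))`. -/
theorem length_ct_be (π : B) (hπ : Irreducible π) (b c G : NodeAlg B π) (hGu : IsUnit G)
    (m₁ m₂ : ℕ) (hbc : b + c = G * (NodeAlg.t π ^ m₁ * NodeAlg.e π ^ m₂))
    (htb : ¬ NodeAlg.t π ∣ b) (hec : ¬ NodeAlg.e π ∣ c) :
    Module.length (NodeAlg B π) (NodeAlg B π ⧸ Ideal.span {c * NodeAlg.t π, b * NodeAlg.e π}) =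
      1 + ((m₁ + 1 : ℕ) : ℕ∞) * Module.length (NodeAlg B π)
          (NodeAlg B π ⧸ (Ideal.span {b} ⊔ Ideal.span {NodeAlg.t π})) +
        ((m₂ + 1 : ℕ) : ℕ∞) * Module.length (NodeAlg B π)
          (NodeAlg B π ⧸ (Ideal.span {NodeAlg.e π} ⊔ Ideal.span {c})) := by
  haveI : Fact (Irreducible π) := ⟨hπ⟩
  set T : NodeAlg B π := NodeAlg.t π with hT
  set E : NodeAlg B π := NodeAlg.e π with hE
  set s₁ := Module.length (NodeAlg B π) (NodeAlg B π ⧸ (Ideal.span {b} ⊔ Ideal.span {T})) with hs₁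
  set s₂ := Module.length (NodeAlg B π) (NodeAlg B π ⧸ (Ideal.span {E} ⊔ Ideal.span {c})) with hs₂
  have hectT : ¬ E ∣ c * T := by
    intro h
    rcases var_dvd_mul π (i := 0) (j := 1) (by decide) h with h' | h'
    · exact hec h'
    · exact not_e_dvd_t π hπ h'
  have r1 : ∀ z, E * z ∈ Ideal.span {c * T} → z ∈ Ideal.span {c * T} :=
    var_regular_mod π hπ (i := 0) (j := 1) (by decide) hectT
  have r2 : ∀ z, T * z ∈ Ideal.span {E} → z ∈ Ideal.span {E} :=
    var_regular_mod π hπ (i := 1) (j := 0) (by decide) (not_t_dvd_e π hπ)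
  have r3 : ∀ z, T * z ∈ Ideal.span {b} → z ∈ Ideal.span {b} :=
    var_regular_mod π hπ (i := 1) (j := 0) (by decide) htb
  have step1 : Module.length (NodeAlg B π) (NodeAlg B π ⧸ Ideal.span {c * T, b * E}) =
      Module.length (NodeAlg B π) (NodeAlg B π ⧸ (Ideal.span {c * T} ⊔ Ideal.span {b})) +
      Module.length (NodeAlg B π) (NodeAlg B π ⧸ (Ideal.span {c * T} ⊔ Ideal.span {E})) := by
    rw [span_pair_eq_sup, mul_comm b E]
    exact length_sup_span_mul _ E b r1
  have step2 : Module.length (NodeAlg B π) (NodeAlg B π ⧸ (Ideal.span {c * T} ⊔ Ideal.span {E})) =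
      s₂ + 1 := by
    rw [sup_comm, mul_comm c T, length_sup_span_mul _ T c r2]
    have : Ideal.span {E} ⊔ Ideal.span {T} = mm π := by
      rw [sup_comm, ← span_pair_eq_sup]
    rw [this, NodeSwap.length_quot_mm π hπ]
  have hsup3 : Ideal.span {c * T} ⊔ Ideal.span {b} =
      Ideal.span {b} ⊔ Ideal.span {T ^ (m₁ + 1) * E ^ m₂} := by
    have key : c * T - G * (T ^ (m₁ + 1) * E ^ m₂) ∈ Ideal.span {b} := by
      rw [Ideal.mem_span_singleton]
      refine ⟨-T, ?_⟩
      have : c = G * (T ^ m₁ * E ^ m₂) - b := by rw [← hbc]; ring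
      rw [this]; ring
    obtain ⟨G', hG'⟩ := hGu.exists_left_inv
    apply le_antisymm
    · rw [sup_le_iff]
      refine ⟨?_, le_sup_left⟩
      rw [Ideal.span_le, Set.singleton_subset_iff]
      have : c * T = (c * T - G * (T ^ (m₁ + 1) * E ^ m₂)) + G * (T ^ (m₁ + 1) * E ^ m₂) := by ring
      rw [this]
      exact add_mem (Submodule.mem_sup_left key)
        (Submodule.mem_sup_right (Ideal.mul_mem_left _ _ (Ideal.mem_span_singleton_self _)))
    · rw [sup_le_iff]
      refine ⟨le_sup_right, ?_⟩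
      rw [Ideal.span_le, Set.singleton_subset_iff]
      have : T ^ (m₁ + 1) * E ^ m₂ = G' * (c * T - (c * T - G * (T ^ (m₁ + 1) * E ^ m₂))) := by
        linear_combination (-(T ^ (m₁ + 1) * E ^ m₂)) * hG'
      rw [this]
      exact Ideal.mul_mem_left _ _ (sub_mem
        (Submodule.mem_sup_left (Ideal.mem_span_singleton_self _))
        (Submodule.mem_sup_right key))
  have step3 : Module.length (NodeAlg B π) (NodeAlg B π ⧸ (Ideal.span {c * T} ⊔ Ideal.span {b})) =
      ((m₁ + 1 : ℕ) : ℕ∞) * s₁ + (m₂ : ℕ∞) * s₂ := by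
    rw [hsup3, length_sup_span_pow_mul _ T (E ^ m₂) r3 (m₁ + 1)]
    congr 1
    rcases Nat.eq_zero_or_pos m₂ with hk | hk
    · subst hk
      rw [pow_zero, Ideal.span_singleton_one, sup_top_eq, Nat.cast_zero, zero_mul,
        Module.length_eq_zero_iff]
      infer_instance
    · have hEP : E ∣ G * (T ^ m₁ * E ^ m₂) := by
        obtain ⟨k', rfl⟩ : ∃ k', m₂ = k' + 1 := ⟨m₂ - 1, by omega⟩
        exact ⟨G * T ^ m₁ * E ^ k', by rw [pow_succ]; ring⟩
      have heb : ¬ E ∣ b := by
        intro h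
        apply hec
        have : c = G * (T ^ m₁ * E ^ m₂) - b := by rw [← hbc]; ring
        rw [this]
        exact dvd_sub hEP h
      have r4 : ∀ z, E * z ∈ Ideal.span {b} → z ∈ Ideal.span {b} :=
        var_regular_mod π hπ (i := 0) (j := 1) (by decide) heb
      rw [length_sup_span_pow _ E r4 m₂]
      congr 1
      have : Ideal.span {b} ⊔ Ideal.span {E} = Ideal.span {E} ⊔ Ideal.span {c} := by
        obtain ⟨d, hd⟩ := hEP
        apply le_antisymm
        · rw [sup_le_iff]
          refine ⟨?_, le_sup_left⟩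
          rw [Ideal.span_le, Set.singleton_subset_iff]
          have : b = E * d - c := by rw [← hd, ← hbc]; ring
          rw [this]
          exact sub_mem (Submodule.mem_sup_left (Ideal.mul_mem_right _ _
            (Ideal.mem_span_singleton_self _)))
            (Submodule.mem_sup_right (Ideal.mem_span_singleton_self _))
        · rw [sup_le_iff]
          refine ⟨le_sup_right, ?_⟩
          rw [Ideal.span_le, Set.singleton_subset_iff]
          have : c = E * d - b := by rw [← hd, ← hbc]; ring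
          rw [this]
          exact sub_mem (Submodule.mem_sup_right (Ideal.mul_mem_right _ _
            (Ideal.mem_span_singleton_self _)))
            (Submodule.mem_sup_left (Ideal.mem_span_singleton_self _))
      rw [this]
  rw [step1, step2, step3]
  push_cast
  ring

/-- `αβ = 1 + γ π^(j-1)` -/
lemma alpha_mul_beta (π : B) (hπ : Irreducible π) (k : ℕ) (γ : B)
    (σ : NodeAlg B π ≃+* NodeAlg B π)
    (hσπ : σ (algebraMap B (NodeAlg B π) π) = algebraMap B (NodeAlg B π) (π + γ * π ^ (k + 1)))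
    (α β : NodeAlg B π) (ht : σ (NodeAlg.t π) = α * NodeAlg.t π)
    (he : σ (NodeAlg.e π) = β * NodeAlg.e π) :
    α * β = 1 + algebraMap B (NodeAlg B π) γ * (NodeAlg.t π * NodeAlg.e π) ^ k := by
  have hte : NodeAlg.t π * NodeAlg.e π = algebraMap B (NodeAlg B π) π := NodeAlgLib.t_mul_e π
  have h1 : σ (NodeAlg.t π) * σ (NodeAlg.e π) = algebraMap B (NodeAlg B π) π +
      algebraMap B (NodeAlg B π) γ * algebraMap B (NodeAlg B π) π ^ (k + 1) := by
    rw [← map_mul, hte, hσπ, map_add, map_mul, map_pow]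
  rw [ht, he] at h1
  have h2 : algebraMap B (NodeAlg B π) π * (α * β - (1 + algebraMap B (NodeAlg B π) γ *
      (NodeAlg.t π * NodeAlg.e π) ^ k)) = 0 := by
    rw [pow_succ] at h1
    rw [hte]
    rw [← hte] at h1
    rw [hte] at h1
    have hte' := hte
    linear_combination h1 + (-(α * β)) * hte'
  have := NodeAlgLib.smul_eq_zero_imp π hπ.ne_zero _ h2
  exact sub_eq_zero.1 this

/-- the fixed ideal of a ring automorphism fixing the branches -/
lemma fixIdeal_eq (π : B) (hπ : Irreducible π) (j : ℕ) (γ : B) (hγ : IsUnit γ)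
    (σ : NodeAlg B π ≃+* NodeAlg B π)
    (hσB : ∀ c : B, σ (algebraMap B (NodeAlg B π) c) - algebraMap B (NodeAlg B π) c ∈
      Ideal.span ({algebraMap B (NodeAlg B π) (π ^ j)} : Set (NodeAlg B π)))
    (hσπ : σ (algebraMap B (NodeAlg B π) π) = algebraMap B (NodeAlg B π) (π + γ * π ^ j))
    (α β : NodeAlg B π) (ht : σ (NodeAlg.t π) = α * NodeAlg.t π)
    (he : σ (NodeAlg.e π) = β * NodeAlg.e π) :
    ArLef.fixIdeal σ = Ideal.span {(NodeAlg.t π * NodeAlg.e π) ^ j} ⊔
      Ideal.span {(α - 1) * NodeAlg.t π, (β - 1) * NodeAlg.e π} := by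
  have hte : NodeAlg.t π * NodeAlg.e π = algebraMap B (NodeAlg B π) π := NodeAlgLib.t_mul_e π
  apply le_antisymm
  · rw [ArLef.fixIdeal, Ideal.span_le]
    rintro _ ⟨x, rfl⟩
    show σ x - x ∈ _
    refine fix_mem π σ.toRingHom _ ?_ ?_ ?_ ?_ ?_ x
    · intro b'
      have := hσB b'
      rw [Ideal.mem_span_singleton] at this
      obtain ⟨d, hd⟩ := this
      show σ (algebraMap B _ b') - algebraMap B _ b' ∈ _
      rw [hd, map_pow, ← hte]
      exact Submodule.mem_sup_left (Ideal.mul_mem_right _ _ (Ideal.mem_span_singleton_self _))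
    · show σ (NodeAlg.t π) - NodeAlg.t π ∈ _
      rw [ht]
      have : α * NodeAlg.t π - NodeAlg.t π = (α - 1) * NodeAlg.t π := by ring
      rw [this]
      exact Submodule.mem_sup_right (Ideal.subset_span (Set.mem_insert _ _))
    · show σ (NodeAlg.e π) - NodeAlg.e π ∈ _
      rw [he]
      have : β * NodeAlg.e π - NodeAlg.e π = (β - 1) * NodeAlg.e π := by ring
      rw [this]
      exact Submodule.mem_sup_right (Ideal.subset_span (Set.mem_insert_of_mem _ rfl))
    · show σ (NodeAlg.t π) ∈ _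
      rw [ht]
      exact Ideal.mul_mem_left _ _ (t_mem_mm π)
    · show σ (NodeAlg.e π) ∈ _
      rw [he]
      exact Ideal.mul_mem_left _ _ (e_mem_mm π)
  · rw [sup_le_iff, Ideal.span_le, Ideal.span_le]
    constructor
    · rw [Set.singleton_subset_iff]
      have h1 : σ (algebraMap B (NodeAlg B π) π) - algebraMap B (NodeAlg B π) π ∈ ArLef.fixIdeal σ :=
        Ideal.subset_span ⟨_, rfl⟩
      rw [hσπ, map_add, add_sub_cancel_left, map_mul, map_pow] at h1
      obtain ⟨G', hG'⟩ := (hγ.map (algebraMap B (NodeAlg B π))).exists_left_inv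
      have h2 := Ideal.mul_mem_left _ G' h1
      rw [← mul_assoc, hG', one_mul, ← hte] at h2
      exact h2
    · intro x hx
      rcases hx with rfl | hx
      · have : (α - 1) * NodeAlg.t π = σ (NodeAlg.t π) - NodeAlg.t π := by rw [ht]; ring
        rw [this]
        exact Ideal.subset_span ⟨_, rfl⟩
      · rw [Set.mem_singleton_iff] at hx
        subst hx
        have : (β - 1) * NodeAlg.e π = σ (NodeAlg.e π) - NodeAlg.e π := by rw [he]; ring
        rw [this]
        exact Ideal.subset_span ⟨_, rfl⟩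

lemma pow_mul_pow_cancel (π : B) (hπ : Irreducible π) (n₁ n₂ : ℕ) {x y : NodeAlg B π}
    (h : NodeAlg.t π ^ n₁ * NodeAlg.e π ^ n₂ * x = NodeAlg.t π ^ n₁ * NodeAlg.e π ^ n₂ * y) :
    x = y := by
  induction n₁ with
  | zero =>
    induction n₂ with
    | zero => simpa using h
    | succ n ih =>
      apply ih
      apply var_mul_cancel π hπ.ne_zero 1
      show NodeAlg.e π * _ = NodeAlg.e π * _
      rw [pow_zero, one_mul] at h ⊢
      rw [pow_succ] at h
      linear_combination h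
  | succ n ih =>
    apply ih
    apply var_mul_cancel π hπ.ne_zero 0
    show NodeAlg.t π * _ = NodeAlg.t π * _
    rw [pow_succ] at h
    linear_combination h

lemma not_var_dvd_unit_mul (π : B) (hπ : Irreducible π) {i j : Fin 2} (hij : i ≠ j)
    {u x : NodeAlg B π} (hu : IsUnit u) (hx : ¬ var π j ∣ x) : ¬ var π j ∣ u * x := by
  haveI : Fact (Irreducible π) := ⟨hπ⟩
  intro h
  rcases var_dvd_mul π hij h with h' | h'
  · have hm : var π j ∈ mm π := by
      fin_cases j
      · exact t_mem_mm π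
      · exact e_mem_mm π
    exact not_isUnit_of_mem_mm π hπ.not_isUnit hm (isUnit_of_dvd_unit h' hu)
  · exact hx h'

/-- S19596 -/
theorem main596 (π : B) (hπ : Irreducible π)
    (j i₁ i₂ : ℕ) (h12 : i₁ ≤ i₂) (h2 : 0 < i₂) (h2j : i₂ < j) (γ : B) (hγ : IsUnit γ)
    (σ : ArLef.NodeAlg B π ≃+* ArLef.NodeAlg B π)
    (hσB : ∀ c : B, σ (algebraMap B (ArLef.NodeAlg B π) c) - algebraMap B (ArLef.NodeAlg B π) c ∈
      Ideal.span ({algebraMap B (ArLef.NodeAlg B π) (π ^ j)} : Set (ArLef.NodeAlg B π)))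
    (hσπ : σ (algebraMap B (ArLef.NodeAlg B π) π) = algebraMap B (ArLef.NodeAlg B π) (π + γ * π ^ j))
    (α β : (ArLef.NodeAlg B π)ˣ)
    (ht : σ (ArLef.NodeAlg.t π) = (α : ArLef.NodeAlg B π) * ArLef.NodeAlg.t π)
    (he : σ (ArLef.NodeAlg.e π) = (β : ArLef.NodeAlg B π) * ArLef.NodeAlg.e π)
    (a b : ArLef.NodeAlg B π)
    (ha : (α : ArLef.NodeAlg B π) - 1 = ArLef.NodeAlg.t π ^ i₁ * ArLef.NodeAlg.e π ^ i₂ * a)
    (hb : (β : ArLef.NodeAlg B π) - 1 = ArLef.NodeAlg.t π ^ i₁ * ArLef.NodeAlg.e π ^ i₂ * b)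
    (hea : ¬ (ArLef.NodeAlg.e π ∣ a)) (htb : ¬ (ArLef.NodeAlg.t π ∣ b)) :
    Module.length (ArLef.NodeAlg B π) (ArLef.NodeAlg B π ⧸ (ArLef.fixIdeal σ).colon
        ({ArLef.NodeAlg.t π ^ i₁ * ArLef.NodeAlg.e π ^ i₂} : Set (ArLef.NodeAlg B π))) =
      1 + ((j - i₁ : ℕ) : ℕ∞) * Module.length (ArLef.NodeAlg B π) (ArLef.NodeAlg B π ⧸
          Ideal.span ({ArLef.NodeAlg.t π, b} : Set (ArLef.NodeAlg B π))) +
        ((j - i₂ : ℕ) : ℕ∞) * Module.length (ArLef.NodeAlg B π) (ArLef.NodeAlg B π ⧸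
          Ideal.span ({ArLef.NodeAlg.e π, a} : Set (ArLef.NodeAlg B π))) := by
  haveI : Fact (Irreducible π) := ⟨hπ⟩
  obtain ⟨k, rfl⟩ : ∃ k, j = k + 1 := ⟨j - 1, by omega⟩
  obtain ⟨m₁, hm₁⟩ : ∃ m₁, k = i₁ + m₁ := ⟨k - i₁, by omega⟩
  obtain ⟨m₂, hm₂⟩ : ∃ m₂, k = i₂ + m₂ := ⟨k - i₂, by omega⟩
  have hab := alpha_mul_beta π hπ k γ σ hσπ α β ht he
  set T : NodeAlg B π := NodeAlg.t π with hT
  set E : NodeAlg B π := NodeAlg.e π with hE
  set G : NodeAlg B π := algebraMap B (NodeAlg B π) γ with hG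
  have hGu : IsUnit G := hγ.map _
  set D : NodeAlg B π := T ^ i₁ * E ^ i₂ with hD
  set Q : NodeAlg B π := T ^ m₁ * E ^ m₂ with hQ
  have hTk : T ^ k = T ^ i₁ * T ^ m₁ := by rw [← pow_add, ← hm₁]
  have hEk : E ^ k = E ^ i₂ * E ^ m₂ := by rw [← pow_add, ← hm₂]
  have hTEk : (T * E) ^ k = D * Q := by
    rw [hD, hQ, mul_pow, hTk, hEk]; ring
  have hα : (α : NodeAlg B π) = 1 + D * a := by rw [← ha]; ring
  have hβ : (β : NodeAlg B π) = 1 + D * b := by rw [← hb]; ring
  set c : NodeAlg B π := (β : NodeAlg B π) * a with hc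
  have hbc : b + c = G * Q := by
    apply pow_mul_pow_cancel π hπ i₁ i₂
    show D * (b + c) = D * (G * Q)
    rw [hc, hβ]
    rw [hα, hβ, hTEk] at hab
    linear_combination hab
  have hec : ¬ E ∣ c := not_var_dvd_unit_mul π hπ (i := 0) (j := 1) (by decide) β.isUnit hea
  have hfix := fixIdeal_eq π hπ (k + 1) γ hγ σ hσB hσπ α β ht he
  have hcolon : (ArLef.fixIdeal σ).colon ({D} : Set (NodeAlg B π)) = Ideal.span {c * T, b * E} := by
    obtain ⟨G', hG'⟩ := hGu.exists_left_inv
    have hQTE : Q * (T * E) = G' * (E * (c * T) + T * (b * E)) := by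
      have : E * (c * T) + T * (b * E) = G * Q * (T * E) := by rw [← hbc]; ring
      rw [this]
      linear_combination (-(Q * (T * E))) * hG'
    have haT : a * T = ((β⁻¹ : (NodeAlg B π)ˣ) : NodeAlg B π) * (c * T) := by
      rw [hc, ← mul_assoc, ← mul_assoc, Units.inv_mul, one_mul]
    ext x
    rw [Submodule.mem_colon_singleton, hfix, smul_eq_mul]
    constructor
    · intro hx
      obtain ⟨y, hy, z, hz, hyz⟩ := Submodule.mem_sup.1 hx
      obtain ⟨r, rfl⟩ := Ideal.mem_span_singleton'.1 hy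
      obtain ⟨s, u, rfl⟩ := Ideal.mem_span_pair.1 hz
      have h1 : x = r * (Q * (T * E)) + s * (a * T) + u * (b * E) := by
        apply pow_mul_pow_cancel π hπ i₁ i₂
        show D * x = D * _
        rw [pow_succ, hTEk, ha, hb] at hyz
        linear_combination -hyz
      rw [h1, hQTE, haT]
      refine add_mem (add_mem ?_ ?_) ?_
      · exact Ideal.mul_mem_left _ _ (Ideal.mul_mem_left _ _ (add_mem
          (Ideal.mul_mem_left _ _ (Ideal.subset_span (Set.mem_insert _ _)))
          (Ideal.mul_mem_left _ _ (Ideal.subset_span (Set.mem_insert_of_mem _ rfl)))))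
      · exact Ideal.mul_mem_left _ _ (Ideal.mul_mem_left _ _
          (Ideal.subset_span (Set.mem_insert _ _)))
      · exact Ideal.mul_mem_left _ _ (Ideal.subset_span (Set.mem_insert_of_mem _ rfl))
    · intro hx
      obtain ⟨r, s, rfl⟩ := Ideal.mem_span_pair.1 hx
      apply Submodule.mem_sup_right
      rw [Ideal.mem_span_pair]
      refine ⟨r * β, s, ?_⟩
      rw [ha, hb, hc]; ring
  rw [hcolon, length_ct_be π hπ b c G hGu m₁ m₂ hbc htb hec]
  have e1 : Ideal.span {T, b} = Ideal.span {b} ⊔ Ideal.span {T} := by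
    rw [span_pair_eq_sup, sup_comm]
  have e2 : Ideal.span {E, a} = Ideal.span {E} ⊔ Ideal.span {c} := by
    rw [span_pair_eq_sup, hc, span_singleton_unit_mul β.isUnit]
  rw [e1, e2]
  have n1 : k + 1 - i₁ = m₁ + 1 := by omega
  have n2 : k + 1 - i₂ = m₂ + 1 := by omega
  rw [n1, n2]

/-- S19597 -/
theorem main597 (π : B) (hπ : Irreducible π)
    (j i₁ : ℕ) (h1 : i₁ < j) (γ : B) (hγ : IsUnit γ)
    (σ : ArLef.NodeAlg B π ≃+* ArLef.NodeAlg B π)
    (hσB : ∀ c : B, σ (algebraMap B (ArLef.NodeAlg B π) c) - algebraMap B (ArLef.NodeAlg B π) c ∈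
      Ideal.span ({algebraMap B (ArLef.NodeAlg B π) (π ^ j)} : Set (ArLef.NodeAlg B π)))
    (hσπ : σ (algebraMap B (ArLef.NodeAlg B π) π) = algebraMap B (ArLef.NodeAlg B π) (π + γ * π ^ j))
    (α β : (ArLef.NodeAlg B π)ˣ)
    (ht : σ (ArLef.NodeAlg.t π) = (α : ArLef.NodeAlg B π) * ArLef.NodeAlg.t π)
    (he : σ (ArLef.NodeAlg.e π) = (β : ArLef.NodeAlg B π) * ArLef.NodeAlg.e π)
    (a b : ArLef.NodeAlg B π)
    (ha : (α : ArLef.NodeAlg B π) - 1 = ArLef.NodeAlg.t π ^ i₁ * ArLef.NodeAlg.e π ^ j * a)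
    (hb : (β : ArLef.NodeAlg B π) - 1 = ArLef.NodeAlg.t π ^ i₁ * ArLef.NodeAlg.e π ^ (j - 1) * b)
    (htb : ¬ (ArLef.NodeAlg.t π ∣ b)) :
    Module.length (ArLef.NodeAlg B π) (ArLef.NodeAlg B π ⧸ (ArLef.fixIdeal σ).colon
        ({ArLef.NodeAlg.t π ^ i₁ * ArLef.NodeAlg.e π ^ j} : Set (ArLef.NodeAlg B π))) +
        ((j - 1 - i₁ : ℕ) : ℕ∞) =
      ((j - i₁ : ℕ) : ℕ∞) * Module.length (ArLef.NodeAlg B π) (ArLef.NodeAlg B π ⧸
        Ideal.span ({ArLef.NodeAlg.t π, b} : Set (ArLef.NodeAlg B π))) := by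
  haveI : Fact (Irreducible π) := ⟨hπ⟩
  obtain ⟨k, rfl⟩ : ∃ k, j = k + 1 := ⟨j - 1, by omega⟩
  obtain ⟨m, hm⟩ : ∃ m, k = i₁ + m := ⟨k - i₁, by omega⟩
  have hab := alpha_mul_beta π hπ k γ σ hσπ α β ht he
  rw [Nat.add_sub_cancel] at hb
  set T : NodeAlg B π := NodeAlg.t π with hT
  set E : NodeAlg B π := NodeAlg.e π with hE
  set G : NodeAlg B π := algebraMap B (NodeAlg B π) γ with hG
  have hGu : IsUnit G := hγ.map _
  obtain ⟨G', hG'⟩ := hGu.exists_left_inv
  set D' : NodeAlg B π := T ^ i₁ * E ^ k with hD'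
  have hD : T ^ i₁ * E ^ (k + 1) = D' * E := by rw [hD', pow_succ]; ring
  have hTk : T ^ k = T ^ i₁ * T ^ m := by rw [← pow_add, ← hm]
  have hTEk : (T * E) ^ k = D' * T ^ m := by
    rw [hD', mul_pow, hTk]; ring
  have hα : (α : NodeAlg B π) = 1 + D' * E * a := by rw [← hD, ← ha]; ring
  have hβ : (β : NodeAlg B π) = 1 + D' * b := by rw [← hb]; ring
  -- b + β e a = G t^m
  have hrel : b + (β : NodeAlg B π) * E * a = G * T ^ m := by
    apply pow_mul_pow_cancel π hπ i₁ k
    show D' * _ = D' * _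
    rw [hα, hβ, hTEk] at hab
    rw [hβ]
    linear_combination hab
  have hfix := fixIdeal_eq π hπ (k + 1) γ hγ σ hσB hσπ α β ht he
  have hcolon : (ArLef.fixIdeal σ).colon ({T ^ i₁ * E ^ (k + 1)} : Set (NodeAlg B π)) =
      Ideal.span {b} ⊔ Ideal.span {T * a} := by
    have hTm : T ^ (m + 1) = G' * (T * b + (β : NodeAlg B π) * E * (T * a)) := by
      have : T * b + (β : NodeAlg B π) * E * (T * a) = G * T ^ (m + 1) := by
        rw [pow_succ]; linear_combination T * hrel
      rw [this]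
      linear_combination (-(T ^ (m + 1))) * hG'
    ext x
    rw [Submodule.mem_colon_singleton, hfix, smul_eq_mul, hD]
    constructor
    · intro hx
      obtain ⟨y, hy, z, hz, hyz⟩ := Submodule.mem_sup.1 hx
      obtain ⟨r, rfl⟩ := Ideal.mem_span_singleton'.1 hy
      obtain ⟨s, u, rfl⟩ := Ideal.mem_span_pair.1 hz
      have h1 : x = r * T ^ (m + 1) + s * (T * a) + u * b := by
        apply pow_mul_pow_cancel π hπ i₁ (k + 1)
        rw [hD]
        have hpow : (T * E) ^ (k + 1) = D' * E * T ^ (m + 1) := by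
          rw [pow_succ, hTEk, pow_succ]; ring
        rw [hpow, ha, hb, hD] at hyz
        linear_combination -hyz
      rw [h1, hTm]
      refine add_mem (add_mem ?_ ?_) ?_
      · exact Ideal.mul_mem_left _ _ (Ideal.mul_mem_left _ _ (add_mem
          (Submodule.mem_sup_left (Ideal.mul_mem_left _ _ (Ideal.mem_span_singleton_self _)))
          (Submodule.mem_sup_right (Ideal.mul_mem_left _ _ (Ideal.mem_span_singleton_self _)))))
      · exact Submodule.mem_sup_right (Ideal.mul_mem_left _ _ (Ideal.mem_span_singleton_self _))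
      · exact Submodule.mem_sup_left (Ideal.mul_mem_left _ _ (Ideal.mem_span_singleton_self _))
    · intro hx
      obtain ⟨y, hy, z, hz, rfl⟩ := Submodule.mem_sup.1 hx
      obtain ⟨r, rfl⟩ := Ideal.mem_span_singleton'.1 hy
      obtain ⟨s, rfl⟩ := Ideal.mem_span_singleton'.1 hz
      apply Submodule.mem_sup_right
      rw [Ideal.mem_span_pair]
      refine ⟨s, r, ?_⟩
      rw [ha, hb, hD]; ring
  have r3 : ∀ z, T * z ∈ Ideal.span {b} → z ∈ Ideal.span {b} :=
    var_regular_mod π hπ (i := 1) (j := 0) (by decide) htb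
  rw [hcolon, length_sup_span_mul _ T a r3]
  have e1 : Ideal.span {T, b} = Ideal.span {b} ⊔ Ideal.span {T} := by
    rw [span_pair_eq_sup, sup_comm]
  rw [e1]
  set s := Module.length (NodeAlg B π) (NodeAlg B π ⧸ (Ideal.span {b} ⊔ Ideal.span {T})) with hs
  have n1 : k + 1 - 1 - i₁ = m := by omega
  have n2 : k + 1 - i₁ = m + 1 := by omega
  rw [n1, n2]
  rcases Nat.eq_zero_or_pos m with hm0 | hm0
  · subst hm0
    have htop : Ideal.span {b} ⊔ Ideal.span {a} = ⊤ := by
      rw [Ideal.eq_top_iff_one]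
      have : (1 : NodeAlg B π) = G' * (b + (β : NodeAlg B π) * E * a) := by
        rw [hrel, pow_zero, mul_one, hG']
      rw [this]
      exact Ideal.mul_mem_left _ _ (add_mem
        (Submodule.mem_sup_left (Ideal.mem_span_singleton_self _))
        (Submodule.mem_sup_right (Ideal.mul_mem_left _ _ (Ideal.mem_span_singleton_self _))))
    have : Module.length (NodeAlg B π) (NodeAlg B π ⧸ (Ideal.span {b} ⊔ Ideal.span {a})) = 0 := by
      rw [htop, Module.length_eq_zero_iff]
      infer_instance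
    rw [this]
    simp
  · -- `t ∤ a`
    have hTm : T ∣ G * T ^ m := by
      obtain ⟨m', rfl⟩ : ∃ m', m = m' + 1 := ⟨m - 1, by omega⟩
      exact ⟨G * T ^ m', by rw [pow_succ]; ring⟩
    have hta : ¬ T ∣ a := by
      intro h
      apply htb
      have : b = G * T ^ m - (β : NodeAlg B π) * E * a := by rw [← hrel]; ring
      rw [this]
      exact dvd_sub hTm (Dvd.dvd.mul_left h _)
    have ra : ∀ z, T * z ∈ Ideal.span {a} → z ∈ Ideal.span {a} :=
      var_regular_mod π hπ (i := 1) (j := 0) (by decide) hta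
    have rE : ∀ z, E * z ∈ Ideal.span {T} → z ∈ Ideal.span {T} :=
      var_regular_mod π hπ (i := 0) (j := 1) (by decide) (not_e_dvd_t π hπ)
    have hsup1 : Ideal.span {b} ⊔ Ideal.span {a} = Ideal.span {a} ⊔ Ideal.span {T ^ m} := by
      apply le_antisymm
      · rw [sup_le_iff]
        refine ⟨?_, le_sup_left⟩
        rw [Ideal.span_le, Set.singleton_subset_iff]
        have : b = G * T ^ m - (β : NodeAlg B π) * E * a := by rw [← hrel]; ring
        rw [this]
        exact sub_mem (Submodule.mem_sup_right (Ideal.mul_mem_left _ _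
          (Ideal.mem_span_singleton_self _)))
          (Submodule.mem_sup_left (Ideal.mul_mem_left _ _ (Ideal.mem_span_singleton_self _)))
      · rw [sup_le_iff]
        refine ⟨le_sup_right, ?_⟩
        rw [Ideal.span_le, Set.singleton_subset_iff]
        have : T ^ m = G' * (b + (β : NodeAlg B π) * E * a) := by
          rw [hrel]
          linear_combination (-(T ^ m)) * hG'
        rw [this]
        exact Ideal.mul_mem_left _ _ (add_mem
          (Submodule.mem_sup_left (Ideal.mem_span_singleton_self _))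
          (Submodule.mem_sup_right (Ideal.mul_mem_left _ _ (Ideal.mem_span_singleton_self _))))
    have hsup2 : Ideal.span {b} ⊔ Ideal.span {T} = Ideal.span {T} ⊔ Ideal.span {E * a} := by
      obtain ⟨d, hd⟩ := hTm
      obtain ⟨β', hβ'⟩ := β.isUnit.exists_left_inv
      apply le_antisymm
      · rw [sup_le_iff]
        refine ⟨?_, le_sup_left⟩
        rw [Ideal.span_le, Set.singleton_subset_iff]
        have : b = T * d - (β : NodeAlg B π) * (E * a) := by rw [← hd, ← hrel]; ring
        rw [this]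
        exact sub_mem (Submodule.mem_sup_left (Ideal.mul_mem_right _ _
          (Ideal.mem_span_singleton_self _)))
          (Submodule.mem_sup_right (Ideal.mul_mem_left _ _ (Ideal.mem_span_singleton_self _)))
      · rw [sup_le_iff]
        refine ⟨le_sup_right, ?_⟩
        rw [Ideal.span_le, Set.singleton_subset_iff]
        have : E * a = β' * (T * d - b) := by
          rw [← hd, ← hrel]
          linear_combination (-(E * a)) * hβ'
        rw [this]
        exact Ideal.mul_mem_left _ _ (sub_mem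
          (Submodule.mem_sup_right (Ideal.mul_mem_right _ _ (Ideal.mem_span_singleton_self _)))
          (Submodule.mem_sup_left (Ideal.mem_span_singleton_self _)))
    have hs' : s = Module.length (NodeAlg B π) (NodeAlg B π ⧸ (Ideal.span {a} ⊔ Ideal.span {T})) + 1 := by
      rw [hs, hsup2, length_sup_span_mul _ E a rE]
      have : Ideal.span {T} ⊔ Ideal.span {E} = mm π := by
        rw [← span_pair_eq_sup]
      rw [this, NodeSwap.length_quot_mm π hπ, sup_comm]
    rw [hsup1, length_sup_span_pow _ T ra m, hs']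
    push_cast
    ring

end Groth.Agent.Lib.Helper26.NodeFix3
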