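import Mathlib
import Groth.Prelude.Def_W4c2arithlefschetzNode
import Groth.Agent.Lib.Helper26.NodeAlg2
import Groth.Agent.Lib.Helper26.NodeSwap
import Groth.Agent.Lib.Helper26.NodeFix
import Groth.Agent.Lib.Helper26.NodeFix2

/-!
# Automorphisms of the arithmetic double point: stabilizing or switching the branches (helper26)
-/

set_option autoImplicit false
universe u
open ArLef ArLef.NodeAlg

namespace Groth.Agent.Lib.Helper26.NodeStab

open Groth.Agent.Lib.Helper26.NodeAlg2 Groth.Agent.Lib.Helper26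

variable {B : Type u} [CommRing B] [IsDomain B] [IsDiscreteValuationRing B]

/-- S15317 -/
theorem main_stab (π : B) (hπ : Irreducible π)
    (σ : ArLef.NodeAlg B π ≃ₐ[B] ArLef.NodeAlg B π) (hσ : σ ≠ AlgEquiv.refl)
    (ht : Associated (σ (ArLef.NodeAlg.t π)) (ArLef.NodeAlg.t π))
    (he : Associated (σ (ArLef.NodeAlg.e π)) (ArLef.NodeAlg.e π)) :
    ∃ g : ArLef.NodeAlg B π, g ≠ 0 ∧
      ArLef.fixIdeal σ = Ideal.span {g} *
        Ideal.span ({ArLef.NodeAlg.t π, ArLef.NodeAlg.e π} : Set (ArLef.NodeAlg B π)) := by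
  obtain ⟨u, hu⟩ := ht.symm
  obtain ⟨v, hv⟩ := he.symm
  set T : NodeAlg B π := NodeAlg.t π with hT
  set E : NodeAlg B π := NodeAlg.e π with hE
  have hte : T * E = algebraMap B (NodeAlg B π) π := NodeAlgLib.t_mul_e π
  have huv : (u : NodeAlg B π) * v = 1 := by
    have h1 : σ T * σ E = algebraMap B (NodeAlg B π) π := by
      rw [← map_mul, hte, AlgEquiv.commutes]
    rw [← hu, ← hv] at h1
    have h2 : algebraMap B (NodeAlg B π) π * ((u : NodeAlg B π) * v - 1) = 0 := by
      rw [← hte] at h1 ⊢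
      linear_combination h1
    have := NodeAlgLib.smul_eq_zero_imp π hπ.ne_zero _ h2
    exact sub_eq_zero.1 this
  set g : NodeAlg B π := (u : NodeAlg B π) - 1 with hg
  have hσt : σ T - T = g * T := by rw [← hu, hg]; ring
  have hσe : σ E - E = g * (-(v : NodeAlg B π) * E) := by
    rw [← hv, hg]
    linear_combination (E) * huv
  have hge : g * E = -(u : NodeAlg B π) * (σ E - E) := by
    rw [← hv, hg]
    linear_combination (E) * huv
  have hprod : Ideal.span {g} * Ideal.span ({T, E} : Set (NodeAlg B π)) =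
      Ideal.span {g * T, g * E} := by
    rw [Ideal.span_mul_span', Set.singleton_mul, Set.image_pair]
  refine ⟨g, ?_, ?_⟩
  · intro hg0
    apply hσ
    have hu1 : (u : NodeAlg B π) = 1 := by rw [hg] at hg0; exact sub_eq_zero.1 hg0
    have hv1 : (v : NodeAlg B π) = 1 := by rw [hu1, one_mul] at huv; exact huv
    ext x
    have := fix_mem π (σ : NodeAlg B π ≃ₐ[B] NodeAlg B π).toRingEquiv.toRingHom ⊥ ?_ ?_ ?_ ?_ ?_ x
    · exact sub_eq_zero.1 ((Submodule.mem_bot _).1 this)
    · intro b
      show σ (algebraMap B _ b) - algebraMap B _ b ∈ _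
      rw [AlgEquiv.commutes, sub_self]
      exact zero_mem _
    · show σ T - T ∈ _
      rw [← hu, hu1, mul_one, sub_self]
      exact zero_mem _
    · show σ E - E ∈ _
      rw [← hv, hv1, mul_one, sub_self]
      exact zero_mem _
    · show σ T ∈ _
      rw [← hu]
      exact Ideal.mul_mem_right _ _ (t_mem_mm π)
    · show σ E ∈ _
      rw [← hv]
      exact Ideal.mul_mem_right _ _ (e_mem_mm π)
  · rw [hprod]
    apply le_antisymm
    · rw [ArLef.fixIdeal, Ideal.span_le]
      rintro _ ⟨x, rfl⟩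
      show σ x - x ∈ _
      refine fix_mem π (σ : NodeAlg B π ≃ₐ[B] NodeAlg B π).toRingEquiv.toRingHom _ ?_ ?_ ?_ ?_ ?_ x
      · intro b
        show σ (algebraMap B _ b) - algebraMap B _ b ∈ _
        rw [AlgEquiv.commutes, sub_self]
        exact zero_mem _
      · show σ T - T ∈ _
        rw [hσt]
        exact Ideal.subset_span (by simp)
      · show σ E - E ∈ _
        rw [hσe]
        have : g * (-(v : NodeAlg B π) * E) = -(v : NodeAlg B π) * (g * E) := by ring
        rw [this]
        exact Ideal.mul_mem_left _ _ (Ideal.subset_span (by simp))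
      · show σ T ∈ _
        rw [← hu]
        exact Ideal.mul_mem_right _ _ (t_mem_mm π)
      · show σ E ∈ _
        rw [← hv]
        exact Ideal.mul_mem_right _ _ (e_mem_mm π)
    · rw [Ideal.span_le]
      intro x hx
      rcases hx with rfl | hx
      · rw [← hσt]
        exact Ideal.subset_span ⟨T, rfl⟩
      · rw [Set.mem_singleton_iff] at hx
        subst hx
        rw [hge]
        exact Ideal.mul_mem_left _ _ (Ideal.subset_span ⟨E, rfl⟩)

lemma var_mem_mm (π : B) (i : Fin 2) : var π i ∈ mm π := by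
  fin_cases i
  · exact t_mem_mm π
  · exact e_mem_mm π

lemma var_ne_zero (π : B) (hπ : Irreducible π) (i : Fin 2) : var π i ≠ 0 := by
  haveI : Fact (Irreducible π) := ⟨hπ⟩
  intro h
  have := br_var_same π i
  rw [h, map_zero] at this
  exact PowerSeries.X_ne_zero this.symm

lemma unit_of_var_dvd_image (π : B) (hπ : Irreducible π) (σ : NodeAlg B π ≃+* NodeAlg B π)
    (i j : Fin 2) {α : NodeAlg B π} (h : σ (var π i) = var π j * α) : IsUnit α := by
  haveI : Fact (Irreducible π) := ⟨hπ⟩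
  obtain ⟨i', hi'⟩ : ∃ i' : Fin 2, i' ≠ i := by
    fin_cases i
    · exact ⟨1, by decide⟩
    · exact ⟨0, by decide⟩
  set x := σ (var π i) with hx
  have hprime : ∀ a b : NodeAlg B π, x ∣ a * b → x ∣ a ∨ x ∣ b := by
    intro a b hab
    have h1 : var π i ∣ σ.symm a * σ.symm b := by
      have := map_dvd σ.symm hab
      rwa [hx, RingEquiv.symm_apply_apply, map_mul] at this
    rcases var_dvd_mul π hi' h1 with h2 | h2
    · left
      have := map_dvd σ h2
      rwa [RingEquiv.apply_symm_apply] at this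
    · right
      have := map_dvd σ h2
      rwa [RingEquiv.apply_symm_apply] at this
  have hdvd : x ∣ var π j * α := ⟨1, by rw [mul_one, h]⟩
  rcases hprime _ _ hdvd with h1 | h1
  · obtain ⟨w, hw⟩ := h1
    -- var j = x w = var j α w
    have h2 : var π j * (α * w) = var π j * 1 := by
      rw [mul_one, ← mul_assoc, ← h, ← hw]
    have h3 := var_mul_cancel π hπ.ne_zero j h2
    exact IsUnit.of_mul_eq_one w h3
  · exfalso
    obtain ⟨w, hw⟩ := h1
    -- α = x w = var j α w
    have h2 : α * (1 - var π j * w) = 0 := by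
      have : α = var π j * α * w := by rw [← h, ← hw]
      linear_combination this
    have h3 : IsUnit (1 - var π j * w) := by
      have hm : -(var π j * w) ∈ Ideal.jacobson (⊥ : Ideal (NodeAlg B π)) :=
        mm_le_jacobson π (neg_mem (Ideal.mul_mem_right _ _ (var_mem_mm π j)))
      have := (Ideal.mem_jacobson_bot.1 hm) 1
      rw [mul_one] at this
      have e : -(var π j * w) + 1 = 1 - var π j * w := by ring
      rwa [e] at this
    have h4 : α = 0 := by
      rcases h3 with ⟨u, hu⟩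
      rw [← hu] at h2
      exact (Units.mul_left_eq_zero u).1 h2
    rw [h4, mul_zero] at h
    have : var π i = 0 := by
      have := congrArg σ.symm h
      rwa [RingEquiv.symm_apply_apply, map_zero] at this
    exact var_ne_zero π hπ i this

/-- S15316 -/
theorem main_dich (π : B) (hπ : Irreducible π)
    (σ : ArLef.NodeAlg B π ≃+* ArLef.NodeAlg B π)
    (hσ : Associated (σ (algebraMap B (ArLef.NodeAlg B π) π)) (algebraMap B (ArLef.NodeAlg B π) π)) :
    (∃ α β : (ArLef.NodeAlg B π)ˣ, σ (ArLef.NodeAlg.t π) = (α : ArLef.NodeAlg B π) * ArLef.NodeAlg.t π ∧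
      σ (ArLef.NodeAlg.e π) = (β : ArLef.NodeAlg B π) * ArLef.NodeAlg.e π) ∨
    (∃ α β : (ArLef.NodeAlg B π)ˣ, σ (ArLef.NodeAlg.t π) = (α : ArLef.NodeAlg B π) * ArLef.NodeAlg.e π ∧
      σ (ArLef.NodeAlg.e π) = (β : ArLef.NodeAlg B π) * ArLef.NodeAlg.t π) := by
  haveI : Fact (Irreducible π) := ⟨hπ⟩
  obtain ⟨w, hw⟩ := hσ
  set T : NodeAlg B π := NodeAlg.t π with hT
  set E : NodeAlg B π := NodeAlg.e π with hE
  have hte : T * E = algebraMap B (NodeAlg B π) π := NodeAlgLib.t_mul_e π
  rw [← hte, map_mul] at hw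
  -- hw : σ T * σ E * w = T * E
  have hTnu : ¬ IsUnit T := not_isUnit_of_mem_mm π hπ.not_isUnit (t_mem_mm π)
  have hA : T ∣ σ T ∨ T ∣ σ E := by
    have h1 : T ∣ σ T * (σ E * w) := ⟨E, by rw [← hw]; ring⟩
    rcases var_dvd_mul π (i := 1) (j := 0) (by decide) h1 with h2 | h2
    · exact Or.inl h2
    · rcases var_dvd_mul π (i := 1) (j := 0) (by decide) h2 with h3 | h3
      · exact Or.inr h3
      · exact absurd (isUnit_of_dvd_unit h3 w.isUnit) hTnu
  rcases hA with ⟨α, hα⟩ | ⟨β, hβ⟩
  · left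
    have hαu : IsUnit α := unit_of_var_dvd_image π hπ σ 0 0 hα
    have h2 : T * (α * σ E * w) = T * E := by
      rw [← hw, hα]; ring
    have h3 : α * σ E * w = E := var_mul_cancel π hπ.ne_zero 0 h2
    refine ⟨hαu.unit, hαu.unit⁻¹ * w⁻¹, ?_, ?_⟩
    · rw [hα, IsUnit.unit_spec]; ring
    · rw [Units.val_mul]
      have e1 : ((hαu.unit⁻¹ : (NodeAlg B π)ˣ) : NodeAlg B π) * α = 1 := by
        have := hαu.unit.inv_mul
        rwa [IsUnit.unit_spec] at this
      have e2 : ((w⁻¹ : (NodeAlg B π)ˣ) : NodeAlg B π) * w = 1 := w.inv_mul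
      have key : ((hαu.unit⁻¹ : (NodeAlg B π)ˣ) : NodeAlg B π) *
          ((w⁻¹ : (NodeAlg B π)ˣ) : NodeAlg B π) * (α * σ E * w) = σ E := by
        linear_combination ((σ E) * ((hαu.unit⁻¹ : (NodeAlg B π)ˣ) : NodeAlg B π) * α) * e2 +
          (σ E) * e1
      rw [h3] at key
      exact key.symm
  · right
    have hβu : IsUnit β := unit_of_var_dvd_image π hπ σ 1 0 hβ
    have h2 : T * (σ T * β * w) = T * E := by
      rw [← hw, hβ]; ring
    have h3 : σ T * β * w = E := var_mul_cancel π hπ.ne_zero 0 h2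
    refine ⟨hβu.unit⁻¹ * w⁻¹, hβu.unit, ?_, ?_⟩
    · rw [Units.val_mul]
      have e1 : ((hβu.unit⁻¹ : (NodeAlg B π)ˣ) : NodeAlg B π) * β = 1 := by
        have := hβu.unit.inv_mul
        rwa [IsUnit.unit_spec] at this
      have e2 : ((w⁻¹ : (NodeAlg B π)ˣ) : NodeAlg B π) * w = 1 := w.inv_mul
      have key : ((hβu.unit⁻¹ : (NodeAlg B π)ˣ) : NodeAlg B π) *
          ((w⁻¹ : (NodeAlg B π)ˣ) : NodeAlg B π) * (σ T * β * w) = σ T := by
        linear_combination ((σ T) * ((hβu.unit⁻¹ : (NodeAlg B π)ˣ) : NodeAlg B π) * β) * e2 +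
          (σ T) * e1
      rw [h3] at key
      exact key.symm
    · rw [hβ, IsUnit.unit_spec]; ring

end Groth.Agent.Lib.Helper26.NodeStab
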