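import Mathlib
import Groth.Agent.Lib.Helper10.Resolution
import Groth.Agent.Lib.Helper26.NodePoly

set_option autoImplicit false
universe u

open CategoryTheory MvPolynomial

namespace Groth.Agent.Lib.Helper26.NodeTor

open Groth.Agent.Lib.Helper26.NodePoly

variable (k : Type u) [Field k]

/-- the variable `var i` in `NA k`. -/
noncomputable abbrev var (i : Fin 2) : NA k := qm k (X i)

/-- colour: `1` on even `n`, `0` on odd `n`. -/
def col (n : ℕ) : Fin 2 := if Even n then 1 else 0

lemma col_succ (n : ℕ) : col (n + 1) = oth (col n) := by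
  rcases Nat.even_or_odd n with h | h
  · have h' : ¬ Even (n + 1) := by rw [Nat.not_even_iff_odd]; exact h.add_one
    simp [col, h, h', oth]
  · have h' : Even (n + 1) := h.add_one
    have h'' : ¬ Even n := by rw [Nat.not_even_iff_odd]; exact h
    simp [col, h', h'', oth]

lemma oth_oth (i : Fin 2) : oth (oth i) = i := by fin_cases i <;> simp [oth]

/-- objects of the resolution. -/
noncomputable def PX : ℕ → ModuleCat.{u} (NA k)
  | 0 => ModuleCat.of (NA k) (NA k)
  | _ + 1 => ModuleCat.of (NA k) (NA k × NA k)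

/-- first differential `(f, g) ↦ x f + y g`. -/
noncomputable def d1 : (NA k × NA k) →ₗ[NA k] NA k :=
  (LinearMap.mulLeft (NA k) (var k 0)).coprod (LinearMap.mulLeft (NA k) (var k 1))

lemma d1_apply (p : NA k × NA k) : d1 k p = var k 0 * p.1 + var k 1 * p.2 := rfl

/-- higher differentials `(f, g) ↦ (var i f, var (oth i) g)`. -/
noncomputable def dg (i : Fin 2) : (NA k × NA k) →ₗ[NA k] (NA k × NA k) :=
  (LinearMap.mulLeft (NA k) (var k i)).prodMap (LinearMap.mulLeft (NA k) (var k (oth i)))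

lemma dg_apply (i : Fin 2) (p : NA k × NA k) :
    dg k i p = (var k i * p.1, var k (oth i) * p.2) := rfl

/-- differentials of the resolution. -/
noncomputable def Pd : ∀ n : ℕ, PX k (n + 1) ⟶ PX k n
  | 0 => ModuleCat.ofHom (d1 k)
  | n + 1 => ModuleCat.ofHom (dg k (col n))

lemma var_mul_var_oth (i : Fin 2) : var k i * var k (oth i) = 0 := X_mul_X_oth k i

lemma var_oth_mul_var (i : Fin 2) : var k (oth i) * var k i = 0 := by
  rw [mul_comm]; exact X_mul_X_oth k i

lemma Pd_sq (n : ℕ) : Pd k (n + 1) ≫ Pd k n = 0 := by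
  cases n with
  | zero =>
    apply ModuleCat.hom_ext
    apply LinearMap.ext
    intro p
    change NA k × NA k at p
    show d1 k (dg k (col 0) p) = 0
    rw [d1_apply, dg_apply]
    have h0 : col 0 = 1 := by simp [col]
    rw [h0]
    have h1 : oth (1 : Fin 2) = 0 := by simp [oth]
    rw [h1]
    show var k 0 * (var k 1 * p.1) + var k 1 * (var k 0 * p.2) = 0
    have e1 : var k 0 * var k 1 = 0 := by
      have := var_mul_var_oth k 0
      simpa [oth] using this
    have e2 : var k 1 * var k 0 = 0 := by rw [mul_comm]; exact e1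
    rw [← mul_assoc, e1, zero_mul, ← mul_assoc, e2, zero_mul, add_zero]
  | succ n =>
    apply ModuleCat.hom_ext
    apply LinearMap.ext
    intro p
    change NA k × NA k at p
    show dg k (col n) (dg k (col (n + 1)) p) = 0
    rw [dg_apply, dg_apply, col_succ, oth_oth]
    show (var k (col n) * (var k (oth (col n)) * p.1), var k (oth (col n)) * (var k (col n) * p.2)) = 0
    rw [← mul_assoc, var_mul_var_oth, zero_mul, ← mul_assoc, var_oth_mul_var, zero_mul]
    rfl

/-- the complex. -/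
noncomputable def cx : ChainComplex (ModuleCat.{u} (NA k)) ℕ :=
  ChainComplex.of (PX k) (Pd k) (Pd_sq k)

lemma cx_d (n : ℕ) : (cx k).d (n + 1) n = Pd k n :=
  ChainComplex.of_d (PX k) (Pd k) n


lemma cx_exactAt_one : (cx k).ExactAt 1 := by
  rw [HomologicalComplex.exactAt_iff' _ 2 1 0 (by simp) (by simp),
    ShortComplex.moduleCat_exact_iff]
  intro p hp
  change ((cx k).d 1 0).hom p = 0 at hp
  change ∃ x₁ : NA k × NA k, ((cx k).d 2 1).hom x₁ = p
  change NA k × NA k at p
  rw [cx_d] at hp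
  rw [cx_d]
  change d1 k p = 0 at hp
  change ∃ x₁ : NA k × NA k, dg k (col 0) x₁ = p
  have h0 : col 0 = 1 := by simp [col]
  have h1 : oth (1 : Fin 2) = 0 := by simp [oth]
  have h2 : oth (0 : Fin 2) = 1 := by simp [oth]
  rw [d1_apply] at hp
  have hp' : var k 0 * p.1 = var k (oth 0) * (-p.2) := by
    rw [h2]; linear_combination hp
  have hx : var k 0 * p.1 = 0 := var_mul_eq_var_mul k 0 _ _ hp'
  have hy : var k 1 * p.2 = 0 := by rw [hx, zero_add] at hp; exact hp
  obtain ⟨f, hf⟩ := ann_var k 0 _ hx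
  obtain ⟨g, hg⟩ := ann_var k 1 _ hy
  rw [h2] at hf
  rw [h1] at hg
  refine ⟨(f, g), ?_⟩
  rw [dg_apply, h0, h1]
  exact Prod.ext hf.symm hg.symm

lemma cx_exactAt_succ (n : ℕ) : (cx k).ExactAt (n + 2) := by
  rw [HomologicalComplex.exactAt_iff' _ (n + 3) (n + 2) (n + 1) (by simp) (by simp),
    ShortComplex.moduleCat_exact_iff]
  intro p hp
  change ((cx k).d (n + 2) (n + 1)).hom p = 0 at hp
  change ∃ x₁ : NA k × NA k, ((cx k).d (n + 3) (n + 2)).hom x₁ = p
  change NA k × NA k at p
  rw [cx_d] at hp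
  rw [cx_d]
  change dg k (col n) p = 0 at hp
  change ∃ x₁ : NA k × NA k, dg k (col (n + 1)) x₁ = p
  rw [dg_apply] at hp
  have hx : var k (col n) * p.1 = 0 := congrArg Prod.fst hp
  have hy : var k (oth (col n)) * p.2 = 0 := congrArg Prod.snd hp
  obtain ⟨f, hf⟩ := ann_var k _ _ hx
  obtain ⟨g, hg⟩ := ann_var k _ _ hy
  rw [oth_oth] at hg
  refine ⟨(f, g), ?_⟩
  rw [dg_apply, col_succ, oth_oth]
  exact Prod.ext hf.symm hg.symm

/-- the augmentation `A → A/(x,y)`. -/
noncomputable def aug : ModuleCat.of (NA k) (NA k) ⟶ ModuleCat.of (NA k) (NA k ⧸ mm k) :=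
  ModuleCat.ofHom (Submodule.mkQ (mm k))

lemma aug_apply (z : NA k) : (aug k).hom z = Ideal.Quotient.mk (mm k) z := rfl

lemma cx_d_aug : (cx k).d 1 0 ≫ aug k = 0 := by
  rw [cx_d]
  apply ModuleCat.hom_ext
  apply LinearMap.ext
  intro p
  change NA k × NA k at p
  show Ideal.Quotient.mk (mm k) (d1 k p) = 0
  rw [Ideal.Quotient.eq_zero_iff_mem, d1_apply]
  exact add_mem (Ideal.mul_mem_right _ _ (x_mem_mm k)) (Ideal.mul_mem_right _ _ (y_mem_mm k))

/-- the resolution of the residue field. -/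
noncomputable def res : ProjectiveResolution (ModuleCat.of (NA k) (NA k ⧸ mm k)) :=
  Groth.Agent.Lib.Helper10.projectiveResolutionOfExact _ (cx k)
    (fun n => by
      cases n with
      | zero => dsimp [cx, PX]; infer_instance
      | succ n => dsimp [cx, PX]; infer_instance)
    (aug k) (cx_d_aug k)
    (by
      rw [ShortComplex.moduleCat_exact_iff]
      intro z hz
      change NA k at z
      change (aug k).hom z = 0 at hz
      change ∃ x₁ : NA k × NA k, ((cx k).d 1 0).hom x₁ = z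
      rw [aug_apply, Ideal.Quotient.eq_zero_iff_mem, Ideal.mem_span_pair] at hz
      obtain ⟨f, g, hfg⟩ := hz
      refine ⟨(f, g), ?_⟩
      rw [cx_d]
      show d1 k (f, g) = z
      rw [d1_apply, ← hfg]
      ring)
    (by
      have : Epi (aug k) := by
        rw [ModuleCat.epi_iff_surjective]
        exact Ideal.Quotient.mk_surjective
      exact this)
    (fun n => by
      cases n with
      | zero => exact cx_exactAt_one k
      | succ n => exact cx_exactAt_succ k n)


open MonoidalCategory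

/-- the residue field as a module. -/
noncomputable abbrev kap : ModuleCat.{u} (NA k) := ModuleCat.of (NA k) (NA k ⧸ mm k)

lemma whisker_eq_zero {M N : ModuleCat.{u} (NA k)} (f : M ⟶ N)
    (hf : ∀ p : M, ∃ (a b : NA k) (p' p'' : N), a ∈ mm k ∧ b ∈ mm k ∧ f.hom p = a • p' + b • p'') :
    kap k ◁ f = 0 := by
  apply ModuleCat.MonoidalCategory.tensor_ext
  intro c p
  obtain ⟨a, b, p', p'', ha, hb, hp⟩ := hf p
  rw [ModuleCat.MonoidalCategory.whiskerLeft_apply, hp, TensorProduct.tmul_add,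
    TensorProduct.tmul_smul, TensorProduct.tmul_smul,
    TensorProduct.smul_tmul', TensorProduct.smul_tmul',
    smul_quot_mm k a ha c, smul_quot_mm k b hb c, TensorProduct.zero_tmul,
    TensorProduct.zero_tmul, add_zero]
  rfl


lemma res_d (n : ℕ) : (res k).complex.d (n + 1) n = Pd k n := cx_d k n

lemma Pd_mem (n : ℕ) (p : PX k (n + 1)) :
    ∃ (a b : NA k) (p' p'' : PX k n), a ∈ mm k ∧ b ∈ mm k ∧ (Pd k n).hom p = a • p' + b • p'' := by
  cases n with
  | zero =>
    change NA k × NA k at p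
    exact ⟨var k 0, var k 1, p.1, p.2, x_mem_mm k, y_mem_mm k, rfl⟩
  | succ n =>
    change NA k × NA k at p
    refine ⟨var k (col n), var k (oth (col n)), ((p.1, 0) : NA k × NA k),
      ((0, p.2) : NA k × NA k), var_mem_mm k _, var_mem_mm k _, ?_⟩
    show dg k (col n) p = _
    rw [dg_apply]
    apply Prod.ext
    · show var k (col n) * p.1 = var k (col n) * p.1 + var k (oth (col n)) * 0
      rw [mul_zero, add_zero]
    · show var k (oth (col n)) * p.2 = var k (col n) * 0 + var k (oth (col n)) * p.2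
      rw [mul_zero, zero_add]

/-- the complex `κ ⊗ P`. -/
noncomputable abbrev KK : ChainComplex (ModuleCat.{u} (NA k)) ℕ :=
  ((tensorLeft (kap k)).mapHomologicalComplex (ComplexShape.down ℕ)).obj (res k).complex

lemma KK_d (i j : ℕ) : (KK k).d i j = 0 := by
  by_cases h : j + 1 = i
  · subst h
    show kap k ◁ (res k).complex.d (j + 1) j = 0
    rw [res_d]
    exact whisker_eq_zero k _ (Pd_mem k j)
  · exact (KK k).shape i j h

/-- homology of `κ ⊗ P` is `κ ⊗ P_n`. -/
noncomputable def homIso (n : ℕ) : (KK k).homology n ≅ (KK k).X n :=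
  (ShortComplex.HomologyData.ofZeros ((KK k).sc n) (KK_d k _ _) (KK_d k _ _)).left.homologyIso

/-- Tor via the resolution. -/
noncomputable def torIso (n : ℕ) :
    ((Tor (ModuleCat.{u} (NA k)) n).obj (kap k)).obj (kap k) ≅ (KK k).X n :=
  (res k).isoLeftDerivedObj (tensorLeft (kap k)) n ≪≫ homIso k n

lemma length_KK_X (n : ℕ) : Module.length (NA k) ((KK k).X (n + 1)) = 2 := by
  show Module.length (NA k) (TensorProduct (NA k) (NA k ⧸ mm k) (NA k × NA k)) = 2
  rw [(TensorProduct.prodRight (NA k) (NA k) (NA k ⧸ mm k) (NA k) (NA k)).length_eq,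
    Module.length_prod, (TensorProduct.rid (NA k) (NA k ⧸ mm k)).length_eq, length_quot_mm]
  rfl

theorem length_tor (i : ℕ) (hi : 1 ≤ i) :
    Module.length (NA k) (((Tor (ModuleCat.{u} (NA k)) i).obj (kap k)).obj (kap k) : Type u) = 2 := by
  obtain ⟨n, rfl⟩ : ∃ n, i = n + 1 := ⟨i - 1, by omega⟩
  rw [(torIso k (n + 1)).toLinearEquiv.length_eq, length_KK_X]


/-- the functional `(f, g) ↦ f mod m` on `P_{n+1}`. -/
noncomputable def ff (n : ℕ) : (res k).complex.X (n + 1) ⟶ kap k :=
  (ModuleCat.ofHom ((Submodule.mkQ (mm k)).comp (LinearMap.fst (NA k) (NA k) (NA k))) :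
    ModuleCat.of (NA k) (NA k × NA k) ⟶ kap k)

lemma ff_apply (n : ℕ) (p : NA k × NA k) :
    (ff k n).hom (p : NA k × NA k) = Ideal.Quotient.mk (mm k) p.1 := rfl

lemma res_d_mem (n : ℕ) (p : (res k).complex.X (n + 1)) :
    ∃ (a b : NA k) (q' q'' : (res k).complex.X n), a ∈ mm k ∧ b ∈ mm k ∧
      ((res k).complex.d (n + 1) n).hom p = a • q' + b • q'' := by
  obtain ⟨a, b, p', p'', ha, hb, hp⟩ := Pd_mem k n p
  exact ⟨a, b, p', p'', ha, hb,
    (congrArg (fun φ : (res k).complex.X (n + 1) ⟶ (res k).complex.X n => φ.hom p)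
      (res_d k n)).trans hp⟩

lemma hom_d_eq_zero (n : ℕ) (g : (res k).complex.X n ⟶ kap k) (p : (res k).complex.X (n + 1)) :
    g.hom (((res k).complex.d (n + 1) n).hom p) = 0 := by
  obtain ⟨a, b, p', p'', ha, hb, hp'⟩ := res_d_mem k n p
  rw [hp', map_add, map_smul, map_smul, smul_quot_mm k a ha, smul_quot_mm k b hb, add_zero]

lemma ff_cocycle (n : ℕ) : (res k).complex.d (n + 2) (n + 1) ≫ ff k n = 0 := by
  apply ModuleCat.hom_ext
  apply LinearMap.ext
  intro p
  exact hom_d_eq_zero k (n + 1) (ff k n) p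

lemma extMk_ne_zero (n : ℕ) :
    (res k).extMk (ff k n) (n + 2) rfl (ff_cocycle k n) ≠ 0 := by
  intro h
  rw [ProjectiveResolution.extMk_eq_zero_iff _ _ _ _ _ n rfl] at h
  obtain ⟨g, hg⟩ := h
  have h1 := congrArg (fun φ : (res k).complex.X (n + 1) ⟶ kap k =>
    φ.hom ((1, 0) : NA k × NA k)) hg
  simp only at h1
  have h2 : ((res k).complex.d (n + 1) n ≫ g).hom ((1, 0) : NA k × NA k) = 0 :=
    hom_d_eq_zero k n g _
  rw [h2, ff_apply] at h1
  exact one_ne_zero_quot_mm k h1.symm

theorem not_hasProjectiveDimensionLT (n : ℕ) : ¬ HasProjectiveDimensionLT (kap k) n := by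
  intro h
  rw [hasProjectiveDimensionLT_iff] at h
  exact extMk_ne_zero k n (h (n + 1) (Nat.le_succ n) _)

theorem main :
    (∀ i : ℕ, 1 ≤ i → Module.length (NA k)
      (((Tor (ModuleCat.{u} (NA k)) i).obj (kap k)).obj (kap k) : Type u) = 2) ∧
    ∀ n : ℕ, ¬ HasProjectiveDimensionLT (kap k) n :=
  ⟨length_tor k, not_hasProjectiveDimensionLT k⟩

end Groth.Agent.Lib.Helper26.NodeTor
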