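import Groth.Agent.S2216
import Mathlib

/-!
# Norm of the different = discriminant (finite free, ω invertible)
-/

set_option autoImplicit false
set_option linter.style.haveILetI false
universe u v
open Disc TensorProduct

namespace Groth.Agent.Lib.Helper26.NormDifferent

variable {A B : Type u} [CommRing A] [CommRing B] [Algebra A B]

theorem apply_mem_of_mem_map (m : Ideal A) (y : B) (hy : y ∈ m.map (algebraMap A B)) :
    ∀ l : Omega A B, l.toLinearMap y ∈ m := by
  unfold Ideal.map at hy
  induction hy using Submodule.span_induction with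
  | mem y hy =>
    obtain ⟨a, ha, rfl⟩ := hy
    intro l
    rw [Algebra.algebraMap_eq_smul_one, map_smul, smul_eq_mul]
    exact Ideal.mul_mem_right _ _ ha
  | zero => intro l; simp
  | add x y _ _ hx hy => intro l; rw [map_add]; exact add_mem (hx l) (hy l)
  | smul b y _ hy =>
    intro l
    exact hy (b • l)

theorem apply_mem_of_mem_smul_top (m : Ideal A) (l : Omega A B)
    (hl : l ∈ (m.map (algebraMap A B)) • (⊤ : Submodule B (Omega A B))) :
    ∀ x, l.toLinearMap x ∈ m := by
  refine Submodule.smul_induction_on (p := fun l => ∀ x, l.toLinearMap x ∈ m) hl ?_ ?_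
  · intro r hr n _ x
    change n.toLinearMap (r * x) ∈ m
    exact apply_mem_of_mem_map m _ (Ideal.mul_mem_right _ _ hr) n
  · intro x y hx hy z
    change x.toLinearMap z + y.toLinearMap z ∈ m
    exact add_mem (hx z) (hy z)

theorem exists_gen [Module.Finite A B] [Module.Invertible B (Omega A B)] (m : Ideal A)
    [hm : m.IsMaximal] :
    ∃ l₀ : Omega A B, ∀ l : Omega A B, ∃ c : B,
      ∀ x, l.toLinearMap x - l₀.toLinearMap (c * x) ∈ m := by
  let I : Ideal B := m.map (algebraMap A B)
  letI : Field (A ⧸ m) := Ideal.Quotient.field m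
  have : Module.Finite (A ⧸ m) (B ⧸ I) := Module.Finite.of_restrictScalars_finite A _ _
  have : IsArtinianRing (B ⧸ I) := IsArtinianRing.of_finite (A ⧸ m) (B ⧸ I)
  have : Finite (MaximalSpectrum (B ⧸ I)) := inferInstance
  have hfree : Module.Free (B ⧸ I) ((B ⧸ I) ⊗[B] Omega A B) := inferInstance
  obtain ⟨e⟩ := Module.Invertible.free_iff_linearEquiv.mp hfree
  have hsurj : ∀ t : (B ⧸ I) ⊗[B] Omega A B, ∃ l, t = 1 ⊗ₜ l := by
    intro t
    obtain ⟨l, hl⟩ := Submodule.Quotient.mk_surjective _ (quotTensorEquivQuotSMul (Omega A B) I t)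
    refine ⟨l, ?_⟩
    rw [← quotTensorEquivQuotSMul_symm_mk, hl, LinearEquiv.symm_apply_apply]
  obtain ⟨l₀, hl₀⟩ := hsurj (e.symm 1)
  refine ⟨l₀, fun l => ?_⟩
  obtain ⟨c, hc⟩ := Ideal.Quotient.mk_surjective (e (1 ⊗ₜ l))
  have h1 : (1 : B ⧸ I) ⊗ₜ[B] (l - c • l₀) = 0 := by
    apply e.injective
    rw [map_zero, tmul_sub, map_sub, ← hc, tmul_smul, sub_eq_zero]
    have : c • ((1 : B ⧸ I) ⊗ₜ[B] l₀) = (Ideal.Quotient.mk I c) • ((1 : B ⧸ I) ⊗ₜ[B] l₀) := by
      rw [TensorProduct.smul_tmul', TensorProduct.smul_tmul', smul_eq_mul, mul_one,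
        Algebra.smul_def, mul_one]; rfl
    rw [this, map_smul, ← hl₀, LinearEquiv.apply_symm_apply, smul_eq_mul, mul_one]
  have h2 : l - c • l₀ ∈ I • (⊤ : Submodule B (Omega A B)) := by
    have := congrArg (quotTensorEquivQuotSMul (Omega A B) I) h1
    rw [quotTensorEquivQuotSMul_mk_one_tmul, map_zero, Submodule.Quotient.mk_eq_zero] at this
    exact this
  refine ⟨c, fun x => ?_⟩
  have h3 := apply_mem_of_mem_smul_top m _ h2 x
  exact h3

variable {ι : Type} [Fintype ι] [DecidableEq ι] (b : Module.Basis ι A B)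

/-- `L_l : B → Hom_A(B, A)`, `x ↦ (y ↦ l (x y))`. -/
noncomputable def Lmap (l : Module.Dual A B) : B →ₗ[A] Module.Dual A B :=
  (LinearMap.mul A B).compr₂ l

@[simp] theorem Lmap_apply (l : Module.Dual A B) (x y : B) : Lmap l x y = l (x * y) := rfl

theorem toMatrix_Lmap (l : Module.Dual A B) (i j : ι) :
    LinearMap.toMatrix b b.dualBasis (Lmap l) i j = l (b j * b i) := by
  rw [LinearMap.toMatrix_apply, Module.Basis.dualBasis_repr, Lmap_apply]

/-- the adjugate trick -/
theorem exists_adj (l₀ : Module.Dual A B) (l : Module.Dual A B) :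
    ∃ y : B, ∀ x, (LinearMap.toMatrix b b.dualBasis (Lmap l₀)).det * l x = l₀ (y * x) := by
  set M := LinearMap.toMatrix b b.dualBasis (Lmap l₀) with hM
  let Madj : Module.Dual A B →ₗ[A] B := Matrix.toLin b.dualBasis b M.adjugate
  have h1 : Lmap l₀ ∘ₗ Madj = M.det • LinearMap.id := by
    have : Lmap l₀ = Matrix.toLin b b.dualBasis M := by
      rw [hM, Matrix.toLin_toMatrix]
    rw [this, ← Matrix.toLin_mul, Matrix.mul_adjugate, map_smul, Matrix.toLin_one]
  refine ⟨Madj l, fun x => ?_⟩
  have h2 := LinearMap.congr_fun (LinearMap.congr_fun h1 l) x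
  simp only [LinearMap.comp_apply, Lmap_apply, LinearMap.smul_apply, LinearMap.id_apply,
    smul_eq_mul] at h2
  exact h2.symm

/-- determinant not in `m` -/
theorem det_notMem (m : Ideal A) [hm : m.IsMaximal] (l₀ : Module.Dual A B)
    (h : ∀ l : Module.Dual A B, ∃ c : B, ∀ x, l x - l₀ (c * x) ∈ m) :
    (LinearMap.toMatrix b b.dualBasis (Lmap l₀)).det ∉ m := by
  set M := LinearMap.toMatrix b b.dualBasis (Lmap l₀) with hM
  choose c hc using fun i => h (b.coord i)
  let X : Matrix ι ι A := Matrix.of fun l i => b.repr (c i) l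
  have hMX : ∀ i' i, (M * X) i' i - (1 : Matrix ι ι A) i' i ∈ m := by
    intro i' i
    have h1 : (M * X) i' i = l₀ (c i * b i') := by
      rw [Matrix.mul_apply]
      conv_rhs => rw [← b.sum_repr (c i), Finset.sum_mul, map_sum]
      refine Finset.sum_congr rfl fun l _ => ?_
      rw [hM, toMatrix_Lmap, smul_mul_assoc, map_smul, smul_eq_mul, mul_comm]
      rfl
    have h2 := hc i (b i')
    rw [h1, ← neg_sub, Matrix.one_apply]
    apply neg_mem
    convert h2 using 2
    rw [Module.Basis.coord_apply, Module.Basis.repr_self, Finsupp.single_apply]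
  intro hdet
  have h3 : ((M * X).map (Ideal.Quotient.mk m)) = 1 := by
    ext i' i
    rw [Matrix.map_apply, Matrix.one_apply, ← sub_eq_zero]
    have := hMX i' i
    rw [Matrix.one_apply] at this
    split_ifs with hii
    · rw [if_pos hii] at this
      rw [← map_one (Ideal.Quotient.mk m), ← map_sub, Ideal.Quotient.eq_zero_iff_mem]; exact this
    · rw [if_neg hii] at this
      rw [sub_zero, Ideal.Quotient.eq_zero_iff_mem]; simpa using this
  have h4 : (Ideal.Quotient.mk m) (M * X).det = 1 := by
    rw [RingHom.map_det, RingHom.mapMatrix_apply, h3, Matrix.det_one]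
  rw [Matrix.det_mul, map_mul, Ideal.Quotient.eq_zero_iff_mem.mpr hdet, zero_mul] at h4
  have : Nontrivial (A ⧸ m) := Ideal.Quotient.nontrivial_iff.mpr hm.ne_top
  exact zero_ne_one h4


theorem toMatrix_traceForm :
    LinearMap.toMatrix b b.dualBasis (Algebra.traceForm A B) = Algebra.traceMatrix A b := by
  ext i j
  rw [LinearMap.toMatrix_apply, Module.Basis.dualBasis_repr]
  simp [Algebra.traceMatrix, Algebra.traceForm_apply, mul_comm]

theorem main [IsNoetherianRing A] [Module.Invertible B (Omega A B)] :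
    Ideal.span (Algebra.norm A '' Disc.differentSet A B) = Ideal.span {Algebra.discr A b} := by
  have hfin : Module.Finite A B := Module.Finite.of_basis b
  have hfree : Module.Free A B := Module.Free.of_basis b
  apply le_antisymm
  · rw [Ideal.span_le]
    rintro _ ⟨x, hx, rfl⟩
    exact Groth.Agent.S2216.result b x hx
  · rw [Ideal.span_le, Set.singleton_subset_iff]
    set J := Ideal.span (Algebra.norm A '' Disc.differentSet A B) with hJdef
    by_contra hJ
    let K : Ideal A := J.colon {Algebra.discr A b}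
    have hK : K ≠ ⊤ := by
      intro h
      have h1 : (1 : A) ∈ K := h ▸ Submodule.mem_top
      rw [Submodule.mem_colon_singleton] at h1
      exact hJ (by simpa using h1)
    obtain ⟨m, hm, hKm⟩ := Ideal.exists_le_maximal K hK
    obtain ⟨l₀, hl₀⟩ := exists_gen (B := B) m
    have hδ := det_notMem b m l₀.toLinearMap (fun l => hl₀ ⟨l⟩)
    set δ := (LinearMap.toMatrix b b.dualBasis (Lmap l₀.toLinearMap)).det with hδdef
    obtain ⟨d, hd⟩ := exists_adj b l₀.toLinearMap (Algebra.trace A B)
    rw [← hδdef] at hd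
    have hd' : algebraMap A B δ * d ∈ Disc.differentSet A B := by
      intro φ
      obtain ⟨y, hy⟩ := exists_adj b l₀.toLinearMap φ
      rw [← hδdef] at hy
      refine ⟨algebraMap A B δ * y, fun x => ?_⟩
      rw [mul_assoc, ← Algebra.smul_def, map_smul, smul_eq_mul, hy, mul_assoc,
        ← Algebra.smul_def, map_smul, smul_eq_mul, hd]
      congr 1; ring
    have hdet : δ ^ Fintype.card ι * Algebra.discr A b = δ * Algebra.norm A d := by
      have h1 : δ • Algebra.traceForm A B = Lmap l₀.toLinearMap ∘ₗ LinearMap.mulLeft A d := by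
        ext x y
        simp [Algebra.traceForm_apply, hd, mul_assoc]
      have h2 : (LinearMap.toMatrix b b.dualBasis (δ • Algebra.traceForm A B)).det =
          (LinearMap.toMatrix b b.dualBasis
            (Lmap l₀.toLinearMap ∘ₗ LinearMap.mulLeft A d)).det := by rw [h1]
      rw [map_smul, Matrix.det_smul, toMatrix_traceForm, LinearMap.toMatrix_comp b b b.dualBasis,
        Matrix.det_mul, Algebra.toMatrix_lmul_eq, ← Algebra.norm_eq_matrix_det, ← hδdef] at h2
      exact h2
    have hnorm : Algebra.norm A (algebraMap A B δ * d) = δ ^ Fintype.card ι * Algebra.norm A d := by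
      rw [map_mul, Algebra.norm_algebraMap_of_basis b]
    have hmem : δ ^ (2 * Fintype.card ι) ∈ K := by
      rw [Submodule.mem_colon_singleton, smul_eq_mul]
      have : δ ^ (2 * Fintype.card ι) * Algebra.discr A b =
          δ * Algebra.norm A (algebraMap A B δ * d) := by
        rw [hnorm, two_mul, pow_add, mul_assoc, hdet]; ring
      rw [this]
      exact Ideal.mul_mem_left _ _ (Ideal.subset_span ⟨_, hd', rfl⟩)
    exact hδ (hm.isPrime.mem_of_pow_mem _ (hKm hmem))

end Groth.Agent.Lib.Helper26.NormDifferent
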