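import Mathlib

set_option linter.unusedSectionVars false
set_option linter.style.haveILetI false
set_option linter.unusedVariables false

namespace Groth.Agent.Lib.Helper26.NormProd

universe u

section DetNilp

variable {k V : Type*} [Field k] [AddCommGroup V] [Module k V] [FiniteDimensional k V]

lemma det_one_add_nilpotent (M : Module.End k V) (hM : IsNilpotent M) :
    LinearMap.det (1 + M) = 1 := by
  have hφ : IsNilpotent (-M) := hM.neg
  have heval := LinearMap.eval_charpoly (-M) (1 : k)
  rw [IsNilpotent.charpoly_eq_X_pow_finrank hφ, Polynomial.eval_pow, Polynomial.eval_X,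
    one_pow] at heval
  rw [heval]
  congr 1
  rw [map_one, sub_neg_eq_add]

lemma det_add_nilpotent (S N : Module.End k V) (hN : IsNilpotent N) (hc : Commute S N) :
    LinearMap.det (S + N) = LinearMap.det S := by
  by_cases hS : IsUnit S
  · obtain ⟨u, rfl⟩ := hS
    have e : (u : Module.End k V) + N = (u : Module.End k V) * (1 + (↑u⁻¹ : Module.End k V) * N) := by
      rw [mul_add, mul_one, ← mul_assoc, Units.mul_inv, one_mul]
    have hc' : Commute (↑u⁻¹ : Module.End k V) N := (hc.units_inv_left)
    have hnil : IsNilpotent ((↑u⁻¹ : Module.End k V) * N) := hc'.isNilpotent_mul_left hN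
    rw [e, map_mul, det_one_add_nilpotent _ hnil, mul_one]
  · have h1 : LinearMap.det S = 0 := by
      by_contra h
      exact hS ((LinearMap.isUnit_iff_isUnit_det S).mpr (isUnit_iff_ne_zero.mpr h))
    have h2 : ¬ IsUnit (S + N) := by
      intro hu
      apply hS
      have : S = (S + N) + (-N) := by abel
      rw [this]
      have hc2 : Commute (-N) (S + N) := by
        apply Commute.neg_left
        exact (hc.symm.add_right (Commute.refl N))
      exact hN.neg.isUnit_add_left_of_commute hu hc2
    rw [h1]
    by_contra h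
    exact h2 ((LinearMap.isUnit_iff_isUnit_det _).mpr (isUnit_iff_ne_zero.mpr h))

end DetNilp


section DiagDet

variable {k : Type*} [Field k] {ι : Type*} [Fintype ι] [DecidableEq ι]
  (B : ι → Type*) [∀ i, CommRing (B i)] [∀ i, Algebra k (B i)] [∀ i, Module.Finite k (B i)]

lemma det_lmul_scalars (c : ι → k) :
    LinearMap.det (Algebra.lmul k (∀ i, B i) (fun i => algebraMap k (B i) (c i)))
      = ∏ i, c i ^ Module.finrank k (B i) := by
  classical
  let b : ∀ i, Module.Basis (Fin (Module.finrank k (B i))) k (B i) := fun i => Module.finBasis k (B i)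
  let P := Pi.basis b
  have hP : ∀ ji, Algebra.lmul k (∀ i, B i) (fun i => algebraMap k (B i) (c i)) (P ji)
      = c ji.1 • P ji := by
    intro ji
    funext i
    simp only [Pi.smul_apply]
    show algebraMap k (B i) (c i) * (P ji) i = c ji.1 • (P ji) i
    rw [Pi.basis_apply]
    by_cases h : i = ji.1
    · subst h
      rw [Pi.single_eq_same, Algebra.smul_def]
    · rw [Pi.single_eq_of_ne h, mul_zero, smul_zero]
  have hmat : LinearMap.toMatrix P P (Algebra.lmul k (∀ i, B i) (fun i => algebraMap k (B i) (c i)))
      = Matrix.diagonal (fun ji => c ji.1) := by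
    ext i j
    rw [LinearMap.toMatrix_apply, hP, map_smul, Finsupp.smul_apply, Module.Basis.repr_self,
      Matrix.diagonal_apply, Finsupp.single_apply, smul_eq_mul]
    by_cases h : j = i
    · subst h
      simp
    · rw [if_neg h, if_neg (Ne.symm h), mul_zero]
  rw [← LinearMap.det_toMatrix P, hmat, Matrix.det_diagonal, Fintype.prod_sigma]
  apply Finset.prod_congr rfl
  intro i _
  simp only [Finset.prod_const, Finset.card_univ, Fintype.card_fin]

end DiagDet


section Main

variable (k : Type u) [Field k] [IsAlgClosed k]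

/-- an element of a local finite algebra over an algebraically closed field is a scalar plus a
nilpotent -/
lemma exists_scalar_nilpotent (B : Type u) [CommRing B] [Algebra k B] [IsLocalRing B]
    [Module.Finite k B] (x : B) : ∃ c : k, IsNilpotent (x - algebraMap k B c) := by
  have hbij : Function.Bijective (algebraMap k (IsLocalRing.ResidueField B)) :=
    IsAlgClosed.algebraMap_bijective_of_isIntegral
  obtain ⟨c, hc⟩ := hbij.surjective (IsLocalRing.residue B x)
  refine ⟨c, ?_⟩
  set ν : B := x - algebraMap k B c with hνdef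
  have hν : ν ∈ IsLocalRing.maximalIdeal B := by
    rw [← IsLocalRing.residue_eq_zero_iff, hνdef, map_sub, sub_eq_zero, ← hc]
    rfl
  haveI : IsArtinianRing B := IsArtinianRing.of_finite k B
  obtain ⟨n, hn⟩ := IsArtinianRing.isNilpotent_jacobson_bot (R := B)
  rw [IsLocalRing.jacobson_eq_maximalIdeal ⊥ bot_ne_top] at hn
  refine ⟨n, ?_⟩
  have : ν ^ n ∈ IsLocalRing.maximalIdeal B ^ n := Ideal.pow_mem_pow hν n
  rw [hn] at this
  simpa using this

variable (A : Type u) [CommRing A] [Algebra k A] [Module.Finite k A]

theorem main (f : A) :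
    Algebra.norm k f =
      ∏ᶠ φ : A →ₐ[k] k, φ f ^ Module.finrank k (Localization.AtPrime (Ideal.comap φ ⊥)) := by
  classical
  haveI : IsArtinianRing A := IsArtinianRing.of_finite k A
  haveI : Fintype (PrimeSpectrum A) := Fintype.ofFinite _
  have hfin : ∀ (p : Ideal A) [p.IsPrime], Module.Finite k (Localization.AtPrime p) := fun p _ =>
    Module.Finite.of_surjective (Algebra.algHom k A (Localization.AtPrime p)).toLinearMap
      (IsArtinianRing.localization_surjective p.primeCompl (Localization.AtPrime p))
  haveI : ∀ p : PrimeSpectrum A, Module.Finite k (Localization.AtPrime p.asIdeal) :=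
    fun p => hfin p.asIdeal
  -- the scalars
  choose c hc using fun p : PrimeSpectrum A =>
    exists_scalar_nilpotent k (Localization.AtPrime p.asIdeal)
      (algebraMap A (Localization.AtPrime p.asIdeal) f)
  let e : A ≃ₐ[k] (∀ p : PrimeSpectrum A, Localization.AtPrime p.asIdeal) :=
    (PrimeSpectrum.toPiLocalizationEquiv A).restrictScalars k
  have hef : ∀ p, e f p = algebraMap A (Localization.AtPrime p.asIdeal) f := fun p => rfl
  set s : ∀ p : PrimeSpectrum A, Localization.AtPrime p.asIdeal :=
    fun p => algebraMap k (Localization.AtPrime p.asIdeal) (c p) with hs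
  set ν := e f - s with hν
  have hνnil : IsNilpotent ν := by
    choose n hn using hc
    refine ⟨Finset.univ.sup n, ?_⟩
    funext p
    have hle : n p ≤ Finset.univ.sup n := Finset.le_sup (Finset.mem_univ p)
    show (ν p) ^ (Finset.univ.sup n) = 0
    have : ν p = algebraMap A (Localization.AtPrime p.asIdeal) f
        - algebraMap k (Localization.AtPrime p.asIdeal) (c p) := rfl
    rw [this]
    exact pow_eq_zero_of_le hle (hn p)
  have h1 : Algebra.norm k f = Algebra.norm k (e f) := (Algebra.norm_eq_of_algEquiv e f).symm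
  have h2 : e f = s + ν := by rw [hν]; ring
  have h3 : Algebra.norm k (e f) = ∏ p, c p ^ Module.finrank k (Localization.AtPrime p.asIdeal) := by
    rw [Algebra.norm_apply, h2, map_add,
      det_add_nilpotent _ _ (hνnil.map (Algebra.lmul k _)) ((Commute.all s ν).map (Algebra.lmul k _))]
    exact det_lmul_scalars (fun p : PrimeSpectrum A => Localization.AtPrime p.asIdeal) c
  rw [h1, h3]
  -- reindexing
  let Φ : (A →ₐ[k] k) → PrimeSpectrum A := fun φ => ⟨Ideal.comap φ ⊥, inferInstance⟩
  have hΦinj : Function.Injective Φ := by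
    intro φ φ' h
    have hk : Ideal.comap φ ⊥ = Ideal.comap φ' ⊥ := congrArg PrimeSpectrum.asIdeal h
    ext a
    have ha : a - algebraMap k A (φ a) ∈ Ideal.comap φ ⊥ := by
      rw [Ideal.mem_comap, Ideal.mem_bot, map_sub, AlgHom.commutes]
      simp
    rw [hk, Ideal.mem_comap, Ideal.mem_bot, map_sub, AlgHom.commutes, sub_eq_zero] at ha
    rw [ha]
    rfl
  have hΦsurj : Function.Surjective Φ := by
    intro p
    haveI : p.asIdeal.IsMaximal := IsArtinianRing.isMaximal_of_isPrime p.asIdeal
    letI : Field (A ⧸ p.asIdeal) := Ideal.Quotient.field p.asIdeal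
    have hbij : Function.Bijective (algebraMap k (A ⧸ p.asIdeal)) :=
      IsAlgClosed.algebraMap_bijective_of_isIntegral
    let ε : k ≃ₐ[k] (A ⧸ p.asIdeal) := AlgEquiv.ofBijective (Algebra.ofId k (A ⧸ p.asIdeal)) hbij
    refine ⟨(ε.symm : (A ⧸ p.asIdeal) →ₐ[k] k).comp (Ideal.Quotient.mkₐ k p.asIdeal), ?_⟩
    apply PrimeSpectrum.ext
    ext a
    show ε.symm (Ideal.Quotient.mk p.asIdeal a) = 0 ↔ a ∈ p.asIdeal
    rw [EmbeddingLike.map_eq_zero_iff, Ideal.Quotient.eq_zero_iff_mem]
  have hΦ : Function.Bijective Φ := ⟨hΦinj, hΦsurj⟩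
  have hcΦ : ∀ φ : A →ₐ[k] k, c (Φ φ) = φ f := by
    intro φ
    set p := Φ φ with hp
    have hunit : ∀ y : p.asIdeal.primeCompl, IsUnit ((φ : A →+* k) y) := by
      intro y
      rw [isUnit_iff_ne_zero]
      intro h0
      exact y.2 h0
    let ψ : Localization.AtPrime p.asIdeal →+* k := IsLocalization.lift hunit
    have hψ : ∀ a : A, ψ (algebraMap A (Localization.AtPrime p.asIdeal) a) = φ a :=
      fun a => IsLocalization.lift_eq hunit a
    have hnil := (hc p).map ψ
    rw [map_sub, hψ, IsScalarTower.algebraMap_apply k A (Localization.AtPrime p.asIdeal), hψ,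
      AlgHom.commutes] at hnil
    have := hnil.eq_zero
    rw [sub_eq_zero] at this
    exact this.symm
  rw [← finprod_eq_prod_of_fintype]
  symm
  refine (finprod_eq_of_bijective Φ hΦ ?_)
  intro φ
  rw [hcΦ]

end Main

end Groth.Agent.Lib.Helper26.NormProd
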