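import Mathlib
import Groth.Agent.Lib.Helper6.NormalizationFinite
import Groth.Agent.Lib.Helper29.NormalNorm
import Groth.Prelude.Def_Pi1

set_option autoImplicit false
universe u

open CategoryTheory AlgebraicGeometry TopologicalSpace

namespace Groth.Agent.Lib.Helper26.NormSepFin

open Groth.Agent.Lib.Helper6.GU

theorem finite_genHom_sep {X : Scheme.{u}} [IsIntegral X] [IsNoetherian X]
    (hX : Pi1.IsNormalScheme X) (L : Type u) [Field L] [Algebra X.functionField L]
    [FiniteDimensional X.functionField L] [Algebra.IsSeparable X.functionField L]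
    (U : X.affineOpens) :
    letI := ((genHom X L (CommRingCat.ofHom (algebraMap X.functionField L))).app U.1).hom.toAlgebra
    (algebraMap Γ(X, U.1) (integralClosure Γ(X, U.1)
      Γ(Spec (CommRingCat.of L),
        genHom X L (CommRingCat.ofHom (algebraMap X.functionField L)) ⁻¹ᵁ U.1))).Finite := by
  set φ : X.functionField ⟶ CommRingCat.of L := CommRingCat.ofHom (algebraMap X.functionField L)
    with hφ
  letI := ((genHom X L φ).app U.1).hom.toAlgebra
  rw [RingHom.finite_algebraMap]
  by_cases hη : genericPoint X ∈ U.1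
  · haveI hne : Nonempty U.1 := ⟨⟨_, hη⟩⟩
    haveI := functionField_isFractionRing_of_isAffineOpen X U.1 U.2
    haveI : IsDomain Γ(X, U.1) := IsIntegral.component_integral (X := X) U.1
    haveI : IsNoetherianRing Γ(X, U.1) := IsLocallyNoetherian.component_noetherian U
    haveI : IsIntegrallyClosed Γ(X, U.1) :=
      Groth.Agent.Lib.Helper29.QCoh.NormalNorm.isIntegrallyClosed_of_isAffineOpen
        (fun y => (hX y).2) U.2
    letI algAL : Algebra Γ(X, U.1) L :=
      ((algebraMap X.functionField L).comp (algebraMap Γ(X, U.1) X.functionField)).toAlgebra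
    haveI : IsScalarTower Γ(X, U.1) X.functionField L :=
      IsScalarTower.of_algebraMap_eq (fun _ => rfl)
    haveI : Module.Finite Γ(X, U.1) (integralClosure Γ(X, U.1) L) :=
      IsIntegralClosure.finite Γ(X, U.1) X.functionField L (integralClosure Γ(X, U.1) L)
    let ψ : L →+* Γ(Spec (CommRingCat.of L), genHom X L φ ⁻¹ᵁ U.1) :=
      (resL L (genHom X L φ ⁻¹ᵁ U.1)).hom
    have hψ : ψ.comp (algebraMap Γ(X, U.1) L) =
        algebraMap Γ(X, U.1) Γ(Spec (CommRingCat.of L), genHom X L φ ⁻¹ᵁ U.1) := by
      have e1 : algebraMap Γ(X, U.1) Γ(Spec (CommRingCat.of L), genHom X L φ ⁻¹ᵁ U.1) =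
          ((genHom X L φ).app U.1).hom := rfl
      rw [e1, genHom_app X L φ U.1 hη]
      rfl
    exact finite_integralClosure_of_bijective ψ hψ
      (resL_bijective _ _ (genHom_preimage_eq_top X _ _ U.1 hη))
  · have hbot := genHom_preimage_eq_bot X L φ U.1 hη
    haveI : Subsingleton Γ(Spec (CommRingCat.of L), genHom X L φ ⁻¹ᵁ U.1) := by
      rw [hbot]; infer_instance
    haveI : Subsingleton (integralClosure Γ(X, U.1)
        Γ(Spec (CommRingCat.of L), genHom X L φ ⁻¹ᵁ U.1)) :=
      ⟨fun a b => Subtype.ext (Subsingleton.elim _ _)⟩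
    infer_instance

theorem main_18426 {X : Scheme.{u}} [IsIntegral X] [IsNoetherian X]
    (hX : Pi1.IsNormalScheme X) (L : Type u) [Field L] [Algebra X.functionField L] [FiniteDimensional X.functionField L]
    [Algebra.IsSeparable X.functionField L]
    [QuasiCompact (Spec.map (CommRingCat.ofHom (algebraMap X.functionField L)) ≫ X.fromSpecStalk (genericPoint X))]
    [QuasiSeparated (Spec.map (CommRingCat.ofHom (algebraMap X.functionField L)) ≫ X.fromSpecStalk (genericPoint X))] :
    IsFinite (Spec.map (CommRingCat.ofHom (algebraMap X.functionField L)) ≫ X.fromSpecStalk (genericPoint X)).fromNormalization :=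
  isFinite_fromNormalization _ (finite_genHom_sep hX L)

end Groth.Agent.Lib.Helper26.NormSepFin
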