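import Mathlib
import Groth.Prelude.Def_Pi1

set_option autoImplicit false
set_option linter.style.haveILetI false
universe u
open CategoryTheory AlgebraicGeometry Opposite TopologicalSpace

namespace Groth.Agent.Lib.Helper26.NormalExtend

theorem germToFunctionField_res (X : Scheme.{u}) [IsIntegral X] {U V : X.Opens} [Nonempty U]
    [Nonempty V] (h : U ≤ V) (s : Γ(X, V)) :
    X.germToFunctionField U (X.presheaf.map (homOfLE h).op s) = X.germToFunctionField V s :=
  X.presheaf.germ_res_apply (homOfLE h) (genericPoint X) _ s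

theorem main (X : Scheme.{u}) [AlgebraicGeometry.IsIntegral X]
    (hX : Pi1.IsNormalScheme X) (U : X.Opens) (b : Γ(X, U))
    (hb : (X.presheaf.map (homOfLE le_top : U ⟶ ⊤).op).hom.IsIntegralElem b) :
    b ∈ Set.range (X.presheaf.map (homOfLE le_top : U ⟶ ⊤).op).hom := by
  by_cases hU : Nonempty U
  swap
  · have hbot : U = ⊥ := by
      ext x
      simp only [Opens.coe_bot, Set.mem_empty_iff_false, iff_false]
      exact fun hx => hU ⟨⟨x, hx⟩⟩
    subst hbot
    haveI : Subsingleton Γ(X, (⊥ : X.Opens)) :=
      CommRingCat.subsingleton_of_isTerminal X.sheaf.isTerminalOfEmpty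
    exact ⟨0, Subsingleton.elim _ _⟩
  haveI : Nonempty (⊤ : X.Opens) := ⟨⟨genericPoint X, trivial⟩⟩
  set β : X.functionField := X.germToFunctionField U b with hβdef
  obtain ⟨p, hp, hpb⟩ := hb
  have hβ : Polynomial.eval₂ (X.germToFunctionField ⊤).hom β p = 0 := by
    have h1 := congrArg (X.germToFunctionField U).hom hpb
    rw [Polynomial.hom_eval₂, map_zero] at h1
    convert h1 using 2
    ext s
    exact (germToFunctionField_res X (le_top : U ≤ ⊤) s).symm
  -- local sections
  have hloc : ∀ x : X, ∃ (W : X.Opens) (_ : x ∈ W) (s : Γ(X, W)) (_ : Nonempty W),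
      X.germToFunctionField W s = β := by
    intro x
    haveI := (hX x).2
    have hint : IsIntegral (X.presheaf.stalk x) β := by
      refine ⟨p.map (X.presheaf.germ ⊤ x trivial).hom, hp.map _, ?_⟩
      rw [Polynomial.eval₂_map]
      have e : (algebraMap (X.presheaf.stalk x) X.functionField).comp
          (X.presheaf.germ ⊤ x trivial).hom = (X.germToFunctionField ⊤).hom := by
        ext s
        exact Scheme.algebraMap_germ_eq_germToFunctionField X (U := ⊤) trivial s
      rw [e]
      exact hβ
    obtain ⟨t, ht⟩ := IsIntegrallyClosed.algebraMap_eq_of_integral hint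
    obtain ⟨W, hxW, s, rfl⟩ := X.presheaf.exists_germ_eq t
    haveI : Nonempty W := ⟨⟨x, hxW⟩⟩
    refine ⟨W, hxW, s, inferInstance, ?_⟩
    rw [← ht]
    exact (Scheme.algebraMap_germ_eq_germToFunctionField X hxW s).symm
  choose W hxW s hne hs using hloc
  have hcompat : TopCat.Presheaf.IsCompatible X.presheaf W s := by
    intro x y
    haveI : Nonempty (W x ⊓ W y : X.Opens) := by
      have h1 : genericPoint X ∈ W x :=
        ((genericPoint_spec X).mem_open_set_iff (W x).isOpen).mpr ⟨x, trivial, hxW x⟩
      have h2 : genericPoint X ∈ W y :=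
        ((genericPoint_spec X).mem_open_set_iff (W y).isOpen).mpr ⟨y, trivial, hxW y⟩
      exact ⟨⟨genericPoint X, h1, h2⟩⟩
    apply X.germToFunctionField_injective (W x ⊓ W y)
    haveI := hne x
    haveI := hne y
    have e1 := germToFunctionField_res X (inf_le_left : W x ⊓ W y ≤ W x) (s x)
    have e2 := germToFunctionField_res X (inf_le_right : W x ⊓ W y ≤ W y) (s y)
    exact e1.trans ((hs x).trans ((hs y).symm.trans e2.symm))
  obtain ⟨g, hg, -⟩ := X.sheaf.existsUnique_gluing' W ⊤ (fun x => homOfLE le_top)
    (fun x _ => Opens.mem_iSup.mpr ⟨x, hxW x⟩) s hcompat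
  refine ⟨g, ?_⟩
  apply X.germToFunctionField_injective U
  change X.germToFunctionField U (X.presheaf.map (homOfLE le_top).op g) = β
  rw [germToFunctionField_res X (le_top : U ≤ ⊤) g]
  haveI := hne (genericPoint X)
  rw [← hs (genericPoint X), ← hg (genericPoint X)]
  exact (germToFunctionField_res X (le_top : W (genericPoint X) ≤ ⊤) g).symm

end Groth.Agent.Lib.Helper26.NormalExtend
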