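import Mathlib

set_option linter.style.haveILetI false

universe u

open TensorProduct Polynomial

namespace Groth.Agent.Lib.Helper26.NormalOverDVR

attribute [local instance] Algebra.TensorProduct.rightAlgebra

variable (R : Type u) [CommRing R] [IsDomain R] [IsDiscreteValuationRing R]
  (A : Type u) [CommRing A] [Algebra R A]

/-- every element of `K ⊗ A` becomes an element of `A` after multiplication by a power of the
uniformizer -/
lemma exists_pow_smul_eq (ϖ : R) (hϖ : Irreducible ϖ) (y : FractionRing R ⊗[R] A) :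
    ∃ (n : ℕ) (a : A), (ϖ ^ n) • y = (1 : FractionRing R) ⊗ₜ[R] a := by
  induction y using TensorProduct.induction_on with
  | zero => exact ⟨0, 0, by simp⟩
  | tmul k a =>
    obtain ⟨r, s, hs, rfl⟩ := IsFractionRing.div_surjective (A := R) k
    have hs0 : s ≠ 0 := nonZeroDivisors.ne_zero hs
    obtain ⟨n, w, hw⟩ := IsDiscreteValuationRing.eq_unit_mul_pow_irreducible hs0 hϖ
    refine ⟨n, (r * ((w⁻¹ : Rˣ) : R)) • a, ?_⟩
    rw [TensorProduct.smul_tmul', ← TensorProduct.smul_tmul]
    congr 1
    have hsK : algebraMap R (FractionRing R) s ≠ 0 := by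
      rwa [Ne, IsFractionRing.to_map_eq_zero_iff]
    rw [Algebra.smul_def, Algebra.smul_def, mul_one, eq_comm, mul_div_assoc', eq_div_iff hsK, hw]
    simp only [map_mul, map_pow]
    have : algebraMap R (FractionRing R) ((w⁻¹ : Rˣ) : R) * algebraMap R (FractionRing R) (w : R)
        = 1 := by
      rw [← map_mul, Units.inv_mul, map_one]
    calc algebraMap R (FractionRing R) r * algebraMap R (FractionRing R) ((w⁻¹ : Rˣ) : R) *
          (algebraMap R (FractionRing R) (w : R) * algebraMap R (FractionRing R) ϖ ^ n)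
        = algebraMap R (FractionRing R) r * (algebraMap R (FractionRing R) ((w⁻¹ : Rˣ) : R) *
          algebraMap R (FractionRing R) (w : R)) * algebraMap R (FractionRing R) ϖ ^ n := by ring
      _ = algebraMap R (FractionRing R) ϖ ^ n * algebraMap R (FractionRing R) r := by
          rw [this]; ring
  | add y₁ y₂ h₁ h₂ =>
    obtain ⟨n₁, a₁, h₁⟩ := h₁
    obtain ⟨n₂, a₂, h₂⟩ := h₂
    refine ⟨n₁ + n₂, (ϖ ^ n₂) • a₁ + (ϖ ^ n₁) • a₂, ?_⟩
    rw [smul_add, TensorProduct.tmul_add, TensorProduct.tmul_smul, TensorProduct.tmul_smul,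
      ← h₁, ← h₂, smul_smul, smul_smul, pow_add, mul_comm (ϖ ^ n₁) (ϖ ^ n₂)]

variable [Module.Flat R A]

lemma includeRight_inj :
    Function.Injective (Algebra.TensorProduct.includeRight : A →ₐ[R] FractionRing R ⊗[R] A) :=
  Algebra.TensorProduct.includeRight_injective (A := FractionRing R) (B := A)
    (IsFractionRing.injective R (FractionRing R))

/-- an element of `K ⊗ A` integral over `A` lies in `A`, if `A/ϖA` is reduced -/
lemma mem_range_of_isIntegral [IsDomain (FractionRing R ⊗[R] A)]
    (hred : IsReduced (A ⧸ Ideal.map (algebraMap R A) (IsLocalRing.maximalIdeal R)))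
    (y : FractionRing R ⊗[R] A) (hy : IsIntegral A y) :
    ∃ a : A, y = (1 : FractionRing R) ⊗ₜ[R] a := by
  classical
  obtain ⟨ϖ, hϖ⟩ := IsDiscreteValuationRing.exists_irreducible R
  have hex := exists_pow_smul_eq R A ϖ hϖ y
  have hmin : ∀ m < Nat.find hex, ¬ ∃ a : A, (ϖ ^ m) • y = (1 : FractionRing R) ⊗ₜ[R] a :=
    fun m hm => Nat.find_min hex hm
  obtain ⟨a, ha⟩ := Nat.find_spec hex
  set n := Nat.find hex with hn
  rcases Nat.eq_zero_or_pos n with h0 | hpos
  · rw [h0, pow_zero, one_smul] at ha
    exact ⟨a, ha⟩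
  · exfalso
    have hrad : (Ideal.map (algebraMap R A) (IsLocalRing.maximalIdeal R)).IsRadical :=
      (Ideal.isRadical_iff_quotient_reduced _).mpr hred
    have hmap : Ideal.map (algebraMap R A) (IsLocalRing.maximalIdeal R) =
        Ideal.span {algebraMap R A ϖ} := by
      rw [hϖ.maximalIdeal_eq, Ideal.map_span, Set.image_singleton]
    obtain ⟨p, hpm, hp⟩ := hy
    set c : A := algebraMap R A (ϖ ^ n) with hc
    have hcy : algebraMap A (FractionRing R ⊗[R] A) c * y = algebraMap A (FractionRing R ⊗[R] A) a := by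
      have e1 : algebraMap A (FractionRing R ⊗[R] A) c = (ϖ ^ n) • (1 : FractionRing R ⊗[R] A) := by
        rw [Algebra.TensorProduct.right_algebraMap_apply, hc, Algebra.algebraMap_eq_smul_one,
          TensorProduct.tmul_smul]
        rfl
      rw [e1, smul_mul_assoc, one_mul, ha]
      rfl
    have h1 : eval₂ (algebraMap A (FractionRing R ⊗[R] A)) (algebraMap A (FractionRing R ⊗[R] A) c * y)
        (scaleRoots p c) = 0 := scaleRoots_eval₂_eq_zero _ hp
    rw [hcy, eval₂_at_apply] at h1
    have h2 : (scaleRoots p c).eval a = 0 := by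
      have h1' : (Algebra.TensorProduct.includeRight : A →ₐ[R] FractionRing R ⊗[R] A)
          ((scaleRoots p c).eval a) =
          (Algebra.TensorProduct.includeRight : A →ₐ[R] FractionRing R ⊗[R] A) 0 := by
        rw [map_zero]
        exact h1
      exact includeRight_inj R A h1'
    have hcP : c ∈ Ideal.map (algebraMap R A) (IsLocalRing.maximalIdeal R) := by
      rw [hmap, hc, map_pow]
      exact Ideal.pow_mem_of_mem _ (Ideal.mem_span_singleton_self _) n hpos
    have hq : (scaleRoots p c).IsWeaklyEisensteinAt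
        (Ideal.map (algebraMap R A) (IsLocalRing.maximalIdeal R)) :=
      scaleRoots.isWeaklyEisensteinAt p hcP
    have hqm : (scaleRoots p c).Monic := (monic_scaleRoots_iff c).mpr hpm
    have h3 : a ^ (scaleRoots p c).natDegree ∈
        Ideal.map (algebraMap R A) (IsLocalRing.maximalIdeal R) :=
      hq.pow_natDegree_le_of_root_of_monic_mem h2 hqm _ le_rfl
    have h4 : a ∈ Ideal.map (algebraMap R A) (IsLocalRing.maximalIdeal R) := hrad ⟨_, h3⟩
    rw [hmap, Ideal.mem_span_singleton] at h4
    obtain ⟨a', rfl⟩ := h4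
    obtain ⟨m, hm⟩ : ∃ m, n = m + 1 := ⟨n - 1, by omega⟩
    apply hmin m (by omega)
    refine ⟨a', ?_⟩
    have hϖK : algebraMap R (FractionRing R) ϖ ≠ 0 := by
      rw [Ne, IsFractionRing.to_map_eq_zero_iff]
      exact hϖ.ne_zero
    apply smul_right_injective (FractionRing R ⊗[R] A) hϖK
    change algebraMap R (FractionRing R) ϖ • (ϖ ^ m • y) =
      algebraMap R (FractionRing R) ϖ • ((1 : FractionRing R) ⊗ₜ[R] a')
    rw [algebraMap_smul, algebraMap_smul, smul_smul, ← pow_succ', ← hm, ha,
      ← Algebra.smul_def, TensorProduct.tmul_smul]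

theorem main [IsDomain (FractionRing R ⊗[R] A)] [IsIntegrallyClosed (FractionRing R ⊗[R] A)]
    (hred : IsReduced (A ⧸ Ideal.map (algebraMap R A) (IsLocalRing.maximalIdeal R))) :
    IsDomain A ∧ IsIntegrallyClosed A := by
  have hdom : IsDomain A :=
    Function.Injective.isDomain
      (Algebra.TensorProduct.includeRight : A →ₐ[R] FractionRing R ⊗[R] A).toRingHom
      (includeRight_inj R A)
  refine ⟨hdom, ?_⟩
  let L := FractionRing (FractionRing R ⊗[R] A)
  haveI : IsScalarTower A (FractionRing R ⊗[R] A) L := inferInstance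
  have hinj : Function.Injective (algebraMap A L) := by
    rw [IsScalarTower.algebraMap_eq A (FractionRing R ⊗[R] A) L]
    exact (IsFractionRing.injective (FractionRing R ⊗[R] A) L).comp (includeRight_inj R A)
  rw [isIntegrallyClosed_iff (FractionRing A)]
  intro x hx
  let j : FractionRing A →ₐ[A] L := IsFractionRing.liftAlgHom (g := Algebra.ofId A L) hinj
  have h1 : IsIntegral A (j x) := hx.map j
  have h2 : IsIntegral (FractionRing R ⊗[R] A) (j x) := h1.tower_top
  obtain ⟨y, hy⟩ := IsIntegrallyClosed.algebraMap_eq_of_integral h2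
  have h3 : IsIntegral A y := by
    have h4 : IsIntegral A (algebraMap (FractionRing R ⊗[R] A) L y) := hy ▸ h1
    exact (isIntegral_algHom_iff (IsScalarTower.toAlgHom A (FractionRing R ⊗[R] A) L)
      (IsFractionRing.injective (FractionRing R ⊗[R] A) L)).mp h4
  obtain ⟨a, rfl⟩ := mem_range_of_isIntegral R A hred y h3
  refine ⟨a, ?_⟩
  apply j.toRingHom.injective
  change j (algebraMap A (FractionRing A) a) = j x
  rw [← hy, j.commutes, IsScalarTower.algebraMap_apply A (FractionRing R ⊗[R] A) L]
  rfl

end Groth.Agent.Lib.Helper26.NormalOverDVR
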