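import Mathlib

set_option autoImplicit false
set_option linter.unusedVariables false
set_option linter.style.haveILetI false

namespace Groth.Agent.Lib.Helper26.NrmA

open Polynomial Matrix

/-- The determinant of a matrix over a domain `P` which is integral over `P0` is integral over `P0`. -/
theorem det_isIntegral {P0 P : Type*} [CommRing P0] [CommRing P] [IsDomain P] [Algebra P0 P]
    {n : Type*} [Fintype n] [DecidableEq n] (M : Matrix n n P) (hM : IsIntegral P0 M) :
    IsIntegral P0 M.det := by
  classical
  rcases isEmpty_or_nonempty n with hn | hn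
  · rw [Matrix.det_isEmpty]; exact isIntegral_one
  let F := FractionRing P
  let Ω := AlgebraicClosure F
  let φ : P →ₐ[P0] Ω := IsScalarTower.toAlgHom P0 P Ω
  have hφinj : Function.Injective φ := by
    change Function.Injective (algebraMap P Ω)
    rw [IsScalarTower.algebraMap_eq P F Ω]
    exact (algebraMap F Ω).injective.comp (IsFractionRing.injective P F)
  let MΩ : Matrix n n Ω := φ.mapMatrix M
  have hMΩ : IsIntegral P0 MΩ := hM.map φ.mapMatrix
  obtain ⟨f, hfm, hf0⟩ := hMΩ
  have hroot : ∀ μ ∈ MΩ.charpoly.roots, IsIntegral P0 μ := by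
    intro μ hμ
    have hμ' : IsRoot MΩ.charpoly μ := (Polynomial.mem_roots (Matrix.charpoly_monic MΩ).ne_zero).mp hμ
    have hsp : μ ∈ spectrum Ω MΩ := Matrix.mem_spectrum_iff_isRoot_charpoly.mpr hμ'
    have h1 := spectrum.subset_polynomial_aeval MΩ (f.map (algebraMap P0 Ω)) ⟨μ, hsp, rfl⟩
    have h2 : aeval MΩ (f.map (algebraMap P0 Ω)) = 0 := by
      rw [Polynomial.aeval_map_algebraMap, Polynomial.aeval_def]; exact hf0
    rw [h2, spectrum.zero_eq, Set.mem_singleton_iff] at h1
    refine ⟨f, hfm, ?_⟩
    exact (Polynomial.eval_map (algebraMap P0 Ω) μ).symm.trans h1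
  have hdet : IsIntegral P0 MΩ.det := by
    rw [Matrix.det_eq_prod_roots_charpoly]
    exact IsIntegral.multiset_prod hroot
  have hdet' : MΩ.det = φ M.det := by
    change (φ.mapMatrix M).det = _
    rw [← AlgHom.map_det]
  rw [hdet'] at hdet
  exact (isIntegral_algHom_iff φ hφinj).mp hdet

end Groth.Agent.Lib.Helper26.NrmA
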