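import Mathlib
import Groth.Agent.Lib.Helper26.NrmA

set_option autoImplicit false
set_option linter.unusedVariables false
set_option linter.style.haveILetI false

namespace Groth.Agent.Lib.Helper26.NrmB

open Polynomial Matrix TensorProduct

attribute [local instance] MvPolynomial.algebraMvPolynomial

variable {A K L : Type*} [CommRing A] [IsDomain A] [IsIntegrallyClosed A]
  [Field K] [Algebra A K] [IsFractionRing A K]
  [Field L] [Algebra K L] [Algebra A L] [IsScalarTower A K L]

/-- The generic matrix `Σ_j X_j • M_j`. -/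
noncomputable def genMat {ι σ : Type*} [Fintype ι] [DecidableEq ι] [Fintype σ]
    (e : Module.Basis ι K L) (b : σ → L) : Matrix ι ι (MvPolynomial σ K) :=
  ∑ j, (MvPolynomial.X j : MvPolynomial σ K) • (Algebra.leftMulMatrix e (b j)).map MvPolynomial.C

theorem genMat_eq_leftMulMatrix {ι σ : Type*} [Fintype ι] [DecidableEq ι] [Fintype σ]
    (e : Module.Basis ι K L) (b : σ → L) :
    genMat e b = Algebra.leftMulMatrix (Algebra.TensorProduct.basis (MvPolynomial σ K) e)
      (∑ j, (MvPolynomial.X j : MvPolynomial σ K) ⊗ₜ[K] b j) := by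
  rw [genMat, map_sum]
  refine Finset.sum_congr rfl (fun j _ => ?_)
  ext i l
  rw [Algebra.leftMulMatrix_eq_repr_mul, Algebra.TensorProduct.basis_apply,
    Algebra.TensorProduct.tmul_mul_tmul, mul_one, Algebra.TensorProduct.basis_repr_tmul,
    Matrix.smul_apply, Matrix.map_apply, Algebra.leftMulMatrix_eq_repr_mul]
  simp [MvPolynomial.algebraMap_eq]

/-- The generic element is integral over `A[T]`. -/
theorem gen_isIntegralElem {σ : Type*} [Fintype σ] (b : σ → L) (hb : ∀ j, IsIntegral A (b j)) :
    ((algebraMap (MvPolynomial σ K) (MvPolynomial σ K ⊗[K] L)).comp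
      (algebraMap (MvPolynomial σ A) (MvPolynomial σ K))).IsIntegralElem
      (∑ j, (MvPolynomial.X j : MvPolynomial σ K) ⊗ₜ[K] b j) := by
  set g := (algebraMap (MvPolynomial σ K) (MvPolynomial σ K ⊗[K] L)).comp
      (algebraMap (MvPolynomial σ A) (MvPolynomial σ K)) with hg
  have hsum : ∀ (s : Finset σ), g.IsIntegralElem
      (∑ j ∈ s, (MvPolynomial.X j : MvPolynomial σ K) ⊗ₜ[K] b j) := by
    classical
    intro s
    induction s using Finset.induction_on with
    | empty => rw [Finset.sum_empty]; exact ⟨Polynomial.X, Polynomial.monic_X, by simp⟩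
    | insert a s ha ih =>
      rw [Finset.sum_insert ha]
      refine RingHom.IsIntegralElem.add g ?_ ih
      have h1 : (MvPolynomial.X a : MvPolynomial σ K) ⊗ₜ[K] b a =
          ((MvPolynomial.X a : MvPolynomial σ K) ⊗ₜ[K] (1 : L)) * ((1 : MvPolynomial σ K) ⊗ₜ[K] b a) := by
        rw [Algebra.TensorProduct.tmul_mul_tmul, mul_one, one_mul]
      rw [h1]
      refine RingHom.IsIntegralElem.mul g ?_ ?_
      · have : (MvPolynomial.X a : MvPolynomial σ K) ⊗ₜ[K] (1 : L) = g (MvPolynomial.X a) := by
          simp [hg, Algebra.TensorProduct.algebraMap_apply]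
        rw [this]
        exact g.isIntegralElem_map
      · obtain ⟨f, hfm, hf0⟩ := hb a
        refine ⟨f.map (MvPolynomial.C : A →+* MvPolynomial σ A), hfm.map _, ?_⟩
        rw [Polynomial.eval₂_map]
        have hcomp : g.comp (MvPolynomial.C : A →+* MvPolynomial σ A) =
            (Algebra.TensorProduct.includeRight : L →ₐ[K] MvPolynomial σ K ⊗[K] L).toRingHom.comp
              (algebraMap A L) := by
          ext x
          simp only [hg, RingHom.coe_comp, Function.comp_apply, MvPolynomial.algebraMap_def,
            MvPolynomial.map_C, AlgHom.toRingHom_eq_coe, RingHom.coe_coe,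
            Algebra.TensorProduct.includeRight_apply, Algebra.TensorProduct.algebraMap_apply]
          rw [IsScalarTower.algebraMap_apply A K L, Algebra.algebraMap_eq_smul_one (A := L),
            ← TensorProduct.smul_tmul, ← MvPolynomial.algebraMap_eq, Algebra.smul_def, mul_one,
            Algebra.algebraMap_self, RingHom.id_apply]
        rw [hcomp]
        have : (1 : MvPolynomial σ K) ⊗ₜ[K] b a =
          (Algebra.TensorProduct.includeRight : L →ₐ[K] MvPolynomial σ K ⊗[K] L).toRingHom (b a) := rfl
        rw [this, ← Polynomial.hom_eval₂, hf0, map_zero]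
  exact hsum Finset.univ

/-- The determinant of the generic matrix has coefficients in `A`. -/
theorem det_genMat_mem_range {ι σ : Type*} [Fintype ι] [DecidableEq ι] [Fintype σ]
    (e : Module.Basis ι K L) (b : σ → L) (hb : ∀ j, IsIntegral A (b j)) :
    (genMat e b).det ∈ Set.range (MvPolynomial.map (algebraMap A K) :
      MvPolynomial σ A →+* MvPolynomial σ K) := by
  obtain ⟨f, hfm, hf0⟩ := gen_isIntegralElem (A := A) (K := K) b hb
  set E' := Algebra.TensorProduct.basis (MvPolynomial σ K) e with hE'
  set γ := ∑ j, (MvPolynomial.X j : MvPolynomial σ K) ⊗ₜ[K] b j with hγ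
  have hint : IsIntegral (MvPolynomial σ A) (Algebra.leftMulMatrix E' γ) := by
    refine ⟨f, hfm, ?_⟩
    have hcomp : (algebraMap (MvPolynomial σ A) (Matrix ι ι (MvPolynomial σ K))) =
        (Algebra.leftMulMatrix E').toRingHom.comp
          ((algebraMap (MvPolynomial σ K) (MvPolynomial σ K ⊗[K] L)).comp
      (algebraMap (MvPolynomial σ A) (MvPolynomial σ K))) := by
      refine RingHom.ext (fun x => ?_)
      simp only [RingHom.coe_comp, Function.comp_apply, AlgHom.toRingHom_eq_coe, RingHom.coe_coe,
        AlgHom.commutes]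
      rw [IsScalarTower.algebraMap_apply (MvPolynomial σ A) (MvPolynomial σ K)]
    rw [hcomp]
    have : Algebra.leftMulMatrix E' γ = (Algebra.leftMulMatrix E').toRingHom γ := rfl
    rw [this, ← Polynomial.hom_eval₂, hf0, map_zero]
  have hdet := NrmA.det_isIntegral _ hint
  rw [← genMat_eq_leftMulMatrix] at hdet
  have hco := MvPolynomial.isIntegral_iff_isIntegral_coeff.mp hdet
  rw [MvPolynomial.mem_range_map_iff_coeffs_subset]
  intro c hc
  obtain ⟨n, -, rfl⟩ := MvPolynomial.mem_coeffs_iff.mp hc
  exact IsIntegrallyClosed.isIntegral_iff.mp (hco n)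

end Groth.Agent.Lib.Helper26.NrmB
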