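import Mathlib

set_option autoImplicit false
set_option linter.unusedVariables false
set_option linter.style.haveILetI false

namespace Groth.Agent.Lib.Helper26.NrmC

open TensorProduct

universe u

variable (k K L R : Type u) [Field k] [Field K] [Algebra k K] [Field L] [Algebra K L]
  [Algebra k L] [IsScalarTower k K L] [CommRing R] [Algebra k R]

/-- The algebra structure of `L ⊗ R` over `K ⊗ R`. -/
@[reducible] noncomputable def algKL : Algebra (K ⊗[k] R) (L ⊗[k] R) :=
  (Algebra.TensorProduct.map (IsScalarTower.toAlgHom k K L) (AlgHom.id k R)).toRingHom.toAlgebra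

attribute [local instance] algKL

variable {k K L R}

theorem smul_def' (c : K ⊗[k] R) (y : L ⊗[k] R) :
    c • y = (Algebra.TensorProduct.map (IsScalarTower.toAlgHom k K L) (AlgHom.id k R)) c * y := rfl

theorem tmul_smul_tmul (x : K) (r : R) (l : L) (r' : R) :
    (x ⊗ₜ[k] r : K ⊗[k] R) • (l ⊗ₜ[k] r' : L ⊗[k] R) = (x • l) ⊗ₜ[k] (r * r') := by
  rw [smul_def', Algebra.TensorProduct.map_tmul, Algebra.TensorProduct.tmul_mul_tmul,
    Algebra.smul_def]
  rfl

variable {ι : Type*} [DecidableEq ι] (e : Module.Basis ι K L)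

/-- The `k`-linear coordinate equivalence. -/
noncomputable def thetaK : (L ⊗[k] R) ≃ₗ[k] (ι →₀ (K ⊗[k] R)) :=
  TensorProduct.congr (e.repr.restrictScalars k) (LinearEquiv.refl k R) ≪≫ₗ
    TensorProduct.finsuppLeft k k K R ι

theorem thetaK_tmul (l : L) (r : R) (i : ι) :
    thetaK (k := k) (R := R) e (l ⊗ₜ[k] r) i = e.repr l i ⊗ₜ[k] r := by
  simp [thetaK, TensorProduct.finsuppLeft_apply_tmul_apply]

theorem thetaK_smul (c : K ⊗[k] R) (y : L ⊗[k] R) :
    thetaK (k := k) (R := R) e (c • y) = c • thetaK (k := k) (R := R) e y := by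
  induction c using TensorProduct.induction_on with
  | zero => simp
  | add c1 c2 h1 h2 => rw [add_smul, map_add, h1, h2, add_smul]
  | tmul x r =>
    induction y using TensorProduct.induction_on with
    | zero => simp
    | add y1 y2 h1 h2 => rw [smul_add, map_add, h1, h2, map_add, smul_add]
    | tmul l r' =>
      ext i
      rw [tmul_smul_tmul, thetaK_tmul, Finsupp.smul_apply, thetaK_tmul, map_smul,
        Finsupp.smul_apply, smul_eq_mul, smul_eq_mul, Algebra.TensorProduct.tmul_mul_tmul]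

/-- The basis `e_i ⊗ 1` of `L ⊗ R` over `K ⊗ R`. -/
noncomputable def basisKL : Module.Basis ι (K ⊗[k] R) (L ⊗[k] R) :=
  Module.Basis.ofRepr (LinearEquiv.ofBijective
    ({ toFun := thetaK (k := k) (R := R) e
       map_add' := (thetaK (k := k) (R := R) e).map_add
       map_smul' := thetaK_smul e } : (L ⊗[k] R) →ₗ[K ⊗[k] R] (ι →₀ (K ⊗[k] R)))
    (thetaK (k := k) (R := R) e).bijective)

theorem basisKL_repr_tmul (l : L) (r : R) (i : ι) :
    (basisKL (k := k) (R := R) e).repr (l ⊗ₜ[k] r) i = e.repr l i ⊗ₜ[k] r :=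
  thetaK_tmul e l r i

theorem basisKL_apply (i : ι) :
    basisKL (k := k) (R := R) e i = e i ⊗ₜ[k] (1 : R) := by
  apply (basisKL (k := k) (R := R) e).repr.injective
  ext j
  rw [Module.Basis.repr_self, basisKL_repr_tmul, Module.Basis.repr_self]
  by_cases h : i = j
  · subst h; simp [Algebra.TensorProduct.one_def]
  · simp [Finsupp.single_eq_of_ne' h]

theorem leftMulMatrix_tmul [Fintype ι] (l : L) (r : R) :
    Algebra.leftMulMatrix (basisKL (k := k) (R := R) e) (l ⊗ₜ[k] r) =
      ((1 : K) ⊗ₜ[k] r : K ⊗[k] R) •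
        (Algebra.leftMulMatrix e l).map (algebraMap K (K ⊗[k] R)) := by
  ext i j
  rw [Algebra.leftMulMatrix_eq_repr_mul, basisKL_apply, Algebra.TensorProduct.tmul_mul_tmul,
    mul_one, basisKL_repr_tmul, Matrix.smul_apply, Matrix.map_apply,
    Algebra.leftMulMatrix_eq_repr_mul, Algebra.TensorProduct.algebraMap_apply, smul_eq_mul,
    Algebra.TensorProduct.tmul_mul_tmul, one_mul, mul_one, Algebra.algebraMap_self,
    RingHom.id_apply]

/-- The left multiplication matrix of a sum of pure tensors. -/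
theorem leftMulMatrix_sum [Fintype ι] {σ : Type*} [Fintype σ] (l : σ → L) (r : σ → R) :
    Algebra.leftMulMatrix (basisKL (k := k) (R := R) e) (∑ j, l j ⊗ₜ[k] r j) =
      ∑ j, ((1 : K) ⊗ₜ[k] r j : K ⊗[k] R) •
        (Algebra.leftMulMatrix e (l j)).map (algebraMap K (K ⊗[k] R)) := by
  rw [map_sum]
  exact Finset.sum_congr rfl (fun j _ => leftMulMatrix_tmul e (l j) (r j))

end Groth.Agent.Lib.Helper26.NrmC
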