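import Mathlib
import Groth.Agent.Lib.Helper26.NrmB
import Groth.Agent.Lib.Helper26.NrmC

set_option autoImplicit false
set_option linter.unusedVariables false
set_option linter.style.haveILetI false
set_option linter.unusedSectionVars false
set_option linter.unusedSimpArgs false

namespace Groth.Agent.Lib.Helper26.NrmD

open TensorProduct

universe u

theorem exists_fin_sum_tmul {k M N : Type*} [CommRing k] [AddCommGroup M] [Module k M]
    [AddCommGroup N] [Module k N] (x : M ⊗[k] N) :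
    ∃ (m : ℕ) (a : Fin m → M) (c : Fin m → N), x = ∑ j, a j ⊗ₜ[k] c j := by
  induction x using TensorProduct.induction_on with
  | zero => exact ⟨0, Fin.elim0, Fin.elim0, by simp⟩
  | tmul a c => exact ⟨1, fun _ => a, fun _ => c, by simp⟩
  | add x y hx hy =>
    obtain ⟨m1, a1, c1, rfl⟩ := hx
    obtain ⟨m2, a2, c2, rfl⟩ := hy
    refine ⟨m1 + m2, Fin.append a1 a2, Fin.append c1 c2, ?_⟩
    rw [Fin.sum_univ_add]
    simp

attribute [local instance] NrmC.algKL

variable (k A K L R : Type u) [Field k]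
    [CommRing A] [IsDomain A] [IsIntegrallyClosed A] [Algebra k A]
    [Field K] [Algebra A K] [IsFractionRing A K] [Algebra k K] [IsScalarTower k A K]
    [Field L] [Algebra K L] [FiniteDimensional K L] [Algebra A L] [IsScalarTower A K L]
    [Algebra k L] [IsScalarTower k K L] [IsScalarTower k A L]
    [CommRing R] [Algebra k R]

/-- The map `B ⊗ R → L ⊗ R`. -/
noncomputable abbrev psiB : (integralClosure A L) ⊗[k] R →ₐ[k] L ⊗[k] R :=
  Algebra.TensorProduct.map ((integralClosure A L).val.restrictScalars k) (AlgHom.id k R)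

/-- The map `A ⊗ R → K ⊗ R`. -/
noncomputable abbrev phiA : A ⊗[k] R →ₐ[k] K ⊗[k] R :=
  Algebra.TensorProduct.map (IsScalarTower.toAlgHom k A K) (AlgHom.id k R)

variable {k A K L R}

theorem det_sum_eq_aeval {ι σ : Type*} [Fintype ι] [DecidableEq ι] [Fintype σ]
    (e : Module.Basis ι K L) (l : σ → L) (r : σ → R) :
    (∑ j, ((1 : K) ⊗ₜ[k] r j : K ⊗[k] R) •
        (Algebra.leftMulMatrix e (l j)).map (algebraMap K (K ⊗[k] R))).det =
      MvPolynomial.aeval (fun j => ((1 : K) ⊗ₜ[k] r j : K ⊗[k] R)) (NrmB.genMat e l).det := by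
  rw [AlgHom.map_det]
  congr 1
  rw [NrmB.genMat, map_sum]
  refine Finset.sum_congr rfl (fun j _ => ?_)
  ext i i'
  simp [Matrix.smul_apply, MvPolynomial.aeval_C]

theorem aeval_map_mem_range {σ : Type*} [Fintype σ] (r : σ → R) (D0 : MvPolynomial σ A) :
    MvPolynomial.aeval (fun j => ((1 : K) ⊗ₜ[k] r j : K ⊗[k] R))
      (MvPolynomial.map (algebraMap A K) D0) ∈ Set.range (phiA k A K R) := by
  refine ⟨MvPolynomial.eval₂ (algebraMap A (A ⊗[k] R)) (fun j => ((1 : A) ⊗ₜ[k] r j : A ⊗[k] R)) D0, ?_⟩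
  have h1 : (phiA k A K R) (MvPolynomial.eval₂ (algebraMap A (A ⊗[k] R))
      (fun j => ((1 : A) ⊗ₜ[k] r j : A ⊗[k] R)) D0) =
      (phiA k A K R).toRingHom (MvPolynomial.eval₂ (algebraMap A (A ⊗[k] R))
      (fun j => ((1 : A) ⊗ₜ[k] r j : A ⊗[k] R)) D0) := rfl
  rw [h1, MvPolynomial.eval₂_comp_left, MvPolynomial.aeval_def, MvPolynomial.eval₂_map]
  have h2 : (phiA k A K R).toRingHom.comp (algebraMap A (A ⊗[k] R)) =
      (algebraMap K (K ⊗[k] R)).comp (algebraMap A K) := by
    refine RingHom.ext (fun a => ?_)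
    simp [Algebra.TensorProduct.algebraMap_apply]
  have h3 : ((phiA k A K R).toRingHom ∘ fun j => ((1 : A) ⊗ₜ[k] r j : A ⊗[k] R)) =
      fun j => ((1 : K) ⊗ₜ[k] r j : K ⊗[k] R) := by
    funext j
    simp
  rw [h2, h3]

theorem norm_mem_range (b : (integralClosure A L) ⊗[k] R) :
    Algebra.norm (K ⊗[k] R) (psiB k A L R b) ∈ Set.range (phiA k A K R) := by
  classical
  obtain ⟨m, bb, r, rfl⟩ := exists_fin_sum_tmul b
  let e := Module.finBasis K L
  have h1 : psiB k A L R (∑ j, bb j ⊗ₜ[k] r j) = ∑ j, ((bb j : L)) ⊗ₜ[k] r j := by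
    rw [map_sum]
    exact Finset.sum_congr rfl (fun j _ => by simp)
  rw [h1, Algebra.norm_eq_matrix_det (NrmC.basisKL (k := k) (R := R) e), NrmC.leftMulMatrix_sum,
    det_sum_eq_aeval]
  obtain ⟨D0, hD0⟩ := NrmB.det_genMat_mem_range (A := A) e (fun j => ((bb j : L)))
    (fun j => (bb j).2)
  rw [← hD0]
  exact aeval_map_mem_range r D0

end Groth.Agent.Lib.Helper26.NrmD
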