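import Mathlib
import Groth.Agent.Lib.Helper9.McCoy
import Groth.Agent.Lib.Helper26.NrmD

set_option autoImplicit false
set_option linter.unusedVariables false
set_option linter.style.haveILetI false
set_option linter.unusedSectionVars false
set_option linter.unusedSimpArgs false

namespace Groth.Agent.Lib.Helper26.NrmE

open Matrix

/-- McCoy for square matrices: injective implies regular determinant. -/
theorem det_isRegular_of_injective {S : Type*} [CommRing S] {n : ℕ} (M : Matrix (Fin n) (Fin n) S)
    (h : Function.Injective (Matrix.mulVecLin M)) : IsRegular M.det := by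
  have hann := Groth.Agent.Lib.Helper9.McCoy.annihilator_eq_bot_of_injective M h
  have hleft : IsLeftRegular M.det := by
    intro a b hab
    have hab' : (a - b) * M.det = 0 := by
      rw [sub_mul, mul_comm a, mul_comm b]; exact sub_eq_zero.mpr hab
    have hmem : a - b ∈ (CAlgX.minorIdeal M n).annihilator := by
      rw [Submodule.mem_annihilator]
      intro x hx
      rw [smul_eq_mul]
      refine Submodule.span_induction (p := fun x _ => (a - b) * x = 0) ?_ (by simp)
        (fun x y _ _ hx hy => by rw [mul_add, hx, hy, add_zero])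
        (fun c x _ hx => by rw [smul_eq_mul, mul_left_comm, hx, mul_zero]) hx
      rintro x ⟨⟨s, t⟩, rfl⟩
      change (a - b) * (M.submatrix s t).det = 0
      by_cases hs : Function.Injective s
      · by_cases ht : Function.Injective t
        · have hs' : Function.Bijective s := Finite.injective_iff_bijective.mp hs
          have ht' : Function.Bijective t := Finite.injective_iff_bijective.mp ht
          let σs := Equiv.ofBijective s hs'
          let σt := Equiv.ofBijective t ht'
          have : M.submatrix s t = (M.submatrix σs id).submatrix id σt := by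
            ext i j; simp [σs, σt]
          rw [this, Matrix.det_permute', Matrix.det_permute, mul_left_comm, mul_left_comm (a - b),
            hab', mul_zero, mul_zero]
        · rw [Groth.Agent.Lib.Helper9.McCoy.det_submatrix_eq_zero_of_not_injective M s t ht, mul_zero]
      · have : (M.submatrix s t).det = 0 := by
          rw [← Matrix.det_transpose, Matrix.transpose_submatrix]
          exact Groth.Agent.Lib.Helper9.McCoy.det_submatrix_eq_zero_of_not_injective Mᵀ t s hs
        rw [this, mul_zero]
    rw [hann, Submodule.mem_bot] at hmem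
    exact sub_eq_zero.mp hmem
  exact ⟨hleft, fun a b hab => hleft (by simpa [mul_comm] using hab)⟩

open TensorProduct NrmD

universe u

attribute [local instance] NrmC.algKL

variable {k A K L R : Type u} [Field k]
    [CommRing A] [IsDomain A] [IsIntegrallyClosed A] [Algebra k A]
    [Field K] [Algebra A K] [IsFractionRing A K] [Algebra k K] [IsScalarTower k A K]
    [Field L] [Algebra K L] [FiniteDimensional K L] [Algebra A L] [IsScalarTower A K L]
    [Algebra k L] [IsScalarTower k K L] [IsScalarTower k A L]
    [CommRing R] [Algebra k R]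

theorem psiB_injective : Function.Injective (psiB k A L R) := by
  have h : Function.Injective
      (LinearMap.rTensor R (((integralClosure A L).val.restrictScalars k).toLinearMap)) :=
    Module.Flat.rTensor_preserves_injective_linearMap _ Subtype.val_injective
  intro x y hxy
  apply h
  have hh : ∀ z, LinearMap.rTensor R (((integralClosure A L).val.restrictScalars k).toLinearMap) z =
      psiB k A L R z := by
    intro z
    induction z using TensorProduct.induction_on with
    | zero => simp
    | tmul a c => simp
    | add a c ha hc => rw [map_add, map_add, ha, hc]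
  rw [hh, hh, hxy]

theorem exists_denominator (y : L ⊗[k] R) :
    ∃ s : A, s ≠ 0 ∧ ∃ y' : (integralClosure A L) ⊗[k] R,
      psiB k A L R y' = ((algebraMap A K s) ⊗ₜ[k] (1 : R) : K ⊗[k] R) • y := by
  induction y using TensorProduct.induction_on with
  | zero => exact ⟨1, one_ne_zero, 0, by simp⟩
  | tmul l r =>
    have halg : IsAlgebraic A l := by
      have : IsAlgebraic K l := Algebra.IsAlgebraic.isAlgebraic l
      exact (IsFractionRing.isAlgebraic_iff A K L).mpr this
    obtain ⟨s, hs0, hs⟩ := halg.exists_integral_multiple
    refine ⟨s, hs0, (⟨s • l, hs⟩ : integralClosure A L) ⊗ₜ[k] r, ?_⟩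
    rw [NrmC.tmul_smul_tmul, one_mul]
    simp [algebraMap_smul]
  | add y1 y2 h1 h2 =>
    obtain ⟨s1, hs1, y1', hy1⟩ := h1
    obtain ⟨s2, hs2, y2', hy2⟩ := h2
    refine ⟨s1 * s2, mul_ne_zero hs1 hs2,
      ((algebraMap A (integralClosure A L) s2) ⊗ₜ[k] (1 : R)) * y1' +
      ((algebraMap A (integralClosure A L) s1) ⊗ₜ[k] (1 : R)) * y2', ?_⟩
    have hA : ∀ s : A, ∀ z : L ⊗[k] R, psiB k A L R ((algebraMap A (integralClosure A L) s) ⊗ₜ[k] (1 : R)) * z =
        ((algebraMap A K s) ⊗ₜ[k] (1 : R) : K ⊗[k] R) • z := by
      intro s z
      rw [NrmC.smul_def']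
      congr 1
      simp only [Algebra.TensorProduct.map_tmul, AlgHom.coe_restrictScalars', Subalgebra.coe_val,
        AlgHom.coe_id, id_eq, IsScalarTower.coe_toAlgHom']
      rw [← IsScalarTower.algebraMap_apply A K L]
      rfl
    rw [map_add, map_mul, map_mul, hA, hA, hy1, hy2, smul_add, smul_smul, smul_smul,
      Algebra.TensorProduct.tmul_mul_tmul, Algebra.TensorProduct.tmul_mul_tmul, mul_one,
      ← map_mul, ← map_mul, mul_comm s2 s1]

theorem regular_iff (b : (integralClosure A L) ⊗[k] R) :
    IsRegular b ↔ IsRegular (Algebra.norm (K ⊗[k] R) (psiB k A L R b)) := by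
  classical
  let e := Module.finBasis K L
  set E := NrmC.basisKL (k := k) (R := R) e with hE
  rw [Algebra.norm_eq_matrix_det E]
  set M := Algebra.leftMulMatrix E (psiB k A L R b) with hM
  have hkey : ∀ y : L ⊗[k] R, M *ᵥ (E.repr y) = E.repr (psiB k A L R b * y) := fun y =>
    Algebra.leftMulMatrix_mulVec_repr E _ y
  constructor
  · intro hb
    apply det_isRegular_of_injective
    rw [injective_iff_map_eq_zero]
    intro c hc
    rw [Matrix.mulVecLin_apply] at hc
    obtain ⟨y, rfl⟩ : ∃ y, c = E.repr y := ⟨E.equivFun.symm c,
      (E.equivFun.apply_symm_apply c).symm⟩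
    rw [hkey] at hc
    have hc' : psiB k A L R b * y = 0 := by
      apply E.repr.injective
      rw [map_zero]
      exact DFunLike.coe_injective hc
    obtain ⟨s, hs0, y', hy'⟩ := exists_denominator (A := A) (K := K) y
    have h1 : psiB k A L R (b * y') = 0 := by
      rw [map_mul, hy', mul_smul_comm, hc', smul_zero]
    have h2 : b * y' = 0 := psiB_injective (by rw [h1, map_zero])
    have h3 : y' = 0 := hb.left (by change b * y' = b * 0; rw [h2, mul_zero])
    rw [h3, map_zero] at hy'
    have hsK : algebraMap A K s ≠ 0 := by
      rw [Ne, map_eq_zero_iff _ (IsFractionRing.injective A K)]; exact hs0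
    have h4 : y = (((algebraMap A K s)⁻¹ ⊗ₜ[k] (1 : R) : K ⊗[k] R) *
        ((algebraMap A K s) ⊗ₜ[k] (1 : R) : K ⊗[k] R)) • y := by
      rw [Algebra.TensorProduct.tmul_mul_tmul, inv_mul_cancel₀ hsK, mul_one,
        ← Algebra.TensorProduct.one_def, one_smul]
    rw [h4, mul_smul, ← hy', smul_zero, map_zero]
    rfl
  · intro hdet
    have hleft : IsLeftRegular b := by
      intro y1 y2 h12
      have hz : b * (y1 - y2) = 0 := by rw [mul_sub]; exact sub_eq_zero.mpr h12
      have h1 : M *ᵥ (E.repr (psiB k A L R (y1 - y2))) = 0 := by
        rw [hkey, ← map_mul, hz, map_zero, map_zero]; rfl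
      have h2 : M.det • (⇑(E.repr (psiB k A L R (y1 - y2))) : Fin _ → K ⊗[k] R) = 0 := by
        have := congrArg (fun v => M.adjugate *ᵥ v) h1
        simp only [Matrix.mulVec_mulVec, Matrix.adjugate_mul, Matrix.mulVec_zero,
          Matrix.smul_mulVec, Matrix.one_mulVec] at this
        exact this
      have h3 : E.repr (psiB k A L R (y1 - y2)) = 0 := by
        ext i
        have := congrFun h2 i
        rw [Pi.smul_apply, smul_eq_mul, Pi.zero_apply] at this
        exact hdet.left (by
          change M.det * _ = M.det * (0 : _ →₀ _) i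
          rw [this, Finsupp.zero_apply, mul_zero])
      have h4 : psiB k A L R (y1 - y2) = 0 := by
        apply E.repr.injective; rw [h3, map_zero]
      have h5 : y1 - y2 = 0 := psiB_injective (by rw [h4, map_zero])
      exact sub_eq_zero.mp h5
    exact ⟨hleft, fun a c hac => hleft (by simpa [mul_comm] using hac)⟩

theorem main (k A K L R : Type u) [Field k]
    [CommRing A] [IsDomain A] [IsIntegrallyClosed A] [Algebra k A]
    [Field K] [Algebra A K] [IsFractionRing A K] [Algebra k K] [IsScalarTower k A K]
    [Field L] [Algebra K L] [FiniteDimensional K L] [Algebra A L] [IsScalarTower A K L]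
    [Algebra k L] [IsScalarTower k K L] [IsScalarTower k A L]
    [CommRing R] [Algebra k R] :
    Module.Free (K ⊗[k] R) (L ⊗[k] R) ∧ Module.Finite (K ⊗[k] R) (L ⊗[k] R) ∧
      ∀ b : (integralClosure A L) ⊗[k] R,
        Algebra.norm (K ⊗[k] R) (psiB k A L R b) ∈ Set.range (phiA k A K R) ∧
        (IsRegular b ↔ IsRegular (Algebra.norm (K ⊗[k] R) (psiB k A L R b))) := by
  classical
  let E := NrmC.basisKL (k := k) (R := R) (Module.finBasis K L)
  exact ⟨Module.Free.of_basis E, Module.Finite.of_basis E,
    fun b => ⟨norm_mem_range b, regular_iff b⟩⟩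

end Groth.Agent.Lib.Helper26.NrmE
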