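import Groth.Agent.Lib.Helper26.NumType
import Groth.Agent.S2173
import Groth.Agent.S7316
import Groth.Agent.S7317

/-!
# Minimal numerical types of genus one consist of `(-2)`-indices
-/

set_option autoImplicit false
open Finset Models

namespace Groth.Agent.Lib.Helper26.NumType

variable {n : ℕ} (T : NumericalType n)

/-- In a minimal numerical type of genus one on more than one index, every index is a
`(-2)`-index. -/
theorem isMinusTwo_of_isMinimal_of_genus_one (hn : 1 < n) (hmin : T.IsMinimal) (hg : T.genus = 1)
    (i : Fin n) : T.IsMinusTwo i := by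
  have heven := Groth.Agent.S2173.result T
  obtain ⟨c, hc⟩ := heven
  have hsum : ∑ i, T.m i * (2 * T.w i * (T.g i - 1) - T.a i i) = 0 := by
    unfold NumericalType.genus at hg
    rw [hc, Int.mul_ediv_cancel_left _ (by norm_num : (2 : ℤ) ≠ 0)] at hg
    have h1 : ∑ i, T.m i * (2 * T.w i * (T.g i - 1) - T.a i i) =
        2 * ∑ i, T.m i * T.w i * (T.g i - 1) - ∑ i, T.m i * T.a i i := by
      rw [Finset.mul_sum, ← Finset.sum_sub_distrib]
      refine Finset.sum_congr rfl (fun i _ => ?_)
      ring
    rw [h1, hc]
    linarith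
  have hnonneg : ∀ j, 0 ≤ T.m j * (2 * T.w j * (T.g j - 1) - T.a j j) := by
    intro j
    by_contra hcon
    push Not at hcon
    exact hmin j (Groth.Agent.S7316.result T hn j hcon)
  have hzero := (Finset.sum_eq_zero_iff_of_nonneg (fun j _ => hnonneg j)).1 hsum i (Finset.mem_univ i)
  exact Groth.Agent.S7317.result T hn i hzero

end Groth.Agent.Lib.Helper26.NumType
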