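import Mathlib
import Groth.Prelude.Def_ArtFun3

set_option autoImplicit false
universe u v
open CategoryTheory
open scoped TensorProduct
open ArtFun ArtFun.Art

namespace Groth.Agent.Lib.Helper26.ObsTiny

section linalg

variable {k : Type*} [Field k] {V J : Type*} [AddCommGroup V] [Module k V]
  [AddCommGroup J] [Module k J]

lemma mem_range_rTensor_of_forall (Ω : Submodule k V) (ω : V ⊗[k] J)
    (h : ∀ l : J →ₗ[k] k, TensorProduct.rid k V (LinearMap.lTensor V l ω) ∈ Ω) :
    ω ∈ LinearMap.range (LinearMap.rTensor J Ω.subtype) := by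
  classical
  let b := Module.Basis.ofVectorSpace k J
  set m := TensorProduct.equivFinsuppOfBasisRight b ω with hm
  have hω : ω = m.sum fun i v => v ⊗ₜ[k] b i := by
    rw [← TensorProduct.equivFinsuppOfBasisRight_symm_apply, hm, LinearEquiv.symm_apply_apply]
  have hmi : ∀ i, m i ∈ Ω := by
    intro i
    rw [hm, TensorProduct.equivFinsuppOfBasisRight_apply]
    exact h _
  rw [hω]
  apply Submodule.sum_mem
  intro i _
  exact ⟨(⟨m i, hmi i⟩ : Ω) ⊗ₜ[k] b i, by simp⟩

end linalg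

section art

variable {k : Type u} [Field k] {C' C : Art k k} (p : C' ⟶ C) (hp : IsSemismallExt p)
  (l : ↥(RingHom.ker p.toAlgHom) →ₗ[k] k)

include hp

lemma mul_eq_smul (c x : C') (hx : x ∈ RingHom.ker p.toAlgHom) : c * x = C'.res c • x := by
  have h1 : c - algebraMap k C' (C'.res c) ∈ IsLocalRing.maximalIdeal C' := by
    rw [mem_maximalIdeal_iff, map_sub, AlgHom.commutes, Algebra.algebraMap_self_apply, sub_self]
  have h2 : (c - algebraMap k C' (C'.res c)) * x ∈
      IsLocalRing.maximalIdeal C' * RingHom.ker p.toAlgHom := Ideal.mul_mem_mul h1 hx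
  rw [hp.2, Ideal.mem_bot, sub_mul, sub_eq_zero] at h2
  rw [h2, Algebra.smul_def]

/-- the kernel of the functional `l`, as an ideal of `C'`. -/
def K : Ideal C' where
  carrier := {x | ∃ h : x ∈ RingHom.ker p.toAlgHom, l ⟨x, h⟩ = 0}
  add_mem' := by
    rintro x y ⟨hx, hx'⟩ ⟨hy, hy'⟩
    refine ⟨Ideal.add_mem _ hx hy, ?_⟩
    have : (⟨x + y, Ideal.add_mem _ hx hy⟩ : ↥(RingHom.ker p.toAlgHom)) = ⟨x, hx⟩ + ⟨y, hy⟩ := rfl
    rw [this, map_add, hx', hy', add_zero]
  zero_mem' := ⟨Ideal.zero_mem _, by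
    have : (⟨0, Ideal.zero_mem _⟩ : ↥(RingHom.ker p.toAlgHom)) = 0 := rfl
    rw [this, map_zero]⟩
  smul_mem' := by
    rintro c x ⟨hx, hx'⟩
    refine ⟨Ideal.mul_mem_left _ c hx, ?_⟩
    have : (⟨c • x, Ideal.mul_mem_left _ c hx⟩ : ↥(RingHom.ker p.toAlgHom)) =
        C'.res c • ⟨x, hx⟩ := by
      apply Subtype.ext
      show c * x = C'.res c • x
      exact mul_eq_smul p hp c x hx
    rw [this, map_smul, hx', smul_zero]

lemma mem_K (x : C') : x ∈ K p hp l ↔ ∃ h : x ∈ RingHom.ker p.toAlgHom, l ⟨x, h⟩ = 0 := Iff.rfl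

lemma K_le_ker : K p hp l ≤ RingHom.ker p.toAlgHom := fun _ hx => hx.1

omit hp in
lemma ker_le_max : RingHom.ker p.toAlgHom ≤ IsLocalRing.maximalIdeal C' := by
  intro x hx
  rw [mem_maximalIdeal_iff, ← res_app p]
  have : p.toAlgHom x = 0 := hx
  show C.res (p.toAlgHom x) = 0
  rw [this, map_zero]

lemma K_le_max : K p hp l ≤ IsLocalRing.maximalIdeal C' :=
  (K_le_ker p hp l).trans (ker_le_max p)

end art

section main

variable {k : Type u} [Field k] {F : Art k k ⥤ Type v} {V : Type u} [AddCommGroup V] [Module k V]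
  (T : ObsTheory F V) {C' C : Art k k} (p : C' ⟶ C) (hp : IsSemismallExt p) (u : F.obj C)

lemma key (l : ↥(RingHom.ker p.toAlgHom) →ₗ[k] k) (hl : l ≠ 0) :
    ∃ (B' B : ArtFun.Art k k) (t : B' ⟶ B) (ht : ArtFun.Art.IsSmallExt t)
      (w : F.obj B) (φ : ↥(RingHom.ker t.toAlgHom) ≃ₗ[k] k),
      TensorProduct.rid k V (LinearMap.lTensor V l (T.obs p hp u)) =
        TensorProduct.rid k V (LinearMap.lTensor V φ.toLinearMap (T.obs t ht.isSemismallExt w)) := by
  -- a vector with `l x1 = 1`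
  obtain ⟨x0, hx0⟩ : ∃ x0, l x0 ≠ 0 := by
    by_contra h
    push Not at h
    exact hl (LinearMap.ext h)
  set x1 := (l x0)⁻¹ • x0 with hx1def
  have hx1 : l x1 = 1 := by
    rw [hx1def, map_smul, smul_eq_mul, inv_mul_cancel₀ hx0]
  set Kl := K p hp l with hKl
  have hK : Kl ≤ IsLocalRing.maximalIdeal C' := K_le_max p hp l
  have hKJ : Kl ≤ RingHom.ker p.toAlgHom := K_le_ker p hp l
  set t := quotFactor hK p hKJ with htdef
  set κ := kerToQuot hK p hKJ with hκdef
  have hκval : ∀ j, ((κ j : ↥(RingHom.ker t.toAlgHom)) : quot C' Kl hK) =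
      Ideal.Quotient.mk Kl (j : C') := fun _ => rfl
  set y0 := κ x1 with hy0def
  have hκ0 : ∀ d : ↥(RingHom.ker p.toAlgHom), l d = 0 → κ d = 0 := by
    intro d hd
    apply Subtype.ext
    rw [hκval]
    show Ideal.Quotient.mk Kl (d : C') = 0
    rw [Ideal.Quotient.eq_zero_iff_mem]
    exact ⟨d.2, hd⟩
  have hy0 : y0 ≠ 0 := by
    intro h
    have h' := congrArg Subtype.val h
    rw [hy0def, hκval] at h'
    have h'' : Ideal.Quotient.mk Kl (x1 : C') = 0 := h'
    rw [Ideal.Quotient.eq_zero_iff_mem] at h''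
    obtain ⟨h1, h2⟩ := h''
    have : (⟨(x1 : C'), h1⟩ : ↥(RingHom.ker p.toAlgHom)) = x1 := rfl
    rw [this, hx1] at h2
    exact one_ne_zero h2
  have hκ : ∀ j, κ j = l j • y0 := by
    intro j
    have hd : l (j - l j • x1) = 0 := by
      rw [map_sub, map_smul, hx1, smul_eq_mul, mul_one, sub_self]
    have := hκ0 _ hd
    rw [map_sub, map_smul, sub_eq_zero] at this
    exact this
  have htmk : ∀ c : C', t.toAlgHom (Ideal.Quotient.mk Kl c) = p.toAlgHom c := fun _ => rfl
  have hκsurj : ∀ y : ↥(RingHom.ker t.toAlgHom), ∃ j, κ j = y := by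
    intro y
    obtain ⟨c, hc⟩ := Ideal.Quotient.mk_surjective (y : quot C' Kl hK)
    have hcJ : c ∈ RingHom.ker p.toAlgHom := by
      rw [RingHom.mem_ker]
      have := y.2
      rw [RingHom.mem_ker, ← hc] at this
      exact this
    refine ⟨⟨c, hcJ⟩, ?_⟩
    apply Subtype.ext
    rw [hκval]
    exact hc
  have ht : IsSmallExt t := by
    refine ⟨?_, ?_, ?_, ?_⟩
    · intro d
      obtain ⟨c, hc⟩ := hp.1 d
      exact ⟨Ideal.Quotient.mk Kl c, hc⟩
    · intro h
      apply hy0
      apply Subtype.ext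
      have := h.le y0.2
      rw [Ideal.mem_bot] at this
      exact this
    · refine ⟨⟨(y0 : quot C' Kl hK), ?_⟩⟩
      apply le_antisymm
      · intro y hy
        obtain ⟨j, hj⟩ := hκsurj ⟨y, hy⟩
        have : y = (l j • y0 : ↥(RingHom.ker t.toAlgHom)) := by
          rw [← hκ, hj]
        rw [this]
        show (l j • (y0 : quot C' Kl hK)) ∈ _
        rw [Algebra.smul_def]
        exact Ideal.mul_mem_left _ _ (Ideal.mem_span_singleton_self _)
      · rw [Ideal.submodule_span_eq, Ideal.span_le, Set.singleton_subset_iff]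
        exact y0.2
    · rw [← le_bot_iff, Ideal.mul_le]
      intro a ha b hb
      obtain ⟨c, rfl⟩ := Ideal.Quotient.mk_surjective a
      obtain ⟨j, hj⟩ := hκsurj ⟨b, hb⟩
      have hb' : b = Ideal.Quotient.mk Kl (j : C') := by
        rw [← hκval, hj]
      have hc : c ∈ IsLocalRing.maximalIdeal C' := by
        have h1 := (mem_maximalIdeal_iff (quot C' Kl hK) (Ideal.Quotient.mk Kl c)).1 ha
        exact (mem_maximalIdeal_iff C' c).2 h1
      have hcj : c * (j : C') ∈ IsLocalRing.maximalIdeal C' * RingHom.ker p.toAlgHom :=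
        Ideal.mul_mem_mul hc j.2
      rw [hp.2, Ideal.mem_bot] at hcj
      rw [Ideal.mem_bot, hb']
      have h3 : Ideal.Quotient.mk Kl (c * (j : C')) = 0 := by rw [hcj, map_zero]
      rw [map_mul] at h3
      exact h3
  let ψ : k →ₗ[k] ↥(RingHom.ker t.toAlgHom) := LinearMap.toSpanSingleton k _ y0
  have hψ : Function.Bijective ψ := by
    constructor
    · intro a b hab
      exact smul_left_injective k hy0 hab
    · intro y
      obtain ⟨j, hj⟩ := hκsurj y
      exact ⟨l j, by rw [← hj, hκ]; rfl⟩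
  let φ : ↥(RingHom.ker t.toAlgHom) ≃ₗ[k] k := (LinearEquiv.ofBijective ψ hψ).symm
  have hφκ : φ.toLinearMap ∘ₗ (κ.restrictScalars k) = l := by
    ext j
    show φ (κ j) = l j
    rw [LinearEquiv.symm_apply_eq, hκ]
    rfl
  refine ⟨quot C' Kl hK, C, t, ht, u, φ, ?_⟩
  rw [T.obs_quot p hp Kl hK hKJ ht.isSemismallExt u, ← LinearMap.lTensor_comp_apply, hφκ]

theorem main :
    T.obs p hp u ∈ LinearMap.range (LinearMap.rTensor (↥(RingHom.ker p.toAlgHom))
      (Submodule.span k {v : V | ∃ (B' B : ArtFun.Art k k) (t : B' ⟶ B) (ht : ArtFun.Art.IsSmallExt t)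
          (w : F.obj B) (φ : ↥(RingHom.ker t.toAlgHom) ≃ₗ[k] k),
          v = TensorProduct.rid k V (LinearMap.lTensor V φ.toLinearMap (T.obs t ht.isSemismallExt w))}).subtype) := by
  apply mem_range_rTensor_of_forall
  intro l
  by_cases hl : l = 0
  · rw [hl, LinearMap.lTensor_zero, LinearMap.zero_apply, map_zero]
    exact Submodule.zero_mem _
  · exact Submodule.subset_span (key T p hp u l hl)

end main

end Groth.Agent.Lib.Helper26.ObsTiny
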