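import Mathlib

set_option autoImplicit false
set_option linter.style.haveILetI false
set_option linter.unusedSectionVars false
set_option linter.unusedVariables false
set_option linter.unusedSimpArgs false
set_option linter.unnecessarySeqFocus false

namespace Groth.Agent.Lib.Helper26.OmegaCoker

open Function IsLocalRing

universe u

variable {A : Type u} [CommRing A] {N1 N2 M : Type u} [AddCommGroup N1] [Module A N1]
  [AddCommGroup N2] [Module A N2] [AddCommGroup M] [Module A M]
  (g : Module.Basis (Fin 1) A N1) (e : Module.Basis (Fin 2) A N2)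
  (φ : N1 →ₗ[A] N2) (ψ : N2 →ₗ[A] M) (hex : Function.Exact φ ψ) (hsurj : Surjective ψ)

include g in
theorem exists_smul_gen (n : N1) : ∃ d : A, n = d • g 0 := by
  refine ⟨g.repr n 0, ?_⟩
  conv_lhs => rw [← g.sum_repr n]
  simp

include hex hsurj in
/-- if a coordinate of the generator of the image is a unit, the cokernel is free -/
theorem free_of_isUnit (i j : Fin 2) (hij : i ≠ j) (hi : IsUnit (e.repr (φ (g 0)) i)) :
    Module.Free A M := by
  set a := e.repr (φ (g 0)) with ha
  have hsum : ∀ {X : Type u} [AddCommGroup X] (f : Fin 2 → X), ∑ k, f k = f i + f j := by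
    intro X _ f
    rw [Fin.sum_univ_two]
    fin_cases i <;> fin_cases j <;> simp_all [add_comm]
  have hv : φ (g 0) = a i • e i + a j • e j := by
    conv_lhs => rw [← e.sum_repr (φ (g 0))]
    rw [hsum]
  have hψv : a i • ψ (e i) + a j • ψ (e j) = 0 := by
    rw [← LinearMap.map_smul ψ, ← LinearMap.map_smul ψ, ← map_add, ← hv]
    exact hex.apply_apply_eq_zero (g 0)
  obtain ⟨ui, hui⟩ := hi
  have hei : ψ (e i) = (-(↑ui⁻¹ * a j)) • ψ (e j) := by
    have h1 : a i • ψ (e i) = -(a j • ψ (e j)) := eq_neg_of_add_eq_zero_left hψv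
    have h2 : ψ (e i) = (↑ui⁻¹ : A) • (a i • ψ (e i)) := by
      rw [smul_smul, ← hui, Units.inv_mul, one_smul]
    rw [h2, h1, neg_smul, mul_smul, smul_neg]
  let θ : A →ₗ[A] M := LinearMap.toSpanSingleton A M (ψ (e j))
  have hθsurj : Surjective θ := by
    intro m
    obtain ⟨n, rfl⟩ := hsurj m
    have hn : n = e.repr n i • e i + e.repr n j • e j := by
      conv_lhs => rw [← e.sum_repr n]
      rw [hsum]
    refine ⟨e.repr n i * (-(↑ui⁻¹ * a j)) + e.repr n j, ?_⟩
    change (e.repr n i * (-(↑ui⁻¹ * a j)) + e.repr n j) • ψ (e j) = ψ n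
    conv_rhs => rw [hn, map_add, map_smul, map_smul, hei]
    rw [add_smul, mul_smul]
  have hθinj : Injective θ := by
    rw [injective_iff_map_eq_zero]
    intro c hc
    change c • ψ (e j) = 0 at hc
    rw [← LinearMap.map_smul ψ] at hc
    obtain ⟨n, hn⟩ := (hex (c • e j)).mp hc
    obtain ⟨d, rfl⟩ := exists_smul_gen g n
    rw [map_smul] at hn
    have h1 := congrArg (fun z => e.repr z i) hn
    simp only [map_smul, Finsupp.smul_apply, smul_eq_mul, Module.Basis.repr_self,
      Finsupp.single_eq_of_ne hij, mul_zero] at h1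
    have hd : d = 0 := by
      have : d * a i * ↑ui⁻¹ = 0 := by rw [h1, zero_mul]
      rwa [mul_assoc, ← hui, Units.mul_inv, mul_one] at this
    rw [hd, zero_smul] at hn
    have h2 := congrArg (fun z => e.repr z j) hn
    simp only [map_smul, Finsupp.smul_apply, smul_eq_mul, Module.Basis.repr_self,
      Finsupp.single_eq_same, mul_one, map_zero, Finsupp.zero_apply] at h2
    exact h2.symm
  exact Module.Free.of_equiv (LinearEquiv.ofBijective θ ⟨hθinj, hθsurj⟩)

include hex hsurj in
/-- if the generator of the image has coordinates in a prime `Q` and the cokernel is free at `Q`,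
then the map is zero and the cokernel is free -/
theorem free_of_localized_free [IsDomain A] [IsNoetherianRing A] (Q : Ideal A) [Q.IsPrime]
    (hI : ∀ k, e.repr (φ (g 0)) k ∈ Q)
    (hfree : Module.Free (Localization.AtPrime Q) (LocalizedModule Q.primeCompl M)) :
    Module.Free A M := by
  classical
  set S := Q.primeCompl with hS
  set a := e.repr (φ (g 0)) with ha
  have hv : φ (g 0) = ∑ k, a k • e k := (e.sum_repr (φ (g 0))).symm
  let φQ := LocalizedModule.map S φ
  let ψQ := LocalizedModule.map S ψ
  have hsurjQ : Surjective ψQ := LocalizedModule.map_surjective S ψ hsurj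
  -- the kernel of ψQ is the range of φQ
  have hker : ∀ y, ψQ y = 0 → ∃ x, φQ x = y := by
    intro y hy
    induction y using LocalizedModule.induction_on with
    | h n s =>
      rw [LocalizedModule.map_mk, ← LocalizedModule.zero_mk s, LocalizedModule.mk_eq] at hy
      obtain ⟨c, hc⟩ := hy
      rw [smul_zero, smul_zero] at hc
      have h1 : ψ (((c : A) * (s : A)) • n) = 0 := by
        rw [LinearMap.map_smul, mul_smul]; exact hc
      obtain ⟨n', hn'⟩ := (hex _).mp h1
      refine ⟨LocalizedModule.mk n' (c * s * s), ?_⟩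
      rw [LocalizedModule.map_mk, hn', LocalizedModule.mk_eq]
      refine ⟨1, ?_⟩
      simp only [one_smul, Submonoid.smul_def, Submonoid.coe_mul, smul_smul]
      congr 1
      ring
  -- splitting
  obtain ⟨σ, hσ⟩ := Module.projective_lifting_property ψQ LinearMap.id hsurjQ
  have hσ' : ∀ m, ψQ (σ m) = m := fun m => LinearMap.congr_fun hσ m
  let p : LocalizedModule S N2 →ₗ[Localization.AtPrime Q] LocalizedModule S N2 :=
    LinearMap.id - σ.comp ψQ
  have hp_ker : ∀ x, ψQ (p x) = 0 := by
    intro x
    change ψQ (x - σ (ψQ x)) = 0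
    rw [map_sub, hσ', sub_self]
  have hp_id : ∀ x, ψQ x = 0 → p x = x := by
    intro x hx
    change x - σ (ψQ x) = x
    rw [hx, map_zero, sub_zero]
  set K := LinearMap.ker ψQ with hK
  -- the range of φQ lies in m • ⊤
  have hrange : ∀ x, φQ x ∈ (maximalIdeal (Localization.AtPrime Q)) • K := by
    intro x
    induction x using LocalizedModule.induction_on with
    | h n s =>
      obtain ⟨d, rfl⟩ := exists_smul_gen g n
      have h1 : φQ (LocalizedModule.mk (d • g 0) s) =
          ∑ k, (Localization.mk (d * a k) s : Localization.AtPrime Q) •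
            p (LocalizedModule.mk (e k) 1) := by
        have h2 : φQ (LocalizedModule.mk (d • g 0) s) =
            ∑ k, (Localization.mk (d * a k) s : Localization.AtPrime Q) •
              (LocalizedModule.mk (e k) 1 : LocalizedModule S N2) := by
          change LocalizedModule.map S φ _ = _
          rw [LocalizedModule.map_mk, map_smul, hv, Finset.smul_sum]
          simp only [LocalizedModule.mk_smul_mk, mul_one, smul_smul]
          induction (Finset.univ : Finset (Fin 2)) using Finset.induction_on with
          | empty => simp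
          | insert k t hk ih =>
            rw [Finset.sum_insert hk, Finset.sum_insert hk, ← ih, LocalizedModule.mk_add_mk]
            rw [LocalizedModule.mk_eq]
            refine ⟨1, ?_⟩
            simp only [one_smul, Submonoid.smul_def, Submonoid.coe_mul, smul_add, smul_smul]
            congr 1 <;> ring_nf
        have h3 : ψQ (φQ (LocalizedModule.mk (d • g 0) s)) = 0 := by
          change LocalizedModule.map S ψ (LocalizedModule.map S φ _) = 0
          rw [LocalizedModule.map_mk, LocalizedModule.map_mk, hex.apply_apply_eq_zero,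
            LocalizedModule.zero_mk]
        rw [← hp_id _ h3, h2, map_sum]
        apply Finset.sum_congr rfl
        intro k _
        rw [map_smul]
      rw [h1]
      apply Submodule.sum_mem
      intro k _
      apply Submodule.smul_mem_smul
      · rw [← Localization.AtPrime.map_eq_maximalIdeal]
        have : (Localization.mk (d * a k) s : Localization.AtPrime Q) =
            (Localization.mk d s : Localization.AtPrime Q) *
              algebraMap A (Localization.AtPrime Q) (a k) := by
          rw [← Localization.mk_one_eq_algebraMap, Localization.mk_mul, mul_one]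
        rw [this]
        exact Ideal.mul_mem_left _ _ (Ideal.mem_map_of_mem _ (hI k))
      · exact hp_ker _
  have hKle : K ≤ (maximalIdeal (Localization.AtPrime Q)) • K := by
    intro y hy
    obtain ⟨x, rfl⟩ := hker y hy
    exact hrange x
  haveI : Module.Finite A N2 := Module.Finite.of_basis e
  haveI : IsNoetherian (Localization.AtPrime Q) (LocalizedModule S N2) :=
    isNoetherian_of_isNoetherianRing_of_finite _ _
  have hK0 : K = ⊥ := Submodule.eq_bot_of_le_smul_of_le_jacobson_bot _ K
    (IsNoetherian.noetherian K) hKle (IsLocalRing.maximalIdeal_le_jacobson ⊥)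
  -- φ (g 0) = 0
  have hφQ0 : φQ (LocalizedModule.mk (g 0) 1) = 0 := by
    have : φQ (LocalizedModule.mk (g 0) 1) ∈ K := by
      change ψQ _ = 0
      change LocalizedModule.map S ψ (LocalizedModule.map S φ _) = 0
      rw [LocalizedModule.map_mk, LocalizedModule.map_mk, hex.apply_apply_eq_zero,
        LocalizedModule.zero_mk]
    rw [hK0] at this
    exact this
  have hv0 : φ (g 0) = 0 := by
    change LocalizedModule.map S φ _ = 0 at hφQ0
    rw [LocalizedModule.map_mk, ← LocalizedModule.zero_mk 1, LocalizedModule.mk_eq] at hφQ0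
    obtain ⟨c, hc⟩ := hφQ0
    simp only [one_smul, smul_zero] at hc
    have hc0 : (c : A) ≠ 0 := by
      intro h0
      have := c.2
      rw [h0] at this
      exact this (Ideal.zero_mem Q)
    apply e.repr.injective
    ext k
    have h1 := congrArg (fun z => e.repr z k) hc
    simp only [Submonoid.smul_def, map_smul, Finsupp.smul_apply, smul_eq_mul, map_zero,
      Finsupp.zero_apply] at h1
    rcases mul_eq_zero.mp h1 with h | h
    · exact absurd h hc0
    · simpa using h
  have hφ0 : ∀ n, φ n = 0 := by
    intro n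
    obtain ⟨d, rfl⟩ := exists_smul_gen g n
    rw [map_smul, hv0, smul_zero]
  have hψinj : Injective ψ := by
    rw [injective_iff_map_eq_zero]
    intro n hn
    obtain ⟨n', hn'⟩ := (hex n).mp hn
    rw [← hn', hφ0]
  haveI : Module.Free A N2 := Module.Free.of_basis e
  exact Module.Free.of_equiv (LinearEquiv.ofBijective ψ ⟨hψinj, hsurj⟩)

include g e hex hsurj in
theorem main_abstract [IsDomain A] [IsNoetherianRing A] [IsLocalRing A]
    (hdim : ringKrullDim A = 3) (x : A)
    (h0 : ∀ P : PrimeSpectrum A, x ∈ P.asIdeal → P.asIdeal ≠ maximalIdeal A →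
      Module.Free (Localization.AtPrime P.asIdeal) (LocalizedModule P.asIdeal.primeCompl M))
    (hm : ¬ Module.Free A M) :
    ∃ Q : PrimeSpectrum A, x ∉ Q.asIdeal ∧
      ¬ Module.Free (Localization.AtPrime Q.asIdeal) (LocalizedModule Q.asIdeal.primeCompl M) := by
  classical
  set a := e.repr (φ (g 0)) with ha
  set I : Ideal A := Ideal.span (Set.range a) with hI
  -- all coordinates lie in the maximal ideal
  have ham : ∀ k, a k ∈ maximalIdeal A := by
    intro k
    by_contra hk
    have hunit : IsUnit (a k) := by
      by_contra hnu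
      exact hk hnu
    have hj : ∃ j : Fin 2, k ≠ j := by
      fin_cases k
      · exact ⟨1, by decide⟩
      · exact ⟨0, by decide⟩
    obtain ⟨j, hkj⟩ := hj
    exact hm (free_of_isUnit g e φ ψ hex hsurj k j hkj hunit)
  have hIm : I ≤ maximalIdeal A := by
    rw [hI, Ideal.span_le]
    rintro _ ⟨k, rfl⟩
    exact ham k
  have hItop : I ≠ ⊤ := fun h => (IsLocalRing.maximalIdeal.isMaximal A).ne_top (top_le_iff.mp (h ▸ hIm))
  obtain ⟨Q, hQ⟩ := Ideal.nonempty_minimalPrimes hItop
  haveI hQp : Q.IsPrime := hQ.1.1
  have hIQ : I ≤ Q := hQ.1.2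
  have hht : Q.height ≤ 2 := by
    have h1 := Ideal.height_le_card_of_mem_minimalPrimes_span (Set.finite_range a) (hI ▸ hQ)
    refine h1.trans ?_
    have h2 : (Set.range a).ncard ≤ 2 := by
      rw [← Set.image_univ]
      have := Set.ncard_image_le (f := (a : Fin 2 → A)) (s := Set.univ) (Set.finite_univ)
      simpa using this
    exact_mod_cast h2
  have hQm : Q ≠ maximalIdeal A := by
    intro h
    have h1 : (maximalIdeal A).height = 3 := by
      have := IsLocalRing.maximalIdeal_height_eq_ringKrullDim (R := A)
      rw [hdim] at this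
      have h3 : ((maximalIdeal A).height : WithBot ℕ∞) = ((3 : ℕ∞) : WithBot ℕ∞) := this
      exact WithBot.coe_injective h3
    rw [h, h1] at hht
    norm_num at hht
  have hQnf : ¬ Module.Free (Localization.AtPrime Q) (LocalizedModule Q.primeCompl M) := by
    intro hfree
    exact hm (free_of_localized_free g e φ ψ hex hsurj Q
      (fun k => hIQ (Ideal.subset_span ⟨k, rfl⟩)) hfree)
  refine ⟨⟨Q, hQp⟩, ?_, hQnf⟩
  intro hx
  exact hQnf (h0 ⟨Q, hQp⟩ hx hQm)

open TensorProduct KaehlerDifferential in
theorem main_15100
    (V R A : Type u) [CommRing V] [IsDomain V] [IsDiscreteValuationRing V] [CommRing R] [CommRing A]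
    [IsDomain A] [IsNoetherianRing A] [IsLocalRing A]
    [Algebra V R] [Algebra V A] [Algebra R A] [IsScalarTower V R A]
    (u : V) (hu : Irreducible u) (huA : algebraMap V A u ∈ IsLocalRing.maximalIdeal A)
    (hdimA : ringKrullDim A = 3)
    (hΩA : Module.Free A (Ω[A⁄V])) (hrkA : Module.finrank A (Ω[A⁄V]) = 2)
    (hΩR : Module.Free A (A ⊗[R] Ω[R⁄V])) (hrkR : Module.finrank A (A ⊗[R] Ω[R⁄V]) = 1)
    (h0 : ∀ P : PrimeSpectrum A, algebraMap V A u ∈ P.asIdeal → P.asIdeal ≠ IsLocalRing.maximalIdeal A →
      Module.Free (Localization.AtPrime P.asIdeal) (LocalizedModule P.asIdeal.primeCompl (Ω[A⁄R])))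
    (hm : ¬ Module.Free A (Ω[A⁄R])) :
    ∃ Q : PrimeSpectrum A, algebraMap V A u ∉ Q.asIdeal ∧
      ¬ Module.Free (Localization.AtPrime Q.asIdeal) (LocalizedModule Q.asIdeal.primeCompl (Ω[A⁄R])) := by
  haveI := hΩA
  haveI := hΩR
  haveI : Module.Finite A (Ω[A⁄V]) := Module.finite_of_finrank_pos (by rw [hrkA]; norm_num)
  haveI : Module.Finite A (A ⊗[R] Ω[R⁄V]) := Module.finite_of_finrank_pos (by rw [hrkR]; norm_num)
  let e := Module.finBasisOfFinrankEq A (Ω[A⁄V]) hrkA
  let g := Module.finBasisOfFinrankEq A (A ⊗[R] Ω[R⁄V]) hrkR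
  exact main_abstract g e (KaehlerDifferential.mapBaseChange V R A)
    (KaehlerDifferential.map V R A A) (KaehlerDifferential.exact_mapBaseChange_map V R A)
    (KaehlerDifferential.map_surjective V R A) hdimA (algebraMap V A u) h0 hm

end Groth.Agent.Lib.Helper26.OmegaCoker
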