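import Mathlib
set_option autoImplicit false
set_option linter.style.haveILetI false
universe u
open TensorProduct

namespace Groth.Agent.Lib.Helper26.OmegaStalk

section ker
variable {P B : Type*} [CommRing P] [CommRing B] [Algebra P B]
  (Q : Type*) [AddCommGroup Q] [Module P Q]

lemma ker_mk_of_surjective (h : Function.Surjective (algebraMap P B)) :
    LinearMap.ker (TensorProduct.mk P B Q 1) = (RingHom.ker (algebraMap P B)) • ⊤ := by
  set I := RingHom.ker (algebraMap P B)
  have hex : Function.Exact (Submodule.subtype I) (Algebra.linearMap P B) := by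
    intro x
    constructor
    · intro hx
      exact ⟨⟨x, hx⟩, rfl⟩
    · rintro ⟨y, rfl⟩
      exact y.2
  have h1 := rTensor_exact Q hex h
  ext x
  rw [LinearMap.mem_ker]
  have h2 : TensorProduct.mk P B Q 1 x = (Algebra.linearMap P B).rTensor Q ((TensorProduct.lid P Q).symm x) := by
    simp
  rw [h2, h1]
  constructor
  · rintro ⟨y, hy⟩
    have key : ∀ y : I ⊗[P] Q, TensorProduct.lid P Q ((Submodule.subtype I).rTensor Q y) ∈
        (I • ⊤ : Submodule P Q) := by
      intro y
      induction y with
      | zero => simp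
      | tmul i z =>
        simp only [LinearMap.rTensor_tmul, Submodule.subtype_apply, TensorProduct.lid_tmul]
        exact Submodule.smul_mem_smul i.2 Submodule.mem_top
      | add a b ha hb =>
        rw [map_add, map_add]
        exact add_mem ha hb
    have : x = TensorProduct.lid P Q ((Submodule.subtype I).rTensor Q y) := by
      rw [hy]; simp
    rw [this]
    exact key y
  · intro hx
    refine Submodule.smul_induction_on hx ?_ ?_
    · intro i hi z _
      refine ⟨(⟨i, hi⟩ : I) ⊗ₜ z, ?_⟩
      simp only [LinearMap.rTensor_tmul, Submodule.subtype_apply, TensorProduct.lid_symm_apply,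
        map_smul]
      rw [TensorProduct.smul_tmul', smul_eq_mul, mul_one]
    · rintro a b ⟨a', ha'⟩ ⟨b', hb'⟩
      exact ⟨a' + b', by rw [map_add, ha', hb', map_add]⟩

end ker

section kermap
variable (A : Type*) {P B : Type*} [CommRing A] [CommRing P] [CommRing B] [Algebra A P] [Algebra A B]
  [Algebra P B] [IsScalarTower A P B]

open KaehlerDifferential in
lemma mem_of_map_eq_zero (h : Function.Surjective (algebraMap P B)) (η : Ω[P⁄A])
    (hη : KaehlerDifferential.map A A P B η = 0) :
    η ∈ (RingHom.ker (algebraMap P B)) • (⊤ : Submodule P Ω[P⁄A]) ⊔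
      Submodule.span P ((D A P) '' (RingHom.ker (algebraMap P B) : Set P)) := by
  have h1 : mapBaseChange A P B (1 ⊗ₜ η) = 0 := by
    rw [mapBaseChange_tmul, hη, smul_zero]
  have h2 : (1 : B) ⊗ₜ[P] η ∈ (LinearMap.ker (mapBaseChange A P B)).restrictScalars P := h1
  rw [← range_kerCotangentToTensor A P B h] at h2
  obtain ⟨c, hc⟩ := h2
  obtain ⟨g, rfl⟩ := Ideal.toCotangent_surjective _ c
  rw [kerCotangentToTensor_toCotangent] at hc
  have h3 : TensorProduct.mk P B Ω[P⁄A] 1 (η - D A P g) = 0 := by
    rw [map_sub]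
    show (1 : B) ⊗ₜ[P] η - (1 : B) ⊗ₜ[P] (D A P g) = 0
    rw [hc, sub_self]
  have h4 : η - D A P g ∈ (RingHom.ker (algebraMap P B)) • (⊤ : Submodule P Ω[P⁄A]) := by
    rw [← ker_mk_of_surjective _ h]
    exact h3
  have h5 : η = (η - D A P g) + D A P g := by abel
  rw [h5]
  exact Submodule.add_mem_sup h4 (Submodule.subset_span ⟨g, g.2, rfl⟩)

end kermap

section main
variable {A B : Type u} [CommRing A] [CommRing B] [Algebra A B]

open KaehlerDifferential in
theorem main (n : ℕ) (φ : MvPolynomial (Fin n) A →ₐ[A] B) (hφ : Function.Surjective φ)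
    (q : Ideal B) [q.IsPrime] :
    Subsingleton (LocalizedModule q.primeCompl (KaehlerDifferential A B)) ↔
      Submodule.span (Localization.AtPrime (q.comap φ.toRingHom))
        ((LocalizedModule.mkLinearMap (q.comap φ.toRingHom).primeCompl
            (KaehlerDifferential A (MvPolynomial (Fin n) A))) ''
          ((KaehlerDifferential.D A (MvPolynomial (Fin n) A)) ''
            (RingHom.ker φ.toRingHom : Set (MvPolynomial (Fin n) A)))) = ⊤ := by
  let P := MvPolynomial (Fin n) A
  letI : Algebra P B := φ.toRingHom.toAlgebra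
  haveI : IsScalarTower A P B := IsScalarTower.of_algebraMap_eq' φ.comp_algebraMap.symm
  have hsurj : Function.Surjective (algebraMap P B) := hφ
  set 𝔮 : Ideal P := q.comap φ.toRingHom with h𝔮
  let ι := LocalizedModule.mkLinearMap 𝔮.primeCompl Ω[P⁄A]
  let I : Ideal P := RingHom.ker (algebraMap P B)
  have hI𝔮 : I ≤ 𝔮 := fun x hx => by
    show φ x ∈ q
    have : φ x = 0 := hx
    rw [this]
    exact q.zero_mem
  rw [LocalizedModule.subsingleton_iff]
  rw [← Submodule.localized'_span (Localization.AtPrime 𝔮) 𝔮.primeCompl ι]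
  constructor
  · intro h
    set N' := (Submodule.span P ((D A P) '' (I : Set P))).localized'
      (Localization.AtPrime 𝔮) 𝔮.primeCompl ι with hN'
    show N' = ⊤
    have hfin : Module.Finite (Localization.AtPrime 𝔮) (LocalizedModule 𝔮.primeCompl Ω[P⁄A]) :=
      Module.Finite.of_isLocalizedModule 𝔮.primeCompl ι
    have hfg : (⊤ : Submodule (Localization.AtPrime 𝔮)
        (LocalizedModule 𝔮.primeCompl Ω[P⁄A])).FG := Module.finite_def.mp hfin
    have hι : ∀ w ∈ I • (⊤ : Submodule P Ω[P⁄A]) ⊔ Submodule.span P ((D A P) '' (I : Set P)),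
        ι w ∈ N' ⊔ (IsLocalRing.maximalIdeal (Localization.AtPrime 𝔮)) • ⊤ := by
      intro w hw
      obtain ⟨w1, hw1, w2, hw2, rfl⟩ := Submodule.mem_sup.mp hw
      rw [map_add]
      refine add_mem (Submodule.mem_sup_right ?_) (Submodule.mem_sup_left ?_)
      · refine Submodule.smul_induction_on hw1 ?_ ?_
        · intro i hi z _
          rw [map_smul, ← algebraMap_smul (Localization.AtPrime 𝔮) i (ι z)]
          apply Submodule.smul_mem_smul _ Submodule.mem_top
          rw [← Localization.AtPrime.map_eq_maximalIdeal]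
          exact Ideal.mem_map_of_mem _ (hI𝔮 hi)
        · intro a b ha hb
          rw [map_add]
          exact add_mem ha hb
      · exact ⟨w2, hw2, 1, by simp⟩
    have key : ∀ η : Ω[P⁄A], ι η ∈ N' ⊔ (IsLocalRing.maximalIdeal (Localization.AtPrime 𝔮)) • ⊤ := by
      intro η
      obtain ⟨r, hr, hrη⟩ := h (KaehlerDifferential.map A A P B η)
      obtain ⟨t, rfl⟩ := hsurj r
      have ht : t ∈ 𝔮.primeCompl := hr
      have h4 : KaehlerDifferential.map A A P B (t • η) = 0 := by
        rw [map_smul, ← algebraMap_smul B t, hrη]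
      have h5 := hι _ (mem_of_map_eq_zero A hsurj (t • η) h4)
      rw [map_smul, ← algebraMap_smul (Localization.AtPrime 𝔮) t] at h5
      have hu : IsUnit (algebraMap P (Localization.AtPrime 𝔮) t) :=
        IsLocalization.map_units _ (⟨t, ht⟩ : 𝔮.primeCompl)
      exact (Submodule.smul_mem_iff_of_isUnit _ hu).mp h5
    rw [eq_top_iff]
    apply Submodule.le_of_le_smul_of_le_jacobson_bot hfg
      (I := IsLocalRing.maximalIdeal (Localization.AtPrime 𝔮))
      (IsLocalRing.maximalIdeal_le_jacobson _)
    intro x _
    obtain ⟨⟨η, s⟩, rfl⟩ := IsLocalizedModule.mk'_surjective 𝔮.primeCompl ι x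
    have hu : IsUnit (algebraMap P (Localization.AtPrime 𝔮) s) :=
      IsLocalization.map_units _ s
    rw [← Submodule.smul_mem_iff_of_isUnit _ hu, algebraMap_smul]
    have : (s : P) • IsLocalizedModule.mk' ι η s = ι η := IsLocalizedModule.mk'_cancel' ι η s
    simp only [Function.uncurry_apply_pair]
    rw [this]
    exact key η
  · intro h ω
    have h' : (Submodule.span P ((D A P) '' (I : Set P))).localized'
        (Localization.AtPrime 𝔮) 𝔮.primeCompl ι = ⊤ := h
    obtain ⟨η, rfl⟩ := KaehlerDifferential.map_surjective_of_surjective A A P B hsurj ω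
    have hmem : ι η ∈ (Submodule.span P ((D A P) '' (I : Set P))).localized'
        (Localization.AtPrime 𝔮) 𝔮.primeCompl ι := by
      rw [h']; trivial
    obtain ⟨m, hm, s, hms⟩ := hmem
    rw [IsLocalizedModule.mk'_eq_iff] at hms
    -- ι m = s • ι η
    have h1 : ι m = ι ((s : P) • η) := by rw [hms, map_smul]; rfl
    obtain ⟨u, hu⟩ := (IsLocalizedModule.eq_iff_exists 𝔮.primeCompl ι).mp h1
    refine ⟨algebraMap P B (u * s), ?_, ?_⟩
    · exact (u * s).2
    · have h2 : KaehlerDifferential.map A A P B m = 0 := by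
        refine Submodule.span_induction ?_ ?_ ?_ ?_ hm
        · rintro _ ⟨g, hg, rfl⟩
          rw [KaehlerDifferential.map_D]
          have : algebraMap P B g = 0 := hg
          rw [this, map_zero]
        · exact map_zero _
        · intro x y _ _ hx hy
          rw [map_add, hx, hy, add_zero]
        · intro a x _ hx
          rw [map_smul, hx, smul_zero]
      rw [algebraMap_smul, ← map_smul, mul_smul]
      have h3 : (u : P) • ((s : P) • η) = (u : P) • m := hu.symm
      rw [h3, map_smul, h2, smul_zero]

end main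

end Groth.Agent.Lib.Helper26.OmegaStalk
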