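import Mathlib
import Groth.Agent.Lib.Helper26.KempfA

set_option autoImplicit false
set_option linter.style.haveILetI false
set_option linter.unusedSectionVars false
set_option linter.unusedVariables false

namespace Groth.Agent.Lib.Helper26.OrthantMax

open Matrix Topology

variable {n : ℕ}

section real

variable (A : Matrix (Fin n) (Fin n) ℝ) (l : Fin n → ℝ)

/-- the bilinear form of a matrix -/
def bl (u v : Fin n → ℝ) : ℝ := u ⬝ᵥ A *ᵥ v

theorem bl_add_left (u u' v : Fin n → ℝ) : bl A (u + u') v = bl A u v + bl A u' v := by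
  unfold bl; rw [add_dotProduct]

theorem bl_add_right (u v v' : Fin n → ℝ) : bl A u (v + v') = bl A u v + bl A u v' := by
  unfold bl; rw [mulVec_add, dotProduct_add]

theorem bl_smul_left (t : ℝ) (u v : Fin n → ℝ) : bl A (t • u) v = t * bl A u v := by
  unfold bl; rw [smul_dotProduct, smul_eq_mul]

theorem bl_smul_right (t : ℝ) (u v : Fin n → ℝ) : bl A u (t • v) = t * bl A u v := by
  unfold bl; rw [mulVec_smul, dotProduct_smul, smul_eq_mul]

theorem bl_sub_right (u v v' : Fin n → ℝ) : bl A u (v - v') = bl A u v - bl A u v' := by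
  unfold bl; rw [mulVec_sub, dotProduct_sub]

theorem bl_neg_right (u v : Fin n → ℝ) : bl A u (-v) = - bl A u v := by
  unfold bl; rw [mulVec_neg, dotProduct_neg]

theorem bl_zero_left (v : Fin n → ℝ) : bl A 0 v = 0 := by
  unfold bl; rw [zero_dotProduct]

theorem bl_comm (hA : Aᵀ = A) (u v : Fin n → ℝ) : bl A u v = bl A v u := by
  unfold bl
  calc u ⬝ᵥ A *ᵥ v = u ᵥ* A ⬝ᵥ v := dotProduct_mulVec _ _ _
    _ = u ᵥ* Aᵀ ⬝ᵥ v := by rw [hA]
    _ = A *ᵥ u ⬝ᵥ v := by rw [vecMul_transpose]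
    _ = v ⬝ᵥ A *ᵥ u := dotProduct_comm _ _

theorem q_add_smul (hA : Aᵀ = A) (u v : Fin n → ℝ) (t : ℝ) :
    bl A (u + t • v) (u + t • v) = bl A u u + 2 * t * bl A u v + t ^ 2 * bl A v v := by
  simp only [bl_add_left, bl_add_right, bl_smul_left, bl_smul_right]
  rw [bl_comm A hA v u]
  ring

theorem bl_eq_zero_of_q_eq_zero (hA : Aᵀ = A) (hnn : ∀ y, 0 ≤ bl A y y) (z : Fin n → ℝ)
    (hz : bl A z z = 0) (v : Fin n → ℝ) : bl A v z = 0 := by
  by_contra hne
  have h := hnn (v + (-(bl A v v + 1) / (2 * bl A v z)) • z)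
  rw [q_add_smul A hA, hz] at h
  have h2 : 2 * (-(bl A v v + 1) / (2 * bl A v z)) * bl A v z = -(bl A v v + 1) := by
    field_simp
  rw [h2, mul_zero] at h
  linarith

/-- the objective function -/
noncomputable def f (y : Fin n → ℝ) : ℝ := l ⬝ᵥ y / Real.sqrt (bl A y y)

theorem f_smul {c : ℝ} (hc : 0 < c) (y : Fin n → ℝ) : f A l (c • y) = f A l y := by
  unfold f
  rw [dotProduct_smul, bl_smul_left, bl_smul_right, smul_eq_mul, ← mul_assoc, ← sq,
    Real.sqrt_mul (sq_nonneg c), Real.sqrt_sq hc.le, mul_div_mul_left _ _ hc.ne']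

theorem continuous_dot : Continuous (fun y : Fin n → ℝ => l ⬝ᵥ y) := by
  unfold dotProduct
  fun_prop

theorem continuous_q : Continuous (fun y : Fin n → ℝ => bl A y y) := by
  unfold bl dotProduct mulVec dotProduct
  fun_prop

/-- maximizers -/
def IsMax (ys : Fin n → ℝ) : Prop :=
  (∀ i, 0 ≤ ys i) ∧ ys ≠ 0 ∧ 0 < l ⬝ᵥ ys ∧
    ∀ y : Fin n → ℝ, (∀ i, 0 ≤ y i) → y ≠ 0 → f A l y ≤ f A l ys

theorem sum_pos_of_ne_zero (y : Fin n → ℝ) (hy : ∀ i, 0 ≤ y i) (hy0 : y ≠ 0) : 0 < ∑ i, y i := by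
  rcases (Finset.sum_nonneg (fun i _ => hy i)).lt_or_eq with h | h
  · exact h
  · exfalso
    apply hy0
    have := (Finset.sum_eq_zero_iff_of_nonneg (fun i _ => hy i)).mp h.symm
    ext i
    exact this i (Finset.mem_univ i)

theorem exists_max (hpos : ∀ y : Fin n → ℝ, (∀ i, 0 ≤ y i) → y ≠ 0 → 0 < bl A y y)
    (hl : ∃ y : Fin n → ℝ, (∀ i, 0 ≤ y i) ∧ 0 < l ⬝ᵥ y) : ∃ ys, IsMax A l ys := by
  obtain ⟨y₀, hy₀, hly₀⟩ := hl
  have hy₀0 : y₀ ≠ 0 := by
    rintro rfl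
    rw [dotProduct_zero] at hly₀
    exact lt_irrefl _ hly₀
  set Δ : Set (Fin n → ℝ) := {y | ∀ i, 0 ≤ y i} ∩ {y | ∑ i, y i = 1} with hΔ
  have hclosed : IsClosed Δ := by
    apply IsClosed.inter
    · rw [Set.ofPred_forall]
      exact isClosed_iInter fun i => isClosed_le continuous_const (continuous_apply i)
    · exact isClosed_eq (continuous_finsetSum _ fun i _ => continuous_apply i) continuous_const
  have hsub : Δ ⊆ Set.Icc (0 : Fin n → ℝ) 1 := by
    rintro y ⟨hy1, hy2⟩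
    refine ⟨fun i => hy1 i, fun i => ?_⟩
    have h2 : ∑ i, y i = 1 := hy2
    rw [Pi.one_apply, ← h2]
    exact Finset.single_le_sum (fun j _ => hy1 j) (Finset.mem_univ i)
  have hcomp : IsCompact Δ := isCompact_Icc.of_isClosed_subset hclosed hsub
  have hnorm : ∀ y : Fin n → ℝ, (∀ i, 0 ≤ y i) → y ≠ 0 → (∑ i, y i)⁻¹ • y ∈ Δ := by
    intro y hy hy0
    have hs := sum_pos_of_ne_zero y hy hy0
    refine ⟨fun i => ?_, ?_⟩
    · rw [Pi.smul_apply, smul_eq_mul]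
      exact mul_nonneg (inv_nonneg.mpr hs.le) (hy i)
    · show ∑ i, ((∑ i, y i)⁻¹ • y) i = 1
      simp only [Pi.smul_apply, smul_eq_mul]
      rw [← Finset.mul_sum, inv_mul_cancel₀ hs.ne']
  have hne : Δ.Nonempty := ⟨_, hnorm y₀ hy₀ hy₀0⟩
  have hΔ0 : ∀ y ∈ Δ, y ≠ 0 := by
    rintro y ⟨_, hy2⟩ rfl
    have h2 : ∑ i, (0 : Fin n → ℝ) i = 1 := hy2
    simp at h2
  have hcont : ContinuousOn (f A l) Δ := by
    unfold f
    apply ContinuousOn.div
    · exact (continuous_dot l).continuousOn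
    · exact (Real.continuous_sqrt.comp (continuous_q A)).continuousOn
    · intro y hy
      have := hpos y hy.1 (hΔ0 y hy)
      exact (Real.sqrt_pos.mpr this).ne'
  obtain ⟨ys, hysΔ, hmax⟩ := hcomp.exists_isMaxOn hne hcont
  have hys0 := hΔ0 ys hysΔ
  have hmax' : ∀ y : Fin n → ℝ, (∀ i, 0 ≤ y i) → y ≠ 0 → f A l y ≤ f A l ys := by
    intro y hy hy0
    have hs := sum_pos_of_ne_zero y hy hy0
    rw [← f_smul A l (inv_pos.mpr hs) y]
    exact hmax (hnorm y hy hy0)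
  refine ⟨ys, hysΔ.1, hys0, ?_, hmax'⟩
  have h1 : 0 < f A l y₀ := by
    unfold f
    exact div_pos hly₀ (Real.sqrt_pos.mpr (hpos y₀ hy₀ hy₀0))
  have h2 : 0 < f A l ys := h1.trans_le (hmax' y₀ hy₀ hy₀0)
  unfold f at h2
  exact (div_pos_iff_of_pos_right (Real.sqrt_pos.mpr (hpos ys hysΔ.1 hys0))).mp h2


theorem f_pos_of_isMax (hpos : ∀ y : Fin n → ℝ, (∀ i, 0 ≤ y i) → y ≠ 0 → 0 < bl A y y)
    (ys : Fin n → ℝ) (hys : IsMax A l ys) : 0 < f A l ys := by
  unfold f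
  exact div_pos hys.2.2.1 (Real.sqrt_pos.mpr (hpos ys hys.1 hys.2.1))

theorem f_sq_mul (hpos : ∀ y : Fin n → ℝ, (∀ i, 0 ≤ y i) → y ≠ 0 → 0 < bl A y y)
    (ys : Fin n → ℝ) (hys : IsMax A l ys) : (f A l ys) ^ 2 * bl A ys ys = (l ⬝ᵥ ys) ^ 2 := by
  have hq := hpos ys hys.1 hys.2.1
  unfold f
  rw [div_pow, Real.sq_sqrt hq.le, div_mul_cancel₀ _ hq.ne']

/-- first order optimality on the support -/
theorem kkt (hA : Aᵀ = A) (hpos : ∀ y : Fin n → ℝ, (∀ i, 0 ≤ y i) → y ≠ 0 → 0 < bl A y y)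
    (ys : Fin n → ℝ) (hys : IsMax A l ys) (d : Fin n → ℝ) (hd : ∀ i, ys i = 0 → d i = 0) :
    (f A l ys) ^ 2 * bl A ys d = (l ⬝ᵥ ys) * (l ⬝ᵥ d) := by
  set M := f A l ys with hM
  have hMpos : 0 < M := f_pos_of_isMax A l hpos ys hys
  have hMq := f_sq_mul A l hpos ys hys
  rw [← hM] at hMq
  have h1 : ∀ᶠ t in 𝓝 (0 : ℝ), ∀ i, 0 ≤ ys i + t * d i := by
    rw [Filter.eventually_all]
    intro i
    by_cases hi : ys i = 0
    · rw [hi, hd i hi]
      exact Filter.Eventually.of_forall fun t => by simp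
    · have hpi : 0 < ys i := lt_of_le_of_ne (hys.1 i) (Ne.symm hi)
      have hc : ContinuousAt (fun t : ℝ => ys i + t * d i) 0 := by fun_prop
      have h0 : (0 : ℝ) < (fun t : ℝ => ys i + t * d i) 0 := by simpa using hpi
      have := hc.eventually (lt_mem_nhds h0)
      filter_upwards [this] with t ht using ht.le
  have h2 : ∀ᶠ t in 𝓝 (0 : ℝ), 0 < l ⬝ᵥ ys + t * (l ⬝ᵥ d) := by
    have hc : ContinuousAt (fun t : ℝ => l ⬝ᵥ ys + t * (l ⬝ᵥ d)) 0 := by fun_prop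
    have h0 : (0 : ℝ) < (fun t : ℝ => l ⬝ᵥ ys + t * (l ⬝ᵥ d)) 0 := by simpa using hys.2.2.1
    exact hc.eventually (lt_mem_nhds h0)
  have hloc : IsLocalMin (fun t : ℝ => (M ^ 2 * bl A ys ys - (l ⬝ᵥ ys) ^ 2)
      + 2 * t * (M ^ 2 * bl A ys d - (l ⬝ᵥ ys) * (l ⬝ᵥ d))
      + t ^ 2 * (M ^ 2 * bl A d d - (l ⬝ᵥ d) ^ 2)) 0 := by
    filter_upwards [h1, h2] with t ht1 ht2
    have hy : ∀ i, 0 ≤ (ys + t • d) i := by
      intro i
      simpa using ht1 i
    have hdot : l ⬝ᵥ (ys + t • d) = l ⬝ᵥ ys + t * (l ⬝ᵥ d) := by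
      rw [dotProduct_add, dotProduct_smul, smul_eq_mul]
    have hy0 : ys + t • d ≠ 0 := by
      intro h0
      rw [h0, dotProduct_zero] at hdot
      rw [← hdot] at ht2
      exact lt_irrefl _ ht2
    have hle := hys.2.2.2 _ hy hy0
    rw [← hM] at hle
    have hq := hpos _ hy hy0
    unfold f at hle
    rw [div_le_iff₀ (Real.sqrt_pos.mpr hq)] at hle
    have hsq : (l ⬝ᵥ (ys + t • d)) ^ 2 ≤ M ^ 2 * bl A (ys + t • d) (ys + t • d) := by
      have h3 : 0 ≤ l ⬝ᵥ (ys + t • d) := by rw [hdot]; exact ht2.le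
      calc (l ⬝ᵥ (ys + t • d)) ^ 2 ≤ (M * Real.sqrt (bl A (ys + t • d) (ys + t • d))) ^ 2 :=
            pow_le_pow_left₀ h3 hle 2
        _ = M ^ 2 * bl A (ys + t • d) (ys + t • d) := by
            rw [mul_pow, Real.sq_sqrt hq.le]
    rw [q_add_smul A hA, hdot] at hsq
    nlinarith [hsq, hMq]
  have := KempfA.eq_zero_of_isLocalMin_quadratic _ _ _ hloc
  linarith


open Classical in
/-- the support of a vector -/
noncomputable def supp (y : Fin n → ℝ) : Finset (Fin n) := Finset.univ.filter (fun i => y i ≠ 0)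

open Classical in
theorem mem_supp (y : Fin n → ℝ) (i : Fin n) : i ∈ supp y ↔ y i ≠ 0 := by
  unfold supp
  simp

open Classical in
theorem kernel_aux (hA : Aᵀ = A)
    (hpos : ∀ y : Fin n → ℝ, (∀ i, 0 ≤ y i) → y ≠ 0 → 0 < bl A y y)
    (ys : Fin n → ℝ) (hys : IsMax A l ys)
    (hmin : ∀ y, IsMax A l y → (supp ys).card ≤ (supp y).card)
    (z : Fin n → ℝ) (hz : ∀ i, ys i = 0 → z i = 0) (hbl : ∀ v, bl A v z = 0)
    (hlz : l ⬝ᵥ z = 0) (hneg : ∃ i, z i < 0) : False := by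
  set T : Finset (Fin n) := Finset.univ.filter (fun i => z i < 0) with hT
  have hTne : T.Nonempty := by
    obtain ⟨i, hi⟩ := hneg
    exact ⟨i, by simp [hT, hi]⟩
  obtain ⟨i₀, hi₀T, hmin'⟩ := Finset.exists_min_image T (fun i => ys i / (- z i)) hTne
  have hi₀ : z i₀ < 0 := by simpa [hT] using hi₀T
  have hysi₀ : 0 < ys i₀ := by
    apply lt_of_le_of_ne (hys.1 i₀)
    intro h
    have := hz i₀ h.symm
    rw [this] at hi₀
    exact lt_irrefl _ hi₀
  set t₀ : ℝ := ys i₀ / (- z i₀) with ht₀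
  have ht₀pos : 0 < t₀ := div_pos hysi₀ (neg_pos.mpr hi₀)
  set y2 : Fin n → ℝ := ys + t₀ • z with hy2
  have hy2nn : ∀ i, 0 ≤ y2 i := by
    intro i
    show 0 ≤ (ys + t₀ • z) i
    rw [Pi.add_apply, Pi.smul_apply, smul_eq_mul]
    by_cases hi : z i < 0
    · have hiT : i ∈ T := by simp [hT, hi]
      have h1 : t₀ ≤ ys i / (- z i) := hmin' i hiT
      rw [le_div_iff₀ (neg_pos.mpr hi)] at h1
      linarith
    · rw [not_lt] at hi
      have := mul_nonneg ht₀pos.le hi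
      linarith [hys.1 i]
  have hy2i₀ : y2 i₀ = 0 := by
    show (ys + t₀ • z) i₀ = 0
    rw [Pi.add_apply, Pi.smul_apply, smul_eq_mul, ht₀]
    have hzne : z i₀ ≠ 0 := hi₀.ne
    rw [div_neg, neg_mul, div_mul_cancel₀ _ hzne, add_neg_cancel]
  have hdot : l ⬝ᵥ y2 = l ⬝ᵥ ys := by
    rw [hy2, dotProduct_add, dotProduct_smul, hlz, smul_zero, add_zero]
  have hq2 : bl A y2 y2 = bl A ys ys := by
    rw [hy2, q_add_smul A hA, hbl ys, hbl z]
    ring
  have hy20 : y2 ≠ 0 := by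
    intro h0
    rw [h0, dotProduct_zero] at hdot
    have := hys.2.2.1
    rw [← hdot] at this
    exact lt_irrefl _ this
  have hf2 : f A l y2 = f A l ys := by
    unfold f
    rw [hdot, hq2]
  have hmax2 : IsMax A l y2 := by
    refine ⟨hy2nn, hy20, ?_, ?_⟩
    · rw [hdot]; exact hys.2.2.1
    · intro y hy hy0
      rw [hf2]
      exact hys.2.2.2 y hy hy0
  have hlt : (supp y2).card < (supp ys).card := by
    apply Finset.card_lt_card
    rw [Finset.ssubset_iff_of_subset]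
    · refine ⟨i₀, ?_, ?_⟩
      · rw [mem_supp]; exact hysi₀.ne'
      · rw [mem_supp, not_not]; exact hy2i₀
    · intro i hi
      rw [mem_supp] at hi ⊢
      intro h0
      apply hi
      show (ys + t₀ • z) i = 0
      rw [Pi.add_apply, Pi.smul_apply, h0, hz i h0, smul_zero, add_zero]
  exact absurd (hmin y2 hmax2) (not_le.mpr hlt)

theorem no_kernel (hA : Aᵀ = A) (hnn : ∀ y, 0 ≤ bl A y y)
    (hpos : ∀ y : Fin n → ℝ, (∀ i, 0 ≤ y i) → y ≠ 0 → 0 < bl A y y)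
    (ys : Fin n → ℝ) (hys : IsMax A l ys)
    (hmin : ∀ y, IsMax A l y → (supp ys).card ≤ (supp y).card)
    (z : Fin n → ℝ) (hz : ∀ i, ys i = 0 → z i = 0)
    (hker : ∀ i, ys i ≠ 0 → (A *ᵥ z) i = 0) : z = 0 := by
  by_contra hz0
  have hqz : bl A z z = 0 := by
    unfold bl dotProduct
    apply Finset.sum_eq_zero
    intro i _
    by_cases hi : ys i = 0
    · rw [hz i hi, zero_mul]
    · rw [hker i hi, mul_zero]
  have hbl : ∀ v, bl A v z = 0 := bl_eq_zero_of_q_eq_zero A hA hnn z hqz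
  have hk := kkt A l hA hpos ys hys z hz
  rw [hbl ys, mul_zero] at hk
  have hlz : l ⬝ᵥ z = 0 := by
    rcases mul_eq_zero.mp hk.symm with h | h
    · exact absurd h hys.2.2.1.ne'
    · exact h
  have hex : ∃ i, z i ≠ 0 := by
    by_contra hno
    apply hz0
    funext j
    by_contra hj
    exact hno ⟨j, hj⟩
  obtain ⟨i, hi⟩ := hex
  rcases lt_or_gt_of_ne hi with h | h
  · exact kernel_aux A l hA hpos ys hys hmin z hz hbl hlz ⟨i, h⟩
  · apply kernel_aux A l hA hpos ys hys hmin (-z)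
    · intro j hj
      rw [Pi.neg_apply, hz j hj, neg_zero]
    · intro v
      rw [bl_neg_right, hbl v, neg_zero]
    · rw [dotProduct_neg, hlz, neg_zero]
    · exact ⟨i, by rw [Pi.neg_apply]; linarith⟩

theorem exists_min_max (hpos : ∀ y : Fin n → ℝ, (∀ i, 0 ≤ y i) → y ≠ 0 → 0 < bl A y y)
    (hl : ∃ y : Fin n → ℝ, (∀ i, 0 ≤ y i) ∧ 0 < l ⬝ᵥ y) :
    ∃ ys, IsMax A l ys ∧ ∀ y, IsMax A l y → (supp ys).card ≤ (supp y).card := by
  have hne : {y | IsMax A l y}.Nonempty := exists_max A l hpos hl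
  obtain ⟨ys, hys, hmin⟩ := (measure fun y : Fin n → ℝ => (supp y).card).wf.has_min _ hne
  refine ⟨ys, hys, fun y hy => ?_⟩
  have := hmin y hy
  exact not_lt.mp this

end real

section rational

open Classical in
theorem main_sym (S : Matrix (Fin n) (Fin n) ℚ) (hS : Sᵀ = S) (lq : Fin n → ℚ)
    (hnn : ∀ y : Fin n → ℝ, 0 ≤ bl (S.map (fun r : ℚ => (r : ℝ))) y y)
    (hpos : ∀ y : Fin n → ℝ, (∀ i, 0 ≤ y i) → y ≠ 0 →
      0 < bl (S.map (fun r : ℚ => (r : ℝ))) y y)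
    (hl : ∃ y : Fin n → ℝ, (∀ i, 0 ≤ y i) ∧ 0 < (fun i => (lq i : ℝ)) ⬝ᵥ y) :
    ∃ x : Fin n → ℚ, (∀ i, 0 ≤ x i) ∧ x ≠ 0 ∧
      ∀ y : Fin n → ℝ, (∀ i, 0 ≤ y i) → y ≠ 0 →
        f (S.map (fun r : ℚ => (r : ℝ))) (fun i => (lq i : ℝ)) y ≤
          f (S.map (fun r : ℚ => (r : ℝ))) (fun i => (lq i : ℝ)) (fun i => (x i : ℝ)) := by
  set A : Matrix (Fin n) (Fin n) ℝ := S.map (fun r : ℚ => (r : ℝ)) with hAdef
  set l : Fin n → ℝ := fun i => (lq i : ℝ) with hldef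
  have hA : Aᵀ = A := by
    ext i j
    rw [transpose_apply, hAdef, map_apply, map_apply]
    have := congrFun (congrFun hS i) j
    rw [transpose_apply] at this
    rw [this]
  obtain ⟨ys, hys, hmin⟩ := exists_min_max A l hpos hl
  set M := f A l ys with hM
  have hMpos : 0 < M := f_pos_of_isMax A l hpos ys hys
  have hlys : 0 < l ⬝ᵥ ys := hys.2.2.1
  set c : ℝ := M ^ 2 / (l ⬝ᵥ ys) with hc
  have hcpos : 0 < c := div_pos (pow_pos hMpos 2) hlys
  set y' : Fin n → ℝ := c • ys with hy'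
  -- the first order condition
  have hrow : ∀ i, ys i ≠ 0 → (A *ᵥ y') i = l i := by
    intro i hi
    have hk := kkt A l hA hpos ys hys (Pi.single i 1) (by
      intro j hj
      have : j ≠ i := by
        rintro rfl
        exact hi hj
      rw [Pi.single_apply, if_neg this])
    rw [bl_comm A hA] at hk
    have h1 : bl A (Pi.single i 1) ys = (A *ᵥ ys) i := by
      unfold bl
      rw [single_one_dotProduct]
    have h2 : l ⬝ᵥ Pi.single i 1 = l i := by
      rw [dotProduct_single_one]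
    rw [h1, h2, ← hM] at hk
    rw [hy', mulVec_smul, Pi.smul_apply, smul_eq_mul, hc]
    have hM2 : M ^ 2 ≠ 0 := (pow_pos hMpos 2).ne'
    field_simp
    linarith
  -- the rational system
  let A' : Matrix (Fin n) (Fin n) ℚ :=
    Matrix.of fun i j => if ys i ≠ 0 then S i j else if i = j then 1 else 0
  let rhs : Fin n → ℚ := fun i => if ys i ≠ 0 then lq i else 0
  have hsys : ∀ i, ∑ j, (A' i j : ℝ) * y' j = (rhs i : ℝ) := by
    intro i
    by_cases hi : ys i ≠ 0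
    · have h1 : ∀ j, (A' i j : ℝ) = A i j := by
        intro j
        show (((if ys i ≠ 0 then S i j else if i = j then 1 else 0 : ℚ)) : ℝ) = _
        rw [if_pos hi]
        rfl
      have h2 : (rhs i : ℝ) = l i := by
        show (((if ys i ≠ 0 then lq i else 0 : ℚ)) : ℝ) = _
        rw [if_pos hi]
      rw [h2, ← hrow i hi]
      unfold mulVec dotProduct
      apply Finset.sum_congr rfl
      intro j _
      rw [h1]
    · have h1 : ∀ j, (A' i j : ℝ) = if i = j then 1 else 0 := by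
        intro j
        show (((if ys i ≠ 0 then S i j else if i = j then 1 else 0 : ℚ)) : ℝ) = _
        rw [if_neg hi]
        split_ifs <;> simp
      have h2 : (rhs i : ℝ) = 0 := by
        show (((if ys i ≠ 0 then lq i else 0 : ℚ)) : ℝ) = _
        rw [if_neg hi]
        simp
      rw [h2]
      rw [not_not] at hi
      simp only [h1]
      simp [hy', hi]
  obtain ⟨x, hx⟩ := KempfA.exists_rat_solution A' rhs y' hsys
  set xr : Fin n → ℝ := fun i => (x i : ℝ) with hxr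
  have hx0 : ∀ i, ys i = 0 → x i = 0 := by
    intro i hi
    have h := hx i
    have h1 : ∀ j, A' i j = if i = j then 1 else 0 := by
      intro j
      show (if ys i ≠ 0 then S i j else if i = j then 1 else 0 : ℚ) = _
      rw [if_neg (not_not.mpr hi)]
    have h2 : rhs i = 0 := by
      show (if ys i ≠ 0 then lq i else 0 : ℚ) = _
      rw [if_neg (not_not.mpr hi)]
    rw [h2] at h
    simp only [h1] at h
    simpa using h
  have hxrow : ∀ i, ys i ≠ 0 → (A *ᵥ xr) i = l i := by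
    intro i hi
    have h := hx i
    have h1 : ∀ j, A' i j = S i j := by
      intro j
      show (if ys i ≠ 0 then S i j else if i = j then 1 else 0 : ℚ) = _
      rw [if_pos hi]
    have h2 : rhs i = lq i := by
      show (if ys i ≠ 0 then lq i else 0 : ℚ) = _
      rw [if_pos hi]
    rw [h2] at h
    simp only [h1] at h
    unfold mulVec dotProduct
    show ∑ j, A i j * xr j = (lq i : ℝ)
    rw [← h]
    push_cast
    rfl
  have hz : xr - y' = 0 := by
    apply no_kernel A l hA hnn hpos ys hys hmin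
    · intro i hi
      rw [Pi.sub_apply, hxr]
      simp only
      rw [hx0 i hi, hy', Pi.smul_apply, hi]
      simp
    · intro i hi
      rw [mulVec_sub, Pi.sub_apply, hxrow i hi, hrow i hi, sub_self]
  have hxy : xr = y' := sub_eq_zero.mp hz
  refine ⟨x, fun i => ?_, ?_, ?_⟩
  · have h1 : (0 : ℝ) ≤ xr i := by
      rw [hxy, hy', Pi.smul_apply, smul_eq_mul]
      exact mul_nonneg hcpos.le (hys.1 i)
    have h2 : ((0 : ℚ) : ℝ) ≤ ((x i : ℚ) : ℝ) := by
      rw [Rat.cast_zero]; exact h1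
    exact Rat.cast_le.mp h2
  · intro hx00
    apply hys.2.1
    have h1 : y' = 0 := by
      rw [← hxy]
      funext i
      rw [hxr]
      simp [hx00]
    rw [hy'] at h1
    rcases smul_eq_zero.mp h1 with h | h
    · exact absurd h hcpos.ne'
    · exact h
  · intro y hy hy0
    show f A l y ≤ f A l xr
    rw [hxy, hy', f_smul A l hcpos]
    exact hys.2.2.2 y hy hy0

end rational

theorem main_19138 (n : ℕ) (ℓ : Fin n → ℚ)
    (B : Matrix (Fin n) (Fin n) ℚ)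
    (hnn : ∀ y : Fin n → ℝ, 0 ≤ y ⬝ᵥ (B.map (fun r : ℚ => (r : ℝ))) *ᵥ y)
    (hpos : ∀ y : Fin n → ℝ, (∀ i, 0 ≤ y i) → y ≠ 0 → 0 < y ⬝ᵥ (B.map (fun r : ℚ => (r : ℝ))) *ᵥ y)
    (hℓ : ∃ y : Fin n → ℝ, (∀ i, 0 ≤ y i) ∧ 0 < (fun i => (ℓ i : ℝ)) ⬝ᵥ y) :
    ∃ x : Fin n → ℚ, (∀ i, 0 ≤ x i) ∧ x ≠ 0 ∧
      ∀ y : Fin n → ℝ, (∀ i, 0 ≤ y i) → y ≠ 0 →
        (fun i => (ℓ i : ℝ)) ⬝ᵥ y / Real.sqrt (y ⬝ᵥ (B.map (fun r : ℚ => (r : ℝ))) *ᵥ y) ≤
          (fun i => (ℓ i : ℝ)) ⬝ᵥ (fun i => (x i : ℝ)) /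
            Real.sqrt ((fun i => (x i : ℝ)) ⬝ᵥ (B.map (fun r : ℚ => (r : ℝ))) *ᵥ (fun i => (x i : ℝ))) := by
  set S : Matrix (Fin n) (Fin n) ℚ := (1 / 2 : ℚ) • (B + Bᵀ) with hS
  have hSsym : Sᵀ = S := by
    rw [hS, transpose_smul, transpose_add, transpose_transpose, add_comm]
  set Br : Matrix (Fin n) (Fin n) ℝ := B.map (fun r : ℚ => (r : ℝ)) with hBr
  have hSr : S.map (fun r : ℚ => (r : ℝ)) = (1 / 2 : ℝ) • (Br + Brᵀ) := by
    ext i j
    simp [hS, hBr]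
    ring
  have hq : ∀ y : Fin n → ℝ, bl (S.map (fun r : ℚ => (r : ℝ))) y y = y ⬝ᵥ Br *ᵥ y := by
    intro y
    unfold bl
    rw [hSr, smul_mulVec, add_mulVec, dotProduct_smul, dotProduct_add]
    have h1 : y ⬝ᵥ Brᵀ *ᵥ y = y ⬝ᵥ Br *ᵥ y := by
      rw [dotProduct_mulVec, vecMul_transpose, dotProduct_comm]
    rw [h1, smul_eq_mul]
    ring
  obtain ⟨x, hx1, hx2, hx3⟩ := main_sym S hSsym ℓ (fun y => by rw [hq]; exact hnn y)
    (fun y hy hy0 => by rw [hq]; exact hpos y hy hy0) hℓ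
  refine ⟨x, hx1, hx2, fun y hy hy0 => ?_⟩
  have := hx3 y hy hy0
  unfold f at this
  rw [hq, hq] at this
  exact this

end Groth.Agent.Lib.Helper26.OrthantMax
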