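import Groth.Agent.Lib.Helper22.EGA7.GammaA
import Groth.Agent.Lib.Helper22.EGA7.Bridge4
import Groth.Agent.Lib.Helper22.EGA7.FR4
import Groth.Agent.S2406
import Groth.Agent.S2376
import Groth.Agent.Lib.Helper29.ProjF4
import Groth.Agent.Lib.Helper21.PropH0b
import Groth.Agent.Lib.Helper12.Dev7
import Groth.Agent.Lib.Helper26.RigA

set_option autoImplicit false
set_option backward.isDefEq.respectTransparency.types false
set_option maxHeartbeats 1000000
set_option synthInstance.maxHeartbeats 200000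

universe u
attribute [local instance] HasDerivedCategory.standard
open CategoryTheory CategoryTheory.Limits Opposite TopologicalSpace AlgebraicGeometry IsLocalRing
open Groth.Agent.Lib.Helper29.QCoh

namespace Groth.Agent.Lib.Helper26.P1L

variable {X S : Scheme.{u}}

lemma isFlatOver_of_isFlat (g : X ⟶ S) [Flat g] {M : X.Modules} (hM : FlatMod.IsFlat M) :
    FlatMod.IsFlatOver g M := by
  intro y
  have hfl : Module.Flat (X.presheaf.stalk y) (M.presheaf.stalk y) := hM y
  have hflat : (g.stalkMap y).hom.Flat := Flat.stalkMap g y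
  letI : Algebra (S.presheaf.stalk (g.base y)) (X.presheaf.stalk y) :=
    (g.stalkMap y).hom.toAlgebra
  letI := FlatMod.moduleStalkOver g M y
  haveI : IsScalarTower (S.presheaf.stalk (g.base y)) (X.presheaf.stalk y)
      (M.presheaf.stalk y) := IsScalarTower.of_algebraMap_smul fun r t => rfl
  haveI : Module.Flat (S.presheaf.stalk (g.base y)) (X.presheaf.stalk y) := hflat
  exact Module.Flat.trans (S.presheaf.stalk (g.base y)) (X.presheaf.stalk y) (M.presheaf.stalk y)

lemma isFlatOver_unitM (g : X ⟶ S) [Flat g] : FlatMod.IsFlatOver g (unitM X) :=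
  isFlatOver_of_isFlat g
    (Groth.Agent.Lib.Helper28.DCohRes.isFlat_of_isFinLocFree (ProjF.isFinLocFree_unitM X))

/-- Pullback of functions along a flat surjective morphism is injective. -/
theorem appTop_injective_of_flat_surjective {U V : Scheme.{u}} (k : U ⟶ V) [Flat k]
    [Surjective k] : Function.Injective k.appTop.hom := by
  rw [injective_iff_map_eq_zero]
  intro x hx
  refine TopCat.Presheaf.section_ext V.sheaf ⊤ x 0 fun v hv => ?_
  obtain ⟨w, rfl⟩ := k.surjective v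
  have hinj : Function.Injective (k.stalkMap w).hom := by
    algebraize [(k.stalkMap w).hom]
    have : Module.FaithfullyFlat (V.presheaf.stalk (k w)) (U.presheaf.stalk w) :=
      @Module.FaithfullyFlat.of_flat_of_isLocalHom _ _ _ _ _ _ _
        (Flat.stalkMap k w) (k.toLRSHom.prop w)
    exact ‹RingHom.FaithfullyFlat _›.injective
  apply hinj
  have h1 := Scheme.Hom.germ_stalkMap_apply k ⊤ w trivial x
  have h2 : k.app ⊤ x = 0 := hx
  rw [h2, map_zero] at h1
  have h3 : (k.stalkMap w).hom ((V.presheaf.germ ⊤ (k w) trivial).hom 0) = 0 := by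
    rw [map_zero, map_zero]
  exact h1.trans h3.symm

/-- surjectivity of a flat morphism to a local scheme hitting the closed point -/
lemma surjective_of_flat_local (A : Type u) [CommRing A] [IsLocalRing A] (f : X ⟶ Spec (CommRingCat.of A))
    [Flat f] (x₀ : X) (hx₀ : f.base x₀ = closedPoint A) : Surjective f := by
  constructor
  intro y
  have hspec : y ⤳ f.base x₀ := by
    rw [hx₀]; exact specializes_closedPoint (R := A) y
  obtain ⟨x, -, hx⟩ := Flat.generalizingMap f hspec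
  exact ⟨x, hx⟩


section main
open Groth.Agent.Lib.Helper22.EGA7

variable (A : Type u) [CommRing A] [IsNoetherianRing A] [IsLocalRing A]
  (X : Scheme.{u}) [X.Over (Spec (CommRingCat.of A))] [IsProper (X ↘ Spec (CommRingCat.of A))]
  [Flat (X ↘ Spec (CommRingCat.of A))]
  (X₀ : Scheme.{u}) [X₀.Over (Spec (CommRingCat.of (ResidueField A)))] (g : X₀ ⟶ X)
  (H : IsPullback g (X₀ ↘ Spec (CommRingCat.of (ResidueField A))) (X ↘ Spec (CommRingCat.of A))
    (Spec.map (CommRingCat.ofHom (algebraMap A (ResidueField A)))))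
  (hfib : Function.Bijective ((Scheme.ΓSpecIso (CommRingCat.of (ResidueField A))).inv ≫
      (X₀ ↘ Spec (CommRingCat.of (ResidueField A))).appTop).hom)

include H hfib in
theorem injective_main :
    Function.Injective ((Scheme.ΓSpecIso (CommRingCat.of A)).inv ≫
      (X ↘ Spec (CommRingCat.of A)).appTop).hom := by
  haveI : Nontrivial ↑Γ(X₀, ⊤) := hfib.1.nontrivial
  have hne : Nonempty X₀ := by
    by_contra hc
    rw [not_nonempty_iff] at hc
    exact not_subsingleton ↑Γ(X₀, ⊤) inferInstance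
  obtain ⟨x₀⟩ := hne
  have hcl : (X ↘ Spec (CommRingCat.of A)).base (g.base x₀) = closedPoint A := by
    have h1 := congrArg (fun k => k.base x₀) H.w
    simp only [Scheme.Hom.comp_base, TopCat.hom_comp, ContinuousMap.comp_apply] at h1
    rw [h1]
    exact PrimeSpectrum.comap_residue A _
  haveI := surjective_of_flat_local A (X ↘ Spec (CommRingCat.of A)) (g.base x₀) hcl
  have h2 : Function.Injective (X ↘ Spec (CommRingCat.of A)).appTop.hom :=
    appTop_injective_of_flat_surjective _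
  have h3 : Function.Injective (Scheme.ΓSpecIso (CommRingCat.of A)).inv.hom :=
    (ConcreteCategory.bijective_of_isIso (Scheme.ΓSpecIso (CommRingCat.of A)).inv).1
  exact h2.comp h3


include H hfib in
theorem surjective_main :
    Function.Surjective ((Scheme.ΓSpecIso (CommRingCat.of A)).inv ≫
      (X ↘ Spec (CommRingCat.of A)).appTop).hom := by
  let K := ResidueField A
  let F : X.Modules := unitM X
  have hF : Coh.IsCoh F := Groth.Agent.Lib.Helper12.H12Dev.isCoh_unitM X
  have hfl : FlatMod.IsFlatOver (X ↘ Spec (CommRingCat.of A)) F := isFlatOver_unitM _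
  obtain ⟨Q, d, hQ, -, hpos, hiso⟩ := bridge2 A X F hF hfl
  haveI : F.IsQuasicoherent := hF.1
  obtain ⟨e0⟩ := hiso 0
  have h0 : -((0 : ℕ) : ℤ) = 0 := by simp
  rw [h0] at e0
  have hQ' : ∀ i, Module.Finite A (Q.X i) ∧ Module.Flat A (Q.X i) := fun i => by
    have := (hQ i).2
    exact ⟨(hQ i).1, inferInstance⟩
  have hepi : (CohIII.TFun Q 1).PreservesEpimorphisms :=
    ⟨fun {M N} f _ => ⟨fun g h _ => (hpos 1 one_pos N).eq_of_src _ _⟩⟩
  have hmono : (CohIII.TFun Q 0).PreservesMonomorphisms :=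
    (Groth.Agent.S2406.result Q (fun i => (hQ' i).2) 1 0 (by norm_num)).1 hepi
  obtain ⟨h1, h2⟩ := Groth.Agent.S2376.result Q hQ' 0
  obtain ⟨W, ⟨i⟩⟩ := h1.1 hmono
  haveI : Module.Finite A W := h2 W ⟨i⟩
  haveI : CompactSpace X :=
    QuasiCompact.compactSpace_of_compactSpace (X ↘ Spec (CommRingCat.of A))
  haveI : X.IsSeparated := isSeparated_of_over (X ↘ Spec (CommRingCat.of A))
  letI algΓ : Algebra A ↑Γ(X, ⊤) :=
    ((Scheme.ΓSpecIso (CommRingCat.of A)).inv ≫ (X ↘ Spec (CommRingCat.of A)).appTop).hom.toAlgebra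
  -- A side
  let Ψ₁ : ↑((CohIII.globalSectionsA A).obj F) ≃ₗ[A] ↑Γ(X, ⊤) :=
    { toFun := fun s => gId A X F s
      invFun := fun s => s
      left_inv := fun s => rfl
      right_inv := fun s => rfl
      map_add' := fun s t => rfl
      map_smul' := fun a s => by
        change gId A X F (a • s) = _
        rw [gId_smul, Coh.smulAb_app]
        have h1 : Coh.resTop X (op ⊤) (Coh.toGlobal (fX A X) a) = Coh.toGlobal (fX A X) a := by
          change (X.ringCatSheaf.obj.map (𝟙 _)).hom _ = _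
          rw [CategoryTheory.Functor.map_id]
          rfl
        rw [h1]
        rfl }
  let Ψ₂ : ↑((CohIII.globalSectionsA A).obj ((CohIII.tensorAFunctor A F).obj (ModuleCat.of A A)))
      ≃ₗ[A] ↑((CohIII.globalSectionsA A).obj F) :=
    ((CohIII.globalSectionsA A).mapIso (tAFUnitIso A X F)).toLinearEquiv
  let Ψ₃ := gEquiv A X F Q e0 (ModuleCat.of A A)
  let Ψ₄ : ↑((CohIII.TFun Q 0).obj (ModuleCat.of A A)) ≃ₗ[A] (W ⟶ ModuleCat.of A A) :=
    (i.app (ModuleCat.of A A)).toLinearEquiv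
  let Ψ₅ : (W ⟶ ModuleCat.of A A) ≃ₗ[A] (↑W →ₗ[A] A) := ModuleCat.homLinearEquiv
  let Ψ : ↑Γ(X, ⊤) ≃ₗ[A] (↑W →ₗ[A] A) :=
    Ψ₁.symm ≪≫ₗ Ψ₂.symm ≪≫ₗ Ψ₃.symm ≪≫ₗ Ψ₄ ≪≫ₗ Ψ₅
  -- K side
  let V : ModuleCat.{u} A := (ModuleCat.restrictScalars (algebraMap A K)).obj
      ((CohIII.bcCx (algebraMap A K) Q).homology 0)
  letI iV1 : AddCommGroup ↑V := ModuleCat.isAddCommGroup V
  letI iV2 : Module A ↑V := ModuleCat.isModule V
  let Θ₁ : ↑((CohIII.TFun Q 0).obj (BA A K)) ≃ₗ[A] ↑V := (θiso K Q 0).toLinearEquiv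
  let Θ₂ : ↑((CohIII.TFun Q 0).obj (BA A K)) ≃ₗ[A] (W ⟶ BA A K) :=
    (i.app (BA A K)).toLinearEquiv
  let Θ₃ : (W ⟶ BA A K) ≃ₗ[A] (↑W →ₗ[A] ↑(BA A K)) := ModuleCat.homLinearEquiv
  let idK : ↑(BA A K) ≃ₗ[A] K :=
    { toFun := fun x => x
      invFun := fun x => x
      left_inv := fun x => rfl
      right_inv := fun x => rfl
      map_add' := fun x y => rfl
      map_smul' := fun a x => by
        change ((algebraMap A K a) * (show K from x) : K) = a • (show K from x)
        rw [Algebra.smul_def] }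
  let Θ₄ : (↑W →ₗ[A] ↑(BA A K)) ≃ₗ[A] (↑W →ₗ[A] K) := LinearEquiv.congrRight idK
  let Θ : (↑W →ₗ[A] ResidueField A) ≃ₗ[A] ↑V := Θ₄.symm ≪≫ₗ Θ₃.symm ≪≫ₗ Θ₂.symm ≪≫ₗ Θ₁
  obtain ⟨L⟩ := fibre_linearEquiv A K X X₀ g H F Q 0 0 e0
  let L₂ : Coh.HH X₀ ((Scheme.Modules.pullback g).obj F) 0 ≃ₗ[K] Coh.HH X₀ (unitM X₀) 0 :=
    { ((CohIII.HAb X₀ 0).mapIso (pullbackUnitIso g)).addCommGroupIsoToAddEquiv with
      map_smul' := fun b x => HH_map_smul (pullbackUnitIso g).hom 0
        (Coh.toGlobal (X₀ ↘ Spec (CommRingCat.of K)) b) x }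
  have hrank : Module.finrank K ((CohIII.bcCx (algebraMap A K) Q).homology 0) = 1 := by
    rw [(L ≪≫ₗ L₂).finrank_eq]
    exact Groth.Agent.Lib.Helper21.PropH0.finrank_hh0_eq_one_of_bijective K X₀ hfib
  obtain ⟨v₀, hv₀, hspan⟩ := finrank_eq_one_iff'.mp hrank
  have hV : ∀ v : ↑V, ∃ a : A, v = a • (show ↑V from v₀) := by
    intro v
    obtain ⟨c, hc⟩ := hspan v
    obtain ⟨a, rfl⟩ := IsLocalRing.residue_surjective c
    exact ⟨a, hc.symm⟩
  exact @Groth.Agent.Lib.Helper26.RigA.algLocal A _ _ ↑Γ(X, ⊤) _ algΓ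
    (injective_main A X X₀ g H hfib) (↑W) _ _ _ Ψ (↑V) iV1 iV2 v₀ hv₀ hV Θ


include H hfib in
theorem bijective_main :
    Function.Bijective ((Scheme.ΓSpecIso (CommRingCat.of A)).inv ≫
      (X ↘ Spec (CommRingCat.of A)).appTop).hom :=
  ⟨injective_main A X X₀ g H hfib, surjective_main A X X₀ g H hfib⟩

end main

end Groth.Agent.Lib.Helper26.P1L
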