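import Mathlib
import Groth.Prelude.Def_AbDual
set_option backward.isDefEq.respectTransparency.types false
set_option autoImplicit false

open CategoryTheory CategoryTheory.Limits MonoidalCategory CartesianMonoidalCategory MonObj GrpObj AlgebraicGeometry

namespace Groth.Agent.Lib.Helper26.PRank
universe u

theorem card_tors {A : Type*} [CommGroup A] (p m i : ℕ) [Fact p.Prime]
    (e : (powMonoidHom (p ^ m) : A →* A).ker ≃* Multiplicative (Fin i → ZMod (p ^ m))) :
    Nat.card (powMonoidHom (p ^ m) : A →* A).ker = (p ^ m) ^ i := by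
  rw [Nat.card_congr e.toEquiv]
  have : NeZero (p ^ m) := ⟨pow_ne_zero _ (Fact.out : p.Prime).ne_zero⟩
  rw [Nat.card_congr Multiplicative.toAdd, Nat.card_fun, Nat.card_zmod, Nat.card_fin]

theorem le_of_finite_ker {A B : Type*} [CommGroup A] [CommGroup B] (φ : A →* B)
    [Finite φ.ker] (p : ℕ) [Fact p.Prime] (i j : ℕ)
    (hi : ∀ m : ℕ, Nonempty ((powMonoidHom (p ^ m) : A →* A).ker ≃* Multiplicative (Fin i → ZMod (p ^ m))))
    (hj : ∀ m : ℕ, Nonempty ((powMonoidHom (p ^ m) : B →* B).ker ≃* Multiplicative (Fin j → ZMod (p ^ m)))) :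
    i ≤ j := by
  have hp : 2 ≤ p := (Fact.out : p.Prime).two_le
  set n := Nat.card φ.ker with hn
  have key : ∀ m : ℕ, (p ^ m) ^ i ≤ n * (p ^ m) ^ j := by
    intro m
    obtain ⟨ei⟩ := hi m
    obtain ⟨ej⟩ := hj m
    have hAfin : Finite (powMonoidHom (p ^ m) : A →* A).ker := Finite.of_equiv _ ei.symm.toEquiv
    have hBfin : Finite (powMonoidHom (p ^ m) : B →* B).ker := Finite.of_equiv _ ej.symm.toEquiv
    rw [← card_tors p m i ei, ← card_tors p m j ej]
    set ψ : (powMonoidHom (p ^ m) : A →* A).ker →* B :=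
      φ.comp (Subgroup.subtype _) with hψ
    rw [← ψ.ker.card_mul_index, Subgroup.index_ker]
    refine Nat.mul_le_mul ?_ ?_
    · refine Nat.card_le_card_of_injective (fun x => (⟨x.1.1, ?_⟩ : φ.ker)) ?_
      · have := x.2
        rw [MonoidHom.mem_ker] at this ⊢
        exact this
      · intro x y hxy
        have : x.1.1 = y.1.1 := by
          have := congrArg Subtype.val hxy
          exact this
        exact Subtype.ext (Subtype.ext this)
    · refine Subgroup.card_le_of_le ?_
      rintro _ ⟨x, rfl⟩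
      rw [MonoidHom.mem_ker]
      have := x.2
      rw [MonoidHom.mem_ker] at this
      simp only [powMonoidHom_apply] at this ⊢
      rw [hψ, MonoidHom.comp_apply, Subgroup.subtype_apply, ← map_pow, this, map_one]
  by_contra hlt
  rw [not_le] at hlt
  obtain ⟨d, rfl⟩ := Nat.exists_eq_add_of_lt hlt
  have h1 := key n
  have h2 : (p ^ n) ^ (j + d + 1) = (p ^ n) ^ j * (p ^ n) ^ (d + 1) := by
    rw [← pow_add, add_assoc]
  rw [h2, mul_comm n] at h1
  have h3 : (p ^ n) ^ (d + 1) ≤ n :=
    Nat.le_of_mul_le_mul_left h1 (pow_pos (pow_pos (by omega) _) _)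
  have h4 : n < (p ^ n) ^ (d + 1) := by
    calc n < 2 ^ n := Nat.lt_two_pow_self
      _ ≤ p ^ n := Nat.pow_le_pow_left hp n
      _ = (p ^ n) ^ 1 := (pow_one _).symm
      _ ≤ (p ^ n) ^ (d + 1) := Nat.pow_le_pow_right (pow_pos (by omega) _) (by omega)
  omega

theorem ge_of_finite_ker {A B : Type*} [CommGroup A] [CommGroup B] (φ : A →* B)
    (hφ : Function.Surjective φ)
    [Finite φ.ker] (p : ℕ) [Fact p.Prime] (i j : ℕ)
    (hi : ∀ m : ℕ, Nonempty ((powMonoidHom (p ^ m) : A →* A).ker ≃* Multiplicative (Fin i → ZMod (p ^ m))))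
    (hj : ∀ m : ℕ, Nonempty ((powMonoidHom (p ^ m) : B →* B).ker ≃* Multiplicative (Fin j → ZMod (p ^ m)))) :
    j ≤ i := by
  have hpp : p.Prime := Fact.out
  have hp : 2 ≤ p := hpp.two_le
  set n := Nat.card φ.ker with hn
  have hn0 : n ≠ 0 := Nat.card_pos.ne'
  obtain ⟨s, n', hn', hnn⟩ := Nat.exists_eq_pow_mul_and_not_dvd hn0 p hpp.ne_one
  have key : ∀ m : ℕ, (p ^ m) ^ j ≤ (p ^ (m + s)) ^ i := by
    intro m
    obtain ⟨ei⟩ := hi (m + s)
    obtain ⟨ej⟩ := hj m
    have hAfin : Finite (powMonoidHom (p ^ (m + s)) : A →* A).ker := Finite.of_equiv _ ei.symm.toEquiv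
    have hBfin : Finite (powMonoidHom (p ^ m) : B →* B).ker := Finite.of_equiv _ ej.symm.toEquiv
    rw [← card_tors p (m + s) i ei, ← card_tors p m j ej]
    have hle : (powMonoidHom (p ^ m) : B →* B).ker ≤
        ((powMonoidHom (p ^ (m + s)) : A →* A).ker).map φ := by
      intro b hb
      have hcop : (Nat.card (powMonoidHom (p ^ m) : B →* B).ker).Coprime n' := by
        rw [card_tors p m j ej, ← pow_mul]
        exact Nat.Coprime.pow_left _ ((Nat.Prime.coprime_iff_not_dvd hpp).2 hn')
      obtain ⟨b', hb'⟩ := (powCoprime hcop).surjective ⟨b, hb⟩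
      obtain ⟨a', ha'⟩ := hφ b'.1
      refine ⟨a' ^ n', ?_, ?_⟩
      · rw [SetLike.mem_coe, MonoidHom.mem_ker, powMonoidHom_apply]
        have h1 : a' ^ p ^ m ∈ φ.ker := by
          rw [MonoidHom.mem_ker, map_pow, ha']
          have := b'.2
          rw [MonoidHom.mem_ker, powMonoidHom_apply] at this
          exact this
        have h2 : (⟨a' ^ p ^ m, h1⟩ : φ.ker) ^ n = 1 := by
          rw [hn]; exact pow_card_eq_one'
        have h3 : (a' ^ p ^ m) ^ n = 1 := by
          have := congrArg Subtype.val h2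
          simpa using this
        rw [← pow_mul, ← h3, ← pow_mul, hnn]
        congr 1
        ring
      · rw [map_pow, ha']
        have := congrArg Subtype.val hb'
        simpa [powCoprime] using this
    have hfin : Finite (((powMonoidHom (p ^ (m + s)) : A →* A).ker).map φ) := by
      have : Finite (φ '' ((powMonoidHom (p ^ (m + s)) : A →* A).ker : Set A)) :=
        ((Set.toFinite _).image φ).to_subtype
      exact this
    calc Nat.card (powMonoidHom (p ^ m) : B →* B).ker
        ≤ Nat.card (((powMonoidHom (p ^ (m + s)) : A →* A).ker).map φ) :=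
          Subgroup.card_le_of_le hle
      _ ≤ Nat.card (powMonoidHom (p ^ (m + s)) : A →* A).ker :=
          Nat.le_of_dvd Nat.card_pos (Subgroup.card_map_dvd _ _)
  by_contra hlt
  rw [not_le] at hlt
  obtain ⟨d, rfl⟩ := Nat.exists_eq_add_of_lt hlt
  have h1 := key (s * i + 1)
  rw [← pow_mul, ← pow_mul] at h1
  have h2 := (Nat.pow_le_pow_iff_right (by omega : 1 < p)).1 h1
  have e1 : (s * i + 1) * (i + d + 1) = (s * i + 1) * i + (s * i + 1) * (d + 1) := by ring
  have e2 : (s * i + 1 + s) * i = (s * i + 1) * i + s * i := by ring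
  have e3 : s * i + 1 ≤ (s * i + 1) * (d + 1) := Nat.le_mul_of_pos_right _ (by omega)
  omega

variable {k : Type u} [Field k] {Ω : Type u} [Field Ω] [Algebra k Ω] [IsAlgClosed Ω]

theorem exists_lift {X Y : Over (Spec (CommRingCat.of k))} (h : X ⟶ Y) [IsFinite h.left]
    [Surjective h.left]
    (y : (Over.mk (Spec.map (CommRingCat.ofHom (algebraMap k Ω))) : Over (Spec (CommRingCat.of k))) ⟶ Y) :
    ∃ a : (Over.mk (Spec.map (CommRingCat.ofHom (algebraMap k Ω))) : Over (Spec (CommRingCat.of k))) ⟶ X,
      a ≫ h = y := by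
  have hfin : IsFinite (pullback.snd h.left y.left) := inferInstance
  have hsur : Surjective (pullback.snd h.left y.left) := inferInstance
  have hlft : LocallyOfFiniteType (pullback.snd h.left y.left) := inferInstance
  have hjΩ : JacobsonSpace ↥(Over.mk (Spec.map (CommRingCat.ofHom (algebraMap k Ω))) :
      Over (Spec (CommRingCat.of k))).left :=
    (inferInstance : JacobsonSpace ↥(Spec (CommRingCat.of Ω)))
  have hjac : JacobsonSpace ↥(pullback h.left y.left) :=
    LocallyOfFiniteType.jacobsonSpace (pullback.snd h.left y.left)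
  obtain ⟨z, -⟩ := (pullback.snd h.left y.left).surjective (IsLocalRing.closedPoint Ω)
  obtain ⟨x, hx⟩ : ∃ x : ↥(pullback h.left y.left), IsClosed {x} := by
    by_contra hcon
    have hemp : closedPoints ↥(pullback h.left y.left) = ∅ := by
      ext w
      simp only [Set.mem_empty_iff_false, iff_false]
      intro hw
      exact hcon ⟨w, hw⟩
    have := _root_.closure_closedPoints (X := ↥(pullback h.left y.left))
    rw [hemp, closure_empty] at this
    exact (Set.mem_empty_iff_false z).1 (this ▸ Set.mem_univ z)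
  have hσ := pointOfClosedPoint_comp (pullback.snd h.left y.left) x hx
  refine ⟨Over.homMk (pointOfClosedPoint (pullback.snd h.left y.left) x hx ≫
    pullback.fst h.left y.left) ?_, ?_⟩
  · simp only [Over.mk_hom, Category.assoc]
    rw [← Over.w h, pullback.condition_assoc, reassoc_of% hσ, Over.w y]
    rfl
  · ext
    simp only [Over.comp_left, Over.homMk_left, Category.assoc]
    rw [pullback.condition, reassoc_of% hσ]

theorem finite_fiber {X Y : Over (Spec (CommRingCat.of k))} (h : X ⟶ Y) [IsFinite h.left]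
    (y : (Over.mk (Spec.map (CommRingCat.ofHom (algebraMap k Ω))) : Over (Spec (CommRingCat.of k))) ⟶ Y) :
    Finite {a : (Over.mk (Spec.map (CommRingCat.ofHom (algebraMap k Ω))) :
      Over (Spec (CommRingCat.of k))) ⟶ X // a ≫ h = y} := by
  have hfin : IsFinite (pullback.snd h.left y.left) := inferInstance
  have hlft : LocallyOfFiniteType (pullback.snd h.left y.left) := inferInstance
  have hPfin : Finite ↥(pullback h.left y.left) := by
    have h1 := Scheme.Hom.finite_preimage_singleton (pullback.snd h.left y.left)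
      (IsLocalRing.closedPoint Ω)
    refine Set.finite_univ_iff.1 (h1.subset fun w _ => ?_)
    exact Subsingleton.elim (α := PrimeSpectrum Ω) _ _
  have hw : ∀ a : {a : (Over.mk (Spec.map (CommRingCat.ofHom (algebraMap k Ω))) :
      Over (Spec (CommRingCat.of k))) ⟶ X // a ≫ h = y},
      a.1.left ≫ h.left = 𝟙 (Spec (CommRingCat.of Ω)) ≫ y.left := by
    intro a
    rw [Category.id_comp, ← Over.comp_left, a.2]
  refine Finite.of_injective (β := ↥(pullback h.left y.left))
    (fun a => (pullback.lift a.1.left (𝟙 (Spec (CommRingCat.of Ω))) (hw a)).base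
      (IsLocalRing.closedPoint Ω)) ?_
  intro a b hab
  have := ext_of_apply_closedPoint_eq (pullback.snd h.left y.left)
    (pullback.lift_snd _ _ (hw a)) (pullback.lift_snd _ _ (hw b)) hab
  have h3 := congrArg (· ≫ pullback.fst h.left y.left) this
  simp only [pullback.lift_fst] at h3
  exact Subtype.ext (Over.OverMorphism.ext h3)


theorem main_16673 (k : Type u) [Field k] (p : ℕ) [Fact p.Prime]
    (X Y : Over (Spec (CommRingCat.of k)))
    [GrpObj X] [IsCommMonObj X] [GrpObj Y] [IsCommMonObj Y]
    (h : X ⟶ Y) [IsMonHom h] [IsFinite h.left] [Surjective h.left]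
    (i j : ℕ)
    (hi : ∀ m : ℕ, Nonempty (AbDual.torsPts X (p ^ m)
      (Over.mk (Spec.map (CommRingCat.ofHom (algebraMap k (AlgebraicClosure k))))) ≃*
      Multiplicative (Fin i → ZMod (p ^ m))))
    (hj : ∀ m : ℕ, Nonempty (AbDual.torsPts Y (p ^ m)
      (Over.mk (Spec.map (CommRingCat.ofHom (algebraMap k (AlgebraicClosure k))))) ≃*
      Multiplicative (Fin j → ZMod (p ^ m)))) :
    i = j := by
  let φ : ((Over.mk (Spec.map (CommRingCat.ofHom (algebraMap k (AlgebraicClosure k)))) :
      Over (Spec (CommRingCat.of k))) ⟶ X) →*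
      ((Over.mk (Spec.map (CommRingCat.ofHom (algebraMap k (AlgebraicClosure k)))) :
      Over (Spec (CommRingCat.of k))) ⟶ Y) :=
    { toFun := fun a => a ≫ h
      map_one' := MonObj.one_comp h
      map_mul' := fun a b => MonObj.mul_comp a b h }
  have hsurj : Function.Surjective φ := fun y => exists_lift h y
  have hfin : Finite φ.ker := finite_fiber h 1
  exact le_antisymm (le_of_finite_ker φ p i j hi hj) (ge_of_finite_ker φ hsurj p i j hi hj)

end Groth.Agent.Lib.Helper26.PRank
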