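import Mathlib

set_option linter.unusedSectionVars false
set_option linter.style.haveILetI false
set_option linter.unusedVariables false

open MvPowerSeries

namespace Groth.Agent.Lib.Helper26.PSChain

variable {R : Type*} [CommRing R] {σ : Type*}

/-- the derivative lowers the order by at most one -/
lemma le_order_pderiv (i : σ) (G : MvPowerSeries σ R) (m : ℕ) (hG : ((m + 1 : ℕ) : ℕ∞) ≤ G.order) :
    (m : ℕ∞) ≤ (pderiv R i G).order := by
  apply nat_le_order
  intro d hd
  rw [coeff_pderiv]
  have : coeff (d + Finsupp.single i 1) G = 0 := by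
    apply coeff_of_lt_order
    refine lt_of_lt_of_le ?_ hG
    rw [map_add, Finsupp.degree_single]
    exact_mod_cast Nat.succ_lt_succ hd
  rw [this, zero_mul]

lemma le_order_pow_of_const_zero (a : MvPowerSeries σ R) (ha : constantCoeff a = 0) (N : ℕ) :
    (N : ℕ∞) ≤ (a ^ N).order := by
  have h1 : (1 : ℕ∞) ≤ a.order := one_le_order_iff_constCoeff_eq_zero.mpr ha
  calc (N : ℕ∞) = N • (1 : ℕ∞) := by simp
    _ ≤ N • a.order := nsmul_le_nsmul_right h1 N
    _ ≤ (a ^ N).order := le_order_pow N

/-- the chain rule for substitution of a multivariate series in a univariate one -/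
theorem pderiv_psubst (a : MvPowerSeries σ R) (ha : constantCoeff a = 0) (f : PowerSeries R)
    (i : σ) :
    pderiv R i (PowerSeries.subst a f) =
      PowerSeries.subst a (PowerSeries.derivative R f) * pderiv R i a := by
  have hs : PowerSeries.HasSubst a := PowerSeries.HasSubst.of_constantCoeff_zero ha
  -- the polynomial case
  have hpoly : ∀ p : Polynomial R, pderiv R i (PowerSeries.subst a (p : PowerSeries R)) =
      PowerSeries.subst a (PowerSeries.derivative R (p : PowerSeries R)) * pderiv R i a := by
    intro p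
    rw [PowerSeries.subst_coe hs, PowerSeries.derivative_coe, PowerSeries.subst_coe hs,
      Derivation.comp_aeval_eq, smul_eq_mul]
  ext n
  set M := n.degree + 1 with hM
  set f₂ : PowerSeries R := PowerSeries.mk fun j => PowerSeries.coeff (j + (M + 1)) f with hf₂
  have hdecomp := PowerSeries.eq_X_pow_mul_shift_add_trunc (M + 1) f
  rw [← hf₂] at hdecomp
  -- the tail
  have htail1 : coeff n (pderiv R i (PowerSeries.subst a (PowerSeries.X ^ (M + 1) * f₂))) = 0 := by
    apply coeff_of_lt_order
    have h1 : ((M + 1 : ℕ) : ℕ∞) ≤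
        (PowerSeries.subst a (PowerSeries.X ^ (M + 1) * f₂)).order := by
      rw [PowerSeries.subst_mul hs, PowerSeries.subst_pow hs, PowerSeries.subst_X hs]
      refine le_trans ?_ (le_order_mul)
      exact le_trans (le_order_pow_of_const_zero a ha (M + 1)) (le_add_right le_rfl)
    have h2 := le_order_pderiv i _ M h1
    refine lt_of_lt_of_le ?_ h2
    exact_mod_cast Nat.lt_succ_self _
  have htail2 : coeff n (PowerSeries.subst a
      (PowerSeries.derivative R (PowerSeries.X ^ (M + 1) * f₂)) * pderiv R i a) = 0 := by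
    apply coeff_of_lt_order
    have e : PowerSeries.derivative R (PowerSeries.X ^ (M + 1) * f₂)
        = PowerSeries.X ^ M * (((M + 1 : ℕ) : PowerSeries R) * f₂
          + PowerSeries.X * PowerSeries.derivative R f₂) := by
      rw [Derivation.leibniz, PowerSeries.derivative_pow, PowerSeries.derivative_X]
      simp only [smul_eq_mul, Nat.add_sub_cancel, pow_succ]
      ring
    rw [e, PowerSeries.subst_mul hs, PowerSeries.subst_pow hs, PowerSeries.subst_X hs]
    have h1 : ((M : ℕ) : ℕ∞) ≤ (a ^ M * PowerSeries.subst a (((M + 1 : ℕ) : PowerSeries R) * f₂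
          + PowerSeries.X * PowerSeries.derivative R f₂) * pderiv R i a).order := by
      refine le_trans ?_ (le_order_mul)
      refine le_trans ?_ (le_add_right le_order_mul)
      exact le_trans (le_order_pow_of_const_zero a ha M) (le_add_right le_rfl)
    refine lt_of_lt_of_le ?_ h1
    exact_mod_cast Nat.lt_succ_self _
  conv_lhs => rw [hdecomp, PowerSeries.subst_add hs, map_add, map_add, htail1, zero_add, hpoly]
  conv_rhs => rw [hdecomp, map_add, PowerSeries.subst_add hs, add_mul, map_add, htail2, zero_add]


/-- specialization commutes with univariate substitution -/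
lemma spec_psubst (b : Fin 2 → PowerSeries R) (hb : ∀ j, PowerSeries.constantCoeff (b j) = 0)
    (G : MvPowerSeries (Fin 2) R) (hG : constantCoeff G = 0) (f : PowerSeries R) :
    (MvPowerSeries.subst b (PowerSeries.subst G f) : PowerSeries R)
      = PowerSeries.subst (MvPowerSeries.subst b G : PowerSeries R) f := by
  have hbs : HasSubst (b : Fin 2 → MvPowerSeries Unit R) := hasSubst_of_constantCoeff_zero hb
  have hGs : HasSubst (fun _ : Unit => G) := hasSubst_of_constantCoeff_zero (fun _ => hG)
  exact subst_comp_subst_apply hGs hbs f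

theorem main (F : PowerSeries R)
    (h0 : PowerSeries.constantCoeff F = 1) (ha : IsUnit (PowerSeries.coeff 1 F))
    (hFE : PowerSeries.subst
        (MvPowerSeries.X (0 : Fin 2) + MvPowerSeries.X 1 * PowerSeries.subst (MvPowerSeries.X (0 : Fin 2)) F :
          MvPowerSeries (Fin 2) R) F =
      PowerSeries.subst (MvPowerSeries.X (0 : Fin 2)) F * PowerSeries.subst (MvPowerSeries.X (1 : Fin 2)) F) :
    F = 1 + PowerSeries.C (PowerSeries.coeff 1 F) * PowerSeries.X := by
  classical
  set a := PowerSeries.coeff 1 F with hadef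
  set F' := PowerSeries.derivative R F with hF'
  have hF'0 : PowerSeries.constantCoeff F' = a := by
    rw [← PowerSeries.coeff_zero_eq_constantCoeff_apply, hF', PowerSeries.coeff_derivative]
    simp [hadef]
  have hX0 : ∀ i : Fin 2, constantCoeff (X i : MvPowerSeries (Fin 2) R) = 0 :=
    fun i => constantCoeff_X i
  have hsX : ∀ i : Fin 2, PowerSeries.HasSubst (X i : MvPowerSeries (Fin 2) R) :=
    fun i => PowerSeries.HasSubst.of_constantCoeff_zero (hX0 i)
  have hFX0 : ∀ i : Fin 2, constantCoeff (PowerSeries.subst (X i : MvPowerSeries (Fin 2) R) F) = 1 := by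
    intro i
    rw [PowerSeries.constantCoeff_subst (hsX i)]
    rw [finsum_eq_single _ 0]
    · simp [h0]
    · intro d hd
      rw [map_pow, hX0 i, zero_pow hd, smul_zero]
  set A : MvPowerSeries (Fin 2) R := X 0 + X 1 * PowerSeries.subst (X (0 : Fin 2)) F with hA
  have hA0 : constantCoeff A = 0 := by
    rw [hA, map_add, map_mul, hX0, hX0, zero_mul, add_zero]
  -- partial derivatives
  have hd01 : pderiv R (1 : Fin 2) (X (0 : Fin 2) : MvPowerSeries (Fin 2) R) = 0 :=
    pderiv_X_of_ne (by decide)
  have hd10 : pderiv R (0 : Fin 2) (X (1 : Fin 2) : MvPowerSeries (Fin 2) R) = 0 :=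
    pderiv_X_of_ne (by decide)
  have hd00 : pderiv R (0 : Fin 2) (X (0 : Fin 2) : MvPowerSeries (Fin 2) R) = 1 := pderiv_X_self
  have hd11 : pderiv R (1 : Fin 2) (X (1 : Fin 2) : MvPowerSeries (Fin 2) R) = 1 := pderiv_X_self
  have E1 : PowerSeries.subst A F' * PowerSeries.subst (X (0 : Fin 2)) F
      = PowerSeries.subst (X (0 : Fin 2)) F * PowerSeries.subst (X (1 : Fin 2)) F' := by
    have := congrArg (pderiv R (1 : Fin 2)) hFE
    rw [pderiv_psubst A hA0, Derivation.leibniz, pderiv_psubst _ (hX0 0), pderiv_psubst _ (hX0 1),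
      hA, map_add, Derivation.leibniz, pderiv_psubst _ (hX0 0), hd01, hd11] at this
    simpa using this
  have E2 : PowerSeries.subst A F' * (1 + X 1 * PowerSeries.subst (X (0 : Fin 2)) F')
      = PowerSeries.subst (X (1 : Fin 2)) F * PowerSeries.subst (X (0 : Fin 2)) F' := by
    have := congrArg (pderiv R (0 : Fin 2)) hFE
    rw [pderiv_psubst A hA0, Derivation.leibniz, pderiv_psubst _ (hX0 0), pderiv_psubst _ (hX0 1),
      hA, map_add, Derivation.leibniz, pderiv_psubst _ (hX0 0), hd10, hd00] at this
    simpa using this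
  -- specializations
  have key : ∀ b : Fin 2 → PowerSeries R, (∀ j, PowerSeries.constantCoeff (b j) = 0) →
      ∀ (i : Fin 2) (f : PowerSeries R),
      (MvPowerSeries.subst b (PowerSeries.subst (X i : MvPowerSeries (Fin 2) R) f) : PowerSeries R)
        = PowerSeries.subst (b i) f := by
    intro b hb i f
    have hbs : HasSubst (b : Fin 2 → MvPowerSeries Unit R) := hasSubst_of_constantCoeff_zero hb
    rw [spec_psubst b hb _ (hX0 i), subst_X hbs]
  have hsub0 : ∀ f : PowerSeries R, PowerSeries.subst (0 : PowerSeries R) f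
      = PowerSeries.C (PowerSeries.constantCoeff f) := by
    intro f
    rw [PowerSeries.subst_zero_eq_C_constantCoeff]
    simp
    rfl
  have hFunit : IsUnit F := by
    rw [PowerSeries.isUnit_iff_constantCoeff, h0]
    exact isUnit_one
  have hCa : IsUnit (PowerSeries.C a : PowerSeries R) := ha.map _
  -- first specialization: X₀ ↦ T, X₁ ↦ 0
  have hb1 : ∀ j : Fin 2, PowerSeries.constantCoeff ((![PowerSeries.X, 0] : Fin 2 → PowerSeries R) j) = 0 := by
    intro j
    fin_cases j
    · exact PowerSeries.constantCoeff_X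
    · exact map_zero _
  have hb1s : HasSubst (![PowerSeries.X, 0] : Fin 2 → MvPowerSeries Unit R) :=
    hasSubst_of_constantCoeff_zero hb1
  have hA1 : (MvPowerSeries.subst (![PowerSeries.X, 0] : Fin 2 → PowerSeries R) A : PowerSeries R)
      = PowerSeries.X := by
    rw [hA, subst_add hb1s, subst_mul hb1s, subst_X hb1s, subst_X hb1s]
    simp
  have G1 : F' * F = F * PowerSeries.C a := by
    have := congrArg (MvPowerSeries.subst (![PowerSeries.X, 0] : Fin 2 → PowerSeries R)) E1
    rw [subst_mul hb1s, subst_mul hb1s, spec_psubst _ hb1 A hA0, hA1, key _ hb1, key _ hb1] at this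
    simp only [Matrix.cons_val_zero, Matrix.cons_val_one, PowerSeries.X_subst, hsub0, hF'0] at this
    exact this
  have hF'eq : F' = PowerSeries.C a := by
    have : F * F' = F * PowerSeries.C a := by rw [mul_comm]; exact G1
    exact hFunit.mul_left_cancel this
  -- second specialization: X₀ ↦ 0, X₁ ↦ T
  have hb2 : ∀ j : Fin 2, PowerSeries.constantCoeff ((![0, PowerSeries.X] : Fin 2 → PowerSeries R) j) = 0 := by
    intro j
    fin_cases j
    · exact map_zero _
    · exact PowerSeries.constantCoeff_X
  have hb2s : HasSubst (![0, PowerSeries.X] : Fin 2 → MvPowerSeries Unit R) :=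
    hasSubst_of_constantCoeff_zero hb2
  have hA2 : (MvPowerSeries.subst (![0, PowerSeries.X] : Fin 2 → PowerSeries R) A : PowerSeries R)
      = PowerSeries.X := by
    rw [hA, subst_add hb2s, subst_mul hb2s, subst_X hb2s, subst_X hb2s, key _ hb2]
    simp only [Matrix.cons_val_zero, Matrix.cons_val_one, hsub0, h0]
    simp
  have G2 : F' * (1 + PowerSeries.X * PowerSeries.C a) = F * PowerSeries.C a := by
    have := congrArg (MvPowerSeries.subst (![0, PowerSeries.X] : Fin 2 → PowerSeries R)) E2
    rw [subst_mul hb2s, subst_mul hb2s, subst_add hb2s, subst_mul hb2s, subst_X hb2s,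
      spec_psubst _ hb2 A hA0, hA2, key _ hb2, key _ hb2] at this
    simp only [Matrix.cons_val_zero, Matrix.cons_val_one, PowerSeries.X_subst, hsub0, hF'0] at this
    rw [← this]
    congr 2
    rw [← coe_substAlgHom hb2s, map_one]
  rw [hF'eq] at G2
  have : PowerSeries.C a * (1 + PowerSeries.C a * PowerSeries.X) = PowerSeries.C a * F := by
    rw [mul_comm (PowerSeries.C a) F, ← G2]
    ring
  exact (hCa.mul_left_cancel this).symm

end Groth.Agent.Lib.Helper26.PSChain
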