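import Mathlib
import Groth.Prelude.Def_W4c2arithlefschetzNode
import Groth.Agent.Lib.Helper26.NodeAlg2
import Groth.Agent.Lib.Helper26.FixLen

/-!
# Fixed ideals of automorphisms of `B[[t]]`: continuity and the divisorial case (helper26)
-/

set_option autoImplicit false
universe u

namespace Groth.Agent.Lib.Helper26.PSFix

open PowerSeries Groth.Agent.Lib.Helper26.NodeAlg2 Groth.Agent.Lib.Helper26

variable {B : Type u} [CommRing B] [IsDomain B] [IsDiscreteValuationRing B]

/-- the maximal ideal `(π, X)` of `B[[X]]` -/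
noncomputable abbrev nn (π : B) : Ideal (PowerSeries B) := Ideal.span {C π, X}

lemma nn_le_jacobson (π : B) (hπ : Irreducible π) : nn π ≤ Ideal.jacobson ⊥ := by
  intro x hx
  rw [Ideal.mem_jacobson_bot]
  intro y
  rw [nn, Ideal.mem_span_pair] at hx
  obtain ⟨c, d, rfl⟩ := hx
  rw [PowerSeries.isUnit_iff_constantCoeff]
  have : constantCoeff ((c * C π + d * X) * y + 1) = π * (constantCoeff c * constantCoeff y) + 1 := by
    simp only [map_add, map_mul, map_one, constantCoeff_C, constantCoeff_X, mul_zero, add_zero]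
    ring
  rw [this]
  have hm : π * (constantCoeff c * constantCoeff y) ∈ IsLocalRing.maximalIdeal B := by
    rw [hπ.maximalIdeal_eq]
    exact Ideal.mul_mem_right _ _ (Ideal.mem_span_singleton_self π)
  have := (IsLocalRing.maximalIdeal_le_jacobson (⊥ : Ideal B)) hm
  exact (Ideal.mem_jacobson_bot.1 this) 1 |> fun h => by simpa using h

lemma mem_of_forall_mem_sup_pow (π : B) (hπ : Irreducible π) (J : Ideal (PowerSeries B))
    (x : PowerSeries B) (h : ∀ n : ℕ, x ∈ J ⊔ (nn π) ^ n) : x ∈ J := by
  have hk := Ideal.iInf_pow_smul_eq_bot_of_le_jacobson (M := PowerSeries B ⧸ J) (nn π)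
    (nn_le_jacobson π hπ)
  have h1 : (Submodule.Quotient.mk x : PowerSeries B ⧸ J) ∈
      (⨅ i : ℕ, (nn π) ^ i • ⊤ : Submodule (PowerSeries B) (PowerSeries B ⧸ J)) := by
    rw [Submodule.mem_iInf]
    intro n
    obtain ⟨j, hj, m, hm, rfl⟩ := Submodule.mem_sup.1 (h n)
    have : (Submodule.Quotient.mk (j + m) : PowerSeries B ⧸ J) =
        m • (Submodule.Quotient.mk 1 : PowerSeries B ⧸ J) := by
      rw [← Submodule.Quotient.mk_smul, smul_eq_mul, mul_one, Submodule.Quotient.eq]
      simpa using hj
    rw [this]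
    exact Submodule.smul_mem_smul hm Submodule.mem_top
  rw [hk, Submodule.mem_bot] at h1
  exact (Submodule.Quotient.mk_eq_zero J).1 h1

theorem fix_mem_ps (π : B) (hπ : Irreducible π) (σ : PowerSeries B →+* PowerSeries B)
    (J : Ideal (PowerSeries B))
    (hB : ∀ b : B, σ (C b) - C b ∈ J) (hX : σ X - X ∈ J) (hX' : σ X ∈ nn π)
    (x : PowerSeries B) : σ x - x ∈ J := by
  have hC : ∀ b : B, C b ∈ fixSubring σ J := hB
  have hX0 : (X : PowerSeries B) ∈ fixSubring σ J := hX
  have hpoly : ∀ p : Polynomial B, (p : PowerSeries B) ∈ fixSubring σ J := by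
    intro p
    induction p using Polynomial.induction_on with
    | C a => rw [Polynomial.coe_C]; exact hC a
    | add p q hp hq => rw [Polynomial.coe_add]; exact add_mem hp hq
    | monomial n a h =>
      rw [Polynomial.coe_mul, Polynomial.coe_C, Polynomial.coe_pow, Polynomial.coe_X]
      exact mul_mem (hC a) (pow_mem hX0 _)
  apply mem_of_forall_mem_sup_pow π hπ J
  intro n
  rw [PowerSeries.eq_X_pow_mul_shift_add_trunc n x]
  set g := PowerSeries.mk fun i => coeff (i + n) x
  have h1 : σ (trunc n x : PowerSeries B) - (trunc n x : PowerSeries B) ∈ J := hpoly _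
  have h2 : σ (X ^ n * g) - X ^ n * g ∈ (nn π) ^ n := by
    rw [map_mul, map_pow]
    exact sub_mem (Ideal.mul_mem_right _ _ (Ideal.pow_mem_pow hX' n))
      (Ideal.mul_mem_right _ _ (Ideal.pow_mem_pow (Ideal.subset_span (by simp)) n))
  have : σ (X ^ n * g + (trunc n x : PowerSeries B)) - (X ^ n * g + (trunc n x : PowerSeries B)) =
      (σ (trunc n x : PowerSeries B) - (trunc n x : PowerSeries B)) +
        (σ (X ^ n * g) - X ^ n * g) := by
    rw [map_add]; ring
  rw [this]
  exact Submodule.add_mem_sup h1 h2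

/-- S19595 -/
theorem main (π : B) (hπ : Irreducible π)
    (j i : ℕ) (hi : 0 < i) (hij : i < j) (γ : B) (hγ : IsUnit γ)
    (σ : PowerSeries B ≃+* PowerSeries B)
    (hσB : ∀ b : B, σ (algebraMap B (PowerSeries B) b) - algebraMap B (PowerSeries B) b ∈
      Ideal.span ({algebraMap B (PowerSeries B) (π ^ j)} : Set (PowerSeries B)))
    (hσπ : σ (algebraMap B (PowerSeries B) π) = algebraMap B (PowerSeries B) (π + γ * π ^ j))
    (f : PowerSeries B)
    (hf : σ PowerSeries.X - PowerSeries.X = algebraMap B (PowerSeries B) (π ^ i) * f)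
    (hfπ : ¬ (algebraMap B (PowerSeries B) π ∣ f)) :
    Module.length (PowerSeries B) (PowerSeries B ⧸ (ArLef.fixIdeal σ).colon
        ({algebraMap B (PowerSeries B) (π ^ i)} : Set (PowerSeries B))) =
      ((j - i : ℕ) : ℕ∞) * Module.length (PowerSeries (IsLocalRing.ResidueField B))
        (PowerSeries (IsLocalRing.ResidueField B) ⧸
        Ideal.span ({PowerSeries.map (IsLocalRing.residue B) f} :
          Set (PowerSeries (IsLocalRing.ResidueField B)))) := by
  have halg : ∀ b : B, algebraMap B (PowerSeries B) b = C b := fun b => rfl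
  simp only [halg] at hσB hσπ hf hfπ ⊢
  set P : PowerSeries B := C π with hP
  have hPne : P ≠ 0 := FixLen.Cpi_ne_zero hπ
  have hI : ArLef.fixIdeal σ = Ideal.span {P ^ j, P ^ i * f} := by
    apply le_antisymm
    · rw [ArLef.fixIdeal, Ideal.span_le]
      rintro _ ⟨x, rfl⟩
      show σ x - x ∈ _
      refine fix_mem_ps π hπ σ.toRingHom _ ?_ ?_ ?_ x
      · intro b
        have := hσB b
        rw [Ideal.mem_span_singleton] at this
        obtain ⟨c, hc⟩ := this
        show σ (C b) - C b ∈ _
        rw [hc, map_pow]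
        exact Ideal.mul_mem_right _ _ (Ideal.subset_span (Set.mem_insert _ _))
      · show σ X - X ∈ _
        rw [hf, map_pow]
        exact Ideal.subset_span (Set.mem_insert_of_mem _ rfl)
      · show σ X ∈ _
        have : σ X = X + C π ^ i * f := by rw [← map_pow, ← hf]; ring
        rw [this]
        refine add_mem (Ideal.subset_span (by simp)) ?_
        obtain ⟨i', rfl⟩ : ∃ i', i = i' + 1 := ⟨i - 1, by omega⟩
        rw [pow_succ, mul_assoc]
        exact Ideal.mul_mem_left _ _ (Ideal.mul_mem_right _ _ (Ideal.subset_span (by simp)))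
    · rw [Ideal.span_le]
      intro x hx
      rcases hx with rfl | hx
      · have h1 : σ (C π) - C π ∈ ArLef.fixIdeal σ := Ideal.subset_span ⟨C π, rfl⟩
        rw [hσπ, map_add, add_sub_cancel_left, map_mul, map_pow] at h1
        obtain ⟨u, hu⟩ := hγ
        have h2 : C (↑u⁻¹ : B) * (C γ * C π ^ j) ∈ ArLef.fixIdeal σ :=
          Ideal.mul_mem_left _ _ h1
        rw [← mul_assoc, ← map_mul, ← hu, Units.inv_mul, map_one, one_mul] at h2
        exact h2
      · rw [Set.mem_singleton_iff] at hx
        subst hx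
        have : P ^ i * f = σ X - X := by rw [hf, map_pow]
        rw [this]
        exact Ideal.subset_span ⟨X, rfl⟩
  have hcolon : (ArLef.fixIdeal σ).colon
      ({algebraMap B (PowerSeries B) (π ^ i)} : Set (PowerSeries B)) =
      FixLen.J π f (j - i) := by
    ext x
    rw [Submodule.mem_colon_singleton, hI, smul_eq_mul, halg, map_pow, ← hP, Ideal.mem_span_pair,
      FixLen.J, Ideal.mem_span_pair]
    constructor
    · rintro ⟨c, d, hcd⟩
      refine ⟨c, d, ?_⟩
      have : P ^ i * (c * P ^ (j - i) + d * f) = P ^ i * x := by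
        have hj : P ^ j = P ^ i * P ^ (j - i) := by rw [← pow_add]; congr 1; omega
        rw [hj] at hcd
        linear_combination hcd
      exact mul_left_cancel₀ (pow_ne_zero i hPne) this
    · rintro ⟨c, d, hcd⟩
      refine ⟨c, d, ?_⟩
      have hj : P ^ j = P ^ i * P ^ (j - i) := by rw [← pow_add]; congr 1; omega
      rw [hj, ← hcd]; ring
  rw [hcolon, FixLen.length_J hπ f hfπ (j - i), FixLen.length_J_one hπ f]

end Groth.Agent.Lib.Helper26.PSFix
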