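import Mathlib
import Groth.Prelude.Def_Adeq2
import Groth.Agent.Lib.Helper17.Reflective

set_option autoImplicit false
universe u
open CategoryTheory AlgebraicGeometry Opposite Limits

namespace Groth.Agent.Lib.Helper26.Parasitic


/-- the flat arrows of a sieve. -/
def flatPart {X : Scheme.{u}} (R : Sieve X) : Presieve X := fun _ g => R g ∧ Flat g

theorem flat_refine (K : Precoverage Scheme.{u})
    (hK : ∀ ⦃X : Scheme.{u}⦄ (R : Presieve X), R ∈ K X → ∀ ⦃Y : Scheme.{u}⦄ (g : Y ⟶ X), R g → Flat g)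
    {X : Scheme.{u}} (R : Sieve X) (hR : R ∈ K.toGrothendieck X) :
    Sieve.generate (flatPart R) ∈ K.toGrothendieck X := by
  induction hR with
  | of X S hS =>
    apply K.toGrothendieck.superset_covering _ (Precoverage.Saturate.of X S hS)
    apply Sieve.generate_mono
    intro Y g hg
    exact ⟨Sieve.le_generate S _ _ hg, hK S hS g hg⟩
  | top X =>
    apply K.toGrothendieck.superset_covering _ (K.toGrothendieck.top_mem X)
    intro Y g _
    exact ⟨X, g, 𝟙 X, ⟨trivial, inferInstance⟩, Category.comp_id g⟩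
  | pullback X S hS Y f ih =>
    apply K.toGrothendieck.superset_covering _ (K.toGrothendieck.pullback_stable f ih)
    intro Z g hg
    obtain ⟨V, h, s, ⟨hs, hsflat⟩, hcomp⟩ := hg
    have := hsflat
    refine ⟨pullback s f, pullback.lift h g hcomp, pullback.snd s f, ⟨?_, inferInstance⟩, ?_⟩
    · show S (pullback.snd s f ≫ f)
      rw [← pullback.condition]
      exact S.downward_closed hs _
    · exact pullback.lift_snd _ _ _
  | transitive X S R hS hR ih1 ih2 =>
    apply K.toGrothendieck.transitive ih1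
    intro Y g hg
    obtain ⟨V, h, s, ⟨hs, hsflat⟩, hcomp⟩ := hg
    rw [← hcomp, Sieve.pullback_comp]
    apply K.toGrothendieck.pullback_stable
    apply K.toGrothendieck.superset_covering _ (ih2 hs)
    rw [Sieve.generate_le_iff]
    intro W t ht
    obtain ⟨ht1, ht2⟩ := ht
    have := hsflat
    have := ht2
    exact ⟨W, 𝟙 W, t ≫ s, ⟨ht1, inferInstance⟩, Category.id_comp _⟩



variable (K : Precoverage Scheme.{u}) [BigSite.OSh K] (S : Scheme.{u})

theorem toSheaf_preservesFiniteColimits :
    PreservesFiniteColimits (SheafOfModules.toSheaf.{u+1} (BigSite.ORing K S)) := by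
  constructor
  intro D _ _
  have h1 : PreservesColimitsOfShape D
      (PresheafOfModules.toPresheaf.{u+1} (BigSite.ORing K S).obj ⋙
        presheafToSheaf (QuotSh.J K S) AddCommGrpCat.{u+1}) :=
    inferInstance
  have h2 : PreservesColimitsOfShape D
      (PresheafOfModules.sheafification.{u+1} (𝟙 (BigSite.ORing K S).obj) ⋙
        SheafOfModules.toSheaf.{u+1} (BigSite.ORing K S)) :=
    preservesColimitsOfShape_of_natIso
      (PresheafOfModules.sheafificationCompToSheaf.{u+1} (𝟙 (BigSite.ORing K S).obj)).symm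
  exact Groth.Agent.Lib.Helper17.Reflective.preservesColimitsOfShape_of_comp_left
    (PresheafOfModules.sheafificationAdjunction.{u+1} (𝟙 (BigSite.ORing K S).obj)) _



variable (K : Precoverage Scheme.{u}) (S : Scheme.{u})

/-- evaluation of abelian sheaves at `U`. -/
noncomputable abbrev evalAt (U : Over S) : Sheaf (QuotSh.J K S) AddCommGrpCat.{u+1} ⥤ AddCommGrpCat.{u+1} :=
  sheafToPresheaf _ _ ⋙ (evaluation _ _).obj (op U)

instance (U : Over S) : (evalAt K S U).Additive where
  map_add := rfl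

theorem exists_local_lift_ab (C : ShortComplex (Sheaf (QuotSh.J K S) AddCommGrpCat.{u+1}))
    (hC : C.Exact) (U : Over S)
    (x : C.X₂.obj.obj (op U)) (hx : C.g.hom.app (op U) x = 0) :
    ∃ R ∈ (QuotSh.J K S) U, ∀ ⦃V : Over S⦄ (i : V ⟶ U), R i →
      ∃ y : C.X₁.obj.obj (op V), C.f.hom.app (op V) y = C.X₂.obj.map i.op x := by
  -- the complex `cycles → X₂ → X₃`
  let Zc : ShortComplex (Sheaf (QuotSh.J K S) AddCommGrpCat.{u+1}) :=
    ShortComplex.mk C.iCycles C.g C.iCycles_g
  have hZc : Zc.Exact := ShortComplex.exact_of_f_is_kernel _ C.cyclesIsKernel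
  have hmono : Mono Zc.f := inferInstanceAs (Mono C.iCycles)
  have hZU : (Zc.map (evalAt K S U)).Exact :=
    hZc.map_of_mono_of_preservesKernel (evalAt K S U) hmono inferInstance
  obtain ⟨z, hz⟩ := (ShortComplex.ab_exact_iff _).1 hZU x hx
  -- `toCycles` is locally surjective
  have hepi : Epi C.toCycles := (C.exact_iff_epi_toCycles).1 hC
  have hls : Sheaf.IsLocallySurjective C.toCycles :=
    (Sheaf.isLocallySurjective_iff_epi' (A := AddCommGrpCat.{u+1}) C.toCycles).2 hepi
  refine ⟨Presheaf.imageSieve C.toCycles.hom z, Presheaf.imageSieve_mem _ _ z, ?_⟩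
  intro V i hi
  obtain ⟨y, hy⟩ := hi
  refine ⟨y, ?_⟩
  have h1 : C.f.hom.app (op V) y = C.iCycles.hom.app (op V) (C.toCycles.hom.app (op V) y) := by
    have := congrArg (fun k => k.hom.app (op V) y) C.toCycles_i
    exact this.symm
  rw [h1, hy]
  have h2 := congrArg (fun k => k z) (C.iCycles.hom.naturality i.op)
  simp only [AddCommGrpCat.hom_comp] at h2
  rw [← hz]
  exact h2


section main

lemma fppf_flat ⦃X : Scheme.{u}⦄ (R : Presieve X) (hR : R ∈ Scheme.fppfPrecoverage X)
    ⦃Y : Scheme.{u}⦄ (g : Y ⟶ X) (hg : R g) : Flat g :=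
  (hR.2 hg).1

theorem main (S : Scheme.{u}) (C : ShortComplex (BigSite.Mod Scheme.fppfPrecoverage S))
    (hC : C.Exact) (p₁ : Adeq.parasitic Scheme.fppfPrecoverage S C.X₁)
    (p₃ : Adeq.parasitic Scheme.fppfPrecoverage S C.X₃) :
    Adeq.parasitic Scheme.fppfPrecoverage S C.X₂ := by
  intro U hU
  suffices h : ∀ x : BigSite.sectMod Scheme.fppfPrecoverage C.X₂ U, x = 0 from
    ⟨fun a b => by rw [h a, h b]⟩
  intro x
  have := toSheaf_preservesFiniteColimits Scheme.fppfPrecoverage S
  let T := SheafOfModules.toSheaf.{u+1} (BigSite.ORing Scheme.fppfPrecoverage S)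
  have hC' : (C.map T).Exact := hC.map T
  have hsub3 : Subsingleton (BigSite.sectMod Scheme.fppfPrecoverage C.X₃ U) := p₃ U hU
  have hx : (C.map T).g.hom.app (op U) x = 0 := Subsingleton.elim (α := BigSite.sectMod Scheme.fppfPrecoverage C.X₃ U) _ _
  obtain ⟨R0, hR0, hlift⟩ := exists_local_lift_ab Scheme.fppfPrecoverage S (C.map T) hC' U x hx
  have hR0' : Sieve.overEquiv U R0 ∈ Scheme.fppfPrecoverage.toGrothendieck U.left :=
    (GrothendieckTopology.mem_over_iff _ _).1 hR0
  have hfl := flat_refine Scheme.fppfPrecoverage fppf_flat _ hR0'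
  have hR1 : (Sieve.overEquiv U).symm (Sieve.generate (flatPart (Sieve.overEquiv U R0))) ∈
      QuotSh.J Scheme.fppfPrecoverage S U :=
    GrothendieckTopology.overEquiv_symm_mem_over _ U _ hfl
  -- x vanishes along the refined sieve
  have hzero : ∀ ⦃V : Over S⦄ (i : V ⟶ U),
      (Sieve.overEquiv U).symm (Sieve.generate (flatPart (Sieve.overEquiv U R0))) i →
      (C.map T).X₂.obj.map i.op x = 0 := by
    intro V i hi
    rw [Sieve.overEquiv_symm_iff] at hi
    obtain ⟨W, h, s, ⟨hs, hsflat⟩, hcomp⟩ := hi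
    rw [Sieve.overEquiv_iff] at hs
    -- the flat object `W' = (W → U.left → S)`
    have hWflat : Flat (Over.mk (s ≫ U.hom)).hom := by
      have := hsflat
      have := hU
      show Flat (s ≫ U.hom)
      infer_instance
    have hsub1 : Subsingleton (BigSite.sectMod Scheme.fppfPrecoverage C.X₁ (Over.mk (s ≫ U.hom))) :=
      p₁ _ hWflat
    obtain ⟨y, hy⟩ := hlift _ hs
    have hy0 : y = 0 := Subsingleton.elim (α := BigSite.sectMod Scheme.fppfPrecoverage C.X₁ (Over.mk (s ≫ U.hom))) _ _
    rw [hy0, map_zero] at hy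
    -- factor `i`
    let h' : V ⟶ Over.mk (s ≫ U.hom) := Over.homMk h (by
      show h ≫ s ≫ U.hom = V.hom
      rw [← Category.assoc, hcomp, Over.w])
    have hi' : i = h' ≫ (Over.homMk s : Over.mk (s ≫ U.hom) ⟶ U) := by
      ext
      exact hcomp.symm
    rw [hi', op_comp, Functor.map_comp]
    show (C.map T).X₂.obj.map h'.op ((C.map T).X₂.obj.map (Over.homMk s : Over.mk (s ≫ U.hom) ⟶ U).op x) = 0
    rw [← hy, map_zero]
  -- separatedness
  have hsheaf : Presheaf.IsSheaf (QuotSh.J Scheme.fppfPrecoverage S) (C.map T).X₂.obj :=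
    (C.map T).X₂.property
  have hsep := ((Presheaf.isSheaf_iff_isSheaf_forget _ _ (forget AddCommGrpCat.{u+1})).1 hsheaf)
  rw [isSheaf_iff_isSheaf_of_type] at hsep
  refine (hsep _ hR1).isSeparatedFor.ext ?_
  intro V i hi
  show (C.map T).X₂.obj.map i.op x = (C.map T).X₂.obj.map i.op 0
  rw [hzero i hi, map_zero]

end main

end Groth.Agent.Lib.Helper26.Parasitic
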