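import Mathlib
import Groth.Agent.Lib.Helper12.HensInt
import Groth.Agent.Lib.Helper26.DvrExt

set_option autoImplicit false
set_option linter.unusedVariables false
set_option linter.unusedSectionVars false
set_option linter.style.haveILetI false
set_option linter.overlappingInstances false
universe u
open Polynomial IsLocalRing

namespace Groth.Agent.Lib.Helper26.PerfExt

theorem tower_AEL (A K L : Type u) [CommRing A] [Field K] [Field L] [Algebra A K] [Algebra K L]
    [Algebra A L] [IsScalarTower A K L] (E : IntermediateField K L) : IsScalarTower A E L :=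
  IsScalarTower.of_algebraMap_eq (fun a => by
    rw [IsScalarTower.algebraMap_apply A K E, IsScalarTower.algebraMap_apply A K L]; rfl)

section Rank

attribute [local instance] Ideal.Quotient.field

theorem rank_pow (R S : Type u) [CommRing R] [IsLocalRing R] [CommRing S] [IsLocalRing S]
    [Algebra R S] [Module.Finite R S] [Module.Free R S]
    (hmap : (maximalIdeal R).map (algebraMap R S) = maximalIdeal S)
    (p : ℕ) [hp : ExpChar (ResidueField R) p]
    (hpi : ∀ y : S, ∃ (n : ℕ) (z : R), algebraMap R S z - y ^ p ^ n ∈ maximalIdeal S) :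
    ∃ m : ℕ, Module.finrank R S = p ^ m := by
  haveI hmax : ((maximalIdeal R).map (algebraMap R S)).IsMaximal := by
    rw [hmap]; infer_instance
  haveI : ExpChar (R ⧸ maximalIdeal R) p := hp
  haveI : Module.Finite (R ⧸ maximalIdeal R) (S ⧸ (maximalIdeal R).map (algebraMap R S)) :=
    Module.Finite.of_restrictScalars_finite R _ _
  haveI : IsPurelyInseparable (R ⧸ maximalIdeal R)
      (S ⧸ (maximalIdeal R).map (algebraMap R S)) := by
    rw [isPurelyInseparable_iff_pow_mem _ p]
    intro x
    obtain ⟨y, rfl⟩ := Ideal.Quotient.mk_surjective x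
    obtain ⟨n, z, hz⟩ := hpi y
    refine ⟨n, Ideal.Quotient.mk _ z, ?_⟩
    rw [← map_pow]
    have : algebraMap (R ⧸ maximalIdeal R) (S ⧸ (maximalIdeal R).map (algebraMap R S))
        (Ideal.Quotient.mk _ z) = Ideal.Quotient.mk _ (algebraMap R S z) := rfl
    rw [this, Ideal.Quotient.eq, hmap]
    exact hz
  obtain ⟨m, hm⟩ := IsPurelyInseparable.finrank_eq_pow (R ⧸ maximalIdeal R)
    (S ⧸ (maximalIdeal R).map (algebraMap R S)) p
  exact ⟨m, by rw [← IsLocalRing.finrank_quotient_map (R := R) (S := S), hm]⟩

end Rank

section Int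

attribute [local instance] FractionRing.liftAlgebra FractionRing.isScalarTower_liftAlgebra

variable (R OL : Type u) [CommRing R] [IsDomain R] [IsDiscreteValuationRing R]
  [HenselianLocalRing R]
  [CommRing OL] [IsDomain OL] [IsDiscreteValuationRing OL] [Algebra R OL]
  [IsLocalHom (algebraMap R OL)]

/-- The key lemma: an element of `OL` whose image in the fraction field lies in a finite separable
subextension `L₀` is integral over `R`. -/
theorem isIntegral_of_mem (hinj : Function.Injective (algebraMap R OL))
    (hFS : FaithfulSMul R (FractionRing OL))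
    (L₀ : IntermediateField (FractionRing R) (FractionRing OL))
    [FiniteDimensional (FractionRing R) L₀] [Algebra.IsSeparable (FractionRing R) L₀]
    (x : OL) (hx : algebraMap OL (FractionRing OL) x ∈ L₀) : IsIntegral R x := by
  classical
  by_cases hx0 : x = 0
  · rw [hx0]; exact isIntegral_zero
  haveI := tower_AEL R (FractionRing R) (FractionRing OL) L₀
  haveI : IsIntegralClosure (integralClosure R L₀) R L₀ := integralClosure.isIntegralClosure R L₀
  haveI : Module.Finite R (integralClosure R L₀) :=
    IsIntegralClosure.finite R (FractionRing R) L₀ (integralClosure R L₀)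
  haveI : IsLocalRing (integralClosure R L₀) :=
    Groth.Agent.Lib.Helper12.HensInt.isLocalRing_of_isDomain_of_finite R (integralClosure R L₀)
  haveI : IsDedekindDomain (integralClosure R L₀) :=
    IsIntegralClosure.isDedekindDomain R (FractionRing R) L₀ (integralClosure R L₀)
  haveI : IsFractionRing (integralClosure R L₀) L₀ :=
    IsIntegralClosure.isFractionRing_of_finite_extension R (FractionRing R) L₀
      (integralClosure R L₀)
  haveI : Algebra.IsIntegral R (integralClosure R L₀) := Algebra.IsIntegral.of_finite R _
  have hinjL : Function.Injective (algebraMap OL (FractionRing OL)) :=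
    IsFractionRing.injective OL (FractionRing OL)
  -- transfer of integrality
  have key : ∀ y : L₀, IsIntegral R y → ∃ c : OL, algebraMap OL (FractionRing OL) c = (y : FractionRing OL) := by
    intro y hy
    have h1 : IsIntegral R (y : FractionRing OL) := hy.map (IsScalarTower.toAlgHom R L₀ (FractionRing OL))
    have h2 : IsIntegral OL (y : FractionRing OL) := h1.tower_top
    exact IsIntegrallyClosed.isIntegral_iff.mp h2
  let x₀ : L₀ := ⟨algebraMap OL (FractionRing OL) x, hx⟩
  have hx₀int : IsIntegral R x₀ → IsIntegral R x := by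
    intro h
    have h1 : IsIntegral R (algebraMap OL (FractionRing OL) x) :=
      h.map (IsScalarTower.toAlgHom R L₀ (FractionRing OL))
    exact (isIntegral_algebraMap_iff hinjL).mp h1
  rcases ValuationRing.isInteger_or_isInteger (integralClosure R L₀) x₀ with ⟨b, hb⟩ | ⟨b, hb⟩
  · apply hx₀int
    rw [← hb]
    exact b.2
  · by_cases hbu : IsUnit b
    · apply hx₀int
      obtain ⟨u, hu⟩ := hbu
      have h1 : x₀ = algebraMap (integralClosure R L₀) L₀ ((u⁻¹ : (integralClosure R L₀)ˣ) :
          integralClosure R L₀) := by
        have h2 : algebraMap (integralClosure R L₀) L₀ (u : integralClosure R L₀) *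
            algebraMap (integralClosure R L₀) L₀ ((u⁻¹ : (integralClosure R L₀)ˣ) :
              integralClosure R L₀) = 1 := by
          rw [← map_mul, Units.mul_inv, map_one]
        rw [hu, hb] at h2
        have hx0 : x₀ ≠ 0 := by
          intro h0
          rw [h0, inv_zero, zero_mul] at h2
          exact zero_ne_one h2
        field_simp at h2
        exact h2.symm
      rw [h1]
      exact (((u⁻¹ : (integralClosure R L₀)ˣ) : integralClosure R L₀)).2
    · exfalso
      have hbm : b ∈ maximalIdeal (integralClosure R L₀) := (mem_maximalIdeal b).mpr hbu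
      rw [← Groth.Agent.Lib.Helper12.HensInt.radical_map_maximalIdeal R (integralClosure R L₀)]
        at hbm
      obtain ⟨N, hN⟩ := hbm
      obtain ⟨ϖ, hϖ⟩ := IsDiscreteValuationRing.exists_irreducible R
      rw [hϖ.maximalIdeal_eq, Ideal.map_span, Set.image_singleton,
        Ideal.mem_span_singleton'] at hN
      obtain ⟨c, hc⟩ := hN
      obtain ⟨c', hc'⟩ := key c.1 c.2
      -- the identity in L
      have hxL0 : algebraMap OL (FractionRing OL) x ≠ 0 := by
        intro h0
        apply hbu
        have hx00 : x₀ = 0 := Subtype.ext h0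
        rw [hx00, inv_zero] at hb
        have hb0 : b = 0 := by
          apply IsFractionRing.injective (integralClosure R L₀) L₀
          rw [hb, map_zero]
        exfalso
        -- then `x = 0` is integral, and `b = 0`; derive contradiction from `hN`-free route
        exact hx0 (hinjL (by rw [h0, map_zero]))
      have h1 : ((algebraMap (integralClosure R L₀) L₀ b : L₀) : FractionRing OL) =
          (algebraMap OL (FractionRing OL) x)⁻¹ := by
        rw [hb]
        rfl
      have h2 : ((algebraMap (integralClosure R L₀) L₀ (b ^ N) : L₀) : FractionRing OL) =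
          algebraMap OL (FractionRing OL) (c' * algebraMap R OL ϖ) := by
        rw [← hc, map_mul, map_mul, hc']
        congr 1
      have h3 : algebraMap OL (FractionRing OL) (x ^ N * (c' * algebraMap R OL ϖ)) = 1 := by
        rw [map_mul, ← h2, map_pow, map_pow]
        push_cast
        rw [h1, ← mul_pow, mul_inv_cancel₀ hxL0, one_pow]
      have h4 : x ^ N * (c' * algebraMap R OL ϖ) = 1 := hinjL (by rw [h3, map_one])
      have h5 : IsUnit (algebraMap R OL ϖ) :=
        IsUnit.of_mul_eq_one (x ^ N * c') (by rw [← h4]; ring)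
      exact hϖ.not_isUnit (isUnit_of_map_unit (algebraMap R OL) ϖ h5)


omit [HenselianLocalRing R] [IsLocalHom (algebraMap R OL)] in
theorem isSeparable_algebraMap_of_sep (hFS : FaithfulSMul R (FractionRing OL))
    (hsep : ∀ x : OL, ∃ q : R[X], (q.map (algebraMap R (FractionRing R))).Separable ∧
      aeval x q = 0) (x : OL) :
    IsSeparable (FractionRing R) (algebraMap OL (FractionRing OL) x) := by
  obtain ⟨q, hq, hqx⟩ := hsep x
  have h0 : aeval (algebraMap OL (FractionRing OL) x) (q.map (algebraMap R (FractionRing R))) = 0 := by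
    rw [aeval_map_algebraMap, aeval_algebraMap_apply, hqx, map_zero]
  exact hq.of_dvd (minpoly.dvd _ _ h0)

theorem exists_subalgebra (hinj : Function.Injective (algebraMap R OL))
    (hFS : FaithfulSMul R (FractionRing OL))
    (hmap : (maximalIdeal R).map (algebraMap R OL) = maximalIdeal OL)
    (hsep : ∀ x : OL, ∃ q : R[X], (q.map (algebraMap R (FractionRing R))).Separable ∧
      aeval x q = 0)
    (p : ℕ) [ExpChar (ResidueField R) p]
    (hpi : ∀ y : OL, ∃ (n : ℕ) (z : R), algebraMap R OL z - y ^ p ^ n ∈ maximalIdeal OL)
    (s : Finset OL) :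
    ∃ S : Subalgebra R OL, (↑s : Set OL) ⊆ ↑S ∧ Module.Finite R S ∧ Module.Free R S ∧
      ∃ m : ℕ, Module.finrank R S = p ^ m := by
  classical
  have hsepL := isSeparable_algebraMap_of_sep R OL hFS hsep
  set T : Set (FractionRing OL) := (algebraMap OL (FractionRing OL)) '' (↑s : Set OL) with hT
  haveI : Finite T := (s.finite_toSet.image _).to_subtype
  have hTsep : ∀ x ∈ T, IsSeparable (FractionRing R) x := by
    rintro _ ⟨y, _, rfl⟩
    exact hsepL y
  set L₀ := IntermediateField.adjoin (FractionRing R) T with hL₀
  haveI : FiniteDimensional (FractionRing R) L₀ :=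
    IntermediateField.finiteDimensional_adjoin (fun x hx => (hTsep x hx).isIntegral)
  haveI : Algebra.IsSeparable (FractionRing R) L₀ :=
    (IntermediateField.isSeparable_adjoin_iff_isSeparable _ _).mpr hTsep
  haveI := tower_AEL R (FractionRing R) (FractionRing OL) L₀
  let S : Subalgebra R OL :=
    (L₀.toSubalgebra.restrictScalars R).comap (IsScalarTower.toAlgHom R OL (FractionRing OL))
  have hmemS : ∀ y : OL, y ∈ S ↔ algebraMap OL (FractionRing OL) y ∈ L₀ := fun y => Iff.rfl
  have hsS : (↑s : Set OL) ⊆ ↑S := fun y hy =>
    (hmemS y).mpr (IntermediateField.subset_adjoin _ _ ⟨y, hy, rfl⟩)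
  have hinjL : Function.Injective (algebraMap OL (FractionRing OL)) :=
    IsFractionRing.injective OL (FractionRing OL)
  have hint : ∀ y : S, IsIntegral R (y : OL) := fun y =>
    isIntegral_of_mem R OL hinj hFS L₀ y.1 ((hmemS _).mp y.2)
  haveI : IsIntegralClosure (integralClosure R L₀) R L₀ := integralClosure.isIntegralClosure R L₀
  haveI : Module.Finite R (integralClosure R L₀) :=
    IsIntegralClosure.finite R (FractionRing R) L₀ (integralClosure R L₀)
  haveI : IsNoetherian R (integralClosure R L₀) := isNoetherian_of_isNoetherianRing_of_finite R _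
  have hintL₀ : ∀ y : S, IsIntegral R (⟨algebraMap OL (FractionRing OL) y.1, (hmemS _).mp y.2⟩ : L₀) := by
    intro y
    have h1 : IsIntegral R (algebraMap OL (FractionRing OL) y.1) :=
      (hint y).map (IsScalarTower.toAlgHom R OL (FractionRing OL))
    exact (isIntegral_algebraMap_iff (algebraMap L₀ (FractionRing OL)).injective).mp h1
  let f : S →ₗ[R] integralClosure R L₀ :=
    { toFun := fun y => ⟨⟨algebraMap OL (FractionRing OL) y.1, (hmemS _).mp y.2⟩, hintL₀ y⟩
      map_add' := fun a b => by
        apply Subtype.ext; apply Subtype.ext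
        show algebraMap OL (FractionRing OL) (a.1 + b.1) = _
        rw [map_add]; rfl
      map_smul' := fun r a => by
        apply Subtype.ext; apply Subtype.ext
        show algebraMap OL (FractionRing OL) (r • a.1) = _
        rw [Algebra.smul_def, map_mul, ← IsScalarTower.algebraMap_apply R OL (FractionRing OL)]
        show _ = r • algebraMap OL (FractionRing OL) a.1
        rw [Algebra.smul_def] }
  have hfinj : Function.Injective f := by
    intro a b hab
    apply Subtype.ext
    apply hinjL
    exact congrArg (fun t : integralClosure R L₀ => ((t : L₀) : FractionRing OL)) hab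
  haveI hfin : Module.Finite R S := Module.Finite.of_injective f hfinj
  haveI : Module.IsTorsionFree R OL := Module.isTorsionFree_iff_algebraMap_injective.mpr hinj
  haveI hfree : Module.Free R S := Module.free_of_finite_type_torsion_free'
  refine ⟨S, hsS, hfin, hfree, ?_⟩
  -- units of `S`
  have hunit : ∀ y : S, IsUnit (y : OL) → IsUnit y := by
    intro y hy
    obtain ⟨u, hu⟩ := hy
    have hinvmem : ((u⁻¹ : OLˣ) : OL) ∈ S := by
      rw [hmemS]
      have h1 : algebraMap OL (FractionRing OL) ((u⁻¹ : OLˣ) : OL) =
          (algebraMap OL (FractionRing OL) y.1)⁻¹ := by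
        rw [← hu]
        have h2 : algebraMap OL (FractionRing OL) (u : OL) *
            algebraMap OL (FractionRing OL) ((u⁻¹ : OLˣ) : OL) = 1 := by
          rw [← map_mul, Units.mul_inv, map_one]
        exact eq_inv_of_mul_eq_one_right h2
      rw [h1]
      exact L₀.inv_mem ((hmemS _).mp y.2)
    refine ⟨⟨y, ⟨_, hinvmem⟩, ?_, ?_⟩, rfl⟩
    · apply Subtype.ext
      show (y : OL) * ((u⁻¹ : OLˣ) : OL) = 1
      rw [← hu, Units.mul_inv]
    · apply Subtype.ext
      show ((u⁻¹ : OLˣ) : OL) * (y : OL) = 1
      rw [← hu, Units.inv_mul]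
  have hunit' : ∀ y : S, IsUnit y → IsUnit (y : OL) := fun y hy => hy.map S.val
  haveI : IsLocalRing S := IsLocalRing.of_nonunits_add (fun a b ha hb hab => by
    have ha' : (a : OL) ∈ nonunits OL := fun h => ha (hunit a h)
    have hb' : (b : OL) ∈ nonunits OL := fun h => hb (hunit b h)
    exact IsLocalRing.nonunits_add ha' hb' (hunit' _ hab))
  have hmemmax : ∀ y : S, y ∈ maximalIdeal S ↔ (y : OL) ∈ maximalIdeal OL := by
    intro y
    rw [mem_maximalIdeal, mem_maximalIdeal, mem_nonunits_iff, mem_nonunits_iff]
    exact ⟨fun h h' => h (hunit y h'), fun h h' => h (hunit' y h')⟩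
  obtain ⟨ϖ, hϖ⟩ := IsDiscreteValuationRing.exists_irreducible R
  have hmaxOL : maximalIdeal OL = Ideal.span {algebraMap R OL ϖ} := by
    rw [← hmap, hϖ.maximalIdeal_eq, Ideal.map_span, Set.image_singleton]
  have hϖL : algebraMap OL (FractionRing OL) (algebraMap R OL ϖ) ∈ L₀ := by
    rw [← IsScalarTower.algebraMap_apply R OL (FractionRing OL),
      IsScalarTower.algebraMap_apply R (FractionRing R) (FractionRing OL)]
    exact L₀.algebraMap_mem _
  have hϖL0 : algebraMap OL (FractionRing OL) (algebraMap R OL ϖ) ≠ 0 := by
    intro h0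
    have := hinj (hinjL (by rw [h0, map_zero, map_zero]) : algebraMap R OL ϖ = algebraMap R OL 0)
    exact hϖ.ne_zero this
  have hmapS : (maximalIdeal R).map (algebraMap R S) = maximalIdeal S := by
    rw [hϖ.maximalIdeal_eq, Ideal.map_span, Set.image_singleton]
    apply le_antisymm
    · rw [Ideal.span_le, Set.singleton_subset_iff, SetLike.mem_coe, hmemmax, hmaxOL]
      exact Ideal.mem_span_singleton_self _
    · intro y hy
      rw [hmemmax, hmaxOL, Ideal.mem_span_singleton'] at hy
      obtain ⟨y', hy'⟩ := hy
      have hy'S : y' ∈ S := by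
        rw [hmemS]
        have h1 : algebraMap OL (FractionRing OL) y' =
            algebraMap OL (FractionRing OL) y.1 *
              (algebraMap OL (FractionRing OL) (algebraMap R OL ϖ))⁻¹ := by
          rw [← hy', map_mul, mul_assoc, mul_inv_cancel₀ hϖL0, mul_one]
        rw [h1]
        exact L₀.mul_mem ((hmemS _).mp y.2) (L₀.inv_mem hϖL)
      rw [Ideal.mem_span_singleton']
      exact ⟨⟨y', hy'S⟩, Subtype.ext hy'⟩
  have hpiS : ∀ y : S, ∃ (n : ℕ) (z : R), algebraMap R S z - y ^ p ^ n ∈ maximalIdeal S := by
    intro y
    obtain ⟨n, z, hz⟩ := hpi y.1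
    exact ⟨n, z, (hmemmax _).mpr hz⟩
  exact rank_pow R S hmapS p hpiS

end Int



section Final

attribute [local instance] FractionRing.liftAlgebra FractionRing.isScalarTower_liftAlgebra

theorem main_16360 (R : Type u) [CommRing R] [IsDomain R]
    [IsDiscreteValuationRing R] [HenselianLocalRing R] :
    ∃ (R' : Type u) (_ : CommRing R') (_ : IsDomain R') (_ : IsDiscreteValuationRing R')
      (_ : HenselianLocalRing R') (_ : Algebra R R'),
      Function.Injective (algebraMap R R') ∧
      Ideal.map (algebraMap R R') (IsLocalRing.maximalIdeal R) = IsLocalRing.maximalIdeal R' ∧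
      (∀ s : Finset R', ∃ S : Subalgebra R R', (↑s : Set R') ⊆ ↑S ∧ Module.Finite R S ∧
        Module.Free R S ∧
        ∃ m : ℕ, Module.finrank R S = ringExpChar (IsLocalRing.ResidueField R) ^ m) ∧
      (∀ y : R', ∃ z : R', z ^ ringExpChar (IsLocalRing.ResidueField R) - y ∈
        IsLocalRing.maximalIdeal R') ∧
      (∀ y : R', ∃ (m : ℕ) (z : R),
        algebraMap R R' z - y ^ (ringExpChar (IsLocalRing.ResidueField R) ^ m) ∈
          IsLocalRing.maximalIdeal R') := by
  classical
  set p := ringExpChar (ResidueField R) with hp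
  obtain ⟨OL, iCR, iDom, iDVR, φ, hφinj, hφloc, hφmap, ⟨e, he⟩, hφsep⟩ :=
    Groth.Agent.Lib.Helper26.DvrExt.main_7898 R
      (perfectClosure (ResidueField R) (AlgebraicClosure (ResidueField R)))
  letI alg : Algebra R OL := φ.toAlgebra
  haveI : IsLocalHom (algebraMap R OL) := hφloc
  have hinj : Function.Injective (algebraMap R OL) := hφinj
  have hFS : FaithfulSMul R (FractionRing OL) := by
    rw [faithfulSMul_iff_algebraMap_injective, IsScalarTower.algebraMap_eq R OL (FractionRing OL)]
    exact (IsFractionRing.injective OL (FractionRing OL)).comp hinj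
  have hsep : ∀ x : OL, ∃ q : R[X], (q.map (algebraMap R (FractionRing R))).Separable ∧
      aeval x q = 0 := fun x => hφsep x
  haveI : ExpChar (perfectClosure (ResidueField R) (AlgebraicClosure (ResidueField R))) p :=
    expChar_of_injective_ringHom (algebraMap (ResidueField R)
      (perfectClosure (ResidueField R) (AlgebraicClosure (ResidueField R)))).injective p
  -- (c)
  have hpi : ∀ y : OL, ∃ (n : ℕ) (z : R), algebraMap R OL z - y ^ p ^ n ∈ maximalIdeal OL := by
    intro y
    obtain ⟨n, c, hc⟩ := mem_perfectClosure_iff.mp (e (residue OL y)).2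
    obtain ⟨z, rfl⟩ := residue_surjective c
    refine ⟨n, z, ?_⟩
    rw [← residue_eq_zero_iff, map_sub, sub_eq_zero, map_pow]
    apply e.injective
    rw [map_pow]
    apply Subtype.ext
    have h1 : e (residue OL (algebraMap R OL z)) = _ := he z
    rw [h1]
    exact hc
  -- (b)
  have hperf : ∀ y : OL, ∃ z : OL, z ^ p - y ∈ maximalIdeal OL := by
    intro y
    haveI : PerfectRing (perfectClosure (ResidueField R) (AlgebraicClosure (ResidueField R))) p :=
      PerfectField.toPerfectRing p
    obtain ⟨w, hw⟩ := surjective_frobenius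
      (perfectClosure (ResidueField R) (AlgebraicClosure (ResidueField R))) p (e (residue OL y))
    obtain ⟨z, hz⟩ := residue_surjective (e.symm w)
    refine ⟨z, ?_⟩
    rw [← residue_eq_zero_iff, map_sub, sub_eq_zero, map_pow, hz]
    apply e.injective
    rw [map_pow, RingEquiv.apply_symm_apply]
    exact hw
  -- integrality
  have hsepL := isSeparable_algebraMap_of_sep R OL hFS hsep
  haveI hintOL : Algebra.IsIntegral R OL := ⟨fun x => by
    haveI : FiniteDimensional (FractionRing R)
        (IntermediateField.adjoin (FractionRing R) {algebraMap OL (FractionRing OL) x}) :=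
      IntermediateField.adjoin.finiteDimensional (hsepL x).isIntegral
    haveI : Algebra.IsSeparable (FractionRing R)
        (IntermediateField.adjoin (FractionRing R) {algebraMap OL (FractionRing OL) x}) :=
      (IntermediateField.isSeparable_adjoin_simple_iff_isSeparable _ _).mpr (hsepL x)
    exact isIntegral_of_mem R OL hinj hFS _ x (IntermediateField.mem_adjoin_simple_self _ _)⟩
  have hHens : HenselianLocalRing OL :=
    Groth.Agent.Lib.Helper12.HensInt.henselianLocalRing_of_isDomain_of_isIntegral R OL
  refine ⟨OL, iCR, iDom, iDVR, hHens, alg, hinj, hφmap, ?_, hperf, hpi⟩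
  intro s
  exact exists_subalgebra R OL hinj hFS hφmap hsep p hpi s

end Final

end Groth.Agent.Lib.Helper26.PerfExt
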