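import Mathlib

set_option linter.style.haveILetI false

universe u

namespace Groth.Agent.Lib.Helper26.ProConstr

open PrimeSpectrum Topology

variable {A : Type u} [CommRing A]

/-- The image of `Spec B → Spec A` is an intersection of constructible sets. -/
theorem range_comap_eq_sInter {B : Type*} [CommRing B] (f : A →+* B) :
    Set.range (PrimeSpectrum.comap f) =
      ⋂₀ {s | IsConstructible s ∧ Set.range (PrimeSpectrum.comap f) ⊆ s} := by
  classical
  apply Set.Subset.antisymm
  · intro p hp s hs
    exact hs.2 hp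
  · intro p hp
    by_contra hnot
    rw [PrimeSpectrum.mem_range_comap_iff] at hnot
    have hlt : ¬ (p.asIdeal.map f).comap f ≤ p.asIdeal :=
      fun h => hnot (le_antisymm h Ideal.le_comap_map)
    obtain ⟨a, ha, hap⟩ := Set.not_subset.mp hlt
    have ha' : f a ∈ Ideal.span (f '' (p.asIdeal : Set A)) := ha
    obtain ⟨T, hT, haT⟩ := Submodule.mem_span_finite_of_mem_span ha'
    obtain ⟨T0, hT0, rfl⟩ := Finset.subset_set_image_iff.mp hT
    let s : Set (PrimeSpectrum A) := zeroLocus {a} ∪ (zeroLocus (T0 : Set A))ᶜ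
    have hs : IsConstructible s := by
      refine IsConstructible.union ?_ ?_
      · rw [← isConstructible_compl]
        exact (isRetrocompact_zeroLocus_compl (Set.finite_singleton _)).isConstructible
          (isClosed_zeroLocus _).isOpen_compl
      · exact (isRetrocompact_zeroLocus_compl T0.finite_toSet).isConstructible
          (isClosed_zeroLocus _).isOpen_compl
    have hE : Set.range (PrimeSpectrum.comap f) ⊆ s := by
      rintro _ ⟨Q, rfl⟩
      by_cases hq : (T0 : Set A) ⊆ (PrimeSpectrum.comap f Q).asIdeal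
      · left
        rw [mem_zeroLocus, Set.singleton_subset_iff]
        change f a ∈ Q.asIdeal
        have : Ideal.span ((T0.image f : Finset B) : Set B) ≤ Q.asIdeal := by
          rw [Ideal.span_le]
          intro b hb
          rw [Finset.coe_image] at hb
          obtain ⟨c, hc, rfl⟩ := hb
          exact hq hc
        exact this haT
      · right
        exact hq
    have hps : p ∈ s := hp s ⟨hs, hE⟩
    rcases hps with h | h
    · rw [mem_zeroLocus, Set.singleton_subset_iff] at h
      exact hap h
    · exact h hT0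


/-- The product of residue fields over the points of `E`. -/
abbrev Prod (E : Set (PrimeSpectrum A)) : Type u := Π p : E, p.1.asIdeal.ResidueField

/-- The canonical map. -/
noncomputable def toProd (E : Set (PrimeSpectrum A)) : A →+* Prod E :=
  RingHom.pi (fun p => algebraMap A p.1.asIdeal.ResidueField)

lemma toProd_apply (E : Set (PrimeSpectrum A)) (a : A) (p : E) :
    toProd E a p = algebraMap A p.1.asIdeal.ResidueField a := rfl

lemma toProd_apply_eq_zero_iff (E : Set (PrimeSpectrum A)) (a : A) (p : E) :
    toProd E a p = 0 ↔ a ∈ p.1.asIdeal := by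
  rw [toProd_apply, Ideal.algebraMap_residueField_eq_zero]

theorem subset_range (E : Set (PrimeSpectrum A)) :
    E ⊆ Set.range (PrimeSpectrum.comap (toProd E)) := by
  intro p hp
  let pp : E := ⟨p, hp⟩
  refine ⟨⟨Ideal.comap (Pi.evalRingHom _ pp) ⊥, Ideal.comap_isPrime _ _⟩, ?_⟩
  ext a
  change toProd E a pp ∈ (⊥ : Ideal _) ↔ a ∈ p.asIdeal
  rw [Ideal.mem_bot, toProd_apply_eq_zero_iff]

theorem range_subset (E : Set (PrimeSpectrum A)) (s : Set (PrimeSpectrum A))
    (hs : IsConstructible s) (hE : E ⊆ s) :
    Set.range (PrimeSpectrum.comap (toProd E)) ⊆ s := by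
  classical
  rintro _ ⟨P, rfl⟩
  by_contra hq
  obtain ⟨D, rfl⟩ := exists_constructibleSetData_iff.mpr hs
  -- for each datum `d`, an element `h d ∉ P` whose support avoids `d.toSet`
  have key : ∀ d ∈ D, ∃ h : Prod E, h ∉ P.asIdeal ∧ ∀ p : E, h p ≠ 0 → p.1 ∉ d.toSet := by
    intro d hd
    have hqd : PrimeSpectrum.comap (toProd E) P ∉ d.toSet := by
      intro h
      exact hq (Set.mem_biUnion hd h)
    rw [BasicConstructibleSetData.toSet, Set.mem_sdiff, not_and_or, not_not] at hqd
    rcases hqd with h1 | h2
    · -- some `g j ∉ q`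
      rw [mem_zeroLocus, Set.not_subset] at h1
      obtain ⟨_, ⟨j, rfl⟩, hj⟩ := h1
      refine ⟨toProd E (d.g j), hj, ?_⟩
      intro p hp hpd
      rw [Ne, toProd_apply_eq_zero_iff] at hp
      apply hp
      rw [BasicConstructibleSetData.toSet, Set.mem_sdiff, mem_zeroLocus] at hpd
      exact hpd.1 ⟨j, rfl⟩
    · -- `f ∈ q`
      rw [mem_zeroLocus, Set.singleton_subset_iff] at h2
      have hb : toProd E d.f ∈ P.asIdeal := h2
      let c : Prod E := fun p => (toProd E d.f p)⁻¹
      refine ⟨1 - toProd E d.f * c, ?_, ?_⟩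
      · intro hmem
        apply P.isPrime.ne_top
        rw [Ideal.eq_top_iff_one]
        have := P.asIdeal.add_mem hmem (P.asIdeal.mul_mem_right c hb)
        simpa using this
      · intro p hp hpd
        rw [BasicConstructibleSetData.toSet, Set.mem_sdiff] at hpd
        have hpd2 := hpd.2
        rw [mem_zeroLocus, Set.singleton_subset_iff] at hpd2
        apply hp
        have hne : toProd E d.f p ≠ 0 := by
          rw [Ne, toProd_apply_eq_zero_iff]
          exact hpd2
        change 1 - toProd E d.f p * (toProd E d.f p)⁻¹ = 0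
        rw [mul_inv_cancel₀ hne, sub_self]
  choose! h hP hsupp using key
  have hprod : ∏ d ∈ D, h d ∉ P.asIdeal := by
    intro hmem
    obtain ⟨d, hd, hdP⟩ := (P.isPrime.prod_mem_iff).mp hmem
    exact hP d hd hdP
  have hne : ∏ d ∈ D, h d ≠ 0 := by
    intro h0
    apply hprod
    rw [h0]
    exact P.asIdeal.zero_mem
  obtain ⟨p, hp⟩ := Function.ne_iff.mp hne
  have hps : p.1 ∈ ConstructibleSetData.toSet D := hE p.2
  rw [ConstructibleSetData.toSet] at hps
  simp only [Set.mem_iUnion] at hps
  obtain ⟨d, hd, hpd⟩ := hps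
  apply hsupp d hd p _ hpd
  intro h0
  apply hp
  rw [Finset.prod_apply, Pi.zero_apply]
  exact Finset.prod_eq_zero hd h0


theorem main (E : Set (PrimeSpectrum A)) :
    (∃ (B : Type u) (_ : CommRing B) (f : A →+* B), Set.range (PrimeSpectrum.comap f) = E) ↔
      ∃ S : Set (Set (PrimeSpectrum A)), (∀ s ∈ S, IsConstructible s) ∧ E = ⋂₀ S := by
  constructor
  · rintro ⟨B, _, f, rfl⟩
    exact ⟨_, fun s hs => hs.1, range_comap_eq_sInter f⟩
  · rintro ⟨S, hS, rfl⟩
    refine ⟨Prod (⋂₀ S), inferInstance, toProd (⋂₀ S), ?_⟩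
    apply Set.Subset.antisymm
    · intro p hp s hs
      exact range_subset _ s (hS s hs) (Set.sInter_subset_of_mem hs) hp
    · exact subset_range _

end Groth.Agent.Lib.Helper26.ProConstr
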