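import Mathlib
import Groth.Agent.Lib.Helper26.ProConstr

set_option linter.style.haveILetI false

universe u

open Topology AlgebraicGeometry CategoryTheory CategoryTheory.Limits

namespace Groth.Agent.Lib.Helper26.ProConstrScheme

section Top

variable {X Y : Type*} [TopologicalSpace X] [TopologicalSpace Y]

/-- pro-constructible sets -/
def ProC (E : Set X) : Prop :=
  ∃ S : Set (Set X), (∀ s ∈ S, IsConstructible s) ∧ E = ⋂₀ S

lemma ProC.preimage_of_isOpenEmbedding {f : X → Y} (hf : IsOpenEmbedding f) {E : Set Y}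
    (hE : ProC E) : ProC (f ⁻¹' E) := by
  obtain ⟨S, hS, rfl⟩ := hE
  refine ⟨(f ⁻¹' ·) '' S, ?_, ?_⟩
  · rintro _ ⟨s, hs, rfl⟩
    exact (hS s hs).preimage_of_isOpenEmbedding hf
  · rw [Set.preimage_sInter, Set.sInter_image]

lemma ProC.image_of_isOpenEmbedding {f : X → Y} (hf : IsOpenEmbedding f)
    (hfc : IsRetrocompact (Set.range f)) {E : Set X} (hE : ProC E) : ProC (f '' E) := by
  obtain ⟨S, hS, rfl⟩ := hE
  refine ⟨insert (Set.range f) ((f '' ·) '' S), ?_, ?_⟩
  · rintro _ (rfl | ⟨s, hs, rfl⟩)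
    · exact hfc.isConstructible hf.isOpen_range
    · exact (hS s hs).image_of_isOpenEmbedding hf hfc
  · ext y
    constructor
    · rintro ⟨x, hx, rfl⟩ t (rfl | ⟨s, hs, rfl⟩)
      · exact ⟨x, rfl⟩
      · exact ⟨x, hx s hs, rfl⟩
    · intro hy
      obtain ⟨x, rfl⟩ := hy (Set.range f) (Set.mem_insert _ _)
      refine ⟨x, fun s hs => ?_, rfl⟩
      obtain ⟨x', hx', hxx'⟩ := hy (f '' s) (Set.mem_insert_of_mem _ ⟨s, hs, rfl⟩)
      rwa [← hf.injective hxx']

lemma ProC.union {E F : Set X} (hE : ProC E) (hF : ProC F) : ProC (E ∪ F) := by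
  obtain ⟨S, hS, rfl⟩ := hE
  obtain ⟨T, hT, rfl⟩ := hF
  refine ⟨(fun p : Set X × Set X => p.1 ∪ p.2) '' (S ×ˢ T), ?_, ?_⟩
  · rintro _ ⟨⟨s, t⟩, ⟨hs, ht⟩, rfl⟩
    exact (hS s hs).union (hT t ht)
  · rw [Set.sInter_union_sInter, Set.sInter_image]

lemma ProC.empty : ProC (∅ : Set X) :=
  ⟨{∅}, by simp, by simp⟩

lemma ProC.biUnion {ι : Type*} (t : Finset ι) (E : ι → Set X) (h : ∀ i ∈ t, ProC (E i)) :
    ProC (⋃ i ∈ t, E i) := by
  classical
  induction t using Finset.induction_on with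
  | empty => simpa using ProC.empty
  | insert a t _ ih =>
    rw [Finset.set_biUnion_insert]
    exact (h a (Finset.mem_insert_self _ _)).union
      (ih fun i hi => h i (Finset.mem_insert_of_mem hi))

end Top

section Sch

lemma isRetrocompact_of_isAffineOpen {X : Scheme.{u}} [QuasiSeparatedSpace X] {U : X.Opens}
    (hU : IsAffineOpen U) : IsRetrocompact (U : Set X) :=
  fun _ hV hVo => hU.isCompact.inter_of_isOpen hV U.isOpen hVo

lemma proC_image_affine {X' X : Scheme.{u}} [QuasiSeparatedSpace X] (f : X' ⟶ X) {U : X.Opens}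
    (hU : IsAffineOpen U) {V : X'.Opens} (hV : IsAffineOpen V) (h : V ≤ f ⁻¹ᵁ U) :
    ProC (f.base '' (V : Set X')) := by
  have e := IsAffineOpen.SpecMap_appLE_fromSpec f hU hV h
  have h1 : f.base '' (V : Set X') =
      hU.fromSpec.base '' (Set.range (PrimeSpectrum.comap (f.appLE U V h).hom)) := by
    rw [← hV.range_fromSpec]
    ext y
    constructor
    · rintro ⟨_, ⟨z, rfl⟩, rfl⟩
      refine ⟨_, ⟨z, rfl⟩, ?_⟩
      have := congrArg (fun g => g.base z) e
      exact this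
    · rintro ⟨_, ⟨z, rfl⟩, rfl⟩
      refine ⟨_, ⟨z, rfl⟩, ?_⟩
      have := congrArg (fun g => g.base z) e
      exact this.symm
  rw [h1]
  apply ProC.image_of_isOpenEmbedding hU.fromSpec.isOpenEmbedding
  · rw [hU.range_fromSpec]
    exact isRetrocompact_of_isAffineOpen hU
  · exact (ProConstr.main _).mp ⟨_, _, (f.appLE U V h).hom, rfl⟩

theorem proC_range {X' X : Scheme.{u}} [CompactSpace X] [QuasiSeparatedSpace X] (f : X' ⟶ X)
    [QuasiCompact f] : ProC (Set.range f.base) := by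
  have : CompactSpace X' := QuasiCompact.compactSpace_of_compactSpace f
  have key : ∀ x' : X', ∃ (U : X.Opens) (V : X'.Opens), IsAffineOpen U ∧ IsAffineOpen V ∧
      V ≤ f ⁻¹ᵁ U ∧ x' ∈ V := by
    intro x'
    obtain ⟨_, ⟨U, hU, rfl⟩, hxU, -⟩ := (X.isBasis_affineOpens).exists_subset_of_mem_open
      (Set.mem_univ (f.base x')) isOpen_univ
    obtain ⟨_, ⟨V, hV, rfl⟩, hxV, hVU⟩ := (X'.isBasis_affineOpens).exists_subset_of_mem_open
      (show x' ∈ ((f ⁻¹ᵁ U : X'.Opens) : Set X') from hxU) (f ⁻¹ᵁ U).isOpen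
    exact ⟨U, V, hU, hV, hVU, hxV⟩
  choose U V hU hV hVU hxV using key
  obtain ⟨t, ht⟩ := isCompact_univ.elim_finite_subcover (fun x' => ((V x' : X'.Opens) : Set X'))
    (fun x' => (V x').isOpen) (fun x' _ => Set.mem_iUnion.2 ⟨x', hxV x'⟩)
  have h1 : Set.range f.base = ⋃ i ∈ t, f.base '' ((V i : X'.Opens) : Set X') := by
    rw [← Set.image_univ, ← Set.image_iUnion₂]
    congr 1
    exact Set.Subset.antisymm ht (Set.subset_univ _)
  rw [h1]
  exact ProC.biUnion t _ fun i _ => proC_image_affine f (hU i) (hV i) (hVU i)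

theorem exists_of_proC {X : Scheme.{u}} [CompactSpace X] [QuasiSeparatedSpace X] (E : Set X)
    (hE : ProC E) :
    ∃ (X' : Scheme.{u}) (f : X' ⟶ X), QuasiCompact f ∧ Set.range f.base = E := by
  have key0 : ∀ x : X, ∃ U : X.Opens, IsAffineOpen U ∧ x ∈ U := by
    intro x
    obtain ⟨_, ⟨U, hU, rfl⟩, hxU, -⟩ := (X.isBasis_affineOpens).exists_subset_of_mem_open
      (Set.mem_univ x) isOpen_univ
    exact ⟨U, hU, hxU⟩
  choose U hU hxU using key0
  obtain ⟨t, ht⟩ := isCompact_univ.elim_finite_subcover (fun x => ((U x : X.Opens) : Set X))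
    (fun x => (U x).isOpen) (fun x _ => Set.mem_iUnion.2 ⟨x, hxU x⟩)
  have key : ∀ x : X, ∃ (B : CommRingCat.{u}) (φ : Γ(X, U x) ⟶ B),
      Set.range (Spec.map φ).base = (hU x).fromSpec.base ⁻¹' E := by
    intro x
    obtain ⟨B, _, φ, h⟩ := (ProConstr.main _).mpr
      (ProC.preimage_of_isOpenEmbedding (hU x).fromSpec.isOpenEmbedding hE)
    exact ⟨CommRingCat.of B, CommRingCat.ofHom φ, h⟩
  choose B φ hφ using key
  let ι : Type u := t
  let g : ι → Scheme.{u} := fun i => Spec (B i.1)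
  let m : ∀ i : ι, g i ⟶ X := fun i =>
    Spec.map (φ i.1) ≫ (hU i.1).fromSpec
  have : Finite ι := inferInstanceAs (Finite t)
  have : ∀ i, IsAffine (g i) := fun i => inferInstanceAs (IsAffine (Spec _))
  have : CompactSpace ↥(∐ g) := inferInstance
  refine ⟨∐ g, Sigma.desc m, inferInstance, ?_⟩
  have hm : ∀ i : ι, Set.range (m i).base = E ∩ (U i.1 : Set X) := by
    intro i
    have : Set.range (m i).base =
        (hU i.1).fromSpec.base '' Set.range (Spec.map (φ i.1)).base := by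
      ext y
      constructor
      · rintro ⟨z, rfl⟩
        exact ⟨_, ⟨z, rfl⟩, rfl⟩
      · rintro ⟨_, ⟨z, rfl⟩, rfl⟩
        exact ⟨z, rfl⟩
    rw [this, hφ, Set.image_preimage_eq_inter_range, (hU i.1).range_fromSpec]
  apply Set.Subset.antisymm
  · rintro _ ⟨z, rfl⟩
    obtain ⟨⟨i, w⟩, rfl⟩ := (sigmaMk g).surjective z
    rw [sigmaMk_mk]
    have h2 : (Sigma.desc m).base ((Sigma.ι g i).base w) = (m i).base w := by
      have := congrArg (fun q => q.base w) (Sigma.ι_desc m i)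
      exact this
    have : (m i).base w ∈ E ∩ (U i.1 : Set X) := by
      rw [← hm i]
      exact ⟨w, rfl⟩
    exact h2 ▸ this.1
  · intro y hy
    have hyt : y ∈ ⋃ i ∈ t, ((U i : X.Opens) : Set X) := ht (Set.mem_univ y)
    simp only [Set.mem_iUnion] at hyt
    obtain ⟨i, hi, hyi⟩ := hyt
    have : y ∈ Set.range (m ⟨i, hi⟩).base := by
      rw [hm]
      exact ⟨hy, hyi⟩
    obtain ⟨w, rfl⟩ := this
    refine ⟨(Sigma.ι g ⟨i, hi⟩).base w, ?_⟩
    have := congrArg (fun q => q.base w) (Sigma.ι_desc m ⟨i, hi⟩)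
    exact this

theorem main {X : Scheme.{u}} [CompactSpace X] [QuasiSeparatedSpace X] (E : Set X) :
    (∃ (X' : Scheme.{u}) (f : X' ⟶ X), QuasiCompact f ∧ Set.range f.base = E) ↔
      ∃ S : Set (Set X), (∀ s ∈ S, IsConstructible s) ∧ E = ⋂₀ S := by
  constructor
  · rintro ⟨X', f, hf, rfl⟩
    exact proC_range f
  · intro h
    exact exists_of_proC E h

end Sch

end Groth.Agent.Lib.Helper26.ProConstrScheme
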