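import Mathlib

set_option linter.unusedSectionVars false
set_option linter.unusedSimpArgs false

namespace Groth.Agent.Lib.Helper26.ProdFilt

section General

variable {Γ : Type*} [LinearOrder Γ] {R : Type*} [CommRing R]
  {N : Type*} [AddCommGroup N] [Module R N]

theorem iSupIndep_of_disjoint_Ioi (G : Γ → Submodule R N)
    (h : ∀ t, Disjoint (G t) (⨆ η ∈ Set.Ioi t, G η)) : iSupIndep G := by
  classical
  rw [iSupIndep_iff_finsetSum_eq_zero_imp_eq_zero]
  intro s
  induction s using Finset.induction_on_min with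
  | empty => intro v _ _ i hi; simp at hi
  | insert a s ha ih =>
    intro v hv hsum
    have hnot : a ∉ s := fun h => lt_irrefl a (ha a h)
    rw [Finset.sum_insert hnot] at hsum
    have h1 : v a = - ∑ i ∈ s, v i := eq_neg_of_add_eq_zero_left hsum
    have h2 : v a ∈ ⨆ η ∈ Set.Ioi a, G η := by
      rw [h1]
      refine Submodule.neg_mem _ (Submodule.sum_mem _ fun i hi => ?_)
      have : G i ≤ ⨆ η ∈ Set.Ioi a, G η := le_biSup G (ha i hi)
      exact this (hv i (Finset.mem_insert_of_mem hi))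
    have h3 : v a = 0 :=
      (Submodule.disjoint_def.mp (h a)) _ (hv a (Finset.mem_insert_self a s)) h2
    rw [h3, zero_add] at hsum
    have h4 := ih v (fun i hi => hv i (Finset.mem_insert_of_mem hi)) hsum
    intro i hi
    rcases Finset.mem_insert.mp hi with rfl | hi
    · exact h3
    · exact h4 i hi

end General

section Pi

variable {R : Type*} [CommRing R] {A : Type*} [Fintype A] {M : A → Type*}
  [∀ a, AddCommGroup (M a)] [∀ a, Module R (M a)]

lemma pi_iSup_le {ι : Sort*} (H : ∀ a, ι → Submodule R (M a)) :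
    (⨆ i, Submodule.pi Set.univ (fun a => H a i)) ≤
      Submodule.pi Set.univ (fun a => ⨆ i, H a i) := by
  refine iSup_le fun i => ?_
  intro x hx a _
  exact (le_iSup (H a) i) (hx a (Set.mem_univ a))

lemma single_mem_pi [DecidableEq A] (P : ∀ a, Submodule R (M a)) (a : A) {x : M a} (hx : x ∈ P a) :
    (LinearMap.single R M a x) ∈ Submodule.pi Set.univ P := by
  intro b _
  by_cases hb : b = a
  · subst hb; simpa using hx
  · simp [LinearMap.single_apply, Pi.single_eq_of_ne hb]

lemma pi_iSup {ι : Sort*} (H : ∀ a, ι → Submodule R (M a)) :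
    Submodule.pi Set.univ (fun a => ⨆ i, H a i) =
      ⨆ i, Submodule.pi Set.univ (fun a => H a i) := by
  classical
  apply le_antisymm _ (pi_iSup_le H)
  intro x hx
  have hx' : x = ∑ a, LinearMap.single R M a (x a) := by
    ext b
    simp [Finset.sum_apply, LinearMap.single_apply, Pi.single_apply]
  rw [hx']
  refine Submodule.sum_mem _ fun a _ => ?_
  have h1 : LinearMap.single R M a (x a) ∈ Submodule.map (LinearMap.single R M a) (⨆ i, H a i) :=
    Submodule.mem_map_of_mem (hx a (Set.mem_univ a))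
  rw [Submodule.map_iSup] at h1
  have h2 : (⨆ i, Submodule.map (LinearMap.single R M a) (H a i)) ≤
      ⨆ i, Submodule.pi Set.univ (fun a => H a i) := by
    refine iSup_mono fun i => ?_
    rintro _ ⟨y, hy, rfl⟩
    exact single_mem_pi _ a hy
  exact h2 h1

lemma pi_biSup {ι : Type*} (S : Set ι) (H : ∀ a, ι → Submodule R (M a)) :
    Submodule.pi Set.univ (fun a => ⨆ i ∈ S, H a i) =
      ⨆ i ∈ S, Submodule.pi Set.univ (fun a => H a i) := by
  rw [pi_iSup]
  congr 1
  funext i
  rw [pi_iSup]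

lemma pi_eq_imp [DecidableEq A] (P Q : ∀ a, Submodule R (M a))
    (h : Submodule.pi Set.univ P ≤ Submodule.pi Set.univ Q) (a : A) : P a ≤ Q a := by
  intro x hx
  have := h (single_mem_pi P a hx) a (Set.mem_univ a)
  simpa using this

end Pi



section Backward

variable {Γ : Type*} [LinearOrder Γ] {R : Type*} [CommRing R] {A : Type*} [Fintype A]
  {M : A → Type*} [∀ a, AddCommGroup (M a)] [∀ a, Module R (M a)]

theorem backward (F : ∀ a, Γ → Submodule R (M a))
    (h : ∀ a, ∃ G : Γ → Submodule R (M a), DirectSum.IsInternal G ∧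
      ∀ γ, F a γ = ⨆ η ∈ Set.Ici γ, G η) :
    ∃ G : Γ → Submodule R (∀ a, M a), DirectSum.IsInternal G ∧
      ∀ γ, Submodule.pi Set.univ (fun a => F a γ) = ⨆ η ∈ Set.Ici γ, G η := by
  choose G hG1 hG2 using h
  refine ⟨fun γ => Submodule.pi Set.univ (fun a => G a γ), ?_, ?_⟩
  · rw [DirectSum.isInternal_submodule_iff_iSupIndep_and_iSup_eq_top]
    have hG1' := fun a => (DirectSum.isInternal_submodule_iff_iSupIndep_and_iSup_eq_top _).mp (hG1 a)
    constructor
    · rw [iSupIndep_def]
      intro γ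
      have h1 : (⨆ (j : Γ) (_ : j ≠ γ), Submodule.pi Set.univ (fun a => G a j))
          = Submodule.pi Set.univ (fun a => ⨆ (j : Γ) (_ : j ≠ γ), G a j) := by
        rw [pi_iSup]
        congr 1
        funext j
        rw [pi_iSup]
      rw [h1, Submodule.disjoint_def]
      intro x hx1 hx2
      funext a
      have := (iSupIndep_def.mp (hG1' a).1) γ
      exact (Submodule.disjoint_def.mp this) _ (hx1 a (Set.mem_univ a)) (hx2 a (Set.mem_univ a))
    · rw [← pi_iSup]
      rw [eq_top_iff]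
      intro x _ a _
      have : x a ∈ (⨆ i, G a i) := by
        rw [(hG1' a).2]
        exact Submodule.mem_top
      exact this
  · intro γ
    rw [← pi_biSup]
    congr 1
    funext a
    exact hG2 a γ

end Backward



section Forward

variable {Γ : Type*} [LinearOrder Γ] [Nonempty Γ] {R : Type*} [CommRing R] {A : Type*} [Fintype A]
  {M : A → Type*} [∀ a, AddCommGroup (M a)] [∀ a, Module R (M a)] [∀ a, Module.Finite R (M a)]

theorem forward (F : ∀ a, Γ → Submodule R (M a)) (hF : ∀ a, Antitone (F a))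
    (G : Γ → Submodule R (∀ a, M a)) (hG : DirectSum.IsInternal G)
    (hFG : ∀ γ, Submodule.pi Set.univ (fun a => F a γ) = ⨆ η ∈ Set.Ici γ, G η) (a : A) :
    ∃ Ga : Γ → Submodule R (M a), DirectSum.IsInternal Ga ∧
      ∀ γ, F a γ = ⨆ η ∈ Set.Ici γ, Ga η := by
  classical
  obtain ⟨hind, htop⟩ := (DirectSum.isInternal_submodule_iff_iSupIndep_and_iSup_eq_top _).mp hG
  -- finite support
  obtain ⟨T0, hT0⟩ : ∃ T0 : Finset Γ, ∀ η, η ∉ T0 → G η = ⊥ := by
    have hfg : (⊤ : Submodule R (∀ a, M a)).FG := Module.Finite.fg_top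
    have hc : IsCompactElement (⊤ : Submodule R (∀ a, M a)) := (Submodule.fg_iff_compact _).mp hfg
    obtain ⟨s, hs⟩ := CompleteLattice.IsCompactElement.exists_finset_of_le_iSup _ hc G (htop ▸ le_rfl)
    refine ⟨s, fun η hη => ?_⟩
    by_contra hne
    exact hη (hind.mem_of_biSup_eq_top (s := (s : Set Γ)) (top_le_iff.mp hs) hne)
  have hFa_bot : ∀ γ, (∀ η ∈ T0, ¬ γ ≤ η) → F a γ = ⊥ := by
    intro γ hγ
    rw [eq_bot_iff]
    refine pi_eq_imp (fun b => F b γ) (fun _ => ⊥) ?_ a
    rw [hFG]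
    refine le_trans (iSup₂_le fun η hη => ?_) bot_le
    rw [hT0 η (fun h => hγ η h hη)]
  have hFa_eq : ∀ γ t, γ ≤ t → (∀ η ∈ T0, γ ≤ η → t ≤ η) → F a γ = F a t := by
    intro γ t hγt ht
    apply le_antisymm _ (hF a hγt)
    refine pi_eq_imp (fun b => F b γ) (fun b => F b t) ?_ a
    rw [hFG, hFG]
    refine iSup₂_le fun η hη => ?_
    by_cases hηT : η ∈ T0
    · exact le_biSup G (Set.mem_Ici.mpr (ht η hηT hη))
    · rw [hT0 η hηT]; exact bot_le
  obtain ⟨γ0, hγ0⟩ : ∃ γ0, F a γ0 = ⊤ := by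
    obtain ⟨γ0, hγ0⟩ : ∃ γ0 : Γ, ∀ t ∈ T0, γ0 ≤ t := by
      rcases T0.eq_empty_or_nonempty with h | h
      · exact ⟨Classical.arbitrary Γ, by simp [h]⟩
      · exact ⟨T0.min' h, fun t ht => Finset.min'_le _ t ht⟩
    refine ⟨γ0, ?_⟩
    rw [eq_top_iff]
    refine pi_eq_imp (fun _ => ⊤) (fun b => F b γ0) ?_ a
    rw [hFG]
    intro x _
    have hx : x ∈ iSup G := by rw [htop]; exact Submodule.mem_top
    refine (iSup_le fun η => ?_ : iSup G ≤ _) hx
    by_cases hηT : η ∈ T0
    · exact le_biSup G (Set.mem_Ici.mpr (hγ0 η hηT))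
    · rw [hT0 η hηT]; exact bot_le
  -- retractions
  have hret : ∀ γ, ∃ r : M a →ₗ[R] M a, (∀ x, r x ∈ ⨆ η ∈ Set.Ioi γ, F a η) ∧
      (∀ x ∈ ⨆ η ∈ Set.Ioi γ, F a η, r x = x) := by
    intro γ
    set p := ⨆ η ∈ Set.Ioi γ, G η with hp
    set q := ⨆ η ∈ Set.Iic γ, G η with hq
    have hdisj : Disjoint p q :=
      hind.disjoint_biSup_biSup (Set.disjoint_left.mpr fun η h1 h2 => not_le.mpr h1 h2)
    have hcod : Codisjoint p q := by
      rw [codisjoint_iff, eq_top_iff, ← htop]
      refine iSup_le fun η => ?_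
      rcases le_or_gt η γ with h | h
      · exact le_sup_of_le_right (le_biSup G (Set.mem_Iic.mpr h))
      · exact le_sup_of_le_left (le_biSup G (Set.mem_Ioi.mpr h))
    have hpq : IsCompl p q := ⟨hdisj, hcod⟩
    have hp_eq : p = ⨆ η ∈ Set.Ioi γ, Submodule.pi Set.univ (fun b => F b η) := by
      simp_rw [hFG]
      apply le_antisymm
      · refine iSup₂_le fun η hη => ?_
        refine le_trans ?_ (le_biSup (fun η => ⨆ η' ∈ Set.Ici η, G η') hη)
        exact le_biSup G (Set.mem_Ici.mpr le_rfl)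
      · refine iSup₂_le fun η hη => iSup₂_le fun η' hη' => ?_
        exact le_biSup G (Set.mem_Ioi.mpr (lt_of_lt_of_le hη hη'))
    have hp_le : p ≤ Submodule.pi Set.univ (fun b => ⨆ η ∈ Set.Ioi γ, F b η) := by
      rw [hp_eq, pi_biSup]
    refine ⟨(LinearMap.proj a) ∘ₗ p.subtype ∘ₗ (p.projectionOnto q hpq) ∘ₗ
      (LinearMap.single R M a), ?_, ?_⟩
    · intro x
      exact hp_le (p.projectionOnto q hpq (LinearMap.single R M a x)).2 a (Set.mem_univ a)
    · intro x hx
      have h1 : LinearMap.single R M a x ∈ p := by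
        rw [hp_eq]
        have h2 : LinearMap.single R M a x ∈
            Submodule.map (LinearMap.single R M a) (⨆ η ∈ Set.Ioi γ, F a η) :=
          Submodule.mem_map_of_mem hx
        simp_rw [Submodule.map_iSup] at h2
        refine (iSup₂_mono fun η hη => ?_ :
          (⨆ η ∈ Set.Ioi γ, Submodule.map (LinearMap.single R M a) (F a η)) ≤ _) h2
        rintro _ ⟨y, hy, rfl⟩
        exact single_mem_pi _ a hy
      simp only [LinearMap.coe_comp, Function.comp_apply, Submodule.coe_subtype,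
        LinearMap.proj_apply]
      rw [Submodule.projectionOnto_apply_of_mem_left hpq h1]
      simp
  choose r hr1 hr2 using hret
  have hFplus_le : ∀ γ, (⨆ η ∈ Set.Ioi γ, F a η) ≤ F a γ :=
    fun γ => iSup₂_le fun η hη => hF a (le_of_lt hη)
  set Ga : Γ → Submodule R (M a) := fun γ => F a γ ⊓ LinearMap.ker (r γ) with hGa
  have hGa_le : ∀ γ, Ga γ ≤ F a γ := fun γ => inf_le_left
  have hsplit : ∀ γ, F a γ = Ga γ ⊔ ⨆ η ∈ Set.Ioi γ, F a η := by
    intro γ
    apply le_antisymm _ (sup_le (hGa_le γ) (hFplus_le γ))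
    intro x hx
    rw [Submodule.mem_sup]
    refine ⟨x - r γ x, ⟨Submodule.sub_mem _ hx (hFplus_le γ (hr1 γ x)), ?_⟩, r γ x, hr1 γ x, by abel⟩
    rw [SetLike.mem_coe, LinearMap.mem_ker, map_sub, hr2 γ (r γ x) (hr1 γ x), sub_self]
  have hdisjG : ∀ γ, Disjoint (Ga γ) (⨆ η ∈ Set.Ioi γ, F a η) := by
    intro γ
    rw [Submodule.disjoint_def]
    intro x hx1 hx2
    have h1 : r γ x = 0 := LinearMap.mem_ker.mp hx1.2
    rw [← hr2 γ x hx2, h1]
  have hle : ∀ (k : ℕ) (γ : Γ), (T0.filter (γ ≤ ·)).card = k → F a γ ≤ ⨆ η ∈ Set.Ici γ, Ga η := by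
    intro k
    induction k using Nat.strong_induction_on with
    | _ k ih =>
      intro γ hk
      by_cases hemp : T0.filter (γ ≤ ·) = ∅
      · rw [hFa_bot γ (fun η hη h => by
          have : η ∈ T0.filter (γ ≤ ·) := Finset.mem_filter.mpr ⟨hη, h⟩
          rw [hemp] at this
          exact absurd this (Finset.notMem_empty _))]
        exact bot_le
      · have hne : (T0.filter (γ ≤ ·)).Nonempty := Finset.nonempty_iff_ne_empty.mpr hemp
        set t := (T0.filter (γ ≤ ·)).min' hne with ht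
        have ht_mem : t ∈ T0.filter (γ ≤ ·) := Finset.min'_mem _ hne
        have hγt : γ ≤ t := (Finset.mem_filter.mp ht_mem).2
        have ht_min : ∀ η ∈ T0, γ ≤ η → t ≤ η := fun η hη h =>
          Finset.min'_le _ η (Finset.mem_filter.mpr ⟨hη, h⟩)
        rw [hFa_eq γ t hγt ht_min, hsplit t]
        refine sup_le (le_biSup Ga (Set.mem_Ici.mpr hγt)) ?_
        refine iSup₂_le fun η hη => ?_
        have hlt : (T0.filter (η ≤ ·)).card < k := by
          rw [← hk]
          apply Finset.card_lt_card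
          rw [Finset.ssubset_iff_of_subset]
          · refine ⟨t, ht_mem, ?_⟩
            intro h
            exact not_le.mpr hη (Finset.mem_filter.mp h).2
          · intro x hx
            rw [Finset.mem_filter] at hx ⊢
            exact ⟨hx.1, le_trans hγt (le_trans (le_of_lt hη) hx.2)⟩
        refine (ih _ hlt η rfl).trans ?_
        refine biSup_mono fun η' hη' => ?_
        exact Set.mem_Ici.mpr (le_trans hγt (le_trans (le_of_lt hη) hη'))
  have htopa : iSup Ga = ⊤ := by
    rw [eq_top_iff, ← hγ0]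
    refine (hle _ γ0 rfl).trans ?_
    exact iSup₂_le fun η _ => le_iSup Ga η
  have hinda : iSupIndep Ga := by
    refine iSupIndep_of_disjoint_Ioi Ga fun t => (hdisjG t).mono_right ?_
    exact iSup₂_mono fun η hη => hGa_le η
  refine ⟨Ga, (DirectSum.isInternal_submodule_iff_iSupIndep_and_iSup_eq_top _).mpr ⟨hinda, htopa⟩,
    fun γ => le_antisymm (hle _ γ rfl) (iSup₂_le fun η hη => (hGa_le η).trans (hF a hη))⟩

end Forward

end Groth.Agent.Lib.Helper26.ProdFilt
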