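import Mathlib
import Groth.Prelude.Def_CohB1
import Groth.Agent.Helper19.ProjDim
import Groth.Agent.Helper19.ProjAvoid
import Groth.Agent.Lib.Helper26.ProjIntC

namespace Groth.Agent.Lib.Helper26.ProjIntD
universe u
open TopologicalSpace Topology MvPolynomial Groth.Agent.Helper19.ProjDict
  Groth.Agent.Helper19.ProjDim Groth.Agent.Lib.Helper26

section general
variable {A σ : Type*} [CommRing A] [SetLike σ A] [AddSubmonoidClass σ A]
variable (𝒜 : ℕ → σ) [GradedRing 𝒜]

local notation "P" => ProjectiveSpectrum 𝒜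

theorem closure_subset_of_mem (X : Set P) (hX : IsClosed X) (x : P) (hx : x ∈ X) :
    closure ({x} : Set P) ⊆ X :=
  (IsClosed.closure_subset_iff hX).mpr (by simpa using hx)

/-- a closed subset of dimension `r` contains a point of coheight `r` -/
theorem exists_coheight_eq (X : Set P) (hX : IsClosed X) (r : ℕ)
    (hXr : topologicalKrullDim ↥X = r) : ∃ x ∈ X, Order.coheight x = (r : ℕ∞) := by
  have h1 : (r : WithBot ℕ∞) ≤ Order.krullDim (IrreducibleCloseds ↥X) := by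
    have : topologicalKrullDim ↥X = Order.krullDim (IrreducibleCloseds ↥X) := rfl
    rw [← this, hXr]
  obtain ⟨l, hl⟩ := Order.le_krullDim_iff.mp h1
  let f : IrreducibleCloseds ↥X → (P)ᵒᵈ := fun T => genIso 𝒜 ((closedSubIso X hX T).1)
  have hf : StrictMono f := by
    intro T T' h
    apply (genIso 𝒜).strictMono
    exact (closedSubIso X hX).strictMono h
  let l' : LTSeries (P)ᵒᵈ := l.map f hf
  have hlen : l'.length = r := by rw [LTSeries.map_length, hl]
  let y : P := OrderDual.ofDual l'.last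
  have hyX : y ∈ X := by
    have h2 : ((closedSubIso X hX l.last).1 : Set P) ⊆ X := (closedSubIso X hX l.last).2
    apply h2
    rw [coe_eq_closure_genPt 𝒜 (closedSubIso X hX l.last).1]
    have : y = genPt 𝒜 (closedSubIso X hX l.last).1 := by
      show OrderDual.ofDual (l.map f hf).last = _
      rw [LTSeries.last_map]
      rfl
    rw [this]
    exact subset_closure rfl
  refine ⟨y, hyX, le_antisymm ?_ ?_⟩
  · have h3 := coheight_le_topologicalKrullDim 𝒜 X y (closure_subset_of_mem 𝒜 X hX y hyX)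
    rw [hXr] at h3
    exact_mod_cast h3
  · have h4 : (l'.length : ℕ∞) ≤ Order.height l'.last := Order.length_le_height_last
    rw [hlen] at h4
    exact h4

end general

section poly
variable (k : Type u) [Field k] (n : ℕ)

local notation "S" => MvPolynomial (Fin (n + 1)) k
local notation "𝒜" => CohB1.polyGrading n k
local notation "P" => ProjectiveSpectrum (CohB1.polyGrading n k)

theorem main_aux (r s : ℕ) (X Y : Set P) (hX : IsClosed X) (hY : IsClosed Y)
    (hXr : topologicalKrullDim X = r) (hYs : topologicalKrullDim Y = s) (hrs : n ≤ r + s) :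
    (X ∩ Y).Nonempty ∧
      ((r + s : ℕ) : WithBot ℕ∞) ≤ topologicalKrullDim ↥(X ∩ Y) + (n : WithBot ℕ∞) := by
  obtain ⟨x, hxX, hxr⟩ := exists_coheight_eq 𝒜 X hX r hXr
  obtain ⟨y, hyY, hys⟩ := exists_coheight_eq 𝒜 Y hY s hYs
  set p := x.asHomogeneousIdeal.toIdeal with hp
  set q := y.asHomogeneousIdeal.toIdeal with hq
  haveI : p.IsPrime := x.isPrime
  haveI : q.IsPrime := y.isPrime
  have hdp : ringKrullDim (S ⧸ p) = ((r + 1 : ℕ) : WithBot ℕ∞) := by
    rw [hp, dim_eq_coheight_add_one k n x, hxr]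
    rfl
  have hdq : ringKrullDim (S ⧸ q) = ((s + 1 : ℕ) : WithBot ℕ∞) := by
    rw [hq, dim_eq_coheight_add_one k n y, hys]
    rfl
  haveI hmp := (mplus_isMaximal k n).isPrime
  have hpq : p ⊔ q ≤ mplus k n :=
    sup_le (ideal_lt_mplus k n x).le (ideal_lt_mplus k n y).le
  obtain ⟨Q, hQ, hQm⟩ := Ideal.exists_minimalPrimes_le hpq
  haveI hQp : Q.IsPrime := hQ.1.1
  have hhom : (p ⊔ q).IsHomogeneous 𝒜 :=
    Ideal.IsHomogeneous.sup x.asHomogeneousIdeal.isHomogeneous y.asHomogeneousIdeal.isHomogeneous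
  have hQhom : Q.IsHomogeneous 𝒜 := isHomogeneous_of_mem_minimalPrimes 𝒜 hhom hQ
  have haff := ProjIntC.affine_dim k S (n + 1) (fun i => (MvPolynomial.X i : S))
    (MvPolynomial.adjoin_range_X) p q Q hQ
  rw [hdp, hdq] at haff
  obtain ⟨c, hc⟩ := exists_dim_nat k n Q hQp.ne_top
  rw [hc] at haff
  have hcn : (s + 1) + (r + 1) ≤ c + (n + 1) := by
    have : (((s + 1) + (r + 1) : ℕ) : WithBot ℕ∞) ≤ ((c + (n + 1) : ℕ) : WithBot ℕ∞) := by
      push_cast
      push_cast at haff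
      exact haff
    exact_mod_cast this
  have hc1 : 1 ≤ c := by omega
  let Qh : HomogeneousIdeal 𝒜 := ⟨Q, hQhom⟩
  haveI : Qh.toIdeal.IsPrime := hQp
  have hrel : ¬ HomogeneousIdeal.irrelevant 𝒜 ≤ Qh := by
    apply relevant_of_dim_pos k n Qh
    show 1 ≤ ringKrullDim (S ⧸ Q)
    rw [hc]
    exact_mod_cast hc1
  let z : P := ⟨Qh, hQp, hrel⟩
  have hxz : x ≤ z := by
    rw [← ProjectiveSpectrum.as_ideal_le_as_ideal]
    show p ≤ Q
    exact le_sup_left.trans hQ.1.2
  have hyz : y ≤ z := by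
    rw [← ProjectiveSpectrum.as_ideal_le_as_ideal]
    show q ≤ Q
    exact le_sup_right.trans hQ.1.2
  have hzX : z ∈ X := closure_subset_of_mem 𝒜 X hX x hxX ((mem_closure_singleton_iff 𝒜 x z).mpr hxz)
  have hzY : z ∈ Y := closure_subset_of_mem 𝒜 Y hY y hyY ((mem_closure_singleton_iff 𝒜 y z).mpr hyz)
  refine ⟨⟨z, hzX, hzY⟩, ?_⟩
  have hcz := dim_eq_coheight_add_one k n z
  have hcz' : ringKrullDim (S ⧸ Q) = ((Order.coheight z + 1 : ℕ∞) : WithBot ℕ∞) := hcz
  rw [hc] at hcz'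
  have hcz'' : (c : ℕ∞) = Order.coheight z + 1 := WithBot.coe_injective hcz'
  have hle := coheight_le_topologicalKrullDim 𝒜 (X ∩ Y) z
    (closure_subset_of_mem 𝒜 (X ∩ Y) (hX.inter hY) z ⟨hzX, hzY⟩)
  have hcoh : ((r + s : ℕ) : ℕ∞) ≤ Order.coheight z + (n : ℕ∞) := by
    have h5 : (((s + 1) + (r + 1) : ℕ) : ℕ∞) ≤ (c : ℕ∞) + ((n + 1 : ℕ) : ℕ∞) := by
      exact_mod_cast hcn
    rw [hcz''] at h5
    have h6 : ((r + s : ℕ) : ℕ∞) + 2 ≤ (Order.coheight z + (n : ℕ∞)) + 2 := by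
      calc ((r + s : ℕ) : ℕ∞) + 2 = (((s + 1) + (r + 1) : ℕ) : ℕ∞) := by
            push_cast; ring
        _ ≤ Order.coheight z + 1 + ((n + 1 : ℕ) : ℕ∞) := h5
        _ = (Order.coheight z + (n : ℕ∞)) + 2 := by push_cast; ring
    exact (ENat.add_le_add_iff_right (by norm_num)).mp h6
  calc ((r + s : ℕ) : WithBot ℕ∞) = (((r + s : ℕ) : ℕ∞) : WithBot ℕ∞) := rfl
    _ ≤ ((Order.coheight z + (n : ℕ∞) : ℕ∞) : WithBot ℕ∞) := by exact_mod_cast hcoh
    _ = (Order.coheight z : WithBot ℕ∞) + (n : WithBot ℕ∞) := by push_cast; rfl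
    _ ≤ topologicalKrullDim ↥(X ∩ Y) + (n : WithBot ℕ∞) := by gcongr

end poly

end Groth.Agent.Lib.Helper26.ProjIntD
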