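import Mathlib
import Groth.Agent.Lib.Helper26.GenNil
import Groth.Agent.Lib.Helper10.PreLocus
import Groth.Agent.Lib.Helper10.SmoothReduced2

set_option autoImplicit false
set_option backward.isDefEq.respectTransparency.types false
universe u v
open AlgebraicGeometry CategoryTheory CategoryTheory.Limits MonoidalCategory
  CartesianMonoidalCategory MonObj GrpObj Topology

namespace Groth.Agent.Lib.Helper26.PtSolv

open Groth.Agent.Lib.Helper7 Groth.Agent.Lib.Helper26 Groth.Agent.Lib.Helper26.GenNil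

variable {S : Scheme.{u}} {G : Over S} [GrpObj G]

/-- a functorial family of subgroups of the groups of points, generated by test objects
satisfying `P` -/
structure FGP (P : Over S → Prop) (Φ : ∀ T : Over S, Subgroup (T ⟶ G)) : Prop where
  func : ∀ {T T' : Over S} (ξ : T' ⟶ T) (a : T ⟶ G), a ∈ Φ T → ξ ≫ a ∈ Φ T'
  gen : ∀ {T : Over S} (t : T ⟶ G), t ∈ Φ T →
    ∃ (U : Over S) (_ : P U) (ξ : T ⟶ U) (a : U ⟶ G), a ∈ Φ U ∧ t = ξ ≫ a

variable {P : Over S → Prop}

lemma FGP_top (hG : P G) : FGP (G := G) P (fun _ => ⊤) where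
  func := fun _ _ _ => Subgroup.mem_top _
  gen := fun {T} t _ => ⟨G, hG, t, 𝟙 G, Subgroup.mem_top _, by simp⟩

lemma FGP_comm (hG : P G) (hP : ∀ U U', P U → P U' → P (U ⊗ U'))
    {Φ Ψ : ∀ T : Over S, Subgroup (T ⟶ G)} (hΦ : FGP P Φ) (hΨ : FGP P Ψ) :
    FGP P (fun T => ⁅Φ T, Ψ T⁆) := by
  have hfunc : ∀ {T T' : Over S} (ξ : T' ⟶ T) (a : T ⟶ G), a ∈ ⁅Φ T, Ψ T⁆ →
      ξ ≫ a ∈ ⁅Φ T', Ψ T'⁆ := by
    intro T T' ξ a ha
    have h1 : (⁅Φ T, Ψ T⁆).map (pre ξ) ≤ ⁅Φ T', Ψ T'⁆ := by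
      rw [Subgroup.map_commutator]
      refine Subgroup.commutator_mono ?_ ?_
      · rintro _ ⟨b, hb, rfl⟩
        exact hΦ.func ξ b hb
      · rintro _ ⟨b, hb, rfl⟩
        exact hΨ.func ξ b hb
    exact h1 ⟨a, ha, rfl⟩
  refine ⟨hfunc, ?_⟩
  intro T t ht
  induction ht using Subgroup.closure_induction with
  | mem x hx =>
    obtain ⟨p, hp, q, hq, rfl⟩ := hx
    obtain ⟨U, hU, ξ, a, ha, rfl⟩ := hΦ.gen p hp
    obtain ⟨U', hU', ξ', a', ha', rfl⟩ := hΨ.gen q hq
    refine ⟨U ⊗ U', hP _ _ hU hU', lift ξ ξ',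
      @Bracket.bracket _ _ commutatorElement (fst U U' ≫ a) (snd U U' ≫ a'),
      Subgroup.commutator_mem_commutator (hΦ.func _ _ ha) (hΨ.func _ _ ha'), ?_⟩
    have h2 := map_commutatorElement (pre (G := G) (lift ξ ξ')) (fst U U' ≫ a) (snd U U' ≫ a')
    simp only [pre_apply, lift_fst_assoc, lift_snd_assoc] at h2
    exact h2.symm
  | one =>
    exact ⟨G, hG, 1, 1, Subgroup.one_mem _, by simp⟩
  | mul x y _ _ hx hy =>
    obtain ⟨U, hU, ξ, a, ha, rfl⟩ := hx
    obtain ⟨U', hU', ξ', a', ha', rfl⟩ := hy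
    refine ⟨U ⊗ U', hP _ _ hU hU', lift ξ ξ', (fst U U' ≫ a) * (snd U U' ≫ a'),
      Subgroup.mul_mem _ (hfunc _ _ ha) (hfunc _ _ ha'), ?_⟩
    rw [MonObj.comp_mul, lift_fst_assoc, lift_snd_assoc]
  | inv x _ hx =>
    obtain ⟨U, hU, ξ, a, ha, rfl⟩ := hx
    refine ⟨U, hU, ξ, a⁻¹, Subgroup.inv_mem _ ha, ?_⟩
    exact (map_inv (pre (G := G) ξ) a).symm

lemma FGP_derived (hG : P G) (hP : ∀ U U', P U → P U' → P (U ⊗ U')) (n : ℕ) :
    FGP (G := G) P (fun T => derivedSeries (T ⟶ G) n) := by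
  induction n with
  | zero => exact FGP_top hG
  | succ n ih => exact FGP_comm hG hP ih ih

lemma FGP_lower (hG : P G) (hP : ∀ U U', P U → P U' → P (U ⊗ U')) (n : ℕ) :
    FGP (G := G) P (fun T => (⊤ : Subgroup (T ⟶ G)).lowerCentralSeries n) := by
  induction n with
  | zero => exact FGP_top hG
  | succ n ih => exact FGP_comm hG hP ih (FGP_top hG)

lemma FGP.eq_bot {Φ : ∀ T : Over S, Subgroup (T ⟶ G)} (hΦ : FGP P Φ)
    (h : ∀ U : Over S, P U → Φ U = ⊥) (T : Over S) : Φ T = ⊥ := by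
  rw [eq_bot_iff]
  intro t ht
  obtain ⟨U, hU, ξ, a, ha, rfl⟩ := hΦ.gen t ht
  rw [h U hU, Subgroup.mem_bot] at ha
  rw [Subgroup.mem_bot, ha]
  exact map_one (pre (G := G) ξ)

/-- morphisms from a smooth `k`-scheme to a separated `k`-scheme are determined by their values
on `Ω`-points, `Ω` an algebraically closed extension of `k` -/
theorem ext_of_points {k Ω : Type u} [Field k] [Field Ω] [Algebra k Ω] [IsAlgClosed Ω]
    {U G : Over (Spec (CommRingCat.of k))} [Smooth U.hom] [IsSeparated G.hom] (u v : U ⟶ G)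
    (h : ∀ x : (Over.mk (Spec.map (CommRingCat.ofHom (algebraMap k Ω))) :
      Over (Spec (CommRingCat.of k))) ⟶ U, x ≫ u = x ≫ v) : u = v := by
  set σ := Spec.map (CommRingCat.ofHom (algebraMap k Ω)) with hσ
  haveI : Surjective σ := by
    refine ⟨fun y => ⟨default, Subsingleton.elim (α := PrimeSpectrum k) _ _⟩⟩
  haveI : IsSchemeTheoreticallyDominant σ := IsSchemeTheoreticallyDominant.of_isDominant σ
  haveI : IsSchemeTheoreticallyDominant (pullback.fst U.hom σ) := inferInstance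
  apply Over.OverMorphism.ext
  refine Groth.Agent.Lib.Helper17.SchDense.ext_of_ker_eq_bot G.hom ?_ (pullback.fst U.hom σ)
    (Scheme.Hom.ker_eq_bot _) ?_
  · rw [Over.w u, Over.w v]
  haveI : IsReduced (pullback U.hom σ) :=
    Groth.Agent.Lib.Helper10.SmoothReduced.isReduced_of_smooth_field (pullback.snd U.hom σ)
  haveI : JacobsonSpace ↥(pullback U.hom σ) :=
    LocallyOfFiniteType.jacobsonSpace (pullback.snd U.hom σ)
  refine ext_of_fromSpecResidueField_eq _ _ G.hom (closedPoints ↥(pullback U.hom σ)) ?_ ?_ ?_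
  · rw [dense_iff_closure_eq, _root_.closure_closedPoints]
  · intro y hy
    have hy' : IsClosed ({y} : Set ↥(pullback U.hom σ)) := hy
    let x₀ : Spec (CommRingCat.of Ω) ⟶ U.left :=
      pointOfClosedPoint (pullback.snd U.hom σ) y hy' ≫ pullback.fst U.hom σ
    have hx₀ : x₀ ≫ U.hom = σ := by
      simp only [x₀, Category.assoc, pullback.condition]
      rw [pointOfClosedPoint_comp_assoc]
    let x : (Over.mk σ : Over (Spec (CommRingCat.of k))) ⟶ U := Over.homMk x₀ hx₀
    have h1 := congrArg (fun t => t.left) (h x)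
    simp only [Over.comp_left] at h1
    have h2 : (pullback U.hom σ).fromSpecResidueField y =
        Spec.map (residueFieldIsoBase (pullback.snd U.hom σ) y hy').inv ≫
          pointOfClosedPoint (pullback.snd U.hom σ) y hy' := by
      rw [pointOfClosedPoint, ← Spec.map_comp_assoc, Iso.hom_inv_id, Spec.map_id,
        Category.id_comp]
    rw [h2]
    simp only [Category.assoc]
    congr 1
  · simp only [Category.assoc, Over.w u, Over.w v]

lemma smooth_tensor {k : Type u} [Field k] (U U' : Over (Spec (CommRingCat.of k)))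
    (hU : Smooth U.hom) (hU' : Smooth U'.hom) : Smooth (U ⊗ U').hom := by
  rw [Over.tensorObj_hom]
  infer_instance

theorem main_5366 (k : Type u) [Field k] (G : Over (Spec (CommRingCat.of k))) [GrpObj G]
    [Smooth G.hom] (Ω : Type u) [Field Ω] [Algebra k Ω] [IsAlgClosed Ω] (n : ℕ) :
    ((∀ T : Over (Spec (CommRingCat.of k)), derivedSeries (T ⟶ G) n = ⊥) ↔
      derivedSeries ((Over.mk (Spec.map (CommRingCat.ofHom (algebraMap k Ω))) :
        Over (Spec (CommRingCat.of k))) ⟶ G) n = ⊥) ∧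
    ((∀ T : Over (Spec (CommRingCat.of k)),
      Subgroup.lowerCentralSeries (⊤ : Subgroup (T ⟶ G)) n = ⊥) ↔
      Subgroup.lowerCentralSeries (⊤ : Subgroup (((Over.mk (Spec.map (CommRingCat.ofHom
        (algebraMap k Ω))) : Over (Spec (CommRingCat.of k))) ⟶ G))) n = ⊥) := by
  haveI : IsSeparated G.hom := Groth.Agent.Lib.Helper10.PreLocus.isSeparated_of_grpObj G
  constructor
  · refine ⟨fun h => h _, fun hΩ => ?_⟩
    refine (FGP_derived (G := G) (P := fun U => Smooth U.hom) ‹_› smooth_tensor n).eq_bot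
      (fun U hU => ?_)
    haveI : Smooth U.hom := hU
    rw [eq_bot_iff]
    intro t ht
    rw [Subgroup.mem_bot]
    apply ext_of_points (Ω := Ω)
    intro x
    have h1 : x ≫ t ∈ derivedSeries (_ ⟶ G) n :=
      map_derivedSeries_le_derivedSeries (pre (G := G) x) n ⟨t, ht, rfl⟩
    rw [hΩ, Subgroup.mem_bot] at h1
    rw [h1]
    exact (map_one (pre (G := G) x)).symm
  · refine ⟨fun h => h _, fun hΩ => ?_⟩
    refine (FGP_lower (G := G) (P := fun U => Smooth U.hom) ‹_› smooth_tensor n).eq_bot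
      (fun U hU => ?_)
    haveI : Smooth U.hom := hU
    rw [eq_bot_iff]
    intro t ht
    rw [Subgroup.mem_bot]
    apply ext_of_points (Ω := Ω)
    intro x
    have h1 : x ≫ t ∈ (⊤ : Subgroup (_ ⟶ G)).lowerCentralSeries n :=
      Subgroup.lowerCentralSeries.map (pre (G := G) x) n ⟨t, ht, rfl⟩
    rw [hΩ, Subgroup.mem_bot] at h1
    rw [h1]
    exact (map_one (pre (G := G) x)).symm

end Groth.Agent.Lib.Helper26.PtSolv
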