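import Mathlib
import Groth.Prelude.Def_CAlgX
import Groth.Agent.S8773

set_option autoImplicit false
universe u
open CategoryTheory Limits HomologicalComplex ChainComplex

namespace Groth.Agent.Lib.Helper26.PureComparison

section general

variable {C : Type*} [Category C] [Abelian C]

lemma d_comp_f_zero {K : ChainComplex C ℕ} {Z : C} (π : K ⟶ (ChainComplex.single₀ C).obj Z) :
    K.d 1 0 ≫ π.f 0 = 0 := by
  rw [← π.comm 1 0, single_obj_d, comp_zero]

set_option backward.isDefEq.respectTransparency.types false in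
set_option backward.defeqAttrib.useBackward true in
/-- `Z` is the cokernel of `K.X 1 ⟶ K.X 0` when `π : K ⟶ Z[0]` is a quasi-isomorphism. -/
noncomputable def isColimitOfQuasiIso {K : ChainComplex C ℕ} {Z : C}
    (π : K ⟶ (ChainComplex.single₀ C).obj Z) [QuasiIso π] :
    IsColimit (CokernelCofork.ofπ (π.f 0) (d_comp_f_zero π)) := by
  refine IsColimit.ofIsoColimit (K.opcyclesIsCokernel 1 0 (by simp)) ?_
  refine Cofork.ext (K.isoHomologyι₀.symm ≪≫ isoOfQuasiIsoAt π 0 ≪≫
    singleObjHomologySelfIso _ _ _) ?_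
  rw [← cancel_mono (singleObjHomologySelfIso (ComplexShape.down ℕ) 0 _).inv,
    ← cancel_mono (isoHomologyι₀ _).hom]
  dsimp
  simp only [isoHomologyι₀_inv_naturality_assoc, p_opcyclesMap_assoc, ChainComplex.single₀_obj_zero,
    Category.assoc,
    Iso.hom_inv_id, Category.comp_id, isoHomologyι_inv_hom_id, singleObjHomologySelfIso_inv_homologyι,
    singleObjOpcyclesSelfIso_hom, ChainComplex.single₀ObjXSelf, Iso.refl_inv, Category.id_comp]

lemma exactAt_succ_of_quasiIso {K : ChainComplex C ℕ} {Z : C}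
    (π : K ⟶ (ChainComplex.single₀ C).obj Z) [QuasiIso π] (n : ℕ) : K.ExactAt (n + 1) := by
  rw [← quasiIsoAt_iff_exactAt' π (n + 1) (exactAt_succ_single_obj _ _)]
  infer_instance

end general

section modcat

open MonoidalCategory

variable {R : Type u} [CommRing R]
variable (N' : ChainComplex (ModuleCat.{u} R) ℕ) {N : ModuleCat.{u} R}
  (ε : N' ⟶ (ChainComplex.single₀ (ModuleCat.{u} R)).obj N)

/-- the tensored augmentation, as a map to a single complex. -/
noncomputable def tensAug (T : ModuleCat.{u} R) :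
    ((tensorRight T).mapHomologicalComplex (ComplexShape.down ℕ)).obj N' ⟶
      (ChainComplex.single₀ (ModuleCat.{u} R)).obj ((tensorRight T).obj N) :=
  ((tensorRight T).mapHomologicalComplex (ComplexShape.down ℕ)).map ε ≫
    (singleMapHomologicalComplex (tensorRight T) (ComplexShape.down ℕ) 0).hom.app N

instance (T : ModuleCat.{u} R)
    [QuasiIso (((tensorRight T).mapHomologicalComplex (ComplexShape.down ℕ)).map ε)] :
    QuasiIso (tensAug N' ε T) := by
  unfold tensAug
  infer_instance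

variable (hN' : ∀ T : ModuleCat.{u} R,
  QuasiIso (((tensorRight T).mapHomologicalComplex (ComplexShape.down ℕ)).map ε))

include hN' in
lemma exact_succ (n : ℕ) (Q : Type u) [AddCommGroup Q] [Module R Q] :
    Function.Exact ((N'.d (n + 2) (n + 1)).hom.rTensor Q) ((N'.d (n + 1) n).hom.rTensor Q) := by
  have := hN' (ModuleCat.of R Q)
  have h1 := exactAt_succ_of_quasiIso (tensAug N' ε (ModuleCat.of R Q)) n
  have h2 := (HomologicalComplex.exactAt_iff' _ (n + 2) (n + 1) n (by simp only [ChainComplex.prev]; rfl)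
    (by simp)).1 h1
  rw [ShortComplex.ShortExact.moduleCat_exact_iff_function_exact] at h2
  exact h2

lemma rid_rTensor {A B : Type*} [AddCommGroup A] [Module R A] [AddCommGroup B] [Module R B]
    (g : A →ₗ[R] B) (w : TensorProduct R A R) :
    g (TensorProduct.rid R A w) = TensorProduct.rid R B (g.rTensor R w) := by
  induction w using TensorProduct.induction_on with
  | zero => simp
  | tmul x r => simp
  | add a b ha hb => simp only [map_add, ha, hb]

lemma comp_apply_eq_zero {A B D : ModuleCat.{u} R} (f : A ⟶ B) (g : B ⟶ D) (y : A)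
    (h : f.hom y = 0) : (f ≫ g).hom y = 0 := by
  rw [ModuleCat.hom_comp, LinearMap.comp_apply, h, map_zero]

lemma tensAug_f_zero (T : ModuleCat.{u} R) :
    (tensAug N' ε T).f 0 = (ε.f 0 ▷ T) ≫
      ((singleMapHomologicalComplex (tensorRight T) (ComplexShape.down ℕ) 0).hom.app N).f 0 := rfl

omit N' ε in
lemma isIso_f0 (T : ModuleCat.{u} R) (N : ModuleCat.{u} R) :
    IsIso (((singleMapHomologicalComplex (tensorRight T) (ComplexShape.down ℕ) 0).hom.app N).f 0) := by
  have : IsIso ((singleMapHomologicalComplex (tensorRight T) (ComplexShape.down ℕ) 0).hom.app N) :=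
    inferInstance
  infer_instance

include hN' in
lemma exact_zero (Q : Type u) [AddCommGroup Q] [Module R Q] :
    Function.Exact ((N'.d 1 0).hom.rTensor Q) ((ε.f 0).hom.rTensor Q) := by
  have := hN' (ModuleCat.of R Q)
  have hS : (ShortComplex.mk _ _ (d_comp_f_zero (tensAug N' ε (ModuleCat.of R Q)))).Exact :=
    ShortComplex.exact_of_g_is_cokernel _ (isColimitOfQuasiIso (tensAug N' ε (ModuleCat.of R Q)))
  rw [ShortComplex.moduleCat_exact_iff] at hS
  intro y
  constructor
  · intro hy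
    have h1 : (tensAug N' ε (ModuleCat.of R Q)).f 0 y = 0 := by
      rw [tensAug_f_zero]
      exact comp_apply_eq_zero (ε.f 0 ▷ (ModuleCat.of R Q)) _ y hy
    obtain ⟨x₁, hx₁⟩ := hS y h1
    exact ⟨x₁, hx₁⟩
  · rintro ⟨x, rfl⟩
    rw [← LinearMap.comp_apply, ← LinearMap.rTensor_comp]
    have : (ε.f 0).hom ∘ₗ (N'.d 1 0).hom = 0 := by
      have h := d_comp_f_zero ε
      have h' := congrArg ModuleCat.Hom.hom h
      exact h'
    rw [this, LinearMap.rTensor_zero, LinearMap.zero_apply]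

include hN' in
lemma surjective_zero : Function.Surjective (ε.f 0).hom := by
  have := hN' (ModuleCat.of R R)
  have hepi : Epi ((tensAug N' ε (ModuleCat.of R R)).f 0) :=
    epi_of_isColimit_cofork (isColimitOfQuasiIso (tensAug N' ε (ModuleCat.of R R)))
  have hsurj := (ModuleCat.epi_iff_surjective _).1 hepi
  have hiso := isIso_f0 (ModuleCat.of R R) N
  have hinj := (ConcreteCategory.bijective_of_isIso
    (((singleMapHomologicalComplex (tensorRight (ModuleCat.of R R)) (ComplexShape.down ℕ) 0).hom.app N).f 0)).injective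
  -- surjectivity of `ε₀ ⊗ R`
  have hsurj' : Function.Surjective ((ε.f 0).hom.rTensor R) := by
    intro z'
    obtain ⟨w, hw⟩ := hsurj
      ((((singleMapHomologicalComplex (tensorRight (ModuleCat.of R R)) (ComplexShape.down ℕ) 0).hom.app N).f 0) z')
    refine ⟨w, hinj ?_⟩
    exact hw
  intro n
  obtain ⟨w, hw⟩ := hsurj' (n ⊗ₜ[R] (1 : R))
  refine ⟨TensorProduct.rid R _ w, ?_⟩
  rw [rid_rTensor, hw, TensorProduct.rid_tmul, one_smul]

end modcat

section lifting

variable {R : Type u} [CommRing R]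

/-- the pure projectivity hypothesis, in the form of the statements. -/
def PProj (R : Type u) [CommRing R] (X : Type u) [AddCommGroup X] [Module R X] : Prop :=
  ∀ ⦃L T : Type u⦄ [AddCommGroup L] [Module R L] [AddCommGroup T] [Module R T] (g : L →ₗ[R] T),
    Function.Surjective g → CAlgX.UniversallyInjective R (LinearMap.ker g).subtype →
    ∀ φ : X →ₗ[R] T, ∃ ψ : X →ₗ[R] L, g ∘ₗ ψ = φ

lemma exact_of_rTensor {A B D : Type u} [AddCommGroup A] [Module R A] [AddCommGroup B] [Module R B]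
    [AddCommGroup D] [Module R D] (f : A →ₗ[R] B) (g : B →ₗ[R] D)
    (h : Function.Exact (f.rTensor R) (g.rTensor R)) : Function.Exact f g := by
  intro y
  constructor
  · intro hy
    have h1 : g.rTensor R (y ⊗ₜ[R] (1 : R)) = 0 := by
      rw [LinearMap.rTensor_tmul, hy, TensorProduct.zero_tmul]
    obtain ⟨w, hw⟩ := (h _).1 h1
    refine ⟨TensorProduct.rid R A w, ?_⟩
    rw [rid_rTensor, hw, TensorProduct.rid_tmul, one_smul]
  · rintro ⟨x, rfl⟩
    have h1 := (h (f.rTensor R (x ⊗ₜ[R] (1 : R)))).2 ⟨_, rfl⟩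
    rw [LinearMap.rTensor_tmul, LinearMap.rTensor_tmul] at h1
    have h2 := congrArg (TensorProduct.rid R D) h1
    simpa using h2

/-- the basic lifting step. -/
lemma lift_step {X A4 A3 A2 A1 A0 : Type u} [AddCommGroup X] [Module R X]
    [AddCommGroup A4] [Module R A4] [AddCommGroup A3] [Module R A3] [AddCommGroup A2] [Module R A2]
    [AddCommGroup A1] [Module R A1] [AddCommGroup A0] [Module R A0]
    (hX : PProj R X) (d4 : A4 →ₗ[R] A3) (d3 : A3 →ₗ[R] A2) (d2 : A2 →ₗ[R] A1) (d1 : A1 →ₗ[R] A0)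
    (h3 : ∀ (Q : Type u) [AddCommGroup Q] [Module R Q], Function.Exact (d4.rTensor Q) (d3.rTensor Q))
    (h2 : Function.Exact d3 d2) (h1 : Function.Exact d2 d1)
    (a : X →ₗ[R] A1) (ha : d1 ∘ₗ a = 0) : ∃ b : X →ₗ[R] A2, d2 ∘ₗ b = a := by
  have hui : CAlgX.UniversallyInjective R (LinearMap.range d3).subtype :=
    Groth.Agent.S8773.result R d4 d3 h3
  have hker : LinearMap.ker d2.rangeRestrict = LinearMap.range d3 := by
    rw [LinearMap.ker_rangeRestrict]
    exact (LinearMap.exact_iff.mp h2)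
  have hui' : CAlgX.UniversallyInjective R (LinearMap.ker d2.rangeRestrict).subtype := by
    rw [hker]
    exact hui
  have hmem : ∀ x, a x ∈ LinearMap.range d2 := by
    intro x
    apply (h1 (a x)).1
    exact LinearMap.congr_fun ha x
  obtain ⟨ψ, hψ⟩ := hX d2.rangeRestrict d2.surjective_rangeRestrict hui'
    (a.codRestrict (LinearMap.range d2) hmem)
  refine ⟨ψ, ?_⟩
  ext x
  have := congrArg (fun k => ((k x : LinearMap.range d2) : A1)) hψ
  exact this

end lifting

section comparison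

open MonoidalCategory

variable {R : Type u} [CommRing R] {M N : ModuleCat.{u} R}
  (f : M ⟶ N) (P N' : ChainComplex (ModuleCat.{u} R) ℕ)
  (π : P ⟶ (ChainComplex.single₀ (ModuleCat.{u} R)).obj M)
  (ε : N' ⟶ (ChainComplex.single₀ (ModuleCat.{u} R)).obj N)
  (hP : ∀ n : ℕ, PProj R (P.X n))
  (hN' : ∀ T : ModuleCat.{u} R,
    QuasiIso (((tensorRight T).mapHomologicalComplex (ComplexShape.down ℕ)).map ε))

include hN' in
lemma ex_succ (n : ℕ) : Function.Exact (N'.d (n + 2) (n + 1)).hom (N'.d (n + 1) n).hom :=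
  exact_of_rTensor _ _ (exact_succ N' ε hN' n R)

include hN' in
lemma ex_zero : Function.Exact (N'.d 1 0).hom (ε.f 0).hom :=
  exact_of_rTensor _ _ (exact_zero N' ε hN' R)

include hP hN' in
lemma step_zero : ∃ z : P.X 0 ⟶ N'.X 0,
    z ≫ ε.f 0 = π.f 0 ≫ ((ChainComplex.single₀ (ModuleCat.{u} R)).map f).f 0 := by
  have h1 : Function.Exact (ε.f 0).hom
      (0 : ((ChainComplex.single₀ (ModuleCat.{u} R)).obj N).X 0 →ₗ[R] PUnit.{u+1}) := by
    rw [LinearMap.exact_zero_iff_surjective]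
    exact surjective_zero N' ε hN'
  obtain ⟨b, hb⟩ := lift_step (hP 0) (N'.d 2 1).hom (N'.d 1 0).hom (ε.f 0).hom
    (0 : ((ChainComplex.single₀ (ModuleCat.{u} R)).obj N).X 0 →ₗ[R] PUnit.{u+1})
    (exact_succ N' ε hN' 0) (ex_zero N' ε hN') h1
    (π.f 0 ≫ ((ChainComplex.single₀ (ModuleCat.{u} R)).map f).f 0).hom (LinearMap.zero_comp _)
  refine ⟨ModuleCat.ofHom b, ?_⟩
  apply ModuleCat.hom_ext
  rw [ModuleCat.hom_comp, ModuleCat.hom_ofHom]
  exact hb

include hP hN' in
lemma step_one (z : P.X 0 ⟶ N'.X 0)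
    (hz : z ≫ ε.f 0 = π.f 0 ≫ ((ChainComplex.single₀ (ModuleCat.{u} R)).map f).f 0) :
    ∃ o : P.X 1 ⟶ N'.X 1, o ≫ N'.d 1 0 = P.d 1 0 ≫ z := by
  obtain ⟨b, hb⟩ := lift_step (hP 1) (N'.d 3 2).hom (N'.d 2 1).hom (N'.d 1 0).hom (ε.f 0).hom
    (exact_succ N' ε hN' 1) (ex_succ N' ε hN' 0) (ex_zero N' ε hN')
    (P.d 1 0 ≫ z).hom (by
      have h : (P.d 1 0 ≫ z) ≫ ε.f 0 = 0 := by
        rw [Category.assoc, hz, ← Category.assoc, d_comp_f_zero π, zero_comp]
      exact congrArg ModuleCat.Hom.hom h)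
  refine ⟨ModuleCat.ofHom b, ?_⟩
  apply ModuleCat.hom_ext
  rw [ModuleCat.hom_comp, ModuleCat.hom_ofHom]
  exact hb

include hP hN' in
lemma step_succ (n : ℕ) (a : P.X n ⟶ N'.X n) (a' : P.X (n + 1) ⟶ N'.X (n + 1))
    (comm : a' ≫ N'.d (n + 1) n = P.d (n + 1) n ≫ a) :
    ∃ a'' : P.X (n + 2) ⟶ N'.X (n + 2), a'' ≫ N'.d (n + 2) (n + 1) = P.d (n + 2) (n + 1) ≫ a' := by
  obtain ⟨b, hb⟩ := lift_step (hP (n + 2)) (N'.d (n + 4) (n + 3)).hom (N'.d (n + 3) (n + 2)).hom
    (N'.d (n + 2) (n + 1)).hom (N'.d (n + 1) n).hom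
    (exact_succ N' ε hN' (n + 2)) (ex_succ N' ε hN' (n + 1)) (ex_succ N' ε hN' n)
    (P.d (n + 2) (n + 1) ≫ a').hom (by
      have h : (P.d (n + 2) (n + 1) ≫ a') ≫ N'.d (n + 1) n = 0 := by
        rw [Category.assoc, comm, ← Category.assoc, P.d_comp_d, zero_comp]
      exact congrArg ModuleCat.Hom.hom h)
  refine ⟨ModuleCat.ofHom b, ?_⟩
  apply ModuleCat.hom_ext
  rw [ModuleCat.hom_comp, ModuleCat.hom_ofHom]
  exact hb

include hP hN' in
theorem exists_lift :
    ∃ φ : P ⟶ N', φ ≫ ε = π ≫ (ChainComplex.single₀ (ModuleCat.{u} R)).map f := by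
  obtain ⟨z, hz⟩ := step_zero f P N' π ε hP hN'
  obtain ⟨o, ho⟩ := step_one f P N' π ε hP hN' z hz
  refine ⟨ChainComplex.mkHom P N' z o ho (fun n p =>
    ⟨(step_succ P N' ε hP hN' n p.1 p.2.1 p.2.2).choose,
      (step_succ P N' ε hP hN' n p.1 p.2.1 p.2.2).choose_spec⟩), ?_⟩
  apply HomologicalComplex.to_single_hom_ext
  rw [HomologicalComplex.comp_f, HomologicalComplex.comp_f, ChainComplex.mkHom_f_0]
  exact hz

end comparison

end Groth.Agent.Lib.Helper26.PureComparison
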