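import Mathlib
import Groth.Prelude.Def_CAlgX
import Groth.Agent.S8773
import Groth.Agent.Lib.Helper26.PureComparison

set_option autoImplicit false
universe u
open CategoryTheory Limits HomologicalComplex CochainComplex

namespace Groth.Agent.Lib.Helper26.PureCoComparison

open Groth.Agent.Lib.Helper26.PureComparison

section general

variable {C : Type*} [Category C] [Abelian C]

lemma f_zero_comp_d {K : CochainComplex C ℕ} {Z : C} (ι : (CochainComplex.single₀ C).obj Z ⟶ K) :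
    ι.f 0 ≫ K.d 0 1 = 0 := by
  rw [ι.comm 0 1, single_obj_d, zero_comp]

set_option backward.defeqAttrib.useBackward true in
set_option backward.isDefEq.respectTransparency false in
/-- `Z` is the kernel of `K.X 0 ⟶ K.X 1` when `ι : Z[0] ⟶ K` is a quasi-isomorphism. -/
noncomputable def isLimitOfQuasiIso {K : CochainComplex C ℕ} {Z : C}
    (ι : (CochainComplex.single₀ C).obj Z ⟶ K) [QuasiIso ι] :
    IsLimit (KernelFork.ofι (ι.f 0) (f_zero_comp_d ι)) := by
  refine IsLimit.ofIsoLimit (K.cyclesIsKernel 0 1 (by simp)) (Iso.symm ?_)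
  refine Fork.ext ((singleObjHomologySelfIso _ _ _).symm ≪≫
    isoOfQuasiIsoAt ι 0 ≪≫ K.isoHomologyπ₀.symm) ?_
  rw [← cancel_epi (singleObjHomologySelfIso (ComplexShape.up ℕ) _ _).hom,
    ← cancel_epi (isoHomologyπ₀ _).hom,
    ← cancel_epi (singleObjCyclesSelfIso (ComplexShape.up ℕ) _ _).inv]
  simp

lemma exactAt_succ_of_quasiIso {K : CochainComplex C ℕ} {Z : C}
    (ι : (CochainComplex.single₀ C).obj Z ⟶ K) [QuasiIso ι] (n : ℕ) : K.ExactAt (n + 1) := by
  rw [← quasiIsoAt_iff_exactAt ι (n + 1) (exactAt_succ_single_obj _ _)]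
  infer_instance

end general

section modcat

open MonoidalCategory

variable {R : Type u} [CommRing R]
variable (M' : CochainComplex (ModuleCat.{u} R) ℕ) {M : ModuleCat.{u} R}
  (η : (CochainComplex.single₀ (ModuleCat.{u} R)).obj M ⟶ M')

/-- the tensored coaugmentation, as a map from a single complex. -/
noncomputable def tensCoaug (T : ModuleCat.{u} R) :
    (CochainComplex.single₀ (ModuleCat.{u} R)).obj ((tensorRight T).obj M) ⟶
      ((tensorRight T).mapHomologicalComplex (ComplexShape.up ℕ)).obj M' :=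
  (singleMapHomologicalComplex (tensorRight T) (ComplexShape.up ℕ) 0).inv.app M ≫
    ((tensorRight T).mapHomologicalComplex (ComplexShape.up ℕ)).map η

instance (T : ModuleCat.{u} R)
    [QuasiIso (((tensorRight T).mapHomologicalComplex (ComplexShape.up ℕ)).map η)] :
    QuasiIso (tensCoaug M' η T) := by
  unfold tensCoaug
  infer_instance

variable (hM' : ∀ T : ModuleCat.{u} R,
  QuasiIso (((tensorRight T).mapHomologicalComplex (ComplexShape.up ℕ)).map η))

include hM' in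
lemma exact_succ (n : ℕ) (Q : Type u) [AddCommGroup Q] [Module R Q] :
    Function.Exact ((M'.d n (n + 1)).hom.rTensor Q) ((M'.d (n + 1) (n + 2)).hom.rTensor Q) := by
  have := hM' (ModuleCat.of R Q)
  have h1 := exactAt_succ_of_quasiIso (tensCoaug M' η (ModuleCat.of R Q)) n
  have h2 := (HomologicalComplex.exactAt_iff' _ n (n + 1) (n + 2) (by simp)
    (by simp only [CochainComplex.next]; rfl)).1 h1
  rw [ShortComplex.ShortExact.moduleCat_exact_iff_function_exact] at h2
  exact h2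

lemma tensCoaug_f_zero (T : ModuleCat.{u} R) :
    (tensCoaug M' η T).f 0 =
      ((singleMapHomologicalComplex (tensorRight T) (ComplexShape.up ℕ) 0).inv.app M).f 0 ≫
        (η.f 0 ▷ T) := rfl

omit M' η in
lemma isIso_f0 (T : ModuleCat.{u} R) (M : ModuleCat.{u} R) :
    IsIso (((singleMapHomologicalComplex (tensorRight T) (ComplexShape.up ℕ) 0).inv.app M).f 0) := by
  have : IsIso ((singleMapHomologicalComplex (tensorRight T) (ComplexShape.up ℕ) 0).inv.app M) :=
    inferInstance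
  infer_instance

lemma comp_apply' {A B D : ModuleCat.{u} R} (f : A ⟶ B) (g : B ⟶ D) (y : A) :
    (f ≫ g).hom y = g.hom (f.hom y) := by
  rw [ModuleCat.hom_comp, LinearMap.comp_apply]

include hM' in
lemma exact_zero (Q : Type u) [AddCommGroup Q] [Module R Q] :
    Function.Exact ((η.f 0).hom.rTensor Q) ((M'.d 0 1).hom.rTensor Q) := by
  have := hM' (ModuleCat.of R Q)
  have hS : (ShortComplex.mk _ _ (f_zero_comp_d (tensCoaug M' η (ModuleCat.of R Q)))).Exact :=
    ShortComplex.exact_of_f_is_kernel _ (isLimitOfQuasiIso (tensCoaug M' η (ModuleCat.of R Q)))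
  rw [ShortComplex.moduleCat_exact_iff] at hS
  intro y
  constructor
  · intro hy
    obtain ⟨x₁, hx₁⟩ := hS y hy
    have h2 : (tensCoaug M' η (ModuleCat.of R Q)).f 0 x₁ = y := hx₁
    rw [tensCoaug_f_zero] at h2
    exact ⟨_, (comp_apply' _ (η.f 0 ▷ (ModuleCat.of R Q)) x₁).symm.trans h2⟩
  · rintro ⟨x, rfl⟩
    rw [← LinearMap.comp_apply, ← LinearMap.rTensor_comp]
    have : (M'.d 0 1).hom ∘ₗ (η.f 0).hom = 0 := by
      have h := f_zero_comp_d η
      have h' := congrArg ModuleCat.Hom.hom h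
      exact h'
    rw [this, LinearMap.rTensor_zero, LinearMap.zero_apply]

include hM' in
lemma injective_zero (Q : Type u) [AddCommGroup Q] [Module R Q] :
    Function.Injective ((η.f 0).hom.rTensor Q) := by
  have := hM' (ModuleCat.of R Q)
  have hmono : Mono ((tensCoaug M' η (ModuleCat.of R Q)).f 0) :=
    mono_of_isLimit_fork (isLimitOfQuasiIso (tensCoaug M' η (ModuleCat.of R Q)))
  have hinj := (ModuleCat.mono_iff_injective _).1 hmono
  have hiso := isIso_f0 (ModuleCat.of R Q) M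
  have hbij := ConcreteCategory.bijective_of_isIso
    (((singleMapHomologicalComplex (tensorRight (ModuleCat.of R Q)) (ComplexShape.up ℕ) 0).inv.app M).f 0)
  intro y₁ y₂ hy
  obtain ⟨x₁, rfl⟩ := hbij.surjective y₁
  obtain ⟨x₂, rfl⟩ := hbij.surjective y₂
  have h3 : (tensCoaug M' η (ModuleCat.of R Q)).f 0 x₁ = (tensCoaug M' η (ModuleCat.of R Q)).f 0 x₂ := by
    rw [tensCoaug_f_zero]
    exact (comp_apply' _ (η.f 0 ▷ (ModuleCat.of R Q)) x₁).trans (hy.trans
      (comp_apply' _ (η.f 0 ▷ (ModuleCat.of R Q)) x₂).symm)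
  rw [hinj h3]

end modcat

section extending

variable {R : Type u} [CommRing R]

/-- the pure injectivity hypothesis, in the form of the statements. -/
def PInj (R : Type u) [CommRing R] (J : Type u) [AddCommGroup J] [Module R J] : Prop :=
  ∀ ⦃K L : Type u⦄ [AddCommGroup K] [Module R K] [AddCommGroup L] [Module R L] (g : K →ₗ[R] L),
    CAlgX.UniversallyInjective R g → ∀ φ : K →ₗ[R] J, ∃ ψ : L →ₗ[R] J, ψ ∘ₗ g = φ

/-- the basic extension step. -/
lemma ext_step {J A0 A1 A2 : Type u} [AddCommGroup J] [Module R J]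
    [AddCommGroup A0] [Module R A0] [AddCommGroup A1] [Module R A1] [AddCommGroup A2] [Module R A2]
    (hJ : PInj R J) (d0 : A0 →ₗ[R] A1) (d1 : A1 →ₗ[R] A2)
    (h : ∀ (Q : Type u) [AddCommGroup Q] [Module R Q], Function.Exact (d0.rTensor Q) (d1.rTensor Q))
    (a : A1 →ₗ[R] J) (ha : a ∘ₗ d0 = 0) : ∃ b : A2 →ₗ[R] J, b ∘ₗ d1 = a := by
  have hex : Function.Exact d0 d1 := exact_of_rTensor _ _ (h R)
  have hui : CAlgX.UniversallyInjective R (LinearMap.range d1).subtype :=
    Groth.Agent.S8773.result R d0 d1 h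
  have hle : LinearMap.ker d1 ≤ LinearMap.ker a := by
    intro x hx
    obtain ⟨y, rfl⟩ := (hex x).1 hx
    exact LinearMap.congr_fun ha y
  let abar : LinearMap.range d1 →ₗ[R] J :=
    (LinearMap.ker d1).liftQ a hle ∘ₗ (d1.quotKerEquivRange).symm.toLinearMap
  obtain ⟨ψ, hψ⟩ := hJ (LinearMap.range d1).subtype hui abar
  refine ⟨ψ, ?_⟩
  ext x
  have h1 := LinearMap.congr_fun hψ ⟨d1 x, LinearMap.mem_range_self d1 x⟩
  rw [LinearMap.comp_apply] at h1 ⊢
  rw [Submodule.subtype_apply] at h1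
  rw [h1]
  show (LinearMap.ker d1).liftQ a hle ((d1.quotKerEquivRange).symm ⟨d1 x, _⟩) = a x
  rw [LinearMap.quotKerEquivRange_symm_apply_image]
  rfl

end extending

section comparison

open MonoidalCategory

variable {R : Type u} [CommRing R] {M N : ModuleCat.{u} R}
  (f : M ⟶ N) (M' I : CochainComplex (ModuleCat.{u} R) ℕ)
  (η : (CochainComplex.single₀ (ModuleCat.{u} R)).obj M ⟶ M')
  (ε : (CochainComplex.single₀ (ModuleCat.{u} R)).obj N ⟶ I)
  (hM' : ∀ T : ModuleCat.{u} R,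
    QuasiIso (((tensorRight T).mapHomologicalComplex (ComplexShape.up ℕ)).map η))
  (hI : ∀ n : ℕ, PInj R (I.X n))

include hM' in
/-- extension from degree `0`. -/
lemma ext_cat0 (X : ModuleCat.{u} R) (hX : PInj R X)
    (a : ((CochainComplex.single₀ (ModuleCat.{u} R)).obj M).X 0 ⟶ X) :
    ∃ b : M'.X 0 ⟶ X, η.f 0 ≫ b = a := by
  obtain ⟨b, hb⟩ := ext_step hX
    (0 : PUnit.{u+1} →ₗ[R] ((CochainComplex.single₀ (ModuleCat.{u} R)).obj M).X 0) (η.f 0).hom
    (by
      intro Q _ _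
      rw [LinearMap.rTensor_zero, LinearMap.exact_zero_iff_injective]
      exact injective_zero M' η hM' Q)
    a.hom (LinearMap.comp_zero _)
  refine ⟨ModuleCat.ofHom b, ?_⟩
  apply ModuleCat.hom_ext
  rw [ModuleCat.hom_comp, ModuleCat.hom_ofHom]
  exact hb

include hM' in
lemma ext_cat1 (X : ModuleCat.{u} R) (hX : PInj R X) (a : M'.X 0 ⟶ X) (ha : η.f 0 ≫ a = 0) :
    ∃ b : M'.X 1 ⟶ X, M'.d 0 1 ≫ b = a := by
  obtain ⟨b, hb⟩ := ext_step hX (η.f 0).hom (M'.d 0 1).hom (exact_zero M' η hM')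
    a.hom (congrArg ModuleCat.Hom.hom ha)
  refine ⟨ModuleCat.ofHom b, ?_⟩
  apply ModuleCat.hom_ext
  rw [ModuleCat.hom_comp, ModuleCat.hom_ofHom]
  exact hb

include hM' in
lemma ext_cat (k : ℕ) (X : ModuleCat.{u} R) (hX : PInj R X) (a : M'.X (k + 1) ⟶ X)
    (ha : M'.d k (k + 1) ≫ a = 0) :
    ∃ b : M'.X (k + 2) ⟶ X, M'.d (k + 1) (k + 2) ≫ b = a := by
  obtain ⟨b, hb⟩ := ext_step hX (M'.d k (k + 1)).hom (M'.d (k + 1) (k + 2)).hom
    (exact_succ M' η hM' k) a.hom (congrArg ModuleCat.Hom.hom ha)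
  refine ⟨ModuleCat.ofHom b, ?_⟩
  apply ModuleCat.hom_ext
  rw [ModuleCat.hom_comp, ModuleCat.hom_ofHom]
  exact hb

include hM' hI in
theorem exists_ext :
    ∃ φ : M' ⟶ I, η ≫ φ = (CochainComplex.single₀ (ModuleCat.{u} R)).map f ≫ ε := by
  obtain ⟨z, hz⟩ := ext_cat0 M' η hM' (I.X 0) (hI 0)
    (((CochainComplex.single₀ (ModuleCat.{u} R)).map f).f 0 ≫ ε.f 0)
  obtain ⟨o, ho⟩ := ext_cat1 M' η hM' (I.X 1) (hI 1) (z ≫ I.d 0 1) (by
    rw [← Category.assoc, hz, Category.assoc, f_zero_comp_d ε, comp_zero])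
  have hsucc : ∀ (n : ℕ) (p : Σ' (a : M'.X n ⟶ I.X n) (a' : M'.X (n + 1) ⟶ I.X (n + 1)),
      a ≫ I.d n (n + 1) = M'.d n (n + 1) ≫ a'),
      ∃ a'' : M'.X (n + 2) ⟶ I.X (n + 2),
        p.2.1 ≫ I.d (n + 1) (n + 2) = M'.d (n + 1) (n + 2) ≫ a'' := by
    rintro n ⟨p1, p2, hp⟩
    show ∃ a'' : M'.X (n + 2) ⟶ I.X (n + 2),
        p2 ≫ I.d (n + 1) (n + 2) = M'.d (n + 1) (n + 2) ≫ a''
    obtain ⟨b, hb⟩ := ext_cat M' η hM' n (I.X (n + 2)) (hI (n + 2)) (p2 ≫ I.d (n + 1) (n + 2)) (by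
      rw [← Category.assoc, ← hp, Category.assoc, I.d_comp_d, comp_zero])
    exact ⟨b, hb.symm⟩
  refine ⟨CochainComplex.mkHom M' I z o ho.symm (fun n p =>
    ⟨(hsucc n p).choose, (hsucc n p).choose_spec⟩), ?_⟩
  apply HomologicalComplex.from_single_hom_ext
  rw [HomologicalComplex.comp_f, HomologicalComplex.comp_f, CochainComplex.mkHom_f_0]
  exact hz

end comparison

end Groth.Agent.Lib.Helper26.PureCoComparison
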