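import Mathlib
import Groth.Agent.Lib.Helper26.PureCoComparison

set_option autoImplicit false
universe u
open CategoryTheory Limits HomologicalComplex CochainComplex

namespace Groth.Agent.Lib.Helper26.PureCoHomotopy

open Groth.Agent.Lib.Helper26.PureCoComparison MonoidalCategory

variable {R : Type u} [CommRing R] {M : ModuleCat.{u} R}
  (M' I : CochainComplex (ModuleCat.{u} R) ℕ)
  (η : (CochainComplex.single₀ (ModuleCat.{u} R)).obj M ⟶ M')
  (hM' : ∀ T : ModuleCat.{u} R,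
    QuasiIso (((tensorRight T).mapHomologicalComplex (ComplexShape.up ℕ)).map η))
  (hI : ∀ n : ℕ, PInj R (I.X n))

include hM' hI in
theorem nullHomotopic (δ : M' ⟶ I) (hδ : η ≫ δ = 0) : Nonempty (Homotopy δ 0) := by
  have hδ0 : η.f 0 ≫ δ.f 0 = 0 := by
    have := congrArg (fun k => k.f 0) hδ
    simpa using this
  obtain ⟨z, hz⟩ := ext_cat1 M' η hM' (I.X 0) (hI 0) (δ.f 0) hδ0
  obtain ⟨o, ho⟩ := ext_cat M' η hM' 0 (I.X 1) (hI 1) (δ.f 1 - z ≫ I.d 0 1) (by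
    rw [Preadditive.comp_sub, ← Category.assoc, hz, ← δ.comm, sub_self])
  have hsucc : ∀ (n : ℕ) (p : Σ' (a : M'.X (n + 1) ⟶ I.X n) (a' : M'.X (n + 2) ⟶ I.X (n + 1)),
      δ.f (n + 1) = a ≫ I.d n (n + 1) + M'.d (n + 1) (n + 2) ≫ a'),
      ∃ a'' : M'.X (n + 3) ⟶ I.X (n + 2),
        δ.f (n + 2) = p.2.1 ≫ I.d (n + 1) (n + 2) + M'.d (n + 2) (n + 3) ≫ a'' := by
    rintro n ⟨p1, p2, hp⟩
    show ∃ a'' : M'.X (n + 3) ⟶ I.X (n + 2),
        δ.f (n + 2) = p2 ≫ I.d (n + 1) (n + 2) + M'.d (n + 2) (n + 3) ≫ a''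
    obtain ⟨b, hb⟩ := ext_cat M' η hM' (n + 1) (I.X (n + 2)) (hI (n + 2))
      (δ.f (n + 2) - p2 ≫ I.d (n + 1) (n + 2)) (by
        have h2 : M'.d (n + 1) (n + 2) ≫ p2 = δ.f (n + 1) - p1 ≫ I.d n (n + 1) := by
          rw [hp]; abel
        rw [Preadditive.comp_sub, ← Category.assoc, h2, Preadditive.sub_comp, Category.assoc,
          I.d_comp_d, comp_zero, sub_zero, ← δ.comm, sub_self])
    exact ⟨b, by rw [hb]; abel⟩
  exact ⟨Homotopy.mkCoinductive δ z hz.symm o (by rw [ho]; abel)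
    (fun n p => ⟨(hsucc n p).choose, (hsucc n p).choose_spec⟩)⟩

include hM' hI in
theorem homotopic (α β : M' ⟶ I) (h : η ≫ α = η ≫ β) : Nonempty (Homotopy α β) := by
  obtain ⟨H⟩ := nullHomotopic M' I η hM' hI (α - β) (by rw [Preadditive.comp_sub, h, sub_self])
  exact ⟨Homotopy.equivSubZero.symm H⟩

end Groth.Agent.Lib.Helper26.PureCoHomotopy
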