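import Mathlib
import Groth.Agent.Lib.Helper26.PureComparison

set_option autoImplicit false
universe u
open CategoryTheory Limits HomologicalComplex ChainComplex

namespace Groth.Agent.Lib.Helper26.PureHomotopy

open Groth.Agent.Lib.Helper26.PureComparison MonoidalCategory

variable {R : Type u} [CommRing R] {N : ModuleCat.{u} R}
  (N' : ChainComplex (ModuleCat.{u} R) ℕ)
  (ε : N' ⟶ (ChainComplex.single₀ (ModuleCat.{u} R)).obj N)
  (hN' : ∀ T : ModuleCat.{u} R,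
    QuasiIso (((tensorRight T).mapHomologicalComplex (ComplexShape.down ℕ)).map ε))

include hN' in
lemma lift_cat0 (X : ModuleCat.{u} R) (hX : PProj R X) (a : X ⟶ N'.X 0) (ha : a ≫ ε.f 0 = 0) :
    ∃ b : X ⟶ N'.X 1, b ≫ N'.d 1 0 = a := by
  obtain ⟨b, hb⟩ := lift_step hX (N'.d 3 2).hom (N'.d 2 1).hom (N'.d 1 0).hom (ε.f 0).hom
    (exact_succ N' ε hN' 1) (ex_succ N' ε hN' 0) (ex_zero N' ε hN')
    a.hom (congrArg ModuleCat.Hom.hom ha)
  refine ⟨ModuleCat.ofHom b, ?_⟩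
  apply ModuleCat.hom_ext
  rw [ModuleCat.hom_comp, ModuleCat.hom_ofHom]
  exact hb

include hN' in
lemma lift_cat (k : ℕ) (X : ModuleCat.{u} R) (hX : PProj R X) (a : X ⟶ N'.X (k + 1))
    (ha : a ≫ N'.d (k + 1) k = 0) :
    ∃ b : X ⟶ N'.X (k + 2), b ≫ N'.d (k + 2) (k + 1) = a := by
  obtain ⟨b, hb⟩ := lift_step hX (N'.d (k + 4) (k + 3)).hom (N'.d (k + 3) (k + 2)).hom
    (N'.d (k + 2) (k + 1)).hom (N'.d (k + 1) k).hom
    (exact_succ N' ε hN' (k + 2)) (ex_succ N' ε hN' (k + 1)) (ex_succ N' ε hN' k)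
    a.hom (congrArg ModuleCat.Hom.hom ha)
  refine ⟨ModuleCat.ofHom b, ?_⟩
  apply ModuleCat.hom_ext
  rw [ModuleCat.hom_comp, ModuleCat.hom_ofHom]
  exact hb

variable (P : ChainComplex (ModuleCat.{u} R) ℕ) (hP : ∀ n : ℕ, PProj R (P.X n))

include hP hN' in
theorem nullHomotopic (δ : P ⟶ N') (hδ : δ ≫ ε = 0) : Nonempty (Homotopy δ 0) := by
  have hδ0 : δ.f 0 ≫ ε.f 0 = 0 := by
    have := congrArg (fun k => k.f 0) hδ
    simpa using this
  obtain ⟨z, hz⟩ := lift_cat0 N' ε hN' (P.X 0) (hP 0) (δ.f 0) hδ0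
  obtain ⟨o, ho⟩ := lift_cat N' ε hN' 0 (P.X 1) (hP 1) (δ.f 1 - P.d 1 0 ≫ z) (by
    rw [Preadditive.sub_comp, Category.assoc, hz, δ.comm, sub_self])
  have hsucc : ∀ (n : ℕ) (p : Σ' (f : P.X n ⟶ N'.X (n + 1)) (f' : P.X (n + 1) ⟶ N'.X (n + 2)),
      δ.f (n + 1) = P.d (n + 1) n ≫ f + f' ≫ N'.d (n + 2) (n + 1)),
      ∃ f'' : P.X (n + 2) ⟶ N'.X (n + 3),
        δ.f (n + 2) = P.d (n + 2) (n + 1) ≫ p.2.1 + f'' ≫ N'.d (n + 3) (n + 2) := by
    rintro n ⟨p1, p2, hp⟩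
    show ∃ f'' : P.X (n + 2) ⟶ N'.X (n + 3),
        δ.f (n + 2) = P.d (n + 2) (n + 1) ≫ p2 + f'' ≫ N'.d (n + 3) (n + 2)
    obtain ⟨b, hb⟩ := lift_cat N' ε hN' (n + 1) (P.X (n + 2)) (hP (n + 2))
      (δ.f (n + 2) - P.d (n + 2) (n + 1) ≫ p2) (by
        have h2 : p2 ≫ N'.d (n + 2) (n + 1) = δ.f (n + 1) - P.d (n + 1) n ≫ p1 := by
          rw [hp]; abel
        rw [Preadditive.sub_comp, Category.assoc, h2, Preadditive.comp_sub, ← Category.assoc,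
          P.d_comp_d, zero_comp, sub_zero, δ.comm, sub_self])
    exact ⟨b, by rw [hb]; abel⟩
  exact ⟨Homotopy.mkInductive δ z hz.symm o (by rw [ho]; abel)
    (fun n p => ⟨(hsucc n p).choose, (hsucc n p).choose_spec⟩)⟩

include hP hN' in
theorem homotopic (α β : P ⟶ N') (h : α ≫ ε = β ≫ ε) : Nonempty (Homotopy α β) := by
  obtain ⟨H⟩ := nullHomotopic N' ε hN' P hP (α - β) (by rw [Preadditive.sub_comp, h, sub_self])
  exact ⟨Homotopy.equivSubZero.symm H⟩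

end Groth.Agent.Lib.Helper26.PureHomotopy
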