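import Mathlib
import Groth.Prelude.Def_CAlgX
import Groth.Prelude.Def_W4stkadequatePure
import Groth.Agent.S8772
import Groth.Agent.Lib.Helper26.PureCoComparison

set_option autoImplicit false
universe u
open CategoryTheory Limits HomologicalComplex CochainComplex

namespace Groth.Agent.Lib.Helper26.PureInjRes

open Groth.Agent.Lib.Helper26.PureCoComparison PureExt

section modules

variable {R : Type u} [CommRing R]

/-- character modules are pure injective. -/
lemma charModule_pinj (X : Type u) [AddCommGroup X] [Module R X] : PInj R (CharacterModule X) := by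
  intro K L _ _ _ _ g hg φ
  have hsurj := (rTensor_injective_iff_lcomp_surjective (R := R) (f := g) (B := X)).mp (hg _)
  obtain ⟨ψ, hψ⟩ := hsurj φ
  exact ⟨ψ, hψ⟩

variable {A B : Type u} [AddCommGroup A] [Module R A] [AddCommGroup B] [Module R B]

/-- the next differential: `B → B/im f → (B/im f)^∨∨`. -/
noncomputable def ddLin (f : A →ₗ[R] B) :
    B →ₗ[R] CharacterModule (CharacterModule (B ⧸ LinearMap.range f)) :=
  charEval R (B ⧸ LinearMap.range f) ∘ₗ (LinearMap.range f).mkQ

lemma ddLin_comp (f : A →ₗ[R] B) : ddLin f ∘ₗ f = 0 := by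
  apply LinearMap.ext
  intro x
  show charEval R _ ((LinearMap.range f).mkQ (f x)) = 0
  have : (LinearMap.range f).mkQ (f x) = 0 := by
    rw [Submodule.mkQ_apply, Submodule.Quotient.mk_eq_zero]
    exact LinearMap.mem_range_self f x
  rw [this, map_zero]

lemma ddLin_exact (f : A →ₗ[R] B) (Q : Type u) [AddCommGroup Q] [Module R Q] :
    Function.Exact (f.rTensor Q) ((ddLin f).rTensor Q) := by
  have h1 : Function.Exact (f.rTensor Q) ((LinearMap.range f).mkQ.rTensor Q) := by
    apply rTensor_exact Q
    · rw [LinearMap.exact_iff, Submodule.ker_mkQ]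
    · exact Submodule.mkQ_surjective _
  have h2 : Function.Injective ((charEval R (B ⧸ LinearMap.range f)).rTensor Q) :=
    Groth.Agent.S8772.result R _ Q
  intro y
  rw [← h1 y]
  unfold ddLin
  rw [LinearMap.rTensor_comp, LinearMap.comp_apply]
  constructor
  · intro h
    apply h2
    rw [h, map_zero]
  · intro h
    rw [h, map_zero]

end modules

section complex

variable {R : Type u} [CommRing R] (M : ModuleCat.{u} R)

/-- a stage: a morphism with its source and target. -/
abbrev Stage (R : Type u) [CommRing R] := Σ (A B : ModuleCat.{u} R), (A ⟶ B)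

/-- the next stage. -/
noncomputable def next (s : Stage R) : Stage R :=
  ⟨s.2.1, ModuleCat.of R (CharacterModule (CharacterModule (s.2.1 ⧸ LinearMap.range s.2.2.hom))),
    ModuleCat.ofHom (ddLin s.2.2.hom)⟩

/-- the stages of the resolution. -/
noncomputable def stage : ℕ → Stage R
  | 0 => ⟨M, ModuleCat.of R (CharacterModule (CharacterModule M)), ModuleCat.ofHom (charEval R M)⟩
  | n + 1 => next (stage n)

/-- the objects. -/
noncomputable def X (n : ℕ) : ModuleCat.{u} R := (stage M n).2.1

/-- the differentials. -/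
noncomputable def d (n : ℕ) : X M n ⟶ X M (n + 1) := (stage M (n + 1)).2.2

lemma d_zero : d M 0 = ModuleCat.ofHom (ddLin (charEval R M)) := rfl

lemma d_succ (n : ℕ) : d M (n + 1) = ModuleCat.ofHom (ddLin (d M n).hom) := rfl

omit M in
lemma comp_eq_zero_of {A B C : ModuleCat.{u} R} (f : A ⟶ B) (g : B ⟶ C)
    (h : g.hom ∘ₗ f.hom = 0) : f ≫ g = 0 := by
  apply ModuleCat.hom_ext
  rw [ModuleCat.hom_comp]
  exact h

lemma sq (n : ℕ) : d M n ≫ d M (n + 1) = 0 :=
  comp_eq_zero_of _ _ (ddLin_comp (d M n).hom)

lemma X_pinj (n : ℕ) : PInj R (X M n) := by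
  cases n with
  | zero => exact charModule_pinj (CharacterModule M)
  | succ n => exact charModule_pinj _

/-- the resolution. -/
noncomputable def cx : CochainComplex (ModuleCat.{u} R) ℕ :=
  CochainComplex.of (X M) (d M) (sq M)

lemma cx_d (n : ℕ) : (cx M).d n (n + 1) = d M n := CochainComplex.of_d _ _ _

lemma eta_comp : ModuleCat.ofHom (charEval R M) ≫ (cx M).d 0 1 = 0 := by
  rw [cx_d]
  exact comp_eq_zero_of _ _ (ddLin_comp (charEval R M))

/-- the coaugmentation. -/
noncomputable def eta : (CochainComplex.single₀ (ModuleCat.{u} R)).obj M ⟶ cx M :=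
  (CochainComplex.fromSingle₀Equiv (cx M) M).symm ⟨ModuleCat.ofHom (charEval R M), eta_comp M⟩

lemma eta_f_zero : (eta M).f 0 = ModuleCat.ofHom (charEval R M) :=
  CochainComplex.fromSingle₀Equiv_symm_apply_f_zero (C := cx M) (X := M)
    (ModuleCat.ofHom (charEval R M)) (eta_comp M)

open MonoidalCategory in
lemma exactAt_succ (T : ModuleCat.{u} R) (n : ℕ) :
    (((tensorRight T).mapHomologicalComplex (ComplexShape.up ℕ)).obj (cx M)).ExactAt (n + 1) := by
  rw [HomologicalComplex.exactAt_iff' _ n (n + 1) (n + 2) (by simp)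
    (by simp only [CochainComplex.next]; rfl)]
  rw [ShortComplex.ShortExact.moduleCat_exact_iff_function_exact]
  show Function.Exact (((cx M).d n (n + 1)).hom.rTensor T) (((cx M).d (n + 1) (n + 2)).hom.rTensor T)
  rw [cx_d, cx_d]
  exact ddLin_exact (d M n).hom T

open MonoidalCategory in
lemma quasiIsoAt_succ (T : ModuleCat.{u} R) (n : ℕ) :
    QuasiIsoAt (((tensorRight T).mapHomologicalComplex (ComplexShape.up ℕ)).map (eta M)) (n + 1) := by
  rw [quasiIsoAt_iff_exactAt]
  · exact exactAt_succ M T n
  · apply ShortComplex.exact_of_isZero_X₂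
    exact Functor.map_isZero (tensorRight T) (isZero_single_obj_X _ _ _ _ (by simp))

open MonoidalCategory in
lemma quasiIsoAt_zero (T : ModuleCat.{u} R) :
    QuasiIsoAt (((tensorRight T).mapHomologicalComplex (ComplexShape.up ℕ)).map (eta M)) 0 := by
  rw [CochainComplex.quasiIsoAt₀_iff, ShortComplex.quasiIso_iff_of_zeros]
  · constructor
    · rw [ShortComplex.ShortExact.moduleCat_exact_iff_function_exact]
      show Function.Exact (((eta M).f 0).hom.rTensor T) (((cx M).d 0 1).hom.rTensor T)
      rw [cx_d, eta_f_zero]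
      exact ddLin_exact (charEval R M) T
    · rw [ModuleCat.mono_iff_injective]
      show Function.Injective (((eta M).f 0).hom.rTensor T)
      rw [eta_f_zero]
      exact Groth.Agent.S8772.result R M T
  · exact HomologicalComplex.shape
      (((tensorRight T).mapHomologicalComplex (ComplexShape.up ℕ)).obj
        ((CochainComplex.single₀ (ModuleCat.{u} R)).obj M)) 0 0 (by simp)
  · show (tensorRight T).map (((CochainComplex.single₀ (ModuleCat.{u} R)).obj M).d 0 1) = 0
    rw [HomologicalComplex.single_obj_d]
    exact (tensorRight T).map_zero _ _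
  · exact HomologicalComplex.shape
      (((tensorRight T).mapHomologicalComplex (ComplexShape.up ℕ)).obj (cx M)) 0 0 (by simp)

open MonoidalCategory in
theorem quasiIso (T : ModuleCat.{u} R) :
    QuasiIso (((tensorRight T).mapHomologicalComplex (ComplexShape.up ℕ)).map (eta M)) := by
  constructor
  intro n
  cases n with
  | zero => exact quasiIsoAt_zero M T
  | succ n => exact quasiIsoAt_succ M T n

theorem main : ∃ (I : CochainComplex (ModuleCat.{u} R) ℕ)
    (η : (CochainComplex.single₀ (ModuleCat.{u} R)).obj M ⟶ I),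
    (∀ n : ℕ, PInj R (I.X n)) ∧
    ∀ T : ModuleCat.{u} R,
      QuasiIso (((MonoidalCategory.tensorRight T).mapHomologicalComplex (ComplexShape.up ℕ)).map η) :=
  ⟨cx M, eta M, X_pinj M, quasiIso M⟩

end complex

end Groth.Agent.Lib.Helper26.PureInjRes
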