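import Mathlib
import Groth.Prelude.Def_CAlgX
import Groth.Agent.Lib.Helper18.PureFP
import Groth.Agent.S6302

/-!
# Pure projective modules

* `exists_pure_cover`: every module is a quotient of a direct sum of finitely presented modules
  by a universally injective (pure) submodule;
* `lift_of_finitePresentation`: finitely presented modules are pure projective;
* `lift_of_summand`: direct summands of direct sums of f.p. modules are pure projective.
-/

set_option autoImplicit false
universe u
open TensorProduct Groth.Agent.Lib.Helper12 Groth.Agent.Lib.Helper18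

namespace Groth.Agent.Lib.Helper26.PureProj

variable (R : Type u) [CommRing R]

/-- the standard finitely presented module attached to a matrix -/
def Qm (k K : ℕ) (c : Fin K → Fin k → R) : Type u :=
  (Fin k → R) ⧸ Submodule.span R (Set.range c)

instance (k K : ℕ) (c : Fin K → Fin k → R) : AddCommGroup (Qm R k K c) :=
  inferInstanceAs (AddCommGroup ((Fin k → R) ⧸ Submodule.span R (Set.range c)))

instance (k K : ℕ) (c : Fin K → Fin k → R) : Module R (Qm R k K c) :=
  inferInstanceAs (Module R ((Fin k → R) ⧸ Submodule.span R (Set.range c)))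

/-- the quotient map -/
def Qm.mk (k K : ℕ) (c : Fin K → Fin k → R) : (Fin k → R) →ₗ[R] Qm R k K c :=
  Submodule.mkQ (Submodule.span R (Set.range c))

theorem Qm.mk_surjective (k K : ℕ) (c : Fin K → Fin k → R) : Function.Surjective (Qm.mk R k K c) :=
  Submodule.mkQ_surjective _

theorem Qm.ker_mk (k K : ℕ) (c : Fin K → Fin k → R) :
    LinearMap.ker (Qm.mk R k K c) = Submodule.span R (Set.range c) :=
  Submodule.ker_mkQ _

instance (k K : ℕ) (c : Fin K → Fin k → R) : Module.FinitePresentation R (Qm R k K c) :=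
  Module.finitePresentation_of_free_of_surjective (Qm.mk R k K c) (Qm.mk_surjective R k K c)
    (by rw [Qm.ker_mk]; exact Submodule.fg_span (Set.finite_range c))

variable {R} in
/-- descend a map killing the rows -/
def Qm.lift {k K : ℕ} {c : Fin K → Fin k → R} {M : Type u} [AddCommGroup M] [Module R M]
    (φ₀ : (Fin k → R) →ₗ[R] M) (h : ∀ i, φ₀ (c i) = 0) : Qm R k K c →ₗ[R] M :=
  Submodule.liftQ _ φ₀ (by
    rw [Submodule.span_le]
    rintro _ ⟨i, rfl⟩
    exact h i)

variable {R} in
theorem Qm.lift_mk {k K : ℕ} {c : Fin K → Fin k → R} {M : Type u} [AddCommGroup M] [Module R M]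
    (φ₀ : (Fin k → R) →ₗ[R] M) (h : ∀ i, φ₀ (c i) = 0) (v : Fin k → R) :
    Qm.lift φ₀ h (Qm.mk R k K c v) = φ₀ v := rfl

theorem Qm.mk_row (k K : ℕ) (c : Fin K → Fin k → R) (i : Fin K) : Qm.mk R k K c (c i) = 0 := by
  have : c i ∈ LinearMap.ker (Qm.mk R k K c) := by
    rw [Qm.ker_mk]; exact Submodule.subset_span ⟨i, rfl⟩
  exact this

variable (M : Type u) [AddCommGroup M] [Module R M]

/-- index type: all maps from standard f.p. modules to `M` -/
structure Idx : Type u where
  k : ℕ
  K : ℕ
  c : Fin K → Fin k → R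
  φ : Qm R k K c →ₗ[R] M

abbrev QI (i : Idx R M) : Type u := Qm R i.k i.K i.c

/-- the structure map of an index -/
abbrev Idx.map (i : Idx R M) : QI R M i →ₗ[R] M := i.φ

open Classical in
noncomputable def gmap : (Π₀ i : Idx R M, QI R M i) →ₗ[R] M :=
  DFinsupp.lsum ℕ (fun i => Idx.map R M i)

open Classical in
theorem gmap_single (i : Idx R M) (x : QI R M i) :
    gmap R M (DFinsupp.single i x) = Idx.map R M i x := by
  unfold gmap
  simp

open Classical in
theorem gmap_surjective : Function.Surjective (gmap R M) := by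
  intro m
  let φ : Qm R 1 0 (fun i => Fin.elim0 i) →ₗ[R] M :=
    Qm.lift ((LinearMap.proj 0 : (Fin 1 → R) →ₗ[R] R).smulRight m) (fun i => Fin.elim0 i)
  let i₀ : Idx R M := ⟨1, 0, _, φ⟩
  refine ⟨DFinsupp.single i₀ (Qm.mk R 1 0 _ (fun _ => 1)), ?_⟩
  rw [gmap_single]
  change φ (Qm.mk R 1 0 _ (fun _ => 1)) = m
  rw [Qm.lift_mk]
  simp

open Classical in
theorem matrixPure_ker : MatrixPure (R := R) (A := LinearMap.ker (gmap R M)) (B := Π₀ i : Idx R M, QI R M i)
    (LinearMap.ker (gmap R M)).subtype := by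
  intro K k c a y hy
  -- the map R^k → M
  let φ₀ : (Fin k → R) →ₗ[R] M := ∑ j, (LinearMap.proj j : (Fin k → R) →ₗ[R] R).smulRight (gmap R M (y j))
  have hφ₀ : ∀ v, φ₀ v = ∑ j, v j • gmap R M (y j) := by
    intro v
    simp [φ₀, LinearMap.sum_apply]
  have hker : ∀ i, φ₀ (c i) = 0 := by
    intro i
    rw [hφ₀]
    have := congrArg (gmap R M) (hy i)
    rw [map_sum] at this
    simp only [map_smul] at this
    rw [← this]
    exact (a i).2
  let φ : Qm R k K c →ₗ[R] M := Qm.lift φ₀ hker
  let i₀ : Idx R M := ⟨k, K, c, φ⟩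
  let y' : Fin k → (Π₀ i : Idx R M, QI R M i) := fun j =>
    DFinsupp.single i₀ (Qm.mk R k K c (Pi.single j 1))
  have hy' : ∀ j, gmap R M (y' j) = gmap R M (y j) := by
    intro j
    rw [gmap_single]
    change φ (Qm.mk R k K c (Pi.single j 1)) = _
    rw [Qm.lift_mk, hφ₀]
    simp [Pi.single_apply]
  have hsum : ∀ i, ∑ j, c i j • y' j = 0 := by
    intro i
    have h1 : ∑ j, c i j • y' j =
        (DFinsupp.lsingle i₀ : QI R M i₀ →ₗ[R] _) (Qm.mk R k K c (c i)) := by
      have hc : c i = ∑ j, c i j • (Pi.single j 1 : Fin k → R) := by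
        ext l
        simp [Finset.sum_apply, Pi.single_apply]
      conv_rhs => rw [hc]
      rw [map_sum, map_sum]
      simp only [map_smul]
      rfl
    rw [h1, Qm.mk_row, map_zero]
  refine ⟨fun j => ⟨y j - y' j, by rw [LinearMap.mem_ker, map_sub, hy', sub_self]⟩, fun i => ?_⟩
  apply Subtype.ext
  rw [Submodule.coe_sum]
  simp only [Submodule.coe_smul]
  simp_rw [smul_sub]
  rw [Finset.sum_sub_distrib, hsum, sub_zero]
  exact hy i


theorem universallyInjective_ker_gmap :
    CAlgX.UniversallyInjective R (LinearMap.ker (gmap R M)).subtype := by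
  intro Q _ _
  exact rTensor_injective_of_matrixPure (matrixPure_ker R M) Q

section lifting

variable {R : Type u} [CommRing R]

/-- if a composite is universally injective so is the first map -/
theorem universallyInjective_of_comp {A B C : Type u} [AddCommGroup A] [Module R A]
    [AddCommGroup B] [Module R B] [AddCommGroup C] [Module R C] (f : A →ₗ[R] B) (p : B →ₗ[R] C)
    (h : CAlgX.UniversallyInjective R (p ∘ₗ f)) : CAlgX.UniversallyInjective R f := by
  intro Q _ _
  have := h Q
  rw [LinearMap.rTensor_comp] at this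
  exact Function.Injective.of_comp this

/-- finitely presented modules are pure projective -/
theorem lift_of_finitePresentation {Q L N : Type u} [AddCommGroup Q] [Module R Q]
    [Module.FinitePresentation R Q] [AddCommGroup L] [Module R L] [AddCommGroup N] [Module R N]
    (g : L →ₗ[R] N) (hg : Function.Surjective g)
    (hker : CAlgX.UniversallyInjective R (LinearMap.ker g).subtype) (φ : Q →ₗ[R] N) :
    ∃ ψ : Q →ₗ[R] L, g ∘ₗ ψ = φ := by
  -- the pullback
  let L' : Submodule R (L × Q) := LinearMap.ker (g.coprod (-φ))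
  have hL' : ∀ x : L × Q, x ∈ L' ↔ g x.1 = φ x.2 := by
    intro x
    simp only [L', LinearMap.mem_ker, LinearMap.coprod_apply, LinearMap.neg_apply]
    rw [← sub_eq_add_neg, sub_eq_zero]
  let p₁ : L' →ₗ[R] L := (LinearMap.fst R L Q) ∘ₗ L'.subtype
  let p₂ : L' →ₗ[R] Q := (LinearMap.snd R L Q) ∘ₗ L'.subtype
  let f' : LinearMap.ker g →ₗ[R] L' :=
    LinearMap.codRestrict L' ((LinearMap.inl R L Q) ∘ₗ (LinearMap.ker g).subtype) (by
      intro x
      rw [hL']
      simp)
  have hp₂ : Function.Surjective p₂ := by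
    intro q
    obtain ⟨l, hl⟩ := hg (φ q)
    exact ⟨⟨(l, q), (hL' _).2 hl⟩, rfl⟩
  have hex : Function.Exact f' p₂ := by
    intro x
    constructor
    · intro hx
      have hx2 : (x : L × Q).2 = 0 := hx
      have hx1 : g (x : L × Q).1 = 0 := by
        rw [(hL' _).1 x.2, hx2, map_zero]
      refine ⟨⟨(x : L × Q).1, hx1⟩, ?_⟩
      apply Subtype.ext
      apply Prod.ext
      · rfl
      · exact hx2.symm
    · rintro ⟨y, rfl⟩
      rfl
  have hf' : CAlgX.UniversallyInjective R f' := by
    apply universallyInjective_of_comp f' p₁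
    have : p₁ ∘ₗ f' = (LinearMap.ker g).subtype := by
      ext x
      rfl
    rw [this]
    exact hker
  obtain ⟨σ, hσ⟩ := Groth.Agent.S6302.result f' p₂ hex hp₂ hf'
  refine ⟨p₁ ∘ₗ σ, ?_⟩
  ext q
  have h1 : g (p₁ (σ q)) = φ (p₂ (σ q)) := (hL' _).1 (σ q).2
  have h2 : p₂ (σ q) = q := LinearMap.congr_fun hσ q
  rw [LinearMap.comp_apply, LinearMap.comp_apply, h1, h2]

open Classical in
/-- direct summands of direct sums of finitely presented modules are pure projective -/
theorem lift_of_summand {P L N : Type u} [AddCommGroup P] [Module R P]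
    [AddCommGroup L] [Module R L] [AddCommGroup N] [Module R N]
    {ι : Type u} (Q : ι → Type u) [∀ i, AddCommGroup (Q i)] [∀ i, Module R (Q i)]
    (hfp : ∀ i, Module.FinitePresentation R (Q i))
    (s : P →ₗ[R] (Π₀ i, Q i)) (r : (Π₀ i, Q i) →ₗ[R] P) (hrs : r ∘ₗ s = LinearMap.id)
    (g : L →ₗ[R] N) (hg : Function.Surjective g)
    (hker : CAlgX.UniversallyInjective R (LinearMap.ker g).subtype) (φ : P →ₗ[R] N) :
    ∃ ψ : P →ₗ[R] L, g ∘ₗ ψ = φ := by
  have hi : ∀ i, ∃ ψ : Q i →ₗ[R] L, g ∘ₗ ψ = φ ∘ₗ r ∘ₗ DFinsupp.lsingle i := fun i =>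
    haveI := hfp i
    lift_of_finitePresentation g hg hker _
  choose ψi hψi using hi
  refine ⟨DFinsupp.lsum ℕ ψi ∘ₗ s, ?_⟩
  have h1 : g ∘ₗ DFinsupp.lsum ℕ ψi = φ ∘ₗ r := by
    apply DFinsupp.lhom_ext
    intro i x
    rw [LinearMap.comp_apply, DFinsupp.lsum_single]
    exact LinearMap.congr_fun (hψi i) x
  rw [← LinearMap.comp_assoc, h1, LinearMap.comp_assoc, hrs, LinearMap.comp_id]

end lifting

end Groth.Agent.Lib.Helper26.PureProj
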