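import Mathlib
import Groth.Prelude.Def_CAlgX
import Groth.Agent.Lib.Helper26.PureProj

set_option autoImplicit false
universe u
open CategoryTheory Limits HomologicalComplex ChainComplex TensorProduct

namespace Groth.Agent.Lib.Helper26.PureProjRes

open Groth.Agent.Lib.Helper26.PureProj

section modules

variable {R : Type u} [CommRing R]

variable {X K Y X' : Type u} [AddCommGroup X] [Module R X] [AddCommGroup K] [Module R K]
  [AddCommGroup Y] [Module R Y] [AddCommGroup X'] [Module R X']

/-- the basic exactness statement for splicing pure short exact sequences -/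
lemma exact_rTensor (g : X →ₗ[R] K) (hg : Function.Surjective g)
    (g' : X' →ₗ[R] LinearMap.ker g) (hg' : Function.Surjective g')
    (ι : K →ₗ[R] Y) (Q : Type u) [AddCommGroup Q] [Module R Q]
    (hι : Function.Injective (ι.rTensor Q)) :
    Function.Exact (((LinearMap.ker g).subtype ∘ₗ g').rTensor Q) ((ι ∘ₗ g).rTensor Q) := by
  have h1 : Function.Exact ((LinearMap.ker g).subtype.rTensor Q) (g.rTensor Q) := by
    apply rTensor_exact Q
    · rw [LinearMap.exact_iff, Submodule.range_subtype]
    · exact hg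
  have h2 : Function.Surjective (g'.rTensor Q) := LinearMap.rTensor_surjective Q hg'
  intro y
  rw [LinearMap.rTensor_comp, LinearMap.rTensor_comp, LinearMap.comp_apply]
  constructor
  · intro h
    have h3 : g.rTensor Q y = 0 := by
      apply hι
      rw [h, map_zero]
    obtain ⟨z, hz⟩ := (h1 y).1 h3
    obtain ⟨w, hw⟩ := h2 z
    exact ⟨w, by rw [LinearMap.comp_apply, hw, hz]⟩
  · rintro ⟨w, rfl⟩
    rw [LinearMap.comp_apply]
    have : g.rTensor Q ((LinearMap.ker g).subtype.rTensor Q (g'.rTensor Q w)) = 0 :=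
      (h1 _).2 ⟨_, rfl⟩
    rw [this, map_zero]

end modules

section complex

variable {R : Type u} [CommRing R] (M : ModuleCat.{u} R)

/-- the syzygies. -/
noncomputable def K : ℕ → ModuleCat.{u} R
  | 0 => M
  | n + 1 => ModuleCat.of R (LinearMap.ker (gmap R (K n)))

/-- the objects. -/
noncomputable def X (n : ℕ) : ModuleCat.{u} R :=
  ModuleCat.of R (Π₀ i : Idx R (K M n), QI R (K M n) i)

/-- the covering maps -/
noncomputable def g (n : ℕ) : X M n →ₗ[R] K M n := gmap R (K M n)

lemma g_surjective (n : ℕ) : Function.Surjective (g M n) := gmap_surjective R (K M n)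

/-- the inclusions of syzygies -/
noncomputable def inc (n : ℕ) : K M (n + 1) →ₗ[R] X M n := (LinearMap.ker (gmap R (K M n))).subtype

lemma inc_univ (n : ℕ) (Q : Type u) [AddCommGroup Q] [Module R Q] :
    Function.Injective ((inc M n).rTensor Q) :=
  universallyInjective_ker_gmap R (K M n) Q

/-- the differentials. -/
noncomputable def d (n : ℕ) : X M (n + 1) ⟶ X M n :=
  ModuleCat.ofHom (inc M n ∘ₗ g M (n + 1))

omit M in
lemma comp_eq_zero_of {A B C : ModuleCat.{u} R} (f : A ⟶ B) (g : B ⟶ C)
    (h : g.hom ∘ₗ f.hom = 0) : f ≫ g = 0 := by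
  apply ModuleCat.hom_ext
  rw [ModuleCat.hom_comp]
  exact h

lemma g_inc (n : ℕ) : g M n ∘ₗ inc M n = 0 := by
  apply LinearMap.ext
  intro x
  exact x.2

lemma sq (n : ℕ) : d M (n + 1) ≫ d M n = 0 := by
  apply comp_eq_zero_of
  show (inc M n ∘ₗ g M (n + 1)) ∘ₗ (inc M (n + 1) ∘ₗ g M (n + 2)) = 0
  rw [LinearMap.comp_assoc, ← LinearMap.comp_assoc _ _ (g M (n + 1)), g_inc, LinearMap.zero_comp,
    LinearMap.comp_zero]

/-- the resolution. -/
noncomputable def cx : ChainComplex (ModuleCat.{u} R) ℕ :=
  ChainComplex.of (X M) (d M) (sq M)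

lemma cx_d (n : ℕ) : (cx M).d (n + 1) n = d M n := ChainComplex.of_d _ _ _

lemma pi_comp : (cx M).d 1 0 ≫ ModuleCat.ofHom (g M 0) = 0 := by
  rw [cx_d]
  apply comp_eq_zero_of
  show g M 0 ∘ₗ (inc M 0 ∘ₗ g M 1) = 0
  rw [← LinearMap.comp_assoc, g_inc, LinearMap.zero_comp]

/-- the augmentation. -/
noncomputable def pi : cx M ⟶ (ChainComplex.single₀ (ModuleCat.{u} R)).obj M :=
  (ChainComplex.toSingle₀Equiv (cx M) M).symm ⟨ModuleCat.ofHom (g M 0), pi_comp M⟩

lemma pi_f_zero : (pi M).f 0 = ModuleCat.ofHom (g M 0) :=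
  ChainComplex.toSingle₀Equiv_symm_apply_f_zero (C := cx M) (X := M)
    (ModuleCat.ofHom (g M 0)) (pi_comp M)

lemma exact_succ (Q : Type u) [AddCommGroup Q] [Module R Q] (n : ℕ) :
    Function.Exact ((d M (n + 1)).hom.rTensor Q) ((d M n).hom.rTensor Q) :=
  exact_rTensor (g M (n + 1)) (g_surjective M (n + 1)) (g M (n + 2)) (g_surjective M (n + 2))
    (inc M n) Q (inc_univ M n Q)

lemma exact_zero (Q : Type u) [AddCommGroup Q] [Module R Q] :
    Function.Exact ((d M 0).hom.rTensor Q) ((g M 0).rTensor Q) := by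
  have := exact_rTensor (g M 0) (g_surjective M 0) (g M 1) (g_surjective M 1)
    LinearMap.id Q (by rw [LinearMap.rTensor_id]; exact Function.injective_id)
  rwa [LinearMap.id_comp] at this

open MonoidalCategory in
lemma exactAt_succ (T : ModuleCat.{u} R) (n : ℕ) :
    (((tensorRight T).mapHomologicalComplex (ComplexShape.down ℕ)).obj (cx M)).ExactAt (n + 1) := by
  rw [HomologicalComplex.exactAt_iff' _ (n + 2) (n + 1) n (by simp only [ChainComplex.prev]; rfl)
    (by simp)]
  rw [ShortComplex.ShortExact.moduleCat_exact_iff_function_exact]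
  show Function.Exact (((cx M).d (n + 2) (n + 1)).hom.rTensor T) (((cx M).d (n + 1) n).hom.rTensor T)
  rw [cx_d, cx_d]
  exact exact_succ M T n

open MonoidalCategory in
lemma quasiIsoAt_succ (T : ModuleCat.{u} R) (n : ℕ) :
    QuasiIsoAt (((tensorRight T).mapHomologicalComplex (ComplexShape.down ℕ)).map (pi M)) (n + 1) := by
  rw [quasiIsoAt_iff_exactAt']
  · exact exactAt_succ M T n
  · apply ShortComplex.exact_of_isZero_X₂
    exact Functor.map_isZero (tensorRight T) (isZero_single_obj_X _ _ _ _ (by simp))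

open MonoidalCategory in
lemma quasiIsoAt_zero (T : ModuleCat.{u} R) :
    QuasiIsoAt (((tensorRight T).mapHomologicalComplex (ComplexShape.down ℕ)).map (pi M)) 0 := by
  rw [ChainComplex.quasiIsoAt₀_iff, ShortComplex.quasiIso_iff_of_zeros']
  · constructor
    · rw [ShortComplex.ShortExact.moduleCat_exact_iff_function_exact]
      show Function.Exact (((cx M).d 1 0).hom.rTensor T) (((pi M).f 0).hom.rTensor T)
      rw [cx_d, pi_f_zero]
      exact exact_zero M T
    · rw [ModuleCat.epi_iff_surjective]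
      show Function.Surjective (((pi M).f 0).hom.rTensor T)
      rw [pi_f_zero]
      exact LinearMap.rTensor_surjective T (g_surjective M 0)
  · exact HomologicalComplex.shape
      (((tensorRight T).mapHomologicalComplex (ComplexShape.down ℕ)).obj (cx M)) 0 0 (by simp)
  · show (tensorRight T).map (((ChainComplex.single₀ (ModuleCat.{u} R)).obj M).d 1 0) = 0
    rw [HomologicalComplex.single_obj_d]
    exact (tensorRight T).map_zero _ _
  · exact HomologicalComplex.shape
      (((tensorRight T).mapHomologicalComplex (ComplexShape.down ℕ)).obj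
        ((ChainComplex.single₀ (ModuleCat.{u} R)).obj M)) 0 0 (by simp)

open MonoidalCategory in
theorem quasiIso (T : ModuleCat.{u} R) :
    QuasiIso (((tensorRight T).mapHomologicalComplex (ComplexShape.down ℕ)).map (pi M)) := by
  constructor
  intro n
  cases n with
  | zero => exact quasiIsoAt_zero M T
  | succ n => exact quasiIsoAt_succ M T n

theorem main : ∃ (P : ChainComplex (ModuleCat.{u} R) ℕ)
    (π : P ⟶ (ChainComplex.single₀ (ModuleCat.{u} R)).obj M),
    (∀ n : ℕ, ∃ (ι : Type u) (Q : ι → Type u) (_ : ∀ i, AddCommGroup (Q i))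
      (_ : ∀ i, Module R (Q i)),
      (∀ i, Module.FinitePresentation R (Q i)) ∧
      ∃ (s : P.X n →ₗ[R] (Π₀ i, Q i)) (r : (Π₀ i, Q i) →ₗ[R] P.X n), r ∘ₗ s = LinearMap.id) ∧
    ∀ N : ModuleCat.{u} R,
      QuasiIso (((MonoidalCategory.tensorRight N).mapHomologicalComplex
        (ComplexShape.down ℕ)).map π) := by
  refine ⟨cx M, pi M, ?_, quasiIso M⟩
  intro n
  refine ⟨Idx R (K M n), fun i => QI R (K M n) i, inferInstance, inferInstance,
    fun i => inferInstance, LinearMap.id, LinearMap.id, ?_⟩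
  rfl

end complex

end Groth.Agent.Lib.Helper26.PureProjRes
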