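import Mathlib

set_option autoImplicit false
set_option linter.unusedVariables false
set_option linter.unusedSectionVars false
set_option linter.style.haveILetI false
universe u v w
open scoped Pointwise
open Polynomial IsLocalRing

namespace Groth.Agent.Lib.Helper26.Q402

namespace Lag

variable {R : Type u} {S : Type v} {G : Type w} [CommRing R] [CommRing S] [Algebra R S]
  [Group G] [Fintype G] [DecidableEq G] [MulSemiringAction G S] [Algebra.IsInvariant R S G]

/-- the basic term -/
noncomputable def term (θ s : S) : S[X] :=
  C s * ∏ h ∈ (Finset.univ : Finset G).erase 1, (X - C (h • θ))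

/-- the sum of translates -/
noncomputable def lag (θ s : S) : S[X] := ∑ g : G, g • term (G := G) θ s

omit [DecidableEq G] in
theorem invariant_mem_lifts (p : S[X]) (hp : ∀ g : G, g • p = p) :
    p ∈ Polynomial.lifts (algebraMap R S) := by
  rw [Polynomial.lifts_iff_coeff_lifts]
  intro n
  refine Algebra.IsInvariant.isInvariant (A := R) (G := G) _ (fun g => ?_)
  rw [← coeff_smul, hp]

omit [Algebra.IsInvariant R S G] [Algebra R S] in
theorem smul_lag (θ s : S) (k : G) : k • lag (G := G) θ s = lag (G := G) θ s := by
  unfold lag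
  rw [Finset.smul_sum]
  simp_rw [← mul_smul]
  exact Fintype.sum_equiv (Equiv.mulLeft k) _ _ (fun g => rfl)

omit [Algebra.IsInvariant R S G] [Algebra R S] in
theorem smul_term (θ s : S) (g : G) :
    g • term (G := G) θ s =
      C (g • s) * ∏ h ∈ (Finset.univ : Finset G).erase 1, (X - C ((g * h) • θ)) := by
  unfold term
  rw [smul_mul', smul_C, Finset.smul_prod']
  congr 1
  refine Finset.prod_congr rfl (fun h _ => ?_)
  rw [smul_sub, smul_X, smul_C, mul_smul]

omit [Algebra.IsInvariant R S G] [Algebra R S] in
theorem eval_smul_term_of_ne (θ s : S) (g : G) (hg : g ≠ 1) :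
    (g • term (G := G) θ s).eval θ = 0 := by
  rw [smul_term, eval_mul, eval_prod]
  have hmem : g⁻¹ ∈ (Finset.univ : Finset G).erase 1 := by
    rw [Finset.mem_erase]
    exact ⟨by simpa using hg, Finset.mem_univ _⟩
  rw [Finset.prod_eq_zero hmem, mul_zero]
  rw [mul_inv_cancel, one_smul, eval_sub, eval_X, eval_C, sub_self]

omit [Algebra.IsInvariant R S G] [Algebra R S] in
theorem eval_lag (θ s : S) :
    (lag (G := G) θ s).eval θ = s * ∏ h ∈ (Finset.univ : Finset G).erase 1, (θ - h • θ) := by
  unfold lag
  rw [eval_finsetSum, Finset.sum_eq_single (1 : G)]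
  · rw [one_smul]
    unfold term
    rw [eval_mul, eval_C, eval_prod]
    congr 1
    refine Finset.prod_congr rfl (fun h _ => ?_)
    rw [eval_sub, eval_X, eval_C]
  · intro g _ hg
    exact eval_smul_term_of_ne θ s g hg
  · intro h; exact absurd (Finset.mem_univ _) h

theorem exists_poly (θ s : S) :
    ∃ Q : R[X], aeval θ Q = s * ∏ h ∈ (Finset.univ : Finset G).erase 1, (θ - h • θ) := by
  obtain ⟨Q, hQ⟩ := (Polynomial.mem_lifts _).mp
    (invariant_mem_lifts (R := R) (G := G) (lag (G := G) θ s) (smul_lag θ s))
  refine ⟨Q, ?_⟩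
  rw [← eval_map_algebraMap, hQ, eval_lag]

omit [Algebra.IsInvariant R S G] [Algebra R S] in
theorem eval_derivative_charpoly (θ : S) :
    (derivative (MulSemiringAction.charpoly G θ)).eval θ =
      ∏ h ∈ (Finset.univ : Finset G).erase 1, (θ - h • θ) := by
  rw [MulSemiringAction.charpoly_eq, ← Finset.mul_prod_erase _ _ (Finset.mem_univ (1 : G)),
    derivative_mul, eval_add, eval_mul, eval_mul, one_smul, derivative_sub, derivative_X,
    derivative_C, sub_zero, eval_one, one_mul, eval_sub, eval_X, eval_C, sub_self, zero_mul,
    add_zero, eval_prod]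
  refine Finset.prod_congr rfl (fun h _ => ?_)
  rw [eval_sub, eval_X, eval_C]

end Lag

section Theta

variable (k : Type u) [Field k] [Infinite k]
    (R : Type v) [CommRing R] [Algebra k R]
    (G : Type w) [Group G] [Finite G] [MulSemiringAction G R] [SMulCommClass G k R]
    (m : Ideal R) [m.IsMaximal]

include k in
theorem exists_theta (hstab : MulAction.stabilizer G m = ⊥) :
    ∃ θ : R, ∀ g h : G, g ≠ h → g • θ - h • θ ∉ m := by
  classical
  cases nonempty_fintype G
  -- distinct constants
  let c : G → k := fun g => Infinite.natEmbedding k (Fintype.equivFin G g).val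
  have hc : Function.Injective c := by
    intro g h hgh
    have h1 := (Infinite.natEmbedding k).injective hgh
    exact (Fintype.equivFin G).injective (Fin.ext h1)
  let I : G → Ideal R := fun g => Ideal.comap (MulSemiringAction.toRingHom G R g) m
  have hImem : ∀ g x, x ∈ I g ↔ g • x ∈ m := fun g x => Iff.rfl
  haveI hImax : ∀ g, (I g).IsMaximal := fun g =>
    Ideal.comap_isMaximal_of_surjective _ (MulAction.surjective g)
  have hIne : ∀ g h, g ≠ h → I g ≠ I h := by
    intro g h hgh hI
    apply hgh
    have hmem : g * h⁻¹ ∈ MulAction.stabilizer G m := by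
      rw [MulAction.mem_stabilizer_iff]
      ext x
      rw [Ideal.mem_pointwise_smul_iff_inv_smul_mem, mul_inv_rev, inv_inv, mul_smul,
        ← hImem h, ← hI, hImem g, smul_inv_smul]
    rw [hstab, Subgroup.mem_bot, mul_inv_eq_one] at hmem
    exact hmem
  have hcop : Pairwise (Function.onFun IsCoprime I) := by
    intro g h hgh
    exact Ideal.isCoprime_of_isMaximal (hIne g h hgh)
  obtain ⟨θ, hθ⟩ := Ideal.exists_forall_sub_mem_ideal hcop (fun g => algebraMap k R (c g))
  refine ⟨θ, fun g h hgh hmem => ?_⟩
  have h1 : g • θ - algebraMap k R (c g) ∈ m := by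
    have := (hImem g _).mp (hθ g)
    rwa [smul_sub, smul_algebraMap] at this
  have h2 : h • θ - algebraMap k R (c h) ∈ m := by
    have := (hImem h _).mp (hθ h)
    rwa [smul_sub, smul_algebraMap] at this
  have h3 : algebraMap k R (c g - c h) ∈ m := by
    have : algebraMap k R (c g - c h) =
        (g • θ - h • θ) - (g • θ - algebraMap k R (c g)) + (h • θ - algebraMap k R (c h)) := by
      rw [map_sub]; ring
    rw [this]
    exact add_mem (sub_mem hmem h1) h2
  have hne : c g - c h ≠ 0 := sub_ne_zero.mpr (fun e => hgh (hc e))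
  have hunit : IsUnit (algebraMap k R (c g - c h)) := (IsUnit.mk0 _ hne).map _
  exact (Ideal.IsMaximal.ne_top inferInstance) (Ideal.eq_top_of_isUnit_mem _ h3 hunit)

end Theta

section Fwd

variable (k : Type u) [Field k] [IsAlgClosed k]
    (R : Type v) [CommRing R] [IsDomain R] [Algebra k R] [Algebra.FiniteType k R]
    (G : Type w) [Group G] [Finite G] [MulSemiringAction G R] [FaithfulSMul G R] [SMulCommClass G k R]
    (B : Type v) [CommRing B] [Algebra k B] [Algebra B R] [IsScalarTower k B R]
    [SMulCommClass G B R]
    (m : Ideal R) [m.IsMaximal]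

omit [IsDomain R] in
theorem exists_const (r : R) : ∃ c : k, r - algebraMap k R c ∈ m := by
  letI := Ideal.Quotient.field m
  haveI : Algebra.FiniteType k (R ⧸ m) :=
    Algebra.FiniteType.of_surjective (Ideal.Quotient.mkₐ k m) (Ideal.Quotient.mkₐ_surjective k m)
  haveI : Module.Finite k (R ⧸ m) := finite_of_finite_type_of_isJacobsonRing k (R ⧸ m)
  haveI : Algebra.IsIntegral k (R ⧸ m) := Algebra.IsIntegral.of_finite k (R ⧸ m)
  obtain ⟨c, hc⟩ := (IsAlgClosed.algebraMap_bijective_of_isIntegral (k := k) (K := R ⧸ m)).2
    (Ideal.Quotient.mk m r)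
  refine ⟨c, ?_⟩
  rw [← Ideal.Quotient.eq_zero_iff_mem, map_sub, sub_eq_zero, ← hc]
  rfl

include k in
omit [IsDomain R] [Finite G] [FaithfulSMul G R] in
theorem smul_sub_mem (g : G) (hg : g • m = m) (r : R) : g • r - r ∈ m := by
  obtain ⟨c, hc⟩ := exists_const k R m r
  have h1 : g • (r - algebraMap k R c) ∈ m := by
    have : g • (r - algebraMap k R c) ∈ g • m := Ideal.smul_mem_pointwise_smul _ _ _ hc
    rwa [hg] at this
  have h2 : g • r - r = g • (r - algebraMap k R c) - (r - algebraMap k R c) := by
    rw [smul_sub, smul_algebraMap]; ring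
  rw [h2]
  exact sub_mem h1 hc

include k in
theorem stab_bot_of_etale [Algebra.IsEtaleAt B m] : MulAction.stabilizer G m = ⊥ := by
  rw [eq_bot_iff]
  intro g hg
  rw [MulAction.mem_stabilizer_iff] at hg
  rw [Subgroup.mem_bot]
  have hcomap : m = Ideal.comap (MulSemiringAction.toRingHom G R g) m := by
    ext x
    rw [Ideal.mem_comap, MulSemiringAction.toRingHom_apply]
    constructor
    · intro hx
      have : g • x ∈ g • m := Ideal.smul_mem_pointwise_smul _ _ _ hx
      rwa [hg] at this
    · intro hx
      have h1 := smul_sub_mem k R G m g hg x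
      have : x = g • x - (g • x - x) := by ring
      rw [this]
      exact sub_mem hx h1
  let φ : Localization.AtPrime m →+* Localization.AtPrime m :=
    Localization.localRingHom m m (MulSemiringAction.toRingHom G R g) hcomap
  have hφ : ∀ r : R, φ (algebraMap R _ r) = algebraMap R _ (g • r) := fun r =>
    Localization.localRingHom_to_map m m _ hcomap r
  let ψ : Localization.AtPrime m →ₐ[B] Localization.AtPrime m :=
    { φ with
      commutes' := by
        intro b
        show φ (algebraMap B (Localization.AtPrime m) b) = algebraMap B (Localization.AtPrime m) b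
        rw [IsScalarTower.algebraMap_apply B R (Localization.AtPrime m), hφ, smul_algebraMap] }
  haveI : IsNoetherianRing R := Algebra.FiniteType.isNoetherianRing k R
  have hkrull : ⨅ i, (maximalIdeal (Localization.AtPrime m)) ^ i = ⊥ :=
    Ideal.iInf_pow_eq_bot_of_isLocalRing _ (Ideal.IsPrime.ne_top')
  haveI : Algebra.FormallyEtale B (Localization.AtPrime m) := ‹Algebra.IsEtaleAt B m›
  haveI : Algebra.FormallyUnramified B (Localization.AtPrime m) := inferInstance
  have key : AlgHom.id B (Localization.AtPrime m) = ψ := by
    refine Algebra.FormallyUnramified.ext_of_iInf _ hkrull (fun x => ?_)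
    rw [Ideal.Quotient.eq]
    obtain ⟨r, t, rfl⟩ := IsLocalization.exists_mk'_eq m.primeCompl x
    set x := IsLocalization.mk' (Localization.AtPrime m) r t with hx
    have hgt : g • (t : R) ∉ m := by
      intro h
      have h1 := smul_sub_mem k R G m g hg (t : R)
      have : (t : R) = g • (t : R) - (g • (t : R) - t) := by ring
      have h2 : (t : R) ∈ m := by rw [this]; exact sub_mem h h1
      exact t.2 h2
    have hu : IsUnit (algebraMap R (Localization.AtPrime m) (t : R)) :=
      IsLocalization.map_units _ t
    have hgu : IsUnit (algebraMap R (Localization.AtPrime m) (g • (t : R))) :=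
      IsLocalization.map_units _ (⟨g • (t : R), hgt⟩ : m.primeCompl)
    have h1 : x * algebraMap R (Localization.AtPrime m) (t : R) =
        algebraMap R (Localization.AtPrime m) r := IsLocalization.mk'_spec _ r t
    have h2 : φ x * algebraMap R (Localization.AtPrime m) (g • (t : R)) =
        algebraMap R (Localization.AtPrime m) (g • r) := by
      rw [← hφ, ← hφ, ← map_mul, h1]
    have h3 : (x - φ x) * (algebraMap R (Localization.AtPrime m) (t : R) *
        algebraMap R (Localization.AtPrime m) (g • (t : R))) =
        algebraMap R (Localization.AtPrime m) (r * (g • (t : R) - t) - (g • r - r) * t) := by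
      have e1 : (x - φ x) * (algebraMap R (Localization.AtPrime m) (t : R) *
        algebraMap R (Localization.AtPrime m) (g • (t : R))) =
          (x * algebraMap R (Localization.AtPrime m) (t : R)) *
            algebraMap R (Localization.AtPrime m) (g • (t : R)) -
          (φ x * algebraMap R (Localization.AtPrime m) (g • (t : R))) *
            algebraMap R (Localization.AtPrime m) (t : R) := by ring
      rw [e1, h1, h2, ← map_mul, ← map_mul, ← map_sub]
      congr 1; ring
    have h4 : r * (g • (t : R) - t) - (g • r - r) * t ∈ m :=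
      sub_mem (Ideal.mul_mem_left _ _ (smul_sub_mem k R G m g hg _))
        (Ideal.mul_mem_right _ _ (smul_sub_mem k R G m g hg _))
    have h5 : (x - φ x) * (algebraMap R (Localization.AtPrime m) (t : R) *
        algebraMap R (Localization.AtPrime m) (g • (t : R))) ∈
        maximalIdeal (Localization.AtPrime m) := by
      rw [h3]
      exact (IsLocalization.AtPrime.to_map_mem_maximal_iff _ m _).mpr h4
    exact (Ideal.mul_unit_mem_iff_mem _ (hu.mul hgu)).mp h5
  have hfix : ∀ r : R, g • r = r := by
    intro r
    have := congrArg (fun f => f (algebraMap R (Localization.AtPrime m) r)) key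
    simp only [AlgHom.id_apply] at this
    have h2 : ψ (algebraMap R (Localization.AtPrime m) r) =
        algebraMap R (Localization.AtPrime m) (g • r) := hφ r
    rw [h2] at this
    exact (IsLocalization.injective (Localization.AtPrime m)
      (Ideal.primeCompl_le_nonZeroDivisors m) this).symm
  exact FaithfulSMul.eq_of_smul_eq_smul (fun r => by rw [one_smul]; exact hfix r)

end Fwd

section Bwd

variable (B : Type v) [CommRing B] (R : Type v) [CommRing R] [IsDomain R] [Algebra B R]
    [FaithfulSMul B R]
    (G : Type w) [Group G] [Finite G] [MulSemiringAction G R]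
    [SMulCommClass G B R] [Algebra.IsInvariant B R G]
    (m : Ideal R) [m.IsMaximal]

theorem etale_of_theta (θ : R) (hθ : ∀ g h : G, g ≠ h → g • θ - h • θ ∉ m) :
    Algebra.FormallyEtale B (Localization.AtPrime m) := by
  classical
  cases nonempty_fintype G
  have hBinj : Function.Injective (algebraMap B R) := FaithfulSMul.algebraMap_injective B R
  haveI : Nontrivial B := (algebraMap B R).domain_nontrivial
  -- the polynomial
  obtain ⟨f, hf1, hf2, hf3⟩ := Polynomial.lifts_and_natDegree_eq_and_monic
    (Algebra.IsInvariant.charpoly_mem_lifts B R G θ) (MulSemiringAction.monic_charpoly G θ)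
  have hdeg : f.natDegree = Fintype.card G := by
    rw [hf2, MulSemiringAction.charpoly_eq, Polynomial.natDegree_finsetProd_X_sub_C_eq_card,
      Finset.card_univ]
  have hroot : aeval θ f = 0 := by
    rw [← eval_map_algebraMap, hf1, MulSemiringAction.eval_charpoly]
  set δ : R := ∏ h ∈ (Finset.univ : Finset G).erase 1, (θ - h • θ) with hδ
  have hder : aeval θ (derivative f) = δ := by
    rw [← eval_map_algebraMap, ← derivative_map, hf1, Lag.eval_derivative_charpoly]
  have hδm : δ ∉ m := by
    rw [hδ]
    intro hmem
    rw [Ideal.IsPrime.prod_mem_iff] at hmem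
    obtain ⟨h, hh, hmem⟩ := hmem
    rw [Finset.mem_erase] at hh
    have := hθ 1 h (Ne.symm hh.1)
    rw [one_smul] at this
    exact this hmem
  have hinjθ : Function.Injective (fun g : G => g • θ) := by
    intro g h hgh
    by_contra hne
    apply hθ g h hne
    simp only at hgh
    rw [hgh, sub_self]
    exact zero_mem _
  -- the kernel
  have hker : ∀ q : B[X], aeval θ q = 0 → f ∣ q := by
    intro q hq
    rw [← Polynomial.modByMonic_eq_zero_iff_dvd hf3]
    set r := q %ₘ f with hr
    have hne1 : f ≠ 1 := by
      intro h1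
      rw [h1, natDegree_one] at hdeg
      exact Fintype.card_ne_zero hdeg.symm
    have hrdeg : r.natDegree < Fintype.card G := by
      rw [← hdeg]; exact Polynomial.natDegree_modByMonic_lt q hf3 hne1
    have hrroot : aeval θ r = 0 := by
      have := Polynomial.modByMonic_add_div q f
      have h2 := congrArg (aeval θ) this
      rw [map_add, map_mul, hroot, zero_mul, add_zero, hq] at h2
      exact h2
    have hall : ∀ g : G, (r.map (algebraMap B R)).eval (g • θ) = 0 := by
      intro g
      rw [eval_map_algebraMap]
      have := aeval_algHom_apply (MulSemiringAction.toAlgHom B R g) θ r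
      rw [MulSemiringAction.toAlgHom_apply] at this
      rw [this, hrroot, map_zero]
    have hzero : r.map (algebraMap B R) = 0 :=
      Polynomial.eq_zero_of_natDegree_lt_card_of_eval_eq_zero _ hinjθ hall
        (lt_of_le_of_lt natDegree_map_le hrdeg)
    exact (Polynomial.map_injective _ hBinj) (by rw [hzero, Polynomial.map_zero])
  -- the map from AdjoinRoot
  let ι : AdjoinRoot f →ₐ[B] R := AdjoinRoot.liftAlgHom f (Algebra.ofId B R) θ hroot
  have hι : ∀ q : B[X], ι (AdjoinRoot.mk f q) = aeval θ q := fun q =>
    AdjoinRoot.liftAlgHom_mk f (Algebra.ofId B R) θ hroot q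
  have hιinj : Function.Injective ι := by
    rw [injective_iff_map_eq_zero]
    intro x hx
    obtain ⟨q, rfl⟩ := AdjoinRoot.mk_surjective x
    rw [hι] at hx
    exact AdjoinRoot.mk_eq_zero.mpr (hker q hx)
  have hRinj : Function.Injective (algebraMap R (Localization.AtPrime m)) :=
    IsLocalization.injective (Localization.AtPrime m) (Ideal.primeCompl_le_nonZeroDivisors m)
  -- the standard etale algebra
  let P : StandardEtalePair B := ⟨f, hf3, derivative f, ⟨1, 0, 1, by ring⟩⟩
  set x₀ : AdjoinRoot f := AdjoinRoot.mk f (derivative f) with hx₀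
  haveI : Algebra.FormallyEtale B (Localization.Away x₀) :=
    Algebra.FormallyEtale.of_equiv P.equivAwayAdjoinRoot
  let ψ₀ : AdjoinRoot f →ₐ[B] Localization.AtPrime m :=
    (IsScalarTower.toAlgHom B R (Localization.AtPrime m)).comp ι
  have hψ₀ : ∀ q : B[X], ψ₀ (AdjoinRoot.mk f q) =
      algebraMap R (Localization.AtPrime m) (aeval θ q) := by
    intro q
    show algebraMap R (Localization.AtPrime m) (ι (AdjoinRoot.mk f q)) = _
    rw [hι]
  have hψ₀inj : Function.Injective ψ₀ := hRinj.comp hιinj
  have hunit : IsUnit (ψ₀ x₀) := by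
    rw [hx₀, hψ₀, hder]
    exact IsLocalization.map_units _ (⟨δ, hδm⟩ : m.primeCompl)
  let ψ : Localization.Away x₀ →ₐ[B] Localization.AtPrime m :=
    IsLocalization.Away.liftAlgHom x₀ (f := ψ₀) hunit
  have hψ : ∀ a : AdjoinRoot f, ψ (algebraMap (AdjoinRoot f) (Localization.Away x₀) a) = ψ₀ a := by
    intro a
    exact IsLocalization.Away.lift_eq x₀ hunit a
  have hψinj : Function.Injective ψ := by
    rw [injective_iff_map_eq_zero]
    intro x hx
    obtain ⟨b, s, rfl⟩ := IsLocalization.exists_mk'_eq (Submonoid.powers x₀) x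
    have h1 := IsLocalization.mk'_spec (Localization.Away x₀) b s
    have h2 := congrArg ψ h1
    rw [map_mul, hx, zero_mul, hψ] at h2
    have hb : b = 0 := hψ₀inj (by rw [← h2, map_zero])
    rw [hb, IsLocalization.mk'_zero]
  letI : Algebra (Localization.Away x₀) (Localization.AtPrime m) := ψ.toRingHom.toAlgebra
  haveI : IsScalarTower B (Localization.Away x₀) (Localization.AtPrime m) :=
    IsScalarTower.of_algebraMap_eq (fun b => (ψ.commutes b).symm)
  have halg : ∀ y : Localization.Away x₀,
      algebraMap (Localization.Away x₀) (Localization.AtPrime m) y = ψ y := fun y => rfl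
  -- the localization property
  let M' : Submonoid (Localization.Away x₀) :=
    Submonoid.comap ψ.toRingHom (IsUnit.submonoid (Localization.AtPrime m))
  haveI : IsLocalization M' (Localization.AtPrime m) := by
    rw [isLocalization_iff]
    refine ⟨?_, ?_, ?_⟩
    · intro y
      exact y.2
    · intro z
      obtain ⟨r, t, rfl⟩ := IsLocalization.exists_mk'_eq m.primeCompl z
      obtain ⟨Qr, hQr⟩ := Lag.exists_poly (R := B) (G := G) θ r
      obtain ⟨Qt, hQt⟩ := Lag.exists_poly (R := B) (G := G) θ (t : R)
      rw [← hδ] at hQr hQt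
      have hs : algebraMap (AdjoinRoot f) (Localization.Away x₀) (AdjoinRoot.mk f Qt) ∈ M' := by
        show IsUnit (ψ _)
        rw [hψ, hψ₀, hQt]
        have : (t : R) * δ ∈ m.primeCompl := mul_mem t.2 hδm
        exact IsLocalization.map_units _ (⟨(t : R) * δ, this⟩ : m.primeCompl)
      refine ⟨(algebraMap (AdjoinRoot f) (Localization.Away x₀) (AdjoinRoot.mk f Qr),
        ⟨_, hs⟩), ?_⟩
      simp only [halg]
      rw [hψ, hψ, hψ₀, hψ₀, hQr, hQt, map_mul, map_mul, ← mul_assoc,
        IsLocalization.mk'_spec]
    · intro x y hxy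
      rw [halg, halg] at hxy
      exact ⟨1, by rw [hψinj hxy]⟩
  haveI : Algebra.FormallyEtale (Localization.Away x₀) (Localization.AtPrime m) :=
    Algebra.FormallyEtale.of_isLocalization M'
  exact Algebra.FormallyEtale.comp B (Localization.Away x₀) (Localization.AtPrime m)

end Bwd

section Main

theorem main_19402 (k : Type u) [Field k] [IsAlgClosed k] [CharZero k]
    (R : Type v) [CommRing R] [IsDomain R] [IsIntegrallyClosed R] [Algebra k R]
    [Algebra.FiniteType k R]
    (G : Type w) [Group G] [Finite G] [MulSemiringAction G R] [FaithfulSMul G R]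
    [SMulCommClass G k R]
    (B : Type v) [CommRing B] [Algebra k B] [Algebra B R] [IsScalarTower k B R] [FaithfulSMul B R]
    [SMulCommClass G B R] [Algebra.IsInvariant B R G]
    (m : Ideal R) [m.IsMaximal] :
    Algebra.IsEtaleAt B m ↔ MulAction.stabilizer G m = ⊥ := by
  constructor
  · intro h
    exact stab_bot_of_etale k R G B m
  · intro h
    haveI : Infinite k := inferInstance
    obtain ⟨θ, hθ⟩ := exists_theta k R G m h
    exact etale_of_theta B R G m θ hθ

end Main

end Groth.Agent.Lib.Helper26.Q402
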