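import Mathlib
import Groth.Prelude.Def_QFDual
import Groth.Agent.Lib.Helper13.TraceForm

set_option autoImplicit false
set_option linter.style.haveILetI false
set_option linter.unusedSectionVars false

namespace Groth.Agent.Lib.Helper26.QFD

open QFDual

variable {A K B L : Type*} [CommRing A] [CommRing K] [CommRing B] [CommRing L]
  [Algebra A K] [Algebra A B] [Algebra B L] [Algebra K L] [Algebra A L]
  [IsScalarTower A K L] [IsScalarTower A B L]

section

variable (h : IsDedekindDefined A K B L)

include h

theorem traceForm_bijective : Function.Bijective (Algebra.traceForm K L) := by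
  classical
  haveI := h.free
  haveI := h.finiteKL
  haveI := h.etale
  exact Groth.Agent.Lib.Helper13.bijective_traceForm_of_formallyUnramified
    (Module.Free.chooseBasis K L)

/-- every element of `L` is a fraction `b / s` with `s` a non-zero-divisor of `A` -/
theorem exists_repr (l : L) : ∃ (b : B) (s : A), s ∈ nonZeroDivisors A ∧
    l * algebraMap K L (algebraMap A K s) = algebraMap B L b := by
  haveI := h.isLocalization
  obtain ⟨⟨b, m⟩, hbm⟩ := IsLocalization.surj (Algebra.algebraMapSubmonoid B (nonZeroDivisors A)) l
  obtain ⟨s, hs, hsm⟩ := m.2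
  refine ⟨b, s, hs, ?_⟩
  rw [← hbm]
  congr 1
  change _ = algebraMap B L (m : B)
  rw [← hsm, ← IsScalarTower.algebraMap_apply, ← IsScalarTower.algebraMap_apply]

theorem isUnit_algebraMap {s : A} (hs : s ∈ nonZeroDivisors A) : IsUnit (algebraMap A K s) := by
  haveI := h.isFractionRing
  exact IsLocalization.map_units K ⟨s, hs⟩

theorem algebraMap_injective : Function.Injective (algebraMap A K) := by
  haveI := h.isFractionRing
  exact IsFractionRing.injective A K

/-- an element of `L` whose trace pairing with `B` vanishes is zero -/
theorem eq_zero_of_trace_eq_zero {x : L}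
    (hx : ∀ b : B, Algebra.trace K L (x * algebraMap B L b) = 0) : x = 0 := by
  apply (traceForm_bijective h).1
  rw [map_zero]
  ext l
  rw [Algebra.traceForm_apply, LinearMap.zero_apply]
  obtain ⟨b, s, hs, hl⟩ := exists_repr h l
  have hu := isUnit_algebraMap h hs
  have h1 : algebraMap A K s * Algebra.trace K L (x * l) = 0 := by
    rw [← smul_eq_mul, ← map_smul, Algebra.smul_def, mul_left_comm, mul_comm _ l, hl, hx]
  exact (hu.mul_right_eq_zero).1 h1

/-- extension of an `A`-linear form on `B` to a `K`-linear form on `L` -/
theorem exists_extension (φ : B →ₗ[A] A) : ∃ ψ : L →ₗ[K] K, ∀ b : B,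
    ψ (algebraMap B L b) = algebraMap A K (φ b) := by
  haveI := h.isLocalization
  haveI := h.isFractionRing
  have hu : ∀ x : nonZeroDivisors A, IsUnit ((algebraMap A (Module.End A K)) x) :=
    fun x => IsLocalizedModule.map_units (S := nonZeroDivisors A) (Algebra.linearMap A K) x
  let f : B →ₗ[A] L := (IsScalarTower.toAlgHom A B L).toLinearMap
  let ψ₀ : L →ₗ[A] K := IsLocalizedModule.lift (nonZeroDivisors A) f
    ((Algebra.linearMap A K).comp φ) hu
  refine ⟨ψ₀.extendScalarsOfIsLocalization (nonZeroDivisors A) K, fun b => ?_⟩
  rw [LinearMap.extendScalarsOfIsLocalization_apply']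
  have := IsLocalizedModule.lift_apply (nonZeroDivisors A) f ((Algebra.linearMap A K).comp φ) hu b
  simpa [f] using this

end

/-- the value `Tr(x b) ∈ A` -/
noncomputable def phiVal (x : complementary A K B L) (b : B) : A := Classical.choose (x.2 b)

theorem phiVal_spec (x : complementary A K B L) (b : B) :
    algebraMap A K (phiVal x b) = Algebra.trace K L ((x : L) * algebraMap B L b) :=
  Classical.choose_spec (x.2 b)

/-- the linear form `b ↦ Tr(x b)` attached to an element of the complementary module -/
noncomputable def phiFun (h : IsDedekindDefined A K B L) (x : complementary A K B L) :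
    Disc.Omega A B :=
  ⟨{ toFun := fun b => phiVal x b
     map_add' := fun b c => by
       apply algebraMap_injective h
       rw [map_add, phiVal_spec, phiVal_spec, phiVal_spec, map_add, mul_add, map_add]
     map_smul' := fun a b => by
       apply algebraMap_injective h
       rw [RingHom.id_apply, smul_eq_mul, RingHom.map_mul, phiVal_spec, phiVal_spec]
       have : (x : L) * algebraMap B L (a • b) =
           algebraMap A K a • ((x : L) * algebraMap B L b) := by
         rw [Algebra.smul_def a b, RingHom.map_mul, ← IsScalarTower.algebraMap_apply,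
           Algebra.smul_def (algebraMap A K a), ← IsScalarTower.algebraMap_apply]
         ring
       rw [this, LinearMap.map_smul, smul_eq_mul] }⟩

theorem phiFun_spec (h : IsDedekindDefined A K B L) (x : complementary A K B L) (b : B) :
    algebraMap A K ((phiFun h x).toLinearMap b) = Algebra.trace K L ((x : L) * algebraMap B L b) :=
  phiVal_spec x b

/-- `x ↦ (b ↦ Tr(x b))` as a `B`-linear map -/
noncomputable def phiLin (h : IsDedekindDefined A K B L) :
    complementary A K B L →ₗ[B] Disc.Omega A B where
  toFun := phiFun h
  map_add' x y := by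
    apply Disc.Omega.ext
    ext b
    apply algebraMap_injective h
    rw [Disc.Omega.add_toLinearMap, LinearMap.add_apply, map_add, phiFun_spec, phiFun_spec,
      phiFun_spec, Submodule.coe_add, add_mul, map_add]
  map_smul' c x := by
    apply Disc.Omega.ext
    ext b
    apply algebraMap_injective h
    rw [RingHom.id_apply, Disc.Omega.smul_toLinearMap_apply, phiFun_spec, phiFun_spec,
      Submodule.coe_smul, Algebra.smul_def, RingHom.map_mul]
    congr 1
    ring

theorem phiLin_spec (h : IsDedekindDefined A K B L) (x : complementary A K B L) (b : B) :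
    algebraMap A K ((phiLin h x).toLinearMap b) = Algebra.trace K L ((x : L) * algebraMap B L b) :=
  phiFun_spec h x b

theorem phiLin_injective (h : IsDedekindDefined A K B L) : Function.Injective (phiLin h) := by
  rw [← LinearMap.ker_eq_bot, LinearMap.ker_eq_bot']
  intro x hx
  apply Subtype.ext
  rw [Submodule.coe_zero]
  apply eq_zero_of_trace_eq_zero h
  intro b
  rw [← phiLin_spec h x b, hx, Disc.Omega.zero_toLinearMap, LinearMap.zero_apply, map_zero]

theorem phiLin_surjective (h : IsDedekindDefined A K B L) : Function.Surjective (phiLin h) := by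
  intro φ
  obtain ⟨ψ, hψ⟩ := exists_extension h φ.toLinearMap
  obtain ⟨x, hx⟩ := (traceForm_bijective h).2 ψ
  have hx' : ∀ l : L, Algebra.trace K L (x * l) = ψ l := fun l => by
    rw [← hx, Algebra.traceForm_apply]
  have hmem : x ∈ complementary A K B L := fun b => ⟨φ.toLinearMap b, by rw [hx', hψ]⟩
  refine ⟨⟨x, hmem⟩, ?_⟩
  apply Disc.Omega.ext
  ext b
  apply algebraMap_injective h
  rw [phiLin_spec, hx', hψ]

/-- the `B`-linear isomorphism `𝓛_{B/A} ≃ ω_{B/A}` -/
noncomputable def compEquiv (h : IsDedekindDefined A K B L) :
    complementary A K B L ≃ₗ[B] Disc.Omega A B :=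
  LinearEquiv.ofBijective (phiLin h) ⟨phiLin_injective h, phiLin_surjective h⟩

theorem compEquiv_spec (h : IsDedekindDefined A K B L) (x : complementary A K B L) (b : B) :
    algebraMap A K ((compEquiv h x).toLinearMap b) =
      Algebra.trace K L ((x : L) * algebraMap B L b) :=
  phiLin_spec h x b

section Free

variable (h : IsDedekindDefined A K B L) [Module.Finite A B] [Module.Free A B]

include h in
theorem trace_algebraMap (b : B) :
    Algebra.trace K L (algebraMap B L b) = algebraMap A K (Algebra.trace A B b) := by
  haveI := h.isFractionRing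
  haveI := h.isLocalization
  exact Algebra.trace_localization A (nonZeroDivisors A) b

include h in
theorem one_mem_complementary : (1 : L) ∈ complementary A K B L :=
  fun b => ⟨Algebra.trace A B b, by rw [one_mul, trace_algebraMap h]⟩

theorem compEquiv_one :
    compEquiv h ⟨1, one_mem_complementary h⟩ = Disc.Omega.trace A B := by
  apply Disc.Omega.ext
  ext b
  apply algebraMap_injective h
  rw [compEquiv_spec, one_mul, trace_algebraMap h]
  rfl

include h in
theorem dedekindDifferent_eq :
    dedekindDifferent A K B L =
      Submodule.map (Algebra.linearMap B L) (different B (Disc.Omega.trace A B)) := by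
  set e := compEquiv h with he
  set one : complementary A K B L := ⟨1, one_mem_complementary h⟩ with hone
  have he1 : e one = Disc.Omega.trace A B := compEquiv_one h
  ext x
  constructor
  · intro hx
    obtain ⟨b₀, hb₀⟩ := hx 1 (one_mem_complementary h)
    rw [mul_one] at hb₀
    refine ⟨b₀, ?_, hb₀⟩
    rw [SetLike.mem_coe, mem_different_iff]
    intro m
    obtain ⟨c, hc⟩ := hx (e.symm m : L) (e.symm m).2
    refine ⟨c, ?_⟩
    have hcy : c • one = b₀ • e.symm m := by
      apply Subtype.ext
      rw [Submodule.coe_smul, Submodule.coe_smul, Algebra.smul_def, Algebra.smul_def, hc, hb₀,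
        mul_one]
    rw [← he1, ← map_smul, hcy, map_smul, LinearEquiv.apply_symm_apply]
  · rintro ⟨b₀, hb₀, rfl⟩
    rw [SetLike.mem_coe, mem_different_iff] at hb₀
    intro y hy
    obtain ⟨c, hc⟩ := hb₀ (e ⟨y, hy⟩)
    rw [← he1, ← map_smul, ← map_smul] at hc
    have := congrArg (Subtype.val) (e.injective hc)
    rw [Submodule.coe_smul, Submodule.coe_smul, Algebra.smul_def, Algebra.smul_def, mul_one]
      at this
    exact ⟨c, this⟩

end Free

end Groth.Agent.Lib.Helper26.QFD
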