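import Mathlib
import Groth.Prelude.Def_QFDual
import Groth.Agent.Lib.Helper13.TraceForm

set_option autoImplicit false
set_option linter.style.haveILetI false
set_option linter.unusedSectionVars false

namespace Groth.Agent.Lib.Helper26.QFD2

open QFDual

section General

variable {A B : Type*} [CommRing A] [CommRing B] [Algebra A B]

/-- `toLinearMap` as an additive hom -/
def toLinHom : Disc.Omega A B →+ (B →ₗ[A] A) where
  toFun := Disc.Omega.toLinearMap
  map_zero' := rfl
  map_add' _ _ := rfl

@[simp] theorem toLinHom_apply (φ : Disc.Omega A B) : toLinHom φ = φ.toLinearMap := rfl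

theorem sum_toLinearMap_apply {ι : Type*} (s : Finset ι) (f : ι → Disc.Omega A B) (x : B) :
    (∑ i ∈ s, f i).toLinearMap x = ∑ i ∈ s, (f i).toLinearMap x := by
  rw [← toLinHom_apply, map_sum, LinearMap.sum_apply]
  rfl

theorem algebraMap_smul_apply (a : A) (φ : Disc.Omega A B) (x : B) :
    ((algebraMap A B a) • φ).toLinearMap x = a * φ.toLinearMap x := by
  rw [Disc.Omega.smul_toLinearMap_apply, ← Algebra.smul_def, map_smul, smul_eq_mul]

variable {ι : Type*} [Fintype ι] [DecidableEq ι] (b : Module.Basis ι A B)

/-- the dual basis elements in `Omega` -/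
noncomputable def coordOmega (i : ι) : Disc.Omega A B := ⟨b.coord i⟩

theorem coordOmega_apply (i k : ι) : (coordOmega b i).toLinearMap (b k) = if k = i then 1 else 0 := by
  change b.coord i (b k) = _
  rw [Module.Basis.coord_apply, Module.Basis.repr_self, Finsupp.single_apply]

theorem omega_expand (φ : Disc.Omega A B) :
    φ = ∑ i, (algebraMap A B (φ.toLinearMap (b i))) • coordOmega b i := by
  apply Disc.Omega.ext
  apply b.ext
  intro k
  rw [sum_toLinearMap_apply]
  simp only [algebraMap_smul_apply, coordOmega_apply, mul_ite, mul_one, mul_zero]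
  rw [Finset.sum_ite_eq Finset.univ k]
  simp

end General

section BC

universe u v w

variable {A : Type u} {B : Type v} {A' : Type w} {B' : Type v}
  [CommRing A] [CommRing B] [CommRing A'] [CommRing B']
  [Algebra A B] [Algebra A A'] [Algebra B B'] [Algebra A' B'] [Algebra A B']
  [IsScalarTower A A' B'] [IsScalarTower A B B']
  (hB : Algebra.IsPushout A A' B B')

theorem bcFin_smul (c : B) (φ : Disc.Omega A B) :
    bcFin hB (c • φ) = algebraMap B B' c • bcFin hB φ :=
  (bcFin hB).map_smulₛₗ c φ

variable {ι : Type*} [Fintype ι] [DecidableEq ι] (b : Module.Basis ι A B)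

theorem basis_apply' (i : ι) : hB.out.basis b i = algebraMap B B' (b i) := by
  rw [IsBaseChange.basis_apply]
  rfl

theorem bcFin_coordOmega (i : ι) :
    bcFin hB (coordOmega b i) = coordOmega (hB.out.basis b) i := by
  apply Disc.Omega.ext
  apply (hB.out.basis b).ext
  intro k
  rw [coordOmega_apply, basis_apply' hB, bcFin_apply_algebraMap, coordOmega_apply]
  split_ifs <;> simp

include hB in
theorem algebraMap_comm (a : A) :
    algebraMap A' B' (algebraMap A A' a) = algebraMap B B' (algebraMap A B a) := by
  rw [← IsScalarTower.algebraMap_apply, ← IsScalarTower.algebraMap_apply]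

theorem exists_lift [Module.Free A B] [Module.Finite A B]
    {Q : Type*} [AddCommGroup Q] [Module B' Q]
    (g : Disc.Omega A B →+ Q)
    (hg : ∀ (c : B) (φ : Disc.Omega A B), g (c • φ) = algebraMap B B' c • g φ) :
    ∃ g' : Disc.Omega A' B' →ₗ[B'] Q, ∀ φ, g' (bcFin hB φ) = g φ := by
  classical
  let b := Module.Free.chooseBasis A B
  set b' := hB.out.basis b with hb'
  let G : Disc.Omega A' B' →+ Q :=
    { toFun := fun ψ => ∑ i, algebraMap A' B' (ψ.toLinearMap (b' i)) • g (coordOmega b i)
      map_zero' := by simp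
      map_add' := fun ψ₁ ψ₂ => by
        simp only [Disc.Omega.add_toLinearMap, LinearMap.add_apply, map_add, add_smul]
        rw [Finset.sum_add_distrib] }
  have G_def : ∀ ψ, G ψ = ∑ i, algebraMap A' B' (ψ.toLinearMap (b' i)) • g (coordOmega b i) :=
    fun ψ => rfl
  have G_smulA : ∀ (a' : A') ψ, G (algebraMap A' B' a' • ψ) = algebraMap A' B' a' • G ψ := by
    intro a' ψ
    rw [G_def, G_def, Finset.smul_sum]
    refine Finset.sum_congr rfl fun i _ => ?_
    rw [algebraMap_smul_apply, map_mul, mul_smul]
  have G_j : ∀ φ, G (bcFin hB φ) = g φ := by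
    intro φ
    rw [G_def]
    conv_rhs => rw [omega_expand b φ, map_sum]
    refine Finset.sum_congr rfl fun i _ => ?_
    rw [hg, hb', basis_apply' hB, bcFin_apply_algebraMap, algebraMap_comm hB]
  have G_key : ∀ (x : B') φ, G (x • bcFin hB φ) = x • g φ := by
    intro x φ
    induction x using hB.out.inductionOn with
    | zero => simp
    | tmul m =>
      change G (algebraMap B B' m • bcFin hB φ) = algebraMap B B' m • g φ
      rw [← bcFin_smul, G_j, hg]
    | smul s n ih =>
      rw [Algebra.smul_def, mul_smul, G_smulA, ih, mul_smul]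
    | add n₁ n₂ h₁ h₂ => rw [add_smul, map_add, h₁, h₂, add_smul]
  have expand' : ∀ ψ : Disc.Omega A' B',
      ψ = ∑ k, algebraMap A' B' (ψ.toLinearMap (b' k)) • bcFin hB (coordOmega b k) := by
    intro ψ
    conv_lhs => rw [omega_expand b' ψ]
    refine Finset.sum_congr rfl fun k _ => ?_
    rw [bcFin_coordOmega]
  have G_smul : ∀ (x : B') ψ, G (x • ψ) = x • G ψ := by
    intro x ψ
    rw [expand' ψ, Finset.smul_sum, map_sum, map_sum, Finset.smul_sum]
    refine Finset.sum_congr rfl fun k _ => ?_
    rw [← mul_smul, G_key, G_key, mul_smul]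
  exact ⟨{ toFun := G, map_add' := G.map_add, map_smul' := G_smul }, G_j⟩

theorem exists_expand [Module.Free A B] [Module.Finite A B] (ψ : Disc.Omega A' B') :
    ∃ (κ : Type v) (_ : Fintype κ) (c : κ → B') (φ : κ → Disc.Omega A B),
      ψ = ∑ k, c k • bcFin hB (φ k) := by
  classical
  let b := Module.Free.chooseBasis A B
  refine ⟨Module.Free.ChooseBasisIndex A B, inferInstance,
    fun k => algebraMap A' B' (ψ.toLinearMap (hB.out.basis b k)), fun k => coordOmega b k, ?_⟩
  conv_lhs => rw [omega_expand (hB.out.basis b) ψ]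
  refine Finset.sum_congr rfl fun k _ => ?_
  rw [bcFin_coordOmega]

include hB in
theorem trace_algebraMap [Module.Free A B] [Module.Finite A B] (y : B) :
    Algebra.trace A' B' (algebraMap B B' y) = algebraMap A A' (Algebra.trace A B y) := by
  classical
  let b := Module.Free.chooseBasis A B
  rw [Groth.Agent.Lib.Helper13.trace_eq_sum_coord (hB.out.basis b),
    Groth.Agent.Lib.Helper13.trace_eq_sum_coord b, map_sum]
  refine Finset.sum_congr rfl fun i _ => ?_
  rw [basis_apply' hB, ← map_mul, Module.Basis.coord_apply, Module.Basis.coord_apply]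
  exact IsBaseChange.basis_repr_comp_apply b hB.out (y * b i) i

theorem bcFin_trace [Module.Free A B] [Module.Finite A B] [Module.Free A' B']
    [Module.Finite A' B'] :
    bcFin hB (Disc.Omega.trace A B) = Disc.Omega.trace A' B' := by
  classical
  let b := Module.Free.chooseBasis A B
  apply Disc.Omega.ext
  apply (hB.out.basis b).ext
  intro k
  rw [basis_apply' hB, bcFin_apply_algebraMap]
  change _ = Algebra.trace A' B' _
  rw [trace_algebraMap hB]
  rfl

include hB in
/-- the easy inclusion `𝔇 B' ⊆ 𝔇'` -/
theorem map_different_le [Module.Free A B] [Module.Finite A B] [Module.Free A' B']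
    [Module.Finite A' B'] :
    Ideal.map (algebraMap B B') (different B (Disc.Omega.trace A B)) ≤
      different B' (Disc.Omega.trace A' B') := by
  rw [Ideal.map_le_iff_le_comap]
  intro b₀ hb₀
  rw [mem_different_iff] at hb₀
  rw [Ideal.mem_comap, mem_different_iff]
  intro ψ
  obtain ⟨κ, _, c, φ, rfl⟩ := exists_expand hB ψ
  choose d hd using fun k => hb₀ (φ k)
  refine ⟨∑ k, c k * algebraMap B B' (d k), ?_⟩
  rw [Finset.sum_smul, Finset.smul_sum]
  refine Finset.sum_congr rfl fun k _ => ?_
  rw [mul_smul, ← bcFin_trace hB, ← bcFin_smul, hd, bcFin_smul, smul_comm]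

theorem finite_omega (A : Type u) (B : Type v) [CommRing A] [CommRing B] [Algebra A B]
    [Module.Free A B] [Module.Finite A B] : Module.Finite B (Disc.Omega A B) := by
  classical
  let b := Module.Free.chooseBasis A B
  refine ⟨⟨Finset.univ.image (coordOmega b), ?_⟩⟩
  rw [eq_top_iff]
  intro φ _
  rw [omega_expand b φ]
  exact Submodule.sum_mem _ fun i _ => Submodule.smul_mem _ _ (Submodule.subset_span (by simp))

open TensorProduct in
include hB in
theorem different_le_radical [Module.Free A B] [Module.Finite A B] [Module.Free A' B']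
    [Module.Finite A' B'] :
    different B' (Disc.Omega.trace A' B') ≤
      (Ideal.map (algebraMap B B') (different B (Disc.Omega.trace A B))).radical := by
  rw [Ideal.radical_eq_sInf]
  refine le_sInf ?_
  rintro q' ⟨hq'le, hq'prime⟩
  haveI := hq'prime
  set q := q'.comap (algebraMap B B') with hq
  haveI : q.IsPrime := Ideal.comap_isPrime _ _
  have hDq : different B (Disc.Omega.trace A B) ≤ q := Ideal.map_le_iff_le_comap.1 hq'le
  set N : Submodule B (Disc.Omega A B) := Submodule.span B {Disc.Omega.trace A B} with hN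
  haveI := finite_omega A B
  have hann : Module.annihilator B (Disc.Omega A B ⧸ N) ≤ q := by
    rw [Submodule.annihilator_quotient]; exact hDq
  have hsupp : (⟨q, inferInstance⟩ : PrimeSpectrum B) ∈
      Module.support B (Disc.Omega A B ⧸ N) := Module.mem_support_iff_of_finite.2 hann
  rw [Module.mem_support_iff_nontrivial_residueField_tensorProduct] at hsupp
  change Nontrivial (q.ResidueField ⊗[B] (Disc.Omega A B ⧸ N)) at hsupp
  obtain ⟨x, hx⟩ := exists_ne (0 : q.ResidueField ⊗[B] (Disc.Omega A B ⧸ N))
  obtain ⟨f, hf⟩ : ∃ f : Module.Dual q.ResidueField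
      (q.ResidueField ⊗[B] (Disc.Omega A B ⧸ N)), f x ≠ 0 := by
    by_contra hcon
    push Not at hcon
    exact hx ((Module.forall_dual_apply_eq_zero_iff q.ResidueField x).1 hcon)
  let lam : Disc.Omega A B →+ q.ResidueField :=
    { toFun := fun φ => f ((1 : q.ResidueField) ⊗ₜ[B]
        (Submodule.Quotient.mk φ : Disc.Omega A B ⧸ N))
      map_zero' := by simp
      map_add' := fun φ₁ φ₂ => by
        rw [Submodule.Quotient.mk_add, TensorProduct.tmul_add, map_add] }
  have lam_def : ∀ φ, lam φ = f ((1 : q.ResidueField) ⊗ₜ[B]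
        (Submodule.Quotient.mk φ : Disc.Omega A B ⧸ N)) := fun φ => rfl
  have lam_smul : ∀ (c : B) φ, lam (c • φ) = algebraMap B q.ResidueField c * lam φ := by
    intro c φ
    rw [lam_def, lam_def, Submodule.Quotient.mk_smul, ← TensorProduct.smul_tmul,
      Algebra.smul_def, mul_one, ← smul_eq_mul, ← map_smul, TensorProduct.smul_tmul',
      smul_eq_mul, mul_one]
  have lam_tr : lam (Disc.Omega.trace A B) = 0 := by
    rw [lam_def, (Submodule.Quotient.mk_eq_zero N).2 (Submodule.mem_span_singleton_self _),
      TensorProduct.tmul_zero, map_zero]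
  obtain ⟨φ₀, hφ₀⟩ : ∃ φ₀, lam φ₀ ≠ 0 := by
    by_contra hcon
    push Not at hcon
    have hf0 : ∀ t, f t = 0 := by
      intro t
      induction t using TensorProduct.induction_on with
      | zero => simp
      | tmul k m =>
        obtain ⟨φ, rfl⟩ := Submodule.Quotient.mk_surjective _ m
        have h1 : k ⊗ₜ[B] (Submodule.Quotient.mk φ : _ ⧸ N) =
            k • ((1 : q.ResidueField) ⊗ₜ[B] (Submodule.Quotient.mk φ : _ ⧸ N)) := by
          rw [TensorProduct.smul_tmul', smul_eq_mul, mul_one]
        rw [h1, map_smul, ← lam_def, hcon φ, smul_zero]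
      | add t₁ t₂ h₁ h₂ => rw [map_add, h₁, h₂, add_zero]
    exact hf (hf0 x)
  let ι : q.ResidueField →+* q'.ResidueField :=
    Ideal.ResidueField.map q q' (algebraMap B B') rfl
  let g : Disc.Omega A B →+ q'.ResidueField := ι.toAddMonoidHom.comp lam
  have g_def : ∀ φ, g φ = ι (lam φ) := fun φ => rfl
  have hg : ∀ (c : B) φ, g (c • φ) = algebraMap B B' c • g φ := by
    intro c φ
    rw [g_def, g_def, lam_smul, map_mul, Ideal.ResidueField.map_algebraMap, Algebra.smul_def]
  obtain ⟨g', hg'⟩ := exists_lift hB g hg
  intro r' hr'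
  rw [mem_different_iff] at hr'
  obtain ⟨c', hc'⟩ := hr' (bcFin hB φ₀)
  have h2 := congrArg g' hc'
  rw [map_smul, map_smul, hg', ← bcFin_trace hB, hg', g_def, g_def, lam_tr, map_zero,
    smul_zero, Algebra.smul_def] at h2
  have h3 : ι (lam φ₀) ≠ 0 := fun h0 => hφ₀ ((map_eq_zero ι).1 h0)
  have h4 : algebraMap B' q'.ResidueField r' = 0 := by
    rcases mul_eq_zero.1 h2.symm with h | h
    · exact h
    · exact absurd h h3
  exact Ideal.algebraMap_residueField_eq_zero.1 h4

include hB in
theorem radical_map_different [Module.Free A B] [Module.Finite A B] [Module.Free A' B']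
    [Module.Finite A' B'] :
    (Ideal.map (algebraMap B B') (different B (Disc.Omega.trace A B))).radical =
      (different B' (Disc.Omega.trace A' B')).radical :=
  le_antisymm (Ideal.radical_mono (map_different_le hB))
    (Ideal.radical_le_radical_iff.2 (different_le_radical hB))

open TensorProduct in
include hB in
theorem different_le_map_of_invertible [Module.Free A B] [Module.Finite A B] [Module.Free A' B']
    [Module.Finite A' B'] [Module.Invertible B (Disc.Omega A B)] :
    different B' (Disc.Omega.trace A' B') ≤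
      Ideal.map (algebraMap B B') (different B (Disc.Omega.trace A B)) := by
  intro r' hr'
  rw [mem_different_iff] at hr'
  set J := Ideal.map (algebraMap B B') (different B (Disc.Omega.trace A B)) with hJ
  have inv1 : ∀ f : Disc.Omega A B →ₗ[B] B,
      f (Disc.Omega.trace A B) ∈ different B (Disc.Omega.trace A B) := by
    intro f
    rw [mem_different_iff]
    intro m
    refine ⟨f m, ?_⟩
    have h1 := Module.Invertible.tmul_comm (R := B) (m₁ := Disc.Omega.trace A B) (m₂ := m)
    have h2 := congrArg ((TensorProduct.lid B _).toLinearMap ∘ₗ LinearMap.rTensor _ f) h1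
    simpa using h2.symm
  have key : ∀ t : Module.Dual B (Disc.Omega A B) ⊗[B] Disc.Omega A B,
      r' * algebraMap B B' (contractLeft B _ t) ∈ J := by
    intro t
    induction t using TensorProduct.induction_on with
    | zero => simp
    | tmul f w =>
      rw [contractLeft_apply]
      let g : Disc.Omega A B →+ B' := (algebraMap B B').toAddMonoidHom.comp f.toAddMonoidHom
      have g_def : ∀ φ, g φ = algebraMap B B' (f φ) := fun φ => rfl
      obtain ⟨g', hg'⟩ := exists_lift hB g (fun c φ => by
        rw [g_def, g_def, map_smul, smul_eq_mul, map_mul, smul_eq_mul])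
      obtain ⟨c', hc'⟩ := hr' (bcFin hB w)
      have h2 := congrArg g' hc'
      rw [map_smul, map_smul, ← bcFin_trace hB, hg', hg', g_def, g_def, smul_eq_mul,
        smul_eq_mul] at h2
      rw [← h2]
      exact Ideal.mul_mem_left _ _ (Ideal.mem_map_of_mem _ (inv1 f))
    | add t₁ t₂ h₁ h₂ =>
      rw [map_add, map_add, mul_add]
      exact J.add_mem h₁ h₂
  obtain ⟨t, ht⟩ := (Module.Invertible.bijective (R := B) (M := Disc.Omega A B)).2 1
  have := key t
  rwa [ht, map_one, mul_one] at this

end BC

end Groth.Agent.Lib.Helper26.QFD2
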