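import Mathlib
import Groth.Prelude.Def_QFDual
import Groth.Agent.Lib.Helper12.Normal2

set_option autoImplicit false
set_option linter.style.haveILetI false
set_option linter.unusedSectionVars false

namespace Groth.Agent.Lib.Helper26.QFD3

open Polynomial

section Mat

variable {K : Type*} [CommRing K] {n : Type*} [Fintype n] [DecidableEq n]

/-- `X - C M` divides `g - g(M)` in the polynomial ring over matrices -/
theorem exists_factor (M : Matrix n n K) (g : K[X]) :
    ∃ H : (Matrix n n K)[X],
      g.map (algebraMap K (Matrix n n K)) - C (aeval M g) = (X - C M) * H := by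
  induction g using Polynomial.induction_on with
  | C a => exact ⟨0, by simp⟩
  | add p q hp hq =>
    obtain ⟨H₁, h₁⟩ := hp
    obtain ⟨H₂, h₂⟩ := hq
    refine ⟨H₁ + H₂, ?_⟩
    rw [mul_add, ← h₁, ← h₂, Polynomial.map_add, map_add, C_add]
    abel
  | monomial k a ih =>
    obtain ⟨H, h⟩ := ih
    set ā : Matrix n n K := algebraMap K (Matrix n n K) a with hā
    have hāM : Commute ā M := Algebra.commutes a M
    have hcomm : Commute (C (ā * M ^ k) : (Matrix n n K)[X]) (X - C M) := by
      apply Commute.sub_right (Polynomial.commute_X _).symm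
      change C _ * C _ = C _ * C _
      rw [← C_mul, ← C_mul]
      congr 1
      exact (Commute.mul_left hāM ((Commute.refl M).pow_left k)).eq
    refine ⟨H * X + C (ā * M ^ k), ?_⟩
    have e1 : (C a * X ^ (k + 1) : K[X]).map (algebraMap K (Matrix n n K)) =
        (C a * X ^ k : K[X]).map (algebraMap K (Matrix n n K)) * X := by
      simp [pow_succ, mul_assoc]
    have e2 : aeval M (C a * X ^ (k + 1) : K[X]) = ā * M ^ k * M := by
      simp [pow_succ, mul_assoc, hā]
    have e3 : aeval M (C a * X ^ k : K[X]) = ā * M ^ k := by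
      simp [hā]
    rw [e3] at h
    calc (C a * X ^ (k + 1) : K[X]).map (algebraMap K (Matrix n n K)) -
          C (aeval M (C a * X ^ (k + 1) : K[X]))
        = (C a * X ^ k : K[X]).map (algebraMap K (Matrix n n K)) * X -
          C (ā * M ^ k) * C M := by rw [e1, e2, C_mul]
      _ = ((C a * X ^ k : K[X]).map (algebraMap K (Matrix n n K)) - C (ā * M ^ k)) * X +
          C (ā * M ^ k) * (X - C M) := by rw [sub_mul, mul_sub]; abel
      _ = (X - C M) * H * X + (X - C M) * C (ā * M ^ k) := by rw [h, hcomm.eq]
      _ = (X - C M) * (H * X + C (ā * M ^ k)) := by rw [mul_add, mul_assoc]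

theorem charpoly_dvd_pow (M : Matrix n n K) (g : K[X]) (hg : aeval M g = 0) :
    M.charpoly ∣ g ^ Fintype.card n := by
  obtain ⟨H, hH⟩ := exists_factor M g
  rw [hg, C_0, sub_zero] at hH
  have h1 := congrArg (matPolyEquiv (R := K) (n := n)).symm hH
  rw [map_mul, ← matPolyEquiv_smul_one, AlgEquiv.symm_apply_apply,
    ← Matrix.matPolyEquiv_charmatrix, AlgEquiv.symm_apply_apply] at h1
  have h2 := congrArg Matrix.det h1
  rw [Matrix.det_mul, Matrix.det_smul, Matrix.det_one, mul_one] at h2
  exact ⟨_, h2⟩

end Mat

section Trace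

variable {A K L : Type*} [CommRing A] [CommRing K] [CommRing L]
  [Algebra A K] [Algebra K L] [Algebra A L] [IsScalarTower A K L]

theorem isIntegral_trace [Module.Free K L] [Module.Finite K L] {x : L} (hx : IsIntegral A x) :
    IsIntegral A (Algebra.trace K L x) := by
  classical
  let bs := Module.Free.chooseBasis K L
  rcases isEmpty_or_nonempty (Module.Free.ChooseBasisIndex K L) with he | hne
  · rw [Algebra.trace_eq_matrix_trace bs]
    simp [Matrix.trace, isIntegral_zero]
  obtain ⟨g, hgm, hgx⟩ := hx
  set M := Algebra.leftMulMatrix bs x with hM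
  have hgM : aeval M (g.map (algebraMap A K)) = 0 := by
    rw [hM, aeval_algHom_apply, aeval_map_algebraMap]
    rw [← aeval_def] at hgx
    rw [hgx, map_zero]
  have hdvd := charpoly_dvd_pow M (g.map (algebraMap A K)) hgM
  rw [← Polynomial.map_pow] at hdvd
  have hint := Polynomial.isIntegral_coeff_of_dvd (g ^ Fintype.card _) M.charpoly
    (hgm.pow _) (Matrix.charpoly_monic M) hdvd
  rw [Algebra.trace_eq_matrix_trace bs, Matrix.trace_eq_neg_charpoly_coeff]
  exact (hint _).neg

end Trace

section Final

open QFDual

universe u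

variable {A K B L : Type u} [CommRing A] [CommRing K] [CommRing B] [CommRing L]
  [Algebra A K] [Algebra A B] [Algebra B L] [Algebra K L] [Algebra A L]
  [IsScalarTower A K L] [IsScalarTower A B L]

theorem one_mem_complementary_of_normal (h : IsDedekindDefined A K B L)
    (hA : EGA4.IsNormalRing A) : (1 : L) ∈ complementary A K B L := by
  intro b
  rw [one_mul]
  haveI := h.finite
  haveI := h.free
  haveI := h.finiteKL
  haveI := h.isFractionRing
  have hb : IsIntegral A b := Algebra.IsIntegral.isIntegral b
  have hx : IsIntegral A (algebraMap B L b) := hb.map (IsScalarTower.toAlgHom A B L)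
  have ht : IsIntegral A (Algebra.trace K L (algebraMap B L b)) := isIntegral_trace hx
  haveI hic := Groth.Agent.Lib.Helper12.Normal2.isIntegrallyClosedIn_fractionRing A hA
  let e : FractionRing A ≃ₐ[A] K := FractionRing.algEquiv A K
  have ht' : IsIntegral A (e.symm (Algebra.trace K L (algebraMap B L b))) := ht.map e.symm
  obtain ⟨a, ha⟩ := IsIntegrallyClosedIn.isIntegral_iff.1 ht'
  refine ⟨a, ?_⟩
  rw [← e.commutes a, ha, e.apply_symm_apply]

end Final

end Groth.Agent.Lib.Helper26.QFD3
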