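import Mathlib
import Groth.Prelude.Def_QFDual
import Groth.Agent.Lib.Helper26.QFDual2

set_option autoImplicit false
set_option linter.style.haveILetI false
set_option linter.unusedSectionVars false

namespace Groth.Agent.Lib.Helper26.QFD4

open QFDual Groth.Agent.Lib.Helper26.QFD2

universe u v w

variable {A : Type u} {B : Type v} {A' : Type w} {B' : Type v}
  [CommRing A] [CommRing B] [CommRing A'] [CommRing B']
  [Algebra A B] [Algebra A A'] [Algebra B B'] [Algebra A' B'] [Algebra A B']
  [IsScalarTower A A' B'] [IsScalarTower A B B']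
  (hB : Algebra.IsPushout A A' B B')

/-- `y ↦ (z ↦ φ (y z))` -/
noncomputable def Lmul (φ : Disc.Omega A B) : B →ₗ[A] Module.Dual A B :=
  (LinearMap.mul A B).compr₂ φ.toLinearMap

theorem Lmul_apply (φ : Disc.Omega A B) (y z : B) : Lmul φ y z = φ.toLinearMap (y * z) := rfl

theorem Lmul_eq (φ : Disc.Omega A B) (y : B) : Lmul φ y = (y • φ).toLinearMap := by
  ext z
  rfl

theorem toDual_Lmul (φ : Disc.Omega A B) (y : B) (r' : B') :
    hB.out.toDual (Lmul φ y) r' = (bcFin hB φ).toLinearMap (algebraMap B B' y * r') := by
  rw [Lmul_eq]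
  change (bcFin hB (y • φ)).toLinearMap r' = _
  rw [bcFin_smul, Disc.Omega.smul_toLinearMap_apply]

include hB in
theorem different_le_map_of_flat [Module.Free A B] [Module.Finite A B] [Module.Free A' B']
    [Module.Finite A' B'] [Module.Flat A A'] :
    different B' (Disc.Omega.trace A' B') ≤
      Ideal.map (algebraMap B B') (different B (Disc.Omega.trace A B)) := by
  classical
  intro r' hr'
  rw [mem_different_iff] at hr'
  let b := Module.Free.chooseBasis A B
  let ι := Module.Free.ChooseBasisIndex A B
  let φ : ι → Disc.Omega A B := fun i => coordOmega b i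
  let τ : Disc.Omega A B := Disc.Omega.trace A B
  choose c' hc' using fun i => hr' (bcFin hB (φ i))
  let D : Module.Dual A B →ₗ[A] Module.Dual A' B' := hB.out.toDual
  -- evaluation maps
  let ev : B' → (Module.Dual A' B' →ₗ[A] A') := fun z =>
    (LinearMap.applyₗ (R := A') z).restrictScalars A
  have ev_apply : ∀ z ψ, ev z ψ = ψ z := fun z ψ => rfl
  let x : (Module.Dual A B × (ι → Module.Dual A B)) →ₗ[A] A' :=
    ((ev r').comp D).comp (LinearMap.fst A _ _) +
      ∑ i, (((ev (c' i)).comp D).comp (LinearMap.proj i)).comp (LinearMap.snd A _ _)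
  have x_apply : ∀ (p : Module.Dual A B × (ι → Module.Dual A B)), x p = D p.1 r' + ∑ i, D (p.2 i) (c' i) := by
    intro p
    simp only [x, LinearMap.add_apply, LinearMap.sum_apply, LinearMap.comp_apply, ev_apply,
      LinearMap.fst_apply, LinearMap.snd_apply, LinearMap.proj_apply]
  let f : (ι → B) →ₗ[A] (Module.Dual A B × (ι → Module.Dual A B)) :=
    LinearMap.prod (∑ i, (Lmul (φ i)).comp (LinearMap.proj i))
      (LinearMap.pi fun i => -((Lmul τ).comp (LinearMap.proj i)))
  have f_apply : ∀ y : ι → B, f y = (∑ i, Lmul (φ i) (y i), fun i => -(Lmul τ (y i))) := by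
    intro y
    refine Prod.ext ?_ ?_
    · simp only [f, LinearMap.prod_apply, Function.prod, LinearMap.sum_apply,
        LinearMap.comp_apply, LinearMap.proj_apply]
    · funext i
      simp only [f, LinearMap.prod_apply, Function.prod, LinearMap.pi_apply, LinearMap.neg_apply,
        LinearMap.comp_apply, LinearMap.proj_apply]
  have hxf : x ∘ₗ f = 0 := by
    refine LinearMap.ext fun y => ?_
    rw [LinearMap.comp_apply, x_apply, f_apply, LinearMap.zero_apply]
    simp only [map_sum, LinearMap.sum_apply, map_neg, LinearMap.neg_apply]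
    rw [← Finset.sum_add_distrib]
    refine Finset.sum_eq_zero fun i _ => ?_
    change hB.out.toDual (Lmul (φ i) (y i)) r' + -(hB.out.toDual (Lmul τ (y i)) (c' i)) = 0
    rw [toDual_Lmul hB, toDual_Lmul hB, bcFin_trace hB]
    have := congrArg (fun ψ : Disc.Omega A' B' => ψ.toLinearMap (algebraMap B B' (y i))) (hc' i)
    simp only [Disc.Omega.smul_toLinearMap_apply] at this
    rw [mul_comm _ r', mul_comm _ (c' i), this, add_neg_cancel]
  obtain ⟨k, a, y', hxa, haf⟩ :=
    Module.Flat.exists_factorization_of_comp_eq_zero_of_free (M := A') hxf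
  -- components
  let aj : Fin k → (Module.Dual A B × (ι → Module.Dual A B)) →ₗ[A] A := fun j => (Finsupp.lapply j).comp a
  let u : Fin k → B := fun j =>
    (Module.evalEquiv A B).symm ((aj j).comp (LinearMap.inl A _ _))
  let vv : Fin k → ι → B := fun j i =>
    (Module.evalEquiv A B).symm (((aj j).comp (LinearMap.inr A _ _)).comp (LinearMap.single A (fun _ : ι => Module.Dual A B) i))
  have hu : ∀ j (ψ : Module.Dual A B), ψ (u j) = aj j (ψ, 0) := by
    intro j ψ
    rw [Module.apply_evalEquiv_symm_apply]
    rfl
  have hv : ∀ j i (ψ : Module.Dual A B), ψ (vv j i) = aj j (0, Pi.single i ψ) := by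
    intro j i ψ
    rw [Module.apply_evalEquiv_symm_apply]
    rfl
  -- `u j ∈ 𝔇`
  have hmem : ∀ j, u j ∈ different B (Disc.Omega.trace A B) := by
    intro j
    have key : ∀ i, u j • φ i = vv j i • τ := by
      intro i
      apply Disc.Omega.ext
      ext z
      have h1 := LinearMap.congr_fun haf (Pi.single i z)
      rw [LinearMap.comp_apply, LinearMap.zero_apply, f_apply] at h1
      have h2 := DFunLike.congr_fun h1 j
      rw [Finsupp.zero_apply] at h2
      have h3 : aj j (∑ i', Lmul (φ i') ((Pi.single i z : ι → B) i'),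
          fun i' => -(Lmul τ ((Pi.single i z : ι → B) i'))) = 0 := h2
      have e1 : (∑ i', Lmul (φ i') ((Pi.single i z : ι → B) i')) = Lmul (φ i) z := by
        rw [Finset.sum_eq_single i]
        · rw [Pi.single_eq_same]
        · intro i' _ hne
          rw [Pi.single_eq_of_ne hne, map_zero]
        · intro h; exact absurd (Finset.mem_univ i) h
      have e2 : (fun i' => -(Lmul τ ((Pi.single i z : ι → B) i'))) =
          Pi.single i (-(Lmul τ z)) := by
        funext i'
        by_cases hii : i' = i
        · subst hii; rw [Pi.single_eq_same, Pi.single_eq_same]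
        · rw [Pi.single_eq_of_ne hii, Pi.single_eq_of_ne hii, map_zero, neg_zero]
      rw [e1, e2] at h3
      have h4 : aj j (Lmul (φ i) z, Pi.single i (-(Lmul τ z))) =
          aj j (Lmul (φ i) z, 0) + aj j (0, Pi.single i (-(Lmul τ z))) := by
        rw [← map_add]
        congr 1
        ext <;> simp
      rw [h4, ← hu, ← hv, LinearMap.neg_apply, Lmul_apply, Lmul_apply] at h3
      rw [Disc.Omega.smul_toLinearMap_apply, Disc.Omega.smul_toLinearMap_apply,
        mul_comm (u j), mul_comm (vv j i)]
      exact add_neg_eq_zero.1 h3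
    rw [mem_different_iff]
    intro m
    refine ⟨∑ i, algebraMap A B (m.toLinearMap (b i)) * vv j i, ?_⟩
    conv_rhs => rw [omega_expand b m]
    rw [Finset.sum_smul, Finset.smul_sum]
    refine Finset.sum_congr rfl fun i _ => ?_
    rw [mul_smul, ← key i, smul_comm]
  -- reconstruct r'
  let r'' : B' := ∑ j, algebraMap A' B' (y' (Finsupp.single j 1)) * algebraMap B B' (u j)
  have hr'' : r'' ∈ Ideal.map (algebraMap B B') (different B (Disc.Omega.trace A B)) :=
    Ideal.sum_mem _ fun j _ => Ideal.mul_mem_left _ _ (Ideal.mem_map_of_mem _ (hmem j))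
  have heq : r' = r'' := by
    apply (hB.out.basis b).ext_elem
    intro i
    have h1 : (hB.out.basis b).repr r' i = D (b.coord i) r' := by
      have : D (b.coord i) = (hB.out.basis b).coord i := by
        have := congrArg Disc.Omega.toLinearMap (bcFin_coordOmega hB b i)
        exact this
      rw [this, Module.Basis.coord_apply]
    have h2 : (hB.out.basis b).repr r'' i = D (b.coord i) r'' := by
      have : D (b.coord i) = (hB.out.basis b).coord i := by
        have := congrArg Disc.Omega.toLinearMap (bcFin_coordOmega hB b i)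
        exact this
      rw [this, Module.Basis.coord_apply]
    rw [h1, h2]
    have h3 : D (b.coord i) r' = x (b.coord i, 0) := by
      rw [x_apply]
      simp
    rw [h3, hxa, LinearMap.comp_apply]
    have h4 : a (b.coord i, 0) = ∑ j, (aj j (b.coord i, 0)) • Finsupp.single j (1 : A) := by
      ext j
      simp [aj]
    rw [h4, map_sum]
    have h5 : D (b.coord i) r'' = ∑ j, D (b.coord i)
        (algebraMap A' B' (y' (Finsupp.single j 1)) * algebraMap B B' (u j)) := map_sum _ _ _
    rw [h5]
    refine Finset.sum_congr rfl fun j _ => ?_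
    have h6 : D (b.coord i) (algebraMap B B' (u j)) = algebraMap A A' (b.coord i (u j)) :=
      hB.out.toDual_comp_apply _ _
    rw [LinearMap.map_smul, ← hu, ← Algebra.smul_def (y' (Finsupp.single j 1)),
      LinearMap.map_smul, smul_eq_mul, Algebra.smul_def (b.coord i (u j)), h6, mul_comm]
  rw [heq]
  exact hr''

end Groth.Agent.Lib.Helper26.QFD4
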