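import Mathlib
import Groth.Prelude.Def_QFDual
import Groth.Agent.Lib.Helper26.QFDual1

set_option autoImplicit false
set_option linter.style.haveILetI false
set_option linter.unusedSectionVars false

namespace Groth.Agent.Lib.Helper26.QFD5

open QFDual Groth.Agent.Lib.Helper26.QFD TensorProduct

section TraceFormula

variable {K L : Type*} [CommRing K] [AddCommGroup L] [Module K L] [Module.Free K L]
  [Module.Finite K L]

/-- trace via an arbitrary finite "dual basis" -/
theorem trace_eq_sum_of_dual_pair {ι : Type*} [Fintype ι] (v : ι → L) (ψ : ι → Module.Dual K L)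
    (hv : ∀ x : L, x = ∑ i, ψ i x • v i) (T : L →ₗ[K] L) :
    LinearMap.trace K L T = ∑ i, ψ i (T (v i)) := by
  have hT : T = dualTensorHom K L L (∑ i, ψ i ⊗ₜ[K] T (v i)) := by
    ext x
    rw [map_sum, LinearMap.sum_apply]
    simp only [dualTensorHom_apply]
    conv_lhs => rw [hv x, map_sum]
    simp only [map_smul]
  conv_lhs => rw [hT]
  rw [LinearMap.trace_eq_contract_apply, map_sum]
  simp only [contractLeft_apply]

end TraceFormula

section Main

universe u

variable {A K B L : Type u} [CommRing A] [CommRing K] [CommRing B] [CommRing L]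
  [Algebra A K] [Algebra A B] [Algebra B L] [Algebra K L] [Algebra A L]
  [IsScalarTower A K L] [IsScalarTower A B L]

theorem one_mem_complementary_of_flat (h : IsDedekindDefined A K B L) [Module.Flat A B] :
    (1 : L) ∈ complementary A K B L := by
  haveI := h.finite
  haveI := h.free
  haveI := h.finiteKL
  haveI := h.isNoetherianRing
  haveI : Module.FinitePresentation A B := Module.finitePresentation_of_finite A B
  haveI : Module.Projective A B := Module.Flat.projective_of_finitePresentation
  obtain ⟨n, f, hf⟩ := Module.Finite.exists_fin' A B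
  obtain ⟨g, hg⟩ := Module.projective_lifting_property f LinearMap.id hf
  let bb : Fin n → B := fun i => f (Pi.single i 1)
  let φ : Fin n → (B →ₗ[A] A) := fun i => (LinearMap.proj i).comp g
  have hexp : ∀ x : B, x = ∑ i, φ i x • bb i := by
    intro x
    have h1 : f (g x) = x := LinearMap.congr_fun hg x
    conv_lhs => rw [← h1, pi_eq_sum_univ' (g x), map_sum]
    refine Finset.sum_congr rfl fun i _ => ?_
    rw [map_smul]
    rfl
  choose ψ hψ using fun i => exists_extension h (φ i)
  let v : Fin n → L := fun i => algebraMap B L (bb i)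
  have hv : ∀ x : L, x = ∑ i, ψ i x • v i := by
    intro x
    obtain ⟨b, s, hs, hxs⟩ := exists_repr h x
    have hu := isUnit_algebraMap h hs
    obtain ⟨t, ht⟩ := hu.exists_left_inv
    have hx : x = t • algebraMap B L b := by
      rw [← hxs, Algebra.smul_def, mul_comm x, ← mul_assoc, ← map_mul, ht, map_one, one_mul]
    rw [hx]
    simp only [map_smul, smul_assoc]
    rw [← Finset.smul_sum]
    congr 1
    conv_lhs => rw [hexp b, map_sum]
    refine Finset.sum_congr rfl fun i _ => ?_
    rw [hψ, Algebra.smul_def (φ i b), map_mul, ← IsScalarTower.algebraMap_apply,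
      Algebra.smul_def, ← IsScalarTower.algebraMap_apply]
  intro b
  rw [one_mul]
  have := trace_eq_sum_of_dual_pair v ψ hv (Algebra.lmul K L (algebraMap B L b))
  refine ⟨∑ i, φ i (b * bb i), ?_⟩
  change _ = LinearMap.trace K L (Algebra.lmul K L (algebraMap B L b))
  rw [this, map_sum]
  refine Finset.sum_congr rfl fun i _ => ?_
  rw [← hψ, map_mul]
  rfl

end Main

end Groth.Agent.Lib.Helper26.QFD5
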