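import Mathlib
import Groth.Prelude.Def_QFDual

set_option autoImplicit false
set_option linter.style.haveILetI false
set_option linter.unusedSectionVars false

namespace Groth.Agent.Lib.Helper26.QFD7

open QFDual TensorProduct

universe u

variable {A B' B C' C : Type u} [CommRing A] [CommRing B'] [CommRing B] [CommRing C'] [CommRing C]
  [Algebra A B'] [Algebra B' B] [Algebra A B] [IsScalarTower A B' B]
  [Algebra A C'] [Algebra C' C] [Algebra A C] [IsScalarTower A C' C]

/-- restriction of a form on `B' × C'` to the first factor -/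
def rB : Disc.Omega A (B' × C') →+ Disc.Omega A B' where
  toFun φ := ⟨φ.toLinearMap ∘ₗ LinearMap.inl A B' C'⟩
  map_zero' := rfl
  map_add' _ _ := rfl

/-- restriction of a form on `B' × C'` to the second factor -/
def rC : Disc.Omega A (B' × C') →+ Disc.Omega A C' where
  toFun φ := ⟨φ.toLinearMap ∘ₗ LinearMap.inr A B' C'⟩
  map_zero' := rfl
  map_add' _ _ := rfl

/-- extension by zero of a form on `B'` -/
def eB : Disc.Omega A B' →+ Disc.Omega A (B' × C') where
  toFun φ := ⟨φ.toLinearMap ∘ₗ LinearMap.fst A B' C'⟩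
  map_zero' := rfl
  map_add' _ _ := rfl

/-- extension by zero of a form on `C'` -/
def eC : Disc.Omega A C' →+ Disc.Omega A (B' × C') where
  toFun φ := ⟨φ.toLinearMap ∘ₗ LinearMap.snd A B' C'⟩
  map_zero' := rfl
  map_add' _ _ := rfl

theorem rB_smul (x : B' × C') (φ : Disc.Omega A (B' × C')) : rB (x • φ) = x.1 • rB φ := by
  apply Disc.Omega.ext
  ext z
  change φ.toLinearMap (x * (z, 0)) = φ.toLinearMap ((x.1 * z, 0))
  congr 1
  ext <;> simp

theorem rC_smul (x : B' × C') (φ : Disc.Omega A (B' × C')) : rC (x • φ) = x.2 • rC φ := by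
  apply Disc.Omega.ext
  ext z
  change φ.toLinearMap (x * (0, z)) = φ.toLinearMap ((0, x.2 * z))
  congr 1
  ext <;> simp

theorem eB_smul (b' : B') (c' : C') (φ : Disc.Omega A B') :
    (eB (b' • φ) : Disc.Omega A (B' × C')) = (b', c') • eB φ := by
  apply Disc.Omega.ext
  ext z <;> rfl

theorem eC_smul (b' : B') (c' : C') (φ : Disc.Omega A C') :
    (eC (c' • φ) : Disc.Omega A (B' × C')) = (b', c') • eC φ := by
  apply Disc.Omega.ext
  ext z <;> rfl

theorem rB_eB (φ : Disc.Omega A B') : rB (eB (C' := C') φ) = φ := by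
  apply Disc.Omega.ext
  ext z
  rfl

theorem rC_eC (φ : Disc.Omega A C') : rC (eC (B' := B') φ) = φ := by
  apply Disc.Omega.ext
  ext z
  rfl

theorem rC_eB (φ : Disc.Omega A B') : rC (eB (C' := C') φ) = 0 := by
  apply Disc.Omega.ext
  ext z
  change φ.toLinearMap 0 = 0
  rw [map_zero]

theorem rB_eC (φ : Disc.Omega A C') : rB (eC (B' := B') φ) = 0 := by
  apply Disc.Omega.ext
  ext z
  change φ.toLinearMap 0 = 0
  rw [map_zero]

theorem eB_rB (φ : Disc.Omega A (B' × C')) : eB (rB φ) = ((1, 0) : B' × C') • φ := by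
  apply Disc.Omega.ext
  ext z
  · change φ.toLinearMap (z, 0) = φ.toLinearMap (((1 : B'), (0 : C')) * (z, 0))
    congr 1
    ext <;> simp
  · change φ.toLinearMap (0, 0) = φ.toLinearMap (((1 : B'), (0 : C')) * (0, z))
    congr 1
    ext <;> simp

theorem eC_rC (φ : Disc.Omega A (B' × C')) : eC (rC φ) = ((0, 1) : B' × C') • φ := by
  apply Disc.Omega.ext
  ext z
  · change φ.toLinearMap (0, 0) = φ.toLinearMap (((0 : B'), (1 : C')) * (z, 0))
    congr 1
    ext <;> simp
  · change φ.toLinearMap (0, z) = φ.toLinearMap (((0 : B'), (1 : C')) * (0, z))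
    congr 1
    ext <;> simp

variable [Algebra (B' × C') (B × C)] [IsScalarTower A (B' × C') (B × C)]
  (halg : algebraMap (B' × C') (B × C) = (algebraMap B' B).prodMap (algebraMap C' C))

include halg in
theorem smul_pair (x : B' × C') (y : B × C) : x • y = (x.1 • y.1, x.2 • y.2) := by
  rw [Algebra.smul_def, halg]
  ext
  · simp [Algebra.smul_def]
  · simp [Algebra.smul_def]

/-- the forward map -/
noncomputable def fwd : omega A (B' × C') (B × C) →+ omega A B' B × omega A C' C :=
  TensorProduct.liftAddHom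
    { toFun := fun y =>
        { toFun := fun φ => (y.1 ⊗ₜ[B'] rB φ, y.2 ⊗ₜ[C'] rC φ)
          map_zero' := by simp
          map_add' := fun φ ψ => by simp [tmul_add] }
      map_zero' := by ext φ <;> simp
      map_add' := fun y z => by ext φ <;> simp [add_tmul] }
    (fun x y φ => by
      change ((x • y).1 ⊗ₜ[B'] rB φ, (x • y).2 ⊗ₜ[C'] rC φ) =
        (y.1 ⊗ₜ[B'] rB (x • φ), y.2 ⊗ₜ[C'] rC (x • φ))
      rw [smul_pair halg, rB_smul, rC_smul, smul_tmul, smul_tmul])

theorem fwd_tmul (y : B × C) (φ : Disc.Omega A (B' × C')) :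
    fwd halg (y ⊗ₜ[B' × C'] φ) = (y.1 ⊗ₜ[B'] rB φ, y.2 ⊗ₜ[C'] rC φ) := rfl

/-- the backward map on the first factor -/
noncomputable def bwdB : omega A B' B →+ omega A (B' × C') (B × C) :=
  TensorProduct.liftAddHom
    { toFun := fun b =>
        { toFun := fun φ => ((b, 0) : B × C) ⊗ₜ[B' × C'] eB φ
          map_zero' := by simp
          map_add' := fun φ ψ => by simp [tmul_add] }
      map_zero' := by
        ext φ
        change ((0, 0) : B × C) ⊗ₜ[B' × C'] eB φ = 0
        rw [← Prod.zero_eq_mk, zero_tmul]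
      map_add' := fun y z => by
        ext φ
        change ((y + z, 0) : B × C) ⊗ₜ[B' × C'] eB φ =
          ((y, 0) : B × C) ⊗ₜ[B' × C'] eB φ + ((z, 0) : B × C) ⊗ₜ[B' × C'] eB φ
        rw [← add_tmul]
        congr 1
        ext <;> simp }
    (fun b' b φ => by
      change ((b' • b, 0) : B × C) ⊗ₜ[B' × C'] eB φ = ((b, 0) : B × C) ⊗ₜ[B' × C'] eB (b' • φ)
      rw [eB_smul b' (0 : C'), ← smul_tmul, smul_pair halg]
      congr 1
      ext <;> simp)

/-- the backward map on the second factor -/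
noncomputable def bwdC : omega A C' C →+ omega A (B' × C') (B × C) :=
  TensorProduct.liftAddHom
    { toFun := fun c =>
        { toFun := fun φ => ((0, c) : B × C) ⊗ₜ[B' × C'] eC φ
          map_zero' := by simp
          map_add' := fun φ ψ => by simp [tmul_add] }
      map_zero' := by
        ext φ
        change ((0, 0) : B × C) ⊗ₜ[B' × C'] eC φ = 0
        rw [← Prod.zero_eq_mk, zero_tmul]
      map_add' := fun y z => by
        ext φ
        change ((0, y + z) : B × C) ⊗ₜ[B' × C'] eC φ =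
          ((0, y) : B × C) ⊗ₜ[B' × C'] eC φ + ((0, z) : B × C) ⊗ₜ[B' × C'] eC φ
        rw [← add_tmul]
        congr 1
        ext <;> simp }
    (fun c' c φ => by
      change ((0, c' • c) : B × C) ⊗ₜ[B' × C'] eC φ = ((0, c) : B × C) ⊗ₜ[B' × C'] eC (c' • φ)
      rw [eC_smul (0 : B') c', ← smul_tmul, smul_pair halg]
      congr 1
      ext <;> simp)

theorem bwdB_tmul (b : B) (φ : Disc.Omega A B') :
    bwdB (C' := C') (C := C) halg (b ⊗ₜ[B'] φ) = ((b, 0) : B × C) ⊗ₜ[B' × C'] eB φ := rfl

theorem bwdC_tmul (c : C) (φ : Disc.Omega A C') :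
    bwdC (B' := B') (B := B) halg (c ⊗ₜ[C'] φ) = ((0, c) : B × C) ⊗ₜ[B' × C'] eC φ := rfl

theorem fwd_bwdB (u : omega A B' B) :
    fwd halg (bwdB (C' := C') (C := C) halg u) = (u, 0) := by
  induction u using TensorProduct.induction_on with
  | zero => rw [map_zero, map_zero]; rfl
  | tmul b φ =>
    rw [bwdB_tmul, fwd_tmul, rB_eB, rC_eB, tmul_zero]
  | add x y hx hy =>
    rw [map_add, map_add, hx, hy]
    ext <;> simp

theorem fwd_bwdC (v : omega A C' C) :
    fwd halg (bwdC (B' := B') (B := B) halg v) = (0, v) := by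
  induction v using TensorProduct.induction_on with
  | zero => rw [map_zero, map_zero]; rfl
  | tmul c φ =>
    rw [bwdC_tmul, fwd_tmul, rC_eC, rB_eC, tmul_zero]
  | add x y hx hy =>
    rw [map_add, map_add, hx, hy]
    ext <;> simp

/-- the backward map -/
noncomputable def bwd : omega A B' B × omega A C' C →+ omega A (B' × C') (B × C) :=
  (bwdB halg).coprod (bwdC halg)

theorem bwd_apply (u : omega A B' B) (v : omega A C' C) :
    bwd halg (u, v) = bwdB halg u + bwdC halg v := rfl

theorem fwd_bwd (w : omega A B' B × omega A C' C) : fwd halg (bwd halg w) = w := by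
  obtain ⟨u, v⟩ := w
  rw [bwd_apply, map_add, fwd_bwdB, fwd_bwdC]
  ext <;> simp

theorem bwd_fwd (t : omega A (B' × C') (B × C)) : bwd halg (fwd halg t) = t := by
  induction t using TensorProduct.induction_on with
  | zero => simp
  | tmul y φ =>
    rw [fwd_tmul, bwd_apply, bwdB_tmul, bwdC_tmul, eB_rB, eC_rC, ← smul_tmul, ← smul_tmul,
      smul_pair halg, smul_pair halg, ← add_tmul]
    congr 1
    ext <;> simp
  | add x y hx hy => rw [map_add, map_add, hx, hy]

theorem fwd_smul (a : A) (t : omega A (B' × C') (B × C)) :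
    fwd halg (a • t) = a • fwd halg t := by
  induction t using TensorProduct.induction_on with
  | zero => simp
  | tmul y φ =>
    rw [smul_tmul', fwd_tmul, fwd_tmul]
    ext
    · change (a • y).1 ⊗ₜ[B'] rB φ = a • (y.1 ⊗ₜ[B'] rB φ)
      rw [smul_tmul']
      rfl
    · change (a • y).2 ⊗ₜ[C'] rC φ = a • (y.2 ⊗ₜ[C'] rC φ)
      rw [smul_tmul']
      rfl
  | add x y hx hy => rw [smul_add, map_add, map_add, hx, hy, smul_add]

/-- `ω_{(B × C)/A} ≃ ω_{B/A} × ω_{C/A}` -/
noncomputable def prodEquiv :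
    omega A (B' × C') (B × C) ≃ₗ[A] omega A B' B × omega A C' C where
  toFun := fwd halg
  invFun := bwd halg
  left_inv := bwd_fwd halg
  right_inv := fwd_bwd halg
  map_add' := (fwd halg).map_add
  map_smul' := fwd_smul halg

theorem prodEquiv_tmul (b : B) (c : C) (φ : Disc.Omega A (B' × C')) :
    prodEquiv halg ((b, c) ⊗ₜ[B' × C'] φ) =
      (b ⊗ₜ[B'] Disc.Omega.mk (φ.toLinearMap ∘ₗ LinearMap.inl A B' C'),
        c ⊗ₜ[C'] Disc.Omega.mk (φ.toLinearMap ∘ₗ LinearMap.inr A B' C')) := rfl

end Groth.Agent.Lib.Helper26.QFD7
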