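import Mathlib
set_option autoImplicit false
universe u
open TensorProduct

namespace Groth.Agent.Lib.Helper26.QFMinimal

section lemma1
variable {A B : Type*} [CommRing A] [CommRing B] [Algebra A B]

lemma isIntegral_of_nil (I : Ideal B) (hI : I ≤ nilradical B) (b : B)
    (h : IsIntegral A (Ideal.Quotient.mk I b)) : IsIntegral A b := by
  obtain ⟨f, hf, hfb⟩ := h
  have h1 : Ideal.Quotient.mk I (Polynomial.eval₂ (algebraMap A B) b f) = 0 := by
    rw [Polynomial.hom_eval₂]
    exact hfb
  rw [Ideal.Quotient.eq_zero_iff_mem] at h1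
  obtain ⟨N, hN⟩ := hI h1
  exact ⟨f ^ N, hf.pow N, by rw [Polynomial.eval₂_pow, hN]⟩

end lemma1

section lemma2
open IsLocalRing
variable {A B : Type*} [CommRing A] [CommRing B] [Algebra A B]

lemma isIntegral_of_krullDimLE_zero [IsLocalRing A] [Ring.KrullDimLE 0 A] [Algebra.FiniteType A B]
    [Finite (PrimeSpectrum B)] : Algebra.IsIntegral A B := by
  have hq : Algebra.QuasiFinite A B := by
    rw [Algebra.QuasiFinite.iff_finite_primesOver]
    intro I _
    exact (Set.finite_range (fun Q : PrimeSpectrum B => Q.asIdeal)).subset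
      (fun Q hQ => ⟨⟨Q, hQ.1⟩, rfl⟩)
  let e : (maximalIdeal A).Fiber B ≃ₐ[A] B ⧸ (maximalIdeal A).map (algebraMap A B) :=
    (Algebra.TensorProduct.congr (.symm <| .ofBijective _
      (Ideal.bijective_algebraMap_quotient_residueField (maximalIdeal A))) .refl).trans <|
    (Algebra.TensorProduct.comm _ _ _).trans
    ((Algebra.TensorProduct.quotIdealMapEquivTensorQuot B (maximalIdeal A)).symm.restrictScalars _)
  have : Module.Finite A (B ⧸ (maximalIdeal A).map (algebraMap A B)) :=
    have : Module.Finite A ((maximalIdeal A).Fiber B) :=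
      .trans (maximalIdeal A).ResidueField _
    .of_surjective e.toLinearMap e.surjective
  have hint : Algebra.IsIntegral A (B ⧸ (maximalIdeal A).map (algebraMap A B)) := inferInstance
  refine ⟨fun b => isIntegral_of_nil _ ?_ b (hint.isIntegral _)⟩
  rw [Ideal.map_le_iff_le_comap, ← Ring.KrullDimLE.nilradical_eq_maximalIdeal]
  exact fun x hx ↦ IsNilpotent.map hx _

end lemma2

section lemma3
variable {R S B : Type*} [CommRing R] [CommRing S] [CommRing B] [Algebra R S] [Algebra S B]

lemma finite_primeSpectrum (p : Ideal R) [p.IsPrime] (hp : p ∈ minimalPrimes R)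
    (hfin : (p.primesOver S).Finite)
    [IsLocalization (Algebra.algebraMapSubmonoid S p.primeCompl) B] :
    Finite (PrimeSpectrum B) := by
  have hinj : Function.Injective (fun Q : PrimeSpectrum B => (Q.asIdeal.comap (algebraMap S B))) := by
    intro Q Q' h
    exact PrimeSpectrum.localization_comap_injective B
      (Algebra.algebraMapSubmonoid S p.primeCompl) (PrimeSpectrum.ext h)
  have hmem : ∀ Q : PrimeSpectrum B, Q.asIdeal.comap (algebraMap S B) ∈ p.primesOver S := by
    intro Q
    refine ⟨inferInstance, ⟨?_⟩⟩
    have hle : (Q.asIdeal.comap (algebraMap S B)).under R ≤ p := by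
      intro r hr
      by_contra hrp
      have hu : IsUnit (algebraMap S B (algebraMap R S r)) :=
        IsLocalization.map_units B (⟨algebraMap R S r, ⟨r, hrp, rfl⟩⟩ :
          Algebra.algebraMapSubmonoid S p.primeCompl)
      exact Q.2.ne_top (Ideal.eq_top_of_isUnit_mem _ hr hu)
    have hprime : ((Q.asIdeal.comap (algebraMap S B)).under R).IsPrime := inferInstance
    exact le_antisymm (hp.2 ⟨hprime, bot_le⟩ hle) hle
  have : Finite (p.primesOver S) := hfin
  exact Finite.of_injective (fun Q : PrimeSpectrum B => (⟨_, hmem Q⟩ : p.primesOver S))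
    (fun Q Q' h => hinj (congrArg Subtype.val h))

end lemma3

section lemma4
variable {R S : Type u} [CommRing R] [CommRing S] [Algebra R S]

lemma finite_away [Algebra.FiniteType R S] (M : Submonoid R)
    (h : ∀ x : S, ∃ m ∈ M, IsIntegral R (m • x)) :
    ∃ g ∈ M, (Localization.awayMap (algebraMap R S) g).Finite := by
  classical
  obtain ⟨s, hs⟩ := Algebra.FiniteType.out (R := R) (A := S)
  choose m hm hint using h
  let g : R := ∏ x ∈ s, m x
  have hg : g ∈ M := Submonoid.prod_mem _ (fun x _ => hm x)
  refine ⟨g, hg, RingHom.finite_iff_isIntegral_and_finiteType.mpr ⟨?_, ?_⟩⟩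
  · let R' := Localization.Away g
    let S' := Localization.Away (algebraMap R S g)
    let φ : R' →+* S' := Localization.awayMap (algebraMap R S) g
    letI : Algebra R' S' := φ.toAlgebra
    have hφ : ∀ r : R, φ (algebraMap R R' r) = algebraMap S S' (algebraMap R S r) := fun r =>
      IsLocalization.map_eq _ r
    haveI : IsScalarTower R R' S' := IsScalarTower.of_algebraMap_eq (fun r => by
      rw [IsScalarTower.algebraMap_apply R S S']
      exact (hφ r).symm)
    have hunit : ∀ x ∈ s, IsUnit (algebraMap R R' (m x)) := by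
      intro x hx
      apply isUnit_of_dvd_unit (y := algebraMap R R' g)
      · exact map_dvd _ (Finset.dvd_prod_of_mem m hx)
      · exact IsLocalization.Away.algebraMap_isUnit g
    have h1 : ∀ x ∈ s, IsIntegral R' (algebraMap S S' x) := by
      intro x hx
      obtain ⟨u, hu⟩ := hunit x hx
      have h2 : IsIntegral R' (algebraMap S S' (m x • x)) :=
        ((hint x).map (IsScalarTower.toAlgHom R S S')).tower_top
      have h3 : algebraMap S S' x = algebraMap R' S' (↑u⁻¹ : R') * algebraMap S S' (m x • x) := by
        rw [Algebra.smul_def, map_mul, ← IsScalarTower.algebraMap_apply R S S',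
          IsScalarTower.algebraMap_apply R R' S', ← hu, ← mul_assoc, ← map_mul]
        simp
      rw [h3]
      exact isIntegral_algebraMap.mul h2
    let C : Subalgebra R S := ((integralClosure R' S').restrictScalars R).comap
      (IsScalarTower.toAlgHom R S S')
    have hC : Algebra.adjoin R (↑s : Set S) ≤ C := Algebra.adjoin_le (fun x hx => h1 x hx)
    rw [hs] at hC
    have h4 : ∀ x : S, IsIntegral R' (algebraMap S S' x) := fun x => hC (Algebra.mem_top)
    show ∀ y : S', IsIntegral R' y
    intro y
    obtain ⟨x, ⟨_, n, rfl⟩, rfl⟩ := IsLocalization.exists_mk'_eq (.powers (algebraMap R S g)) y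
    have h5 : IsLocalization.mk' S' x (⟨(algebraMap R S g) ^ n, n, rfl⟩ : Submonoid.powers (algebraMap R S g))
        = algebraMap S S' x * algebraMap R' S' (IsLocalization.Away.invSelf g ^ n) := by
      rw [IsLocalization.mk'_eq_iff_eq_mul, mul_assoc]
      have : algebraMap R' S' (IsLocalization.Away.invSelf g ^ n) * algebraMap S S' (algebraMap R S g ^ n) = 1 := by
        rw [← map_pow (algebraMap R S), ← IsScalarTower.algebraMap_apply R S S',
          IsScalarTower.algebraMap_apply R R' S', ← map_mul, map_pow, ← mul_pow, mul_comm,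
          IsLocalization.Away.mul_invSelf, one_pow, map_one]
      rw [this, mul_one]
    rw [h5]
    exact (h4 x).mul isIntegral_algebraMap
  · exact RingHom.localization_away_map_finiteType _ _ _ _ _ g
      (RingHom.finiteType_algebraMap.mpr inferInstance)

end lemma4

section main
variable {R S : Type u} [CommRing R] [CommRing S] [Algebra R S]

attribute [local instance] Algebra.TensorProduct.rightAlgebra in
theorem main [Algebra.FiniteType R S] (p : Ideal R) (hp : p ∈ minimalPrimes R)
    (hfin : (p.primesOver S).Finite) :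
    ∃ g : R, g ∉ p ∧ (Localization.awayMap (algebraMap R S) g).Finite := by
  haveI : p.IsPrime := hp.1.1
  let A := Localization.AtPrime p
  let B := A ⊗[R] S
  have : Ring.KrullDimLE 0 A := .of_isLocalization _ hp _
  have : IsLocalization (Algebra.algebraMapSubmonoid S p.primeCompl) B := inferInstance
  have : Finite (PrimeSpectrum B) := finite_primeSpectrum (S := S) p hp hfin
  have hint : Algebra.IsIntegral A B := isIntegral_of_krullDimLE_zero
  obtain ⟨g, hg, hfin⟩ := finite_away (R := R) (S := S) p.primeCompl (by
    intro x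
    obtain ⟨m₁, h1⟩ := IsIntegral.exists_multiple_integral_of_isLocalization p.primeCompl
      (algebraMap S B x) (hint.isIntegral _)
    have h2 : IsIntegral R (algebraMap S B (m₁ • x)) := by
      have : algebraMap S B (m₁ • x) = m₁ • algebraMap S B x :=
        map_smul (IsScalarTower.toAlgHom R S B) (m₁ : R) x
      rw [this]
      exact h1
    obtain ⟨m₂, hm₂, h3⟩ := IsLocalization.exists_isIntegral_smul_of_isIntegral_map p.primeCompl h2
    refine ⟨m₂ * m₁, p.primeCompl.mul_mem hm₂ m₁.2, ?_⟩
    rw [mul_smul]
    exact h3)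
  exact ⟨g, hg, hfin⟩

end main

end Groth.Agent.Lib.Helper26.QFMinimal
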