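import Mathlib
import Groth.Agent.Lib.Lead.ProConsScheme
import Groth.Agent.Lib.Lead.ProConsAffine
import Groth.Agent.Lib.Helper10.QuasiFlat

set_option linter.style.haveILetI false

universe u

open Topology AlgebraicGeometry CategoryTheory CategoryTheory.Limits

namespace Groth.Agent.Lib.Helper26.QFlatLocClosed

open Groth.Agent.Lib.Lead

/-- Every point of the closure of a pro-constructible subset is a specialization of a point of
the subset. -/
theorem exists_specializes_of_mem_closure {Y : Scheme.{u}} {Z : Set Y}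
    (hZ : ProCons.IsProConstructible Z) (y : Y) (hy : y ∈ closure Z) :
    ∃ y₀ ∈ Z, y₀ ⤳ y := by
  have key : ∃ U : Y.Opens, IsAffineOpen U ∧ y ∈ U := by
    obtain ⟨_, ⟨U, hU, rfl⟩, hyU, -⟩ :=
      Y.isBasis_affineOpens.exists_subset_of_mem_open (Set.mem_univ y) isOpen_univ
    exact ⟨U, hU, hyU⟩
  obtain ⟨U, hU, hyU⟩ := key
  have : IsAffine U.toScheme := hU
  obtain ⟨B, g, hg⟩ := exists_range_eq_of_isProConstructible_of_isAffine U.toScheme
    (isProConstructible_preimage U.ι hZ)
  have hcl : (⟨y, hyU⟩ : U.toScheme) ∈ closure (Set.range g) := by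
    rw [hg]
    have := U.ι.isOpenEmbedding.isOpenMap.preimage_closure_eq_closure_preimage
      U.ι.continuous Z
    rw [← this]
    exact hy
  obtain ⟨y₀, hy₀, hsp⟩ :=
    Groth.Agent.Lib.Helper10.QuasiFlat.exists_specializes_of_mem_closure_range g ⟨y, hyU⟩ hcl
  rw [hg] at hy₀
  exact ⟨U.ι y₀, hy₀, hsp.map U.ι.continuous⟩

theorem preimage_closure_eq {X Y : Scheme.{u}} (f : X ⟶ Y)
    (hf : FDesc.IsQuasiFlat f) {Z : Set Y} (hZ : ProCons.IsProConstructible Z) :
    f ⁻¹' closure Z = closure (f ⁻¹' Z) := by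
  apply Set.Subset.antisymm
  · intro x hx
    obtain ⟨y₀, hy₀, hsp⟩ := exists_specializes_of_mem_closure hZ (f x) hx
    obtain ⟨x₀, hx₀, rfl⟩ :=
      Groth.Agent.Lib.Helper10.QuasiFlat.generalizingMap_of_isQuasiFlat f hf hsp
    exact hx₀.mem_closed isClosed_closure (subset_closure hy₀)
  · exact f.continuous.closure_preimage_subset Z

theorem main {X Y : Scheme.{u}} (f : X ⟶ Y)
    (hf : FDesc.IsQuasiFlat f) [Surjective f] [QuasiCompact f] (Z : Set ↥Y) :
    (IsLocallyClosed Z ∧ ProCons.IsProConstructible Z) ↔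
      (IsLocallyClosed (⇑f ⁻¹' Z) ∧ ProCons.IsProConstructible (⇑f ⁻¹' Z)) := by
  constructor
  · rintro ⟨h1, h2⟩
    exact ⟨h1.preimage f.continuous, isProConstructible_preimage f h2⟩
  · rintro ⟨h1, h2⟩
    have hsurj : Function.Surjective f := f.surjective
    have hZ : ProCons.IsProConstructible Z := by
      have := isProConstructible_image_of_quasiCompact f h2
      rwa [Set.image_preimage_eq _ hsurj] at this
    refine ⟨?_, hZ⟩
    have hq : Topology.IsQuotientMap f :=
      Groth.Agent.Lib.Helper10.QuasiFlat.isQuotientMap_of_generalizingMap f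
        (Groth.Agent.Lib.Helper10.QuasiFlat.generalizingMap_of_isQuasiFlat f hf)
    rw [isLocallyClosed_iff_isOpen_coborder] at h1 ⊢
    rw [← hq.isOpen_preimage]
    convert h1 using 1
    simp only [coborder, Set.preimage_compl, Set.preimage_sdiff]
    rw [preimage_closure_eq f hf hZ]
  
end Groth.Agent.Lib.Helper26.QFlatLocClosed
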