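import Mathlib

set_option linter.style.haveILetI false
set_option linter.unusedSectionVars false

namespace Groth.Agent.Lib.Helper26.Quad1

open MvPolynomial

section Theta

variable {κ : Type*} [Field κ] [CharP κ 2]

lemma two_eq_zero' : (2 : κ) = 0 := by
  have := CharP.cast_eq_zero κ 2
  exact_mod_cast this

lemma add_self' (x : κ) : x + x = 0 := by
  have : x + x = 2 * x := by ring
  rw [this, two_eq_zero', zero_mul]

/-- the subfield `E(z) = {e0 + e1 z}` when `E` contains all squares. -/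
def T (E : Subfield κ) (hE : ∀ z : κ, z ^ 2 ∈ E) (z : κ) : Subfield κ where
  carrier := {w | ∃ e0 ∈ E, ∃ e1 ∈ E, w = e0 + e1 * z}
  mul_mem' := by
    rintro _ _ ⟨e0, he0, e1, he1, rfl⟩ ⟨f0, hf0, f1, hf1, rfl⟩
    refine ⟨e0 * f0 + e1 * f1 * z ^ 2, E.add_mem (E.mul_mem he0 hf0)
      (E.mul_mem (E.mul_mem he1 hf1) (hE z)), e0 * f1 + e1 * f0,
      E.add_mem (E.mul_mem he0 hf1) (E.mul_mem he1 hf0), by ring⟩
  one_mem' := ⟨1, E.one_mem, 0, E.zero_mem, by ring⟩
  add_mem' := by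
    rintro _ _ ⟨e0, he0, e1, he1, rfl⟩ ⟨f0, hf0, f1, hf1, rfl⟩
    exact ⟨e0 + f0, E.add_mem he0 hf0, e1 + f1, E.add_mem he1 hf1, by ring⟩
  zero_mem' := ⟨0, E.zero_mem, 0, E.zero_mem, by ring⟩
  neg_mem' := by
    rintro _ ⟨e0, he0, e1, he1, rfl⟩
    exact ⟨-e0, E.neg_mem he0, -e1, E.neg_mem he1, by ring⟩
  inv_mem' := by
    rintro _ ⟨e0, he0, e1, he1, rfl⟩
    set w := e0 + e1 * z with hw
    by_cases h0 : w = 0
    · rw [h0, inv_zero]; exact ⟨0, E.zero_mem, 0, E.zero_mem, by ring⟩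
    · have hu : (w ^ 2)⁻¹ ∈ E := E.inv_mem (hE w)
      refine ⟨e0 * (w ^ 2)⁻¹, E.mul_mem he0 hu, e1 * (w ^ 2)⁻¹, E.mul_mem he1 hu, ?_⟩
      have : w⁻¹ = w * (w ^ 2)⁻¹ := by
        field_simp
      rw [this, hw]; ring

lemma le_T (E : Subfield κ) (hE : ∀ z : κ, z ^ 2 ∈ E) (z : κ) : E ≤ T E hE z :=
  fun e he => ⟨e, he, 0, E.zero_mem, by ring⟩

lemma self_mem_T (E : Subfield κ) (hE : ∀ z : κ, z ^ 2 ∈ E) (z : κ) : z ∈ T E hE z :=
  ⟨0, E.zero_mem, 1, E.one_mem, by ring⟩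

/-- In characteristic 2, a non-square `s` admits a derivation `θ` with `θ s = 1`. -/
theorem exists_theta (s : κ) (hs : ¬ ∃ r : κ, r ^ 2 = s) :
    ∃ θ : κ → κ, (∀ x y, θ (x + y) = θ x + θ y) ∧ (∀ x y, θ (x * y) = x * θ y + y * θ x) ∧
      θ s = 1 := by
  classical
  -- Zorn
  let S : Set (Subfield κ) := {E | (∀ z : κ, z ^ 2 ∈ E) ∧ s ∉ E}
  have h0 : (frobenius κ 2).fieldRange ∈ S := by
    refine ⟨fun z => ⟨z, by simp [frobenius_def]⟩, ?_⟩
    rintro ⟨r, hr⟩
    exact hs ⟨r, by simpa [frobenius_def] using hr⟩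
  obtain ⟨E, -, hEmax⟩ := zorn_le_nonempty₀ S (by
    intro c hc hchain y hy
    refine ⟨sSup c, ⟨fun z => ?_, ?_⟩, fun z hz => le_sSup hz⟩
    · exact (le_sSup hy : y ≤ sSup c) ((hc hy).1 z)
    · intro hmem
      rw [Subfield.mem_sSup_of_directedOn ⟨y, hy⟩ hchain.directedOn] at hmem
      obtain ⟨E', hE', hs'⟩ := hmem
      exact (hc hE').2 hs') _ h0
  have hE : ∀ z : κ, z ^ 2 ∈ E := hEmax.prop.1
  have hsE : s ∉ E := hEmax.prop.2
  -- every element is e0 + e1 s
  have key : ∀ z : κ, ∃ e0 ∈ E, ∃ e1 ∈ E, z = e0 + e1 * s := by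
    intro z
    by_cases hz : z ∈ E
    · exact ⟨z, hz, 0, E.zero_mem, by ring⟩
    · have hsT : s ∈ T E hE z := by
        by_contra hcon
        have : T E hE z ∈ S := ⟨fun w => le_T E hE z (hE w), hcon⟩
        exact hz (hEmax.le_of_ge this (le_T E hE z) (self_mem_T E hE z))
      obtain ⟨e0, he0, e1, he1, h⟩ := hsT
      have he1' : e1 ≠ 0 := by
        rintro rfl
        apply hsE; rw [h]; simpa using he0
      refine ⟨-e0 * e1⁻¹, E.mul_mem (E.neg_mem he0) (E.inv_mem he1), e1⁻¹, E.inv_mem he1, ?_⟩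
      rw [h]; field_simp; ring
  have uniq : ∀ e0 ∈ E, ∀ e1 ∈ E, ∀ f0 ∈ E, ∀ f1 ∈ E, e0 + e1 * s = f0 + f1 * s →
      e0 = f0 ∧ e1 = f1 := by
    intro e0 he0 e1 he1 f0 hf0 f1 hf1 h
    have h1 : e1 = f1 := by
      by_contra hne
      have hne' : e1 - f1 ≠ 0 := sub_ne_zero.mpr hne
      apply hsE
      have : s = (f0 - e0) * (e1 - f1)⁻¹ := by
        field_simp
        linear_combination h
      rw [this]
      exact E.mul_mem (E.sub_mem hf0 he0) (E.inv_mem (E.sub_mem he1 hf1))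
    subst h1
    exact ⟨by simpa using h, rfl⟩
  choose c0 hc0 c1 hc1 hc using key
  refine ⟨c1, ?_, ?_, ?_⟩
  · intro x y
    have := uniq (c0 (x + y)) (hc0 _) (c1 (x + y)) (hc1 _) (c0 x + c0 y)
      (E.add_mem (hc0 _) (hc0 _)) (c1 x + c1 y) (E.add_mem (hc1 _) (hc1 _)) (by
        rw [← hc (x + y)]; nth_rewrite 1 [hc x, hc y]; ring)
    exact this.2
  · intro x y
    have h2 : (2 : κ) = 0 := two_eq_zero'
    have := uniq (c0 (x * y)) (hc0 _) (c1 (x * y)) (hc1 _) (c0 x * c0 y + c1 x * c1 y * s ^ 2)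
      (E.add_mem (E.mul_mem (hc0 _) (hc0 _)) (E.mul_mem (E.mul_mem (hc1 _) (hc1 _)) (hE s)))
      (c0 x * c1 y + c1 x * c0 y)
      (E.add_mem (E.mul_mem (hc0 _) (hc1 _)) (E.mul_mem (hc1 _) (hc0 _))) (by
        rw [← hc (x * y)]; nth_rewrite 1 [hc x, hc y]; ring)
    rw [this.2]
    nth_rewrite 3 [hc x]
    nth_rewrite 4 [hc y]
    have : c1 x * c1 y * s + c1 x * c1 y * s = 0 := add_self' _
    linear_combination (-1 : κ) * this
  · have := uniq (c0 s) (hc0 _) (c1 s) (hc1 _) 0 E.zero_mem 1 E.one_mem (by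
      rw [← hc s]; ring)
    exact this.2

end Theta

section Ext

variable {κ : Type*} [Field κ] {σ : Type*}

/-- derivation-like maps send `I^2` into `I`. -/
lemma deriv_mem {R : Type*} [CommRing R] (D : R → R) (hadd : ∀ x y, D (x + y) = D x + D y)
    (hmul : ∀ x y, D (x * y) = x * D y + y * D x) (I : Ideal R) {p : R} (hp : p ∈ I ^ 2) :
    D p ∈ I := by
  have h0 : D 0 = 0 := by
    have := hadd 0 0
    simp only [add_zero] at this
    have h2 : D 0 + D 0 = D 0 + 0 := by rw [add_zero]; exact this.symm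
    exact add_left_cancel h2
  rw [pow_two] at hp
  refine Submodule.mul_induction_on hp ?_ ?_
  · intro g hg h hh
    rw [hmul]
    exact I.add_mem (I.mul_mem_right _ hg) (I.mul_mem_right _ hh)
  · intro x y hx hy
    rw [hadd]; exact I.add_mem hx hy

variable (θ : κ → κ) (hadd : ∀ x y, θ (x + y) = θ x + θ y)
  (hmul : ∀ x y, θ (x * y) = x * θ y + y * θ x)

include hadd in
lemma theta_zero : θ 0 = 0 := by
  have := hadd 0 0
  simp only [add_zero] at this
  have h2 : θ 0 + θ 0 = θ 0 + 0 := by rw [add_zero]; exact this.symm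
  exact add_left_cancel h2

include hmul in
lemma theta_one : θ 1 = 0 := by
  have := hmul 1 1
  simp only [mul_one, one_mul] at this
  have h2 : θ 1 + θ 1 = θ 1 + 0 := by rw [add_zero]; exact this.symm
  exact add_left_cancel h2

/-- the ring hom `c ↦ C c + C (θ c) ε`. -/
noncomputable def psi0 : κ →+* TrivSqZeroExt (MvPolynomial σ κ) (MvPolynomial σ κ) where
  toFun c := TrivSqZeroExt.inl (C c) + TrivSqZeroExt.inr (C (θ c))
  map_one' := by
    refine TrivSqZeroExt.ext ?_ ?_ <;> simp [theta_one θ hmul]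
  map_mul' x y := by
    refine TrivSqZeroExt.ext ?_ ?_
    · simp
    · simp [hmul]; ring
  map_zero' := by
    refine TrivSqZeroExt.ext ?_ ?_ <;> simp [theta_zero θ hadd]
  map_add' x y := by
    refine TrivSqZeroExt.ext ?_ ?_
    · simp
    · simp [hadd]

/-- `p ↦ p + θ̃(p) ε`. -/
noncomputable def extHom : MvPolynomial σ κ →+* TrivSqZeroExt (MvPolynomial σ κ) (MvPolynomial σ κ) :=
  eval₂Hom (psi0 θ hadd hmul) (fun i => TrivSqZeroExt.inl (X i))

lemma fst_extHom (p : MvPolynomial σ κ) : (extHom θ hadd hmul p).fst = p := by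
  have : (TrivSqZeroExt.fstHom (MvPolynomial σ κ) (MvPolynomial σ κ) (MvPolynomial σ κ)).toRingHom.comp
      (extHom θ hadd hmul) = RingHom.id _ := by
    apply MvPolynomial.ringHom_ext
    · intro c; simp [extHom, psi0]
    · intro i; simp [extHom]
  exact congrArg (fun f => f p) this

/-- the coefficientwise extension of `θ`. -/
noncomputable def ext (p : MvPolynomial σ κ) : MvPolynomial σ κ := (extHom θ hadd hmul p).snd

lemma ext_add (p r : MvPolynomial σ κ) :
    ext θ hadd hmul (p + r) = ext θ hadd hmul p + ext θ hadd hmul r := by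
  simp [ext]

lemma ext_mul (p r : MvPolynomial σ κ) :
    ext θ hadd hmul (p * r) = p * ext θ hadd hmul r + r * ext θ hadd hmul p := by
  simp [ext, fst_extHom, mul_comm]

lemma ext_C (c : κ) : ext θ hadd hmul (C c : MvPolynomial σ κ) = C (θ c) := by
  simp [ext, extHom, psi0]

lemma ext_X (i : σ) : ext θ hadd hmul (X i : MvPolynomial σ κ) = 0 := by
  simp [ext, extHom]

lemma ext_X_sq (i : σ) : ext θ hadd hmul ((X i : MvPolynomial σ κ) ^ 2) = 0 := by
  rw [pow_two, ext_mul, ext_X]; simp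

end Ext

end Groth.Agent.Lib.Helper26.Quad1
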