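import Groth.Agent.Lib.Helper26.Quad1

set_option linter.style.haveILetI false
set_option linter.unusedSectionVars false

namespace Groth.Agent.Lib.Helper26.Quad2

open MvPolynomial

variable {κ : Type*} [Field κ]

/-- colength greater than one. -/
def Big (I : Ideal (MvPolynomial (Fin 2) κ)) : Prop :=
  ¬ (Module.Finite κ (MvPolynomial (Fin 2) κ ⧸ I) ∧
    Module.finrank κ (MvPolynomial (Fin 2) κ ⧸ I) ≤ 1)

lemma fin2 (k k' i : Fin 2) (h : k' ≠ k) : i = k ∨ i = k' := by
  fin_cases k <;> fin_cases k' <;> fin_cases i <;> simp_all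

lemma sub_eval_mem (I : Ideal (MvPolynomial (Fin 2) κ)) (pt : Fin 2 → κ)
    (h : ∀ i, X i - C (pt i) ∈ I) (p : MvPolynomial (Fin 2) κ) : p - C (eval pt p) ∈ I := by
  induction p using MvPolynomial.induction_on with
  | C a => simp
  | add p q hp hq =>
    have : p + q - C (eval pt (p + q)) = (p - C (eval pt p)) + (q - C (eval pt q)) := by
      simp only [map_add]; ring
    rw [this]; exact I.add_mem hp hq
  | mul_X p i hp =>
    have : p * X i - C (eval pt (p * X i)) =
        (p - C (eval pt p)) * X i + C (eval pt p) * (X i - C (pt i)) := by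
      simp only [map_mul, eval_X]; ring
    rw [this]; exact I.add_mem (I.mul_mem_right _ hp) (I.mul_mem_left _ (h i))

lemma not_big_of_point (I : Ideal (MvPolynomial (Fin 2) κ)) (pt : Fin 2 → κ)
    (h : ∀ i, X i - C (pt i) ∈ I) : ¬ Big I := by
  intro hb
  apply hb
  have hsurj : Function.Surjective (Algebra.linearMap κ (MvPolynomial (Fin 2) κ ⧸ I)) := by
    intro x
    obtain ⟨p, rfl⟩ := Ideal.Quotient.mk_surjective x
    refine ⟨eval pt p, ?_⟩
    rw [Algebra.linearMap_apply]
    change Ideal.Quotient.mk I (C (eval pt p)) = _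
    rw [eq_comm, Ideal.Quotient.eq]
    exact sub_eval_mem I pt h p
  have hfin : Module.Finite κ (MvPolynomial (Fin 2) κ ⧸ I) := Module.Finite.of_surjective _ hsurj
  refine ⟨hfin, ?_⟩
  have := LinearMap.finrank_le_finrank_of_surjective hsurj
  simpa using this

lemma C_notMem_of_big {I : Ideal (MvPolynomial (Fin 2) κ)} (hI : Big I) {c : κ}
    (hc : C c ∈ I) : c = 0 := by
  by_contra hne
  apply hI
  have htop : I = ⊤ := by
    rw [Ideal.eq_top_iff_one]
    have : (1 : MvPolynomial (Fin 2) κ) = C c⁻¹ * C c := by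
      rw [← C_mul, inv_mul_cancel₀ hne, C_1]
    rw [this]; exact I.mul_mem_left _ hc
  subst htop
  have : Subsingleton (MvPolynomial (Fin 2) κ ⧸ (⊤ : Ideal (MvPolynomial (Fin 2) κ))) :=
    Ideal.Quotient.subsingleton_iff.mpr rfl
  refine ⟨inferInstance, ?_⟩
  rw [Module.finrank_zero_of_subsingleton]; exact Nat.zero_le _

/-- evaluation `X k ↦ lam`, `X k' ↦ t`. -/
noncomputable def ev (k : Fin 2) (lam : Polynomial κ) :
    MvPolynomial (Fin 2) κ →ₐ[κ] Polynomial κ :=
  aeval (fun i => if i = k then lam else Polynomial.X)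

/-- `t ↦ X k'`. -/
noncomputable def Psi (k' : Fin 2) : Polynomial κ →ₐ[κ] MvPolynomial (Fin 2) κ :=
  Polynomial.aeval (X k')

@[simp] lemma ev_X_self (k : Fin 2) (lam : Polynomial κ) : ev k lam (X k) = lam := by
  simp [ev]

lemma ev_X_other (k k' : Fin 2) (hk : k' ≠ k) (lam : Polynomial κ) :
    ev k lam (X k') = Polynomial.X := by
  simp [ev, hk]

@[simp] lemma ev_C (k : Fin 2) (lam : Polynomial κ) (c : κ) : ev k lam (C c) = Polynomial.C c := by
  simp [ev]

@[simp] lemma Psi_X (k' : Fin 2) : Psi k' (Polynomial.X : Polynomial κ) = X k' := by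
  simp [Psi]

@[simp] lemma Psi_C (k' : Fin 2) (c : κ) : Psi k' (Polynomial.C c : Polynomial κ) = C c := by
  simp [Psi]

lemma ev_Psi (k k' : Fin 2) (hk : k' ≠ k) (lam r : Polynomial κ) :
    ev k lam (Psi k' r) = r := by
  have : ((ev k lam).comp (Psi k')) = AlgHom.id κ _ := by
    apply Polynomial.algHom_ext
    simp [ev_X_other k k' hk]
  exact congrArg (fun f => f r) this

lemma pderiv_Psi (k k' : Fin 2) (hk : k' ≠ k) (r : Polynomial κ) :
    pderiv k (Psi k' r) = 0 := by
  induction r using Polynomial.induction_on' with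
  | add p q hp hq => simp [hp, hq]
  | monomial n a =>
    rw [← Polynomial.C_mul_X_pow_eq_monomial]
    have h0 : pderiv k (X k' : MvPolynomial (Fin 2) κ) = 0 := pderiv_X_of_ne hk
    simp only [map_mul, map_pow, Psi_C, Psi_X, Derivation.leibniz, Derivation.leibniz_pow,
      pderiv_C, h0]
    simp

lemma sub_Psi_ev_mem (k k' : Fin 2) (hk : k' ≠ k) (lam : Polynomial κ)
    (p : MvPolynomial (Fin 2) κ) :
    p - Psi k' (ev k lam p) ∈ Ideal.span {X k - Psi k' lam} := by
  induction p using MvPolynomial.induction_on with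
  | C a => simp
  | add p q hp hq =>
    have : p + q - Psi k' (ev k lam (p + q)) =
        (p - Psi k' (ev k lam p)) + (q - Psi k' (ev k lam q)) := by
      simp only [map_add]; ring
    rw [this]; exact Ideal.add_mem _ hp hq
  | mul_X p i hp =>
    have : p * X i - Psi k' (ev k lam (p * X i)) =
        (p - Psi k' (ev k lam p)) * X i + Psi k' (ev k lam p) * (X i - Psi k' (ev k lam (X i))) := by
      simp only [map_mul]; ring
    rw [this]
    refine Ideal.add_mem _ (Ideal.mul_mem_right _ _ hp) (Ideal.mul_mem_left _ _ ?_)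
    rcases fin2 k k' i hk with rfl | rfl
    · rw [ev_X_self]; exact Ideal.mem_span_singleton_self _
    · rw [ev_X_other _ _ hk, Psi_X, sub_self]; exact Ideal.zero_mem _


theorem lemmaL (k k' : Fin 2) (hk : k' ≠ k) (lam : Polynomial κ)
    (I : Ideal (MvPolynomial (Fin 2) κ)) (hI : Big I) (hl : X k - Psi k' lam ∈ I)
    {p : MvPolynomial (Fin 2) κ} (hp : p ∈ I ^ 2) :
    ∃ F : Polynomial κ, (F = 0 ∨ 2 ≤ F.natDegree) ∧ F ^ 2 ∣ ev k lam p ∧
      F ∣ ev k lam (pderiv k p) := by
  set ℓ := X k - Psi k' lam with hℓ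
  have hsurj : Function.Surjective (ev k lam) := fun r => ⟨Psi k' r, ev_Psi k k' hk lam r⟩
  obtain ⟨F, hF⟩ : ∃ F, Ideal.map (ev k lam) I = Ideal.span {F} :=
    (IsPrincipalIdealRing.principal _).principal
  have hFmem : F ∈ Ideal.map (ev k lam) I := by rw [hF]; exact Ideal.mem_span_singleton_self F
  obtain ⟨p0, hp0, hp0F⟩ := (Ideal.mem_map_iff_of_surjective _ hsurj).mp hFmem
  have hspan : Ideal.span {ℓ} ≤ I := (Ideal.span_singleton_le_iff_mem _).mpr hl
  have hPF : Psi k' F ∈ I := by
    have := hspan (sub_Psi_ev_mem k k' hk lam p0)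
    rw [hp0F] at this
    have h2 : Psi k' F = p0 - (p0 - Psi k' F) := by ring
    rw [h2]; exact I.sub_mem hp0 this
  have hIle : I ≤ Ideal.span {ℓ, Psi k' F} := by
    intro r hr
    have h1 : ev k lam r ∈ Ideal.span {F} := by rw [← hF]; exact Ideal.mem_map_of_mem _ hr
    obtain ⟨r', hr'⟩ := Ideal.mem_span_singleton'.mp h1
    have h2 : r = (r - Psi k' (ev k lam r)) + Psi k' r' * Psi k' F := by
      rw [← map_mul, hr']; ring
    rw [h2]
    refine Ideal.add_mem _ ?_ ?_
    · exact (Ideal.span_mono (Set.singleton_subset_iff.mpr (Set.mem_insert _ _)))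
        (sub_Psi_ev_mem k k' hk lam r)
    · exact Ideal.mul_mem_left _ _ (Ideal.subset_span (Set.mem_insert_of_mem _ rfl))
  have hp' : p ∈ Ideal.span {ℓ, Psi k' F} ^ 2 := Ideal.pow_right_mono hIle 2 hp
  rw [pow_two, Ideal.span_pair_mul_span_pair] at hp'
  obtain ⟨A, B, B', C', hABC⟩ : ∃ A B B' C', p = A * (ℓ * ℓ) + B * (ℓ * Psi k' F) +
      B' * (Psi k' F * ℓ) + C' * (Psi k' F * Psi k' F) := by
    rw [Ideal.mem_span_insert] at hp'; obtain ⟨A, z, hz, rfl⟩ := hp'
    rw [Ideal.mem_span_insert] at hz; obtain ⟨B, z, hz, rfl⟩ := hz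
    rw [Ideal.mem_span_insert] at hz; obtain ⟨B', z, hz, rfl⟩ := hz
    rw [Ideal.mem_span_singleton'] at hz; obtain ⟨C', rfl⟩ := hz
    exact ⟨A, B, B', C', by ring⟩
  have hevℓ : ev k lam ℓ = 0 := by
    rw [hℓ, map_sub, ev_X_self, ev_Psi k k' hk, sub_self]
  have hdℓ : pderiv k ℓ = 1 := by
    rw [hℓ, map_sub, pderiv_X_self, pderiv_Psi k k' hk, sub_zero]
  have hdΨ : pderiv k (Psi k' F) = 0 := pderiv_Psi k k' hk F
  refine ⟨F, ?_, ?_, ?_⟩
  · by_contra hcon
    push Not at hcon
    obtain ⟨hF0, hdeg⟩ := hcon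
    obtain ⟨u1, u0, hFeq⟩ := Polynomial.exists_eq_X_add_C_of_natDegree_le_one
      (show F.natDegree ≤ 1 by omega)
    have hPF' : C u1 * X k' + C u0 ∈ I := by
      have : Psi k' F = C u1 * X k' + C u0 := by rw [hFeq]; simp
      rw [← this]; exact hPF
    by_cases hu1 : u1 = 0
    · subst hu1
      have : C u0 ∈ I := by simpa using hPF'
      have := C_notMem_of_big hI this
      subst this
      apply hF0; rw [hFeq]; simp
    · set t0 : κ := -u0 / u1 with ht0
      have h1 : X k' - C t0 ∈ I := by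
        have : X k' - C t0 = C u1⁻¹ * (C u1 * X k' + C u0) := by
          rw [mul_add, ← mul_assoc, ← C_mul, ← C_mul, inv_mul_cancel₀ hu1, C_1, one_mul, ht0,
            sub_eq_add_neg, ← C_neg]
          congr 2; field_simp
        rw [this]; exact I.mul_mem_left _ hPF'
      have h2 : X k - C (Polynomial.eval t0 lam) ∈ I := by
        obtain ⟨r, hr⟩ := Polynomial.X_sub_C_dvd_sub_C_eval (a := t0) (p := lam)
        have h3 : Psi k' lam - C (Polynomial.eval t0 lam) = (X k' - C t0) * Psi k' r := by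
          have := congrArg (Psi k') hr
          simpa using this
        have h4 : X k - C (Polynomial.eval t0 lam) = ℓ + (X k' - C t0) * Psi k' r := by
          rw [← h3, hℓ]; ring
        rw [h4]; exact I.add_mem hl (I.mul_mem_right _ h1)
      refine not_big_of_point I (fun i => if i = k then Polynomial.eval t0 lam else t0) ?_ hI
      intro i
      rcases fin2 k k' i hk with rfl | rfl
      · simpa using h2
      · simpa [hk] using h1
  · refine ⟨ev k lam C', ?_⟩
    rw [hABC]
    simp only [map_add, map_mul, hevℓ, ev_Psi k k' hk]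
    ring
  · refine ⟨ev k lam B + ev k lam B' + F * ev k lam (pderiv k C'), ?_⟩
    rw [hABC]
    simp only [map_add, Derivation.leibniz, smul_eq_mul, map_mul, hdℓ, hdΨ, hevℓ,
      ev_Psi k k' hk, map_one, map_zero]
    ring


lemma eq_zero_of_sq_dvd {F p0 : Polynomial κ} (hF : F = 0 ∨ 2 ≤ F.natDegree) (hd : F ^ 2 ∣ p0)
    (hdeg : p0.natDegree ≤ 2) : p0 = 0 := by
  rcases hF with rfl | hF
  · simpa using hd
  · by_contra hne
    have := Polynomial.natDegree_le_of_dvd hd hne
    rw [Polynomial.natDegree_pow] at this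
    omega

lemma eq_zero_of_dvd {F p0 : Polynomial κ} (hF : F = 0 ∨ 2 ≤ F.natDegree) (hd : F ∣ p0)
    (hdeg : p0.natDegree ≤ 1) : p0 = 0 := by
  rcases hF with rfl | hF
  · simpa using hd
  · by_contra hne
    have := Polynomial.natDegree_le_of_dvd hd hne
    omega

theorem quad_of_linear (k k' : Fin 2) (hk : k' ≠ k) (g h : κ)
    (I : Ideal (MvPolynomial (Fin 2) κ)) (hI : Big I)
    (hl : X k - C g - C h * X k' ∈ I) (a b c d e f : κ)
    (hq : C a + C b * X k' + C c * X k + C d * X k' ^ 2 + C e * X k' * X k + C f * X k ^ 2 ∈ I ^ 2) :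
    (C a + C b * X k' + C c * X k + C d * X k' ^ 2 + C e * X k' * X k + C f * X k ^ 2 :
      MvPolynomial (Fin 2) κ) = C f * (X k - C g - C h * X k') ^ 2 := by
  set lam : Polynomial κ := Polynomial.C g + Polynomial.C h * Polynomial.X with hlam
  have hPl : Psi k' lam = C g + C h * X k' := by simp [hlam]
  have hl' : X k - Psi k' lam ∈ I := by
    rw [hPl]
    have : X k - (C g + C h * X k') = X k - C g - C h * X k' := by ring
    rw [this]; exact hl
  obtain ⟨F, hF, h1, h2⟩ := lemmaL k k' hk lam I hI hl' hq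
  have hX' : pderiv k (X k' : MvPolynomial (Fin 2) κ) = 0 := pderiv_X_of_ne hk
  have hd : pderiv k (C a + C b * X k' + C c * X k + C d * X k' ^ 2 + C e * X k' * X k +
      C f * X k ^ 2 : MvPolynomial (Fin 2) κ) = C c + C e * X k' + 2 * C f * X k := by
    simp only [map_add, Derivation.leibniz, Derivation.leibniz_pow, pderiv_C, pderiv_X_self, hX',
      smul_eq_mul, smul_zero, mul_zero, zero_add, add_zero, mul_one, nsmul_eq_mul]
    ring
  have e1 : ev k lam (C a + C b * X k' + C c * X k + C d * X k' ^ 2 + C e * X k' * X k +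
      C f * X k ^ 2) = Polynomial.C a + Polynomial.C b * Polynomial.X + Polynomial.C c * lam +
      Polynomial.C d * Polynomial.X ^ 2 + Polynomial.C e * Polynomial.X * lam +
      Polynomial.C f * lam ^ 2 := by
    simp only [map_add, map_mul, map_pow, ev_C, ev_X_self, ev_X_other k k' hk]
  have e2 : ev k lam (C c + C e * X k' + 2 * C f * X k) =
      Polynomial.C c + Polynomial.C e * Polynomial.X + 2 * Polynomial.C f * lam := by
    simp only [map_add, map_mul, ev_C, ev_X_self, ev_X_other k k' hk, map_ofNat]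
  rw [e1] at h1
  rw [hd, e2] at h2
  have z1 := eq_zero_of_sq_dvd hF h1 (by rw [hlam]; compute_degree)
  have z2 := eq_zero_of_dvd hF h2 (by rw [hlam]; compute_degree)
  have key : (C a + C b * X k' + C c * X k + C d * X k' ^ 2 + C e * X k' * X k + C f * X k ^ 2 :
      MvPolynomial (Fin 2) κ) =
      Psi k' (Polynomial.C a + Polynomial.C b * Polynomial.X + Polynomial.C c * lam +
      Polynomial.C d * Polynomial.X ^ 2 + Polynomial.C e * Polynomial.X * lam +
      Polynomial.C f * lam ^ 2) +
      Psi k' (Polynomial.C c + Polynomial.C e * Polynomial.X + 2 * Polynomial.C f * lam) *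
        (X k - C g - C h * X k') + C f * (X k - C g - C h * X k') ^ 2 := by
    simp only [map_add, map_mul, map_pow, Psi_C, Psi_X, hPl, map_ofNat]
    ring
  rw [key, z1, z2]
  simp

end Groth.Agent.Lib.Helper26.Quad2
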