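import Groth.Agent.Lib.Helper26.Quad2

set_option linter.style.haveILetI false
set_option linter.unusedSectionVars false

namespace Groth.Agent.Lib.Helper26.Quad3

open MvPolynomial Groth.Agent.Lib.Helper26.Quad1 Groth.Agent.Lib.Helper26.Quad2

variable {κ : Type*} [Field κ]

/-- a scalar times the square of an affine-linear form. -/
def IsSq (q : MvPolynomial (Fin 2) κ) : Prop :=
  ∃ j g h i : κ, q = C j * (C g + C h * X 0 + C i * X 1) ^ 2

lemma IsSq.smul {q : MvPolynomial (Fin 2) κ} (hq : IsSq q) (c : κ) : IsSq (C c * q) := by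
  obtain ⟨j, g, h, i, rfl⟩ := hq
  exact ⟨c * j, g, h, i, by rw [C_mul]; ring⟩

lemma isSq_of_form : ∀ k k' : Fin 2, k' ≠ k → ∀ (j g c' c : κ) (q : MvPolynomial (Fin 2) κ),
    q = C j * (C g + C c' * X k' + C c * X k) ^ 2 → IsSq q := by
  rw [Fin.forall_fin_two]
  constructor <;> rw [Fin.forall_fin_two] <;> constructor <;> intro hk j g c' c q hq
  · exact absurd rfl hk
  · exact ⟨j, g, c, c', by rw [hq]; ring⟩
  · exact ⟨j, g, c', c, hq⟩
  · exact absurd rfl hk

theorem isSq_of_linear (k k' : Fin 2) (hk : k' ≠ k) (I : Ideal (MvPolynomial (Fin 2) κ))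
    (hI : Big I) (g h i : κ) (hne : ¬ (g = 0 ∧ h = 0 ∧ i = 0))
    (hl : C g + C h * X k' + C i * X k ∈ I) (a b c d e f : κ)
    (hq : C a + C b * X k' + C c * X k + C d * X k' ^ 2 + C e * X k' * X k + C f * X k ^ 2 ∈ I ^ 2) :
    IsSq (C a + C b * X k' + C c * X k + C d * X k' ^ 2 + C e * X k' * X k + C f * X k ^ 2) := by
  by_cases hi : i = 0
  · subst hi
    by_cases hh : h = 0
    · subst hh
      have : C g ∈ I := by simpa using hl
      have := C_notMem_of_big hI this
      exact absurd ⟨this, rfl, rfl⟩ hne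
    · have hl' : X k' - C (-g / h) - C 0 * X k ∈ I := by
        have : X k' - C (-g / h) - C 0 * X k = C h⁻¹ * (C g + C h * X k' + C 0 * X k) := by
          simp only [C_0, zero_mul, add_zero, sub_zero, mul_add, ← mul_assoc, ← C_mul,
            inv_mul_cancel₀ hh, C_1, one_mul]
          rw [sub_eq_add_neg, ← C_neg, add_comm]
          congr 2; field_simp
        rw [this]; exact I.mul_mem_left _ hl
      have hq' : C a + C c * X k + C b * X k' + C f * X k ^ 2 + C e * X k * X k' +
          C d * X k' ^ 2 ∈ I ^ 2 := by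
        convert hq using 1; ring
      have := quad_of_linear k' k hk.symm (-g / h) 0 I hI hl' a c b f e d hq'
      refine isSq_of_form k' k hk.symm d (-(-g / h)) (-0) 1 _ ?_
      have e1 : (C a + C b * X k' + C c * X k + C d * X k' ^ 2 + C e * X k' * X k + C f * X k ^ 2 :
          MvPolynomial (Fin 2) κ) = C a + C c * X k + C b * X k' + C f * X k ^ 2 +
          C e * X k * X k' + C d * X k' ^ 2 := by ring
      rw [e1, this]
      simp only [C_neg, C_1]; ring
  · have hl' : X k - C (-g / i) - C (-h / i) * X k' ∈ I := by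
      have : X k - C (-g / i) - C (-h / i) * X k' = C i⁻¹ * (C g + C h * X k' + C i * X k) := by
        simp only [mul_add, ← mul_assoc, ← C_mul, inv_mul_cancel₀ hi, C_1, one_mul]
        have e1 : (-g / i) = -(i⁻¹ * g) := by field_simp
        have e2 : (-h / i) = -(i⁻¹ * h) := by field_simp
        rw [e1, e2, C_neg, C_neg]; ring
      rw [this]; exact I.mul_mem_left _ hl
    have := quad_of_linear k k' hk (-g / i) (-h / i) I hI hl' a b c d e f hq
    refine isSq_of_form k k' hk f (-(-g / i)) (-(-h / i)) 1 _ ?_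
    rw [this]
    simp only [C_neg, C_1]; ring


/-- degree contradiction used twice. -/
lemma sq_contra {S : Type*} [Field S] (φ : MvPolynomial (Fin 2) κ →+* Polynomial S)
    (I : Ideal (MvPolynomial (Fin 2) κ)) (β : S)
    (hI : Ideal.map φ I ≤ Ideal.span {Polynomial.X ^ 2 + Polynomial.C β})
    (q : MvPolynomial (Fin 2) κ) (hq : q ∈ I ^ 2) (hφq : φ q = Polynomial.X ^ 2 + Polynomial.C β) :
    False := by
  set Qb : Polynomial S := Polynomial.X ^ 2 + Polynomial.C β with hQb
  have h1 : φ q ∈ Ideal.map φ (I ^ 2) := Ideal.mem_map_of_mem _ hq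
  rw [Ideal.map_pow] at h1
  have h2 := Ideal.pow_right_mono hI 2 h1
  rw [Ideal.span_singleton_pow, Ideal.mem_span_singleton, hφq] at h2
  have hdeg : Qb.natDegree = 2 := Polynomial.natDegree_X_pow_add_C
  have hne : Qb ≠ 0 := by
    intro h0; rw [h0] at hdeg; simp at hdeg
  have := Polynomial.natDegree_le_of_dvd h2 hne
  rw [Polynomial.natDegree_pow, hdeg] at this
  omega

theorem lemmaM [CharP κ 2] (k k' : Fin 2) (hk : k' ≠ k) (I : Ideal (MvPolynomial (Fin 2) κ))
    (hI : Big I) (a d : κ) (hq : C a + C d * X k' ^ 2 + X k ^ 2 ∈ I ^ 2) :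
    IsSq (C a + C d * X k' ^ 2 + X k ^ 2 : MvPolynomial (Fin 2) κ) := by
  classical
  have h2 : (2 : κ) = 0 := two_eq_zero'
  have h2R : (2 : MvPolynomial (Fin 2) κ) = 0 := by
    have : (2 : MvPolynomial (Fin 2) κ) = C (2 : κ) := (map_ofNat C 2).symm
    rw [this, h2, C_0]
  by_cases H0 : ∃ g h i : κ, ¬ (g = 0 ∧ h = 0 ∧ i = 0) ∧ C g + C h * X k' + C i * X k ∈ I
  · obtain ⟨g, h, i, hne, hl⟩ := H0
    have e0 : (C a + C 0 * X k' + C 0 * X k + C d * X k' ^ 2 + C 0 * X k' * X k +
        C 1 * X k ^ 2 : MvPolynomial (Fin 2) κ) = C a + C d * X k' ^ 2 + X k ^ 2 := by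
      simp only [C_0, C_1, zero_mul, add_zero, one_mul]
    have hq' : C a + C 0 * X k' + C 0 * X k + C d * X k' ^ 2 + C 0 * X k' * X k +
        C 1 * X k ^ 2 ∈ I ^ 2 := by
      rw [e0]; exact hq
    have := isSq_of_linear k k' hk I hI g h i hne hl a 0 0 d 0 1 hq'
    rw [e0] at this; exact this
  replace H0 : ∀ g h i : κ, C g + C h * X k' + C i * X k ∈ I → g = 0 ∧ h = 0 ∧ i = 0 := by
    intro g h i hl
    by_contra hne
    exact H0 ⟨g, h, i, hne, hl⟩
  by_cases hsq : (∃ r, r ^ 2 = a) ∧ (∃ r, r ^ 2 = d)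
  · obtain ⟨⟨g, rfl⟩, ⟨h, rfl⟩⟩ := hsq
    refine isSq_of_form k k' hk 1 g h 1 _ ?_
    simp only [C_1, one_mul, C_pow]
    linear_combination (-(C g * C h * X k' + C g * X k + C h * X k' * X k)) * h2R
  exfalso
  set q : MvPolynomial (Fin 2) κ := C a + C d * X k' ^ 2 + X k ^ 2 with hqdef
  have hqI : q ∈ I := Ideal.pow_le_self (by norm_num) hq
  -- the derivation
  obtain ⟨θ, hadd, hmul, hθ⟩ : ∃ θ : κ → κ, (∀ x y, θ (x + y) = θ x + θ y) ∧
      (∀ x y, θ (x * y) = x * θ y + y * θ x) ∧ (θ d = 1 ∨ (θ d = 0 ∧ θ a = 1)) := by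
    by_cases hd : ∃ r, r ^ 2 = d
    · have ha : ¬ ∃ r, r ^ 2 = a := fun ha => hsq ⟨ha, hd⟩
      obtain ⟨θ, hadd, hmul, h1⟩ := exists_theta a ha
      refine ⟨θ, hadd, hmul, Or.inr ⟨?_, h1⟩⟩
      obtain ⟨r, rfl⟩ := hd
      rw [pow_two, hmul]
      exact add_self' _
    · obtain ⟨θ, hadd, hmul, h1⟩ := exists_theta d hd
      exact ⟨θ, hadd, hmul, Or.inl h1⟩
  have hθq : ext θ hadd hmul q = C (θ a) + C (θ d) * X k' ^ 2 := by
    rw [hqdef, ext_add, ext_add, ext_C, ext_mul, ext_C, ext_X_sq, ext_X_sq]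
    ring
  have hθmem : C (θ a) + C (θ d) * X k' ^ 2 ∈ I := by
    rw [← hθq]
    exact deriv_mem (ext θ hadd hmul) (ext_add θ hadd hmul) (ext_mul θ hadd hmul) I hq
  rcases hθ with hθd | ⟨hθd, hθa⟩
  swap
  · rw [hθd, hθa] at hθmem
    have : C (1 : κ) + C 0 * X k' + C 0 * X k ∈ I := by
      convert hθmem using 1; simp
    have := (H0 1 0 0 this).1
    exact one_ne_zero this
  rw [hθd] at hθmem
  set α := θ a with hα
  set β := a - d * α with hβ
  set P : MvPolynomial (Fin 2) κ := C α + X k' ^ 2 with hP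
  set Q : MvPolynomial (Fin 2) κ := C β + X k ^ 2 with hQ
  have hPI : P ∈ I := by
    convert hθmem using 1; simp [hP]
  have hQI : Q ∈ I := by
    have : Q = q - C d * P := by
      rw [hQ, hqdef, hP, hβ, C_sub, C_mul]; ring
    rw [this]; exact I.sub_mem hqI (I.mul_mem_left _ hPI)
  set J : Ideal (MvPolynomial (Fin 2) κ) := Ideal.span {P, Q} with hJ
  have hPJ : P ∈ J := Ideal.subset_span (Set.mem_insert _ _)
  have hQJ : Q ∈ J := Ideal.subset_span (Set.mem_insert_of_mem _ rfl)
  have hJI : J ≤ I := by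
    rw [hJ, Ideal.span_le]
    intro x hx
    rcases hx with rfl | rfl
    · exact hPI
    · exact hQI
  -- (M1) reduction
  have M1 : ∀ p : MvPolynomial (Fin 2) κ, ∃ g h i j : κ,
      p - (C g + C h * X k' + C i * X k + C j * (X k' * X k)) ∈ J := by
    intro p
    induction p using MvPolynomial.induction_on with
    | C c => exact ⟨c, 0, 0, 0, by simp⟩
    | add p r hp hr =>
      obtain ⟨g, h, i, j, hp⟩ := hp
      obtain ⟨g', h', i', j', hr⟩ := hr
      refine ⟨g + g', h + h', i + i', j + j', ?_⟩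
      have : p + r - (C (g + g') + C (h + h') * X k' + C (i + i') * X k +
          C (j + j') * (X k' * X k)) =
          (p - (C g + C h * X k' + C i * X k + C j * (X k' * X k))) +
          (r - (C g' + C h' * X k' + C i' * X k + C j' * (X k' * X k))) := by
        simp only [C_add]; ring
      rw [this]; exact J.add_mem hp hr
    | mul_X p n hp =>
      obtain ⟨g, h, i, j, hp⟩ := hp
      rcases fin2 k k' n hk with rfl | rfl
      · refine ⟨-(i * β), -(j * β), g, h, ?_⟩
        have : p * X n - (C (-(i * β)) + C (-(j * β)) * X k' + C g * X n + C h * (X k' * X n)) =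
            (p - (C g + C h * X k' + C i * X n + C j * (X k' * X n))) * X n +
            (C i + C j * X k') * Q := by
          rw [hQ]; simp only [C_neg, C_mul]; ring
        rw [this]
        exact J.add_mem (J.mul_mem_right _ hp) (J.mul_mem_left _ hQJ)
      · refine ⟨-(h * α), g, -(j * α), i, ?_⟩
        have : p * X n - (C (-(h * α)) + C g * X n + C (-(j * α)) * X k + C i * (X n * X k)) =
            (p - (C g + C h * X n + C i * X k + C j * (X n * X k))) * X n +
            (C h + C j * X k) * P := by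
          rw [hP]; simp only [C_neg, C_mul]; ring
        rw [this]
        exact J.add_mem (J.mul_mem_right _ hp) (J.mul_mem_left _ hPJ)
  -- (M2)
  have M2 : ¬ I ≤ J := by
    intro hIJ
    obtain ⟨ρ, hρ⟩ := IsAlgClosed.exists_pow_nat_eq
      (algebraMap κ (AlgebraicClosure κ) (-α)) (show 0 < 2 by norm_num)
    let ε : MvPolynomial (Fin 2) κ →ₐ[κ] Polynomial (AlgebraicClosure κ) :=
      aeval (fun n => if n = k then Polynomial.X else Polynomial.C ρ)
    have hεk : ε (X k) = Polynomial.X := by simp [ε]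
    have hεk' : ε (X k') = Polynomial.C ρ := by simp [ε, hk]
    have hεC : ∀ c : κ, ε (C c) = Polynomial.C (algebraMap κ (AlgebraicClosure κ) c) := by
      intro c; simp [ε]
    have hεP : ε P = 0 := by
      rw [hP, map_add, map_pow, hεk', hεC, ← Polynomial.C_pow, hρ, ← Polynomial.C_add, map_neg,
        add_neg_cancel, Polynomial.C_0]
    have hεQ : ε Q = Polynomial.X ^ 2 + Polynomial.C (algebraMap κ (AlgebraicClosure κ) β) := by
      rw [hQ, map_add, map_pow, hεk, hεC, add_comm]
    have hεq : ε q = Polynomial.X ^ 2 + Polynomial.C (algebraMap κ (AlgebraicClosure κ) β) := by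
      have : q = Q + C d * P := by
        rw [hQ, hqdef, hP, hβ, C_sub, C_mul]; ring
      rw [this, map_add, map_mul, hεP, mul_zero, add_zero, hεQ]
    refine sq_contra ε.toRingHom J (algebraMap κ (AlgebraicClosure κ) β) ?_ q
      (Ideal.pow_right_mono hIJ 2 hq) hεq
    rw [hJ, Ideal.map_span, Ideal.span_le]
    rintro _ ⟨x, hx, rfl⟩
    rcases hx with rfl | rfl
    · change ε P ∈ _
      rw [hεP]; exact Ideal.zero_mem _
    · change ε Q ∈ _
      rw [hεQ]; exact Ideal.mem_span_singleton_self _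
  obtain ⟨w0, hw0I, hw0J⟩ := Set.not_subset.mp M2
  obtain ⟨g, h, i, j, hr⟩ := M1 w0
  have hrI : C g + C h * X k' + C i * X k + C j * (X k' * X k) ∈ I := by
    have := I.sub_mem hw0I (hJI hr)
    simpa using this
  have hj : j ≠ 0 := by
    rintro rfl
    have : C g + C h * X k' + C i * X k ∈ I := by simpa using hrI
    obtain ⟨rfl, rfl, rfl⟩ := H0 g h i this
    apply hw0J
    simpa using hr
  -- normalize
  obtain ⟨g, h, i, hw⟩ : ∃ g h i : κ, C g + C h * X k' + C i * X k + X k' * X k ∈ I := by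
    refine ⟨j⁻¹ * g, j⁻¹ * h, j⁻¹ * i, ?_⟩
    have : C (j⁻¹ * g) + C (j⁻¹ * h) * X k' + C (j⁻¹ * i) * X k + X k' * X k =
        C j⁻¹ * (C g + C h * X k' + C i * X k + C j * (X k' * X k)) := by
      have hjj : C j⁻¹ * C j = (1 : MvPolynomial (Fin 2) κ) := by
        rw [← C_mul, inv_mul_cancel₀ hj, C_1]
      simp only [C_mul]
      linear_combination (-(X k' * X k)) * hjj
    rw [this]; exact I.mul_mem_left _ hrI
  set w : MvPolynomial (Fin 2) κ := C g + C h * X k' + C i * X k + X k' * X k with hwdef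
  have hr1 : C (-(h * α) - i * g) + C (g - i * h) * X k' + C (-α - i ^ 2) * X k ∈ I := by
    have : C (-(h * α) - i * g) + C (g - i * h) * X k' + C (-α - i ^ 2) * X k =
        X k' * w - (C h + X k) * P - C i * w := by
      rw [hwdef, hP]; simp only [C_sub, C_neg, C_mul, C_pow]; ring
    rw [this]
    exact I.sub_mem (I.sub_mem (I.mul_mem_left _ hw) (I.mul_mem_left _ hPI)) (I.mul_mem_left _ hw)
  have hr2 : C (-(i * β) - h * g) + C (-β - h ^ 2) * X k' + C (g - h * i) * X k ∈ I := by
    have : C (-(i * β) - h * g) + C (-β - h ^ 2) * X k' + C (g - h * i) * X k =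
        X k * w - (C i + X k') * Q - C h * w := by
      rw [hwdef, hQ]; simp only [C_sub, C_neg, C_mul, C_pow]; ring
    rw [this]
    exact I.sub_mem (I.sub_mem (I.mul_mem_left _ hw) (I.mul_mem_left _ hQI)) (I.mul_mem_left _ hw)
  obtain ⟨-, hg1, hα1⟩ := H0 _ _ _ hr1
  obtain ⟨-, hβ1, -⟩ := H0 _ _ _ hr2
  have hαi : α = -i ^ 2 := by linear_combination -hα1
  have hβh : β = -h ^ 2 := by linear_combination -hβ1
  have hgi : g = i * h := by linear_combination hg1
  -- (M3)
  have M3 : I ≤ Ideal.span {P, Q, w} := by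
    intro p hp
    obtain ⟨g', h', i', j', hr'⟩ := M1 p
    have hrI' : C g' + C h' * X k' + C i' * X k + C j' * (X k' * X k) ∈ I := by
      have := I.sub_mem hp (hJI hr')
      simpa using this
    have hlin : C (g' - j' * g) + C (h' - j' * h) * X k' + C (i' - j' * i) * X k ∈ I := by
      have : C (g' - j' * g) + C (h' - j' * h) * X k' + C (i' - j' * i) * X k =
          (C g' + C h' * X k' + C i' * X k + C j' * (X k' * X k)) - C j' * w := by
        rw [hwdef]; simp only [C_sub, C_mul]; ring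
      rw [this]; exact I.sub_mem hrI' (I.mul_mem_left _ hw)
    obtain ⟨e1, e2, e3⟩ := H0 _ _ _ hlin
    have hpw : p = (p - (C g' + C h' * X k' + C i' * X k + C j' * (X k' * X k))) + C j' * w := by
      have : (C g' + C h' * X k' + C i' * X k + C j' * (X k' * X k)) = C j' * w := by
        have e1' : g' = j' * g := by linear_combination e1
        have e2' : h' = j' * h := by linear_combination e2
        have e3' : i' = j' * i := by linear_combination e3
        rw [hwdef, e1', e2', e3']; simp only [C_mul]; ring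
      rw [this]; ring
    rw [hpw]
    refine Ideal.add_mem _ ?_ (Ideal.mul_mem_left _ _ (Ideal.subset_span (by simp)))
    refine (Ideal.span_mono ?_) hr'
    intro x hx
    rcases hx with rfl | rfl
    · simp
    · simp
  -- (M4)
  let ε : MvPolynomial (Fin 2) κ →ₐ[κ] Polynomial κ :=
    aeval (fun n => if n = k then Polynomial.X else Polynomial.C (-i))
  have hεk : ε (X k) = Polynomial.X := by simp [ε]
  have hεk' : ε (X k') = Polynomial.C (-i) := by simp [ε, hk]
  have hεC : ∀ c : κ, ε (C c) = Polynomial.C c := by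
    intro c; simp [ε]
  have hεP : ε P = 0 := by
    rw [hP, map_add, map_pow, hεk', hεC, ← Polynomial.C_pow, ← Polynomial.C_add, hαi]
    simp
  have hεQ : ε Q = Polynomial.X ^ 2 + Polynomial.C β := by
    rw [hQ, map_add, map_pow, hεk, hεC, add_comm]
  have hεw : ε w = 0 := by
    rw [hwdef]
    simp only [map_add, map_mul, hεk, hεk', hεC, hgi]
    simp only [Polynomial.C_neg]; ring
  have hεq : ε q = Polynomial.X ^ 2 + Polynomial.C β := by
    have : q = Q + C d * P := by
      rw [hQ, hqdef, hP, hβ, C_sub, C_mul]; ring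
    rw [this, map_add, map_mul, hεP, mul_zero, add_zero, hεQ]
  refine sq_contra ε.toRingHom (Ideal.span {P, Q, w}) β ?_ q (Ideal.pow_right_mono M3 2 hq) hεq
  rw [Ideal.map_span, Ideal.span_le]
  rintro _ ⟨x, hx, rfl⟩
  rcases hx with rfl | rfl | rfl
  · change ε P ∈ _
    rw [hεP]; exact Ideal.zero_mem _
  · change ε Q ∈ _
    rw [hεQ]; exact Ideal.mem_span_singleton_self _
  · change ε w ∈ _
    rw [hεw]; exact Ideal.zero_mem _


theorem main_1601 (I : Ideal (MvPolynomial (Fin 2) κ)) (hI : Big I) (a b c d e f : κ)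
    (hne : (a, b, c, d, e, f) ≠ (0, 0, 0, 0, 0, 0))
    (hmem : (C a + C b * X 0 + C c * X 1 + C d * X 0 ^ 2 + C e * X 0 * X 1 + C f * X 1 ^ 2 :
      MvPolynomial (Fin 2) κ) ∈ I ^ 2) :
    IsSq (C a + C b * X 0 + C c * X 1 + C d * X 0 ^ 2 + C e * X 0 * X 1 + C f * X 1 ^ 2 :
      MvPolynomial (Fin 2) κ) := by
  have h01 : (0 : Fin 2) ≠ 1 := by decide
  have hX01 : pderiv (0 : Fin 2) (X 1 : MvPolynomial (Fin 2) κ) = 0 := pderiv_X_of_ne h01.symm
  have hX10 : pderiv (1 : Fin 2) (X 0 : MvPolynomial (Fin 2) κ) = 0 := pderiv_X_of_ne h01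
  have hp1 : C b + C (2 * d) * X 0 + C e * X 1 ∈ I := by
    have := deriv_mem (pderiv (0 : Fin 2)) (fun x y => map_add _ x y)
      (fun x y => by rw [Derivation.leibniz]; simp [smul_eq_mul]) I hmem
    convert this using 1
    simp only [map_add, Derivation.leibniz, Derivation.leibniz_pow, pderiv_C, pderiv_X_self, hX01,
      smul_eq_mul, smul_zero, mul_zero, zero_add, add_zero, mul_one, nsmul_eq_mul, C_mul]
    have : (C (2 : κ) : MvPolynomial (Fin 2) κ) = 2 := map_ofNat C 2
    rw [this]; ring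
  have hp2 : C c + C e * X 0 + C (2 * f) * X 1 ∈ I := by
    have := deriv_mem (pderiv (1 : Fin 2)) (fun x y => map_add _ x y)
      (fun x y => by rw [Derivation.leibniz]; simp [smul_eq_mul]) I hmem
    convert this using 1
    simp only [map_add, Derivation.leibniz, Derivation.leibniz_pow, pderiv_C, pderiv_X_self, hX10,
      smul_eq_mul, smul_zero, mul_zero, zero_add, add_zero, mul_one, nsmul_eq_mul, C_mul]
    have : (C (2 : κ) : MvPolynomial (Fin 2) κ) = 2 := map_ofNat C 2
    rw [this]; ring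
  by_cases h1 : b = 0 ∧ 2 * d = 0 ∧ e = 0
  swap
  · exact isSq_of_linear 1 0 h01 I hI b (2 * d) e h1 hp1 a b c d e f hmem
  by_cases h2 : c = 0 ∧ e = 0 ∧ 2 * f = 0
  swap
  · exact isSq_of_linear 1 0 h01 I hI c e (2 * f) h2 hp2 a b c d e f hmem
  obtain ⟨rfl, hd2, rfl⟩ := h1
  obtain ⟨rfl, -, hf2⟩ := h2
  have hconst : d = 0 → f = 0 → False := by
    rintro rfl rfl
    have hq : C a ∈ I := by
      have := Ideal.pow_le_self (by norm_num) hmem
      simpa using this
    have := C_notMem_of_big hI hq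
    subst this
    exact hne rfl
  by_cases h2z : (2 : κ) = 0
  · haveI : CharP κ 2 := CharTwo.of_one_ne_zero_of_two_eq_zero one_ne_zero h2z
    by_cases hf : f = 0
    · subst hf
      by_cases hd : d = 0
      · exact (hconst hd rfl).elim
      · have e0 : (C (0 : κ) + C (0 : κ) * X 0 + C (0 : κ) * X 1 + C d * X 0 ^ 2 + C 0 * X 0 * X 1 + C 0 * X 1 ^ 2 :
            MvPolynomial (Fin 2) κ) = C d * X 0 ^ 2 := by
          simp only [C_0, zero_mul, add_zero, zero_add]
        have e1 : (C a + C 0 * X 0 + C 0 * X 1 + C d * X 0 ^ 2 + C 0 * X 0 * X 1 + C 0 * X 1 ^ 2 :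
            MvPolynomial (Fin 2) κ) = C d * (C (a / d) + C 0 * X 1 ^ 2 + X 0 ^ 2) := by
          have : C d * C (a / d) = (C a : MvPolynomial (Fin 2) κ) := by
            rw [← C_mul, mul_div_cancel₀ _ hd]
          simp only [C_0, zero_mul, add_zero, mul_add]
          rw [this]
        rw [e1] at hmem ⊢
        refine IsSq.smul ?_ d
        refine lemmaM 0 1 h01.symm I hI (a / d) 0 ?_
        have : (C (a / d) + C 0 * X 1 ^ 2 + X 0 ^ 2 : MvPolynomial (Fin 2) κ) =
            C d⁻¹ * (C d * (C (a / d) + C 0 * X 1 ^ 2 + X 0 ^ 2)) := by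
          rw [← mul_assoc, ← C_mul, inv_mul_cancel₀ hd, C_1, one_mul]
        rw [this]; exact Ideal.mul_mem_left _ _ hmem
    · have e1 : (C a + C 0 * X 0 + C 0 * X 1 + C d * X 0 ^ 2 + C 0 * X 0 * X 1 + C f * X 1 ^ 2 :
          MvPolynomial (Fin 2) κ) = C f * (C (a / f) + C (d / f) * X 0 ^ 2 + X 1 ^ 2) := by
        have h1 : C f * C (a / f) = (C a : MvPolynomial (Fin 2) κ) := by
          rw [← C_mul, mul_div_cancel₀ _ hf]
        have h2 : C f * C (d / f) = (C d : MvPolynomial (Fin 2) κ) := by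
          rw [← C_mul, mul_div_cancel₀ _ hf]
        simp only [C_0, zero_mul, add_zero, mul_add, ← mul_assoc]
        rw [h1, h2]
      rw [e1] at hmem ⊢
      refine IsSq.smul ?_ f
      refine lemmaM 1 0 h01 I hI (a / f) (d / f) ?_
      have : (C (a / f) + C (d / f) * X 0 ^ 2 + X 1 ^ 2 : MvPolynomial (Fin 2) κ) =
          C f⁻¹ * (C f * (C (a / f) + C (d / f) * X 0 ^ 2 + X 1 ^ 2)) := by
        rw [← mul_assoc, ← C_mul, inv_mul_cancel₀ hf, C_1, one_mul]
      rw [this]; exact Ideal.mul_mem_left _ _ hmem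
  · have hd : d = 0 := by
      rcases mul_eq_zero.mp hd2 with h | h
      · exact absurd h h2z
      · exact h
    have hf : f = 0 := by
      rcases mul_eq_zero.mp hf2 with h | h
      · exact absurd h h2z
      · exact h
    exact (hconst hd hf).elim

end Groth.Agent.Lib.Helper26.Quad3
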