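import Mathlib

set_option autoImplicit false
set_option linter.style.haveILetI false
open scoped Pointwise

namespace Groth.Agent.Lib.Helper26.Ram

variable {B : Type*} [CommRing B] {G : Type*} [Group G] [MulSemiringAction G B] (m : Ideal B)

/-- `σ` lies in the `i`-th ramification group of `m`: it acts trivially on `B / m ^ (i + 1)` -/
def InG (i : ℕ) (σ : G) : Prop := ∀ x : B, σ • x - x ∈ m ^ (i + 1)

variable {m}

theorem InG.one (i : ℕ) : InG m i (1 : G) := fun x => by simp

theorem InG.mul {i : ℕ} {σ τ : G} (hσ : InG m i σ) (hτ : InG m i τ) : InG m i (σ * τ) := by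
  intro x
  have : (σ * τ) • x - x = (σ • (τ • x) - τ • x) + (τ • x - x) := by rw [mul_smul]; ring
  rw [this]
  exact Ideal.add_mem _ (hσ _) (hτ _)

theorem InG.pow {i : ℕ} {σ : G} (hσ : InG m i σ) (n : ℕ) : InG m i (σ ^ n) := by
  induction n with
  | zero => rw [pow_zero]; exact InG.one i
  | succ n ih => rw [pow_succ]; exact ih.mul hσ

theorem InG.inv {i : ℕ} {σ : G} (hσ : InG m i σ) : InG m i σ⁻¹ := by
  intro x
  have h := hσ (σ⁻¹ • x)
  rw [smul_inv_smul] at h
  have : σ⁻¹ • x - x = -(x - σ⁻¹ • x) := by ring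
  rw [this]
  exact Ideal.neg_mem_iff _ |>.2 h

theorem InG.mono {i j : ℕ} (hij : i ≤ j) {σ : G} (hσ : InG m j σ) : InG m i σ :=
  fun x => Ideal.pow_le_pow_right (by omega) (hσ x)

/-- an element of `G_i` moves `m ^ j` by `m ^ (i + j)` -/
theorem InG.smul_sub_mem_pow {i : ℕ} {σ : G} (hσ : InG m i σ) :
    ∀ (j : ℕ) {x : B}, x ∈ m ^ j → σ • x - x ∈ m ^ (i + j) := by
  intro j
  induction j with
  | zero =>
    intro x _
    exact Ideal.pow_le_pow_right (by omega) (hσ x)
  | succ j ih =>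
    intro x hx
    rw [pow_succ] at hx
    refine Submodule.mul_induction_on hx ?_ ?_
    · intro y hy z hz
      have h1 : σ • y - y ∈ m ^ (i + j) := ih hy
      have h2 : σ • y ∈ m ^ j := by
        have : σ • y = (σ • y - y) + y := by ring
        rw [this]
        exact Ideal.add_mem _ (Ideal.pow_le_pow_right (by omega) h1) hy
      have h3 : σ • z - z ∈ m ^ (i + 1) := hσ z
      have e : σ • (y * z) - y * z = σ • y * (σ • z - z) + z * (σ • y - y) := by
        rw [smul_mul']; ring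
      rw [e]
      refine Ideal.add_mem _ ?_ ?_
      · have := Ideal.mul_mem_mul h2 h3
        rw [← pow_add] at this
        exact Ideal.pow_le_pow_right (by omega) this
      · have := Ideal.mul_mem_mul hz h1
        rw [← pow_succ'] at this
        exact Ideal.pow_le_pow_right (by omega) this
    · intro y z hy hz
      have e : σ • (y + z) - (y + z) = (σ • y - y) + (σ • z - z) := by rw [smul_add]; ring
      rw [e]
      exact Ideal.add_mem _ hy hz

theorem InG.smul_mem_pow {i : ℕ} {σ : G} (hσ : InG m i σ) (j : ℕ) {x : B} (hx : x ∈ m ^ j) :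
    σ • x ∈ m ^ j := by
  have h1 := hσ.smul_sub_mem_pow j hx
  have : σ • x = (σ • x - x) + x := by ring
  rw [this]
  exact Ideal.add_mem _ (Ideal.pow_le_pow_right (by omega) h1) hx

/-- first order expansion of `σ ^ n` on `G_i`, `i ≥ 1` -/
theorem InG.pow_smul_sub {i : ℕ} {σ : G} (hσ : InG m i σ) (hi : 1 ≤ i) (n : ℕ) (b : B) :
    (σ ^ n) • b - b - (n : B) * (σ • b - b) ∈ m ^ (i + 2) := by
  induction n with
  | zero => simp
  | succ n ih =>
    have hx : (σ ^ n) • b - b ∈ m ^ (i + 1) := hσ.pow n b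
    have h1 := hσ.smul_sub_mem_pow (i + 1) hx
    have e : (σ ^ (n + 1)) • b - b - ((n + 1 : ℕ) : B) * (σ • b - b) =
        (σ • ((σ ^ n) • b - b) - ((σ ^ n) • b - b)) +
          ((σ ^ n) • b - b - (n : B) * (σ • b - b)) := by
      rw [pow_succ', mul_smul, smul_sub]
      push_cast
      ring
    rw [e]
    exact Ideal.add_mem _ (Ideal.pow_le_pow_right (by omega) h1) ih

theorem InG.pow_char {i : ℕ} {σ : G} (hσ : InG m i σ) (hi : 1 ≤ i) {p : ℕ} (hp : (p : B) ∈ m) :
    InG m (i + 1) (σ ^ p) := by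
  intro b
  have h1 := hσ.pow_smul_sub hi p b
  have h2 : (p : B) * (σ • b - b) ∈ m ^ (i + 2) := by
    have := Ideal.mul_mem_mul hp (hσ b)
    rwa [← pow_succ'] at this
  have e : (σ ^ p) • b - b = ((σ ^ p) • b - b - (p : B) * (σ • b - b)) + (p : B) * (σ • b - b) := by
    ring
  rw [e]
  exact Ideal.add_mem _ h1 h2

theorem InG.succ_of_pow_eq_one [m.IsMaximal] {i : ℕ} {σ : G} (hσ : InG m i σ) (hi : 1 ≤ i)
    {n : ℕ} (hn : (n : B) ∉ m) (hσn : σ ^ n = 1) : InG m (i + 1) σ := by
  intro b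
  have h1 := hσ.pow_smul_sub hi n b
  rw [hσn, one_smul, sub_self, zero_sub, Ideal.neg_mem_iff] at h1
  exact (Ideal.IsMaximal.mul_mem_pow m h1).resolve_left hn

end Groth.Agent.Lib.Helper26.Ram
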