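import Mathlib
import Groth.Agent.Lib.Helper26.RamGrp1

set_option autoImplicit false
set_option linter.style.haveILetI false
open scoped Pointwise

namespace Groth.Agent.Lib.Helper26.Ram

variable {B : Type*} [CommRing B] {G : Type*} [Group G] [MulSemiringAction G B] {m : Ideal B}

section Bound

variable [IsDomain B] [IsNoetherianRing B] [Finite G] [FaithfulSMul G B]

/-- the ramification filtration is eventually trivial -/
theorem exists_bound (hm : m ≠ ⊤) : ∃ N, ∀ σ : G, InG m N σ → σ = 1 := by
  classical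
  have key : ∀ σ : G, σ ≠ 1 → ∃ n, ¬ InG m n σ := by
    intro σ hσ
    have : ∃ b : B, σ • b ≠ b := by
      by_contra hcon
      push Not at hcon
      exact hσ (eq_of_smul_eq_smul (α := B) fun b => by rw [hcon b, one_smul])
    obtain ⟨b, hb⟩ := this
    have hne : σ • b - b ≠ 0 := sub_ne_zero.2 hb
    have hinf := Ideal.iInf_pow_eq_bot_of_isDomain m hm
    have : ∃ n, σ • b - b ∉ m ^ n := by
      by_contra hcon
      push Not at hcon
      apply hne
      have : σ • b - b ∈ ⨅ i, m ^ i := by
        rw [Ideal.mem_iInf]; exact hcon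
      rwa [hinf, Ideal.mem_bot] at this
    obtain ⟨n, hn⟩ := this
    exact ⟨n, fun h => hn (Ideal.pow_le_pow_right (by omega) (h b))⟩
  choose! n hn using key
  haveI := Fintype.ofFinite G
  refine ⟨Finset.univ.sup n, fun σ hσ => ?_⟩
  by_contra hne
  exact hn σ hne (hσ.mono (Finset.le_sup (Finset.mem_univ σ)))

/-- the wild inertia group is a `p`-group -/
theorem isPGroup_of_char (hm : m ≠ ⊤) {p : ℕ} (hp : (p : B) ∈ m) (H : Subgroup G)
    (hH : ∀ σ ∈ H, InG m 1 σ) : IsPGroup p H := by
  obtain ⟨N, hN⟩ := exists_bound (G := G) hm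
  intro σ
  refine ⟨N, ?_⟩
  have key : ∀ j : ℕ, InG m (1 + j) ((σ : G) ^ (p ^ j)) := by
    intro j
    induction j with
    | zero => simpa using hH σ σ.2
    | succ j ih =>
      rw [pow_succ, pow_mul]
      exact ih.pow_char (by omega) hp
  have h1 : (σ : G) ^ (p ^ N) = 1 := hN _ ((key N).mono (by omega))
  exact Subtype.ext (by simpa using h1)

/-- the wild inertia group is trivial in residue characteristic zero -/
theorem eq_one_of_charZero [m.IsMaximal] (h0 : ∀ n : ℕ, n ≠ 0 → (n : B) ∉ m) {σ : G}
    (hσ : InG m 1 σ) : σ = 1 := by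
  have hm : m ≠ ⊤ := Ideal.IsMaximal.ne_top inferInstance
  obtain ⟨N, hN⟩ := exists_bound (G := G) hm
  have hpos : 0 < orderOf σ := orderOf_pos σ
  have key : ∀ j : ℕ, InG m (1 + j) σ := by
    intro j
    induction j with
    | zero => exact hσ
    | succ j ih =>
      exact ih.succ_of_pow_eq_one (by omega) (h0 _ hpos.ne') (pow_orderOf_eq_one σ)
  exact hN σ ((key N).mono (by omega))

end Bound

end Groth.Agent.Lib.Helper26.Ram
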