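import Mathlib
import Groth.Agent.Lib.Helper26.RamGrp2

set_option autoImplicit false
set_option linter.style.haveILetI false
set_option linter.unusedSectionVars false
open scoped Pointwise

namespace Groth.Agent.Lib.Helper26.Ram

variable {B : Type*} [CommRing B] [IsDedekindDomain B] {G : Type*} [Group G]
  [MulSemiringAction G B] {m : Ideal B} [hmax : m.IsMaximal]

/-- `σ π ≡ π u` modulo `m²` -/
def Rel (m : Ideal B) (π : B) (σ : G) (u : B) : Prop := σ • π - π * u ∈ m ^ 2

section Theta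

variable (hm : m ≠ ⊥) {π : B} (hπ : π ∈ m) (hπ2 : π ∉ m ^ 2)

include hm hπ hπ2

theorem exists_rel {σ : G} (hσ : InG m 0 σ) : ∃ u, Rel m π σ u := by
  have h1 : π ∈ m ^ 1 := by rwa [pow_one]
  have h2 : σ • π ∈ m ^ 1 := hσ.smul_mem_pow 1 h1
  obtain ⟨d, e, he, hde⟩ := Ideal.exists_mul_add_mem_pow_succ hm π (σ • π) h1 hπ2 h2
  refine ⟨d, ?_⟩
  unfold Rel
  rw [← hde]
  simpa using he

omit hπ in
theorem rel_unique {σ : G} {u u' : B} (h : Rel m π σ u) (h' : Rel m π σ u') : u - u' ∈ m := by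
  have h1 : π * (u - u') ∈ m ^ (1 + 1) := by
    have : π * (u - u') = (σ • π - π * u') - (σ • π - π * u) := by ring
    rw [this]
    exact Ideal.sub_mem _ h' h
  exact Ideal.mem_prime_of_mul_mem_pow hm hπ2 h1

omit hm hπ2 in
theorem rel_mul {σ τ : G} (hσ : InG m 0 σ) {u w : B} (h : Rel m π σ u)
    (h' : Rel m π τ w) : Rel m π (σ * τ) (u * w) := by
  unfold Rel at *
  set e := τ • π - π * w with he
  set e' := σ • π - π * u with he'
  set f := σ • w - w with hf
  have hfm : f ∈ m := by simpa using hσ w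
  have hσe : σ • e ∈ m ^ 2 := hσ.smul_mem_pow 2 h'
  have e1 : (σ * τ) • π - π * (u * w) = π * f * u + e' * w + e' * f + σ • e := by
    have h1 : τ • π = π * w + e := by rw [he]; ring
    have h2 : σ • π = π * u + e' := by rw [he']; ring
    have h3 : σ • w = w + f := by rw [hf]; ring
    rw [mul_smul, h1, smul_add, smul_mul', h2, h3]
    ring
  rw [e1]
  refine Ideal.add_mem _ (Ideal.add_mem _ (Ideal.add_mem _ ?_ ?_) ?_) hσe
  · apply Ideal.mul_mem_right
    rw [pow_two]
    exact Ideal.mul_mem_mul hπ hfm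
  · exact Ideal.mul_mem_right _ _ h
  · exact Ideal.mul_mem_right _ _ h

omit hm hπ hπ2 in
theorem rel_one : Rel m π (1 : G) 1 := by
  unfold Rel
  simp

omit hm in
theorem rel_not_mem {σ : G} (hσ : InG m 0 σ) {u : B} (h : Rel m π σ u) : u ∉ m := by
  intro hu
  apply hπ2
  have h1 : π * u ∈ m ^ 2 := by
    rw [pow_two]; exact Ideal.mul_mem_mul hπ hu
  have h2 : σ • π ∈ m ^ 2 := by
    have : σ • π = (σ • π - π * u) + π * u := by ring
    rw [this]
    exact Ideal.add_mem _ h h1
  have h3 := hσ.inv.smul_mem_pow 2 h2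
  rwa [inv_smul_smul] at h3

end Theta

end Groth.Agent.Lib.Helper26.Ram
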