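import Mathlib
import Groth.Agent.Lib.Helper26.RamGrp3

set_option autoImplicit false
set_option linter.style.haveILetI false
set_option linter.unusedSectionVars false
open scoped Pointwise

namespace Groth.Agent.Lib.Helper26.Ram

variable {B : Type*} [CommRing B] [IsDedekindDomain B] {G : Type*} [Group G]
  [MulSemiringAction G B] {m : Ideal B} [hmax : m.IsMaximal]

section Hom

variable (hm : m ≠ ⊥) {π : B} (hπ : π ∈ m) (hπ2 : π ∉ m ^ 2) (H : Subgroup G)
  (hH : ∀ σ ∈ H, InG m 0 σ)

/-- the tame character `σ ↦ σ π / π mod m` on a subgroup of the inertia group -/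
noncomputable def theta : H →* (B ⧸ m) where
  toFun σ := Ideal.Quotient.mk m (Classical.choose (exists_rel hm hπ hπ2 (hH σ σ.2)))
  map_one' := by
    have h1 := Classical.choose_spec (exists_rel hm hπ hπ2 (hH (1 : H) (1 : H).2))
    have h2 : Rel m π ((1 : H) : G) 1 := rel_one
    have := rel_unique hm hπ2 h1 h2
    rw [← map_one (Ideal.Quotient.mk m), Ideal.Quotient.mk_eq_mk_iff_sub_mem]
    exact this
  map_mul' σ τ := by
    have h1 := Classical.choose_spec (exists_rel hm hπ hπ2 (hH (σ * τ) (σ * τ).2))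
    have hσ := Classical.choose_spec (exists_rel hm hπ hπ2 (hH σ σ.2))
    have hτ := Classical.choose_spec (exists_rel hm hπ hπ2 (hH τ τ.2))
    have h2 : Rel m π ((σ * τ : H) : G) _ := rel_mul hπ (hH σ σ.2) hσ hτ
    have := rel_unique hm hπ2 h1 h2
    rw [← map_mul (Ideal.Quotient.mk m), Ideal.Quotient.mk_eq_mk_iff_sub_mem]
    exact this

theorem theta_spec (σ : H) {u : B} (hu : Rel m π (σ : G) u) :
    theta hm hπ hπ2 H hH σ = Ideal.Quotient.mk m u := by
  have h1 := Classical.choose_spec (exists_rel hm hπ hπ2 (hH σ σ.2))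
  have := rel_unique hm hπ2 h1 hu
  change Ideal.Quotient.mk m _ = _
  rw [Ideal.Quotient.mk_eq_mk_iff_sub_mem]
  exact this

theorem theta_eq_one_iff (σ : H) :
    theta hm hπ hπ2 H hH σ = 1 ↔ (σ : G) • π - π ∈ m ^ 2 := by
  have h1 := Classical.choose_spec (exists_rel hm hπ hπ2 (hH σ σ.2))
  set u := Classical.choose (exists_rel hm hπ hπ2 (hH σ σ.2)) with hu
  constructor
  · intro h
    have h2 : u - 1 ∈ m := by
      rw [← Ideal.Quotient.mk_eq_mk_iff_sub_mem, map_one]
      exact h
    have h3 : π * (u - 1) ∈ m ^ 2 := by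
      rw [pow_two]; exact Ideal.mul_mem_mul hπ h2
    have e : (σ : G) • π - π = ((σ : G) • π - π * u) + π * (u - 1) := by ring
    rw [e]
    exact Ideal.add_mem _ h1 h3
  · intro h
    have h2 : Rel m π (σ : G) 1 := by
      unfold Rel
      simpa using h
    rw [theta_spec hm hπ hπ2 H hH σ h2, map_one]

end Hom

section Sep

variable {A : Type*} [CommRing A] [Algebra A B] [SMulCommClass G A B]

/-- the separability argument: an element of the inertia group fixing `π` modulo `m²` acts
trivially on `B / m²` -/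
theorem inG_one_of_sep (hm : m ≠ ⊥) {π : B} (hπ : π ∈ m) (hπ2 : π ∉ m ^ 2)
    (p : Ideal A) [m.LiesOver p] [Algebra.IsSeparable (A ⧸ p) (B ⧸ m)]
    {σ : G} (hσ : InG m 0 σ) (hσπ : σ • π - π ∈ m ^ 2) : InG m 1 σ := by
  -- Step 1: `σ x - x ∈ m²` for `x ∈ m`
  have step1 : ∀ x ∈ m, σ • x - x ∈ m ^ 2 := by
    intro x hx
    have h1 : π ∈ m ^ 1 := by rwa [pow_one]
    have h2 : x ∈ m ^ 1 := by rwa [pow_one]
    obtain ⟨d, e, he, hde⟩ := Ideal.exists_mul_add_mem_pow_succ hm π x h1 hπ2 h2
    have hσd : σ • d - d ∈ m := by simpa using hσ d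
    have hσe : σ • e ∈ m ^ 2 := hσ.smul_mem_pow 2 he
    have e1 : σ • x - x = (σ • π - π) * σ • d + π * (σ • d - d) + (σ • e - e) := by
      rw [← hde, smul_add, smul_mul']; ring
    rw [e1]
    refine Ideal.add_mem _ (Ideal.add_mem _ (Ideal.mul_mem_right _ _ hσπ) ?_)
      (Ideal.sub_mem _ hσe he)
    rw [pow_two]
    exact Ideal.mul_mem_mul hπ hσd
  intro b
  -- the minimal polynomial of `b mod m`
  have hsep : IsSeparable (A ⧸ p) (Ideal.Quotient.mk m b) :=
    Algebra.IsSeparable.isSeparable (A ⧸ p) _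
  set g := minpoly (A ⧸ p) (Ideal.Quotient.mk m b) with hg
  have hgsep : g.Separable := hsep
  obtain ⟨Gp, hGp⟩ := Polynomial.map_surjective (Ideal.Quotient.mk p) Ideal.Quotient.mk_surjective g
  set Gb : Polynomial B := Gp.map (algebraMap A B) with hGb
  -- compatibility of evaluations
  have hcomp : ∀ q : Polynomial A, Ideal.Quotient.mk m ((q.map (algebraMap A B)).eval b) =
      Polynomial.aeval (Ideal.Quotient.mk m b) (q.map (Ideal.Quotient.mk p)) := by
    intro q
    rw [Polynomial.aeval_def, Polynomial.eval₂_map, Polynomial.eval_map, Polynomial.hom_eval₂]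
    congr 1
  have hx : Gb.eval b ∈ m := by
    rw [← Ideal.Quotient.eq_zero_iff_mem, hGb, hcomp, hGp, hg, minpoly.aeval]
  have hder : Gb.derivative.eval b ∉ m := by
    rw [← Ideal.Quotient.eq_zero_iff_mem, hGb, Polynomial.derivative_map, hcomp,
      ← Polynomial.derivative_map, hGp]
    exact hgsep.aeval_derivative_ne_zero (minpoly.aeval _ _)
  -- `σ` commutes with evaluation of `Gb`
  have hσG : σ • Gb.eval b = Gb.eval (σ • b) := by
    rw [hGb, Polynomial.eval_map, Polynomial.eval_map]
    have : σ • Polynomial.eval₂ (algebraMap A B) b Gp =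
        (MulSemiringAction.toRingHom G B σ) (Polynomial.eval₂ (algebraMap A B) b Gp) := rfl
    rw [this, Polynomial.hom_eval₂]
    congr 1
    ext a
    simp only [RingHom.comp_apply]
    change σ • algebraMap A B a = _
    rw [smul_algebraMap]
  set y := σ • b - b with hy
  have hym : y ∈ m := by simpa using hσ b
  obtain ⟨k, hk⟩ := Polynomial.binomExpansion Gb b y
  have hσb : σ • b = b + y := by rw [hy]; ring
  have h1 := step1 _ hx
  rw [hσG, hσb, hk] at h1
  have h2 : k * y ^ 2 ∈ m ^ 2 := Ideal.mul_mem_left _ _ (Ideal.pow_mem_pow hym 2)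
  have h3 : Gb.derivative.eval b * y ∈ m ^ 2 := by
    have e : Gb.derivative.eval b * y =
        (Gb.eval b + Gb.derivative.eval b * y + k * y ^ 2 - Gb.eval b) - k * y ^ 2 := by ring
    rw [e]
    exact Ideal.sub_mem _ h1 h2
  exact (Ideal.IsMaximal.mul_mem_pow m h3).resolve_left hder

end Sep

end Groth.Agent.Lib.Helper26.Ram
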