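import Mathlib
import Groth.Agent.Lib.Helper26.RamGrp4

set_option autoImplicit false
set_option linter.style.haveILetI false
set_option linter.unusedSectionVars false
open scoped Pointwise
open Ideal

namespace Groth.Agent.Lib.Helper26.Ram

section Count

variable {R S G : Type*} [CommRing R] [CommRing S] [Algebra R S] [Group G]
  [MulSemiringAction G S] [IsGaloisGroup G R S] [Finite G]

attribute [local instance] Ideal.Quotient.field in
theorem card_stabilizer_eq_card_inertia_mul_inertiaDeg [Module.Finite R S] (p : Ideal R)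
    [p.IsMaximal] (P : Ideal S) [P.LiesOver p] [P.IsMaximal]
    [Algebra.IsSeparable (R ⧸ p) (S ⧸ P)] :
    Nat.card (MulAction.stabilizer G P) = Nat.card (inertia G P) * P.inertiaDeg R := by
  have hn : Normal (R ⧸ p) (S ⧸ P) := Ideal.Quotient.normal G p P
  have : IsGalois (R ⧸ p) (S ⧸ P) := { }
  have : Module.Finite (R ⧸ p) (S ⧸ P) := inferInstance
  have h1 : Subgroup.index _ = _ := Nat.card_congr
    (Ideal.Quotient.stabilizerQuotientInertiaEquiv G p P).toEquiv
  rw [Ideal.inertiaDeg_eq_of_isMaximal p P, ← IsGalois.card_aut_eq_finrank (R ⧸ p) (S ⧸ P), ← h1,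
    ← ((inertia G P).subgroupOf (MulAction.stabilizer G P)).card_mul_index,
    Nat.card_congr (Subgroup.subgroupOfEquivOfLe (inertia_le_stabilizer (M := G) P)).toEquiv,
    AddSubgroup.subgroupOf_inertia]

theorem card_inertia_eq_ramificationIdxIn [IsDomain R] [IsDomain S] [Module.Finite R S]
    [Module.Flat R S] (p : Ideal R) [p.IsMaximal] (P : Ideal S) [P.LiesOver p] [P.IsMaximal]
    [Algebra.IsSeparable (R ⧸ p) (S ⧸ P)] :
    Nat.card (P.inertia G) = Ideal.ramificationIdxIn p S := by
  have H : (p.primesOver S).ncard * Nat.card (P.inertia G) * P.inertiaDeg R = Nat.card G := by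
    rw [mul_assoc, ← card_stabilizer_eq_card_inertia_mul_inertiaDeg p P,
      ← Algebra.IsInvariant.orbit_eq_primesOver R S G p P]
    simpa using Nat.card_congr (MulAction.orbitProdStabilizerEquivGroup G P)
  rw [← inertiaDegIn_eq_inertiaDeg p P G] at H
  have h1 : (p.primesOver S).ncard ≠ 0 := by
    intro h0
    rw [h0, zero_mul, zero_mul] at H
    exact Nat.card_pos.ne' H.symm
  have h2 : p.inertiaDegIn S ≠ 0 := by
    intro h0
    rw [h0, mul_zero] at H
    exact Nat.card_pos.ne' H.symm
  rwa [← ncard_primesOver_mul_ramificationIdxIn_mul_inertiaDegIn p S G,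
    mul_assoc, mul_right_inj' h1, mul_left_inj' h2] at H

end Count

end Groth.Agent.Lib.Helper26.Ram
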