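import Mathlib
import Groth.Agent.Lib.Helper26.RamGrp5

set_option autoImplicit false
set_option linter.style.haveILetI false
set_option linter.unusedSectionVars false
open scoped Pointwise
open Ideal

namespace Groth.Agent.Lib.Helper26.Ram

section Basic

variable {B : Type*} [CommRing B] {G : Type*} [Group G] [MulSemiringAction G B] {m : Ideal B}

theorem mem_inertia_iff_inG_zero {σ : G} : σ ∈ m.inertia G ↔ InG m 0 σ := by
  unfold InG
  simp only [AddSubgroup.mem_inertia, Submodule.mem_toAddSubgroup, zero_add, pow_one]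

theorem mem_inertia_sq_iff_inG_one {σ : G} : σ ∈ (m ^ 2).inertia G ↔ InG m 1 σ := by
  unfold InG
  simp only [AddSubgroup.mem_inertia, Submodule.mem_toAddSubgroup]

theorem smul_mem_pow_of_mem_stabilizer {τ : G} (hτ : τ ∈ MulAction.stabilizer G m) :
    ∀ (j : ℕ) {y : B}, y ∈ m ^ j → τ • y ∈ m ^ j := by
  have h1 : τ • m = m := hτ
  have hm : ∀ y ∈ m, τ • y ∈ m := by
    intro y hy
    have := (Ideal.smul_mem_pointwise_smul_iff (a := τ) (S := m) (x := y)).2 hy
    rwa [h1] at this
  intro j
  induction j with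
  | zero => intro y _; simp
  | succ j ih =>
    intro y hy
    rw [pow_succ] at hy ⊢
    refine Submodule.mul_induction_on hy ?_ ?_
    · intro a ha b hb
      rw [smul_mul']
      exact Ideal.mul_mem_mul (ih ha) (hm b hb)
    · intro a b ha hb
      rw [smul_add]
      exact Ideal.add_mem _ ha hb

theorem wild_le_inertia :
    MulAction.stabilizer G m ⊓ (m ^ 2).inertia G ≤ m.inertia G := by
  intro σ hσ
  rw [mem_inertia_iff_inG_zero]
  exact (mem_inertia_sq_iff_inG_one.1 hσ.2).mono (by omega)

theorem wild_normal :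
    ((MulAction.stabilizer G m ⊓ (m ^ 2).inertia G).subgroupOf
      (MulAction.stabilizer G m)).Normal := by
  rw [Subgroup.normal_subgroupOf_iff inf_le_left]
  intro h k hh hk
  refine ⟨Subgroup.mul_mem _ (Subgroup.mul_mem _ hk hh.1) (Subgroup.inv_mem _ hk), ?_⟩
  change k * h * k⁻¹ ∈ (m ^ 2).inertia G
  rw [mem_inertia_sq_iff_inG_one]
  have hh2 := mem_inertia_sq_iff_inG_one.1 hh.2
  intro x
  have e : (k * h * k⁻¹) • x - x = k • (h • (k⁻¹ • x) - k⁻¹ • x) := by
    rw [smul_sub, mul_smul, mul_smul, smul_inv_smul]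
  rw [e]
  exact smul_mem_pow_of_mem_stabilizer hk (1 + 1) (hh2 _)

end Basic

end Groth.Agent.Lib.Helper26.Ram
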