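import Mathlib
import Groth.Agent.Lib.Helper26.RamGrp6

set_option autoImplicit false
set_option linter.style.haveILetI false
set_option linter.unusedSectionVars false
open scoped Pointwise
open Ideal

namespace Groth.Agent.Lib.Helper26.Ram

section Main

variable {A B G : Type*} [CommRing A] [CommRing B] [IsDedekindDomain B] [Algebra A B]
  [Group G] [Finite G] [MulSemiringAction G B] [SMulCommClass G A B] [FaithfulSMul G B]
  (p : Ideal A) [p.IsMaximal] (m : Ideal B) [m.IsMaximal] [m.LiesOver p]

/-- the wild inertia group -/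
abbrev wild (G : Type*) [Group G] [MulSemiringAction G B] (m : Ideal B) : Subgroup G :=
  MulAction.stabilizer G m ⊓ (m ^ 2).inertia G

theorem natCast_mem_of_charP (q : ℕ) [CharP (A ⧸ p) q] : (q : B) ∈ m := by
  have h1' : Ideal.Quotient.mk p (q : A) = 0 := by
    rw [map_natCast]; exact CharP.cast_eq_zero _ _
  rw [Ideal.Quotient.eq_zero_iff_mem, Ideal.over_def m p, Ideal.mem_comap] at h1'
  simpa using h1'

theorem natCast_not_mem_of_charZero [CharZero (A ⧸ p)] (n : ℕ) (hn : n ≠ 0) : (n : B) ∉ m := by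
  intro h
  have h1 : (n : A) ∈ p := by
    rw [Ideal.over_def m p, Ideal.mem_comap]
    simpa using h
  rw [← Ideal.Quotient.eq_zero_iff_mem, map_natCast] at h1
  exact hn (Nat.cast_eq_zero.1 h1)

theorem wild_isPGroup (q : ℕ) [CharP (A ⧸ p) q] : IsPGroup q (wild G m) := by
  have hmt : m ≠ ⊤ := Ideal.IsMaximal.ne_top inferInstance
  exact isPGroup_of_char hmt (natCast_mem_of_charP p m q) _
    (fun σ hσ => mem_inertia_sq_iff_inG_one.1 hσ.2)

theorem wild_eq_bot [CharZero (A ⧸ p)] : wild G m = ⊥ := by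
  rw [Subgroup.eq_bot_iff_forall]
  intro σ hσ
  exact eq_one_of_charZero (natCast_not_mem_of_charZero p m) (mem_inertia_sq_iff_inG_one.1 hσ.2)

attribute [local instance] Ideal.Quotient.field in
theorem charP_quot (q : ℕ) [CharP (A ⧸ p) q] : CharP (B ⧸ m) q :=
  charP_of_injective_algebraMap (algebraMap (A ⧸ p) (B ⧸ m)).injective q

end Main

end Groth.Agent.Lib.Helper26.Ram
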