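import Mathlib
import Groth.Agent.Lib.Helper26.RamGrp7

set_option autoImplicit false
set_option linter.style.haveILetI false
set_option linter.unusedSectionVars false
open scoped Pointwise
open Ideal

namespace Groth.Agent.Lib.Helper26.Ram

section Tame

variable {A B G : Type*} [CommRing A] [CommRing B] [IsDedekindDomain B] [Algebra A B]
  [Group G] [Finite G] [MulSemiringAction G B] [SMulCommClass G A B] [FaithfulSMul G B]
  (p : Ideal A) [p.IsMaximal] (m : Ideal B) [m.IsMaximal] [m.LiesOver p] (hm : m ≠ ⊥)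
  [Algebra.IsSeparable (A ⧸ p) (B ⧸ m)]

include hm p in
/-- the tame character: an injective homomorphism `I / P → (B / m)ˣ` -/
theorem exists_tame_character [((wild G m).subgroupOf (m.inertia G)).Normal] :
    ∃ ψ : (m.inertia G) ⧸ (wild G m).subgroupOf (m.inertia G) →* (B ⧸ m)ˣ,
      Function.Injective ψ := by
  obtain ⟨π, hπ1, hπ2⟩ := SetLike.exists_of_lt (Ideal.pow_succ_lt_pow hm 1)
  rw [pow_one] at hπ1
  have hI : ∀ σ ∈ m.inertia G, InG m 0 σ := fun σ hσ => mem_inertia_iff_inG_zero.1 hσ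
  set θ := theta hm hπ1 hπ2 (m.inertia G) hI with hθ
  set θu : (m.inertia G) →* (B ⧸ m)ˣ := θ.toHomUnits with hθu
  have hker : (wild G m).subgroupOf (m.inertia G) = θu.ker := by
    ext σ
    rw [Subgroup.mem_subgroupOf, MonoidHom.mem_ker, Units.ext_iff, MonoidHom.coe_toHomUnits,
      Units.val_one, hθ, theta_eq_one_iff]
    constructor
    · intro h
      exact (mem_inertia_sq_iff_inG_one.1 h.2) π
    · intro h
      have h1 : InG m 1 (σ : G) := inG_one_of_sep hm hπ1 hπ2 p (hI σ σ.2) h
      exact ⟨Ideal.inertia_le_stabilizer m σ.2, mem_inertia_sq_iff_inG_one.2 h1⟩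
  refine ⟨(QuotientGroup.kerLift θu).comp (QuotientGroup.quotientMulEquivOfEq hker).toMonoidHom,
    ?_⟩
  exact (QuotientGroup.kerLift_injective θu).comp (QuotientGroup.quotientMulEquivOfEq hker).injective

end Tame

section Field

variable {F : Type*} [Field F]

/-- in characteristic `q`, `q`-power roots of unity are trivial -/
theorem eq_one_of_pow_char_pow (q : ℕ) [Fact q.Prime] [CharP F q] (k : ℕ) {x : F}
    (h : x ^ (q ^ k) = 1) : x = 1 := by
  have h1 : (x - 1) ^ (q ^ k) = 0 := by
    rw [sub_pow_char_pow, h, one_pow, sub_self]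
  exact sub_eq_zero.1 (pow_eq_zero_iff (pow_ne_zero k (Nat.Prime.ne_zero Fact.out)) |>.1 h1)

/-- a finite group embedding into the units of a field of characteristic `q` has order prime
to `q` -/
theorem not_dvd_card_of_injective {Q : Type*} [Group Q] [Finite Q] (q : ℕ) [hq : Fact q.Prime]
    [CharP F q] (ψ : Q →* Fˣ) (hψ : Function.Injective ψ) : ¬ q ∣ Nat.card Q := by
  intro hdvd
  obtain ⟨x, hx⟩ := exists_prime_orderOf_dvd_card' q hdvd
  have h1 : x ^ q = 1 := by rw [← hx]; exact pow_orderOf_eq_one x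
  have h2 : ((ψ x : Fˣ) : F) ^ (q ^ 1) = 1 := by
    rw [pow_one, ← Units.val_pow_eq_pow_val, ← map_pow, h1, map_one, Units.val_one]
  have h3 := eq_one_of_pow_char_pow q 1 h2
  have h4 : ψ x = 1 := Units.ext h3
  have h5 : x = 1 := hψ (by rw [h4, map_one])
  rw [h5, orderOf_one] at hx
  exact hq.out.one_lt.ne hx

theorem card_rootsOfUnity_pow_mul_le (q : ℕ) [Fact q.Prime] [CharP F q] (k t : ℕ) (ht : t ≠ 0) :
    Nat.card (rootsOfUnity (q ^ k * t) F) ≤ t := by
  haveI : NeZero t := ⟨ht⟩
  have hle : rootsOfUnity (q ^ k * t) F ≤ rootsOfUnity t F := by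
    intro x hx
    rw [mem_rootsOfUnity'] at hx ⊢
    rw [mul_comm, pow_mul] at hx
    exact eq_one_of_pow_char_pow q k hx
  calc Nat.card (rootsOfUnity (q ^ k * t) F) ≤ Nat.card (rootsOfUnity t F) :=
        Subgroup.card_le_of_le hle
    _ ≤ t := card_rootsOfUnity F t

end Field

end Groth.Agent.Lib.Helper26.Ram
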