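import Mathlib
import Groth.Agent.Lib.Helper26.RamGrp8

set_option autoImplicit false
set_option linter.style.haveILetI false
set_option linter.unusedSectionVars false
open scoped Pointwise
open Ideal

namespace Groth.Agent.Lib.Helper26.Ram

section Tame

variable {A B G : Type*} [CommRing A] [CommRing B] [IsDedekindDomain B] [Algebra A B]
  [Group G] [Finite G] [MulSemiringAction G B] [SMulCommClass G A B] [FaithfulSMul G B]
  (p : Ideal A) [p.IsMaximal] (m : Ideal B) [m.IsMaximal] [m.LiesOver p] (hm : m ≠ ⊥)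
  [Algebra.IsSeparable (A ⧸ p) (B ⧸ m)]

include hm p in
attribute [local instance] Ideal.Quotient.field in
theorem tame_structure [((wild G m).subgroupOf (m.inertia G)).Normal] :
    IsCyclic ((m.inertia G) ⧸ (wild G m).subgroupOf (m.inertia G)) ∧
    (∀ q : ℕ, q.Prime → CharP (A ⧸ p) q →
      Nat.card ((m.inertia G) ⧸ (wild G m).subgroupOf (m.inertia G)) =
        Nat.card (m.inertia G) / q ^ (Nat.card (m.inertia G)).factorization q) ∧
    (CharZero (A ⧸ p) →
      Nat.card ((m.inertia G) ⧸ (wild G m).subgroupOf (m.inertia G)) = Nat.card (m.inertia G)) ∧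
    Nonempty ((m.inertia G) ⧸ (wild G m).subgroupOf (m.inertia G) ≃*
      ↥(rootsOfUnity (Nat.card (m.inertia G)) (B ⧸ m))) := by
  obtain ⟨ψ, hψ⟩ := exists_tame_character (G := G) p m hm
  set N := (wild G m).subgroupOf (m.inertia G) with hNdef
  set e := Nat.card (m.inertia G) with hedef
  have hcard : e = Nat.card ((m.inertia G) ⧸ N) * Nat.card N :=
    Subgroup.card_eq_card_quotient_mul_card_subgroup N
  have hN : Nat.card N = Nat.card (wild G m) :=
    Nat.card_congr (Subgroup.subgroupOfEquivOfLe wild_le_inertia).toEquiv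
  have hQpos : Nat.card ((m.inertia G) ⧸ N) ≠ 0 := Nat.card_pos.ne'
  have hepos : e ≠ 0 := Nat.card_pos.ne'
  -- the characteristic `q` computation
  have hchar : ∀ q : ℕ, q.Prime → CharP (A ⧸ p) q →
      ∃ k, e = q ^ k * Nat.card ((m.inertia G) ⧸ N) ∧ ¬ q ∣ Nat.card ((m.inertia G) ⧸ N) := by
    intro q hq hc
    haveI := hc
    haveI : Fact q.Prime := ⟨hq⟩
    haveI := charP_quot p m q
    have hnd := not_dvd_card_of_injective q ψ hψ
    obtain ⟨k, hk⟩ := (wild_isPGroup (G := G) p m q).exists_card_eq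
    refine ⟨k, ?_, hnd⟩
    rw [hcard, hN, hk, mul_comm]
  have hzero : CharZero (A ⧸ p) → Nat.card ((m.inertia G) ⧸ N) = e := by
    intro h0
    haveI := h0
    have h1 : Nat.card (wild G m) = 1 := by
      rw [wild_eq_bot (G := G) p m]; simp
    rw [hcard, hN, h1, mul_one]
  refine ⟨?_, ?_, hzero, ?_⟩
  · exact isCyclic_of_injective_ringHom ((Units.coeHom (B ⧸ m)).comp ψ)
      (Units.val_injective.comp hψ)
  · intro q hq hc
    obtain ⟨k, hk, hnd⟩ := hchar q hq hc
    have hfac : e.factorization q = k := by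
      rw [hk, Nat.factorization_mul (pow_ne_zero _ hq.ne_zero) hQpos, hq.factorization_pow,
        Finsupp.add_apply, Finsupp.single_eq_same, Nat.factorization_eq_zero_of_not_dvd hnd,
        add_zero]
    rw [hfac]
    conv_rhs => rw [hk]
    rw [Nat.mul_div_cancel_left _ (pow_pos hq.pos k)]
  · haveI : NeZero e := ⟨hepos⟩
    have hdvd : Nat.card ((m.inertia G) ⧸ N) ∣ e := ⟨_, hcard⟩
    have hmem : ∀ x : (m.inertia G) ⧸ N, ψ x ∈ rootsOfUnity e (B ⧸ m) := by
      intro x
      rw [mem_rootsOfUnity, ← map_pow]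
      obtain ⟨c, hc⟩ := hdvd
      rw [hc, pow_mul, pow_card_eq_one', one_pow, map_one]
    set ψ' := ψ.codRestrict (rootsOfUnity e (B ⧸ m)) hmem with hψ'
    have hinj : Function.Injective ψ' := (MonoidHom.injective_codRestrict _ _ _).2 hψ
    have hle : Nat.card (rootsOfUnity e (B ⧸ m)) ≤ Nat.card ((m.inertia G) ⧸ N) := by
      obtain ⟨q, hq⟩ := CharP.exists (A ⧸ p)
      rcases CharP.char_is_prime_or_zero (A ⧸ p) q with hprime | hq0
      · obtain ⟨k, hk, hnd⟩ := hchar q hprime hq
        haveI : Fact q.Prime := ⟨hprime⟩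
        haveI := charP_quot p m q
        rw [hk]
        exact card_rootsOfUnity_pow_mul_le q k _ hQpos
      · subst hq0
        haveI := CharP.charP_to_charZero (A ⧸ p)
        rw [hzero inferInstance]
        exact card_rootsOfUnity (B ⧸ m) e
    exact ⟨MulEquiv.ofBijective ψ' (hinj.bijective_of_nat_card_le hle)⟩

end Tame

end Groth.Agent.Lib.Helper26.Ram
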