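import Mathlib
import Groth.Agent.Lib.Helper26.RamGrp9

set_option autoImplicit false
set_option linter.style.haveILetI false
universe u
open scoped Pointwise

namespace Groth.Agent.Lib.Helper26.Ram

theorem inertia_wild_tame (A K L B : Type u) [CommRing A] [IsDomain A] [IsDiscreteValuationRing A]
    [CommRing B] [IsDomain B] [Field K] [Field L] [Algebra A K] [Algebra B L] [IsFractionRing A K] [IsFractionRing B L]
    [Algebra A B] [Algebra K L] [Algebra A L] [IsScalarTower A K L] [IsScalarTower A B L] [IsIntegralClosure B A L]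
    [FiniteDimensional K L] [IsGalois K L] (m : Ideal B) [m.IsMaximal]
    [Algebra.IsSeparable (A ⧸ m.comap (algebraMap A B)) (B ⧸ m)] :
    letI := IsIntegralClosure.MulSemiringAction A K L B
    let D : Subgroup (L ≃ₐ[K] L) := MulAction.stabilizer (L ≃ₐ[K] L) m
    let I : Subgroup (L ≃ₐ[K] L) := m.inertia (L ≃ₐ[K] L)
    let P : Subgroup (L ≃ₐ[K] L) := D ⊓ (m ^ 2).inertia (L ≃ₐ[K] L)
    let e : ℕ := Ideal.ramificationIdx' (IsLocalRing.maximalIdeal A) m
    P ≤ I ∧ I ≤ D ∧ (P.subgroupOf D).Normal ∧
    (∀ p : ℕ, p.Prime → CharP (A ⧸ m.comap (algebraMap A B)) p → IsPGroup p P) ∧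
    (CharZero (A ⧸ m.comap (algebraMap A B)) → P = ⊥) ∧
    (∀ [(P.subgroupOf I).Normal],
      IsCyclic (I ⧸ P.subgroupOf I) ∧
      (∀ p : ℕ, p.Prime → CharP (A ⧸ m.comap (algebraMap A B)) p → Nat.card (I ⧸ P.subgroupOf I) = e / p ^ e.factorization p) ∧
      (CharZero (A ⧸ m.comap (algebraMap A B)) → Nat.card (I ⧸ P.subgroupOf I) = e) ∧
      Nonempty (I ⧸ P.subgroupOf I ≃* ↥(rootsOfUnity e (B ⧸ m)))) := by
  letI := IsIntegralClosure.MulSemiringAction A K L B
  intro D I P e
  have h0 : Algebra.IsIntegral A B := IsIntegralClosure.isIntegral_algebra A L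
  have h1 : IsGaloisGroup (L ≃ₐ[K] L) A B := IsGaloisGroup.of_isFractionRing _ _ _ K L
  have h2 : IsDedekindDomain B := IsIntegralClosure.isDedekindDomain A K L B
  have h3 : Module.Finite A B := IsIntegralClosure.finite A K L B
  have h4 : FaithfulSMul (L ≃ₐ[K] L) B := h1.faithful
  have hinjAB : Function.Injective (algebraMap A B) := by
    have h5 : Function.Injective (algebraMap A L) := by
      rw [IsScalarTower.algebraMap_eq A K L]
      exact (algebraMap K L).injective.comp (IsFractionRing.injective A K)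
    rw [IsScalarTower.algebraMap_eq A B L] at h5
    exact Function.Injective.of_comp h5
  haveI : FaithfulSMul A B := (faithfulSMul_iff_algebraMap_injective A B).2 hinjAB
  haveI : Module.IsTorsionFree A B := Module.IsTorsionFree.of_faithfulSMul _ _ B
  set p : Ideal A := m.comap (algebraMap A B) with hp
  have hpmax : p = IsLocalRing.maximalIdeal A := IsLocalRing.eq_maximalIdeal inferInstance
  have hp0 : p ≠ ⊥ := by
    rw [hpmax]
    exact IsDiscreteValuationRing.not_a_field A
  have hm : m ≠ ⊥ := by
    intro h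
    apply hp0
    rw [hp, h]
    exact Ideal.comap_bot_of_injective _ (FaithfulSMul.algebraMap_injective A B)
  have hflat : Module.Flat A B := inferInstance
  have he : Nat.card I = e := by
    have e1 := card_inertia_eq_ramificationIdxIn (G := L ≃ₐ[K] L) p m
    have e2 := Ideal.ramificationIdxIn_eq_ramificationIdx p m (L ≃ₐ[K] L)
    have e3 := Ideal.ramificationIdx'_eq_ramificationIdx p m hp0
    change Nat.card (m.inertia (L ≃ₐ[K] L)) = Ideal.ramificationIdx' (IsLocalRing.maximalIdeal A) m
    rw [e1, e2, ← e3, hpmax]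
  refine ⟨wild_le_inertia, Ideal.inertia_le_stabilizer m, wild_normal, ?_, ?_, ?_⟩
  · intro q _ hc
    haveI := hc
    exact wild_isPGroup p m q
  · intro h0
    haveI := h0
    exact wild_eq_bot p m
  · intro hn
    have := tame_structure (G := L ≃ₐ[K] L) p m hm
    rw [he] at this
    exact this

end Groth.Agent.Lib.Helper26.Ram
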