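import Mathlib
import Groth.Agent.Lib.Helper26.RatExtA
import Groth.Agent.Lib.Helper26.RatExtB
import Groth.Agent.Lib.Helper26.RatExtC

set_option autoImplicit false
universe u

open CategoryTheory AlgebraicGeometry

namespace Groth.Agent.Lib.Helper26.RatExtD

open Groth.Agent.Lib.Helper26

theorem glue_two {X Y : Scheme.{u}} (U V : X.Opens) (f : U.toScheme ⟶ Y) (g : V.toScheme ⟶ Y)
    (h : X.homOfLE (inf_le_left : U ⊓ V ≤ U) ≫ f = X.homOfLE (inf_le_right : U ⊓ V ≤ V) ≫ g) :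
    ∃ k : (U ⊔ V).toScheme ⟶ Y, X.homOfLE (le_sup_left : U ≤ U ⊔ V) ≫ k = f ∧
      X.homOfLE (le_sup_right : V ≤ U ⊔ V) ≫ k = g := by
  let W : Bool → X.Opens := fun b => cond b U V
  have hW : ∀ b, W b ≤ U ⊔ V := by
    intro b
    cases b
    · exact le_sup_right
    · exact le_sup_left
  let 𝒰 : (U ⊔ V).toScheme.OpenCover :=
    { I₀ := Bool
      X := fun b => (W b).toScheme
      f := fun b => X.homOfLE (hW b)
      mem₀ := by
        rw [Scheme.presieve₀_mem_precoverage_iff]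
        refine ⟨fun x => ?_, inferInstance⟩
        rcases x.2 with hx | hx
        · exact ⟨true, ⟨⟨x.1, hx⟩, Subtype.ext (by simp)⟩⟩
        · exact ⟨false, ⟨⟨x.1, hx⟩, Subtype.ext (by simp)⟩⟩ }
  let F : ∀ b, (W b).toScheme ⟶ Y := fun b => match b with
    | true => f
    | false => g
  have hF : ∀ b b', Limits.pullback.fst (𝒰.f b) (𝒰.f b') ≫ F b =
      Limits.pullback.snd (𝒰.f b) (𝒰.f b') ≫ F b' := by
    intro b b'
    refine (cancel_epi (isPullback_opens_inf_le (hW b) (hW b')).isoPullback.hom).mp ?_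
    simp only [𝒰, IsPullback.isoPullback_hom_fst_assoc, IsPullback.isoPullback_hom_snd_assoc]
    cases b <;> cases b'
    · rfl
    · have e : X.homOfLE (inf_le_left : V ⊓ U ≤ V) =
          X.homOfLE (by rw [inf_comm] : V ⊓ U ≤ U ⊓ V) ≫ X.homOfLE inf_le_right := by simp
      have e' : X.homOfLE (inf_le_right : V ⊓ U ≤ U) =
          X.homOfLE (by rw [inf_comm] : V ⊓ U ≤ U ⊓ V) ≫ X.homOfLE inf_le_left := by simp
      change X.homOfLE (inf_le_left : V ⊓ U ≤ V) ≫ g = X.homOfLE (inf_le_right : V ⊓ U ≤ U) ≫ f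
      rw [e, e', Category.assoc, Category.assoc, h]
    · exact h
    · rfl
  refine ⟨𝒰.glueMorphisms F hF, ?_, ?_⟩
  · exact 𝒰.ι_glueMorphisms F hF true
  · exact 𝒰.ι_glueMorphisms F hF false

end Groth.Agent.Lib.Helper26.RatExtD
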