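import Mathlib
import Groth.Agent.Lib.Helper26.RatExtA
import Groth.Agent.Lib.Helper26.RatExtB
import Groth.Agent.Lib.Helper26.RatExtC
import Groth.Agent.Lib.Helper26.RatExtD

set_option autoImplicit false
universe u

open CategoryTheory AlgebraicGeometry

namespace Groth.Agent.Lib.Helper26.RatExtE

open Groth.Agent.Lib.Helper26

/-- local step: a partial map on `X` through `x`, equivalent to `(U, f)`. -/
theorem local_step {R : Type u} [CommRing R] [IsDedekindDomain R]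
    {X Y : Scheme.{u}} (pX : X ⟶ Spec (CommRingCat.of R)) (pY : Y ⟶ Spec (CommRingCat.of R))
    [Smooth pX] [IsProper pY] (U : X.Opens) (hU : Dense (U : Set X))
    (f : (U : Scheme.{u}) ⟶ Y) (hf : f ≫ pY = U.ι ≫ pX) (x : X)
    (hdim : ringKrullDim (X.presheaf.stalk x) ≤ 1) :
    ∃ (V' : X.Opens) (hUV : U ≤ V') (k : (V' : Scheme.{u}) ⟶ Y), x ∈ V' ∧
      X.homOfLE hUV ≫ k = f := by
  haveI : IsLocallyNoetherian X := LocallyOfFiniteType.isLocallyNoetherian pX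
  obtain ⟨hd, -⟩ := RatExtB.stalk_normal pX x
  haveI := hd
  obtain ⟨W₀, hxW₀, hint⟩ := RatExtB.exists_integral_nbhd X x
  haveI := hint
  let x' : W₀.toScheme := ⟨x, hxW₀⟩
  let sX' : W₀.toScheme ⟶ Spec (CommRingCat.of R) := W₀.ι ≫ pX
  obtain ⟨hd', hic'⟩ := RatExtB.stalk_normal sX' x'
  haveI := hic'
  haveI : IsLocallyNoetherian W₀.toScheme := LocallyOfFiniteType.isLocallyNoetherian sX'
  have hdim' : ringKrullDim (W₀.toScheme.presheaf.stalk x') ≤ 1 := by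
    have e : X.presheaf.stalk (W₀.ι x') ≅ W₀.toScheme.presheaf.stalk x' :=
      asIso (W₀.ι.stalkMap x')
    rw [← ringKrullDim_eq_of_ringEquiv e.commRingCatIsoToRingEquiv]
    exact hdim
  haveI : ValuationRing (W₀.toScheme.presheaf.stalk x') :=
    RatExtA.valuationRing_of_normal _ hdim'
  let f' : W₀.toScheme.PartialMap Y :=
    { domain := W₀.ι ⁻¹ᵁ U
      dense_domain := hU.preimage W₀.ι.isOpenEmbedding.isOpenMap
      hom := (W₀.ι ∣_ U) ≫ f }
  have hf' : f'.hom ≫ pY = f'.domain.ι ≫ sX' := by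
    change ((W₀.ι ∣_ U) ≫ f) ≫ pY = (W₀.ι ⁻¹ᵁ U).ι ≫ W₀.ι ≫ pX
    rw [Category.assoc, hf, ← Category.assoc, morphismRestrict_ι, Category.assoc]
  obtain ⟨g', hxg', hg', hcompat⟩ :=
    RatExtC.exists_partialMap_of_valuationRing' sX' pY f' hf' x'
  -- transport to X
  let D : X.Opens := W₀.ι ''ᵁ g'.domain
  let h : D.toScheme ⟶ Y := (W₀.ι.isoImage g'.domain).inv ≫ g'.hom
  have hxD : x ∈ D := ⟨x', hxg', rfl⟩
  have hrange : Set.range ((g'.domain ⊓ f'.domain).ι ≫ W₀.ι).base = Set.range (D ⊓ U).ι.base := by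
    rw [Scheme.Hom.comp_base, TopCat.coe_comp, Set.range_comp, Scheme.Opens.range_ι,
      Scheme.Opens.range_ι]
    ext y
    constructor
    · rintro ⟨z, ⟨hz1, hz2⟩, rfl⟩
      exact ⟨⟨z, hz1, rfl⟩, hz2⟩
    · rintro ⟨⟨z, hz1, rfl⟩, hz2⟩
      exact ⟨z, ⟨hz1, hz2⟩, rfl⟩
  let e := IsOpenImmersion.isoOfRangeEq ((g'.domain ⊓ f'.domain).ι ≫ W₀.ι) (D ⊓ U).ι hrange
  have he : e.hom ≫ (D ⊓ U).ι = (g'.domain ⊓ f'.domain).ι ≫ W₀.ι :=
    IsOpenImmersion.isoOfRangeEq_hom_fac _ _ _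
  have hglue : X.homOfLE (inf_le_left : D ⊓ U ≤ D) ≫ h = X.homOfLE (inf_le_right : D ⊓ U ≤ U) ≫ f := by
    rw [← cancel_epi e.hom]
    have e1 : e.hom ≫ X.homOfLE (inf_le_left : D ⊓ U ≤ D) ≫ (W₀.ι.isoImage g'.domain).inv =
        W₀.toScheme.homOfLE (inf_le_left : g'.domain ⊓ f'.domain ≤ g'.domain) := by
      rw [← cancel_mono (g'.domain.ι ≫ W₀.ι)]
      simp only [Category.assoc, Scheme.Hom.isoImage_inv_ι]
      rw [show X.homOfLE (inf_le_left : D ⊓ U ≤ D) ≫ (W₀.ι ''ᵁ g'.domain).ι = (D ⊓ U).ι from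
        Scheme.homOfLE_ι _ _, he, ← Category.assoc, Scheme.homOfLE_ι]
    have e2 : e.hom ≫ X.homOfLE (inf_le_right : D ⊓ U ≤ U) =
        W₀.toScheme.homOfLE (inf_le_right : g'.domain ⊓ f'.domain ≤ f'.domain) ≫ (W₀.ι ∣_ U) := by
      rw [← cancel_mono U.ι]
      simp only [Category.assoc, morphismRestrict_ι]
      rw [show X.homOfLE (inf_le_right : D ⊓ U ≤ U) ≫ U.ι = (D ⊓ U).ι from
        Scheme.homOfLE_ι _ _, he, ← Category.assoc, Scheme.homOfLE_ι]
    change e.hom ≫ X.homOfLE (inf_le_left : D ⊓ U ≤ D) ≫ (W₀.ι.isoImage g'.domain).inv ≫ g'.hom = _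
    rw [← Category.assoc, ← Category.assoc, Category.assoc e.hom, e1, ← Category.assoc, e2,
      Category.assoc]
    exact hcompat
  obtain ⟨k, hk1, hk2⟩ := RatExtD.glue_two D U h f hglue
  exact ⟨D ⊔ U, le_sup_right, k, Or.inl hxD, hk2⟩

end Groth.Agent.Lib.Helper26.RatExtE

namespace Groth.Agent.Lib.Helper26.RatExtE

open Groth.Agent.Lib.Helper26

theorem main_11107 {R : Type u} [CommRing R] [IsDedekindDomain R]
    {X Y : Scheme.{u}} (pX : X ⟶ Spec (CommRingCat.of R)) (pY : Y ⟶ Spec (CommRingCat.of R))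
    [Smooth pX] [IsProper pY] (U : X.Opens) (hU : Dense (U : Set X))
    (f : (U : Scheme.{u}) ⟶ Y) (hf : f ≫ pY = U.ι ≫ pX) :
    ∃ (V : X.Opens) (hUV : U ≤ V) (g : (V : Scheme.{u}) ⟶ Y),
      g ≫ pY = V.ι ≫ pX ∧ X.homOfLE hUV ≫ g = f ∧
      ∀ x : X, x ∉ V → (2 : WithBot ℕ∞) ≤ ringKrullDim (X.presheaf.stalk x) := by
  haveI : ∀ x : X, _root_.IsReduced (X.presheaf.stalk x) := fun x => by
    obtain ⟨hd, -⟩ := RatExtB.stalk_normal pX x
    infer_instance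
  haveI : IsReduced X := isReduced_of_isReduced_stalk X
  letI : X.Over (Spec (CommRingCat.of R)) := ⟨pX⟩
  letI : Y.Over (Spec (CommRingCat.of R)) := ⟨pY⟩
  haveI : Y.IsSeparated := by
    have : IsSeparated (pY ≫ Limits.terminal.from (Spec (CommRingCat.of R))) := inferInstance
    rw [Limits.terminal.comp_from] at this
    exact ⟨this⟩
  let f₀ : X.PartialMap Y := ⟨U, hU, f⟩
  haveI : f₀.IsOver (Spec (CommRingCat.of R)) := ⟨hf⟩
  let ρ := f₀.toRationalMap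
  let G := ρ.toPartialMap
  haveI : G.IsOver (Spec (CommRingCat.of R)) := inferInstance
  have hUV : U ≤ G.domain := f₀.le_domain_toRationalMap
  refine ⟨G.domain, hUV, G.hom, ?_, ?_, ?_⟩
  · exact CategoryTheory.comp_over G.hom (Spec (CommRingCat.of R))
  · exact f₀.toPartialMap_toRationalMap_restrict
  · intro x hx
    by_contra hlt
    rw [not_le] at hlt
    have hdim : ringKrullDim (X.presheaf.stalk x) ≤ 1 := by
      rw [← one_add_one_eq_two] at hlt
      exact ENat.WithBot.lt_add_one_iff.mp hlt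
    obtain ⟨V', hUV', k, hxV', hk⟩ := local_step pX pY U hU f hf x hdim
    apply hx
    change x ∈ ρ.domain
    rw [Scheme.RationalMap.mem_domain]
    refine ⟨⟨V', hU.mono hUV', k⟩, hxV', ?_⟩
    rw [Scheme.PartialMap.toRationalMap_eq_iff]
    refine ⟨U, hU, hUV', le_rfl, ?_⟩
    rw [Scheme.PartialMap.restrict_hom, Scheme.PartialMap.restrict_hom]
    change X.homOfLE hUV' ≫ k = X.homOfLE le_rfl ≫ f
    rw [hk]
    simp

end Groth.Agent.Lib.Helper26.RatExtE
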