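import Mathlib

set_option autoImplicit false
set_option linter.unusedVariables false

namespace Groth.Agent.Lib.Helper26.RedZA

open Matrix

section tracecrit
variable {Λ R : Type*} [CommRing Λ] [CommRing R] [Algebra Λ R] {ι : Type*} [Fintype ι]
  [DecidableEq ι]

/-- a nilpotent-mod-π element has traces in (π) -/
theorem trace_mem_of_pow_mem (b : Module.Basis ι Λ R) (π : Λ) (hπ : (Ideal.span {π}).IsPrime)
    (y : R) (k : ℕ) (hy : y ^ k ∈ Ideal.span {algebraMap Λ R π}) :
    Algebra.trace Λ R y ∈ Ideal.span {π} := by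
  obtain ⟨r, hr⟩ := Ideal.mem_span_singleton'.mp hy
  rw [Algebra.trace_eq_matrix_trace b]
  set M := Algebra.leftMulMatrix b y with hM
  have h1 : M ^ k = π • Algebra.leftMulMatrix b r := by
    rw [hM, ← map_pow, ← hr, map_mul, AlgHom.commutes, Algebra.algebraMap_eq_smul_one,
      mul_smul_comm, mul_one]
  let q := Ideal.Quotient.mk (Ideal.span {π})
  have h2 : (M.map q) ^ k = 0 := by
    have : (M.map q) ^ k = (M ^ k).map q := by
      have := (RingHom.mapMatrix q (m := ι)).map_pow M k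
      simpa [RingHom.mapMatrix_apply] using this.symm
    rw [this, h1]
    ext i j
    simp only [Matrix.map_apply, Matrix.smul_apply, smul_eq_mul, map_mul, Matrix.zero_apply]
    have : q π = 0 := Ideal.Quotient.eq_zero_iff_mem.mpr (Ideal.mem_span_singleton_self π)
    rw [this, zero_mul]
  have h3 : IsNilpotent (M.map q).trace :=
    Matrix.isNilpotent_trace_of_isNilpotent ⟨k, h2⟩
  have : IsDomain (Λ ⧸ Ideal.span {π}) := Ideal.Quotient.isDomain _
  have h4 : (M.map q).trace = 0 := h3.eq_zero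
  have h5 : q M.trace = 0 := by
    rw [← h4]
    simp [Matrix.trace, Matrix.map_apply, map_sum, Matrix.diag]
  exact Ideal.Quotient.eq_zero_iff_mem.mp h5

theorem reduced_mod_of_discr (b : Module.Basis ι Λ R) (π : Λ) (hπ : (Ideal.span {π}).IsPrime)
    (hδ : Algebra.discr Λ b ∉ Ideal.span {π}) (x : R) (k : ℕ)
    (hx : x ^ k ∈ Ideal.span {algebraMap Λ R π}) : x ∈ Ideal.span {algebraMap Λ R π} := by
  -- traces of x * b j lie in (π)
  have h1 : ∀ j, Algebra.trace Λ R (x * b j) ∈ Ideal.span {π} := by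
    intro j
    refine trace_mem_of_pow_mem b π hπ (x * b j) k ?_
    rw [mul_pow]
    exact Ideal.mul_mem_right _ _ hx
  set c := b.repr x with hc
  set G := Algebra.traceMatrix Λ b with hG
  have h2 : ∀ j, (c ᵥ* G) j ∈ Ideal.span {π} := by
    intro j
    have : (c ᵥ* G) j = Algebra.trace Λ R (x * b j) := by
      conv_rhs => rw [← b.sum_repr x]
      rw [Finset.sum_mul, map_sum]
      simp only [Matrix.vecMul, dotProduct, hG, Algebra.traceMatrix_apply, Algebra.traceForm_apply]
      refine Finset.sum_congr rfl (fun i _ => ?_)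
      rw [smul_mul_assoc, map_smul, smul_eq_mul]
    rw [this]; exact h1 j
  have h3 : ∀ i, G.det * c i ∈ Ideal.span {π} := by
    intro i
    have : G.det • c = (c ᵥ* G) ᵥ* G.adjugate := by
      rw [Matrix.vecMul_vecMul, Matrix.mul_adjugate, Matrix.vecMul_smul, Matrix.vecMul_one]
    have h' := congrFun this i
    simp only [Pi.smul_apply, smul_eq_mul] at h'
    rw [h']
    simp only [Matrix.vecMul, dotProduct]
    refine Ideal.sum_mem _ (fun j _ => Ideal.mul_mem_right _ _ (h2 j))
  have h4 : ∀ i, c i ∈ Ideal.span {π} := by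
    intro i
    rcases hπ.mem_or_mem (h3 i) with h | h
    · exact absurd h hδ
    · exact h
  have h5 : ∀ i, ∃ d : Λ, c i = d * π := fun i => by
    obtain ⟨d, hd⟩ := Ideal.mem_span_singleton'.mp (h4 i)
    exact ⟨d, hd.symm⟩
  choose d hd using h5
  rw [← b.sum_repr x, Ideal.mem_span_singleton']
  refine ⟨∑ i, d i • b i, ?_⟩
  rw [Finset.sum_mul]
  refine Finset.sum_congr rfl (fun i _ => ?_)
  rw [← hc, hd i, mul_smul, Algebra.smul_def π, smul_mul_assoc, mul_comm (b i)]

end tracecrit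

section torsion
variable {S M : Type*} [CommRing S] [IsNoetherianRing S] [AddCommGroup M] [Module S M]
  [Module.Finite S M]

theorem finite_torsion_primes :
    {p : ℕ | p.Prime ∧ ∃ m : M, m ≠ 0 ∧ (p : S) • m = 0}.Finite := by
  have hfin := associatedPrimes.finite S M
  have hsub : {p : ℕ | p.Prime ∧ ∃ m : M, m ≠ 0 ∧ (p : S) • m = 0} ⊆
      ⋃ 𝔮 ∈ associatedPrimes S M, {p : ℕ | p.Prime ∧ (p : S) ∈ 𝔮} := by
    rintro p ⟨hp, m, hm, hpm⟩
    obtain ⟨𝔮, h𝔮, hle⟩ := exists_le_isAssociatedPrime_of_isNoetherianRing S m hm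
    simp only [Set.mem_iUnion]
    refine ⟨𝔮, h𝔮, hp, hle ?_⟩
    rw [Submodule.mem_colon_singleton]
    simpa using hpm
  refine Set.Finite.subset (Set.Finite.biUnion hfin fun 𝔮 h𝔮 => ?_) hsub
  have hprime : 𝔮.IsPrime := h𝔮.isPrime
  refine Set.Subsingleton.finite ?_
  rintro p ⟨hp, hpq⟩ p' ⟨hp', hpq'⟩
  by_contra hne
  have hcop : Nat.Coprime p p' := (Nat.coprime_primes hp hp').mpr hne
  obtain ⟨a, b, hab⟩ := Nat.isCoprime_iff_coprime.mpr hcop
  have : (1 : S) ∈ 𝔮 := by
    have h1 : ((a * (p : ℤ) + b * (p' : ℤ) : ℤ) : S) = 1 := by rw [hab]; simp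
    rw [← h1]
    push_cast
    exact Ideal.add_mem _ (Ideal.mul_mem_left _ _ hpq) (Ideal.mul_mem_left _ _ hpq')
  exact hprime.ne_top ((Ideal.eq_top_iff_one _).mpr this)

end torsion

end Groth.Agent.Lib.Helper26.RedZA
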