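import Mathlib

set_option autoImplicit false
set_option linter.unusedVariables false
set_option linter.style.haveILetI false

namespace Groth.Agent.Lib.Helper26.RedZB

universe v

open scoped nonZeroDivisors

attribute [local instance] FractionRing.liftAlgebra

theorem exists_basis_discr_ne_zero (Λ : Type*) (R : Type v) [CommRing Λ] [IsDomain Λ] [CharZero Λ]
    [CommRing R] [IsDomain R] [Algebra Λ R] [FaithfulSMul Λ R] [Algebra.IsAlgebraic Λ R]
    [Algebra.FiniteType Λ R] [Module.Free Λ R] :
    ∃ (ι : Type v) (_ : Fintype ι) (_ : DecidableEq ι) (b : Module.Basis ι Λ R),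
      Algebra.discr Λ b ≠ 0 := by
  classical
  let F := FractionRing Λ
  let K := FractionRing R
  haveI : FaithfulSMul Λ K := FaithfulSMul.trans Λ R K
  haveI : IsLocalization (Algebra.algebraMapSubmonoid R Λ⁰) K := inferInstance
  let b := Module.Free.chooseBasis Λ R
  let bK := b.localizationLocalization F Λ⁰ K
  haveI : Algebra.IsAlgebraic Λ K := (IsFractionRing.isAlgebraic_iff' Λ R K).mp inferInstance
  haveI : Algebra.IsAlgebraic F K := (IsFractionRing.comap_isAlgebraic_iff (A := Λ)).mp inferInstance
  haveI : Algebra.EssFiniteType Λ K := inferInstance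
  haveI : Algebra.EssFiniteType F K := Algebra.EssFiniteType.of_comp Λ F K
  haveI : Module.Finite F K := Algebra.finite_of_essFiniteType_of_isAlgebraic
  haveI : Finite (Module.Free.ChooseBasisIndex Λ R) := Module.Finite.finite_basis bK
  haveI : Fintype (Module.Free.ChooseBasisIndex Λ R) := Fintype.ofFinite _
  haveI : CharZero F := charZero_of_injective_algebraMap (IsFractionRing.injective Λ F)
  haveI : Algebra.IsSeparable F K := inferInstance
  refine ⟨_, inferInstance, inferInstance, b, ?_⟩
  intro h0
  have h1 := Algebra.discr_localizationLocalization Λ Λ⁰ K b (Rₘ := F)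
  rw [h0, map_zero] at h1
  exact Algebra.discr_not_zero_of_basis F (b.localizationLocalization F Λ⁰ K) h1

end Groth.Agent.Lib.Helper26.RedZB
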