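import Mathlib
import Groth.Agent.Lib.Helper25.GFMod
import Groth.Agent.Lib.Helper26.RedZA
import Groth.Agent.Lib.Helper26.RedZB

set_option autoImplicit false
set_option linter.unusedVariables false
set_option linter.style.haveILetI false

namespace Groth.Agent.Lib.Helper26.RedZC

open scoped nonZeroDivisors
open Groth.Agent.Lib.Helper25

universe u

/-- reduction mod `p` is reduced for all but finitely many primes -/
def GoodRed (A : Type*) [CommRing A] : Prop :=
  ∃ E : Set ℕ, E.Finite ∧ ∀ p : ℕ, p.Prime → p ∉ E → ∀ (x : A) (k : ℕ),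
    x ^ k ∈ Ideal.span {(p : A)} → x ∈ Ideal.span {(p : A)}

/-- cancellation step: `γ` is a nonzerodivisor modulo `p` when `A/γ` has no `p`-torsion -/
theorem cancel_pow {A : Type*} [CommRing A] [IsDomain A] (γ : A) (hγ : γ ≠ 0) (p : ℕ)
    (htors : ∀ m : A ⧸ Ideal.span {γ}, (p : A) • m = 0 → m = 0) :
    ∀ (n : ℕ) (x a : A), x * γ ^ n = a * (p : A) → x ∈ Ideal.span {(p : A)} := by
  intro n
  induction n with
  | zero =>
    intro x a h
    rw [pow_zero, mul_one] at h
    rw [h]
    exact Ideal.mul_mem_left _ _ (Ideal.mem_span_singleton_self _)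
  | succ n ih =>
    intro x a h
    have h1 : (p : A) • (Ideal.Quotient.mk (Ideal.span {γ}) a) = 0 := by
      rw [← Ideal.Quotient.mk_eq_mk, ← Submodule.Quotient.mk_smul, Ideal.Quotient.mk_eq_mk,
        Ideal.Quotient.eq_zero_iff_mem, smul_eq_mul, mul_comm, ← h, pow_succ, ← mul_assoc]
      exact Ideal.mul_mem_left _ _ (Ideal.mem_span_singleton_self _)
    have h2 := htors _ h1
    rw [Ideal.Quotient.eq_zero_iff_mem, Ideal.mem_span_singleton'] at h2
    obtain ⟨a', ha'⟩ := h2
    refine ih x a' ?_
    have h3 : γ * (x * γ ^ n) = γ * (a' * (p : A)) := by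
      rw [← ha'] at h
      rw [pow_succ] at h
      linear_combination h
    exact mul_left_cancel₀ hγ h3

theorem goodRed_of_poly {P A : Type u} [CommRing P] [IsDomain P] [CharZero P] [CommRing A]
    [IsDomain A] [Algebra P A] [FaithfulSMul P A] [Algebra.IsAlgebraic P A]
    [Algebra.FiniteType P A] [IsNoetherianRing A]
    (hprime : ∀ p : ℕ, p.Prime → (Ideal.span {(p : P)}).IsPrime)
    (hfin : ∀ q : P, q ≠ 0 → {p : ℕ | p.Prime ∧ (p : P) ∣ q}.Finite) : GoodRed A := by
  classical
  obtain ⟨g, -, hg0, hGF⟩ := GFMod.exists_GF P A A 1 one_ne_zero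
  have hfree := (hGF g dvd_rfl).1
  let M := Submonoid.powers g
  let Λ := Localization.Away g
  let R := Localization (Algebra.algebraMapSubmonoid A M)
  have hinjPA : Function.Injective (algebraMap P A) := FaithfulSMul.algebraMap_injective P A
  have hM : M ≤ P⁰ := powers_le_nonZeroDivisors_of_noZeroDivisors hg0
  have hMA : Algebra.algebraMapSubmonoid A M ≤ A⁰ := by
    rintro _ ⟨m, hm, rfl⟩
    exact mem_nonZeroDivisors_of_ne_zero
      ((map_ne_zero_iff _ hinjPA).mpr (nonZeroDivisors.ne_zero (hM hm)))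
  haveI : IsDomain Λ := IsLocalization.isDomain_localization hM
  haveI : IsDomain R := IsLocalization.isDomain_localization hMA
  have hinjPΛ : Function.Injective (algebraMap P Λ) := IsLocalization.injective Λ hM
  have hinjAR : Function.Injective (algebraMap A R) := IsLocalization.injective R hMA
  haveI : CharZero Λ := charZero_of_injective_algebraMap hinjPΛ
  have hinjΛR : Function.Injective (algebraMap Λ R) :=
    localizationAlgebra_injective Λ R hinjPA
  haveI : FaithfulSMul Λ R := (faithfulSMul_iff_algebraMap_injective Λ R).mpr hinjΛR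
  -- algebraic
  haveI : Algebra.IsAlgebraic Λ R := by
    constructor
    intro r
    obtain ⟨a, s, rfl⟩ := IsLocalization.exists_mk'_eq (Algebra.algebraMapSubmonoid A M) r
    obtain ⟨m, hm, hms⟩ := s.2
    have ha : IsAlgebraic Λ (algebraMap A R a) :=
      ((Algebra.IsAlgebraic.isAlgebraic (R := P) a).algebraMap (A := R)).extendScalars hinjPΛ
    have hu : IsUnit (algebraMap P Λ m) := IsLocalization.map_units Λ (⟨m, hm⟩ : M)
    obtain ⟨lam, hlam⟩ := hu
    have h1 : IsLocalization.mk' R a s = ((lam⁻¹ : Λˣ) : Λ) • algebraMap A R a := by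
      refine (IsLocalization.eq_mk'_iff_mul_eq.mpr ?_).symm
      rw [Algebra.smul_def, mul_assoc, mul_comm (algebraMap A R a), ← mul_assoc]
      have : algebraMap A R (s : A) = algebraMap Λ R (lam : Λ) := by
        rw [hlam, ← hms, ← IsScalarTower.algebraMap_apply, ← IsScalarTower.algebraMap_apply]
      rw [this, ← map_mul, Units.inv_mul, map_one, one_mul]
    rw [h1]
    exact ha.smul _
  -- finite type
  haveI : Algebra.FiniteType P R := by
    have hAway : IsLocalization.Away (algebraMap P A g) R := by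
      have : Algebra.algebraMapSubmonoid A M = Submonoid.powers (algebraMap P A g) := by
        simp [Algebra.algebraMapSubmonoid, M, Submonoid.map_powers]
      change IsLocalization (Submonoid.powers (algebraMap P A g)) R
      rw [← this]
      infer_instance
    haveI : Algebra.FinitePresentation A R :=
      IsLocalization.Away.finitePresentation (algebraMap P A g)
    haveI : Algebra.FiniteType A R := inferInstance
    exact Algebra.FiniteType.trans (inferInstance : Algebra.FiniteType P A) inferInstance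
  haveI : Algebra.FiniteType Λ R := Algebra.FiniteType.of_restrictScalars_finiteType P Λ R
  -- free
  haveI : Module.Free Λ R := by
    haveI : IsLocalizedModule M (IsScalarTower.toAlgHom P A R).toLinearMap :=
      isLocalizedModule_iff_isLocalization.mpr inferInstance
    let e1 := IsLocalizedModule.iso M (IsScalarTower.toAlgHom P A R).toLinearMap
    let e2 := LinearEquiv.extendScalarsOfIsLocalization M Λ e1
    exact Module.Free.of_equiv e2
  obtain ⟨ι, _, _, b, hδ⟩ := RedZB.exists_basis_discr_ne_zero Λ R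
  set δ := Algebra.discr Λ b with hδdef
  obtain ⟨⟨q, s⟩, hqs⟩ := IsLocalization.surj M δ
  simp only at hqs
  have hq0 : q ≠ 0 := by
    rintro rfl
    rw [map_zero] at hqs
    have hu : IsUnit (algebraMap P Λ s) := IsLocalization.map_units Λ s
    exact hδ (hu.mul_left_eq_zero.mp hqs)
  let γ : A := algebraMap P A g
  have hγ0 : γ ≠ 0 := (map_ne_zero_iff _ hinjPA).mpr hg0
  let E : Set ℕ := ({p | p.Prime ∧ (p : P) ∣ q} ∪ {p | p.Prime ∧ (p : P) ∣ g}) ∪
    {p | p.Prime ∧ ∃ m : A ⧸ Ideal.span {γ}, m ≠ 0 ∧ (p : A) • m = 0}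
  refine ⟨E, ((hfin q hq0).union (hfin g hg0)).union RedZA.finite_torsion_primes, ?_⟩
  intro p hp hpE x k hx
  simp only [E, Set.mem_union, Set.mem_ofPred_eq, not_or, not_and] at hpE
  obtain ⟨⟨hpq, hpg⟩, hptors⟩ := hpE
  have hpq' : ¬ (p : P) ∣ q := hpq hp
  have hpg' : ¬ (p : P) ∣ g := hpg hp
  have htors : ∀ m : A ⧸ Ideal.span {γ}, (p : A) • m = 0 → m = 0 := by
    intro m hm
    by_contra h0
    exact hptors hp ⟨m, h0, hm⟩
  have hIp := hprime p hp
  have hdisj : Disjoint (M : Set P) (Ideal.span {(p : P)} : Set P) := by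
    rw [Set.disjoint_left]
    rintro _ ⟨n, rfl⟩ hmem
    have : g ∈ Ideal.span {(p : P)} := hIp.mem_of_pow_mem n hmem
    exact hpg' (Ideal.mem_span_singleton.mp this)
  have hmapspan : Ideal.map (algebraMap P Λ) (Ideal.span {(p : P)}) = Ideal.span {(p : Λ)} := by
    rw [Ideal.map_span, Set.image_singleton, map_natCast]
  have hprimeΛ : (Ideal.span {(p : Λ)}).IsPrime := by
    rw [← hmapspan]
    exact IsLocalization.isPrime_of_isPrime_disjoint M Λ _ hIp hdisj
  have hδnot : δ ∉ Ideal.span {(p : Λ)} := by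
    intro hmem
    have h1 : algebraMap P Λ q ∈ Ideal.map (algebraMap P Λ) (Ideal.span {(p : P)}) := by
      rw [hmapspan, ← hqs]
      exact Ideal.mul_mem_right _ _ hmem
    have h2 : q ∈ Ideal.under P (Ideal.map (algebraMap P Λ) (Ideal.span {(p : P)})) := h1
    rw [IsLocalization.under_map_of_isPrime_disjoint M Λ hIp hdisj] at h2
    exact hpq' (Ideal.mem_span_singleton.mp h2)
  have hx' : (algebraMap A R x) ^ k ∈ Ideal.span {algebraMap Λ R (p : Λ)} := by
    rw [map_natCast, ← map_natCast (algebraMap A R), ← map_pow]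
    obtain ⟨c, hc⟩ := Ideal.mem_span_singleton'.mp hx
    rw [← hc, map_mul]
    exact Ideal.mul_mem_left _ _ (Ideal.mem_span_singleton_self _)
  have hmem := RedZA.reduced_mod_of_discr b (p : Λ) hprimeΛ hδnot (algebraMap A R x) k hx'
  rw [map_natCast] at hmem
  obtain ⟨r, hr⟩ := Ideal.mem_span_singleton'.mp hmem
  obtain ⟨a, s', rfl⟩ := IsLocalization.exists_mk'_eq (Algebra.algebraMapSubmonoid A M) r
  obtain ⟨m, ⟨n, rfl⟩, hms⟩ := s'.2
  have h3 : x * γ ^ n = a * (p : A) := by
    apply hinjAR
    have hs : algebraMap A R (γ ^ n) = algebraMap A R (s' : A) := by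
      rw [← hms]
      simp only [γ, map_pow]
    rw [map_mul, map_mul, map_natCast, hs, ← hr, mul_right_comm, IsLocalization.mk'_spec]
  exact cancel_pow γ hγ0 p htors n x a h3

section mvpoly

theorem mvPoly_natCast (T : Type*) (p : ℕ) :
    (p : MvPolynomial T ℤ) = MvPolynomial.C (p : ℤ) := by simp

theorem mvPoly_prime (T : Type*) (p : ℕ) (hp : p.Prime) :
    (Ideal.span {(p : MvPolynomial T ℤ)}).IsPrime := by
  rw [mvPoly_natCast, Ideal.span_singleton_prime]
  · exact (MvPolynomial.prime_C_iff T).mpr (Nat.prime_iff_prime_int.mp hp)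
  · intro h
    have := MvPolynomial.C_injective T ℤ (h.trans (MvPolynomial.C_0).symm)
    exact hp.ne_zero (by exact_mod_cast this)

theorem mvPoly_fin (T : Type*) (q : MvPolynomial T ℤ) (hq : q ≠ 0) :
    {p : ℕ | p.Prime ∧ (p : MvPolynomial T ℤ) ∣ q}.Finite := by
  obtain ⟨m, hm⟩ := MvPolynomial.ne_zero_iff.mp hq
  refine Set.Finite.subset (Nat.divisors (q.coeff m).natAbs).finite_toSet ?_
  rintro p ⟨hp, hdvd⟩
  rw [Finset.mem_coe, Nat.mem_divisors]
  refine ⟨?_, Int.natAbs_ne_zero.mpr hm⟩
  rw [mvPoly_natCast, MvPolynomial.C_dvd_iff_dvd_coeff] at hdvd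
  exact Int.natCast_dvd.mp (hdvd m)

end mvpoly

theorem goodRed_domain_charZero (A : Type u) [CommRing A] [IsDomain A] [CharZero A]
    [Algebra.FiniteType ℤ A] : GoodRed A := by
  classical
  obtain ⟨S0, hS0⟩ := (Algebra.FiniteType.out : (⊤ : Subalgebra ℤ A).FG)
  haveI : Algebra.IsAlgebraic (Algebra.adjoin ℤ (S0 : Set A)) A :=
    ⟨fun a => isAlgebraic_algebraMap (⟨a, by rw [hS0]; trivial⟩ : Algebra.adjoin ℤ (S0 : Set A))⟩
  have hinjZ : Function.Injective (algebraMap ℤ A) := FaithfulSMul.algebraMap_injective ℤ A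
  obtain ⟨u, -, hu, hT⟩ := exists_isTranscendenceBasis_between (R := ℤ) (∅ : Set A) (S0 : Set A)
    (Set.empty_subset _) (algebraicIndependent_empty_type_iff.mpr hinjZ)
  haveI : Finite u := (S0.finite_toSet.subset hu).to_subtype
  let P := MvPolynomial u ℤ
  let t : u → A := Subtype.val
  letI : Algebra P A := (MvPolynomial.aeval t).toRingHom.toAlgebra
  haveI : IsScalarTower ℤ P A := IsScalarTower.of_algebraMap_eq
    (fun z => ((MvPolynomial.aeval t).commutes z).symm)
  have hinj : Function.Injective (algebraMap P A) := hT.1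
  haveI : FaithfulSMul P A := (faithfulSMul_iff_algebraMap_injective P A).mpr hinj
  haveI : Algebra.IsAlgebraic (Algebra.adjoin ℤ (Set.range t)) A := hT.isAlgebraic
  haveI : Algebra.IsAlgebraic P A := by
    let f : P →+* (Algebra.adjoin ℤ (Set.range t)) := hT.1.aevalEquiv.toAlgHom.toRingHom
    have hf : Function.Surjective f := hT.1.aevalEquiv.surjective
    have hcomp : RingHom.comp (algebraMap (Algebra.adjoin ℤ (Set.range t)) A) f =
        RingHom.comp (RingHom.id A) (algebraMap P A) := by
      apply RingHom.ext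
      intro q
      simp only [RingHom.coe_comp, Function.comp_apply, RingHom.id_apply]
      exact hT.1.algebraMap_aevalEquiv q
    exact Algebra.IsAlgebraic.of_ringHom_of_comp_eq f (RingHom.id A) hf Function.injective_id hcomp
  haveI : Algebra.FiniteType P A := Algebra.FiniteType.of_restrictScalars_finiteType ℤ P A
  haveI : IsNoetherianRing A := Algebra.FiniteType.isNoetherianRing ℤ A
  exact goodRed_of_poly (P := P) (mvPoly_prime u) (mvPoly_fin u)

theorem goodRed_domain_charP (A : Type*) [CommRing A] [IsDomain A] (l : ℕ) (hl : l.Prime)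
    (h0 : (l : A) = 0) : GoodRed A := by
  refine ⟨{l}, Set.finite_singleton l, ?_⟩
  intro p hp hpl x k _
  have hne : p ≠ l := hpl
  have hcop : Nat.Coprime p l := (Nat.coprime_primes hp hl).mpr hne
  obtain ⟨a, b, hab⟩ := Nat.isCoprime_iff_coprime.mpr hcop
  have h1 : ((a * (p : ℤ) + b * (l : ℤ) : ℤ) : A) = 1 := by rw [hab]; simp
  push_cast at h1
  rw [h0, mul_zero, add_zero] at h1
  have : Ideal.span {(p : A)} = ⊤ := by
    rw [Ideal.eq_top_iff_one, ← h1]
    exact Ideal.mul_mem_left _ _ (Ideal.mem_span_singleton_self _)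
  rw [this]; trivial

theorem goodRed_domain (A : Type u) [CommRing A] [IsDomain A] [Algebra.FiniteType ℤ A] :
    GoodRed A := by
  by_cases h : CharZero A
  · exact goodRed_domain_charZero A
  · have hchar : ringChar A ≠ 0 := by
      intro h0
      haveI : CharP A 0 := by rw [← h0]; exact ringChar.charP A
      exact h (CharP.charP_to_charZero A)
    have hprime : (ringChar A).Prime :=
      (CharP.char_is_prime_or_zero A (ringChar A)).resolve_right hchar
    exact goodRed_domain_charP A (ringChar A) hprime (ringChar.Nat.cast_ringChar)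

end Groth.Agent.Lib.Helper26.RedZC
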