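import Mathlib
import Groth.Agent.Lib.Helper26.RedZC

set_option autoImplicit false
set_option linter.unusedVariables false
set_option linter.style.haveILetI false

namespace Groth.Agent.Lib.Helper26.RedZD

open Groth.Agent.Lib.Helper26.RedZC

universe u

theorem goodRed_reduced (A : Type u) [CommRing A] [IsReduced A] [Algebra.FiniteType ℤ A] :
    GoodRed A := by
  classical
  haveI : IsNoetherianRing A := Algebra.FiniteType.isNoetherianRing ℤ A
  have hfin : (minimalPrimes A).Finite := Ideal.finite_minimalPrimes_of_isNoetherianRing A (⊥ : Ideal A)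
  let ps : Finset (Ideal A) := hfin.toFinset
  have hps : ∀ 𝔭 : ps, (𝔭 : Ideal A).IsPrime := fun 𝔭 =>
    ((hfin.mem_toFinset).mp 𝔭.2).1.1
  haveI : ∀ 𝔭 : ps, IsDomain (A ⧸ (𝔭 : Ideal A)) := fun 𝔭 =>
    haveI := hps 𝔭
    Ideal.Quotient.isDomain _
  let A' := ∀ 𝔭 : ps, A ⧸ (𝔭 : Ideal A)
  let ι : A →ₗ[A] A' := Algebra.linearMap A A'
  have hιapp : ∀ (x : A) (𝔭 : ps), ι x 𝔭 = Ideal.Quotient.mk _ x := fun x 𝔭 => rfl
  have hιinj : Function.Injective ι := by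
    rw [← LinearMap.ker_eq_bot, LinearMap.ker_eq_bot']
    intro x hx
    have h1 : x ∈ sInf (minimalPrimes A) := by
      rw [Ideal.mem_sInf]
      intro 𝔭 h𝔭
      have := congrFun hx ⟨𝔭, hfin.mem_toFinset.mpr h𝔭⟩
      rw [hιapp] at this
      exact Ideal.Quotient.eq_zero_iff_mem.mp this
    rw [minimalPrimes, Ideal.sInf_minimalPrimes] at h1
    have h2 : (⊥ : Ideal A).radical = ⊥ := by
      have := nilradical_eq_zero A
      rw [nilradical] at this
      exact this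
    rw [h2] at h1
    exact h1
  let Q := A' ⧸ LinearMap.range ι
  have hQfin : {p : ℕ | p.Prime ∧ ∃ m : Q, m ≠ 0 ∧ (p : A) • m = 0}.Finite :=
    RedZA.finite_torsion_primes
  haveI : ∀ 𝔭 : ps, Algebra.FiniteType ℤ (A ⧸ (𝔭 : Ideal A)) := fun 𝔭 =>
    Algebra.FiniteType.of_surjective (Ideal.Quotient.mkₐ ℤ (𝔭 : Ideal A)) (Ideal.Quotient.mkₐ_surjective ℤ _)
  have hgood : ∀ 𝔭 : ps, GoodRed (A ⧸ (𝔭 : Ideal A)) := fun 𝔭 =>
    by
      have h := Algebra.FiniteType.of_surjective (Ideal.Quotient.mkₐ ℤ (𝔭 : Ideal A))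
        (Ideal.Quotient.mkₐ_surjective ℤ _)
      exact @goodRed_domain (A ⧸ (𝔭 : Ideal A)) (Ideal.Quotient.commRing _) inferInstance
        (Algebra.FiniteType.of_surjective (Ideal.Quotient.mk (𝔭 : Ideal A)).toIntAlgHom
          Ideal.Quotient.mk_surjective)
  choose E hEfin hE using hgood
  refine ⟨{p : ℕ | p.Prime ∧ ∃ m : Q, m ≠ 0 ∧ (p : A) • m = 0} ∪ ⋃ 𝔭 : ps, E 𝔭,
    hQfin.union (Set.finite_iUnion hEfin), ?_⟩
  intro p hp hpE x k hx
  simp only [Set.mem_union, Set.mem_iUnion, not_or, not_exists] at hpE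
  obtain ⟨hpQ, hpE'⟩ := hpE
  have hy : ∀ 𝔭 : ps, ∃ y : A ⧸ (𝔭 : Ideal A), Ideal.Quotient.mk _ x = y * (p : A ⧸ (𝔭 : Ideal A)) := by
    intro 𝔭
    have h1 : (Ideal.Quotient.mk (𝔭 : Ideal A) x) ^ k ∈ Ideal.span {(p : A ⧸ (𝔭 : Ideal A))} := by
      obtain ⟨c, hc⟩ := Ideal.mem_span_singleton'.mp hx
      rw [← map_pow, ← hc, map_mul, map_natCast]
      exact Ideal.mul_mem_left _ _ (Ideal.mem_span_singleton_self _)
    have h2 := hE 𝔭 p hp (hpE' 𝔭) _ k h1
    obtain ⟨y, hy⟩ := Ideal.mem_span_singleton'.mp h2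
    exact ⟨y, hy.symm⟩
  choose y hy using hy
  have h3 : ι x = (p : A) • (y : A') := by
    funext 𝔭
    rw [hιapp, hy 𝔭, Pi.smul_apply, Algebra.smul_def, map_natCast, mul_comm]
  have h4 : (p : A) • (Submodule.Quotient.mk (y : A') : Q) = 0 := by
    rw [← Submodule.Quotient.mk_smul, ← h3, Submodule.Quotient.mk_eq_zero]
    exact ⟨x, rfl⟩
  have h5 : (Submodule.Quotient.mk (y : A') : Q) = 0 := by
    by_contra h0
    exact hpQ ⟨hp, _, h0, h4⟩
  rw [Submodule.Quotient.mk_eq_zero] at h5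
  obtain ⟨a, ha⟩ := h5
  have h6 : ι x = ι ((p : A) * a) := by
    rw [h3, ← ha, ← smul_eq_mul, map_smul]
  have h7 := hιinj h6
  rw [h7]
  exact Ideal.mul_mem_right _ _ (Ideal.mem_span_singleton_self _)

theorem main (A : Type u) [CommRing A] [Algebra.FiniteType ℤ A] [IsReduced A] :
    {p : ℕ | p.Prime ∧ ¬ IsReduced (A ⧸ Ideal.span {(p : A)})}.Finite := by
  obtain ⟨E, hEfin, hE⟩ := goodRed_reduced A
  refine hEfin.subset ?_
  rintro p ⟨hp, hnot⟩
  by_contra hpE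
  apply hnot
  rw [← Ideal.isRadical_iff_quotient_reduced]
  intro x hx
  obtain ⟨k, hk⟩ := hx
  exact hE p hp hpE x k hk

end Groth.Agent.Lib.Helper26.RedZD
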