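import Mathlib
import Groth.Agent.Lib.Helper26.GenericAffine
import Groth.Agent.Lib.Helper26.FinitePushAss
import Groth.Agent.Lib.Helper29.QCohAss2
import Groth.Agent.Lib.Helper29.QCohIdealMod

set_option linter.style.haveILetI false

namespace Groth.Agent.Lib.Helper26.ReducedWeakAss

open Groth.Agent.Lib.Helper26

/-- In a reduced ring, a prime minimal over the annihilator of an element is a minimal prime. -/
theorem mem_minimalPrimes_of_isReduced {A : Type*} [CommRing A] [IsReduced A] (J p : Ideal A)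
    (a : A) (hJ : ∀ r, r ∈ J ↔ r * a = 0) (hp : p ∈ J.minimalPrimes) : p ∈ minimalPrimes A := by
  haveI hpp : p.IsPrime := hp.1.1
  have key : ∀ x ∈ p, ∃ y ∉ p, y * x * a = 0 := by
    intro x hx
    obtain ⟨y, hy, n, hyn⟩ := FinitePushAss.exists_mul_pow_mem J p hp x hx
    refine ⟨y, hy, ?_⟩
    rw [hJ] at hyn
    apply IsReduced.eq_zero
    refine ⟨n + 1, ?_⟩
    have : (y * x * a) ^ (n + 1) = (y * x ^ n * a) * (y ^ n * x * a ^ n) := by ring
    rw [this, hyn, zero_mul]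
  have ha : a ∉ p := by
    intro hap
    obtain ⟨y, hy, hya⟩ := key a hap
    apply hy
    apply hp.1.2
    rw [hJ]
    apply IsReduced.eq_zero
    refine ⟨2, ?_⟩
    have : (y * a) ^ 2 = y * (y * a * a) := by ring
    rw [this, hya, mul_zero]
  refine ⟨⟨hpp, bot_le⟩, ?_⟩
  rintro p' ⟨hp', -⟩ hle x hx
  obtain ⟨y, hy, hyx⟩ := key x hx
  have h0 : y * x * a ∈ p' := by rw [hyx]; exact zero_mem _
  rcases hp'.mem_or_mem h0 with h1 | h1
  · rcases hp'.mem_or_mem h1 with h2 | h2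
    · exact absurd (hle h2) hy
    · exact h2
  · exact absurd (hle h1) ha

universe u
open CategoryTheory CategoryTheory.Limits AlgebraicGeometry Opposite TopologicalSpace
open Groth.Agent.Lib.Helper29.QCoh

variable {X : Scheme.{u}}

theorem eq_of_specializes_of_mem_minimalPrimes {U : X.Opens} (hU : IsAffineOpen U) (x : X)
    (hx : x ∈ U) (hmin : (hU.primeIdealOf ⟨x, hx⟩).asIdeal ∈ minimalPrimes Γ(X, U))
    (y : X) (hy : y ⤳ x) : y = x := by
  have hyU : y ∈ U := hy.mem_open U.isOpen hx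
  apply eq_of_primeIdealOf_eq hU y x hyU hx
  have h1 : (⟨y, hyU⟩ : U) ⤳ ⟨x, hx⟩ :=
    (Topology.IsInducing.subtypeVal.specializes_iff (x := (⟨y, hyU⟩ : U)) (y := ⟨x, hx⟩)).mp hy
  have h2 : hU.primeIdealOf ⟨y, hyU⟩ ⤳ hU.primeIdealOf ⟨x, hx⟩ :=
    h1.map (hU.isoSpec.hom.continuous)
  have h3 : hU.primeIdealOf ⟨y, hyU⟩ ≤ hU.primeIdealOf ⟨x, hx⟩ :=
    (PrimeSpectrum.le_iff_specializes _ _).mpr h2
  apply PrimeSpectrum.ext
  exact le_antisymm h3 (hmin.2 ⟨(hU.primeIdealOf ⟨y, hyU⟩).isPrime, bot_le⟩ h3)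

theorem main (X : Scheme.{u}) [IsReduced X] (x : ↥X) :
    Curv2.IsWeakAssPoint (Coh.structureModule X) x ↔ ∀ y : ↥X, y ⤳ x → y = x := by
  obtain ⟨U, hU, hxU, -⟩ := exists_isAffineOpen_mem_and_subset (x := x) (U := ⊤) trivial
  constructor
  · intro h
    obtain ⟨m, hm⟩ := exists_mem_minimalPrimes_of_isWeakAssPoint (unitM X) hU x hxU h
    have hmin := mem_minimalPrimes_of_isReduced (A := Γ(X, U)) _ _ (show Γ(X, U) from m)
      (fun r => by rw [mem_annSection]; rfl) hm
    exact eq_of_specializes_of_mem_minimalPrimes hU x hxU hmin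
  · intro h
    have hmin := GenericAffine.primeIdealOf_mem_minimalPrimes hU x hxU h
    apply isWeakAssPoint_of_mem_minimalPrimes (unitM X) hU (toUnit (1 : Γ(X, U))) x hxU
    have e : annSection (unitM X) (toUnit (1 : Γ(X, U))) = ⊥ := by
      ext r
      rw [mem_annSection, Ideal.mem_bot]
      change r * 1 = 0 ↔ _
      rw [mul_one]
    rw [e]
    exact hmin

end Groth.Agent.Lib.Helper26.ReducedWeakAss
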