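import Mathlib

namespace Groth.Agent.Lib.Helper26.RegImmA
universe u
open TopologicalSpace Topology AlgebraicGeometry CategoryTheory

theorem isCompact_preimage_of_isClosedImmersion {X Y : Scheme.{u}} (f : X ⟶ Y) (U : Y.Opens)
    (hU : IsAffineOpen U) [IsClosedImmersion (f ∣_ U)] : IsCompact ((f ⁻¹ᵁ U : X.Opens) : Set X) := by
  haveI : CompactSpace ↥(U : Scheme.{u}) := isCompact_iff_compactSpace.mp hU.isCompact
  have h1 : IsCompact ((f ∣_ U) ⁻¹' (Set.univ : Set ↥(U : Scheme.{u}))) :=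
    QuasiCompact.isCompact_preimage (f := f ∣_ U) _ isOpen_univ isCompact_univ
  have h2 : ((f ∣_ U) ⁻¹' (Set.univ : Set ↥(U : Scheme.{u}))) = Set.univ := Set.preimage_univ
  rw [h2] at h1
  exact isCompact_iff_compactSpace.mpr ⟨h1⟩

theorem range_morphismRestrict {X Y : Scheme.{u}} (f : X ⟶ Y) (U : Y.Opens) :
    Set.range (f ∣_ U) = Subtype.val ⁻¹' (Set.range f) := by
  ext y
  constructor
  · rintro ⟨x, rfl⟩
    exact ⟨x.1, (morphismRestrict_base_coe f U x).symm⟩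
  · rintro ⟨x, hx⟩
    have hxU : x ∈ f ⁻¹ᵁ U := by
      change f x ∈ U
      rw [hx]; exact y.2
    refine ⟨⟨x, hxU⟩, Subtype.ext ?_⟩
    rw [morphismRestrict_base_coe]
    exact hx

theorem preimage_range_eq_zeroLocus {X Y : Scheme.{u}} (f : X ⟶ Y) (U : Y.Opens)
    (hU : IsAffineOpen U) [IsClosedImmersion (f ∣_ U)] (I : Ideal Γ(Y, U))
    (hker : RingHom.ker (f.app U).hom = I) :
    hU.fromSpec ⁻¹' (Set.range f) = PrimeSpectrum.zeroLocus (I : Set Γ(Y, U)) := by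
  have hbo : ∀ (a : Γ(Y, U)) (𝔭 : PrimeSpectrum Γ(Y, U)),
      hU.fromSpec 𝔭 ∈ Y.basicOpen a ↔ a ∉ 𝔭.asIdeal := by
    intro a 𝔭
    have := hU.fromSpec_preimage_basicOpen a
    have h2 : 𝔭 ∈ hU.fromSpec ⁻¹ᵁ (Y.basicOpen a) ↔ 𝔭 ∈ PrimeSpectrum.basicOpen a := by
      rw [this]; rfl
    exact h2
  refine Set.ext fun 𝔭 => ?_
  constructor
  · rintro ⟨x', hx'⟩
    refine (PrimeSpectrum.mem_zeroLocus (𝔭 : PrimeSpectrum Γ(Y, U)) _).mpr ?_
    intro a ha
    by_contra hna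
    have h1 : hU.fromSpec 𝔭 ∈ Y.basicOpen a := (hbo a 𝔭).mpr hna
    rw [← hx'] at h1
    have h2 : x' ∈ f ⁻¹ᵁ (Y.basicOpen a) := h1
    rw [Scheme.Hom.preimage_basicOpen] at h2
    have h3 : (f.app U).hom a = 0 := by
      have : a ∈ RingHom.ker (f.app U).hom := by rw [hker]; exact ha
      exact this
    rw [h3] at h2
    simp at h2
  · intro hI'
    have hI : (I : Set Γ(Y, U)) ⊆ (𝔭 : PrimeSpectrum Γ(Y, U)).asIdeal :=
      (PrimeSpectrum.mem_zeroLocus (𝔭 : PrimeSpectrum Γ(Y, U)) _).mp hI'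
    by_contra hnr
    -- the preimage of the range is closed
    have hcl : IsClosed (hU.fromSpec ⁻¹' (Set.range f)) := by
      have h1 : IsClosed (Set.range (f ∣_ U)) := (f ∣_ U).isClosedEmbedding.isClosed_range
      rw [range_morphismRestrict] at h1
      have h2 : hU.fromSpec ⁻¹' (Set.range f) =
          (fun 𝔮 : PrimeSpectrum Γ(Y, U) => (⟨hU.fromSpec 𝔮, by
            have := hU.range_fromSpec
            rw [← SetLike.mem_coe, ← this]
            exact ⟨𝔮, rfl⟩⟩ : ↥U)) ⁻¹' (Subtype.val ⁻¹' (Set.range f)) := by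
        ext 𝔮; rfl
      rw [h2]
      exact h1.preimage (Continuous.subtype_mk hU.fromSpec.continuous _)
    obtain ⟨_, ⟨_, ⟨a, rfl⟩, rfl⟩, h𝔭a, hsub⟩ :=
      PrimeSpectrum.isBasis_basic_opens.exists_subset_of_mem_open
      (show 𝔭 ∈ (hU.fromSpec ⁻¹' (Set.range f))ᶜ from hnr) hcl.isOpen_compl
    have hbot : X.basicOpen ((f.app U).hom a) = ⊥ := by
      rw [← Scheme.Hom.preimage_basicOpen]
      ext x'
      simp only [Opens.coe_bot, Set.mem_empty_iff_false, iff_false]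
      intro hx'
      have h1 : f x' ∈ Y.basicOpen a := hx'
      have h2 : f x' ∈ U := Y.basicOpen_le a h1
      rw [← SetLike.mem_coe, ← hU.range_fromSpec] at h2
      obtain ⟨𝔮, h𝔮⟩ := h2
      rw [← h𝔮, hbo] at h1
      exact hsub h1 ⟨x', h𝔮.symm⟩
    have hnil := (Scheme.isNilpotent_iff_basicOpen_eq_bot_of_isCompact
      (isCompact_preimage_of_isClosedImmersion f U hU) ((f.app U).hom a)).mpr hbot
    obtain ⟨m, hm⟩ := hnil
    rw [← map_pow] at hm
    have h1 : a ^ m ∈ I := by rw [← hker]; exact hm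
    have h2 : a ^ m ∈ 𝔭.asIdeal := hI h1
    exact h𝔭a (𝔭.2.mem_of_pow_mem m h2)

end Groth.Agent.Lib.Helper26.RegImmA
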