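import Mathlib
import Groth.Agent.Lib.Helper26.AffIntA
import Groth.Agent.Lib.Helper25.SmoothRelDimScheme

namespace Groth.Agent.Lib.Helper26.SmIntB
universe u
open TopologicalSpace Topology AlgebraicGeometry CategoryTheory Groth.Agent.Lib.Helper26

section spec
variable {T : Type u} [TopologicalSpace T] {R : Type u} [CommRing R] (h : T ≃ₜ PrimeSpectrum R)

include h in
theorem main_irr (n : ℕ)
    (hineq : ∀ (p q Q : Ideal R) [p.IsPrime] [q.IsPrime], Q ∈ (p ⊔ q).minimalPrimes →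
      ringKrullDim (R ⧸ q) + ringKrullDim (R ⧸ p) ≤ ringKrullDim (R ⧸ Q) + (n : WithBot ℕ∞))
    (V W Z : Set T) (hVc : IsClosed V) (hVi : IsIrreducible V) (hWc : IsClosed W)
    (hWi : IsIrreducible W) (hZi : IsIrreducible Z) (hZc : IsClosed Z) (hZsub : Z ⊆ V ∩ W)
    (hZmax : ∀ D : Set T, IsIrreducible D → D ⊆ V ∩ W → Z ⊆ D → D ⊆ Z) :
    topologicalKrullDim ↥W + topologicalKrullDim ↥V ≤
      topologicalKrullDim ↥Z + (n : WithBot ℕ∞) := by
  obtain ⟨Q, hQp, hQeq, hQdim⟩ := AffIntA.exists_prime_of_irreducible_closed h _ hZi hZc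
  obtain ⟨p, hpp, hpeq, hpdim⟩ := AffIntA.exists_prime_of_irreducible_closed h _ hVi hVc
  obtain ⟨q, hqp, hqeq, hqdim⟩ := AffIntA.exists_prime_of_irreducible_closed h _ hWi hWc
  have hincl : ∀ (I J : Ideal R) [J.IsPrime],
      h ⁻¹' (PrimeSpectrum.zeroLocus (J : Set R)) ⊆ h ⁻¹' (PrimeSpectrum.zeroLocus (I : Set R)) →
      I ≤ J := by
    intro I J hJ hsub
    have h1 : h.symm ⟨J, hJ⟩ ∈ h ⁻¹' (PrimeSpectrum.zeroLocus (J : Set R)) := by
      rw [Set.mem_preimage, Homeomorph.apply_symm_apply, PrimeSpectrum.mem_zeroLocus]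
    have h2 := hsub h1
    rw [Set.mem_preimage, Homeomorph.apply_symm_apply, PrimeSpectrum.mem_zeroLocus] at h2
    exact h2
  have hpQ : p ≤ Q := hincl p Q (by rw [← hQeq, ← hpeq]; exact hZsub.trans Set.inter_subset_left)
  have hqQ : q ≤ Q := hincl q Q (by rw [← hQeq, ← hqeq]; exact hZsub.trans Set.inter_subset_right)
  have hQmin : Q ∈ (p ⊔ q).minimalPrimes := by
    refine ⟨⟨hQp, sup_le hpQ hqQ⟩, ?_⟩
    rintro Q' ⟨hQ'p, hQ'le⟩ hQ'Q
    have hE : IsIrreducible (h ⁻¹' (PrimeSpectrum.zeroLocus (Q' : Set R))) := by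
      rw [← Homeomorph.image_symm, ← PrimeSpectrum.closure_singleton ⟨Q', hQ'p⟩]
      exact (isIrreducible_singleton.closure).image _ h.symm.continuous.continuousOn
    have hEsub : h ⁻¹' (PrimeSpectrum.zeroLocus (Q' : Set R)) ⊆ V ∩ W := by
      intro t ht
      rw [Set.mem_preimage] at ht
      constructor
      · rw [hpeq, Set.mem_preimage]
        exact PrimeSpectrum.zeroLocus_anti_mono_ideal (le_sup_left.trans hQ'le) ht
      · rw [hqeq, Set.mem_preimage]
        exact PrimeSpectrum.zeroLocus_anti_mono_ideal (le_sup_right.trans hQ'le) ht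
    have hZE : Z ⊆ h ⁻¹' (PrimeSpectrum.zeroLocus (Q' : Set R)) := by
      rw [hQeq]
      intro t ht
      rw [Set.mem_preimage] at ht ⊢
      exact PrimeSpectrum.zeroLocus_anti_mono_ideal hQ'Q ht
    have hEZ := hZmax _ hE hEsub hZE
    rw [hQeq] at hEZ
    exact hincl Q Q' hEZ
  have haff := hineq p q Q hQmin
  rw [← hpdim, ← hqdim, ← hQdim] at haff
  exact haff

end spec

section transport
variable {T X : Type*} [TopologicalSpace T] [TopologicalSpace X]

theorem preimage_component (e : T → X) (he : IsOpenEmbedding e) (V W Z : Set X)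
    (hVc : IsClosed V) (hWc : IsClosed W)
    (hZi : IsIrreducible Z) (hZc : IsClosed Z) (hZsub : Z ⊆ V ∩ W)
    (hZmax : ∀ D : Set X, IsIrreducible D → D ⊆ V ∩ W → Z ⊆ D → D ⊆ Z)
    (hne : (Z ∩ Set.range e).Nonempty) :
    IsIrreducible (e ⁻¹' Z) ∧ IsClosed (e ⁻¹' Z) ∧ e ⁻¹' Z ⊆ e ⁻¹' V ∩ e ⁻¹' W ∧
    (∀ D : Set T, IsIrreducible D → D ⊆ e ⁻¹' V ∩ e ⁻¹' W → e ⁻¹' Z ⊆ D → D ⊆ e ⁻¹' Z) := by
  refine ⟨hZi.preimage he hne, hZc.preimage he.continuous, ?_, ?_⟩
  · intro t ht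
    exact ⟨(hZsub ht).1, (hZsub ht).2⟩
  · intro D hD hDsub hZD
    have hD' : IsIrreducible (closure (e '' D)) :=
      (hD.image e he.continuous.continuousOn).closure
    have hD'sub : closure (e '' D) ⊆ V ∩ W := by
      apply (hVc.inter hWc).closure_subset_iff.mpr
      rintro _ ⟨t, ht, rfl⟩
      exact ⟨(hDsub ht).1, (hDsub ht).2⟩
    have hZD' : Z ⊆ closure (e '' D) := by
      have h1 : Z ⊆ closure (Z ∩ Set.range e) :=
        subset_closure_inter_of_isPreirreducible_of_isOpen hZi.isPreirreducible he.isOpen_range hne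
      refine h1.trans (closure_mono ?_)
      rintro _ ⟨hz, t, rfl⟩
      exact ⟨t, hZD hz, rfl⟩
    have := hZmax _ hD' hD'sub hZD'
    intro t ht
    exact this (subset_closure ⟨t, ht, rfl⟩)

theorem dim_preimage_eq (e : T → X) (he : IsEmbedding e) (S : Set X) :
    topologicalKrullDim ↥(e ⁻¹' S) = topologicalKrullDim ↥(S ∩ Set.range e) := by
  rw [← Set.image_preimage_eq_inter_range]
  exact IsHomeomorph.topologicalKrullDim_eq _ (he.homeomorphImage (e ⁻¹' S)).isHomeomorph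

end transport



theorem isIrreducible_preimage_of_isInducing {T X : Type*} [TopologicalSpace T] [TopologicalSpace X]
    (e : T → X) (he : IsInducing e) (S : Set X) (hS : IsIrreducible S) (hsub : S ⊆ Set.range e) :
    IsIrreducible (e ⁻¹' S) := by
  obtain ⟨z, hz⟩ := hS.nonempty
  obtain ⟨t, rfl⟩ := hsub hz
  refine ⟨⟨t, hz⟩, ?_⟩
  intro U' V' hU' hV' hU hV
  obtain ⟨U, hUo, rfl⟩ := he.isOpen_iff.mp hU'
  obtain ⟨V, hVo, rfl⟩ := he.isOpen_iff.mp hV'
  obtain ⟨a, haZ, haU⟩ := hU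
  obtain ⟨b, hbZ, hbV⟩ := hV
  obtain ⟨c, hcZ, hcU, hcV⟩ := hS.isPreirreducible U V hUo hVo ⟨e a, haZ, haU⟩ ⟨e b, hbZ, hbV⟩
  obtain ⟨c', rfl⟩ := hsub hcZ
  exact ⟨c', hcZ, hcU, hcV⟩

theorem dim_inter_open (k : Type u) [Field k] (X : Scheme.{u})
    (f : X ⟶ Spec (CommRingCat.of k)) [LocallyOfFiniteType f] (V : Set X) (hVc : IsClosed V)
    (hVi : IsIrreducible V) (U : X.Opens) (hne : (V ∩ (U : Set X)).Nonempty) :
    topologicalKrullDim ↥(V ∩ (U : Set X)) = topologicalKrullDim ↥V := by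
  let I := Scheme.IdealSheafData.vanishingIdeal ⟨V, hVc⟩
  let Y : Scheme.{u} := I.subscheme
  let ι : Y ⟶ X := I.subschemeι
  have hr : Set.range ι = V := by
    rw [Scheme.IdealSheafData.range_subschemeι]
    simp [I]
  have hemb : IsEmbedding ι := ι.isEmbedding
  have hYV : topologicalKrullDim Y = topologicalKrullDim ↥V := by
    rw [← hr]
    exact IsHomeomorph.topologicalKrullDim_eq _ hemb.toHomeomorph.isHomeomorph
  haveI : IrreducibleSpace Y := by
    have h1 : IsIrreducible (Set.univ : Set Y) := by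
      have : (Set.univ : Set Y) = ι ⁻¹' V := by
        rw [← hr]; ext; simp
      rw [this]
      exact isIrreducible_preimage_of_isInducing ι hemb.isInducing V hVi hr.ge
    exact (irreducibleSpace_def _).mpr h1
  let O : Y.Opens := ι ⁻¹ᵁ U
  haveI : Nonempty O := by
    obtain ⟨x, hxV, hxU⟩ := hne
    rw [← hr] at hxV
    obtain ⟨y, rfl⟩ := hxV
    exact ⟨⟨y, hxU⟩⟩
  have h1 := Groth.Agent.Lib.Helper25.SmoothRelDimRank.topologicalKrullDim_of_isOpenImmersion
    (ι ≫ f) O.ι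
  have h2 : topologicalKrullDim ↥(ι ⁻¹' (U : Set X)) =
      topologicalKrullDim ↥((U : Set X) ∩ Set.range ι) := dim_preimage_eq ι hemb _
  rw [hr, Set.inter_comm] at h2
  rw [← h2, ← hYV, ← h1]
  rfl


theorem exists_chart (k : Type u) [Field k] (X : Scheme.{u})
    (f : X ⟶ Spec (CommRingCat.of k)) (n : ℕ) [SmoothOfRelativeDimension n f] (z : X) :
    ∃ (B : Type u) (_ : CommRing B) (_ : Algebra k B)
      (_ : Algebra.IsStandardSmoothOfRelativeDimension n k B)
      (j : Spec (CommRingCat.of B) ⟶ X), IsOpenImmersion j ∧ z ∈ Set.range j := by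
  obtain ⟨i, z', hz'⟩ := X.affineOpenCover.openCover.exists_eq z
  let R : CommRingCat := X.affineOpenCover.X i
  let j : Spec R ⟶ X := X.affineOpenCover.f i
  haveI : IsOpenImmersion j := X.affineOpenCover.map_prop i
  have hi : SmoothOfRelativeDimension n (j ≫ f) :=
    IsZariskiLocalAtSource.comp (P := @SmoothOfRelativeDimension n) inferInstance j
  obtain ⟨ψ, hψ⟩ : ∃ ψ : CommRingCat.of k ⟶ R, Spec.map ψ = j ≫ f :=
    ⟨Spec.preimage (j ≫ f), Spec.map_preimage (j ≫ f)⟩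
  rw [← hψ, HasRingHomProperty.Spec_iff (P := @SmoothOfRelativeDimension n)] at hi
  obtain ⟨s, hs, hP⟩ := hi
  have hz'' : ∃ t ∈ s, t ∉ (z' : PrimeSpectrum R).asIdeal := by
    by_contra hcon
    push Not at hcon
    have : Ideal.span s ≤ (z' : PrimeSpectrum R).asIdeal := Ideal.span_le.mpr hcon
    rw [hs] at this
    exact (z' : PrimeSpectrum R).2.ne_top (top_le_iff.mp this)
  obtain ⟨t, hts, htz⟩ := hz''
  have h1 := hP t hts
  let φ : k →+* Localization.Away t := (algebraMap R (Localization.Away t)).comp ψ.hom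
  letI : Algebra k (Localization.Away t) := φ.toAlgebra
  refine ⟨Localization.Away t, inferInstance, φ.toAlgebra, h1,
    Spec.map (CommRingCat.ofHom (algebraMap R (Localization.Away t))) ≫ j, inferInstance, ?_⟩
  have hz3 : (z' : PrimeSpectrum R) ∈
      Set.range (Spec.map (CommRingCat.ofHom (algebraMap R (Localization.Away t)))) := by
    have := Scheme.Hom.opensRange_localizationAway t
    have h2 : (z' : PrimeSpectrum R) ∈ PrimeSpectrum.basicOpen t := htz
    rw [← this] at h2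
    exact h2
  obtain ⟨w, hw⟩ := hz3
  refine ⟨w, ?_⟩
  rw [Scheme.Hom.comp_apply, hw]
  exact hz'


end Groth.Agent.Lib.Helper26.SmIntB
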