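import Mathlib
import Groth.Agent.Lib.Helper26.SmIntB
import Groth.Agent.Lib.Helper26.ProjIntA

namespace Groth.Agent.Lib.Helper26.RegImmB
universe u
open TopologicalSpace Topology Groth.Agent.Lib.Helper26

section top
variable {P Y T₀ : Type*} [TopologicalSpace P] [TopologicalSpace Y] [TopologicalSpace T₀]

theorem image_component_max (g : P → Y) (hg : IsEmbedding g) (T : Set P)
    (hT : T ∈ irreducibleComponents P) :
    IsIrreducible (g '' T) ∧ g '' T ⊆ Set.range g ∧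
    (∀ D : Set Y, IsIrreducible D → D ⊆ Set.range g → g '' T ⊆ D → D ⊆ g '' T) ∧
    topologicalKrullDim ↥T = topologicalKrullDim ↥(g '' T) := by
  refine ⟨hT.1.image g hg.continuous.continuousOn, Set.image_subset_range g T, ?_, ?_⟩
  · intro D hD hDr hTD
    have h1 : IsIrreducible (g ⁻¹' D) :=
      SmIntB.isIrreducible_preimage_of_isInducing g hg.isInducing D hD hDr
    have h2 : T ≤ g ⁻¹' D := fun t ht => hTD ⟨t, ht, rfl⟩
    have h3 : g ⁻¹' D ⊆ T := hT.2 h1 h2
    intro y hy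
    obtain ⟨p, rfl⟩ := hDr hy
    exact ⟨p, h3 hy, rfl⟩
  · exact IsHomeomorph.topologicalKrullDim_eq _ (hg.homeomorphImage T).isHomeomorph

theorem preimage_max (e : T₀ → Y) (he : IsOpenEmbedding e) (S Z₀ : Set Y)
    (hSc : IsClosed (e ⁻¹' S)) (hZi : IsIrreducible Z₀) (hZS : Z₀ ⊆ S)
    (hmax : ∀ D : Set Y, IsIrreducible D → D ⊆ S → Z₀ ⊆ D → D ⊆ Z₀)
    (hne : (Z₀ ∩ Set.range e).Nonempty) :
    IsIrreducible (e ⁻¹' Z₀) ∧ IsClosed (e ⁻¹' Z₀) ∧ e ⁻¹' Z₀ ⊆ e ⁻¹' S ∧
    (∀ D : Set T₀, IsIrreducible D → D ⊆ e ⁻¹' S → e ⁻¹' Z₀ ⊆ D → D ⊆ e ⁻¹' Z₀) := by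
  have hirr : IsIrreducible (e ⁻¹' Z₀) := hZi.preimage he hne
  have hmax' : ∀ D : Set T₀, IsIrreducible D → D ⊆ e ⁻¹' S → e ⁻¹' Z₀ ⊆ D → D ⊆ e ⁻¹' Z₀ := by
    intro D hD hDS hZD
    have hD1 : IsIrreducible (e '' D) := hD.image e he.continuous.continuousOn
    have hZcl : Z₀ ⊆ closure (e '' D) := by
      have h1 : Z₀ ⊆ closure (Z₀ ∩ Set.range e) :=
        subset_closure_inter_of_isPreirreducible_of_isOpen hZi.isPreirreducible he.isOpen_range hne
      refine h1.trans (closure_mono ?_)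
      rintro _ ⟨hz, t, rfl⟩
      exact ⟨t, hZD hz, rfl⟩
    have hD2 : IsIrreducible (e '' D ∪ Z₀) := by
      have hcl : closure (e '' D ∪ Z₀) = closure (e '' D) := by
        apply subset_antisymm
        · apply closure_minimal _ isClosed_closure
          exact Set.union_subset subset_closure hZcl
        · exact closure_mono Set.subset_union_left
      rw [← isIrreducible_iff_closure, hcl]
      exact hD1.closure
    have hsub : e '' D ∪ Z₀ ⊆ S := by
      apply Set.union_subset _ hZS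
      rintro _ ⟨t, ht, rfl⟩
      exact hDS ht
    have := hmax _ hD2 hsub Set.subset_union_right
    intro t ht
    exact this (Or.inl ⟨t, ht, rfl⟩)
  refine ⟨hirr, ?_, fun t ht => hZS ht, hmax'⟩
  have h1 : closure (e ⁻¹' Z₀) ⊆ e ⁻¹' Z₀ :=
    hmax' _ hirr.closure (hSc.closure_subset_iff.mpr (fun t ht => hZS ht)) subset_closure
  exact closure_subset_iff_isClosed.mp h1

end top

section spec

theorem krull_spec (k : Type u) [Field k] (A : Type u) [CommRing A] [Algebra k A]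
    [Algebra.FiniteType k A] (c : ℕ) (rs : Fin c → A) (V T₁ : Set (PrimeSpectrum A)) (hVi : IsIrreducible V)
    (hVc : IsClosed V) (hTi : IsIrreducible T₁) (hTc : IsClosed T₁)
    (hsub : T₁ ⊆ V ∩ PrimeSpectrum.zeroLocus (Set.range rs))
    (hmax : ∀ D : Set (PrimeSpectrum A), IsIrreducible D →
      D ⊆ V ∩ PrimeSpectrum.zeroLocus (Set.range rs) → T₁ ⊆ D → D ⊆ T₁) :
    topologicalKrullDim ↥V ≤ topologicalKrullDim ↥T₁ + (c : WithBot ℕ∞) := by
  obtain ⟨p, hpp, hpeq, hpdim⟩ :=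
    AffIntA.exists_prime_of_irreducible_closed (Homeomorph.refl (PrimeSpectrum A)) V hVi hVc
  obtain ⟨Q, hQp, hQeq, hQdim⟩ :=
    AffIntA.exists_prime_of_irreducible_closed (Homeomorph.refl (PrimeSpectrum A)) T₁ hTi hTc
  have hpeq' : V = PrimeSpectrum.zeroLocus (p : Set A) := hpeq
  have hQeq' : T₁ = PrimeSpectrum.zeroLocus (Q : Set A) := hQeq
  have hincl : ∀ (I J : Ideal A) [J.IsPrime],
      PrimeSpectrum.zeroLocus (J : Set A) ⊆ PrimeSpectrum.zeroLocus (I : Set A) → I ≤ J := by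
    intro I J hJ hs
    have h1 : (⟨J, hJ⟩ : PrimeSpectrum A) ∈ PrimeSpectrum.zeroLocus (J : Set A) := by
      rw [PrimeSpectrum.mem_zeroLocus]
    have h2 := hs h1
    rw [PrimeSpectrum.mem_zeroLocus] at h2
    exact h2
  have hpQ : p ≤ Q := hincl p Q (by rw [← hQeq', ← hpeq']; exact hsub.trans Set.inter_subset_left)
  have hrQ : Ideal.span (Set.range rs) ≤ Q := by
    apply hincl
    rw [← hQeq', PrimeSpectrum.zeroLocus_span]
    exact hsub.trans Set.inter_subset_right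
  have hmin : Q ∈ (p ⊔ Ideal.span (Set.range rs)).minimalPrimes := by
    refine ⟨⟨hQp, sup_le hpQ hrQ⟩, ?_⟩
    rintro Q' ⟨hQ'p, hQ'le⟩ hQ'Q
    have hE : IsIrreducible (PrimeSpectrum.zeroLocus (Q' : Set A)) := by
      rw [← PrimeSpectrum.closure_singleton ⟨Q', hQ'p⟩]
      exact isIrreducible_singleton.closure
    have hEsub : PrimeSpectrum.zeroLocus (Q' : Set A) ⊆
        V ∩ PrimeSpectrum.zeroLocus (Set.range rs) := by
      intro t ht
      constructor
      · rw [hpeq']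
        exact PrimeSpectrum.zeroLocus_anti_mono_ideal (le_sup_left.trans hQ'le) ht
      · rw [← PrimeSpectrum.zeroLocus_span]
        exact PrimeSpectrum.zeroLocus_anti_mono_ideal (le_sup_right.trans hQ'le) ht
    have hZE : T₁ ⊆ PrimeSpectrum.zeroLocus (Q' : Set A) := by
      rw [hQeq']
      exact PrimeSpectrum.zeroLocus_anti_mono_ideal hQ'Q
    have hEZ := hmax _ hE hEsub hZE
    rw [hQeq'] at hEZ
    exact hincl Q Q' hEZ
  have := ProjIntA.dim_le_add k c p rs Q hmin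
  rw [← hpdim, ← hQdim] at this
  exact this

end spec

end Groth.Agent.Lib.Helper26.RegImmB
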