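import Mathlib
import Groth.Prelude.Def_RegImm
import Groth.Agent.Lib.Helper26.RegImmA
import Groth.Agent.Lib.Helper26.RegImmB

namespace Groth.Agent.Lib.Helper26.RegImmC
universe u
open TopologicalSpace Topology AlgebraicGeometry CategoryTheory CategoryTheory.Limits
open Groth.Agent.Lib.Helper26

theorem main_6473 (K : Type u) [Field K] (X Y Z : Scheme.{u})
    (gY : Y ⟶ Spec (CommRingCat.of K)) [LocallyOfFiniteType gY] (f : X ⟶ Y) (c : ℕ)
    (hreg : RegImm.IsRegularImmersionOfCodim RegImm.Kind.regular c f) (ι : Z ⟶ Y)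
    [IsClosedImmersion ι] [IsIntegral Z] (d : ℕ) (hd : topologicalKrullDim Z = d)
    (T : Set ↥(pullback f ι)) (hT : T ∈ irreducibleComponents ↥(pullback f ι)) :
    ((d : ℕ) : WithBot ℕ∞) ≤ topologicalKrullDim ↥T + c := by
  haveI : IsImmersion f := hreg.1
  let g : pullback f ι ⟶ Y := pullback.fst f ι ≫ f
  have hgemb : IsEmbedding (g : ↥(pullback f ι) → Y) := g.isEmbedding
  have hgr : Set.range (g : ↥(pullback f ι) → Y) = Set.range f ∩ Set.range ι :=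
    Scheme.Pullback.range_fst_comp f ι
  obtain ⟨hTi, hTsub, hTmax, hTdim⟩ := RegImmB.image_component_max _ hgemb T hT
  obtain ⟨t₀, ht₀⟩ := hT.1.nonempty
  obtain ⟨U, hyU, hcl, rs, hlen, hrs, hker⟩ := hreg.2 (pullback.fst f ι t₀)
  haveI := hcl
  have hU : IsAffineOpen U.1 := U.2
  have hy₀ : g t₀ ∈ U.1 := hyU
  -- the chart
  let φ : Spec Γ(Y, U.1) ⟶ Y := hU.fromSpec
  have hφ : IsOpenEmbedding (φ : ↥(Spec Γ(Y, U.1)) → Y) := φ.isOpenEmbedding
  have hφr : Set.range (φ : ↥(Spec Γ(Y, U.1)) → Y) = (U.1 : Set Y) := hU.range_fromSpec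
  have hy₀φ : g t₀ ∈ Set.range (φ : ↥(Spec Γ(Y, U.1)) → Y) := by rw [hφr]; exact hy₀
  -- algebra structure
  obtain ⟨ψ, hψ⟩ : ∃ ψ : CommRingCat.of K ⟶ Γ(Y, U.1), Spec.map ψ = φ ≫ gY :=
    ⟨Spec.preimage (φ ≫ gY), Spec.map_preimage (φ ≫ gY)⟩
  have hft : LocallyOfFiniteType (Spec.map ψ) := by rw [hψ]; infer_instance
  rw [HasRingHomProperty.Spec_iff (P := @LocallyOfFiniteType)] at hft
  letI : Algebra K Γ(Y, U.1) := ψ.hom.toAlgebra
  haveI : Algebra.FiniteType K Γ(Y, U.1) := hft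
  -- the sets
  have hrι : IsIrreducible (Set.range ι) := by
    rw [← Set.image_univ]
    exact (IrreducibleSpace.isIrreducible_univ Z).image _ ι.continuous.continuousOn
  have hcι : IsClosed (Set.range ι) := ι.isClosedEmbedding.isClosed_range
  have hy₀ι : g t₀ ∈ Set.range ι := (hgr ▸ Set.mem_range_self t₀ : g t₀ ∈ Set.range f ∩ Set.range ι).2
  set V : Set ↥(Spec Γ(Y, U.1)) := (φ : ↥(Spec Γ(Y, U.1)) → Y) ⁻¹' (Set.range ι) with hV
  have hVi : IsIrreducible V := hrι.preimage hφ ⟨g t₀, hy₀ι, hy₀φ⟩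
  have hVc : IsClosed V := hcι.preimage hφ.continuous
  let rsf : Fin c → Γ(Y, U.1) := fun i => rs.get (Fin.cast hlen.symm i)
  have hrsf : Set.range rsf = {a | a ∈ rs} := by
    ext a
    constructor
    · rintro ⟨i, rfl⟩
      exact List.get_mem rs _
    · intro ha
      obtain ⟨i, rfl⟩ := List.get_of_mem ha
      refine ⟨Fin.cast hlen i, ?_⟩
      show rs.get (Fin.cast hlen.symm (Fin.cast hlen i)) = rs.get i
      congr 1
  have hfz : (φ : ↥(Spec Γ(Y, U.1)) → Y) ⁻¹' (Set.range f) =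
      PrimeSpectrum.zeroLocus (Set.range rsf) := by
    rw [RegImmA.preimage_range_eq_zeroLocus f U.1 hU _ hker, hrsf]
    exact PrimeSpectrum.zeroLocus_span _
  have hS : (φ : ↥(Spec Γ(Y, U.1)) → Y) ⁻¹' (Set.range (g : ↥(pullback f ι) → Y)) =
      V ∩ PrimeSpectrum.zeroLocus (Set.range rsf) := by
    rw [hgr, Set.preimage_inter, hfz, Set.inter_comm]
  have hSc : IsClosed ((φ : ↥(Spec Γ(Y, U.1)) → Y) ⁻¹' (Set.range (g : ↥(pullback f ι) → Y))) := by
    rw [hS]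
    exact hVc.inter (PrimeSpectrum.isClosed_zeroLocus _)
  obtain ⟨h1, h2, h3, h4⟩ := RegImmB.preimage_max (φ : ↥(Spec Γ(Y, U.1)) → Y) hφ _ _ hSc hTi hTsub
    hTmax ⟨g t₀, ⟨t₀, ht₀, rfl⟩, hy₀φ⟩
  rw [hS] at h3 h4
  have key : topologicalKrullDim ↥V ≤ topologicalKrullDim
      ↥((φ : ↥(Spec Γ(Y, U.1)) → Y) ⁻¹' ((g : ↥(pullback f ι) → Y) '' T)) + (c : WithBot ℕ∞) :=
    RegImmB.krull_spec K Γ(Y, U.1) c rsf V _ hVi hVc h1 h2 h3 h4
  -- dimensions
  have hdV : topologicalKrullDim ↥V = d := by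
    rw [hV, SmIntB.dim_preimage_eq _ hφ.isEmbedding, hφr,
      SmIntB.dim_inter_open K Y gY _ hcι hrι U.1 ⟨g t₀, hy₀ι, hy₀⟩, ← hd]
    exact (IsHomeomorph.topologicalKrullDim_eq _
      ι.isEmbedding.toHomeomorph.isHomeomorph).symm
  have hdT : topologicalKrullDim ↥((φ : ↥(Spec Γ(Y, U.1)) → Y) ⁻¹' ((g : ↥(pullback f ι) → Y) '' T)) ≤
      topologicalKrullDim ↥T := by
    rw [SmIntB.dim_preimage_eq _ hφ.isEmbedding, hTdim]
    have hind : IsInducing (Set.inclusion (Set.inter_subset_left :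
        (g : ↥(pullback f ι) → Y) '' T ∩ Set.range (φ : ↥(Spec Γ(Y, U.1)) → Y) ⊆
          (g : ↥(pullback f ι) → Y) '' T)) := (IsEmbedding.inclusion _).isInducing
    exact hind.topologicalKrullDim_le
  rw [hdV] at key
  exact key.trans (add_le_add_left hdT _)

end Groth.Agent.Lib.Helper26.RegImmC
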