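import Mathlib

/-!
# Regular sequences in every order vs `f_i x_i` regular in `R[x]` (helper26)
`main`; also `weaklyRegular_ofFn_iff`/`regular_ofFn_iff` (elementwise form of (weak) regularity of `List.ofFn g`).
-/

set_option autoImplicit false
universe u

namespace Groth.Agent.Lib.Helper26.RegPerm

open RingTheory.Sequence

section General

variable {A : Type*} [CommRing A]

lemma isSMulRegular_quot_iff (I : Ideal A) (x : A) :
    IsSMulRegular (A ⧸ (I • ⊤ : Submodule A A)) x ↔ ∀ y, x * y ∈ I → y ∈ I := by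
  have hI : (I • ⊤ : Submodule A A) = I := by
    rw [smul_eq_mul, Ideal.mul_top]
  rw [isSMulRegular_iff_right_eq_zero_of_smul]
  constructor
  · intro h y hy
    have := h (Submodule.Quotient.mk y) (by
      rw [← Submodule.Quotient.mk_smul, Submodule.Quotient.mk_eq_zero, hI]
      exact hy)
    rwa [Submodule.Quotient.mk_eq_zero, hI] at this
  · intro h z hz
    obtain ⟨y, rfl⟩ := Submodule.Quotient.mk_surjective _ z
    rw [← Submodule.Quotient.mk_smul, Submodule.Quotient.mk_eq_zero, hI] at hz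
    rw [Submodule.Quotient.mk_eq_zero, hI]
    exact h y hz

lemma ofList_take_ofFn {r : ℕ} (g : Fin r → A) (i : ℕ) :
    Ideal.ofList ((List.ofFn g).take i) = Ideal.span (g '' {j | j.val < i}) := by
  unfold Ideal.ofList
  congr 1
  ext a
  simp only [Set.mem_ofPred_eq, Set.mem_image]
  rw [List.mem_take_iff_getElem]
  constructor
  · rintro ⟨k, hk, rfl⟩
    simp only [List.length_ofFn, lt_min_iff] at hk
    exact ⟨⟨k, hk.2⟩, hk.1, by simp⟩
  · rintro ⟨j, hj, rfl⟩
    exact ⟨j.val, by simp [hj], by simp⟩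

lemma weaklyRegular_ofFn_iff {r : ℕ} (g : Fin r → A) :
    IsWeaklyRegular A (List.ofFn g) ↔ ∀ i : Fin r, ∀ y : A,
      g i * y ∈ Ideal.span (g '' {j | j < i}) → y ∈ Ideal.span (g '' {j | j < i}) := by
  rw [isWeaklyRegular_iff]
  constructor
  · intro h i y hy
    have h1 := h i.val (by simp)
    rw [ofList_take_ofFn, isSMulRegular_quot_iff] at h1
    have h2 : (List.ofFn g)[i.val]'(by simp) = g i := by simp
    rw [h2] at h1
    exact h1 y hy
  · intro h i hi
    have hi' : i < r := by simpa using hi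
    rw [ofList_take_ofFn, isSMulRegular_quot_iff]
    have h2 : (List.ofFn g)[i]'hi = g ⟨i, hi'⟩ := by simp
    rw [h2]
    exact h ⟨i, hi'⟩

lemma ofList_ofFn {r : ℕ} (g : Fin r → A) :
    Ideal.ofList (List.ofFn g) = Ideal.span (Set.range g) := by
  unfold Ideal.ofList
  congr 1
  ext a
  simp [List.mem_ofFn]

lemma regular_ofFn_iff {r : ℕ} (g : Fin r → A) :
    IsRegular A (List.ofFn g) ↔ (∀ i : Fin r, ∀ y : A,
      g i * y ∈ Ideal.span (g '' {j | j < i}) → y ∈ Ideal.span (g '' {j | j < i})) ∧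
      Ideal.span (Set.range g) ≠ ⊤ := by
  rw [isRegular_iff, weaklyRegular_ofFn_iff, ofList_ofFn]
  have : (Ideal.span (Set.range g) • ⊤ : Submodule A A) = Ideal.span (Set.range g) := by
    rw [smul_eq_mul, Ideal.mul_top]
  rw [this]
  constructor
  · rintro ⟨h1, h2⟩; exact ⟨h1, fun h => h2 h.symm⟩
  · rintro ⟨h1, h2⟩; exact ⟨h1, fun h => h2 h.symm⟩

end General

section RLevel

variable {R : Type*} [CommRing R] {r : ℕ} (f : Fin r → R)

/-- ideal generated by the `f e`, `e ∈ E` -/
def I (E : Set (Fin r)) : Ideal R := Ideal.span (f '' E)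

/-- `f i` is a nonzerodivisor modulo `I E` -/
def Reg (E : Set (Fin r)) (i : Fin r) : Prop := ∀ y, f i * y ∈ I f E → y ∈ I f E

lemma I_insert (E : Set (Fin r)) (s : Fin r) :
    I f (insert s E) = I f E ⊔ Ideal.span {f s} := by
  unfold I; rw [Set.image_insert_eq, Ideal.span_insert, sup_comm]

lemma I_mono {E E' : Set (Fin r)} (h : E ⊆ E') : I f E ≤ I f E' :=
  Ideal.span_mono (Set.image_mono h)

/-- swap lemma -/
lemma reg_insert_of (E : Set (Fin r)) (i s : Fin r) (h1 : Reg f E i)
    (h2 : Reg f (insert i E) s) : Reg f (insert s E) i := by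
  intro x hx
  rw [I_insert, Submodule.mem_sup] at hx
  obtain ⟨a, ha, b, hb, hab⟩ := hx
  obtain ⟨y, rfl⟩ := Ideal.mem_span_singleton'.mp hb
  have h3 : f s * y ∈ I f (insert i E) := by
    rw [I_insert]
    have : f s * y = -a + x * f i := by linear_combination hab
    rw [this]
    exact Ideal.add_mem _ (Ideal.mem_sup_left (neg_mem ha))
      (Ideal.mem_sup_right (Ideal.mem_span_singleton'.mpr ⟨x, rfl⟩))
  have h4 := h2 y h3
  rw [I_insert, Submodule.mem_sup] at h4
  obtain ⟨c, hc, d, hd, hcd⟩ := h4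
  obtain ⟨z, rfl⟩ := Ideal.mem_span_singleton'.mp hd
  have h5 : f i * (x - z * f s) ∈ I f E := by
    have : f i * (x - z * f s) = a + f s * c := by
      rw [← hcd] at hab
      linear_combination -hab
    rw [this]
    exact Ideal.add_mem _ ha (Ideal.mul_mem_left _ _ hc)
  have h6 := h1 _ h5
  rw [I_insert, Submodule.mem_sup]
  refine ⟨x - z * f s, h6, z * f s, Ideal.mem_span_singleton'.mpr ⟨z, rfl⟩, by ring⟩

/-- from initial segments to arbitrary subsets -/
lemma reg_of_initial (h : ∀ i : Fin r, ∀ E : Set (Fin r), (∀ e ∈ E, e < i) → Reg f E i) :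
    ∀ (n : ℕ) (E : Finset (Fin r)) (i : Fin r), i ∉ E →
      (E.filter (fun e => i < e)).card = n → Reg f (E : Set (Fin r)) i := by
  intro n
  induction n with
  | zero =>
    intro E i hi hcard
    apply h
    intro e he
    have he' : e ∈ E := he
    rw [Finset.card_eq_zero, Finset.filter_eq_empty_iff] at hcard
    have h1 : ¬ i < e := hcard he'
    have h2 : e ≠ i := fun h => hi (h ▸ he')
    exact lt_of_le_of_ne (not_lt.mp h1) h2
  | succ n ih =>
    intro E i hi hcard
    have hne : (E.filter (fun e => i < e)).Nonempty := by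
      rw [← Finset.card_pos, hcard]; exact Nat.succ_pos n
    obtain ⟨t, ht⟩ := hne
    rw [Finset.mem_filter] at ht
    have hEne : E.Nonempty := ⟨t, ht.1⟩
    set s := E.max' hEne with hs
    have hsE : s ∈ E := Finset.max'_mem E hEne
    have his : i < s := lt_of_lt_of_le ht.2 (Finset.le_max' E t ht.1)
    set E' := E.erase s with hE'
    have hiE' : i ∉ E' := fun h => hi (Finset.mem_of_mem_erase h)
    have hcard' : (E'.filter (fun e => i < e)).card = n := by
      have : E'.filter (fun e => i < e) = (E.filter (fun e => i < e)).erase s := by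
        rw [hE', Finset.filter_erase]
      rw [this, Finset.card_erase_of_mem (Finset.mem_filter.mpr ⟨hsE, his⟩), hcard]
      rfl
    have h1 : Reg f (E' : Set (Fin r)) i := ih E' i hiE' hcard'
    have h2 : Reg f (insert i (E' : Set (Fin r))) s := by
      apply h
      intro e he
      rcases he with rfl | he
      · exact his
      · have he' : e ∈ E' := he
        have h3 : e ∈ E := Finset.mem_of_mem_erase he'
        have h4 : e ≠ s := Finset.ne_of_mem_erase he'
        exact lt_of_le_of_ne (Finset.le_max' E e h3) h4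
    have h3 := reg_insert_of f _ i s h1 h2
    have h4 : (E : Set (Fin r)) = insert s (E' : Set (Fin r)) := by
      rw [hE', ← Finset.coe_insert, Finset.insert_erase hsE]
    rw [h4]
    exact h3

lemma reg_all_of_initial (h : ∀ i : Fin r, ∀ E : Set (Fin r), (∀ e ∈ E, e < i) → Reg f E i)
    (E : Set (Fin r)) (i : Fin r) (hi : i ∉ E) : Reg f E i := by
  classical
  have h1 : i ∉ (Set.toFinite E).toFinset := by
    rw [Set.Finite.mem_toFinset]; exact hi
  have := reg_of_initial f h _ (Set.toFinite E).toFinset i h1 rfl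
  rwa [Set.Finite.coe_toFinset] at this

lemma image_comp_eq (σ : Equiv.Perm (Fin r)) (i : Fin r) :
    Ideal.span ((f ∘ σ) '' {j | j < i}) = I f (σ '' {j | j < i}) := by
  unfold I; rw [Set.image_comp]

lemma perm_regular_of_reg (h : ∀ (E : Set (Fin r)) (i : Fin r), i ∉ E → Reg f E i)
    (σ : Equiv.Perm (Fin r)) : IsWeaklyRegular R (List.ofFn (f ∘ σ)) := by
  rw [weaklyRegular_ofFn_iff]
  intro i y hy
  rw [image_comp_eq] at hy ⊢
  exact h _ (σ i) (by rintro ⟨j, hj, hji⟩; exact (ne_of_lt hj) (σ.injective hji)) y hy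

lemma reg_of_perm_regular
    (h : ∀ σ : Equiv.Perm (Fin r), IsWeaklyRegular R (List.ofFn (f ∘ σ)))
    (E : Set (Fin r)) (i : Fin r) (hi : i ∉ E) : Reg f E i := by
  classical
  set m := Fintype.card {x : Fin r // x ∈ E} with hm
  have hmr : m ≤ r := by
    have := Fintype.card_subtype_le (fun x : Fin r => x ∈ E)
    rw [Fintype.card_fin] at this
    exact this
  have hcard : Fintype.card {j : Fin r // j.val < m} = Fintype.card {x : Fin r // x ∈ E} := by
    rw [Fintype.card_subtype, Fin.card_filter_val_lt, min_eq_right hmr]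
  let e : {j : Fin r // j.val < m} ≃ {x : Fin r // x ∈ E} := Fintype.equivOfCardEq hcard
  let τ : Equiv.Perm (Fin r) := e.extendSubtype
  have hτ1 : ∀ j : Fin r, j.val < m → τ j ∈ E := fun j hj => e.extendSubtype_mem j hj
  have hτ2 : ∀ j : Fin r, ¬ j.val < m → τ j ∉ E := fun j hj => e.extendSubtype_not_mem j hj
  have hτ3 : ∀ x ∈ E, ∃ j : Fin r, j.val < m ∧ τ j = x := by
    intro x hx
    refine ⟨(e.symm ⟨x, hx⟩).1, (e.symm ⟨x, hx⟩).2, ?_⟩
    rw [e.extendSubtype_apply_of_mem _ (e.symm ⟨x, hx⟩).2]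
    simp
  set j0 := τ.symm i with hj0
  have hj0m : ¬ j0.val < m := by
    intro hlt
    apply hi
    have := hτ1 j0 hlt
    rwa [hj0, Equiv.apply_symm_apply] at this
  have hmr' : m < r := lt_of_le_of_lt (not_lt.mp hj0m) j0.isLt
  set m' : Fin r := ⟨m, hmr'⟩ with hm'
  set σ : Equiv.Perm (Fin r) := (Equiv.swap m' j0).trans τ with hσ
  have hσm : σ m' = i := by
    rw [hσ, Equiv.trans_apply, Equiv.swap_apply_left, hj0, Equiv.apply_symm_apply]
  have hσj : ∀ j : Fin r, j < m' → σ j = τ j := by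
    intro j hj
    rw [hσ, Equiv.trans_apply, Equiv.swap_apply_of_ne_of_ne (ne_of_lt hj)]
    intro hjj
    apply hj0m
    rw [← hjj]
    exact hj
  have himg : σ '' {j | j < m'} = E := by
    ext x
    constructor
    · rintro ⟨j, hj, rfl⟩
      rw [hσj j hj]
      exact hτ1 j hj
    · intro hx
      obtain ⟨j, hj, rfl⟩ := hτ3 x hx
      exact ⟨j, hj, hσj j hj⟩
  have h1 := (weaklyRegular_ofFn_iff (f ∘ σ)).mp (h σ) m'
  rw [image_comp_eq, himg] at h1
  intro y hy
  have h2 : (f ∘ σ) m' = f i := by simp [hσm]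
  rw [h2] at h1
  exact h1 y hy

end RLevel

section Poly

open MvPolynomial

variable {R : Type*} [CommRing R] {r : ℕ} (f : Fin r → R)

/-- the elements `f i x i` -/
noncomputable def g (i : Fin r) : MvPolynomial (Fin r) R := C (f i) * X i

/-- ideal generated by `g j`, `j ∈ T` -/
noncomputable def K (T : Set (Fin r)) : Ideal (MvPolynomial (Fin r) R) := Ideal.span (g f '' T)

lemma g_eq_monomial (i : Fin r) : g f i = monomial (Finsupp.single i 1) (f i) := by
  rw [g, X, C_mul_monomial, mul_one]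

lemma coeff_mem_of_mem_K (T : Set (Fin r)) (p : MvPolynomial (Fin r) R) (hp : p ∈ K f T)
    (e : Fin r →₀ ℕ) : p.coeff e ∈ I f {j | j ∈ T ∧ e j ≠ 0} := by
  classical
  unfold K at hp
  induction hp using Submodule.span_induction generalizing e with
  | mem q hq =>
    obtain ⟨j, hj, rfl⟩ := hq
    rw [g_eq_monomial, coeff_monomial]
    split_ifs with h
    · refine Ideal.subset_span ⟨j, ⟨hj, ?_⟩, rfl⟩
      rw [← h]; simp
    · exact zero_mem _
  | zero => simp
  | add p q _ _ hp hq =>
    rw [coeff_add]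
    exact Ideal.add_mem _ (hp e) (hq e)
  | smul a p _ hp =>
    rw [smul_eq_mul, coeff_mul]
    refine Ideal.sum_mem _ fun ab hab => ?_
    have hab' : ab.1 + ab.2 = e := Finset.HasAntidiagonal.mem_antidiagonal.mp hab
    refine Ideal.mul_mem_left _ _ (I_mono f ?_ (hp ab.2))
    rintro j ⟨hjT, hj⟩
    refine ⟨hjT, ?_⟩
    rw [← hab', Finsupp.add_apply]
    omega

lemma monomial_mem_K (T : Set (Fin r)) (e : Fin r →₀ ℕ) (c : R)
    (hc : c ∈ I f {j | j ∈ T ∧ e j ≠ 0}) : monomial e c ∈ K f T := by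
  unfold I at hc
  induction hc using Submodule.span_induction with
  | mem c hc =>
    obtain ⟨j, ⟨hjT, hj⟩, rfl⟩ := hc
    have he : e = (e - Finsupp.single j 1) + Finsupp.single j 1 := by
      ext t
      by_cases htj : t = j
      · subst htj
        simp only [Finsupp.add_apply, Finsupp.tsub_apply, Finsupp.single_eq_same]
        omega
      · simp [Finsupp.single_eq_of_ne htj, Finsupp.single_eq_of_ne (Ne.symm htj)]
    have : monomial e (f j) = monomial (e - Finsupp.single j 1) 1 * g f j := by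
      rw [g_eq_monomial, monomial_mul, one_mul, ← he]
    rw [this]
    exact Ideal.mul_mem_left _ _ (Ideal.subset_span ⟨j, hjT, rfl⟩)
  | zero => simp
  | add a b _ _ ha hb =>
    rw [map_add]; exact Ideal.add_mem _ ha hb
  | smul a c _ hc =>
    have : monomial e (a • c) = C a * monomial e c := by
      rw [C_mul_monomial, smul_eq_mul]
    rw [this]
    exact Ideal.mul_mem_left _ _ hc

lemma mem_K_iff (T : Set (Fin r)) (p : MvPolynomial (Fin r) R) :
    p ∈ K f T ↔ ∀ e, p.coeff e ∈ I f {j | j ∈ T ∧ e j ≠ 0} := by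
  refine ⟨fun hp e => coeff_mem_of_mem_K f T p hp e, fun h => ?_⟩
  rw [p.as_sum]
  exact Ideal.sum_mem _ fun e _ => monomial_mem_K f T e _ (h e)

lemma coeff_g_mul (i : Fin r) (p : MvPolynomial (Fin r) R) (e : Fin r →₀ ℕ) :
    (g f i * p).coeff (e + Finsupp.single i 1) = f i * p.coeff e := by
  rw [g, mul_assoc, coeff_C_mul, mul_comm (X i) p, coeff_mul_X]

lemma set_eq_of_lt (i : Fin r) (e : Fin r →₀ ℕ) :
    {j : Fin r | j ∈ {j | j < i} ∧ (e + Finsupp.single i 1 : Fin r →₀ ℕ) j ≠ 0} =
      {j : Fin r | j ∈ {j | j < i} ∧ e j ≠ 0} := by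
  ext j
  simp only [Set.mem_ofPred_eq, Finsupp.add_apply]
  constructor
  · rintro ⟨hj, h⟩
    refine ⟨hj, ?_⟩
    rwa [Finsupp.single_eq_of_ne (ne_of_lt hj), add_zero] at h
  · rintro ⟨hj, h⟩
    refine ⟨hj, ?_⟩
    rwa [Finsupp.single_eq_of_ne (ne_of_lt hj), add_zero]

/-- (2') implies (c) -/
lemma poly_regular_of_initial
    (h : ∀ i : Fin r, ∀ E : Set (Fin r), (∀ e ∈ E, e < i) → Reg f E i) :
    IsWeaklyRegular (MvPolynomial (Fin r) R) (List.ofFn (g f)) := by
  rw [weaklyRegular_ofFn_iff]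
  intro i p hp
  change g f i * p ∈ K f {j | j < i} at hp
  change p ∈ K f {j | j < i}
  rw [mem_K_iff] at hp ⊢
  intro e
  have h1 := hp (e + Finsupp.single i 1)
  rw [coeff_g_mul, set_eq_of_lt] at h1
  exact h i _ (fun j hj => hj.1) _ h1

/-- (c) implies (2') -/
lemma initial_of_poly_regular
    (h : IsWeaklyRegular (MvPolynomial (Fin r) R) (List.ofFn (g f)))
    (i : Fin r) (E : Set (Fin r)) (hE : ∀ e ∈ E, e < i) : Reg f E i := by
  classical
  rw [weaklyRegular_ofFn_iff] at h
  intro y hy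
  set e : Fin r →₀ ℕ := Finsupp.equivFunOnFinite.symm (fun j => if j ∈ E then 1 else 0) with he
  have hej : ∀ j, e j ≠ 0 ↔ j ∈ E := by
    intro j
    rw [he, Finsupp.coe_equivFunOnFinite_symm]
    by_cases hj : j ∈ E <;> simp [hj]
  have hset : {j : Fin r | j ∈ {j | j < i} ∧ e j ≠ 0} = E := by
    ext j
    simp only [Set.mem_ofPred_eq, hej]
    exact ⟨fun h => h.2, fun h => ⟨hE j h, h⟩⟩
  have h1 : g f i * monomial e y ∈ K f {j | j < i} := by
    rw [g_eq_monomial, monomial_mul]
    refine monomial_mem_K f _ _ _ ?_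
    rw [add_comm, set_eq_of_lt, hset]
    exact hy
  have h2 := h i (monomial e y) h1
  change monomial e y ∈ K f {j | j < i} at h2
  have h3 := coeff_mem_of_mem_K f _ _ h2 e
  rwa [coeff_monomial, if_pos rfl, hset] at h3

lemma span_range_g_ne_top (hf : Ideal.span (Set.range f) ≠ ⊤) :
    Ideal.span (Set.range (g f)) ≠ ⊤ := by
  intro htop
  have h1 : (1 : MvPolynomial (Fin r) R) ∈ Ideal.span (Set.range (g f)) := by
    rw [htop]; trivial
  have h2 : Ideal.span (Set.range (g f)) ≤ RingHom.ker (constantCoeff (R := R) (σ := Fin r)) := by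
    rw [Ideal.span_le]
    rintro _ ⟨i, rfl⟩
    simp [g, RingHom.mem_ker]
  have h3 := h2 h1
  rw [RingHom.mem_ker, map_one] at h3
  apply hf
  rw [Ideal.eq_top_iff_one, h3]
  exact zero_mem _

end Poly

theorem main {R : Type u} [CommRing R] {r : ℕ} (f : Fin r → R)
    (hf : Ideal.span (Set.range f) ≠ ⊤) :
    (∀ σ : Equiv.Perm (Fin r), RingTheory.Sequence.IsRegular R (List.ofFn (f ∘ σ))) ↔
      RingTheory.Sequence.IsRegular (MvPolynomial (Fin r) R)
        (List.ofFn fun i => MvPolynomial.C (f i) * MvPolynomial.X i) := by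
  constructor
  · intro h
    have h1 : ∀ (E : Set (Fin r)) (i : Fin r), i ∉ E → Reg f E i :=
      reg_of_perm_regular f (fun σ => (h σ).toIsWeaklyRegular)
    have h2 := poly_regular_of_initial f (fun i E hE => h1 E i (fun hi => lt_irrefl _ (hE i hi)))
    exact (regular_ofFn_iff (g f)).mpr
      ⟨(weaklyRegular_ofFn_iff (g f)).mp h2, span_range_g_ne_top f hf⟩
  · intro h σ
    have h0 : IsWeaklyRegular (MvPolynomial (Fin r) R) (List.ofFn (g f)) := h.toIsWeaklyRegular
    have h1 := initial_of_poly_regular f h0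
    have h2 := reg_all_of_initial f h1
    have h3 := perm_regular_of_reg f h2 σ
    refine (regular_ofFn_iff (f ∘ σ)).mpr ⟨(weaklyRegular_ofFn_iff (f ∘ σ)).mp h3, ?_⟩
    have : Set.range (f ∘ σ) = Set.range f := by
      rw [Set.range_comp, σ.surjective.range_eq, Set.image_univ]
    rw [this]
    exact hf

end Groth.Agent.Lib.Helper26.RegPerm
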