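import Mathlib
import Groth.Prelude.Def_FlatCA
import Groth.Agent.Lib.Helper28.RelFP

set_option autoImplicit false
set_option linter.style.haveILetI false

universe u

namespace Groth.Agent.Lib.Helper26.RelFPRing

open Function Groth.Agent.Lib.Helper28

section G

variable {R A : Type u} [CommRing R] [CommRing A] [Algebra R A]
  (N : Type u) [AddCommGroup N] [Module A N]

theorem relFP_iff : FlatCA.RelFinitePresentation R A N ↔
    ∃ (n : ℕ) (φ : MvPolynomial (Fin n) R →ₐ[R] A), Surjective φ ∧ FPVia φ.toRingHom N := Iff.rfl

/-- (G1) finitely presented via a surjection from a finitely presented `R`-algebra implies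
relatively finitely presented. -/
theorem relFP_of_fpVia {B : Type*} [CommRing B] [Algebra R B] [Algebra.FinitePresentation R B]
    (β : B →ₐ[R] A) (hβ : Surjective β) (h : FPVia β.toRingHom N) :
    FlatCA.RelFinitePresentation R A N := by
  obtain ⟨n, δ, hδ, hker⟩ := Algebra.FinitePresentation.out (R := R) (A := B)
  refine ⟨n, β.comp δ, hβ.comp hδ, ?_⟩
  exact (fpVia_comp_iff N δ.toRingHom β.toRingHom hδ hker).mpr h

/-- (G2) relatively finitely presented implies finitely presented via any surjection from a
finitely presented `R`-algebra. -/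
theorem fpVia_of_relFP {B : Type*} [CommRing B] [Algebra R B] [Algebra.FinitePresentation R B]
    (β : B →ₐ[R] A) (hβ : Surjective β) (h : FlatCA.RelFinitePresentation R A N) :
    FPVia β.toRingHom N := by
  obtain ⟨n, φ, hφ, hN⟩ := h
  obtain ⟨k, δ, hδ, hker⟩ := Algebra.FinitePresentation.out (R := R) (A := B)
  have h1 : FPVia (β.comp δ).toRingHom N :=
    (fpVia_mvPolynomial_iff N φ hφ (β.comp δ) (hβ.comp hδ)).mp hN
  exact (fpVia_comp_iff N δ.toRingHom β.toRingHom hδ hker).mp h1

end G


section Base

variable {R R' A : Type u} [CommRing R] [CommRing R'] [CommRing A] [Algebra R R'] [Algebra R A]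
  [Algebra R' A] [IsScalarTower R R' A] (N : Type u) [AddCommGroup N] [Module A N]

/-- (R2') enlarging the base along a finitely presented algebra. -/
theorem relFP_of_relFP_of_finitePresentation [Algebra.FinitePresentation R R']
    (h : FlatCA.RelFinitePresentation R' A N) : FlatCA.RelFinitePresentation R A N := by
  obtain ⟨n, φ, hφ, hN⟩ := h
  haveI : Algebra.FinitePresentation R (MvPolynomial (Fin n) R') :=
    Algebra.FinitePresentation.trans R R' _
  exact relFP_of_fpVia N (φ.restrictScalars R) hφ hN

attribute [local instance] MvPolynomial.algebraMvPolynomial in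
/-- (R2) shrinking the base to a localization through which the algebra factors. -/
theorem relFP_of_isLocalization_base (M : Submonoid R) [IsLocalization M R']
    (h : FlatCA.RelFinitePresentation R A N) : FlatCA.RelFinitePresentation R' A N := by
  obtain ⟨n, φ, hφ, hN⟩ := h
  let φ' : MvPolynomial (Fin n) R' →ₐ[R'] A := MvPolynomial.aeval (fun i => φ (MvPolynomial.X i))
  have hφeq : φ = MvPolynomial.aeval (fun i => φ (MvPolynomial.X i)) := by
    apply MvPolynomial.algHom_ext
    intro i
    rw [MvPolynomial.aeval_X]
  have hcomp : ∀ p, φ' (MvPolynomial.map (algebraMap R R') p) = φ p := by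
    intro p
    rw [MvPolynomial.aeval_map_algebraMap]
    exact (congrArg (fun ψ : MvPolynomial (Fin n) R →ₐ[R] A => ψ p) hφeq).symm
  have hφ' : Surjective φ' := fun a => by
    obtain ⟨p, rfl⟩ := hφ a
    exact ⟨_, hcomp p⟩
  refine ⟨n, φ', hφ', ?_⟩
  letI : Module (MvPolynomial (Fin n) R) N := Module.compHom N φ.toRingHom
  letI : Module (MvPolynomial (Fin n) R') N := Module.compHom N φ'.toRingHom
  haveI : IsScalarTower (MvPolynomial (Fin n) R) (MvPolynomial (Fin n) R') N := ⟨fun p p' x => by
    change φ' (MvPolynomial.map (algebraMap R R') p * p') • x = φ p • (φ' p' • x)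
    rw [map_mul, hcomp, mul_smul]⟩
  haveI : Module.FinitePresentation (MvPolynomial (Fin n) R) N := hN
  haveI : IsLocalizedModule (M.map (MvPolynomial.C (σ := Fin n)))
      (LinearMap.id : N →ₗ[MvPolynomial (Fin n) R] N) :=
    isLocalizedModule_id _ N (MvPolynomial (Fin n) R')
  have hbc : IsBaseChange (MvPolynomial (Fin n) R')
      (LinearMap.id : N →ₗ[MvPolynomial (Fin n) R] N) :=
    IsLocalizedModule.isBaseChange (M.map (MvPolynomial.C (σ := Fin n))) _ _
  exact FinitePresentation.of_isBaseChange _ hbc

end Base


section Source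

variable {R A A' : Type u} [CommRing R] [CommRing A] [CommRing A'] [Algebra R A] [Algebra R A']
  [Algebra A A'] [IsScalarTower R A A'] (g : A) [IsLocalization.Away g A']

omit [Algebra R A'] [IsScalarTower R A A'] in
theorem awayLift_isUnit {n : ℕ} (φ : MvPolynomial (Fin n) R →ₐ[R] A)
    (g' : MvPolynomial (Fin n) R) (hg' : φ g' = g) :
    IsUnit (((algebraMap A A').comp φ.toRingHom) g') := by
  change IsUnit (algebraMap A A' (φ g'))
  rw [hg']
  exact IsLocalization.Away.algebraMap_isUnit g

/-- data attached to a presentation `φ` and a lift `g'` of `g`: the induced map from the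
localized polynomial ring. -/
noncomputable def awayLift {n : ℕ} (φ : MvPolynomial (Fin n) R →ₐ[R] A)
    (g' : MvPolynomial (Fin n) R) (hg' : φ g' = g) : Localization.Away g' →ₐ[R] A' :=
  { IsLocalization.Away.lift (S := Localization.Away g') g'
      (g := (algebraMap A A').comp φ.toRingHom) (awayLift_isUnit g φ g' hg') with
    commutes' := fun r => by
      change IsLocalization.Away.lift (S := Localization.Away g') g' _
        (algebraMap R (Localization.Away g') r) = _
      rw [IsScalarTower.algebraMap_apply R (MvPolynomial (Fin n) R) (Localization.Away g'),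
        IsLocalization.Away.lift_eq]
      change algebraMap A A' (φ (algebraMap R _ r)) = _
      rw [φ.commutes, ← IsScalarTower.algebraMap_apply] }

theorem awayLift_algebraMap {n : ℕ} (φ : MvPolynomial (Fin n) R →ₐ[R] A)
    (g' : MvPolynomial (Fin n) R) (hg' : φ g' = g) (p : MvPolynomial (Fin n) R) :
    awayLift (A' := A') g φ g' hg' (algebraMap _ (Localization.Away g') p) =
      algebraMap A A' (φ p) :=
  IsLocalization.Away.lift_eq g' (awayLift_isUnit g φ g' hg') p

theorem awayLift_surjective {n : ℕ} (φ : MvPolynomial (Fin n) R →ₐ[R] A) (hφ : Surjective φ)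
    (g' : MvPolynomial (Fin n) R) (hg' : φ g' = g) :
    Surjective (awayLift (A' := A') g φ g' hg') := by
  intro a'
  obtain ⟨k, a, ha⟩ := IsLocalization.Away.surj g a'
  obtain ⟨p, rfl⟩ := hφ a
  refine ⟨IsLocalization.mk' (Localization.Away g') p
    ⟨g' ^ k, pow_mem (Submonoid.mem_powers g') k⟩, ?_⟩
  have hu : IsUnit (algebraMap A A' (g ^ k)) := by
    rw [map_pow]; exact (IsLocalization.Away.algebraMap_isUnit g).pow k
  apply hu.mul_left_injective
  change _ * algebraMap A A' (g ^ k) = a' * algebraMap A A' (g ^ k)
  rw [← map_pow] at ha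
  rw [ha]
  have h1 : algebraMap A A' (g ^ k) =
      awayLift (A' := A') g φ g' hg' (algebraMap _ (Localization.Away g') (g' ^ k)) := by
    rw [awayLift_algebraMap, map_pow φ, hg']
  rw [h1, ← map_mul, ← awayLift_algebraMap (A' := A') g φ g' hg']
  congr 1
  exact IsLocalization.mk'_spec _ p ⟨g' ^ k, pow_mem (Submonoid.mem_powers g') k⟩

/-- (R1) localizing the source. -/
theorem relFP_away (N N' : Type u) [AddCommGroup N] [AddCommGroup N'] [Module A N] [Module A N']
    [Module A' N'] [IsScalarTower A A' N'] (l : N →ₗ[A] N') [IsLocalizedModule (.powers g) l]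
    (h : FlatCA.RelFinitePresentation R A N) :
    FlatCA.RelFinitePresentation R A' N' := by
  obtain ⟨n, φ, hφ, hN⟩ := h
  obtain ⟨g', hg'⟩ := hφ g
  let β := awayLift (A' := A') g φ g' hg'
  have hβ : Surjective β := awayLift_surjective g φ hφ g' hg'
  letI : Module (MvPolynomial (Fin n) R) N := Module.compHom N φ.toRingHom
  letI : Module (Localization.Away g') N' := Module.compHom N' β.toRingHom
  letI : Module (MvPolynomial (Fin n) R) N' :=
    Module.compHom N' (algebraMap (MvPolynomial (Fin n) R) (Localization.Away g'))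
  haveI : IsScalarTower (MvPolynomial (Fin n) R) (Localization.Away g') N' :=
    IsScalarTower.of_algebraMap_smul fun _ _ => rfl
  have hsmul : ∀ (p : MvPolynomial (Fin n) R) (x : N'), p • x = φ p • x := by
    intro p x
    change β (algebraMap _ _ p) • x = _
    rw [awayLift_algebraMap, algebraMap_smul]
  let l' : N →ₗ[MvPolynomial (Fin n) R] N' :=
    { toFun := l
      map_add' := l.map_add
      map_smul' := fun p x => by
        change l (φ p • x) = p • l x
        rw [hsmul, l.map_smul] }
  haveI : IsLocalizedModule (.powers g') l' := by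
    refine ⟨?_, ?_, ?_⟩
    · rintro ⟨_, k, rfl⟩
      have := IsLocalizedModule.map_units l (⟨g ^ k, k, rfl⟩ : Submonoid.powers g)
      rw [Module.End.isUnit_iff] at this ⊢
      convert this using 1
      ext x
      change (g' ^ k) • x = (g ^ k) • x
      rw [hsmul, map_pow, hg']
    · intro y
      obtain ⟨⟨x, ⟨_, k, rfl⟩⟩, hx⟩ := IsLocalizedModule.surj (.powers g) l y
      refine ⟨⟨x, ⟨g' ^ k, k, rfl⟩⟩, ?_⟩
      change (g' ^ k) • y = l x
      rw [hsmul, map_pow, hg']
      exact hx
    · intro x₁ x₂ hx
      obtain ⟨⟨_, k, rfl⟩, hc⟩ := IsLocalizedModule.exists_of_eq (S := .powers g) (f := l) hx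
      refine ⟨⟨g' ^ k, k, rfl⟩, ?_⟩
      change φ (g' ^ k) • x₁ = φ (g' ^ k) • x₂
      rw [map_pow, hg']
      exact hc
  haveI : Module.FinitePresentation (MvPolynomial (Fin n) R) N := hN
  have hbc : IsBaseChange (Localization.Away g') l' :=
    IsLocalizedModule.isBaseChange (.powers g') _ l'
  have hfp : Module.FinitePresentation (Localization.Away g') N' :=
    FinitePresentation.of_isBaseChange l' hbc
  haveI : Algebra.FinitePresentation (MvPolynomial (Fin n) R) (Localization.Away g') :=
    IsLocalization.Away.finitePresentation g'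
  haveI : Algebra.FinitePresentation R (Localization.Away g') :=
    Algebra.FinitePresentation.trans R (MvPolynomial (Fin n) R) _
  exact relFP_of_fpVia N' β hβ hfp

/-- finite presentation of the localized module over the localized polynomial ring, from
finite presentation via `awayLift`. -/
theorem fp_localizedModule_of_fpVia (N N' : Type u) [AddCommGroup N] [AddCommGroup N']
    [Module A N] [Module A N'] [Module A' N'] [IsScalarTower A A' N'] (l : N →ₗ[A] N')
    [IsLocalizedModule (.powers g) l] {n : ℕ} (φ : MvPolynomial (Fin n) R →ₐ[R] A)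
    (g' : MvPolynomial (Fin n) R) (hg' : φ g' = g)
    (h : FPVia (awayLift (A' := A') g φ g' hg').toRingHom N') :
    letI : Module (MvPolynomial (Fin n) R) N := Module.compHom N φ.toRingHom
    Module.FinitePresentation (Localization.Away g') (LocalizedModule.Away g' N) := by
  let β := awayLift (A' := A') g φ g' hg'
  letI : Module (MvPolynomial (Fin n) R) N := Module.compHom N φ.toRingHom
  letI : Module (Localization.Away g') N' := Module.compHom N' β.toRingHom
  letI : Module (MvPolynomial (Fin n) R) N' :=
    Module.compHom N' (algebraMap (MvPolynomial (Fin n) R) (Localization.Away g'))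
  haveI : IsScalarTower (MvPolynomial (Fin n) R) (Localization.Away g') N' :=
    IsScalarTower.of_algebraMap_smul fun _ _ => rfl
  have hsmul : ∀ (p : MvPolynomial (Fin n) R) (x : N'), p • x = φ p • x := by
    intro p x
    change β (algebraMap _ _ p) • x = _
    rw [awayLift_algebraMap, algebraMap_smul]
  let l' : N →ₗ[MvPolynomial (Fin n) R] N' :=
    { toFun := l
      map_add' := l.map_add
      map_smul' := fun p x => by
        change l (φ p • x) = p • l x
        rw [hsmul, l.map_smul] }
  haveI : IsLocalizedModule (.powers g') l' := by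
    refine ⟨?_, ?_, ?_⟩
    · rintro ⟨_, k, rfl⟩
      have := IsLocalizedModule.map_units l (⟨g ^ k, k, rfl⟩ : Submonoid.powers g)
      rw [Module.End.isUnit_iff] at this ⊢
      convert this using 1
      ext x
      change (g' ^ k) • x = (g ^ k) • x
      rw [hsmul, map_pow, hg']
    · intro y
      obtain ⟨⟨x, ⟨_, k, rfl⟩⟩, hx⟩ := IsLocalizedModule.surj (.powers g) l y
      refine ⟨⟨x, ⟨g' ^ k, k, rfl⟩⟩, ?_⟩
      change (g' ^ k) • y = l x
      rw [hsmul, map_pow, hg']
      exact hx
    · intro x₁ x₂ hx
      obtain ⟨⟨_, k, rfl⟩, hc⟩ := IsLocalizedModule.exists_of_eq (S := .powers g) (f := l) hx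
      refine ⟨⟨g' ^ k, k, rfl⟩, ?_⟩
      change φ (g' ^ k) • x₁ = φ (g' ^ k) • x₂
      rw [map_pow, hg']
      exact hc
  haveI : Module.FinitePresentation (Localization.Away g') N' := h
  let e : N' ≃ₗ[MvPolynomial (Fin n) R] LocalizedModule.Away g' N :=
    IsLocalizedModule.linearEquiv (.powers g') l' (LocalizedModule.mkLinearMap (.powers g') N)
  let e' : N' ≃ₗ[Localization.Away g'] LocalizedModule.Away g' N :=
    LinearEquiv.extendScalarsOfIsLocalization (.powers g') (Localization.Away g') e
  exact Module.FinitePresentation.of_equiv e'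

end Source

section Glue

variable {R A : Type u} [CommRing R] [CommRing A] [Algebra R A] [Algebra.FiniteType R A]
  (N : Type u) [AddCommGroup N] [Module A N]

/-- (R3) glueing over a family of localizations of the source. -/
theorem relFP_of_span {ι : Type*} (g : ι → A) (hg : Ideal.span (Set.range g) = ⊤)
    (A' : ι → Type u) [∀ i, CommRing (A' i)] [∀ i, Algebra R (A' i)] [∀ i, Algebra A (A' i)]
    [∀ i, IsScalarTower R A (A' i)] [∀ i, IsLocalization.Away (g i) (A' i)]
    (N' : ι → Type u) [∀ i, AddCommGroup (N' i)] [∀ i, Module A (N' i)]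
    [∀ i, Module (A' i) (N' i)] [∀ i, IsScalarTower A (A' i) (N' i)] (l : ∀ i, N →ₗ[A] N' i)
    [∀ i, IsLocalizedModule (.powers (g i)) (l i)]
    (h : ∀ i, FlatCA.RelFinitePresentation R (A' i) (N' i)) :
    FlatCA.RelFinitePresentation R A N := by
  obtain ⟨n, α, hα⟩ := Algebra.FiniteType.iff_quotient_mvPolynomial''.mp
    (inferInstance : Algebra.FiniteType R A)
  refine ⟨n, α, hα, ?_⟩
  letI : Module (MvPolynomial (Fin n) R) N := Module.compHom N α.toRingHom
  let s : Set (MvPolynomial (Fin n) R) := {t | α t = 0 ∨ ∃ i, α t = g i}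
  have hs : Ideal.span s = ⊤ := by
    have h1 : RingHom.ker α.toRingHom ≤ Ideal.span s := fun t ht =>
      Ideal.subset_span (Or.inl ht)
    have h2 : (Ideal.span s).map α.toRingHom = ⊤ := by
      rw [eq_top_iff, ← hg, Ideal.span_le]
      rintro _ ⟨i, rfl⟩
      obtain ⟨t, ht⟩ := hα (g i)
      rw [← ht]
      exact Ideal.mem_map_of_mem _ (Ideal.subset_span (Or.inr ⟨i, ht⟩))
    have h3 := Ideal.comap_map_of_surjective α.toRingHom hα (Ideal.span s)
    rw [h2, Ideal.comap_top, ← RingHom.ker_eq_comap_bot] at h3
    rw [eq_top_iff, h3]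
    exact sup_le le_rfl h1
  apply Module.FinitePresentation.of_localizationSpan s hs
  rintro ⟨t, ht⟩
  rcases ht with h0 | ⟨i, hi⟩
  · haveI : Subsingleton (LocalizedModule.Away t N) := by
      rw [LocalizedModule.subsingleton_iff]
      intro m
      refine ⟨t, Submonoid.mem_powers t, ?_⟩
      change α t • m = 0
      rw [h0, zero_smul]
    infer_instance
  · have hβ := awayLift_surjective (A' := A' i) (g i) α hα t hi
    haveI : Algebra.FinitePresentation (MvPolynomial (Fin n) R) (Localization.Away t) :=
      IsLocalization.Away.finitePresentation t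
    haveI : Algebra.FinitePresentation R (Localization.Away t) :=
      Algebra.FinitePresentation.trans R (MvPolynomial (Fin n) R) _
    have h1 := fpVia_of_relFP (N' i) (awayLift (A' := A' i) (g i) α t hi) hβ (h i)
    exact fp_localizedModule_of_fpVia (g i) N (N' i) (l i) α t hi h1

end Glue

end Groth.Agent.Lib.Helper26.RelFPRing
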