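import Groth.Agent.Lib.Helper26.RelFPRing

set_option autoImplicit false
set_option linter.style.haveILetI false
universe u

namespace Groth.Agent.Lib.Helper26.RelFPRing

open Function Groth.Agent.Lib.Helper28

section Seq

variable {R A : Type u} [CommRing R] [CommRing A] [Algebra R A]
  {N' N N'' : Type u} [AddCommGroup N'] [AddCommGroup N] [AddCommGroup N'']
  [Module A N'] [Module A N] [Module A N'']

/-- restriction of scalars of a linear map along a ring hom, for `Module.compHom` structures -/
def compHomLinear {P : Type*} [CommRing P] (φ : P →+* A) {M₁ M₂ : Type*} [AddCommGroup M₁]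
    [AddCommGroup M₂] [Module A M₁] [Module A M₂] (l : M₁ →ₗ[A] M₂) :
    letI := Module.compHom M₁ φ
    letI := Module.compHom M₂ φ
    M₁ →ₗ[P] M₂ :=
  letI := Module.compHom M₁ φ
  letI := Module.compHom M₂ φ
  { toFun := l
    map_add' := l.map_add
    map_smul' := fun p x => l.map_smul (φ p) x }

/-- (Q) quotient of a relatively finitely presented module by a finitely generated submodule. -/
theorem relFP_of_surjective (p : N →ₗ[A] N'') (hp : Surjective p) (hker : (LinearMap.ker p).FG)
    (h : FlatCA.RelFinitePresentation R A N) : FlatCA.RelFinitePresentation R A N'' := by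
  obtain ⟨n, φ, hφ, hN⟩ := h
  refine ⟨n, φ, hφ, ?_⟩
  letI : Module (MvPolynomial (Fin n) R) N := Module.compHom N φ.toRingHom
  letI : Module (MvPolynomial (Fin n) R) N'' := Module.compHom N'' φ.toRingHom
  haveI : Module.FinitePresentation (MvPolynomial (Fin n) R) N := hN
  let p' : N →ₗ[MvPolynomial (Fin n) R] N'' := compHomLinear φ.toRingHom p
  refine Module.finitePresentation_of_surjective p' hp ?_
  -- the kernel is finitely generated over the polynomial ring
  obtain ⟨s, hs⟩ := hker
  refine ⟨s, ?_⟩
  apply le_antisymm
  · rw [Submodule.span_le]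
    intro x hx
    have : x ∈ LinearMap.ker p := hs ▸ Submodule.subset_span hx
    exact this
  · intro x hx
    have hx' : x ∈ Submodule.span A (s : Set N) := by rw [hs]; exact hx
    clear hx
    induction hx' using Submodule.span_induction with
    | mem y hy => exact Submodule.subset_span hy
    | zero => exact zero_mem _
    | add y z _ _ hy hz => exact add_mem hy hz
    | smul a y _ hy =>
      obtain ⟨q, rfl⟩ := hφ a
      exact Submodule.smul_mem _ q hy

/-- (Rt) a retract of a relatively finitely presented module is relatively finitely presented. -/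
theorem relFP_of_retract (π : N →ₗ[A] N'') (ι : N'' →ₗ[A] N) (hπι : ∀ x, π (ι x) = x)
    (h : FlatCA.RelFinitePresentation R A N) : FlatCA.RelFinitePresentation R A N'' := by
  have hsurj : Surjective π := fun x => ⟨ι x, hπι x⟩
  refine relFP_of_surjective π hsurj ?_ h
  -- the kernel is the image of `id - ι ∘ π`, and `N` is finite over `A`
  obtain ⟨n, φ, hφ, hN⟩ := h
  have hfin : Module.Finite A N := by
    letI : Module (MvPolynomial (Fin n) R) N := Module.compHom N φ.toRingHom
    haveI : Module.FinitePresentation (MvPolynomial (Fin n) R) N := hN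
    haveI : Module.Finite (MvPolynomial (Fin n) R) N := inferInstance
    letI : Algebra (MvPolynomial (Fin n) R) A := φ.toRingHom.toAlgebra
    haveI : IsScalarTower (MvPolynomial (Fin n) R) A N :=
      IsScalarTower.of_algebraMap_smul fun _ _ => rfl
    exact Module.Finite.of_restrictScalars_finite (MvPolynomial (Fin n) R) A N
  have hker : LinearMap.ker π = LinearMap.range (LinearMap.id - ι.comp π) := by
    ext x
    constructor
    · intro hx
      refine ⟨x, ?_⟩
      have : π x = 0 := hx
      simp [this]
    · rintro ⟨y, rfl⟩
      change π (y - ι (π y)) = 0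
      rw [map_sub, hπι, sub_self]
  rw [hker, LinearMap.range_eq_map]
  exact Submodule.FG.map _ hfin.fg_top

/-- (E) extensions. -/
theorem relFP_of_exact (i : N' →ₗ[A] N) (p : N →ₗ[A] N'') (hi : Injective i) (hp : Surjective p)
    (hex : Function.Exact i p) (h' : FlatCA.RelFinitePresentation R A N')
    (h'' : FlatCA.RelFinitePresentation R A N'') : FlatCA.RelFinitePresentation R A N := by
  obtain ⟨n, φ, hφ, hN'⟩ := h'
  refine ⟨n, φ, hφ, ?_⟩
  have hN'' : FPVia φ.toRingHom N'' := fpVia_of_relFP N'' φ hφ h''
  letI : Module (MvPolynomial (Fin n) R) N' := Module.compHom N' φ.toRingHom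
  letI : Module (MvPolynomial (Fin n) R) N := Module.compHom N φ.toRingHom
  letI : Module (MvPolynomial (Fin n) R) N'' := Module.compHom N'' φ.toRingHom
  haveI : Module.FinitePresentation (MvPolynomial (Fin n) R) N' := hN'
  haveI : Module.FinitePresentation (MvPolynomial (Fin n) R) N'' := hN''
  let i' : N' →ₗ[MvPolynomial (Fin n) R] N := compHomLinear φ.toRingHom i
  let p' : N →ₗ[MvPolynomial (Fin n) R] N'' := compHomLinear φ.toRingHom p
  have hex' : Function.Exact i' p' := hex
  let e : N' ≃ₗ[MvPolynomial (Fin n) R] LinearMap.ker p' :=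
    (LinearEquiv.ofInjective i' hi).trans
      (LinearEquiv.ofEq _ _ ((LinearMap.exact_iff.mp hex').symm))
  haveI : Module.FinitePresentation (MvPolynomial (Fin n) R) (LinearMap.ker p') :=
    Module.FinitePresentation.of_equiv e
  exact Module.finitePresentation_of_ker p' hp

end Seq

end Groth.Agent.Lib.Helper26.RelFPRing
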