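import Groth.Agent.Lib.Helper26.RelFPRing2
import Groth.Agent.Lib.Helper21.RelFPBaseChange

set_option autoImplicit false
set_option linter.style.haveILetI false
universe u

namespace Groth.Agent.Lib.Helper26.RelFPRing

open Function TensorProduct Groth.Agent.Lib.Helper28

section Transport

variable {R A : Type u} [CommRing R] [CommRing A] [Algebra R A]
  {N N' : Type u} [AddCommGroup N] [AddCommGroup N'] [Module A N] [Module A N']

/-- transport along a linear equivalence -/
theorem relFP_of_linearEquiv (e : N ≃ₗ[A] N') (h : FlatCA.RelFinitePresentation R A N) :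
    FlatCA.RelFinitePresentation R A N' := by
  obtain ⟨n, φ, hφ, hN⟩ := h
  refine ⟨n, φ, hφ, ?_⟩
  letI : Module (MvPolynomial (Fin n) R) N := Module.compHom N φ.toRingHom
  letI : Module (MvPolynomial (Fin n) R) N' := Module.compHom N' φ.toRingHom
  haveI : Module.FinitePresentation (MvPolynomial (Fin n) R) N := hN
  let e' : N ≃ₗ[MvPolynomial (Fin n) R] N' :=
    { e with
      map_smul' := fun p x => e.map_smul (φ p) x }
  exact Module.FinitePresentation.of_equiv e'

end Transport

section Quot

variable {R C B : Type u} [CommRing R] [CommRing C] [CommRing B] [Algebra R C] [Algebra R B]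
  [Algebra C B] [IsScalarTower R C B]

theorem ker_mk_one_fg (hsurj : Surjective (algebraMap C B))
    (hker : (RingHom.ker (algebraMap C B)).FG) (N : Type u) [AddCommGroup N] [Module C N]
    [Module.Finite C N] : (LinearMap.ker (TensorProduct.mk C B N 1)).FG := by
  set I := RingHom.ker (algebraMap C B) with hI
  have hex : Function.Exact (I.subtype : I →ₗ[C] C) (Algebra.linearMap C B) := by
    intro x
    constructor
    · intro hx
      exact ⟨⟨x, hx⟩, rfl⟩
    · rintro ⟨y, rfl⟩
      exact y.2
  have hex2 := rTensor_exact N hex hsurj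
  have hmk : (TensorProduct.mk C B N 1 : N →ₗ[C] B ⊗[C] N) =
      ((Algebra.linearMap C B).rTensor N).comp (TensorProduct.lid C N).symm.toLinearMap := by
    ext x
    simp
  haveI : Module.Finite C I := Module.Finite.of_fg hker
  have hrange : (LinearMap.range ((TensorProduct.lid C N).toLinearMap.comp
      ((I.subtype : I →ₗ[C] C).rTensor N))).FG := by
    rw [LinearMap.range_eq_map]
    exact Submodule.FG.map _ (Module.Finite.fg_top)
  convert hrange using 1
  ext x
  rw [LinearMap.mem_ker, hmk, LinearMap.comp_apply]
  change (Algebra.linearMap C B).rTensor N ((TensorProduct.lid C N).symm x) = 0 ↔ _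
  rw [hex2]
  constructor
  · rintro ⟨y, hy⟩
    refine ⟨y, ?_⟩
    rw [LinearMap.comp_apply, hy]
    exact (TensorProduct.lid C N).apply_symm_apply x
  · rintro ⟨y, hy⟩
    refine ⟨y, ?_⟩
    rw [← hy, LinearMap.comp_apply]
    exact ((TensorProduct.lid C N).symm_apply_apply _).symm

/-- Step 2: base change along a surjection with finitely generated kernel. -/
theorem relFP_tensor_of_surjective (hsurj : Surjective (algebraMap C B))
    (hker : (RingHom.ker (algebraMap C B)).FG) (N : Type u) [AddCommGroup N] [Module C N]
    (h : FlatCA.RelFinitePresentation R C N) : FlatCA.RelFinitePresentation R B (B ⊗[C] N) := by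
  have hfin : Module.Finite C N := by
    obtain ⟨n, φ, hφ, hN⟩ := h
    letI : Module (MvPolynomial (Fin n) R) N := Module.compHom N φ.toRingHom
    haveI : Module.FinitePresentation (MvPolynomial (Fin n) R) N := hN
    haveI : Module.Finite (MvPolynomial (Fin n) R) N := inferInstance
    letI : Algebra (MvPolynomial (Fin n) R) C := φ.toRingHom.toAlgebra
    haveI : IsScalarTower (MvPolynomial (Fin n) R) C N :=
      IsScalarTower.of_algebraMap_smul fun _ _ => rfl
    exact Module.Finite.of_restrictScalars_finite (MvPolynomial (Fin n) R) C N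
  have hsurj' : Surjective (TensorProduct.mk C B N 1) := by
    intro t
    induction t using TensorProduct.induction_on with
    | zero => exact ⟨0, map_zero _⟩
    | tmul b x =>
      obtain ⟨c, rfl⟩ := hsurj b
      refine ⟨c • x, ?_⟩
      change (1 : B) ⊗ₜ[C] (c • x) = algebraMap C B c ⊗ₜ[C] x
      rw [TensorProduct.tmul_smul, TensorProduct.smul_tmul', Algebra.smul_def, mul_one]
    | add x y hx hy =>
      obtain ⟨a, rfl⟩ := hx
      obtain ⟨b, rfl⟩ := hy
      exact ⟨a + b, map_add _ _ _⟩
  have h1 : FlatCA.RelFinitePresentation R C (B ⊗[C] N) :=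
    relFP_of_surjective (TensorProduct.mk C B N 1) hsurj' (ker_mk_one_fg hsurj hker N) h
  obtain ⟨n, φ, hφ, hT⟩ := h1
  refine ⟨n, (IsScalarTower.toAlgHom R C B).comp φ, hsurj.comp hφ, ?_⟩
  have hmod : Module.compHom (B ⊗[C] N) ((IsScalarTower.toAlgHom R C B).comp φ).toRingHom =
      Module.compHom (B ⊗[C] N) φ.toRingHom := by
    refine Module.ext' _ _ fun p t => ?_
    change algebraMap C B (φ p) • t = φ p • t
    rw [algebraMap_smul]
  rw [hmod]
  exact hT

end Quot

section Poly

variable {R A : Type u} [CommRing R] [CommRing A] [Algebra R A]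

attribute [local instance] MvPolynomial.algebraMvPolynomial in
/-- Step 1: polynomial extension. -/
theorem relFP_mvPolynomial_tensor (m : ℕ) (M : Type u) [AddCommGroup M] [Module A M]
    (h : FlatCA.RelFinitePresentation R A M) :
    FlatCA.RelFinitePresentation R (MvPolynomial (Fin m) A) (MvPolynomial (Fin m) A ⊗[A] M) := by
  obtain ⟨n, α, hα, hM⟩ := h
  have h1 : FlatCA.RelFinitePresentation (MvPolynomial (Fin m) R) (MvPolynomial (Fin m) A)
      (MvPolynomial (Fin m) A ⊗[A] M) :=
    ⟨n, Groth.Agent.Lib.Helper21.baseChangePres (R' := MvPolynomial (Fin m) R)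
        (A' := MvPolynomial (Fin m) A) α,
      Groth.Agent.Lib.Helper21.baseChangePres_surjective α hα,
      Groth.Agent.Lib.Helper21.fpVia_baseChangePres M α hM⟩
  exact relFP_of_relFP_of_finitePresentation (R := R) (R' := MvPolynomial (Fin m) R) _ h1

end Poly

section PB

variable {R A B : Type u} [CommRing R] [CommRing A] [CommRing B] [Algebra R A] [Algebra A B]
  [Algebra R B] [IsScalarTower R A B]

/-- (PB) base change along a finitely presented algebra. -/
theorem relFP_tensor_of_finitePresentation [Algebra.FinitePresentation A B] (M : Type u)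
    [AddCommGroup M] [Module A M] (h : FlatCA.RelFinitePresentation R A M) :
    FlatCA.RelFinitePresentation R B (B ⊗[A] M) := by
  obtain ⟨m, ψ, hψ, hker⟩ := Algebra.FinitePresentation.out (R := A) (A := B)
  letI : Algebra (MvPolynomial (Fin m) A) B := ψ.toRingHom.toAlgebra
  haveI : IsScalarTower A (MvPolynomial (Fin m) A) B :=
    IsScalarTower.of_algebraMap_eq fun a => (ψ.commutes a).symm
  haveI : IsScalarTower R (MvPolynomial (Fin m) A) B :=
    IsScalarTower.of_algebraMap_eq fun r => by
      rw [IsScalarTower.algebraMap_apply R A B, IsScalarTower.algebraMap_apply R A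
        (MvPolynomial (Fin m) A), ← IsScalarTower.algebraMap_apply A (MvPolynomial (Fin m) A) B]
  have h1 := relFP_mvPolynomial_tensor m M h
  have h2 := relFP_tensor_of_surjective (R := R) (C := MvPolynomial (Fin m) A) (B := B) hψ hker
    _ h1
  exact relFP_of_linearEquiv
    (TensorProduct.AlgebraTensorModule.cancelBaseChange A (MvPolynomial (Fin m) A) B B M) h2

end PB

end Groth.Agent.Lib.Helper26.RelFPRing
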