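import Groth.Agent.Lib.Helper26.RelFPRing3

set_option autoImplicit false
set_option linter.style.haveILetI false
universe u

namespace Groth.Agent.Lib.Helper26.RelFPRing

open Function Groth.Agent.Lib.Helper28

theorem s7005 {R A A' : Type u} [CommRing R] [CommRing A]
    [CommRing A'] [Algebra R A] [Algebra A A'] [Algebra R A'] [IsScalarTower R A A']
    [Algebra.FinitePresentation A A'] (M : Type u) [AddCommGroup M] [Module A M] {n k : ℕ}
    (α : MvPolynomial (Fin n) R →ₐ[R] A) (hα : Function.Surjective α)
    (hM : @Module.FinitePresentation (MvPolynomial (Fin n) R) (M) _ _ (Module.compHom (M) α.toRingHom))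
    (γ : MvPolynomial (Fin k) R →ₐ[R] A') (hγ : Function.Surjective γ) :
    @Module.FinitePresentation (MvPolynomial (Fin k) R) (TensorProduct A A' M) _ _ (Module.compHom (TensorProduct A A' M) γ.toRingHom) := by
  have h1 : FlatCA.RelFinitePresentation R A M := ⟨n, α, hα, hM⟩
  have h2 := relFP_tensor_of_finitePresentation (R := R) (A := A) (B := A') M h1
  exact fpVia_of_relFP _ γ hγ h2

end Groth.Agent.Lib.Helper26.RelFPRing
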