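import Groth.Agent.Lib.Helper26.RelFPRing

set_option autoImplicit false
set_option linter.style.haveILetI false
universe u

namespace Groth.Agent.Lib.Helper26.RelFPRing

open Function Groth.Agent.Lib.Helper28

theorem s7006 {R A : Type u} [CommRing R] [CommRing A] (f : R)
    [Algebra R A] [Algebra (Localization.Away f) A] [IsScalarTower R (Localization.Away f) A] {n k : ℕ}
    (α : MvPolynomial (Fin n) (Localization.Away f) →ₐ[Localization.Away f] A) (hα : Function.Surjective α)
    (g : A) (M : Type u) [AddCommGroup M] [Module A M]
    (hM : @Module.FinitePresentation (MvPolynomial (Fin n) (Localization.Away f)) (M) _ _ (Module.compHom (M) α.toRingHom))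
    (γ : MvPolynomial (Fin k) R →ₐ[R] Localization.Away g) (hγ : Function.Surjective γ) :
    @Module.FinitePresentation (MvPolynomial (Fin k) R) (LocalizedModule (Submonoid.powers g) M) _ _ (Module.compHom (LocalizedModule (Submonoid.powers g) M) γ.toRingHom) := by
  have h1 : FlatCA.RelFinitePresentation (Localization.Away f) A M := ⟨n, α, hα, hM⟩
  haveI : Algebra.FinitePresentation R (Localization.Away f) :=
    IsLocalization.Away.finitePresentation f
  have h2 : FlatCA.RelFinitePresentation R A M := relFP_of_relFP_of_finitePresentation M h1
  have h3 : FlatCA.RelFinitePresentation R (Localization.Away g)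
      (LocalizedModule (Submonoid.powers g) M) :=
    relFP_away g M _ (LocalizedModule.mkLinearMap (Submonoid.powers g) M) h2
  obtain ⟨m, φ, hφ, hN⟩ := h3
  exact (fpVia_mvPolynomial_iff _ φ hφ γ hγ).mp hN

end Groth.Agent.Lib.Helper26.RelFPRing
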