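import Groth.Agent.Lib.Helper26.RelFPRing
import Groth.Prelude.Def_Flatn
import Groth.Agent.Lib.Helper29.QCohAffine

set_option autoImplicit false
set_option linter.style.haveILetI false
universe u
open CategoryTheory CategoryTheory.Limits AlgebraicGeometry Opposite TopologicalSpace
open Groth.Agent.Lib.Helper29.QCoh

namespace Groth.Agent.Lib.Helper26.RelFPScheme

open Groth.Agent.Lib.Helper26.RelFPRing

variable {X S : Scheme.{u}}

/-- `F(U)` is finitely presented relative to `Γ(S, V)`, for arbitrary opens `U ≤ f⁻¹ V`. -/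
def P (f : X ⟶ S) (F : X.Modules) (U : X.Opens) (V : S.Opens) (h : U ≤ f ⁻¹ᵁ V) : Prop :=
  letI := (f.appLE V U h).hom.toAlgebra
  FlatCA.RelFinitePresentation Γ(S, V) Γ(X, U) Γ(F, U)

theorem relFPOn_iff_P (f : X ⟶ S) (F : X.Modules) (U : X.affineOpens) (V : S.affineOpens)
    (h : (U : X.Opens) ≤ f ⁻¹ᵁ (V : S.Opens)) :
    Flatn.RelFPOn f F U V h ↔ P f F U V h := Iff.rfl

theorem P_congr (f : X ⟶ S) (F : X.Modules) {U U' : X.Opens} {V V' : S.Opens} (eU : U = U')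
    (eV : V = V') (h : U ≤ f ⁻¹ᵁ V) (h' : U' ≤ f ⁻¹ᵁ V') (hP : P f F U V h) : P f F U' V' h' := by
  subst eU eV
  exact hP

/-- (S1) localizing the source. -/
theorem P_basicOpen_source (f : X ⟶ S) (F : X.Modules) [F.IsQuasicoherent] {U : X.Opens}
    (hU : IsAffineOpen U) (V : S.Opens) (h : U ≤ f ⁻¹ᵁ V) (g : Γ(X, U)) (hP : P f F U V h) :
    P f F (X.basicOpen g) V ((X.basicOpen_le g).trans h) := by
  letI algRA := (f.appLE V U h).hom.toAlgebra
  letI algRA' := (f.appLE V (X.basicOpen g) ((X.basicOpen_le g).trans h)).hom.toAlgebra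
  letI algAA' : Algebra Γ(X, U) Γ(X, X.basicOpen g) :=
    (X.presheaf.map (homOfLE (X.basicOpen_le g)).op).hom.toAlgebra
  haveI : IsScalarTower Γ(S, V) Γ(X, U) Γ(X, X.basicOpen g) := by
    apply IsScalarTower.of_algebraMap_eq'
    change (f.appLE V (X.basicOpen g) _).hom =
      (X.presheaf.map (homOfLE (X.basicOpen_le g)).op).hom.comp (f.appLE V U h).hom
    rw [← CommRingCat.hom_comp, Scheme.Hom.appLE_map]
  haveI : IsLocalization.Away g Γ(X, X.basicOpen g) := hU.isLocalization_basicOpen g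
  letI := sectionsModule F (X.basicOpen_le g)
  haveI : IsScalarTower Γ(X, U) Γ(X, X.basicOpen g) Γ(F, X.basicOpen g) :=
    IsScalarTower.of_algebraMap_smul fun _ _ => rfl
  haveI := isLocalizedModule_res_basicOpen F hU g
  exact relFP_away g Γ(F, U) Γ(F, X.basicOpen g) (resₗ F (X.basicOpen_le g)) hP

/-- (S2) shrinking the base to a basic open. -/
theorem P_basicOpen_base (f : X ⟶ S) (F : X.Modules) (U : X.Opens) {V : S.Opens}
    (hV : IsAffineOpen V) (r : Γ(S, V)) (h : U ≤ f ⁻¹ᵁ V) (h' : U ≤ f ⁻¹ᵁ (S.basicOpen r))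
    (hP : P f F U V h) : P f F U (S.basicOpen r) h' := by
  letI algRR' : Algebra Γ(S, V) Γ(S, S.basicOpen r) :=
    (S.presheaf.map (homOfLE (S.basicOpen_le r)).op).hom.toAlgebra
  letI algRA := (f.appLE V U h).hom.toAlgebra
  letI algR'A := (f.appLE (S.basicOpen r) U h').hom.toAlgebra
  haveI : IsScalarTower Γ(S, V) Γ(S, S.basicOpen r) Γ(X, U) := by
    apply IsScalarTower.of_algebraMap_eq'
    change (f.appLE V U h).hom =
      (f.appLE (S.basicOpen r) U h').hom.comp (S.presheaf.map (homOfLE (S.basicOpen_le r)).op).hom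
    rw [← CommRingCat.hom_comp, Scheme.Hom.map_appLE]
  haveI : IsLocalization.Away r Γ(S, S.basicOpen r) := hV.isLocalization_basicOpen r
  exact relFP_of_isLocalization_base Γ(F, U) (Submonoid.powers r) hP

/-- (S2') enlarging the base from a basic open. -/
theorem P_of_basicOpen_base (f : X ⟶ S) (F : X.Modules) (U : X.Opens) {V : S.Opens}
    (hV : IsAffineOpen V) (r : Γ(S, V)) (h : U ≤ f ⁻¹ᵁ V) (h' : U ≤ f ⁻¹ᵁ (S.basicOpen r))
    (hP : P f F U (S.basicOpen r) h') : P f F U V h := by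
  letI algRR' : Algebra Γ(S, V) Γ(S, S.basicOpen r) :=
    (S.presheaf.map (homOfLE (S.basicOpen_le r)).op).hom.toAlgebra
  letI algRA := (f.appLE V U h).hom.toAlgebra
  letI algR'A := (f.appLE (S.basicOpen r) U h').hom.toAlgebra
  haveI : IsScalarTower Γ(S, V) Γ(S, S.basicOpen r) Γ(X, U) := by
    apply IsScalarTower.of_algebraMap_eq'
    change (f.appLE V U h).hom =
      (f.appLE (S.basicOpen r) U h').hom.comp (S.presheaf.map (homOfLE (S.basicOpen_le r)).op).hom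
    rw [← CommRingCat.hom_comp, Scheme.Hom.map_appLE]
  haveI : IsLocalization.Away r Γ(S, S.basicOpen r) := hV.isLocalization_basicOpen r
  haveI : Algebra.FinitePresentation Γ(S, V) Γ(S, S.basicOpen r) :=
    IsLocalization.Away.finitePresentation r
  exact relFP_of_relFP_of_finitePresentation Γ(F, U) hP

/-- (S3) glueing on the source. -/
theorem P_of_span (f : X ⟶ S) (F : X.Modules) [F.IsQuasicoherent] {U : X.Opens}
    (hU : IsAffineOpen U) (V : S.Opens) (h : U ≤ f ⁻¹ᵁ V)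
    (hft : (f.appLE V U h).hom.FiniteType) {ι : Type*} (g : ι → Γ(X, U))
    (hg : Ideal.span (Set.range g) = ⊤)
    (hP : ∀ i, P f F (X.basicOpen (g i)) V ((X.basicOpen_le (g i)).trans h)) : P f F U V h := by
  letI algRA := (f.appLE V U h).hom.toAlgebra
  letI algRA' : ∀ i, Algebra Γ(S, V) Γ(X, X.basicOpen (g i)) := fun i =>
    (f.appLE V (X.basicOpen (g i)) ((X.basicOpen_le (g i)).trans h)).hom.toAlgebra
  letI algAA' : ∀ i, Algebra Γ(X, U) Γ(X, X.basicOpen (g i)) := fun i =>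
    (X.presheaf.map (homOfLE (X.basicOpen_le (g i))).op).hom.toAlgebra
  haveI : ∀ i, IsScalarTower Γ(S, V) Γ(X, U) Γ(X, X.basicOpen (g i)) := fun i => by
    apply IsScalarTower.of_algebraMap_eq'
    change (f.appLE V (X.basicOpen (g i)) _).hom =
      (X.presheaf.map (homOfLE (X.basicOpen_le (g i))).op).hom.comp (f.appLE V U h).hom
    rw [← CommRingCat.hom_comp, Scheme.Hom.appLE_map]
  haveI : ∀ i, IsLocalization.Away (g i) Γ(X, X.basicOpen (g i)) := fun i =>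
    hU.isLocalization_basicOpen (g i)
  letI : ∀ i, Module Γ(X, U) Γ(F, X.basicOpen (g i)) := fun i =>
    sectionsModule F (X.basicOpen_le (g i))
  haveI : ∀ i, IsScalarTower Γ(X, U) Γ(X, X.basicOpen (g i)) Γ(F, X.basicOpen (g i)) := fun i =>
    IsScalarTower.of_algebraMap_smul fun _ _ => rfl
  haveI : ∀ i, IsLocalizedModule (.powers (g i)) (resₗ F (X.basicOpen_le (g i))) := fun i =>
    isLocalizedModule_res_basicOpen F hU (g i)
  haveI : Algebra.FiniteType Γ(S, V) Γ(X, U) := hft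
  exact relFP_of_span Γ(F, U) g hg (fun i => Γ(X, X.basicOpen (g i)))
    (fun i => Γ(F, X.basicOpen (g i))) (fun i => resₗ F (X.basicOpen_le (g i))) hP

/-- The affine-local characterization (forward direction). -/
theorem P_of_isRelFP (f : X ⟶ S) [LocallyOfFiniteType f] (F : X.Modules) [F.IsQuasicoherent]
    (hF : Flatn.IsRelFP f F) {U₀ : X.Opens} (hU₀ : IsAffineOpen U₀) {V₀ : S.Opens}
    (hV₀ : IsAffineOpen V₀) (h₀ : U₀ ≤ f ⁻¹ᵁ V₀) : P f F U₀ V₀ h₀ := by
  obtain ⟨𝒱, h𝒱, H⟩ := hF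
  have key : ∀ x ∈ U₀, ∃ g : Γ(X, U₀), x ∈ X.basicOpen g ∧
      P f F (X.basicOpen g) V₀ ((X.basicOpen_le g).trans h₀) := by
    intro x hx
    have hfx : f x ∈ V₀ := h₀ hx
    have h1 : f x ∈ (⨆ V ∈ 𝒱, (V : S.Opens)) := by rw [h𝒱]; trivial
    simp only [Opens.mem_iSup] at h1
    obtain ⟨V, hV𝒱, hfxV⟩ := h1
    obtain ⟨𝒰, h𝒰, HU⟩ := H V hV𝒱
    have h2 : x ∈ (⨆ U ∈ 𝒰, (U : X.Opens)) := by rw [h𝒰]; exact hfxV
    simp only [Opens.mem_iSup] at h2
    obtain ⟨U, hU𝒰, hxU⟩ := h2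
    have hUV : (U : X.Opens) ≤ f ⁻¹ᵁ (V : S.Opens) := by
      rw [← h𝒰]; exact le_iSup₂ (f := fun (U : X.affineOpens) _ => (U : X.Opens)) U hU𝒰
    have hP : P f F U V hUV := HU U hU𝒰 hUV
    obtain ⟨r₀, r, hrr, hfxr⟩ := exists_basicOpen_le_affine_inter hV₀ V.2 (f x) ⟨hfx, hfxV⟩
    obtain ⟨b₀, b, hbb, hxb⟩ := exists_basicOpen_le_affine_inter hU₀ U.2 x ⟨hx, hxU⟩
    set a := f.appLE V U hUV r with ha
    set a₀ := f.appLE V₀ U₀ h₀ r₀ with ha₀
    have hW : X.basicOpen (a * b) = X.basicOpen (a₀ * b₀) := by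
      rw [X.basicOpen_mul, X.basicOpen_mul, ha, ha₀, Scheme.basicOpen_appLE,
        Scheme.basicOpen_appLE, hbb, hrr]
      have e1 : X.basicOpen b ≤ U := X.basicOpen_le b
      have e2 : X.basicOpen b ≤ U₀ := hbb ▸ X.basicOpen_le b₀
      rw [inf_right_comm, inf_eq_right.mpr e1, inf_right_comm, inf_eq_right.mpr e2]
    have hWr : X.basicOpen (a * b) ≤ f ⁻¹ᵁ (S.basicOpen r) := by
      rw [X.basicOpen_mul, ha, Scheme.basicOpen_appLE]
      exact inf_le_left.trans inf_le_right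
    have hW₀r : X.basicOpen (a₀ * b₀) ≤ f ⁻¹ᵁ (S.basicOpen r₀) := by
      rw [X.basicOpen_mul, ha₀, Scheme.basicOpen_appLE]
      exact inf_le_left.trans inf_le_right
    refine ⟨a₀ * b₀, ?_, ?_⟩
    · rw [X.basicOpen_mul, ha₀, Scheme.basicOpen_appLE]
      exact ⟨⟨hx, hfxr⟩, hxb⟩
    · have s1 := P_basicOpen_source f F U.2 V hUV (a * b) hP
      have s2 := P_basicOpen_base f F (X.basicOpen (a * b)) V.2 r _ hWr s1
      have s3 := P_congr f F hW hrr.symm hWr hW₀r s2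
      exact P_of_basicOpen_base f F (X.basicOpen (a₀ * b₀)) hV₀ r₀ _ hW₀r s3
  choose g hg₁ hg₂ using key
  let g' : U₀ → Γ(X, U₀) := fun x => g x.1 x.2
  have hspan : Ideal.span (Set.range g') = ⊤ := by
    apply ideal_eq_top_of_forall_mem_basicOpen hU₀
    intro x hx
    exact ⟨g' ⟨x, hx⟩, Ideal.subset_span ⟨⟨x, hx⟩, rfl⟩, hg₁ x hx⟩
  exact P_of_span f F hU₀ V₀ h₀ (f.finiteType_appLE hV₀ hU₀ h₀) g' hspan
    (fun x => hg₂ x.1 x.2)

/-- Covering criterion: if `P` holds for enough affine pairs, `F` is relatively finitely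
presented. -/
theorem isRelFP_of_forall (f : X ⟶ S) (F : X.Modules)
    (H : ∀ (U : X.affineOpens) (V : S.affineOpens) (h : (U : X.Opens) ≤ f ⁻¹ᵁ (V : S.Opens)),
      Flatn.RelFPOn f F U V h) : Flatn.IsRelFP f F := by
  refine ⟨Set.univ, ?_, fun V _ => ⟨{U | (U : X.Opens) ≤ f ⁻¹ᵁ (V : S.Opens)}, ?_, ?_⟩⟩
  · rw [eq_top_iff]
    intro s _
    obtain ⟨W, hW, hsW, -⟩ := exists_isAffineOpen_mem_and_subset (x := s) (U := ⊤) trivial
    simp only [Opens.mem_iSup]
    exact ⟨⟨W, hW⟩, trivial, hsW⟩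
  · apply le_antisymm
    · exact iSup₂_le fun U hU => hU
    · intro x hx
      obtain ⟨W, hW, hxW, hWV⟩ := exists_isAffineOpen_mem_and_subset (x := x)
        (U := f ⁻¹ᵁ (V : S.Opens)) hx
      simp only [Opens.mem_iSup]
      exact ⟨⟨W, hW⟩, hWV, hxW⟩
  · intro U _ h
    exact H U V h

theorem s9742 (f : X ⟶ S) [LocallyOfFiniteType f] (F : X.Modules) [Coh.IsQCoh F] :
    Flatn.IsRelFP f F ↔
      ∀ (U : X.affineOpens) (V : S.affineOpens) (h : (U : X.Opens) ≤ f ⁻¹ᵁ (V : S.Opens)),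
        Flatn.RelFPOn f F U V h := by
  haveI : F.IsQuasicoherent := ‹Coh.IsQCoh F›
  exact ⟨fun hF U V h => P_of_isRelFP f F hF U.2 V.2 h, isRelFP_of_forall f F⟩

end Groth.Agent.Lib.Helper26.RelFPScheme
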