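import Groth.Agent.Lib.Helper26.RelFPScheme
import Groth.Agent.Lib.Helper26.RelFPRing2
import Groth.Agent.Lib.Helper29.QCohExt
import Groth.Agent.Lib.Helper29.QCohGen
import Groth.Prelude.Def_CohB1

set_option autoImplicit false
set_option linter.style.haveILetI false
universe u
open CategoryTheory CategoryTheory.Limits AlgebraicGeometry Opposite TopologicalSpace
open Groth.Agent.Lib.Helper29.QCoh

namespace Groth.Agent.Lib.Helper26.RelFPScheme

open Groth.Agent.Lib.Helper26.RelFPRing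

variable {X Y S : Scheme.{u}}

/-- Covering criterion, pointwise form. -/
theorem isRelFP_of_cover (f : X ⟶ S) (F : X.Modules)
    (H : ∀ (V : S.affineOpens) (x : X), x ∈ f ⁻¹ᵁ (V : S.Opens) →
      ∃ (U : X.affineOpens) (h : (U : X.Opens) ≤ f ⁻¹ᵁ (V : S.Opens)),
        x ∈ (U : X.Opens) ∧ P f F U V h) : Flatn.IsRelFP f F := by
  refine ⟨Set.univ, ?_, fun V _ =>
    ⟨{U | ∃ h : (U : X.Opens) ≤ f ⁻¹ᵁ (V : S.Opens), P f F U V h}, ?_, ?_⟩⟩
  · rw [eq_top_iff]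
    intro s _
    obtain ⟨W, hW, hsW, -⟩ := exists_isAffineOpen_mem_and_subset (x := s) (U := ⊤) trivial
    simp only [Opens.mem_iSup]
    exact ⟨⟨W, hW⟩, trivial, hsW⟩
  · apply le_antisymm
    · exact iSup₂_le fun U hU => hU.1
    · intro x hx
      obtain ⟨U, h, hxU, hP⟩ := H V x hx
      simp only [Opens.mem_iSup]
      exact ⟨U, ⟨h, hP⟩, hxU⟩
  · rintro U ⟨h, hP⟩ h'
    exact hP

/-- S9746 -/
theorem s9746 (f : X ⟶ Y) (g : Y ⟶ S) [LocallyOfFiniteType f] [LocallyOfFinitePresentation g]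
    (F : X.Modules) [Coh.IsQCoh F] (hF : Flatn.IsRelFP f F) : Flatn.IsRelFP (f ≫ g) F := by
  haveI : F.IsQuasicoherent := ‹Coh.IsQCoh F›
  apply isRelFP_of_cover
  intro V x hx
  have hfx : f x ∈ g ⁻¹ᵁ (V : S.Opens) := hx
  obtain ⟨W, hW, hfxW, hWV'⟩ := exists_isAffineOpen_mem_and_subset (x := f x)
    (U := g ⁻¹ᵁ (V : S.Opens)) hfx
  have hWV : W ≤ g ⁻¹ᵁ (V : S.Opens) := hWV'
  obtain ⟨U, hU, hxU, hUW'⟩ := exists_isAffineOpen_mem_and_subset (x := x)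
    (U := f ⁻¹ᵁ W) hfxW
  have hUW : U ≤ f ⁻¹ᵁ W := hUW'
  have hUV : U ≤ (f ≫ g) ⁻¹ᵁ (V : S.Opens) := fun y hy => hWV (hUW hy)
  refine ⟨⟨U, hU⟩, hUV, hxU, ?_⟩
  have hP : P f F U W hUW := P_of_isRelFP f F hF hU hW hUW
  -- enlarge the base along the finitely presented `Γ(V) → Γ(W)`
  letI algVW : Algebra Γ(S, (V : S.Opens)) Γ(Y, W) := (g.appLE V W hWV).hom.toAlgebra
  letI algWU : Algebra Γ(Y, W) Γ(X, U) := (f.appLE W U hUW).hom.toAlgebra
  letI algVU : Algebra Γ(S, (V : S.Opens)) Γ(X, U) := ((f ≫ g).appLE V U hUV).hom.toAlgebra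
  haveI : IsScalarTower Γ(S, (V : S.Opens)) Γ(Y, W) Γ(X, U) := by
    apply IsScalarTower.of_algebraMap_eq'
    change ((f ≫ g).appLE V U hUV).hom = (f.appLE W U hUW).hom.comp (g.appLE V W hWV).hom
    rw [← CommRingCat.hom_comp, Scheme.Hom.appLE_comp_appLE]
  haveI : Algebra.FinitePresentation Γ(S, (V : S.Opens)) Γ(Y, W) :=
    g.finitePresentation_appLE V.2 hW hWV
  exact relFP_of_relFP_of_finitePresentation (R := Γ(S, (V : S.Opens))) (R' := Γ(Y, W)) Γ(F, U) hP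

/-- S9747: extensions. -/
theorem s9747 (f : X ⟶ S) [LocallyOfFiniteType f] (E : ShortComplex X.Modules) (hE : E.ShortExact)
    [Coh.IsQCoh E.X₁] [Coh.IsQCoh E.X₂] [Coh.IsQCoh E.X₃] (h₁ : Flatn.IsRelFP f E.X₁)
    (h₃ : Flatn.IsRelFP f E.X₃) : Flatn.IsRelFP f E.X₂ := by
  haveI : E.X₁.IsQuasicoherent := ‹Coh.IsQCoh E.X₁›
  haveI : E.X₂.IsQuasicoherent := ‹Coh.IsQCoh E.X₂›
  haveI : E.X₃.IsQuasicoherent := ‹Coh.IsQCoh E.X₃›
  haveI := hE.mono_f
  haveI := hE.epi_g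
  apply isRelFP_of_forall
  intro U V h
  have hP₁ : P f E.X₁ U V h := P_of_isRelFP f E.X₁ h₁ U.2 V.2 h
  have hP₃ : P f E.X₃ U V h := P_of_isRelFP f E.X₃ h₃ U.2 V.2 h
  letI := (f.appLE (V : S.Opens) (U : X.Opens) h).hom.toAlgebra
  exact relFP_of_exact (appₗ E.f U) (appₗ E.g U)
    ((mono_iff_app_injective E.f).mp inferInstance U)
    (app_surjective_of_epi E.g U.2) (app_exact_of_exact E hE.exact U.2) hP₁ hP₃

/-- S9748: quotients by finite type submodules. -/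
theorem s9748 (f : X ⟶ S) [LocallyOfFiniteType f] (E : ShortComplex X.Modules) (hE : E.ShortExact)
    [Coh.IsQCoh E.X₁] [Coh.IsQCoh E.X₂] [Coh.IsQCoh E.X₃] (h₁ : CohB1.IsFT E.X₁)
    (h₂ : Flatn.IsRelFP f E.X₂) : Flatn.IsRelFP f E.X₃ := by
  haveI : E.X₁.IsQuasicoherent := ‹Coh.IsQCoh E.X₁›
  haveI : E.X₂.IsQuasicoherent := ‹Coh.IsQCoh E.X₂›
  haveI : E.X₃.IsQuasicoherent := ‹Coh.IsQCoh E.X₃›
  haveI : E.X₁.IsFiniteType := h₁
  haveI := hE.mono_f
  haveI := hE.epi_g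
  apply isRelFP_of_forall
  intro U V h
  have hP₂ : P f E.X₂ U V h := P_of_isRelFP f E.X₂ h₂ U.2 V.2 h
  letI := (f.appLE (V : S.Opens) (U : X.Opens) h).hom.toAlgebra
  have hfin : Module.Finite Γ(X, (U : X.Opens)) Γ(E.X₁, (U : X.Opens)) :=
    module_finite_of_isFiniteType E.X₁ U.2
  have hex : Function.Exact (appₗ E.f U) (appₗ E.g U) := app_exact_of_exact E hE.exact U.2
  have hker : (LinearMap.ker (appₗ E.g (U : X.Opens))).FG := by
    rw [LinearMap.exact_iff.mp hex, LinearMap.range_eq_map]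
    exact Submodule.FG.map _ hfin.fg_top
  exact relFP_of_surjective (appₗ E.g U) (app_surjective_of_epi E.g U.2) hker hP₂

/-- retracts -/
theorem isRelFP_of_retract (f : X ⟶ S) [LocallyOfFiniteType f] (G F : X.Modules)
    [G.IsQuasicoherent] (ι : F ⟶ G) (π : G ⟶ F) (hιπ : ι ≫ π = 𝟙 F)
    (h : Flatn.IsRelFP f G) : Flatn.IsRelFP f F := by
  apply isRelFP_of_forall
  intro U V hUV
  have hP : P f G U V hUV := P_of_isRelFP f G h U.2 V.2 hUV
  letI := (f.appLE (V : S.Opens) (U : X.Opens) hUV).hom.toAlgebra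
  refine relFP_of_retract (appₗ π U) (appₗ ι U) (fun x => ?_) hP
  change π.app U (ι.app U x) = x
  have : ι.app U ≫ π.app U = 𝟙 _ := by
    rw [← Scheme.Modules.Hom.comp_app, hιπ]; rfl
  exact congrArg (fun k => k.hom x) this

theorem isQuasicoherent_biprod (F F' : X.Modules) [F.IsQuasicoherent] [F'.IsQuasicoherent] :
    (F ⊞ F').IsQuasicoherent :=
  isQuasicoherent_of_shortExact
    (ShortComplex.mk (biprod.inl : F ⟶ F ⊞ F') (biprod.snd : F ⊞ F' ⟶ F') (by simp))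
    (ShortComplex.Splitting.ofHasBinaryBiproduct F F').shortExact

/-- S9749 -/
theorem s9749 (f : X ⟶ S) [LocallyOfFiniteType f] (F F' : X.Modules) [Coh.IsQCoh F]
    [Coh.IsQCoh F'] (h : Flatn.IsRelFP f (F ⊞ F')) : Flatn.IsRelFP f F ∧ Flatn.IsRelFP f F' := by
  haveI : F.IsQuasicoherent := ‹Coh.IsQCoh F›
  haveI : F'.IsQuasicoherent := ‹Coh.IsQCoh F'›
  haveI := isQuasicoherent_biprod F F'
  exact ⟨isRelFP_of_retract f (F ⊞ F') F biprod.inl biprod.fst (by simp) h,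
    isRelFP_of_retract f (F ⊞ F') F' biprod.inr biprod.snd (by simp) h⟩

end Groth.Agent.Lib.Helper26.RelFPScheme
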