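import Groth.Agent.Lib.Helper26.RelFPScheme2
import Groth.Agent.Lib.Helper29.QCohPush
import Groth.Agent.S6992

set_option autoImplicit false
set_option linter.style.haveILetI false
universe u
open CategoryTheory CategoryTheory.Limits AlgebraicGeometry Opposite TopologicalSpace
open Groth.Agent.Lib.Helper29.QCoh

namespace Groth.Agent.Lib.Helper26.RelFPRing

open Function Groth.Agent.Lib.Helper28

/-- (F) relative finite presentation is insensitive to finite extensions of the algebra. -/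
theorem relFP_finite_iff {R A B : Type u} [CommRing R] [CommRing A] [CommRing B]
    [Algebra R A] [Algebra A B] [Algebra R B] [IsScalarTower R A B] [Algebra.FiniteType R A]
    [Module.Finite A B] (M : Type u) [AddCommGroup M] [Module B M] [Module A M]
    [IsScalarTower A B M] :
    FlatCA.RelFinitePresentation R A M ↔ FlatCA.RelFinitePresentation R B M := by
  haveI : Algebra.FiniteType A B := inferInstance
  haveI : Algebra.FiniteType R B := Algebra.FiniteType.trans ‹Algebra.FiniteType R A› ‹_›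
  obtain ⟨n, α, hα⟩ := Algebra.FiniteType.iff_quotient_mvPolynomial''.mp
    (inferInstance : Algebra.FiniteType R A)
  obtain ⟨k, β, hβ⟩ := Algebra.FiniteType.iff_quotient_mvPolynomial''.mp
    (inferInstance : Algebra.FiniteType R B)
  have key := Groth.Agent.S6992.result M α hα β hβ
  constructor
  · intro h
    exact ⟨k, β, hβ, key.mp (fpVia_of_relFP M α hα h)⟩
  · intro h
    exact ⟨n, α, hα, key.mpr (fpVia_of_relFP M β hβ h)⟩

end Groth.Agent.Lib.Helper26.RelFPRing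

namespace Groth.Agent.Lib.Helper26.RelFPScheme

open Groth.Agent.Lib.Helper26.RelFPRing

variable {X Y S : Scheme.{u}}

noncomputable section

theorem P_pushforward_iff (π : X ⟶ Y) (g : Y ⟶ S) [IsFinite π] [LocallyOfFiniteType g]
    (F : X.Modules) {W : Y.Opens} (hW : IsAffineOpen W) {V : S.Opens} (hV : IsAffineOpen V)
    (hWV : W ≤ g ⁻¹ᵁ V) (hUV : π ⁻¹ᵁ W ≤ (π ≫ g) ⁻¹ᵁ V) :
    P (π ≫ g) F (π ⁻¹ᵁ W) V hUV ↔ P g ((Scheme.Modules.pushforward π).obj F) W V hWV := by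
  letI algVW : Algebra Γ(S, V) Γ(Y, W) := (g.appLE V W hWV).hom.toAlgebra
  letI algWU : Algebra Γ(Y, W) Γ(X, π ⁻¹ᵁ W) := (π.app W).hom.toAlgebra
  letI algVU : Algebra Γ(S, V) Γ(X, π ⁻¹ᵁ W) := ((π ≫ g).appLE V (π ⁻¹ᵁ W) hUV).hom.toAlgebra
  haveI : IsScalarTower Γ(S, V) Γ(Y, W) Γ(X, π ⁻¹ᵁ W) := by
    apply IsScalarTower.of_algebraMap_eq'
    change ((π ≫ g).appLE V (π ⁻¹ᵁ W) hUV).hom = (π.app W).hom.comp (g.appLE V W hWV).hom
    rw [← CommRingCat.hom_comp, Scheme.Hom.app_eq_appLE, Scheme.Hom.appLE_comp_appLE]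
  haveI : Algebra.FiniteType Γ(S, V) Γ(Y, W) := g.finiteType_appLE hV hW hWV
  haveI : Module.Finite Γ(Y, W) Γ(X, π ⁻¹ᵁ W) := π.finite_app W hW
  letI modA : Module Γ(Y, W) Γ(F, π ⁻¹ᵁ W) :=
    inferInstanceAs (Module Γ(Y, W) Γ((Scheme.Modules.pushforward π).obj F, W))
  haveI : IsScalarTower Γ(Y, W) Γ(X, π ⁻¹ᵁ W) Γ(F, π ⁻¹ᵁ W) :=
    IsScalarTower.of_algebraMap_smul fun _ _ => rfl
  exact (relFP_finite_iff (R := Γ(S, V)) (A := Γ(Y, W)) (B := Γ(X, π ⁻¹ᵁ W))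
    Γ(F, π ⁻¹ᵁ W)).symm

/-- S9743 -/
theorem s9743 (π : X ⟶ Y) (g : Y ⟶ S) [IsFinite π] [LocallyOfFiniteType g]
    (F : X.Modules) [Coh.IsQCoh F] :
    Flatn.IsRelFP (π ≫ g) F ↔ Flatn.IsRelFP g ((Coh.push π).obj F) := by
  haveI : F.IsQuasicoherent := ‹Coh.IsQCoh F›
  haveI := isQuasicoherent_pushforward_of_isAffineHom π F
  constructor
  · intro h
    apply isRelFP_of_forall
    intro W V hWV
    have hUV : π ⁻¹ᵁ (W : Y.Opens) ≤ (π ≫ g) ⁻¹ᵁ (V : S.Opens) := fun y hy => hWV hy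
    have hP := P_of_isRelFP (π ≫ g) F h (W.2.preimage π) V.2 hUV
    exact (P_pushforward_iff π g F W.2 V.2 hWV hUV).mp hP
  · intro h
    apply isRelFP_of_cover
    intro V x hx
    have hfx : π x ∈ g ⁻¹ᵁ (V : S.Opens) := hx
    obtain ⟨W, hW, hfxW, hWV'⟩ := exists_isAffineOpen_mem_and_subset (x := π x)
      (U := g ⁻¹ᵁ (V : S.Opens)) hfx
    have hWV : W ≤ g ⁻¹ᵁ (V : S.Opens) := hWV'
    have hUV : π ⁻¹ᵁ W ≤ (π ≫ g) ⁻¹ᵁ (V : S.Opens) := fun y hy => hWV hy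
    refine ⟨⟨π ⁻¹ᵁ W, hW.preimage π⟩, hUV, hfxW, ?_⟩
    have hP := P_of_isRelFP g ((Scheme.Modules.pushforward π).obj F) h hW V.2 hWV
    exact (P_pushforward_iff π g F hW V.2 hWV hUV).mpr hP

end

end Groth.Agent.Lib.Helper26.RelFPScheme
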