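import Groth.Agent.Lib.Helper26.RelFPScheme2
import Groth.Agent.Lib.Helper26.RelFPRing3
import Groth.Agent.Lib.Helper29.QCohPullback

set_option autoImplicit false
set_option linter.style.haveILetI false
universe u
open CategoryTheory CategoryTheory.Limits AlgebraicGeometry Opposite TopologicalSpace
open Groth.Agent.Lib.Helper29.QCoh
open scoped TensorProduct

namespace Groth.Agent.Lib.Helper26.RelFPScheme

open Groth.Agent.Lib.Helper26.RelFPRing

variable {X Y S : Scheme.{u}}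

/-- S9745 -/
theorem s9745 (f : X ⟶ Y) (g : Y ⟶ S) [LocallyOfFinitePresentation f] [LocallyOfFiniteType g]
    (G : Y.Modules) [Coh.IsQCoh G] (hG : Flatn.IsRelFP g G) :
    Flatn.IsRelFP (f ≫ g) ((Scheme.Modules.pullback f).obj G) := by
  haveI : G.IsQuasicoherent := ‹Coh.IsQCoh G›
  apply isRelFP_of_cover
  intro V x hx
  have hfx : f x ∈ g ⁻¹ᵁ (V : S.Opens) := hx
  obtain ⟨W, hW, hfxW, hWV'⟩ := exists_isAffineOpen_mem_and_subset (x := f x)
    (U := g ⁻¹ᵁ (V : S.Opens)) hfx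
  have hWV : W ≤ g ⁻¹ᵁ (V : S.Opens) := hWV'
  obtain ⟨U, hU, hxU, hUW'⟩ := exists_isAffineOpen_mem_and_subset (x := x)
    (U := f ⁻¹ᵁ W) hfxW
  have hUW : U ≤ f ⁻¹ᵁ W := hUW'
  have hUV : U ≤ (f ≫ g) ⁻¹ᵁ (V : S.Opens) := fun y hy => hWV (hUW hy)
  refine ⟨⟨U, hU⟩, hUV, hxU, ?_⟩
  have hP : P g G W V hWV := P_of_isRelFP g G hG hW V.2 hWV
  letI algVW : Algebra Γ(S, (V : S.Opens)) Γ(Y, W) := (g.appLE V W hWV).hom.toAlgebra
  letI algWU : Algebra Γ(Y, W) Γ(X, U) := (f.appLE W U hUW).hom.toAlgebra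
  letI algVU : Algebra Γ(S, (V : S.Opens)) Γ(X, U) := ((f ≫ g).appLE V U hUV).hom.toAlgebra
  haveI : IsScalarTower Γ(S, (V : S.Opens)) Γ(Y, W) Γ(X, U) := by
    apply IsScalarTower.of_algebraMap_eq'
    change ((f ≫ g).appLE V U hUV).hom = (f.appLE W U hUW).hom.comp (g.appLE V W hWV).hom
    rw [← CommRingCat.hom_comp, Scheme.Hom.appLE_comp_appLE]
  haveI : Algebra.FinitePresentation Γ(Y, W) Γ(X, U) := f.finitePresentation_appLE hW hU hUW
  have h1 : FlatCA.RelFinitePresentation Γ(S, (V : S.Opens)) Γ(X, U)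
      (Γ(X, U) ⊗[Γ(Y, W)] Γ(G, W)) :=
    relFP_tensor_of_finitePresentation (R := Γ(S, (V : S.Opens))) (A := Γ(Y, W))
      (B := Γ(X, U)) Γ(G, W) hP
  exact relFP_of_linearEquiv (pullbackSectionsEquiv f G hU hW hUW).symm h1

end Groth.Agent.Lib.Helper26.RelFPScheme
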