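import Groth.Agent.Lib.Helper26.RelFPScheme4

set_option autoImplicit false
set_option linter.style.haveILetI false
universe u
open CategoryTheory CategoryTheory.Limits AlgebraicGeometry Opposite TopologicalSpace
open Groth.Agent.Lib.Helper29.QCoh
open scoped TensorProduct

namespace Groth.Agent.Lib.Helper26.RelFPRing

open Function Groth.Agent.Lib.Helper28

/-- (BC) base change of relative finite presentation. -/
theorem relFP_baseChange {R A R' A' : Type u} [CommRing R] [CommRing A] [CommRing R']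
    [CommRing A'] [Algebra R A] [Algebra R R'] [Algebra A A'] [Algebra R' A'] [Algebra R A']
    [IsScalarTower R A A'] [IsScalarTower R R' A'] [Algebra.IsPushout R A R' A'] (M : Type u)
    [AddCommGroup M] [Module A M] (h : FlatCA.RelFinitePresentation R A M) :
    FlatCA.RelFinitePresentation R' A' (A' ⊗[A] M) := by
  obtain ⟨n, α, hα, hM⟩ := h
  exact ⟨n, Groth.Agent.Lib.Helper21.baseChangePres (R' := R') (A' := A') α,
    Groth.Agent.Lib.Helper21.baseChangePres_surjective α hα,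
    Groth.Agent.Lib.Helper21.fpVia_baseChangePres M α hM⟩

end Groth.Agent.Lib.Helper26.RelFPRing

namespace Groth.Agent.Lib.Helper26.RelFPScheme

open Groth.Agent.Lib.Helper26.RelFPRing

variable {X S X' S' : Scheme.{u}}

/-- chart-level base change -/
theorem P_baseChange (f : X ⟶ S) (F : X.Modules) [F.IsQuasicoherent] (g : S' ⟶ S) (f' : X' ⟶ S')
    (g' : X' ⟶ X) (hc : IsPullback g' f' f g) {V : S.Opens} (hV : IsAffineOpen V)
    {V'' : S'.Opens} (hV'' : IsAffineOpen V'') {U : X.Opens} (hU : IsAffineOpen U)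
    (hVV : V'' ≤ g ⁻¹ᵁ V) (hUV : U ≤ f ⁻¹ᵁ V) (hP : P f F U V hUV)
    (hU'V'' : g' ⁻¹ᵁ U ⊓ f' ⁻¹ᵁ V'' ≤ f' ⁻¹ᵁ V'') :
    IsAffineOpen (g' ⁻¹ᵁ U ⊓ f' ⁻¹ᵁ V'') ∧
      P f' ((Scheme.Modules.pullback g').obj F) (g' ⁻¹ᵁ U ⊓ f' ⁻¹ᵁ V'') V'' hU'V'' := by
  set U' := g' ⁻¹ᵁ U ⊓ f' ⁻¹ᵁ V'' with hU'def
  have hU'U : U' ≤ g' ⁻¹ᵁ U := inf_le_left
  have hiso := isIso_pushoutSection_of_isAffineOpen hc hVV hUV hU'def hV hV'' hU
  have hpo := (isIso_pushoutSection_iff hc hVV hUV hU'def).mp hiso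
  have hU' : IsAffineOpen U' := by
    have : IsAffine V.toScheme := hV
    have : IsAffine V''.toScheme := hV''
    have : IsAffine U.toScheme := hU
    exact .of_isIso (Scheme.Hom.isPullback_resLE hc hVV hUV hU'def).isoPullback.hom
  refine ⟨hU', ?_⟩
  letI algRA : Algebra Γ(S, V) Γ(X, U) := (f.appLE V U hUV).hom.toAlgebra
  letI algRR' : Algebra Γ(S, V) Γ(S', V'') := (g.appLE V V'' hVV).hom.toAlgebra
  letI algAA' : Algebra Γ(X, U) Γ(X', U') := (g'.appLE U U' hU'U).hom.toAlgebra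
  letI algR'A' : Algebra Γ(S', V'') Γ(X', U') := (f'.appLE V'' U' hU'V'').hom.toAlgebra
  letI algRA' : Algebra Γ(S, V) Γ(X', U') :=
    ((g'.appLE U U' hU'U).hom.comp (f.appLE V U hUV).hom).toAlgebra
  haveI : IsScalarTower Γ(S, V) Γ(X, U) Γ(X', U') := IsScalarTower.of_algebraMap_eq' rfl
  haveI : IsScalarTower Γ(S, V) Γ(S', V'') Γ(X', U') := by
    apply IsScalarTower.of_algebraMap_eq'
    change (g'.appLE U U' hU'U).hom.comp (f.appLE V U hUV).hom =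
      (f'.appLE V'' U' hU'V'').hom.comp (g.appLE V V'' hVV).hom
    rw [← CommRingCat.hom_comp, ← CommRingCat.hom_comp]
    exact congrArg CommRingCat.Hom.hom hpo.w
  haveI : Algebra.IsPushout Γ(S, V) Γ(X, U) Γ(S', V'') Γ(X', U') :=
    CommRingCat.isPushout_iff_isPushout.mp hpo
  have h1 : FlatCA.RelFinitePresentation Γ(S', V'') Γ(X', U') (Γ(X', U') ⊗[Γ(X, U)] Γ(F, U)) :=
    relFP_baseChange (R := Γ(S, V)) (A := Γ(X, U)) (R' := Γ(S', V'')) (A' := Γ(X', U'))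
      Γ(F, U) hP
  exact relFP_of_linearEquiv (pullbackSectionsEquiv g' F hU' hU hU'U).symm h1

/-- S9744 -/
theorem s9744 (f : X ⟶ S) [LocallyOfFiniteType f] (F : X.Modules) [Coh.IsQCoh F]
    (g : S' ⟶ S) (f' : X' ⟶ S') (g' : X' ⟶ X) (hc : IsPullback g' f' f g)
    (hF : Flatn.IsRelFP f F) : Flatn.IsRelFP f' ((Scheme.Modules.pullback g').obj F) := by
  haveI : F.IsQuasicoherent := ‹Coh.IsQCoh F›
  apply isRelFP_of_cover
  intro V' x' hx'
  have hs' : f' x' ∈ (V' : S'.Opens) := hx'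
  have hcomm : f (g' x') = g (f' x') := by
    have := congrArg (fun k : X' ⟶ S => k x') hc.w
    simpa using this
  obtain ⟨V, hV, hsV, -⟩ := exists_isAffineOpen_mem_and_subset (x := g (f' x')) (U := ⊤) trivial
  have hxV : g' x' ∈ f ⁻¹ᵁ V := by
    change f (g' x') ∈ V
    rw [hcomm]; exact hsV
  obtain ⟨U, hU, hxU, hUV'⟩ := exists_isAffineOpen_mem_and_subset (x := g' x')
    (U := f ⁻¹ᵁ V) hxV
  have hUV : U ≤ f ⁻¹ᵁ V := hUV'
  obtain ⟨r, hr, hs'r⟩ := V'.2.exists_basicOpen_le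
    (V := (V' : S'.Opens) ⊓ g ⁻¹ᵁ V) ⟨f' x', ⟨hs', hsV⟩⟩ hs'
  have hVV : S'.basicOpen r ≤ g ⁻¹ᵁ V := hr.trans inf_le_right
  have hV'' : IsAffineOpen (S'.basicOpen r) := V'.2.basicOpen r
  have hU'V'' : g' ⁻¹ᵁ U ⊓ f' ⁻¹ᵁ (S'.basicOpen r) ≤ f' ⁻¹ᵁ (S'.basicOpen r) := inf_le_right
  have hP : P f F U V hUV := P_of_isRelFP f F hF hU hV hUV
  obtain ⟨hU', hP'⟩ := P_baseChange f F g f' g' hc hV hV'' hU hVV hUV hP hU'V''
  have hU'V' : g' ⁻¹ᵁ U ⊓ f' ⁻¹ᵁ (S'.basicOpen r) ≤ f' ⁻¹ᵁ (V' : S'.Opens) :=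
    hU'V''.trans (fun y hy => (S'.basicOpen_le r) hy)
  refine ⟨⟨_, hU'⟩, hU'V', ⟨hxU, hs'r⟩, ?_⟩
  exact P_of_basicOpen_base f' _ _ V'.2 r hU'V' hU'V'' hP'

end Groth.Agent.Lib.Helper26.RelFPScheme
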