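import Mathlib

set_option autoImplicit false
set_option backward.isDefEq.respectTransparency.types false
universe u v
open AlgebraicGeometry CategoryTheory CategoryTheory.Limits Topology

namespace Groth.Agent.Lib.Helper26.ResExt

section Alg

variable {A κ ℓ : Type u} [CommRing A] [Field κ] [Field ℓ] [Algebra κ ℓ] (ev : A →+* κ)
  (hev : ∀ c : κ, ∃ a b : A, ev b ≠ 0 ∧ ev b * c = ev a)

include hev in
theorem exists_clear (n : ℕ) (P : MvPolynomial (Fin n) κ) :
    ∃ (R : MvPolynomial (Fin n) A) (b : A), ev b ≠ 0 ∧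
      MvPolynomial.C (ev b) * P = MvPolynomial.map ev R := by
  induction P using MvPolynomial.induction_on with
  | C c =>
    obtain ⟨a, b, hb, hab⟩ := hev c
    refine ⟨MvPolynomial.C a, b, hb, ?_⟩
    rw [← MvPolynomial.C_mul, hab, MvPolynomial.map_C]
  | add P Q hP hQ =>
    obtain ⟨R1, b1, hb1, h1⟩ := hP
    obtain ⟨R2, b2, hb2, h2⟩ := hQ
    refine ⟨MvPolynomial.C b2 * R1 + MvPolynomial.C b1 * R2, b1 * b2, ?_, ?_⟩
    · rw [map_mul]; exact mul_ne_zero hb1 hb2
    · have e1 : MvPolynomial.map ev (MvPolynomial.C b2 * R1 + MvPolynomial.C b1 * R2) =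
          MvPolynomial.C (ev b2) * MvPolynomial.map ev R1 +
            MvPolynomial.C (ev b1) * MvPolynomial.map ev R2 := by
        simp only [map_add, map_mul, MvPolynomial.map_C]
      rw [e1, ← h1, ← h2, map_mul, MvPolynomial.C_mul]
      ring
  | mul_X P i hP =>
    obtain ⟨R, b, hb, h⟩ := hP
    refine ⟨R * MvPolynomial.X i, b, hb, ?_⟩
    rw [map_mul, MvPolynomial.map_X, ← h]
    ring

include hev in
theorem surjectiveOnStalks_eval (n : ℕ) (α : Fin n → ℓ)
    (hα : Function.Surjective (MvPolynomial.aeval α : MvPolynomial (Fin n) κ →ₐ[κ] ℓ)) :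
    (MvPolynomial.eval₂Hom ((algebraMap κ ℓ).comp ev) α).SurjectiveOnStalks := by
  apply RingHom.surjectiveOnStalks_of_exists_div
  intro y
  obtain ⟨P, rfl⟩ := hα y
  obtain ⟨R, b, hb, h⟩ := exists_clear ev hev n P
  have hcomp : ∀ R : MvPolynomial (Fin n) A,
      MvPolynomial.eval₂Hom ((algebraMap κ ℓ).comp ev) α R =
        MvPolynomial.aeval α (MvPolynomial.map ev R) := by
    intro R
    rw [MvPolynomial.aeval_def, MvPolynomial.eval₂_map]
    rfl
  refine ⟨R, MvPolynomial.C b, ?_, ?_⟩
  · rw [MvPolynomial.coe_eval₂Hom, MvPolynomial.eval₂_C]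
    exact (isUnit_iff_ne_zero.mpr (by simpa using hb))
  · rw [hcomp R, ← h, map_mul, MvPolynomial.aeval_C, MvPolynomial.coe_eval₂Hom,
      MvPolynomial.eval₂_C]
    rfl

end Alg

theorem main_14678 (S : Scheme.{u}) (s : ↥S)
    (ℓ : Type u) [Field ℓ] [Algebra (S.residueField s) ℓ] [Module.Finite (S.residueField s) ℓ] :
    ∃ (U' : Scheme.{u}) (b : U' ⟶ S) (t : Spec (CommRingCat.of ℓ) ⟶ U'),
      IsAffine U' ∧ Flat b ∧ LocallyOfFinitePresentation b ∧ IsPreimmersion t ∧
        t ≫ b = Spec.map (CommRingCat.ofHom (algebraMap (S.residueField s) ℓ)) ≫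
          S.fromSpecResidueField s := by
  obtain ⟨_, ⟨U, hU, rfl⟩, hsU, -⟩ :=
    S.isBasis_affineOpens.exists_subset_of_mem_open (Set.mem_univ s) isOpen_univ
  have hU' : IsAffineOpen U := hU
  let ev : Γ(S, U) →+* S.residueField s := (S.presheaf.germ U s hsU ≫ S.residue s).hom
  have hev : ∀ c : S.residueField s, ∃ a b : Γ(S, U), ev b ≠ 0 ∧ ev b * c = ev a := by
    intro c
    obtain ⟨σ, rfl⟩ := S.residue_surjective s c
    letI := TopCat.Presheaf.algebra_section_stalk S.presheaf ⟨s, hsU⟩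
    haveI := hU'.isLocalization_stalk ⟨s, hsU⟩
    obtain ⟨a, b, rfl⟩ := IsLocalization.exists_mk'_eq
      (hU'.primeIdealOf ⟨s, hsU⟩).asIdeal.primeCompl σ
    have h1 := IsLocalization.mk'_spec (S.presheaf.stalk s) a b
    have h2 : IsUnit (algebraMap Γ(S, U) (S.presheaf.stalk s) b) :=
      IsLocalization.map_units (S.presheaf.stalk s) b
    refine ⟨a, b, ?_, ?_⟩
    · exact (h2.map (S.residue s).hom).ne_zero
    · have h3 := congrArg (S.residue s).hom h1
      rw [map_mul] at h3
      rw [mul_comm]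
      exact h3
  haveI : Algebra.FiniteType (S.residueField s) ℓ := inferInstance
  obtain ⟨n, f, hf⟩ := Algebra.FiniteType.iff_quotient_mvPolynomial''.mp
    ‹Algebra.FiniteType (S.residueField s) ℓ›
  let α : Fin n → ℓ := fun i => f (MvPolynomial.X i)
  have hα : Function.Surjective
      (MvPolynomial.aeval α : MvPolynomial (Fin n) (S.residueField s) →ₐ[S.residueField s] ℓ) := by
    have : (MvPolynomial.aeval α : MvPolynomial (Fin n) (S.residueField s) →ₐ[_] ℓ) = f := by
      apply MvPolynomial.algHom_ext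
      intro i
      simp [α]
    rw [this]
    exact hf
  let φ : MvPolynomial (Fin n) Γ(S, U) →+* ℓ :=
    MvPolynomial.eval₂Hom ((algebraMap (S.residueField s) ℓ).comp ev) α
  have hφ : φ.SurjectiveOnStalks := surjectiveOnStalks_eval ev hev n α hα
  refine ⟨Spec (CommRingCat.of (MvPolynomial (Fin n) Γ(S, U))),
    Spec.map (CommRingCat.ofHom (algebraMap Γ(S, U) (MvPolynomial (Fin n) Γ(S, U)))) ≫
      hU'.fromSpec, Spec.map (CommRingCat.ofHom φ), inferInstance, ?_, ?_, ?_, ?_⟩
  · haveI : Flat (Spec.map (CommRingCat.ofHom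
        (algebraMap Γ(S, U) (MvPolynomial (Fin n) Γ(S, U))))) := by
      rw [HasRingHomProperty.Spec_iff (P := @Flat)]
      exact (RingHom.flat_algebraMap_iff).mpr inferInstance
    infer_instance
  · haveI : LocallyOfFinitePresentation (Spec.map (CommRingCat.ofHom
        (algebraMap Γ(S, U) (MvPolynomial (Fin n) Γ(S, U))))) := by
      rw [HasRingHomProperty.Spec_iff (P := @LocallyOfFinitePresentation)]
      exact (RingHom.finitePresentation_algebraMap).mpr inferInstance
    infer_instance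
  · refine IsPreimmersion.mk_SpecMap ?_ hφ
    haveI : Subsingleton (PrimeSpectrum ℓ) := inferInstance
    exact Topology.IsEmbedding.of_subsingleton _
  · rw [← Category.assoc, ← Spec.map_comp]
    have h1 : CommRingCat.ofHom (algebraMap Γ(S, U) (MvPolynomial (Fin n) Γ(S, U))) ≫
        CommRingCat.ofHom φ = (S.presheaf.germ U s hsU ≫ S.residue s) ≫
          CommRingCat.ofHom (algebraMap (S.residueField s) ℓ) := by
      ext a
      change φ (algebraMap _ _ a) = algebraMap _ ℓ (ev a)
      rw [MvPolynomial.algebraMap_eq]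
      simp [φ]
    rw [h1, Spec.map_comp, Spec.map_comp, Category.assoc, Category.assoc]
    congr 1
    have h2 : Spec.map (S.presheaf.germ U s hsU) ≫ hU'.fromSpec = S.fromSpecStalk s :=
      hU'.fromSpecStalk_eq_fromSpecStalk hsU
    rw [h2]
    rfl

end Groth.Agent.Lib.Helper26.ResExt
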