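import Groth.Agent.Lib.Helper26.RigF
import Groth.Agent.Lib.Helper26.GammaK
import Groth.Agent.Lib.Helper21.PropH0

set_option autoImplicit false
set_option backward.isDefEq.respectTransparency.types false
set_option maxHeartbeats 1000000
set_option synthInstance.maxHeartbeats 200000

universe u
open CategoryTheory CategoryTheory.Limits Opposite TopologicalSpace AlgebraicGeometry IsLocalRing
open MonoidalCategory CartesianMonoidalCategory

namespace Groth.Agent.Lib.Helper26.RigH

open Groth.Agent.Lib.Helper26

theorem geometricallyConnected_of_geometricallyIrreducible {X Y : Scheme.{u}} (f : X ⟶ Y)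
    [GeometricallyIrreducible f] : GeometricallyConnected f := by
  refine ⟨fun K _ y Z fst snd h => ?_⟩
  have : IrreducibleSpace Z :=
    GeometricallyIrreducible.geometrically_irreducibleSpace (f := f) y fst snd h
  show ConnectedSpace Z
  infer_instance

/-- the fibre hypothesis over a field, from `Γ(X, O_X) = k`. -/
theorem hfib_of_field (k : Type u) [Field k] (X : Scheme.{u}) (f : X ⟶ Spec (CommRingCat.of k))
    [QuasiCompact f] [QuasiSeparated f]
    (hΓ : Function.Bijective ((Scheme.ΓSpecIso (CommRingCat.of k)).inv ≫ f.appTop).hom) :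
    RigD.HFib f := by
  intro K _ y
  haveI := GammaK.isIso_app_of_isAffineOpen k X f hΓ (Spec (CommRingCat.of K)) y ⊤
    (isAffineOpen_top _)
  haveI : IsIso (pullback.snd f y).appTop := ‹IsIso ((pullback.snd f y).app ⊤)›
  exact ConcreteCategory.bijective_of_isIso _

theorem main (k : Type u) [Field k]
    (X Y Z : Over (Spec (CommRingCat.of k)))
    [IsProper X.hom] [GeometricallyIntegral X.hom]
    [LocallyOfFiniteType Y.hom] [QuasiCompact Y.hom] [GeometricallyIntegral Y.hom]
    [IsSeparated Z.hom] (f : X ⊗ Y ⟶ Z)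
    (K : Type u) [Field K] [Algebra k K]
    (y₀ : (Over.mk (Spec.map (CommRingCat.ofHom (algebraMap k K))) :
      Over (Spec (CommRingCat.of k))) ⟶ Y)
    (z₀ : (Over.mk (Spec.map (CommRingCat.ofHom (algebraMap k K))) :
      Over (Spec (CommRingCat.of k))) ⟶ Z)
    (h : (X ◁ y₀) ≫ f = snd X _ ≫ z₀) :
    ∃! g : Y ⟶ Z, f = snd X Y ≫ g := by
  haveI : Subsingleton ↥(Spec (CommRingCat.of k)) :=
    inferInstanceAs (Subsingleton (PrimeSpectrum k))
  haveI : Flat X.hom := inferInstance
  haveI : GeometricallyConnected X.hom := geometricallyConnected_of_geometricallyIrreducible X.hom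
  have hΓ := Groth.Agent.Lib.Helper21.PropH0.bijective_toGlobal_of_proper k X.left X.hom
  have HF : RigD.HFib X.hom := hfib_of_field k X.left X.hom hΓ
  haveI : IsLocallyNoetherian Y.left := LocallyOfFiniteType.isLocallyNoetherian Y.hom
  haveI : IrreducibleSpace ↥Y.left := GeometricallyIrreducible.irreducibleSpace_of_subsingleton Y.hom
  let sndL : pullback X.hom Y.hom ⟶ Y.left := pullback.snd X.hom Y.hom
  have HF' := RigF.hfib_snd X.hom Y.hom HF
  have hπ : f.left ≫ Z.hom = sndL ≫ Y.hom := by
    rw [Over.w f]
    exact (pullback.condition (f := X.hom) (g := Y.hom))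
  let SK : Over (Spec (CommRingCat.of k)) :=
    Over.mk (Spec.map (CommRingCat.ofHom (algebraMap k K)))
  let pt : ↥(Spec (CommRingCat.of K)) := default
  -- cartesian square
  have hsq : IsPullback (X ◁ y₀).left (pullback.snd X.hom SK.hom) sndL y₀.left := by
    have hr : IsPullback (pullback.fst X.hom Y.hom) sndL X.hom Y.hom :=
      IsPullback.of_hasPullback X.hom Y.hom
    have h1 : (X ◁ y₀).left ≫ pullback.fst X.hom Y.hom = pullback.fst X.hom SK.hom := by
      have h' : ((X ◁ y₀) ≫ fst X Y).left = (fst X SK).left := by rw [whiskerLeft_fst]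
      exact h'
    have h3 : (X ◁ y₀).left ≫ sndL = pullback.snd X.hom SK.hom ≫ y₀.left := by
      have h' : ((X ◁ y₀) ≫ snd X Y).left = (snd X SK ≫ y₀).left := by rw [whiskerLeft_snd]
      exact h'
    have ho : IsPullback ((X ◁ y₀).left ≫ pullback.fst X.hom Y.hom) (pullback.snd X.hom SK.hom)
        X.hom (y₀.left ≫ Y.hom) := by
      rw [h1, Over.w y₀]
      exact IsPullback.of_hasPullback X.hom SK.hom
    exact IsPullback.of_right ho h3 hr
  have hgood : RigD.Good sndL f.left (y₀.left.base pt) := by
    have key : ∀ z : ↥(pullback X.hom Y.hom), sndL.base z = y₀.left.base pt →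
        f.left.base z = z₀.left.base pt := by
      intro z hz
      obtain ⟨w, hw, -⟩ := Scheme.Pullback.exists_preimage_pullback (f := sndL) (g := y₀.left) z
        pt hz
      let x : ↥(pullback X.hom SK.hom) := hsq.isoPullback.inv.base w
      have hx : (X ◁ y₀).left.base x = z := by
        rw [← hw, ← RigD.comp_base_apply', IsPullback.isoPullback_inv_fst]
      have h5 := congrArg (fun m => m.left) h
      simp only [Over.comp_left] at h5
      rw [← hx, ← RigD.comp_base_apply', h5, RigD.comp_base_apply']
      congr 1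
      haveI : Subsingleton ↥(Spec (CommRingCat.of K)) :=
        inferInstanceAs (Subsingleton (PrimeSpectrum K))
      exact Subsingleton.elim (α := ↥(Spec (CommRingCat.of K))) _ _
    intro z₁ z₂ h₁ h₂
    rw [key z₁ h₁, key z₂ h₂]
  have hall := RigF.all_good_of_connected sndL HF' f.left Z.hom Y.hom hπ _ hgood
  obtain ⟨σ, hσ1, hσ2⟩ := RigF.main_of_good sndL HF' f.left Z.hom Y.hom hπ hall
  haveI : Surjective sndL := ⟨RigD.surjective_of_HFib sndL HF'⟩
  haveI : Epi sndL := inferInstance
  refine ⟨Over.homMk σ hσ2, ?_, ?_⟩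
  · ext
    exact hσ1.symm
  · intro g' hg'
    ext
    have h6 := congrArg (fun m => m.left) hg'
    simp only [Over.comp_left] at h6
    rw [← cancel_epi sndL]
    change sndL ≫ g'.left = sndL ≫ σ
    rw [hσ1]
    exact h6.symm

end Groth.Agent.Lib.Helper26.RigH
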