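import Groth.Agent.Lib.Helper26.ArtC
import Groth.Agent.Lib.Helper26.RigD

set_option autoImplicit false
set_option backward.isDefEq.respectTransparency.types false
set_option maxHeartbeats 1000000
set_option synthInstance.maxHeartbeats 200000
set_option linter.unusedSectionVars false
set_option linter.unusedVariables false
set_option linter.style.haveILetI false

universe u
open CategoryTheory CategoryTheory.Limits Opposite TopologicalSpace AlgebraicGeometry IsLocalRing

namespace Groth.Agent.Lib.Helper26.RigS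

open Groth.Agent.Lib.Helper26

section alg

variable (R : Type u) [CommRing R] [IsLocalRing R]

instance nontrivial_quot (k : ℕ) : Nontrivial (R ⧸ (maximalIdeal R) ^ (k + 1)) := by
  apply Ideal.Quotient.nontrivial_iff.mpr
  intro h
  have h1 : (maximalIdeal R) ^ (k + 1) ≤ maximalIdeal R := Ideal.pow_le_self (by omega)
  rw [h] at h1
  exact (Ideal.IsPrime.ne_top inferInstance) (top_le_iff.mp h1)

instance isLocalRing_quot (k : ℕ) : IsLocalRing (R ⧸ (maximalIdeal R) ^ (k + 1)) :=
  IsLocalRing.of_surjective' (Ideal.Quotient.mk _) Ideal.Quotient.mk_surjective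

lemma maximalIdeal_quot_le (k : ℕ) :
    maximalIdeal (R ⧸ (maximalIdeal R) ^ (k + 1)) ≤
      Ideal.map (Ideal.Quotient.mk ((maximalIdeal R) ^ (k + 1))) (maximalIdeal R) := by
  intro x hx
  obtain ⟨r, rfl⟩ := Ideal.Quotient.mk_surjective x
  apply Ideal.mem_map_of_mem
  by_contra hr
  have hu : IsUnit r := by
    by_contra hnu
    exact hr ((IsLocalRing.mem_maximalIdeal _).mpr hnu)
  exact ((IsLocalRing.mem_maximalIdeal _).mp hx) (hu.map _)

lemma maximalIdeal_quot_pow (k : ℕ) :
    (maximalIdeal (R ⧸ (maximalIdeal R) ^ (k + 1))) ^ (k + 1) = ⊥ := by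
  rw [eq_bot_iff]
  refine (Ideal.pow_right_mono (maximalIdeal_quot_le R k) (k + 1)).trans ?_
  rw [← Ideal.map_pow, Ideal.map_quotient_self]

instance isArtinianRing_quot [IsNoetherianRing R] (k : ℕ) :
    IsArtinianRing (R ⧸ (maximalIdeal R) ^ (k + 1)) := by
  rw [isArtinianRing_iff_isNilpotent_maximalIdeal]
  exact ⟨k + 1, maximalIdeal_quot_pow R k⟩

/-- every prime of `R/m^{k+1}` is the closed point -/
lemma eq_closedPoint_quot (k : ℕ) (y : PrimeSpectrum (R ⧸ (maximalIdeal R) ^ (k + 1))) :
    y = closedPoint (R ⧸ (maximalIdeal R) ^ (k + 1)) := by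
  apply PrimeSpectrum.ext
  change y.asIdeal = maximalIdeal _
  apply le_antisymm
  · exact IsLocalRing.le_maximalIdeal (Ideal.IsPrime.ne_top inferInstance)
  · intro x hx
    have h1 : x ^ (k + 1) ∈ (maximalIdeal (R ⧸ (maximalIdeal R) ^ (k + 1))) ^ (k + 1) :=
      Ideal.pow_mem_pow hx _
    rw [maximalIdeal_quot_pow] at h1
    have h2 : x ^ (k + 1) = 0 := h1
    have h3 : x ^ (k + 1) ∈ y.asIdeal := by rw [h2]; exact zero_mem _
    exact Ideal.IsPrime.mem_of_pow_mem inferInstance _ h3

/-- the quotient map to the residue field -/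
noncomputable def toRes (k : ℕ) : (R ⧸ (maximalIdeal R) ^ (k + 1)) →+* ResidueField R :=
  Ideal.Quotient.factor (Ideal.pow_le_self (by omega))

lemma toRes_mk (k : ℕ) (r : R) : toRes R k (Ideal.Quotient.mk _ r) = residue R r := rfl

lemma toRes_surjective (k : ℕ) : Function.Surjective (toRes R k) := by
  intro x
  obtain ⟨r, rfl⟩ := IsLocalRing.residue_surjective x
  exact ⟨Ideal.Quotient.mk _ r, rfl⟩

end alg

section geo

variable {X T Z : Scheme.{u}}

/-- the fibre hypothesis at residue fields only -/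
def HRes (f : X ⟶ T) : Prop :=
  ∀ t : T, Function.Bijective (pullback.snd f (T.fromSpecResidueField t)).appTop.hom

theorem surjective_of_HRes (f : X ⟶ T) (HR : HRes f) : Function.Surjective f.base := by
  intro t
  have h1 := HR t
  have h2 : Function.Bijective ((Scheme.ΓSpecIso (T.residueField t)).inv ≫
      (pullback.snd f (T.fromSpecResidueField t)).appTop).hom :=
    h1.comp (ConcreteCategory.bijective_of_isIso (Scheme.ΓSpecIso (T.residueField t)).inv)
  haveI : Nontrivial ↑Γ(pullback f (T.fromSpecResidueField t), ⊤) := h2.1.nontrivial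
  have hne : Nonempty ↥(pullback f (T.fromSpecResidueField t)) := by
    by_contra hc
    rw [not_nonempty_iff] at hc
    exact not_subsingleton ↑Γ(pullback f (T.fromSpecResidueField t), ⊤) inferInstance
  obtain ⟨x'⟩ := hne
  refine ⟨(pullback.fst f (T.fromSpecResidueField t)).base x', ?_⟩
  rw [← RigD.comp_base_apply', pullback.condition, RigD.comp_base_apply']
  exact Scheme.fromSpecResidueField_apply t _

/-- the `k`-th infinitesimal neighbourhood of `t` -/
noncomputable def τk (t : T) (k : ℕ) :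
    Spec (CommRingCat.of (T.presheaf.stalk t ⧸ (maximalIdeal (T.presheaf.stalk t)) ^ (k + 1))) ⟶ T :=
  Spec.map (CommRingCat.ofHom (Ideal.Quotient.mk ((maximalIdeal (T.presheaf.stalk t)) ^ (k + 1)))) ≫
    T.fromSpecStalk t

lemma τk_apply (t : T) (k : ℕ) (y) : (τk t k).base y = t := by
  unfold τk
  rw [RigD.comp_base_apply']
  have h1 : (Spec.map (CommRingCat.ofHom (Ideal.Quotient.mk
      ((maximalIdeal (T.presheaf.stalk t)) ^ (k + 1))))).base y
      = closedPoint (T.presheaf.stalk t) := RigD.comap_mk_pow_eq_closedPoint (T.presheaf.stalk t) k y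
  rw [h1]
  exact Scheme.fromSpecStalk_closedPoint

lemma toRes_τk (t : T) (k : ℕ) :
    Spec.map (CommRingCat.ofHom (toRes (T.presheaf.stalk t) k)) ≫ τk t k =
      T.fromSpecResidueField t := by
  unfold τk
  rw [← Category.assoc, ← Spec.map_comp]
  rfl

theorem fact_art [IsLocallyNoetherian T] (f : X ⟶ T) [Flat f] (HR : HRes f) (π : X ⟶ Z)
    (t : T) (k : ℕ) (hgood : RigD.Good f π t) :
    ∃ c : Spec (CommRingCat.of (T.presheaf.stalk t ⧸ (maximalIdeal (T.presheaf.stalk t)) ^ (k + 1)))
        ⟶ Z, pullback.fst f (τk t k) ≫ π = pullback.snd f (τk t k) ≫ c := by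
  let R := T.presheaf.stalk t
  let A := R ⧸ (maximalIdeal R) ^ (k + 1)
  let τ := τk t k
  let φ : A →+* ResidueField R := toRes R k
  have hφ : Function.Surjective φ := toRes_surjective R k
  let s : pullback f τ ⟶ Spec (CommRingCat.of A) := pullback.snd f τ
  let ρ₀ := T.fromSpecResidueField t
  let s₀ : pullback f ρ₀ ⟶ Spec (CommRingCat.of (ResidueField R)) := pullback.snd f ρ₀
  have hcond : pullback.fst f ρ₀ ≫ f = (s₀ ≫ Spec.map (CommRingCat.ofHom φ)) ≫ τ := by
    rw [Category.assoc, toRes_τk]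
    exact pullback.condition
  let ι : pullback f ρ₀ ⟶ pullback f τ :=
    pullback.lift (pullback.fst f ρ₀) (s₀ ≫ Spec.map (CommRingCat.ofHom φ)) hcond
  have H : IsPullback ι s₀ s (Spec.map (CommRingCat.ofHom φ)) := by
    refine IsPullback.of_right ?_ (pullback.lift_snd _ _ _) (IsPullback.of_hasPullback f τ)
    rw [pullback.lift_fst, toRes_τk]
    exact IsPullback.of_hasPullback f ρ₀
  have h0 : Function.Surjective (ArtC.ρ s₀ ⊤) := by
    have h1 := (HR t).2
    have h3 : s₀.appLE ⊤ ⊤ (ArtC.leT s₀ ⊤) = s₀.appTop := by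
      rw [Scheme.Hom.appTop, Scheme.Hom.app_eq_appLE]
      rfl
    unfold ArtC.ρ
    rw [h3]
    exact h1.comp (ConcreteCategory.bijective_of_isIso
      (Scheme.ΓSpecIso (CommRingCat.of (ResidueField R))).inv).2
  haveI : Flat s := inferInstanceAs (Flat (pullback.snd f τ))
  have hsurj := ArtC.surjective_ρ φ hφ s ι s₀ H h0
  have h3 : s.appLE ⊤ ⊤ (ArtC.leT s ⊤) = s.appTop := by
    rw [Scheme.Hom.appTop, Scheme.Hom.app_eq_appLE]
    rfl
  have hsurj' : Function.Surjective ((Scheme.ΓSpecIso (CommRingCat.of A)).inv ≫ s.appTop).hom := by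
    rw [← h3]
    exact hsurj
  -- injectivity
  obtain ⟨x₀, hx₀⟩ := surjective_of_HRes f HR t
  have hne : Nonempty ↥(pullback f τ) := by
    obtain ⟨z, -, -⟩ := Scheme.Pullback.exists_preimage_pullback (f := f) (g := τ) x₀
      (closedPoint A) (by rw [hx₀]; exact (τk_apply t k _).symm)
    exact ⟨z⟩
  haveI : Surjective s := by
    constructor
    intro y
    obtain ⟨z⟩ := hne
    refine ⟨z, ?_⟩
    rw [eq_closedPoint_quot R k y]
    exact eq_closedPoint_quot R k _
  have hinj : Function.Injective ((Scheme.ΓSpecIso (CommRingCat.of A)).inv ≫ s.appTop).hom := by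
    have h2 : Function.Injective s.appTop.hom := P1L.appTop_injective_of_flat_surjective s
    have h3 : Function.Injective (Scheme.ΓSpecIso (CommRingCat.of A)).inv.hom :=
      (ConcreteCategory.bijective_of_isIso (Scheme.ΓSpecIso (CommRingCat.of A)).inv).1
    exact h2.comp h3
  obtain ⟨U, hU, hxU, -⟩ := exists_isAffineOpen_mem_and_subset (x := π.base x₀) (U := ⊤) trivial
  exact RigB.factor_of_bijective s ⟨hinj, hsurj'⟩ (pullback.fst f τ ≫ π) U hU (by
    rintro _ ⟨x', rfl⟩
    have h1 : f.base ((pullback.fst f τ).base x') = t := by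
      rw [← RigD.comp_base_apply', pullback.condition, RigD.comp_base_apply']
      exact τk_apply t k _
    change (pullback.fst f τ ≫ π).base x' ∈ U
    rw [RigD.comp_base_apply', hgood _ x₀ h1 hx₀]
    exact hxU)

theorem good_of_affine' (f : X ⟶ T) (HR : HRes f) (π : X ⟶ Z)
    (t' : T) (U : Z.Opens) (hU : IsAffineOpen U) (h : ∀ x, f.base x = t' → π.base x ∈ U) :
    RigD.Good f π t' := by
  let y := T.fromSpecResidueField t'
  have hy : ∀ p, y.base p = t' := fun p => Scheme.fromSpecResidueField_apply t' p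
  have hbij : Function.Bijective ((Scheme.ΓSpecIso (T.residueField t')).inv ≫
      (pullback.snd f y).appTop).hom :=
    (HR t').comp (ConcreteCategory.bijective_of_isIso (Scheme.ΓSpecIso (T.residueField t')).inv)
  obtain ⟨c, hc⟩ := RigB.factor_of_bijective (pullback.snd f y) hbij (pullback.fst f y ≫ π) U hU (by
    rintro _ ⟨x', rfl⟩
    change (pullback.fst f y ≫ π).base x' ∈ U
    rw [RigD.comp_base_apply']
    apply h
    rw [← RigD.comp_base_apply', pullback.condition, RigD.comp_base_apply']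
    exact hy _)
  intro x₁ x₂ h₁ h₂
  let pt : ↥(Spec (T.residueField t')) := default
  obtain ⟨z₁, hz₁, hz₁'⟩ := Scheme.Pullback.exists_preimage_pullback (f := f) (g := y) x₁ pt
    (by rw [h₁]; exact (hy pt).symm)
  obtain ⟨z₂, hz₂, hz₂'⟩ := Scheme.Pullback.exists_preimage_pullback (f := f) (g := y) x₂ pt
    (by rw [h₂]; exact (hy pt).symm)
  rw [← hz₁, ← hz₂, ← RigD.comp_base_apply', ← RigD.comp_base_apply', hc, RigD.comp_base_apply',
    RigD.comp_base_apply', hz₁', hz₂']

theorem isOpen_good' (f : X ⟶ T) (HR : HRes f) (hcl : IsClosedMap f.base) (π : X ⟶ Z) :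
    IsOpen {t | RigD.Good f π t} := by
  rw [isOpen_iff_forall_mem_open]
  intro t ht
  obtain ⟨x, hx⟩ := surjective_of_HRes f HR t
  obtain ⟨U, hU, hxU, -⟩ := exists_isAffineOpen_mem_and_subset (x := π.base x) (U := ⊤) trivial
  let C : Set X := (π.base ⁻¹' (U : Set Z))ᶜ
  have hC : IsClosed C := (U.isOpen.preimage π.continuous).isClosed_compl
  have hfC : IsClosed (f.base '' C) := hcl _ hC
  refine ⟨(f.base '' C)ᶜ, ?_, hfC.isOpen_compl, ?_⟩
  · intro t' ht'
    apply good_of_affine' f HR π t' U hU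
    intro x' hx'
    by_contra hcon
    exact ht' ⟨x', hcon, hx'⟩
  · rintro ⟨x', hx'C, hx't⟩
    apply hx'C
    change π.base x' ∈ U
    rw [ht x' x hx't hx]
    exact hxU

theorem inf_eq' [IsLocallyNoetherian T] (f : X ⟶ T) [Flat f] (HR : HRes f) (π : X ⟶ Z)
    (e : T ⟶ X) (he : e ≫ f = 𝟙 T) (w : X) (n : ℕ) (hgood : RigD.Good f π (f.base w)) :
    (Spec.map (CommRingCat.ofHom (Ideal.Quotient.mk
        ((maximalIdeal (X.presheaf.stalk w)) ^ n))) ≫ X.fromSpecStalk w) ≫ π =
    (Spec.map (CommRingCat.ofHom (Ideal.Quotient.mk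
        ((maximalIdeal (X.presheaf.stalk w)) ^ n))) ≫ X.fromSpecStalk w) ≫ (f ≫ e ≫ π) := by
  cases n with
  | zero =>
    haveI : Subsingleton ((X.presheaf.stalk w) ⧸ (maximalIdeal (X.presheaf.stalk w)) ^ 0) := by
      rw [pow_zero]
      exact Ideal.Quotient.subsingleton_iff.mpr Ideal.one_eq_top
    haveI : IsEmpty ↥(Spec (CommRingCat.of ((X.presheaf.stalk w) ⧸
        (maximalIdeal (X.presheaf.stalk w)) ^ 0))) :=
      inferInstanceAs (IsEmpty (PrimeSpectrum _))
    exact isInitialOfIsEmpty.hom_ext _ _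
  | succ k =>
    let RX := X.presheaf.stalk w
    let RT := T.presheaf.stalk (f.base w)
    let ψ : RT →+* RX := (f.stalkMap w).hom
    haveI : IsLocalHom ψ := inferInstanceAs (IsLocalHom (f.stalkMap w).hom)
    have hm : Ideal.map ψ (maximalIdeal RT) ≤ maximalIdeal RX := by
      rw [Ideal.map_le_iff_le_comap]
      intro x hx
      rw [Ideal.mem_comap, IsLocalRing.mem_maximalIdeal]
      intro hu
      exact ((IsLocalRing.mem_maximalIdeal _).mp hx) (isUnit_of_map_unit ψ x hu)
    have hle : (maximalIdeal RT) ^ (k + 1) ≤ Ideal.comap ψ ((maximalIdeal RX) ^ (k + 1)) := by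
      rw [← Ideal.map_le_iff_le_comap, Ideal.map_pow]
      exact Ideal.pow_right_mono hm (k + 1)
    let ψk : (RT ⧸ (maximalIdeal RT) ^ (k + 1)) →+* (RX ⧸ (maximalIdeal RX) ^ (k + 1)) :=
      Ideal.quotientMap _ ψ hle
    let a : Spec (CommRingCat.of (RX ⧸ (maximalIdeal RX) ^ (k + 1))) ⟶ X :=
      Spec.map (CommRingCat.ofHom (Ideal.Quotient.mk ((maximalIdeal RX) ^ (k + 1)))) ≫
        X.fromSpecStalk w
    let b : Spec (CommRingCat.of (RX ⧸ (maximalIdeal RX) ^ (k + 1))) ⟶
        Spec (CommRingCat.of (RT ⧸ (maximalIdeal RT) ^ (k + 1))) :=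
      Spec.map (CommRingCat.ofHom ψk)
    have hab : a ≫ f = b ≫ τk (f.base w) k := by
      change (Spec.map _ ≫ X.fromSpecStalk w) ≫ f = Spec.map _ ≫ (Spec.map _ ≫ T.fromSpecStalk _)
      rw [Category.assoc, ← Scheme.SpecMap_stalkMap_fromSpecStalk, ← Category.assoc,
        ← Category.assoc, ← Spec.map_comp, ← Spec.map_comp]
      congr 2
    obtain ⟨c, hc⟩ := fact_art f HR π (f.base w) k hgood
    have key : ∀ a' : Spec (CommRingCat.of (RX ⧸ (maximalIdeal RX) ^ (k + 1))) ⟶ X,
        a' ≫ f = b ≫ τk (f.base w) k → a' ≫ π = b ≫ c := by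
      intro a' ha'
      calc a' ≫ π = (pullback.lift a' b ha' ≫ pullback.fst f (τk (f.base w) k)) ≫ π := by
            rw [pullback.lift_fst]
        _ = pullback.lift a' b ha' ≫ pullback.snd f (τk (f.base w) k) ≫ c := by
            rw [Category.assoc, hc]
        _ = b ≫ c := by rw [← Category.assoc, pullback.lift_snd]
    have h1 := key a hab
    have h2 := key (a ≫ f ≫ e) (by
      have h3 : ∀ {W : Scheme.{u}} (a' : W ⟶ X), (a' ≫ f ≫ e) ≫ f = a' ≫ f := fun a' => by
        rw [Category.assoc, Category.assoc, he, Category.comp_id]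
      rw [h3 a]
      exact hab)
    change a ≫ π = a ≫ (f ≫ e ≫ π)
    rw [h1, ← h2]
    simp only [Category.assoc]

/-- in a locally Noetherian scheme, an open set stable under specialization is closed -/
theorem isClosed_of_isOpen_of_stableUnderSpecialization [IsLocallyNoetherian T] (G : Set T)
    (hG : IsOpen G) (hsp : StableUnderSpecialization G) : IsClosed G := by
  have hcov : TopologicalSpace.IsOpenCover (fun V : T.affineOpens => (V.1 : T.Opens)) :=
    iSup_affineOpens_eq_top T
  rw [hcov.isClosed_iff_coe_preimage]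
  intro V
  haveI : IsNoetherianRing ↑Γ(T, V.1) := IsLocallyNoetherian.component_noetherian V
  let F : Spec Γ(T, V.1) ⟶ T := V.2.fromSpec
  let S' : Set (PrimeSpectrum ↑Γ(T, V.1)) := F.base ⁻¹' G
  have hS'open : IsOpen S' := hG.preimage F.continuous
  have hS'sp : StableUnderSpecialization S' := hsp.preimage F.continuous
  have hS'c : Topology.IsConstructible S' :=
    IsCompact.isConstructible (TopologicalSpace.NoetherianSpace.isCompact S') hS'open
  have hS'cl : IsClosed S' :=
    PrimeSpectrum.isClosed_of_stableUnderSpecialization_of_isConstructible hS'sp hS'c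
  have hpre : ((Subtype.val : V.1 → T) ⁻¹' G : Set V.1) = V.2.isoSpec.hom.base ⁻¹' S' := by
    ext x
    change x.1 ∈ G ↔ F.base (V.2.isoSpec.hom.base x) ∈ G
    have h1 : F.base (V.2.isoSpec.hom.base x) = x.1 := by
      change (V.2.isoSpec.hom ≫ V.2.fromSpec).base x = _
      rw [IsAffineOpen.isoSpec_hom_fromSpec]
      rfl
    rw [h1]
  have hfin : IsClosed ((Subtype.val : V.1 → T) ⁻¹' G : Set V.1) := by
    rw [hpre]
    exact hS'cl.preimage V.2.isoSpec.hom.continuous
  exact hfin

theorem isClosed_good' [IsLocallyNoetherian T] (f : X ⟶ T) [Flat f] (HR : HRes f)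
    (hcl : IsClosedMap f.base) {S : Scheme.{u}} (π : X ⟶ Z) (q : Z ⟶ S) [IsSeparated q]
    (p : T ⟶ S) (hπ : π ≫ q = f ≫ p) (e : T ⟶ X) (he : e ≫ f = 𝟙 T) :
    IsClosed {t | RigD.Good f π t} := by
  have hq : π ≫ q = (f ≫ e ≫ π) ≫ q := by
    rw [Category.assoc, Category.assoc, hπ, ← Category.assoc e, he, Category.id_comp]
  obtain ⟨E, j, hj, hjeq, hlift⟩ := RigB.exists_eqLocus π (f ≫ e ≫ π) q hq
  have hset : {t | RigD.Good f π t} = {t | ∀ x, f.base x = t → x ∈ Set.range j.base} := by
    ext t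
    simp only [Set.mem_ofPred_eq]
    constructor
    · intro ht x hx
      have hgood' : RigD.Good f π (f.base x) := by rw [hx]; exact ht
      have e1 := inf_eq' f HR π e he x 1 hgood'
      obtain ⟨a', ha'⟩ := hlift _ _ e1
      let R := X.presheaf.stalk x
      obtain ⟨y⟩ : Nonempty (PrimeSpectrum (R ⧸ (maximalIdeal R) ^ (0 + 1))) := inferInstance
      refine ⟨a'.base y, ?_⟩
      rw [← RigD.comp_base_apply', ha']
      exact RigD.inf_pt X x 0 y
    · intro hall
      have key : ∀ x, f.base x = t → π.base x = π.base (e.base t) := by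
        intro x hx
        obtain ⟨z, rfl⟩ := hall x hx
        rw [← RigD.comp_base_apply', hjeq, RigD.comp_base_apply', RigD.comp_base_apply',
          RigD.comp_base_apply', hx]
      intro x₁ x₂ h₁ h₂
      rw [key x₁ h₁, key x₂ h₂]
  have hsp : StableUnderSpecialization {t | ∀ x, f.base x = t → x ∈ Set.range j.base} := by
    intro t t' htt' ht x' hx'
    have hspec : t ⤳ f.base x' := by rw [hx']; exact htt'
    obtain ⟨x, hx_spec, hx⟩ := Flat.generalizingMap f hspec
    exact hx_spec.mem_closed j.isClosedEmbedding.isClosed_range (ht x hx)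
  apply isClosed_of_isOpen_of_stableUnderSpecialization
  · exact isOpen_good' f HR hcl π
  · rw [hset]; exact hsp

/-- **Rigidity lemma with a section** over a connected locally Noetherian base: `f` flat and a
closed map with a section `e`, fibres with trivial global functions; if `π` collapses one fibre
then `π = f ≫ e ≫ π`. -/
theorem main' [IsLocallyNoetherian T] [IsLocallyNoetherian X] [ConnectedSpace ↥T] (f : X ⟶ T)
    [Flat f] (HR : HRes f) (hcl : IsClosedMap f.base) {S : Scheme.{u}} (π : X ⟶ Z) (q : Z ⟶ S)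
    [IsSeparated q] (p : T ⟶ S) (hπ : π ≫ q = f ≫ p) (e : T ⟶ X) (he : e ≫ f = 𝟙 T)
    (t₀ : T) (h₀ : RigD.Good f π t₀) :
    π = f ≫ e ≫ π := by
  have hall : ∀ t, RigD.Good f π t := by
    have hclopen : IsClopen {t | RigD.Good f π t} :=
      ⟨isClosed_good' f HR hcl π q p hπ e he, isOpen_good' f HR hcl π⟩
    have h1 := hclopen.eq_univ ⟨t₀, h₀⟩
    intro t
    have h2 : t ∈ {t | RigD.Good f π t} := by rw [h1]; trivial
    exact h2
  have hq : π ≫ q = (f ≫ e ≫ π) ≫ q := by
    rw [Category.assoc, Category.assoc, hπ, ← Category.assoc e, he, Category.id_comp]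
  exact RigB.ext_of_infinitesimal π (f ≫ e ≫ π) q hq
    (fun w n => inf_eq' f HR π e he w n (hall _))

end geo

end Groth.Agent.Lib.Helper26.RigS
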