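import Mathlib
import Groth.Agent.S8822
import Groth.Agent.Lib.Helper15.RigClosed
set_option autoImplicit false
set_option linter.style.haveILetI false
universe u

namespace Groth.Agent.Lib.Helper26.RigUnram

open TensorProduct

/-- Nakayama for differentials: if `C` is of finite type over `A`, `J` an ideal of `A` with
`J C` in the Jacobson radical and `C / J C` formally unramified over `A`, then `C` is formally
unramified over `A`. -/
theorem formallyUnramified_of_quotient {A C : Type u} [CommRing A] [CommRing C] [Algebra A C]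
    [Algebra.FiniteType A C] (J : Ideal A)
    (hJ : J.map (algebraMap A C) ≤ (⊥ : Ideal C).jacobson)
    [Algebra.FormallyUnramified A (C ⧸ J.map (algebraMap A C))] :
    Algebra.FormallyUnramified A C := by
  set K : Ideal C := J.map (algebraMap A C) with hK
  have hsurj : Function.Surjective (algebraMap C (C ⧸ K)) := Ideal.Quotient.mk_surjective
  have h1 : Subsingleton ((C ⧸ K) ⊗[C] Ω[C⁄A]) := by
    refine subsingleton_of_forall_eq 0 fun x ↦ ?_
    obtain ⟨x, rfl⟩ := (KaehlerDifferential.exact_kerCotangentToTensor_mapBaseChange A C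
      (C ⧸ K) hsurj x).mp (Subsingleton.elim _ _)
    obtain ⟨⟨x, hx⟩, rfl⟩ := Ideal.toCotangent_surjective _ x
    simp only [KaehlerDifferential.kerCotangentToTensor_toCotangent]
    replace hx : x ∈ Ideal.map (algebraMap A C) J := by
      rw [Ideal.Quotient.algebraMap_eq, Ideal.mk_ker] at hx
      exact hx
    induction hx using Submodule.span_induction with
    | zero => simp
    | mem x h => obtain ⟨x, hx, rfl⟩ := h; simp
    | add x y hx hy _ _ => simp [*, TensorProduct.tmul_add]
    | smul a x hx _ =>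
      have : (Ideal.Quotient.mk K) x = 0 := by
        rw [Ideal.Quotient.eq_zero_iff_mem]; exact hx
      simp [*, TensorProduct.tmul_add, TensorProduct.smul_tmul', ← Algebra.algebraMap_eq_smul_one]
  have hfin : Module.Finite C Ω[C⁄A] := inferInstance
  have h2 : Subsingleton (Ω[C⁄A] ⧸ (K • ⊤ : Submodule C Ω[C⁄A])) :=
    (TensorProduct.quotTensorEquivQuotSMul Ω[C⁄A] K).symm.toEquiv.subsingleton
  have h3 : (K • ⊤ : Submodule C Ω[C⁄A]) = ⊤ := Submodule.Quotient.subsingleton_iff.mp h2
  have h4 : (⊤ : Submodule C Ω[C⁄A]) = ⊥ :=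
    Submodule.eq_bot_of_le_smul_of_le_jacobson_bot K ⊤ hfin.fg_top h3.ge hJ
  constructor
  exact (Submodule.subsingleton_iff C).mp (subsingleton_of_bot_eq_top h4.symm)

/-- A domain of finite type and formally unramified over `A`, such that the kernel of `A → D`
is a maximal ideal, is finite over `A`. -/
theorem finite_of_unramified_domain {A D : Type u} [CommRing A] [CommRing D] [Algebra A D]
    [Algebra.FiniteType A D] [Algebra.FormallyUnramified A D]
    (hn : (RingHom.ker (algebraMap A D)).IsMaximal) : Module.Finite A D := by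
  set n : Ideal A := RingHom.ker (algebraMap A D) with hn'
  letI : Field (A ⧸ n) := Ideal.Quotient.field n
  letI : Algebra (A ⧸ n) D := (Ideal.Quotient.lift n (algebraMap A D) (fun a ha => RingHom.mem_ker.mp ha)).toAlgebra
  have : IsScalarTower A (A ⧸ n) D := IsScalarTower.of_algebraMap_eq fun a => by
    rw [RingHom.algebraMap_toAlgebra, Ideal.Quotient.algebraMap_eq, Ideal.Quotient.lift_mk]
  have : Algebra.FiniteType (A ⧸ n) D := Algebra.FiniteType.of_restrictScalars_finiteType A _ _
  have : Algebra.FormallyUnramified (A ⧸ n) D := Algebra.FormallyUnramified.of_restrictScalars A _ _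
  have : Module.Finite (A ⧸ n) D := Algebra.FormallyUnramified.finite_of_free _ _
  exact Module.Finite.trans (A ⧸ n) D

theorem main (A : Type u) [CommRing A] [IsNoetherianRing A] (I : Ideal A) [IsAdicComplete I A] (B : Type u) [CommRing B] [Algebra A B] [IsNoetherianRing B] [IsAdicComplete (I.map (algebraMap A B)) B] (hft : Algebra.FiniteType A (B ⧸ (I.map (algebraMap A B)))) [Algebra.Etale (A ⧸ I) (B ⧸ (I.map (algebraMap A B)))] (q : PrimeSpectrum B) (hq : (¬ (I.map (algebraMap A B)) ≤ q.asIdeal ∧ ∀ y : PrimeSpectrum B, q ≤ y → ¬ (I.map (algebraMap A B)) ≤ y.asIdeal → y = q)) (hp : (¬ I ≤ (PrimeSpectrum.comap (algebraMap A B) q).asIdeal ∧ ∀ y : PrimeSpectrum A, (PrimeSpectrum.comap (algebraMap A B) q) ≤ y → ¬ I ≤ y.asIdeal → y = (PrimeSpectrum.comap (algebraMap A B) q))) : ((PrimeSpectrum.comap (algebraMap A B) q).asIdeal.map (algebraMap A B)).map (algebraMap B (Localization.AtPrime q.asIdeal)) = IsLocalRing.maximalIdeal (Localization.AtPrime q.asIdeal) := by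
  classical
  set p : Ideal A := (PrimeSpectrum.comap (algebraMap A B) q).asIdeal with hpdef
  have hpcomap : p = q.asIdeal.comap (algebraMap A B) := rfl
  have hpprime : p.IsPrime := (PrimeSpectrum.comap (algebraMap A B) q).2
  set P : Ideal B := p.map (algebraMap A B) with hPdef
  have hPq : P ≤ q.asIdeal := by rw [hPdef, hpcomap]; exact Ideal.map_comap_le
  set K : Ideal (B ⧸ P) := I.map (algebraMap A (B ⧸ P)) with hK
  have hC : IsAdicComplete K (B ⧸ P) := Groth.Agent.S8822.result A I B hft P
  have hKjac : K ≤ (⊥ : Ideal (B ⧸ P)).jacobson := IsAdicComplete.le_jacobson_bot K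
  have hfuA0 : Algebra.FormallyUnramified A (B ⧸ I.map (algebraMap A B)) := by
    have : Algebra.FormallyUnramified A (A ⧸ I) :=
      Algebra.FormallyUnramified.of_surjective (Algebra.ofId A (A ⧸ I)) Ideal.Quotient.mk_surjective
    exact Algebra.FormallyUnramified.comp A (A ⧸ I) _
  -- the `A`-algebra map `B ⧸ I B → (B ⧸ P) ⧸ K`
  let φ : B →ₐ[A] ((B ⧸ P) ⧸ K) := (Ideal.Quotient.mkₐ A K).comp (Ideal.Quotient.mkₐ A P)
  have hφ : Function.Surjective φ :=
    (Ideal.Quotient.mkₐ_surjective A K).comp (Ideal.Quotient.mkₐ_surjective A P)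
  have hφker : ∀ a ∈ I.map (algebraMap A B), φ a = 0 := by
    intro a ha
    have h1 : I.map (algebraMap A B) ≤ RingHom.ker φ.toRingHom := by
      rw [Ideal.map_le_iff_le_comap]
      intro a ha
      change φ (algebraMap A B a) = 0
      rw [AlgHom.commutes, IsScalarTower.algebraMap_apply A (B ⧸ P) ((B ⧸ P) ⧸ K),
        Ideal.Quotient.algebraMap_eq, Ideal.Quotient.eq_zero_iff_mem, hK]
      exact Ideal.mem_map_of_mem _ ha
    exact h1 ha
  let ψ : (B ⧸ I.map (algebraMap A B)) →ₐ[A] ((B ⧸ P) ⧸ K) :=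
    Ideal.Quotient.liftₐ _ φ hφker
  have hψ : Function.Surjective ψ := Ideal.Quotient.lift_surjective_of_surjective _ _ hφ
  have hfu1 : Algebra.FormallyUnramified A ((B ⧸ P) ⧸ K) :=
    Algebra.FormallyUnramified.of_surjective ψ hψ
  have hft1 : Algebra.FiniteType A ((B ⧸ P) ⧸ K) := hft.of_surjective ψ hψ
  have hfin1 : Module.Finite A ((B ⧸ P) ⧸ K) := by
    apply Groth.Agent.Lib.Helper15.finite_of_forall_prime_quotient_finite
    intro P' hP'
    have hft2 : Algebra.FiniteType A (((B ⧸ P) ⧸ K) ⧸ P') :=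
      hft1.of_surjective (Ideal.Quotient.mkₐ A P') (Ideal.Quotient.mkₐ_surjective A P')
    have hfu2 : Algebra.FormallyUnramified A (((B ⧸ P) ⧸ K) ⧸ P') :=
      Algebra.FormallyUnramified.of_surjective (Ideal.Quotient.mkₐ A P')
        (Ideal.Quotient.mkₐ_surjective A P')
    apply finite_of_unramified_domain
    set n : Ideal A := RingHom.ker (algebraMap A (((B ⧸ P) ⧸ K) ⧸ P')) with hn
    have hnprime : n.IsPrime := RingHom.ker_isPrime _
    have hpn : p ≤ n := by
      intro a ha
      rw [hn, RingHom.mem_ker, IsScalarTower.algebraMap_apply A ((B ⧸ P) ⧸ K),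
        IsScalarTower.algebraMap_apply A (B ⧸ P) ((B ⧸ P) ⧸ K),
        IsScalarTower.algebraMap_apply A B (B ⧸ P)]
      have : algebraMap B (B ⧸ P) (algebraMap A B a) = 0 := by
        rw [Ideal.Quotient.algebraMap_eq, Ideal.Quotient.eq_zero_iff_mem]
        exact Ideal.mem_map_of_mem _ ha
      rw [this, map_zero, map_zero]
    have hIn : I ≤ n := by
      intro a ha
      rw [hn, RingHom.mem_ker, IsScalarTower.algebraMap_apply A ((B ⧸ P) ⧸ K),
        IsScalarTower.algebraMap_apply A (B ⧸ P) ((B ⧸ P) ⧸ K)]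
      have : algebraMap (B ⧸ P) ((B ⧸ P) ⧸ K) (algebraMap A (B ⧸ P) a) = 0 := by
        rw [Ideal.Quotient.algebraMap_eq, Ideal.Quotient.eq_zero_iff_mem]
        exact Ideal.mem_map_of_mem _ ha
      rw [this, map_zero]
    have hne : n ≠ p := fun h => hp.1 (h ▸ hIn)
    exact Groth.Agent.Lib.Helper15.isMaximal_of_rigClosed I
      (PrimeSpectrum.comap (algebraMap A B) q) hp n hpn hne
  have hH : IsHausdorff K (B ⧸ P) := hC.toIsHausdorff
  have hfinC : Module.Finite A (B ⧸ P) :=
    Groth.Agent.Lib.Helper15.finite_of_finite_quotient_map I (B ⧸ P) hfin1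
  have hftC : Algebra.FiniteType A (B ⧸ P) := inferInstance
  have hfuC : Algebra.FormallyUnramified A (B ⧸ P) := formallyUnramified_of_quotient I hKjac
  -- the prime `q̄` of `B ⧸ P`
  set qb : Ideal (B ⧸ P) := q.asIdeal.map (Ideal.Quotient.mk P) with hqb
  have hqbprime : qb.IsPrime :=
    Ideal.map_isPrime_of_surjective Ideal.Quotient.mk_surjective (by rw [Ideal.mk_ker]; exact hPq)
  have hqbcomap : qb.comap (Ideal.Quotient.mk P) = q.asIdeal := by
    rw [hqb, Ideal.comap_map_of_surjective _ Ideal.Quotient.mk_surjective,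
      ← RingHom.ker_eq_comap_bot, Ideal.mk_ker]
    exact sup_eq_left.mpr hPq
  have hlies : qb.LiesOver p := ⟨by
    rw [Ideal.under_def, IsScalarTower.algebraMap_eq A B (B ⧸ P), ← Ideal.comap_comap,
      Ideal.Quotient.algebraMap_eq, hqbcomap]
    exact hpcomap⟩
  letI := Localization.AtPrime.algebraOfLiesOver p qb
  have hunr : Algebra.IsUnramifiedAt A qb := inferInstance
  have hmap := ((Algebra.isUnramifiedAt_iff_map_eq A p qb).mp hunr).2
  have hbot : p.map (algebraMap A (Localization.AtPrime qb)) = ⊥ := by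
    rw [Ideal.map_eq_bot_iff_le_ker]
    intro a ha
    rw [RingHom.mem_ker, IsScalarTower.algebraMap_apply A (B ⧸ P) (Localization.AtPrime qb),
      IsScalarTower.algebraMap_apply A B (B ⧸ P)]
    have : algebraMap B (B ⧸ P) (algebraMap A B a) = 0 := by
      rw [Ideal.Quotient.algebraMap_eq, Ideal.Quotient.eq_zero_iff_mem]
      exact Ideal.mem_map_of_mem _ ha
    rw [this, map_zero]
  have hmax : IsLocalRing.maximalIdeal (Localization.AtPrime qb) = ⊥ := by rw [← hmap, hbot]
  have key : ∀ x ∈ q.asIdeal, ∃ s ∉ q.asIdeal, s * x ∈ P := by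
    intro x hx
    have hxqb : Ideal.Quotient.mk P x ∈ qb := Ideal.mem_map_of_mem _ hx
    have h1 : algebraMap (B ⧸ P) (Localization.AtPrime qb) (Ideal.Quotient.mk P x) ∈
        IsLocalRing.maximalIdeal (Localization.AtPrime qb) :=
      (IsLocalization.AtPrime.to_map_mem_maximal_iff _ qb _).mpr hxqb
    rw [hmax, Ideal.mem_bot, IsLocalization.map_eq_zero_iff qb.primeCompl] at h1
    obtain ⟨⟨sb, hsb⟩, hs⟩ := h1
    obtain ⟨s, rfl⟩ := Ideal.Quotient.mk_surjective sb
    refine ⟨s, fun hsq => hsb (Ideal.mem_map_of_mem _ hsq), ?_⟩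
    rw [← Ideal.Quotient.eq_zero_iff_mem, map_mul]
    exact hs
  apply le_antisymm
  · rw [← Localization.AtPrime.map_eq_maximalIdeal]
    exact Ideal.map_mono hPq
  · rw [← Localization.AtPrime.map_eq_maximalIdeal, Ideal.map_le_iff_le_comap]
    intro x hx
    obtain ⟨s, hs, hsx⟩ := key x hx
    rw [Ideal.mem_comap]
    have hunit : IsUnit (algebraMap B (Localization.AtPrime q.asIdeal) s) :=
      IsLocalization.map_units (Localization.AtPrime q.asIdeal) (⟨s, hs⟩ : q.asIdeal.primeCompl)
    have h2 : algebraMap B (Localization.AtPrime q.asIdeal) (s * x) ∈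
        P.map (algebraMap B (Localization.AtPrime q.asIdeal)) := Ideal.mem_map_of_mem _ hsx
    rw [map_mul] at h2
    exact (Ideal.unit_mul_mem_iff_mem _ hunit).mp h2

end Groth.Agent.Lib.Helper26.RigUnram
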