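import Mathlib
import Groth.Agent.Lib.Helper26.FrobSmC

namespace Groth.Agent.Lib.Helper26.SdetA
open scoped TensorProduct
open Groth.Agent.Lib.Helper9.RelFrobSmooth Groth.Agent.Lib.Helper26.FrobSmB
  Groth.Agent.Lib.Helper26.FrobSmC

universe u v

section etale
open MvPolynomial
variable (p : ℕ) [Fact p.Prime] (k : Type u) [Field k] [CharP k p] [PerfectRing k p] (n : ℕ)
  (C : Type v) [CommRing C] [Algebra (MvPolynomial (Fin n) k) C] [CharP C p]
  [Algebra.Etale (MvPolynomial (Fin n) k) C]

/-- the `P`-linear equivalence `(ι → P) ≃ Twist p P` given by the monomial `p`-basis -/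
noncomputable def twistEquiv' :
    ((Fin n → Fin p) → MvPolynomial (Fin n) k) ≃ₗ[MvPolynomial (Fin n) k]
      FrobAlg.Twist p (MvPolynomial (Fin n) k) :=
  LinearEquiv.ofBijective
    { toFun := fun c => FrobAlg.toTwist p _ (pbMapHom p (frobenius (MvPolynomial (Fin n) k) p)
        (fun i => (X i : MvPolynomial (Fin n) k)) c)
      map_add' := fun c d => by
        rw [← map_add]
        congr 1
        simp only [pbMapHom, Pi.add_apply, map_add, add_mul, Finset.sum_add_distrib]
      map_smul' := fun r c => by
        have h1 : pbMapHom p (frobenius (MvPolynomial (Fin n) k) p)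
            (fun i => (X i : MvPolynomial (Fin n) k)) (r • c) =
            r ^ p * pbMapHom p (frobenius (MvPolynomial (Fin n) k) p)
              (fun i => (X i : MvPolynomial (Fin n) k)) c := by
          simp only [pbMapHom, Pi.smul_apply, smul_eq_mul, map_mul, frobenius_def, Finset.mul_sum,
            mul_assoc]
        have h2 : ∀ t : FrobAlg.Twist p (MvPolynomial (Fin n) k),
            r • t = FrobAlg.toTwist p _ (r ^ p) * t := fun t => by
          rw [Algebra.smul_def, FrobAlg.algebraMap_twist]
        rw [RingHom.id_apply, h1, h2, map_mul] }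
    ((FrobAlg.toTwist p _).bijective.comp (pb_poly p k n))

lemma twistEquiv'_apply (c : (Fin n → Fin p) → MvPolynomial (Fin n) k) :
    twistEquiv' p k n c = FrobAlg.toTwist p _ (pbMapHom p (frobenius (MvPolynomial (Fin n) k) p)
        (fun i => (X i : MvPolynomial (Fin n) k)) c) := rfl

theorem pb_etale' : Function.Bijective
    (pbMapHom p (frobenius C p) (fun i => algebraMap (MvPolynomial (Fin n) k) C (X i))) := by
  classical
  let bT : Module.Basis (Fin n → Fin p) (MvPolynomial (Fin n) k)
      (FrobAlg.Twist p (MvPolynomial (Fin n) k)) :=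
    Module.Basis.ofEquivFun (twistEquiv' p k n).symm
  have hbT : ∀ α, bT α = FrobAlg.toTwist p _ (bmon (R := k) p α) := by
    intro α
    rw [Module.Basis.coe_ofEquivFun, LinearEquiv.symm_symm]
    show twistEquiv' p k n (Pi.single α 1) = _
    rw [twistEquiv'_apply]
    congr 1
    simp only [pbMapHom]
    rw [Finset.sum_eq_single α]
    · rw [Pi.single_eq_same, map_one, one_mul, prod_X_pow]
    · intro β _ hβ
      rw [Pi.single_eq_of_ne hβ, map_zero, zero_mul]
    · intro h; exact absurd (Finset.mem_univ _) h
  let bC := Algebra.TensorProduct.basis C bT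
  have hcomp : pbMapHom p (frobenius C p)
      (fun i => algebraMap (MvPolynomial (Fin n) k) C (X i)) =
      (FrobAlg.relFrob p (MvPolynomial (Fin n) k) C) ∘ bC.equivFun.symm := by
    funext c
    simp only [pbMapHom, Function.comp_apply]
    rw [Module.Basis.equivFun_symm_apply, map_sum]
    refine Finset.sum_congr rfl fun α _ => ?_
    rw [Algebra.TensorProduct.basis_apply, TensorProduct.smul_tmul', smul_eq_mul, mul_one, hbT,
      relFrob_tmul, RingEquiv.symm_apply_apply, frobenius_def, ← prod_X_pow, map_prod]
    simp only [map_pow]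
  rw [hcomp]
  exact (bijective_relFrob_of_etale p (MvPolynomial (Fin n) k) C).comp bC.equivFun.symm.bijective

end etale

end Groth.Agent.Lib.Helper26.SdetA
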