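import Mathlib
import Groth.Agent.Lib.Helper26.SdetA

namespace Groth.Agent.Lib.Helper26.SdetB
open KaehlerDifferential
open Groth.Agent.Lib.Helper26.FrobSmC

universe u v

variable (p : ℕ) [Fact p.Prime] {k : Type u} [Field k] {A : Type v} [CommRing A]
  [Algebra k A] [CharP A p] {n : ℕ} (t : Fin n → A) (b : Module.Basis (Fin n) A Ω[A⁄k])

/-- the partial derivatives attached to the basis -/
noncomputable def pd (j : Fin n) : Derivation k A A := (b.coord j).compDer (D k A)

lemma pd_apply (j : Fin n) (a : A) : pd b j a = b.coord j (D k A a) := rfl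

variable {b}

lemma pd_t (hb : ∀ i, b i = D k A (t i)) (i j : Fin n) :
    pd b j (t i) = if i = j then 1 else 0 := by
  rw [pd_apply, ← hb, Module.Basis.coord_apply, Module.Basis.repr_self, Finsupp.single_apply]

lemma pd_pow_p (j : Fin n) (c : A) : pd b j (c ^ p) = 0 := by
  rw [Derivation.leibniz_pow, ← Nat.cast_smul_eq_nsmul A, CharP.cast_eq_zero A p, zero_smul]

variable (A) in
/-- the cast `𝔽_p → A` -/
noncomputable def zeta : ZMod p →+* A := ZMod.castHom (dvd_refl p) A

lemma zeta_pow (m : ZMod p) : zeta p A m ^ p = zeta p A m := by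
  rw [← map_pow, ZMod.pow_card]

lemma zeta_natCast (m : ℕ) : zeta p A (m : ZMod p) = (m : A) := map_natCast _ m

lemma pd_zeta (j : Fin n) (m : ZMod p) : pd b j (zeta p A m) = 0 := by
  have : zeta p A m = ((m.val : ℕ) : A) := by
    rw [← zeta_natCast, ZMod.natCast_zmod_val]
  rw [this, Derivation.map_natCast]

/-- weight vectors: joint eigenvectors of the Euler operators `t_j ∂_j` -/
def IsWt (b : Module.Basis (Fin n) A Ω[A⁄k]) (γ : Fin n → ZMod p) (a : A) : Prop :=
  ∀ j, t j * pd b j a = zeta p A (γ j) * a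

variable {p t}

lemma IsWt.mul {γ δ : Fin n → ZMod p} {a c : A} (ha : IsWt p t b γ a) (hc : IsWt p t b δ c) :
    IsWt p t b (γ + δ) (a * c) := by
  intro j
  rw [Derivation.leibniz, smul_eq_mul, smul_eq_mul, Pi.add_apply, map_add]
  have h1 := ha j
  have h2 := hc j
  linear_combination a * h2 + c * h1

lemma IsWt.zero (γ : Fin n → ZMod p) : IsWt p t b γ (0 : A) := by
  intro j; simp

lemma IsWt.add {γ : Fin n → ZMod p} {a c : A} (ha : IsWt p t b γ a) (hc : IsWt p t b γ c) :
    IsWt p t b γ (a + c) := by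
  intro j
  rw [map_add, mul_add, ha j, hc j, mul_add]

lemma IsWt.one : IsWt p t b 0 (1 : A) := by
  intro j; simp

lemma IsWt.pow_p (c : A) : IsWt p t b 0 (c ^ p) := by
  intro j
  rw [pd_pow_p, mul_zero, Pi.zero_apply, map_zero, zero_mul]

lemma IsWt.zeta (m : ZMod p) : IsWt p t b 0 (zeta p A m) := by
  intro j
  rw [pd_zeta, mul_zero, Pi.zero_apply, map_zero, zero_mul]

lemma IsWt.tvar (hb : ∀ i, b i = D k A (t i)) (i : Fin n) :
    IsWt p t b (Pi.single i 1) (t i) := by
  intro j
  rw [pd_t t hb]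
  by_cases h : i = j
  · subst h; simp
  · rw [if_neg h, mul_zero, Pi.single_eq_of_ne (Ne.symm h), map_zero, zero_mul]

lemma IsWt.prod {ι : Type*} (s : Finset ι) (γ : ι → Fin n → ZMod p) (a : ι → A)
    (h : ∀ i ∈ s, IsWt p t b (γ i) (a i)) : IsWt p t b (∑ i ∈ s, γ i) (∏ i ∈ s, a i) := by
  classical
  induction s using Finset.induction_on with
  | empty => simpa using IsWt.one
  | insert i s hi ih =>
    rw [Finset.sum_insert hi, Finset.prod_insert hi]
    exact (h i (Finset.mem_insert_self i s)).mul (ih fun j hj => h j (Finset.mem_insert_of_mem hj))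

lemma IsWt.pow {γ : Fin n → ZMod p} {a : A} (ha : IsWt p t b γ a) (m : ℕ) :
    IsWt p t b (m • γ) (a ^ m) := by
  induction m with
  | zero => simpa using IsWt.one
  | succ m ih => rw [pow_succ, succ_nsmul]; exact ih.mul ha

/-- the weight of a `Fin p`-exponent vector -/
def wtOf (α : Fin n → Fin p) : Fin n → ZMod p := fun i => ((α i : ℕ) : ZMod p)

lemma IsWt.monomial (hb : ∀ i, b i = D k A (t i)) (α : Fin n → Fin p) :
    IsWt p t b (wtOf α) (∏ i, t i ^ ((α i : Fin p) : ℕ)) := by
  have h := IsWt.prod (b := b) (t := t) Finset.univ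
    (fun i => ((α i : ℕ)) • (Pi.single i 1 : Fin n → ZMod p))
    (fun i => t i ^ ((α i : Fin p) : ℕ)) (fun i _ => (IsWt.tvar hb i).pow _)
  convert h using 1
  funext j
  simp only [wtOf, Finset.sum_apply, Pi.smul_apply]
  rw [Finset.sum_eq_single j]
  · simp
  · intro i _ hij
    rw [Pi.single_eq_of_ne (Ne.symm hij), smul_zero]
  · intro h; exact absurd (Finset.mem_univ _) h

end Groth.Agent.Lib.Helper26.SdetB
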