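import Mathlib
import Groth.Agent.Lib.Helper26.SdetB

namespace Groth.Agent.Lib.Helper26.SdetC
open KaehlerDifferential
open Groth.Agent.Lib.Helper26.FrobSmC Groth.Agent.Lib.Helper26.SdetB

universe u v

variable {p : ℕ} [Fact p.Prime] {k : Type u} [Field k] {A : Type v} [CommRing A]
  [Algebra k A] [CharP A p] {n : ℕ} {t : Fin n → A} {b : Module.Basis (Fin n) A Ω[A⁄k]}

lemma psi_apply (c : (Fin n → Fin p) → A) :
    pbMapHom p (frobenius A p) t c = ∑ α, (c α) ^ p * ∏ i, t i ^ ((α i : Fin p) : ℕ) := rfl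

lemma psi_add (c d : (Fin n → Fin p) → A) :
    pbMapHom p (frobenius A p) t (c + d) =
      pbMapHom p (frobenius A p) t c + pbMapHom p (frobenius A p) t d := by
  simp only [psi_apply, Pi.add_apply, add_pow_char, add_mul, Finset.sum_add_distrib]

lemma psi_smul (e : A) (c : (Fin n → Fin p) → A) :
    pbMapHom p (frobenius A p) t (fun α => e * c α) =
      e ^ p * pbMapHom p (frobenius A p) t c := by
  simp only [psi_apply, mul_pow, Finset.mul_sum, mul_assoc]

lemma psi_single (c : A) :
    pbMapHom p (frobenius A p) t (Pi.single (fun _ => 0) c) = c ^ p := by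
  classical
  rw [psi_apply, Finset.sum_eq_single (fun _ => (0 : Fin p))]
  · simp
  · intro α _ hα
    rw [Pi.single_eq_of_ne hα, zero_pow (Fact.out : p.Prime).ne_zero, zero_mul]
  · intro h; exact absurd (Finset.mem_univ _) h

lemma theta_psi (hb : ∀ i, b i = D k A (t i)) (j : Fin n) (c : (Fin n → Fin p) → A) :
    t j * pd b j (pbMapHom p (frobenius A p) t c) =
      pbMapHom p (frobenius A p) t (fun α => zeta p A (wtOf α j) * c α) := by
  rw [psi_apply, psi_apply, map_sum, Finset.mul_sum]
  refine Finset.sum_congr rfl fun α _ => ?_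
  rw [Derivation.leibniz, pd_pow_p, smul_zero, add_zero, smul_eq_mul, mul_pow, zeta_pow]
  have := IsWt.monomial (p := p) (t := t) (b := b) hb α j
  linear_combination (c α) ^ p * this

variable (hΨ : Function.Bijective (pbMapHom p (frobenius A p) t))

/-- the weight-zero coefficient -/
noncomputable def tau0 (a : A) : A := ((Equiv.ofBijective _ hΨ).symm a) (fun _ => 0) ^ p

lemma psi_symm (a : A) :
    pbMapHom p (frobenius A p) t ((Equiv.ofBijective _ hΨ).symm a) = a :=
  (Equiv.ofBijective _ hΨ).apply_symm_apply a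

lemma tau0_add (a a' : A) : tau0 hΨ (a + a') = tau0 hΨ a + tau0 hΨ a' := by
  unfold tau0
  have : (Equiv.ofBijective _ hΨ).symm (a + a') =
      (Equiv.ofBijective _ hΨ).symm a + (Equiv.ofBijective _ hΨ).symm a' := by
    apply (Equiv.ofBijective _ hΨ).injective
    rw [Equiv.apply_symm_apply]
    show _ = pbMapHom p (frobenius A p) t _
    rw [psi_add, psi_symm, psi_symm]
  rw [this, Pi.add_apply, add_pow_char]

lemma tau0_zero : tau0 hΨ (0 : A) = 0 := by
  have := tau0_add hΨ 0 0
  rw [add_zero] at this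
  exact left_eq_add.mp this

lemma tau0_sum {ι : Type*} (s : Finset ι) (f : ι → A) :
    tau0 hΨ (∑ i ∈ s, f i) = ∑ i ∈ s, tau0 hΨ (f i) := by
  classical
  induction s using Finset.induction_on with
  | empty => simpa using tau0_zero hΨ
  | insert i s hi ih => rw [Finset.sum_insert hi, Finset.sum_insert hi, tau0_add, ih]

lemma tau0_pow_p (c : A) : tau0 hΨ (c ^ p) = c ^ p := by
  unfold tau0
  have : (Equiv.ofBijective _ hΨ).symm (c ^ p) = Pi.single (fun _ => 0) c := by
    apply (Equiv.ofBijective _ hΨ).injective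
    rw [Equiv.apply_symm_apply]
    exact (psi_single c).symm
  rw [this, Pi.single_eq_same]

lemma tau0_of_isWt [IsDomain A] (hb : ∀ i, b i = D k A (t i)) {γ : Fin n → ZMod p} (hγ : γ ≠ 0)
    {a : A} (ha : IsWt p t b γ a) : tau0 hΨ a = 0 := by
  obtain ⟨j, hj⟩ : ∃ j, γ j ≠ 0 := by
    by_contra hcon
    push Not at hcon
    exact hγ (funext hcon)
  set c := (Equiv.ofBijective _ hΨ).symm a with hc
  have hac : pbMapHom p (frobenius A p) t c = a := psi_symm hΨ a
  have h1 := ha j
  rw [← hac, theta_psi hb] at h1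
  have h2 : zeta p A (γ j) * pbMapHom p (frobenius A p) t c =
      pbMapHom p (frobenius A p) t (fun α => zeta p A (γ j) * c α) := by
    rw [psi_smul, zeta_pow]
  rw [h2] at h1
  have h3 := congrFun (hΨ.1 h1) (fun _ => 0)
  have hw : wtOf (fun _ : Fin n => (0 : Fin p)) j = 0 := by
    haveI : NeZero p := ⟨(Fact.out : p.Prime).ne_zero⟩
    simp [wtOf]
  simp only [hw, map_zero, zero_mul] at h3
  have h4 : zeta p A (γ j) ≠ 0 := by
    rw [Ne, map_eq_zero_iff _ (RingHom.injective (zeta p A))]
    exact hj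
  have h5 : c (fun _ => 0) = 0 := by
    rcases mul_eq_zero.mp h3.symm with h | h
    · exact absurd h h4
    · exact h
  unfold tau0
  rw [← hc, h5, zero_pow (Fact.out : p.Prime).ne_zero]

end Groth.Agent.Lib.Helper26.SdetC
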