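import Mathlib
import Groth.Agent.Lib.Helper26.SdetC

namespace Groth.Agent.Lib.Helper26.SdetD
open KaehlerDifferential
open Groth.Agent.Lib.Helper26.FrobSmC Groth.Agent.Lib.Helper26.SdetB
  Groth.Agent.Lib.Helper26.SdetC

universe u v

variable {p : ℕ} [Fact p.Prime] {k : Type u} [Field k] {A : Type v} [CommRing A]
  [Algebra k A] [CharP A p] {n : ℕ} {t : Fin n → A} {b : Module.Basis (Fin n) A Ω[A⁄k]}

/-- coefficient weights -/
def wtO : Option (Fin n → Fin p) → (Fin n → ZMod p)
  | none => 0
  | some α => wtOf α

/-- row vectors over `𝔽_p` -/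
def rowO (i : Fin n) : Option (Fin n → Fin p) → (Fin n → ZMod p)
  | none => Pi.single i 1
  | some α => wtOf α

/-- coefficients -/
def coefO (t : Fin n → A) (c : Fin n → (Fin n → Fin p) → A) (i : Fin n) :
    Option (Fin n → Fin p) → A
  | none => t i ^ p
  | some α => (c i α) ^ p * ∏ l, t l ^ ((α l : Fin p) : ℕ)

lemma coefO_isWt (hb : ∀ i, b i = D k A (t i)) (c : Fin n → (Fin n → Fin p) → A) (i : Fin n)
    (o : Option (Fin n → Fin p)) : IsWt p t b (wtO o) (coefO t c i o) := by
  cases o with
  | none => exact IsWt.pow_p _
  | some α =>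
    have := (IsWt.pow_p (t := t) (b := b) (c i α)).mul (IsWt.monomial hb α)
    rwa [zero_add] at this

lemma row_expand (hb : ∀ i, b i = D k A (t i)) (c : Fin n → (Fin n → Fin p) → A) (i j : Fin n) :
    (if i = j then t i ^ p else 0) + t j * pd b j (pbMapHom p (frobenius A p) t (c i)) =
      ∑ o, coefO t c i o * zeta p A (rowO i o j) := by
  classical
  rw [Fintype.sum_option, theta_psi hb, psi_apply]
  congr 1
  · simp only [coefO, rowO, Pi.single_apply]
    split_ifs with h1 h2 h2
    · rw [map_one, mul_one]
    · exact absurd h1.symm h2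
    · exact absurd h2.symm h1
    · rw [map_zero, mul_zero]
  · refine Finset.sum_congr rfl fun α _ => ?_
    simp only [coefO, rowO]
    rw [mul_pow, zeta_pow]; ring

lemma det_expand (c : Fin n → (Fin n → Fin p) → A) :
    (Matrix.of fun i j : Fin n => ∑ o, coefO t c i o * zeta p A (rowO i o j)).det =
      ∑ r : Fin n → Option (Fin n → Fin p), (∏ i, coefO t c i (r i)) *
        zeta p A (Matrix.of fun i => rowO i (r i)).det := by
  classical
  have h1 : (Matrix.of fun i j : Fin n => ∑ o, coefO t c i o * zeta p A (rowO i o j)) =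
      fun i => ∑ o, coefO t c i o • (fun j => zeta p A (rowO i o j)) := by
    funext i j
    simp [Finset.sum_apply]
  have h2 := (Matrix.detRowAlternating (R := A) (n := Fin n)).toMultilinearMap.map_sum
    (fun i (o : Option (Fin n → Fin p)) => coefO t c i o • (fun j => zeta p A (rowO i o j)))
  show Matrix.detRowAlternating _ = _
  rw [h1]
  refine h2.trans (Finset.sum_congr rfl fun r _ => ?_)
  rw [MultilinearMap.map_smul_univ, smul_eq_mul, RingHom.map_det]
  rfl

theorem det_ne_zero [IsDomain A] (hb : ∀ i, b i = D k A (t i))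
    (hΨ : Function.Bijective (pbMapHom p (frobenius A p) t)) (f : Fin n → A) :
    (Matrix.of fun i j : Fin n =>
      (if i = j then t i ^ (p - 1) else 0) + pd b j (f i)).det ≠ 0 := by
  classical
  intro h0
  let c : Fin n → (Fin n → Fin p) → A := fun i => (Equiv.ofBijective _ hΨ).symm (f i)
  have hc : ∀ i, pbMapHom p (frobenius A p) t (c i) = f i := fun i => psi_symm hΨ (f i)
  have hN : (Matrix.of fun i j : Fin n =>
      (if i = j then t i ^ (p - 1) else 0) + pd b j (f i)) * Matrix.diagonal t =
      Matrix.of fun i j : Fin n => ∑ o, coefO t c i o * zeta p A (rowO i o j) := by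
    ext i j
    rw [Matrix.mul_diagonal, Matrix.of_apply, Matrix.of_apply, ← row_expand hb c i j, hc, add_mul]
    congr 1
    · split_ifs with h
      · subst h; rw [← pow_succ, Nat.sub_add_cancel (Fact.out : p.Prime).one_le]
      · rw [zero_mul]
    · rw [mul_comm]
  have hdet : ((Matrix.of fun i j : Fin n =>
      (if i = j then t i ^ (p - 1) else 0) + pd b j (f i)) * Matrix.diagonal t).det = 0 := by
    rw [Matrix.det_mul, h0, zero_mul]
  rw [hN, det_expand] at hdet
  have h2 := congrArg (tau0 hΨ) hdet
  rw [tau0_sum, tau0_zero] at h2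
  rw [Finset.sum_eq_single (fun _ => none)] at h2
  · -- main term
    simp only [coefO] at h2
    have h1 : (Matrix.of fun i : Fin n => rowO (p := p) i none) = 1 := by
      ext i j
      simp only [rowO, Matrix.of_apply, Matrix.one_apply, Pi.single_apply]
      simp only [eq_comm]
    rw [h1, Matrix.det_one, map_one, mul_one, Finset.prod_pow, tau0_pow_p] at h2
    obtain ⟨i, _, hi⟩ := Finset.prod_eq_zero_iff.mp (pow_eq_zero_iff (Fact.out : p.Prime).ne_zero |>.mp h2)
    have := b.ne_zero i
    rw [hb, hi, map_zero] at this
    exact this rfl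
  · intro r _ hr
    by_cases hγ : ∑ i, wtO (r i) = 0
    · -- det = 0
      have h3 : (Matrix.of fun i => rowO i (r i)).det = 0 := by
        rw [← Matrix.exists_vecMul_eq_zero_iff]
        refine ⟨fun i => if (r i).isSome then 1 else 0, ?_, ?_⟩
        · intro hv
          apply hr
          funext i
          have := congrFun hv i
          simp only [Pi.zero_apply, ite_eq_right_iff, one_ne_zero, imp_false,
            Bool.not_eq_true, Option.isSome_eq_false_iff, Option.isNone_iff_eq_none] at this
          exact this
        · funext j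
          rw [← hγ]
          simp only [Matrix.vecMul, dotProduct, Matrix.of_apply, Finset.sum_apply]
          refine Finset.sum_congr rfl fun i _ => ?_
          cases hri : r i with
          | none => simp [wtO]
          | some α => simp [wtO, rowO]
      rw [h3, map_zero, mul_zero, tau0_zero]
    · apply tau0_of_isWt hΨ hb hγ
      have h3 := IsWt.prod (b := b) (t := t) Finset.univ (fun i => wtO (r i))
        (fun i => coefO t c i (r i)) (fun i _ => coefO_isWt hb c i (r i))
      have h4 := h3.mul (IsWt.zeta (b := b) (t := t) ((Matrix.of fun i => rowO i (r i)).det))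
      rwa [add_zero] at h4
  · intro h; exact absurd (Finset.mem_univ _) h

end Groth.Agent.Lib.Helper26.SdetD
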