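import Mathlib
import Groth.Agent.Lib.Helper26.SdetD
import Groth.Agent.Lib.Helper12.EtCoord

namespace Groth.Agent.Lib.Helper26.SdetE
open KaehlerDifferential
open Groth.Agent.Lib.Helper26.FrobSmC Groth.Agent.Lib.Helper26.SdetB
  Groth.Agent.Lib.Helper26.SdetC Groth.Agent.Lib.Helper26.SdetD Groth.Agent.Lib.Helper26.SdetA

universe u v

theorem main_18154
    (p : ℕ) [Fact p.Prime] (k : Type u) [Field k] [IsAlgClosed k] [CharP k p]
    (A : Type v) [CommRing A] [IsDomain A] [Algebra k A] [Algebra.Smooth k A]
    {n : ℕ} (t : Fin n → A) (b : Module.Basis (Fin n) A (KaehlerDifferential k A))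
    (hb : ∀ i, b i = KaehlerDifferential.D k A (t i)) (f : Fin n → A) :
    (Matrix.of fun i j : Fin n =>
        (if i = j then t i ^ (p - 1) else 0) +
          b.coord j (KaehlerDifferential.D k A (f i))).det ≠ 0 := by
  haveI : CharP A p := charP_of_injective_algebraMap (algebraMap k A).injective p
  haveI : PerfectRing k p := inferInstance
  letI : Algebra (MvPolynomial (Fin n) k) A := (MvPolynomial.aeval t).toRingHom.toAlgebra
  haveI : IsScalarTower k (MvPolynomial (Fin n) k) A :=
    IsScalarTower.of_algebraMap_eq' (by ext; simp [RingHom.algebraMap_toAlgebra])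
  have halg : ∀ i, algebraMap (MvPolynomial (Fin n) k) A (MvPolynomial.X i) = t i := fun i => by
    simp [RingHom.algebraMap_toAlgebra]
  haveI : Algebra.FormallyEtale (MvPolynomial (Fin n) k) A :=
    Groth.Agent.Lib.Helper12.EtCoord.formallyEtale_mvPolynomial_of_basis t b hb halg
  haveI : Algebra.FinitePresentation (MvPolynomial (Fin n) k) A :=
    Algebra.FinitePresentation.of_restrict_scalars_finitePresentation k _ _
  haveI : Algebra.Etale (MvPolynomial (Fin n) k) A := ⟨inferInstance, inferInstance⟩
  have hΨ := pb_etale' p k n A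
  have h1 : (fun i => algebraMap (MvPolynomial (Fin n) k) A (MvPolynomial.X i)) = t := funext halg
  rw [h1] at hΨ
  exact det_ne_zero hb hΨ f

end Groth.Agent.Lib.Helper26.SdetE
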