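import Mathlib
import Groth.Prelude.Def_SekSuwa2
import Groth.Prelude.Def_Mor2

set_option autoImplicit false
universe u
open CategoryTheory AlgebraicGeometry Opposite Polynomial

namespace Groth.Agent.Lib.Helper26.SekSuwaFin

open SekSuwa

variable {R : Type u} [CommRing R] {lam : R} {N : ℕ}

lemma natDegree_q_le : (1 + C lam * X : R[X]).natDegree ≤ 1 := by
  refine (natDegree_add_le _ _).trans (max_le ?_ ?_)
  · simp
  · exact (natDegree_C_mul_le _ _).trans natDegree_X_le

lemma coeff_q_one : (1 + C lam * X : R[X]).coeff 1 = lam := by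
  simp [coeff_one]

lemma psiPoly_coeff (h : DivCond lam N) (n : ℕ) (hn : 0 < n) :
    lam ^ N * (psiPoly lam N h).coeff n = ((1 + C lam * X : R[X]) ^ N).coeff n := by
  have := congrArg (fun q => q.coeff n) (psiPoly_spec h)
  simp only [coeff_C_mul, coeff_sub, coeff_one] at this
  rw [if_neg (by omega), sub_zero] at this
  exact this

lemma psiPoly_natDegree_le (h : DivCond lam N) (hN : 0 < N) : (psiPoly lam N h).natDegree ≤ N := by
  rw [natDegree_le_iff_coeff_eq_zero]
  intro n hn
  have h1 := psiPoly_coeff h n (by omega)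
  have h0 : ((1 + C lam * X : R[X]) ^ N).coeff n = 0 := by
    apply coeff_eq_zero_of_natDegree_lt
    calc ((1 + C lam * X : R[X]) ^ N).natDegree ≤ N * 1 := natDegree_pow_le_of_le N natDegree_q_le
      _ < n := by omega
  rw [h0] at h1
  exact cancel_nzd h.pow_nzd (h1.trans (mul_zero _).symm)

lemma psiPoly_coeff_N (h : DivCond lam N) (hN : 0 < N) : (psiPoly lam N h).coeff N = 1 := by
  have h1 := psiPoly_coeff h N hN
  have h2 : ((1 + C lam * X : R[X]) ^ N).coeff (N * 1) = lam ^ N := by
    rw [coeff_pow_of_natDegree_le natDegree_q_le, coeff_q_one]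
  rw [mul_one] at h2
  rw [h2] at h1
  exact cancel_nzd h.pow_nzd (h1.trans (mul_one _).symm)

lemma psiPoly_monic (h : DivCond lam N) (hN : 0 < N) : (psiPoly lam N h).Monic :=
  monic_of_natDegree_le_of_coeff_eq_one N (psiPoly_natDegree_le h hN) (psiPoly_coeff_N h hN)

lemma psiPoly_natDegree [Nontrivial R] (h : DivCond lam N) (hN : 0 < N) :
    (psiPoly lam N h).natDegree = N :=
  natDegree_eq_of_le_of_coeff_ne_zero (psiPoly_natDegree_le h hN)
    (by rw [psiPoly_coeff_N h hN]; exact one_ne_zero)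

section equiv

variable (h : DivCond lam N) (hN : 0 < N)

include hN in
/-- in `AdjoinRoot P`, `(1 + λ root) * (1 + λ root)^(N-1) = 1`. -/
lemma root_rel : (1 + lam • AdjoinRoot.root (psiPoly lam N h)) *
    (1 + lam • AdjoinRoot.root (psiPoly lam N h)) ^ (N - 1) = 1 := by
  rw [← pow_succ', Nat.sub_add_cancel hN]
  have := aeval_psiPoly h (AdjoinRoot.root (psiPoly lam N h))
  rw [AdjoinRoot.aeval_eq, AdjoinRoot.mk_self, mul_zero] at this
  rw [Algebra.smul_def]
  exact (sub_eq_zero.mp this.symm)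

/-- the map `AK → AdjoinRoot P`. -/
noncomputable def toAdj : AK R lam N h →ₐ[R] AdjoinRoot (psiPoly lam N h) :=
  Ideal.Quotient.liftₐ (kerIdeal lam N h)
    (A.lift R lam (AdjoinRoot.root (psiPoly lam N h))
      ((1 + lam • AdjoinRoot.root (psiPoly lam N h)) ^ (N - 1)) (root_rel h hN))
    (by
      intro z hz
      obtain ⟨c, rfl⟩ := Ideal.mem_span_singleton'.mp hz
      rw [map_mul, kerGen, ← Polynomial.aeval_algHom_apply, A.lift_t, AdjoinRoot.aeval_eq,
        AdjoinRoot.mk_self, mul_zero])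

lemma toAdj_t : toAdj h hN AK.t = AdjoinRoot.root (psiPoly lam N h) := by
  exact A.lift_t _ _ (root_rel h hN)

lemma toAdj_inv : toAdj h hN AK.inv = (1 + lam • AdjoinRoot.root (psiPoly lam N h)) ^ (N - 1) := by
  exact A.lift_inv _ _ (root_rel h hN)

/-- the map `AdjoinRoot P → AK`. -/
noncomputable def ofAdj : AdjoinRoot (psiPoly lam N h) →ₐ[R] AK R lam N h :=
  AdjoinRoot.liftAlgHom (psiPoly lam N h) (Algebra.ofId R (AK R lam N h)) AK.t (by
    have := AK.aeval_t (R := R) (lam := lam) (N := N) (h := h)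
    rw [Polynomial.aeval_def] at this
    exact this)

lemma ofAdj_root : ofAdj h (AdjoinRoot.root (psiPoly lam N h)) = AK.t :=
  AdjoinRoot.liftAlgHom_root _ _ _ _

include hN in
lemma AK_inv_eq : (AK.inv : AK R lam N h) = (1 + lam • AK.t) ^ (N - 1) := by
  have e1 : (1 + lam • (AK.t : AK R lam N h)) * AK.inv = 1 := by
    have := congrArg (AK.mkHom R lam N h) (A.u_mul_inv (R := R) (lam := lam))
    rw [map_mul, map_one, A.u, map_add, map_one, map_smul] at this
    exact this
  have e2 : (1 + lam • (AK.t : AK R lam N h)) * (1 + lam • AK.t) ^ (N - 1) = 1 := by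
    rw [← pow_succ', Nat.sub_add_cancel hN, AK.u_pow]
  calc (AK.inv : AK R lam N h) = ((1 + lam • AK.t) * (1 + lam • AK.t) ^ (N - 1)) * AK.inv := by
        rw [e2, one_mul]
    _ = ((1 + lam • AK.t) * AK.inv) * (1 + lam • AK.t) ^ (N - 1) := by ring
    _ = _ := by rw [e1, one_mul]

/-- the coordinate ring of `G_{λ,N}` is `R[T]/(P)`. -/
noncomputable def equivAdj : AK R lam N h ≃ₐ[R] AdjoinRoot (psiPoly lam N h) :=
  AlgEquiv.ofAlgHom (toAdj h hN) (ofAdj h)
    (by
      apply AdjoinRoot.algHom_ext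
      rw [AlgHom.comp_apply, ofAdj_root, toAdj_t, AlgHom.id_apply])
    (by
      apply AK.algHom_ext
      · rw [AlgHom.comp_apply, toAdj_t, ofAdj_root, AlgHom.id_apply]
      · rw [AlgHom.comp_apply, toAdj_inv, map_pow, map_add, map_one, map_smul, ofAdj_root,
          AlgHom.id_apply, AK_inv_eq h hN])

end equiv

theorem main (R : Type u) [CommRing R] (lam : R) (N : ℕ) (hN : 0 < N) (h : SekSuwa.DivCond lam N) :
    Mor2.IsFinLocFreeOfDeg N (SekSuwa.GK R lam N h).hom := by
  have hm := psiPoly_monic h hN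
  let e := equivAdj h hN
  have : Module.Free R (AdjoinRoot (psiPoly lam N h)) := hm.free_adjoinRoot
  have : Module.Finite R (AdjoinRoot (psiPoly lam N h)) := hm.finite_adjoinRoot
  have : Module.Free R (AK R lam N h) := Module.Free.of_equiv e.symm.toLinearEquiv
  have : Module.Finite R (AK R lam N h) := Module.Finite.equiv e.symm.toLinearEquiv
  have : Algebra.FinitePresentation R (AK R lam N h) := Algebra.FinitePresentation.equiv e.symm
  show Mor2.IsFinLocFreeOfDeg N (Spec.map (CommRingCat.ofHom (algebraMap R (AK R lam N h))))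
  refine ⟨⟨?_, ?_, ?_⟩, ?_⟩
  · rw [IsFinite.SpecMap_iff]
    simpa [RingHom.finite_algebraMap]
  · rw [Flat.SpecMap_iff]
    have : Module.Flat R (AK R lam N h) := inferInstance
    simpa [RingHom.flat_algebraMap_iff]
  · rw [HasRingHomProperty.Spec_iff (P := @LocallyOfFinitePresentation)]
    simpa [RingHom.finitePresentation_algebraMap]
  · intro y
    have : Nontrivial R := (y : PrimeSpectrum R).nontrivial
    have hfl : Module.Flat R (AK R lam N h) := inferInstance
    have h1 := Scheme.Hom.finrank_SpecMap_algebraMap R (AK R lam N h) y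
    have h2 : ∀ x : PrimeSpectrum R, Module.rankAtStalk (R := R) (AK R lam N h) x = N := by
      intro x
      rw [Module.rankAtStalk_eq_finrank_of_free, Pi.natCast_apply, Nat.cast_id,
        LinearEquiv.finrank_eq e.toLinearEquiv, (AdjoinRoot.powerBasis' hm).finrank,
        AdjoinRoot.powerBasis'_dim, psiPoly_natDegree h hN]
    rw [h1]
    exact h2 y

end Groth.Agent.Lib.Helper26.SekSuwaFin
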