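import Mathlib
import Groth.Prelude.Def_SekSuwa2

set_option autoImplicit false
universe u
open CategoryTheory AlgebraicGeometry Opposite

namespace Groth.Agent.Lib.Helper26.SekSuwaInj

/-- global sections of a scheme flat over `Spec R` have no `lam`-torsion, for `lam` a
nonzerodivisor of `R`. -/
theorem torsionFree (R : Type u) [CommRing R] (X : Scheme.{u}) (π : X ⟶ Spec (CommRingCat.of R))
    [Flat π] (lam : R) (hlam : lam ∈ nonZeroDivisors R) (s : Γ(X, ⊤))
    (hs : (π.appTop.hom ((Scheme.ΓSpecIso (CommRingCat.of R)).inv.hom lam)) * s = 0) : s = 0 := by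
  apply X.sheaf.eq_of_locally_eq' (fun i : X.affineOpens => (i : X.Opens)) ⊤
    (fun i => homOfLE le_top) (iSup_affineOpens_eq_top X).ge
  intro V
  -- the flat ring map `R → Γ(X, V)`
  have hflat : (π.appLE ⊤ V.1 (by simp)).hom.Flat := Flat.flat_appLE π (isAffineOpen_top _) V.2 _
  let ψ : R →+* Γ(X, V.1) :=
    (π.appLE ⊤ V.1 (by simp)).hom.comp (Scheme.ΓSpecIso (CommRingCat.of R)).inv.hom
  have hψ : ψ.Flat := RingHom.Flat.comp
    (RingHom.Flat.of_bijective
      (ConcreteCategory.bijective_of_isIso (Scheme.ΓSpecIso (CommRingCat.of R)).inv)) hflat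
  algebraize [ψ]
  have hreg : IsSMulRegular Γ(X, V.1) lam := Module.Flat.isSMulRegular_of_nonZeroDivisors hlam
  have h1 : X.presheaf.map (homOfLE (le_top : V.1 ≤ ⊤)).op
      ((π.appTop.hom ((Scheme.ΓSpecIso (CommRingCat.of R)).inv.hom lam)) * s) = 0 := by
    rw [hs, map_zero]
  rw [map_mul] at h1
  have h2 : X.presheaf.map (homOfLE (le_top : V.1 ≤ ⊤)).op
      (π.appTop.hom ((Scheme.ΓSpecIso (CommRingCat.of R)).inv.hom lam)) = ψ lam := by
    show _ = (π.appLE ⊤ V.1 _).hom ((Scheme.ΓSpecIso (CommRingCat.of R)).inv.hom lam)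
    unfold Scheme.Hom.appLE
    rfl
  rw [h2] at h1
  have h3 : lam • (X.presheaf.map (homOfLE (le_top : V.1 ≤ ⊤)).op s) = lam • (0 : Γ(X, V.1)) := by
    rw [smul_zero, Algebra.smul_def]
    exact h1
  have h4 := hreg h3
  show X.presheaf.map (homOfLE (le_top : V.1 ≤ ⊤)).op s = X.presheaf.map (homOfLE (le_top : V.1 ≤ ⊤)).op 0
  rw [h4, map_zero]

/-- the underlying morphism to `Spec AK`, with the syntactically right type. -/
noncomputable def lft {R : Type u} [CommRing R] {p : ℕ} {lam : R} {h : SekSuwa.DivCond lam p}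
    {G : Over (Spec (CommRingCat.of R))} (e : G ⟶ SekSuwa.GK R lam p h) :
    G.left ⟶ Spec (CommRingCat.of (SekSuwa.AK R lam p h)) := e.left

open SekSuwa in
theorem main (R : Type u) [CommRing R] (p : ℕ) (lam : R) (h : SekSuwa.DivCond lam p)
    (G : Over (Spec (CommRingCat.of R))) [Flat G.hom]
    (f g : G ⟶ SekSuwa.GK R lam p h)
    (hfg : f ≫ SekSuwa.alphaN R lam p h = g ≫ SekSuwa.alphaN R lam p h) : f = g := by
  apply Over.OverMorphism.ext
  show lft f = lft g
  apply ext_of_isAffine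
  let X : Scheme.{u} := G.left
  let AKc : CommRingCat.{u} := CommRingCat.of (AK R lam p h)
  let Mc : CommRingCat.{u} := CommRingCat.of (MonoidAlgebra R (Multiplicative (ZMod p)))
  let a : CommRingCat.of R ⟶ AKc := CommRingCat.ofHom (algebraMap R (AK R lam p h))
  let α : Mc ⟶ AKc := CommRingCat.ofHom (alphaNHom R lam p h : _ →+* _)
  have hGK : (GK R lam p h).hom = Spec.map a := rfl
  let φ : (G ⟶ GK R lam p h) → (AKc ⟶ Γ(X, ⊤)) := fun e =>
    (Scheme.ΓSpecIso AKc).inv ≫ (lft e).appTop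
  let ρ : CommRingCat.of R ⟶ Γ(X, ⊤) := (Scheme.ΓSpecIso (CommRingCat.of R)).inv ≫ G.hom.appTop
  have hφρ : ∀ e, a ≫ φ e = ρ := by
    intro e
    have hw : lft e ≫ Spec.map a = G.hom := Over.w e
    show a ≫ (Scheme.ΓSpecIso AKc).inv ≫ (lft e).appTop = _
    rw [← Category.assoc, Scheme.ΓSpecIso_inv_naturality, Category.assoc, ← Scheme.Hom.comp_appTop,
      hw]
  have hα : α ≫ φ f = α ≫ φ g := by
    have h1 : lft f ≫ Spec.map α = lft g ≫ Spec.map α := congrArg (fun e => e.left) hfg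
    show α ≫ (Scheme.ΓSpecIso AKc).inv ≫ (lft f).appTop =
      α ≫ (Scheme.ΓSpecIso AKc).inv ≫ (lft g).appTop
    rw [← Category.assoc, ← Category.assoc, Scheme.ΓSpecIso_inv_naturality, Category.assoc,
      Category.assoc, ← Scheme.Hom.comp_appTop, ← Scheme.Hom.comp_appTop, h1]
  -- evaluate
  have hφsmul : ∀ e (r : R) (z : AK R lam p h), (φ e).hom (r • z) = ρ.hom r * (φ e).hom z := by
    intro e r z
    rw [Algebra.smul_def, map_mul]
    congr 1
    exact congrArg (fun k => k.hom r) (hφρ e)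
  have hu : (φ f).hom (1 + lam • AK.t) = (φ g).hom (1 + lam • AK.t) := by
    have := congrArg (fun k => k.hom (MonoidAlgebra.single (Multiplicative.ofAdd (1 : ZMod p)) 1)) hα
    simp only [CommRingCat.hom_comp, RingHom.comp_apply] at this
    have e1 : α.hom (MonoidAlgebra.single (Multiplicative.ofAdd (1 : ZMod p)) 1) = 1 + lam • AK.t :=
      alphaNHom_single_one R lam p h
    rw [e1] at this
    exact this
  have ht : (φ f).hom AK.t = (φ g).hom AK.t := by
    rw [map_add, map_add, map_one, map_one, hφsmul, hφsmul, add_right_inj, ← sub_eq_zero,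
      ← mul_sub] at hu
    have := torsionFree R X G.hom lam h.1 _ hu
    exact sub_eq_zero.mp this
  have e1 : (1 + lam • (AK.t : AK R lam p h)) * AK.inv = 1 := by
    have := congrArg (AK.mkHom R lam p h) (A.u_mul_inv (R := R) (lam := lam))
    rw [map_mul, map_one, A.u, map_add, map_one, map_smul] at this
    exact this
  have hinv : (φ f).hom AK.inv = (φ g).hom AK.inv := by
    have hf1 : (φ f).hom (1 + lam • AK.t) * (φ f).hom AK.inv = 1 := by
      rw [← map_mul, e1, map_one]
    have hg1 : (φ g).hom (1 + lam • AK.t) * (φ g).hom AK.inv = 1 := by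
      rw [← map_mul, e1, map_one]
    calc (φ f).hom AK.inv = (φ f).hom AK.inv * ((φ g).hom (1 + lam • AK.t) * (φ g).hom AK.inv) := by
          rw [hg1, mul_one]
      _ = ((φ f).hom (1 + lam • AK.t) * (φ f).hom AK.inv) * (φ g).hom AK.inv := by
          rw [← hu]; ring
      _ = (φ g).hom AK.inv := by rw [hf1, one_mul]
  -- conclude via `algHom_ext`
  let _ : Algebra R Γ(X, ⊤) := ρ.hom.toAlgebra
  let Φ : (G ⟶ GK R lam p h) → (AK R lam p h →ₐ[R] Γ(X, ⊤)) := fun e =>
    { (φ e).hom with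
      commutes' := fun r => congrArg (fun k => k.hom r) (hφρ e) }
  have hΦ : Φ f = Φ g := AK.algHom_ext ht hinv
  have hφ : φ f = φ g := by
    apply CommRingCat.hom_ext
    ext z
    exact congrArg (fun k => k z) hΦ
  exact (cancel_epi (Scheme.ΓSpecIso AKc).inv).mp hφ

end Groth.Agent.Lib.Helper26.SekSuwaInj
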