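import Mathlib

set_option autoImplicit false
set_option linter.style.haveILetI false
universe u

namespace Groth.Agent.Lib.Helper26.SkewSymA

open SkewMonoidAlgebra

variable {R A G : Type*} [CommRing R] [CommRing A] [Algebra R A] [Group G]
  [MulSemiringAction G A] [SMulCommClass G R A]

/-- the coefficient at `1` composed with a linear form -/
noncomputable def phi (τ : A →ₗ[R] R) : SkewMonoidAlgebra A G →ₗ[R] R :=
  τ ∘ₗ (Finsupp.lapply (1 : G)) ∘ₗ (coeffLinearEquiv (S := R) (k := A) (G := G)).toLinearMap

theorem phi_single [DecidableEq G] (τ : A →ₗ[R] R) (g : G) (a : A) :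
    phi τ (single g a) = if g = 1 then τ a else 0 := by
  unfold phi
  simp only [LinearMap.comp_apply, LinearEquiv.coe_coe, Finsupp.lapply_apply]
  have : (coeffLinearEquiv (S := R) (k := A) (G := G)) (single g a) = Finsupp.single g a := rfl
  rw [this, Finsupp.single_apply]
  split_ifs <;> simp

theorem phi_single_mul_single [DecidableEq G] (τ : A →ₗ[R] R) (g h : G) (a b : A) :
    phi τ (single g a * single h b) = if g * h = 1 then τ (a * g • b) else 0 := by
  rw [single_mul_single, phi_single]

theorem phi_symm (τ : A →ₗ[R] R) (hinv : ∀ (g : G) (a : A), τ (g • a) = τ a)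
    (x y : SkewMonoidAlgebra A G) : phi τ (x * y) = phi τ (y * x) := by
  classical
  induction x using SkewMonoidAlgebra.induction_on with
  | zero => simp
  | add x x' hx hx' => rw [add_mul, mul_add, map_add, map_add, hx, hx']
  | single g a =>
    induction y using SkewMonoidAlgebra.induction_on with
    | zero => simp
    | add y y' hy hy' => rw [add_mul, mul_add, map_add, map_add, hy, hy']
    | single h b =>
      rw [phi_single_mul_single, phi_single_mul_single]
      by_cases hgh : g * h = 1
      · have hhg : h * g = 1 := by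
          have : h = g⁻¹ := (eq_inv_of_mul_eq_one_right hgh)
          rw [this, inv_mul_cancel]
        rw [if_pos hgh, if_pos hhg]
        have h1 : τ (b * h • a) = τ (g • (b * h • a)) := (hinv g _).symm
        rw [h1, smul_mul', ← mul_smul, hgh, one_smul, mul_comm]
      · have hhg : ¬ h * g = 1 := by
          intro h1
          apply hgh
          have : g = h⁻¹ := (eq_inv_of_mul_eq_one_right h1)
          rw [this, inv_mul_cancel]
        rw [if_neg hgh, if_neg hhg]

theorem phi_single_mul [DecidableEq G] (τ : A →ₗ[R] R) (g : G) (a : A)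
    (z : SkewMonoidAlgebra A G) :
    phi τ (single g a * z) = τ (a * g • (z.coeff g⁻¹)) := by
  induction z using SkewMonoidAlgebra.induction_on with
  | zero => simp
  | add z z' hz hz' =>
    rw [mul_add, map_add, hz, hz', coeff_add, Finsupp.add_apply, smul_add, mul_add, map_add]
  | single h b =>
    rw [phi_single_mul_single, coeff_single, Finsupp.single_apply]
    by_cases hgh : g * h = 1
    · have : h = g⁻¹ := (eq_inv_of_mul_eq_one_right hgh)
      rw [if_pos hgh, if_pos this]
    · have : ¬ h = g⁻¹ := by
        intro h1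
        apply hgh
        rw [h1, mul_inv_cancel]
      rw [if_neg hgh, if_neg this, smul_zero, mul_zero, map_zero]

theorem phi_injective (τ : A →ₗ[R] R)
    (hnd : ∀ b : A, (∀ a, τ (a * b) = 0) → b = 0) :
    Function.Injective (fun y : SkewMonoidAlgebra A G =>
      fun x : SkewMonoidAlgebra A G => phi τ (x * y)) := by
  classical
  intro y y' hyy'
  have h1 : ∀ x : SkewMonoidAlgebra A G, phi τ (x * (y - y')) = 0 := by
    intro x
    rw [mul_sub, map_sub, sub_eq_zero]
    exact congrFun hyy' x
  have h2 : ∀ h : G, (y - y').coeff h = 0 := by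
    intro h
    have h3 : h⁻¹ • ((y - y').coeff h) = 0 := by
      apply hnd
      intro a
      have := h1 (single h⁻¹ a)
      rw [phi_single_mul, inv_inv] at this
      exact this
    have h4 := congrArg (fun t => h • t) h3
    simp only [smul_inv_smul, smul_zero] at h4
    exact h4
  have h5 : y - y' = 0 := SkewMonoidAlgebra.ext (fun h => by rw [h2 h]; rfl)
  exact sub_eq_zero.mp h5

theorem phi_surjective [Finite G] (τ : A →ₗ[R] R)
    (hsurj : ∀ ψ : A →ₗ[R] R, ∃ c : A, ∀ a, ψ a = τ (a * c))
    (ψ : SkewMonoidAlgebra A G →ₗ[R] R) :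
    ∃ y : SkewMonoidAlgebra A G, ∀ x, ψ x = phi τ (x * y) := by
  classical
  haveI : Fintype G := Fintype.ofFinite G
  let ψg : G → (A →ₗ[R] R) := fun g =>
    { toFun := fun a => ψ (single g a)
      map_add' := fun a b => by rw [single_add, map_add]
      map_smul' := fun r a => by rw [← smul_single, map_smul]; rfl }
  choose c hc using fun g => hsurj (ψg g)
  refine ⟨⟨Finsupp.equivFunOnFinite.symm (fun h => h • c h⁻¹)⟩, ?_⟩
  intro x
  induction x using SkewMonoidAlgebra.induction_on with
  | zero => simp
  | add x x' hx hx' => rw [add_mul, map_add, map_add, hx, hx']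
  | single g a =>
    rw [phi_single_mul]
    have h1 : (⟨Finsupp.equivFunOnFinite.symm (fun h => h • c h⁻¹)⟩ :
        SkewMonoidAlgebra A G).coeff g⁻¹ = g⁻¹ • c g := by
      simp
    rw [h1, smul_inv_smul]
    exact hc g a

theorem main_abstract [Finite G] (τ : A →ₗ[R] R) (hinv : ∀ (g : G) (a : A), τ (g • a) = τ a)
    (hnd : ∀ b : A, (∀ a, τ (a * b) = 0) → b = 0)
    (hsurj : ∀ ψ : A →ₗ[R] R, ∃ c : A, ∀ a, ψ a = τ (a * c)) :
    ∃ φ : SkewMonoidAlgebra A G →ₗ[R] R,
      (∀ x y : SkewMonoidAlgebra A G, φ (x * y) = φ (y * x)) ∧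
      Function.Injective (fun y : SkewMonoidAlgebra A G =>
        fun x : SkewMonoidAlgebra A G => φ (x * y)) ∧
      ∀ ψ : SkewMonoidAlgebra A G →ₗ[R] R, ∃ y : SkewMonoidAlgebra A G, ∀ x, ψ x = φ (x * y) :=
  ⟨phi τ, phi_symm τ hinv, phi_injective τ hnd, phi_surjective τ hsurj⟩

end Groth.Agent.Lib.Helper26.SkewSymA
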