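import Mathlib

set_option autoImplicit false
set_option linter.style.haveILetI false
universe u

namespace Groth.Agent.Lib.Helper26.SkewSymB

open MvPolynomial

variable {R : Type*} [CommRing R] {n : ℕ} (a : Fin n → R)

/-- the shift endomorphism of the polynomial ring -/
noncomputable def SS : MvPolynomial (Fin n) R →ₐ[R] MvPolynomial (Fin n) R :=
  aeval (fun i => X i + C (a i))

theorem SS_X (i : Fin n) : SS a (X i) = X i + C (a i) := by
  unfold SS
  rw [aeval_X]

/-- support of the shifted monomial and its leading coefficient -/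
theorem SS_monomial_aux (d : ℕ) : ∀ m : Fin n →₀ ℕ, m.degree = d →
    (∀ m' ∈ (SS a (monomial m 1)).support, m' ≤ m) ∧ coeff m (SS a (monomial m 1)) = 1 := by
  classical
  induction d with
  | zero =>
    intro m hm
    have hm0 : m = 0 := (Finsupp.degree_eq_zero_iff m).mp hm
    subst hm0
    have h1 : SS a (monomial 0 1) = 1 := by
      have : (monomial (0 : Fin n →₀ ℕ) (1 : R)) = 1 := rfl
      rw [this, map_one]
    rw [h1]
    constructor
    · intro m' hm'
      have : (1 : MvPolynomial (Fin n) R) = monomial 0 1 := rfl
      rw [this] at hm'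
      have h2 := support_monomial_subset hm'
      rw [Finset.mem_singleton] at h2
      rw [h2]
    · exact coeff_zero_one
  | succ d ih =>
    intro m hm
    have hm0 : m ≠ 0 := by
      intro h
      rw [h, map_zero] at hm
      omega
    obtain ⟨i, hi⟩ : ∃ i, m i ≠ 0 := by
      by_contra hcon
      push_neg at hcon
      exact hm0 (Finsupp.ext hcon)
    set m₀ : Fin n →₀ ℕ := m - Finsupp.single i 1 with hm₀
    have hle : Finsupp.single i 1 ≤ m := by
      rw [Finsupp.single_le_iff]
      omega
    have hsplit : m = m₀ + Finsupp.single i 1 := by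
      rw [hm₀, tsub_add_cancel_of_le hle]
    have hdeg : m₀.degree = d := by
      have := congrArg Finsupp.degree hsplit
      rw [map_add, Finsupp.degree_single, hm] at this
      omega
    obtain ⟨ih1, ih2⟩ := ih m₀ hdeg
    have hmon : (monomial m (1 : R)) = monomial m₀ 1 * X i := by
      rw [hsplit, X, monomial_mul, mul_one]
    have hS : SS a (monomial m 1) = SS a (monomial m₀ 1) * X i + a i • SS a (monomial m₀ 1) := by
      rw [hmon, map_mul, SS_X, mul_add, mul_comm _ (C (a i)), C_mul']
    constructor
    · intro m' hm'
      rw [hS] at hm'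
      rcases Finset.mem_union.mp (support_add hm') with h | h
      · rw [support_mul_X, Finset.mem_map] at h
        obtain ⟨m'', hm'', rfl⟩ := h
        rw [hsplit]
        exact add_le_add (ih1 m'' hm'') le_rfl
      · have h2 := ih1 m' (support_smul h)
        rw [hsplit]
        exact le_trans h2 le_self_add
    · rw [hS, coeff_add, coeff_smul]
      have h3 : coeff m (SS a (monomial m₀ 1) * X i) = 1 := by
        rw [hsplit, coeff_mul_X, ih2]
      have h4 : coeff m (SS a (monomial m₀ 1)) = 0 := by
        by_contra hne
        have h5 := ih1 m (mem_support_iff.mpr hne)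
        have h6 := congrArg Finsupp.degree hsplit
        have h7 : m.degree ≤ m₀.degree := Finsupp.degree_mono h5
        rw [map_add, Finsupp.degree_single] at h6
        omega
      rw [h3, h4, smul_zero, add_zero]

theorem SS_monomial_support (m m' : Fin n →₀ ℕ) (h : m' ∈ (SS a (monomial m 1)).support) :
    m' ≤ m := (SS_monomial_aux a m.degree m rfl).1 m' h

theorem SS_monomial_coeff (m : Fin n →₀ ℕ) : coeff m (SS a (monomial m 1)) = 1 :=
  (SS_monomial_aux a m.degree m rfl).2

theorem SS_eq_sum (q : MvPolynomial (Fin n) R) :
    SS a q = ∑ m ∈ q.support, coeff m q • SS a (monomial m 1) := by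
  conv_lhs => rw [q.as_sum]
  rw [map_sum]
  refine Finset.sum_congr rfl fun m _ => ?_
  rw [← map_smul, smul_monomial, smul_eq_mul, mul_one]

theorem SS_mem_restrictSupport (p : ℕ) (q : MvPolynomial (Fin n) R)
    (hq : q ∈ restrictSupport R {m : Fin n →₀ ℕ | ∀ i, m i < p}) :
    SS a q ∈ restrictSupport R {m : Fin n →₀ ℕ | ∀ i, m i < p} := by
  rw [SS_eq_sum]
  refine Submodule.sum_mem _ fun m hm => Submodule.smul_mem _ _ ?_
  rw [mem_restrictSupport_iff]
  intro m' hm' i
  have h1 : m' ≤ m := SS_monomial_support a m m' hm'
  have h2 : m i < p := ((mem_restrictSupport_iff (R := R)).mp hq) hm i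
  exact lt_of_le_of_lt (h1 i) h2

theorem coeff_SS_top (p : ℕ) (top : Fin n →₀ ℕ) (htop : ∀ i, top i = p - 1)
    (q : MvPolynomial (Fin n) R)
    (hq : q ∈ restrictSupport R {m : Fin n →₀ ℕ | ∀ i, m i < p}) :
    coeff top (SS a q) = coeff top q := by
  classical
  rw [SS_eq_sum, coeff_sum]
  have h1 : ∀ m ∈ q.support, coeff top (coeff m q • SS a (monomial m 1)) =
      if m = top then coeff top q else 0 := by
    intro m hm
    rw [coeff_smul]
    split_ifs with h
    · subst h
      rw [SS_monomial_coeff, smul_eq_mul, mul_one]
    · have h2 : coeff top (SS a (monomial m 1)) = 0 := by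
        by_contra hne
        have h3 : top ≤ m := SS_monomial_support a m top (mem_support_iff.mpr hne)
        apply h
        apply le_antisymm _ h3
        intro i
        have h4 : m i < p := ((mem_restrictSupport_iff (R := R)).mp hq) hm i
        rw [htop i]
        omega
      rw [h2, smul_zero]
  rw [Finset.sum_congr rfl h1, Finset.sum_ite_eq']
  split_ifs with h
  · rfl
  · exact (notMem_support_iff.mp h).symm

end Groth.Agent.Lib.Helper26.SkewSymB
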