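import Mathlib

set_option autoImplicit false
set_option linter.style.haveILetI false
universe u

namespace Groth.Agent.Lib.Helper26.SkewSymC

open IsLocalRing Matrix

theorem perfect_of_gram {R A ι : Type*} [CommRing R] [IsLocalRing R] [CommRing A] [Algebra R A]
    [Fintype ι] [DecidableEq ι] (b : Module.Basis ι R A) (τ : A →ₗ[R] R) (inv : ι → ι)
    (hinv : ∀ i, inv (inv i) = i)
    (hgram : ∀ i j, τ (b i * b j) - (if j = inv i then 1 else 0) ∈ maximalIdeal R) :
    (∀ c : A, (∀ a, τ (a * c) = 0) → c = 0) ∧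
      (∀ ψ : A →ₗ[R] R, ∃ c, ∀ a, ψ a = τ (a * c)) := by
  let Γ : Matrix ι ι R := Matrix.of fun i j => τ (b i * b j)
  let Pm : Matrix ι ι (ResidueField R) := Matrix.of fun i j => if j = inv i then 1 else 0
  have hΓPm : Γ.map (residue R) = Pm := by
    ext i j
    simp only [Matrix.map_apply, Γ, Pm, Matrix.of_apply]
    have h1 := hgram i j
    rw [← residue_eq_zero_iff, map_sub, sub_eq_zero] at h1
    rw [h1]
    split_ifs <;> simp
  have hPm : Pm * Pm = 1 := by
    ext i j
    simp only [Matrix.mul_apply, Pm, Matrix.of_apply, Matrix.one_apply]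
    rw [Finset.sum_eq_single (inv i)]
    · rw [if_pos rfl, one_mul]
      by_cases hij : i = j
      · subst hij
        rw [if_pos (hinv i).symm, if_pos rfl]
      · rw [if_neg hij, if_neg]
        intro h
        exact hij (by rw [h, hinv])
    · intro k _ hk
      rw [if_neg hk, zero_mul]
    · intro h
      exact absurd (Finset.mem_univ _) h
  have hdetPm : Pm.det ≠ 0 := by
    intro h0
    have := congrArg Matrix.det hPm
    rw [Matrix.det_mul, h0, mul_zero, Matrix.det_one] at this
    exact zero_ne_one this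
  have hdet : IsUnit Γ.det := by
    have h1 : residue R Γ.det = Pm.det := by
      rw [← hΓPm]
      exact RingHom.map_det (residue R) Γ
    by_contra hnu
    have h2 : Γ.det ∈ maximalIdeal R := (mem_maximalIdeal _).mpr hnu
    rw [← residue_eq_zero_iff, h1] at h2
    exact hdetPm h2
  have hΓinv : Γ⁻¹ * Γ = 1 := Matrix.nonsing_inv_mul Γ hdet
  have hΓinv' : Γ * Γ⁻¹ = 1 := Matrix.mul_nonsing_inv Γ hdet
  have hmul : ∀ (γ : ι → R) (i : ι), τ (b i * ∑ j, γ j • b j) = (Γ.mulVec γ) i := by
    intro γ i
    rw [Finset.mul_sum, map_sum]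
    simp only [Matrix.mulVec, dotProduct, Γ, Matrix.of_apply]
    refine Finset.sum_congr rfl fun j _ => ?_
    rw [mul_smul_comm, map_smul, smul_eq_mul, mul_comm]
  constructor
  · intro c hc
    have h1 : Γ.mulVec (b.equivFun c) = 0 := by
      funext i
      rw [← hmul, b.sum_equivFun, hc, Pi.zero_apply]
    have h2 : b.equivFun c = 0 := by
      have := congrArg (Γ⁻¹.mulVec) h1
      rw [Matrix.mulVec_mulVec, hΓinv, Matrix.one_mulVec, Matrix.mulVec_zero] at this
      exact this
    exact (LinearEquiv.map_eq_zero_iff _).mp h2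
  · intro ψ
    let v : ι → R := fun i => ψ (b i)
    let γ : ι → R := Γ⁻¹.mulVec v
    refine ⟨∑ j, γ j • b j, ?_⟩
    intro a
    have h1 : Γ.mulVec γ = v := by
      simp only [γ]
      rw [Matrix.mulVec_mulVec, hΓinv', Matrix.one_mulVec]
    have ha : a = ∑ i, b.equivFun a i • b i := (b.sum_equivFun a).symm
    conv_lhs => rw [ha]
    conv_rhs => rw [ha]
    rw [map_sum, Finset.sum_mul, map_sum]
    refine Finset.sum_congr rfl fun i _ => ?_
    rw [map_smul, smul_mul_assoc, map_smul, hmul, h1]

end Groth.Agent.Lib.Helper26.SkewSymC
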