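import Mathlib
import Groth.Agent.Lib.Helper26.SkewSymB

set_option autoImplicit false
set_option linter.style.haveILetI false
universe u

namespace Groth.Agent.Lib.Helper26.SkewSymD

open MvPolynomial Groth.Agent.Lib.Helper26.SkewSymB

variable {R A : Type*} [CommRing R] [CommRing A] [Algebra R A] {n : ℕ} (p : ℕ) (u : Fin n → A)

/-- exponents of reduced monomials -/
def redS (n p : ℕ) : Set (Fin n →₀ ℕ) := {m | ∀ i, m i < p}

theorem basis_apply (s : Set (Fin n →₀ ℕ)) (m : s) :
    ((basisRestrictSupport R s) m : MvPolynomial (Fin n) R) = monomial m.1 1 := by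
  classical
  have hmem : (monomial m.1 (1 : R)) ∈ restrictSupport R s :=
    (monomial_mem_restrictSupport (R := R)).mpr (Or.inl m.2)
  have h1 : (basisRestrictSupport R s).repr ⟨monomial m.1 1, hmem⟩ = Finsupp.single m 1 := by
    ext m'
    have h2 : (basisRestrictSupport R s).repr ⟨monomial m.1 1, hmem⟩ m' =
        coeff m'.1 (monomial m.1 (1 : R)) := rfl
    rw [h2, coeff_monomial, Finsupp.single_apply]
    by_cases h : m = m'
    · subst h
      rw [if_pos rfl, if_pos rfl]
    · rw [if_neg h, if_neg]
      intro h3
      exact h (Subtype.ext h3)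
  have h3 : (basisRestrictSupport R s) m = ⟨monomial m.1 1, hmem⟩ := by
    apply (basisRestrictSupport R s).repr.injective
    rw [h1, Module.Basis.repr_self]
  rw [h3]

section

variable (hspan : ∀ t : A, ∃ g ∈ restrictSupport R (redS n p), aeval u g = t)
  (hindep : ∀ g ∈ restrictSupport R (redS n p), aeval u g = 0 → g = 0)

/-- the linear equivalence from reduced polynomials -/
noncomputable def EE : restrictSupport R (redS n p) ≃ₗ[R] A :=
  LinearEquiv.ofBijective ((aeval u).toLinearMap.domRestrict (restrictSupport R (redS n p)))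
    ⟨by
      intro x y hxy
      have h1 : aeval u (x.1 - y.1) = 0 := by
        rw [map_sub, sub_eq_zero]
        exact hxy
      have h2 := hindep _ (Submodule.sub_mem _ x.2 y.2) h1
      exact Subtype.ext (sub_eq_zero.mp h2),
     by
      intro t
      obtain ⟨g, hg, rfl⟩ := hspan t
      exact ⟨⟨g, hg⟩, rfl⟩⟩

theorem EE_apply (q : restrictSupport R (redS n p)) : EE p u hspan hindep q = aeval u q.1 := rfl

/-- the monomial basis -/
noncomputable def bb : Module.Basis (redS n p) R A :=
  (basisRestrictSupport R (redS n p)).map (EE p u hspan hindep)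

theorem bb_apply (m : redS n p) :
    bb p u hspan hindep m = aeval u (monomial m.1 (1 : R)) := by
  unfold bb
  rw [Module.Basis.map_apply, EE_apply, basis_apply]

theorem bb_repr (q : restrictSupport R (redS n p)) (m : redS n p) :
    (bb p u hspan hindep).repr (aeval u q.1) m = coeff m.1 q.1 := by
  unfold bb
  rw [Module.Basis.map_repr, LinearEquiv.trans_apply]
  have : (EE p u hspan hindep).symm (aeval u q.1) = q := by
    rw [LinearEquiv.symm_apply_eq]
    rfl
  rw [this]
  rfl

end

section Tau

variable (hp : 0 < p)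
  (hspan : ∀ t : A, ∃ g ∈ restrictSupport R (redS n p), aeval u g = t)
  (hindep : ∀ g ∈ restrictSupport R (redS n p), aeval u g = 0 → g = 0)

/-- the top exponent -/
noncomputable def topE (n p : ℕ) : Fin n →₀ ℕ := Finsupp.equivFunOnFinite.symm (fun _ => p - 1)

theorem topE_apply (i : Fin n) : topE n p i = p - 1 := rfl

include hp in
theorem topE_mem : topE n p ∈ redS n p := by
  intro i
  rw [topE_apply]
  omega

/-- the top coefficient form -/
noncomputable def tau : A →ₗ[R] R :=
  (bb p u hspan hindep).coord ⟨topE n p, topE_mem p hp⟩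

theorem tau_aeval (q : MvPolynomial (Fin n) R) (hq : q ∈ restrictSupport R (redS n p)) :
    tau p u hp hspan hindep (aeval u q) = coeff (topE n p) q := by
  unfold tau
  rw [Module.Basis.coord_apply]
  exact bb_repr p u hspan hindep ⟨q, hq⟩ ⟨topE n p, topE_mem p hp⟩

theorem tau_invariant (a : Fin n → R) (σ : A →ₐ[R] A)
    (hσ : ∀ i, σ (u i) = u i + algebraMap R A (a i)) (t : A) :
    tau p u hp hspan hindep (σ t) = tau p u hp hspan hindep t := by
  obtain ⟨q, hq, rfl⟩ := hspan t
  have h1 : σ.comp (aeval u) = (aeval u).comp (SS a) := by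
    apply MvPolynomial.algHom_ext
    intro i
    rw [AlgHom.comp_apply, AlgHom.comp_apply, aeval_X, hσ, SS_X, map_add, aeval_X, aeval_C]
  have h2 : σ (aeval u q) = aeval u (SS a q) := DFunLike.congr_fun h1 q
  rw [h2, tau_aeval p u hp hspan hindep _ (SS_mem_restrictSupport a p q hq),
    tau_aeval p u hp hspan hindep _ hq]
  exact coeff_SS_top a p (topE n p) (fun i => topE_apply p i) q hq

end Tau

section Gram

open IsLocalRing

variable [IsLocalRing R] (hp : 0 < p)
  (hspan : ∀ t : A, ∃ g ∈ restrictSupport R (redS n p), aeval u g = t)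
  (hindep : ∀ g ∈ restrictSupport R (redS n p), aeval u g = 0 → g = 0)
  (hrel : ∀ i, ∃ d x : R, d ∈ maximalIdeal R ∧ x ∈ maximalIdeal R ∧
    u i ^ p = algebraMap R A d * u i + algebraMap R A x)

/-- the involution on reduced exponents -/
noncomputable def invE (m : redS n p) : redS n p :=
  ⟨Finsupp.equivFunOnFinite.symm (fun i => p - 1 - m.1 i), fun i => by
    have := m.2 i
    show p - 1 - m.1 i < p
    omega⟩

theorem invE_apply (m : redS n p) (i : Fin n) : (invE p m).1 i = p - 1 - m.1 i := rfl

theorem invE_invE (m : redS n p) : invE p (invE p m) = m := by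
  apply Subtype.ext
  ext i
  rw [invE_apply, invE_apply]
  have := m.2 i
  omega

theorem eq_invE_iff (m m' : redS n p) : m' = invE p m ↔ m.1 + m'.1 = topE n p := by
  constructor
  · intro h
    ext i
    rw [h, Finsupp.add_apply, invE_apply, topE_apply]
    have := m.2 i
    omega
  · intro h
    apply Subtype.ext
    ext i
    have h1 := DFunLike.congr_fun h i
    rw [Finsupp.add_apply, topE_apply] at h1
    rw [invE_apply]
    omega

include hrel in
theorem gram (m m' : redS n p) :
    tau p u hp hspan hindep (bb p u hspan hindep m * bb p u hspan hindep m') -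
      (if m' = invE p m then 1 else 0) ∈ maximalIdeal R := by
  classical
  have hmul : bb p u hspan hindep m * bb p u hspan hindep m' =
      aeval u (monomial (m.1 + m'.1) (1 : R)) := by
    rw [bb_apply, bb_apply, ← map_mul, monomial_mul, mul_one]
  rw [hmul]
  by_cases hA : m.1 + m'.1 ∈ redS n p
  · rw [tau_aeval p u hp hspan hindep _
      ((monomial_mem_restrictSupport (R := R)).mpr (Or.inl hA)), coeff_monomial]
    have h1 : (m' = invE p m) ↔ (m.1 + m'.1 = topE n p) := eq_invE_iff p m m'
    by_cases h2 : m.1 + m'.1 = topE n p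
    · rw [if_pos h2, if_pos (h1.mpr h2), sub_self]
      exact Ideal.zero_mem _
    · rw [if_neg h2, if_neg (fun h => h2 (h1.mp h)), sub_self]
      exact Ideal.zero_mem _
  · have hA' : ∃ i, p ≤ (m.1 + m'.1) i := by
      by_contra hcon
      push_neg at hcon
      exact hA hcon
    obtain ⟨i, hi⟩ := hA'
    obtain ⟨d, x, hd, hx, hux⟩ := hrel i
    have hne : ¬ m' = invE p m := by
      intro h
      have h1 := DFunLike.congr_fun ((eq_invE_iff p m m').mp h) i
      rw [topE_apply] at h1
      omega
    rw [if_neg hne, sub_zero]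
    have hle : Finsupp.single i p ≤ m.1 + m'.1 := by
      rw [Finsupp.single_le_iff]
      exact hi
    have hsplit : monomial (m.1 + m'.1) (1 : R) =
        monomial (m.1 + m'.1 - Finsupp.single i p) 1 * X i ^ p := by
      rw [X_pow_eq_monomial, monomial_mul, mul_one, tsub_add_cancel_of_le hle]
    rw [hsplit, map_mul, map_pow, aeval_X, hux, mul_add, ← mul_assoc,
      mul_comm _ (algebraMap R A d), mul_assoc, ← Algebra.smul_def,
      mul_comm _ (algebraMap R A x), ← Algebra.smul_def, map_add, map_smul, map_smul]
    exact Ideal.add_mem _ (Ideal.mul_mem_right _ _ hd) (Ideal.mul_mem_right _ _ hx)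

end Gram

end Groth.Agent.Lib.Helper26.SkewSymD
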