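import Mathlib
import Groth.Agent.Lib.Helper26.SkewSymA
import Groth.Agent.Lib.Helper26.SkewSymC
import Groth.Agent.Lib.Helper26.SkewSymD

set_option autoImplicit false
set_option linter.style.haveILetI false
universe u

namespace Groth.Agent.Lib.Helper26.SkewSymE

open MvPolynomial IsLocalRing Groth.Agent.Lib.Helper26.SkewSymA Groth.Agent.Lib.Helper26.SkewSymC
  Groth.Agent.Lib.Helper26.SkewSymD

theorem finite_redS (n p : ℕ) : Finite (redS n p) := by
  let f : redS n p → (Fin n → Fin p) := fun m i => ⟨m.1 i, m.2 i⟩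
  have hf : Function.Injective f := by
    intro m m' h
    apply Subtype.ext
    ext i
    have := congrFun h i
    exact congrArg Fin.val this
  exact Finite.of_injective f hf

theorem main_generic {R A G : Type*} [CommRing R] [IsLocalRing R] [CommRing A] [Algebra R A]
    [Group G] [Finite G] [MulSemiringAction G A] [SMulCommClass G R A] {n : ℕ} (p : ℕ) (hp : 0 < p)
    (u : Fin n → A)
    (hspan : ∀ t : A, ∃ g ∈ restrictSupport R (redS n p), aeval u g = t)
    (hindep : ∀ g ∈ restrictSupport R (redS n p), aeval u g = 0 → g = 0)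
    (hrel : ∀ i, ∃ d x : R, d ∈ maximalIdeal R ∧ x ∈ maximalIdeal R ∧
      u i ^ p = algebraMap R A d * u i + algebraMap R A x)
    (a : Fin n → R) (g : G) (hgen : ∀ h : G, h ∈ Subgroup.zpowers g)
    (hg : ∀ i, g • u i = u i + algebraMap R A (a i)) :
    ∃ φ : SkewMonoidAlgebra A G →ₗ[R] R,
      (∀ x y : SkewMonoidAlgebra A G, φ (x * y) = φ (y * x)) ∧
      Function.Injective (fun y : SkewMonoidAlgebra A G =>
        fun x : SkewMonoidAlgebra A G => φ (x * y)) ∧
      ∀ ψ : SkewMonoidAlgebra A G →ₗ[R] R, ∃ y : SkewMonoidAlgebra A G, ∀ x, ψ x = φ (x * y) := by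
  classical
  haveI := finite_redS n p
  haveI : Fintype (redS n p) := Fintype.ofFinite _
  let τ := tau p u hp hspan hindep
  -- invariance
  have hinv_g : ∀ t : A, τ (g • t) = τ t := by
    intro t
    exact tau_invariant p u hp hspan hindep a (MulSemiringAction.toAlgHom R A g) hg t
  let I : Subgroup G :=
    { carrier := {h | ∀ t : A, τ (h • t) = τ t}
      mul_mem' := fun {h h'} hh hh' t => by rw [mul_smul, hh, hh']
      one_mem' := fun t => by rw [one_smul]
      inv_mem' := fun {h} hh t => by
        have := hh (h⁻¹ • t)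
        rw [smul_inv_smul] at this
        exact this.symm }
  have hI : Subgroup.zpowers g ≤ I := by
    rw [Subgroup.zpowers_le]
    exact hinv_g
  have hinv : ∀ (h : G) (t : A), τ (h • t) = τ t := fun h => hI (hgen h)
  obtain ⟨hnd, hsurj⟩ := perfect_of_gram (bb p u hspan hindep) τ (invE p) (invE_invE p)
    (gram p u hp hspan hindep hrel)
  exact main_abstract τ hinv hnd hsurj

end Groth.Agent.Lib.Helper26.SkewSymE
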