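import Mathlib
import Groth.Agent.Lib.Helper26.ASFamA
import Groth.Agent.Lib.Helper26.ASInvF
import Groth.Agent.Lib.Helper26.SkewSymE

set_option autoImplicit false
set_option linter.style.haveILetI false
universe u v

namespace Groth.Agent.Lib.Helper26.SkewSymF

open MvPolynomial IsLocalRing Groth.Agent.Lib.Helper26.ASFamA Groth.Agent.Lib.Helper26.ASInvF
  Groth.Agent.Lib.Helper26.SkewSymD Groth.Agent.Lib.Helper26.SkewSymE

variable (p : ℕ) [hp : Fact p.Prime] (k : Type u) [Field k] (n : ℕ)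
  (a : Fin n → MvPowerSeries (Fin n) k)

omit hp in
theorem mem_maximalIdeal_of_constantCoeff (f : MvPowerSeries (Fin n) k)
    (hf : MvPowerSeries.constantCoeff f = 0) : f ∈ maximalIdeal (MvPowerSeries (Fin n) k) := by
  rw [mem_maximalIdeal, mem_nonunits_iff, MvPowerSeries.isUnit_iff_constantCoeff, hf]
  exact not_isUnit_zero

theorem main_15805 (ham : ∀ i, MvPowerSeries.constantCoeff (a i) = 0)
    (G : Type v) [Group G] [Finite G] [MulSemiringAction G (AA p k n a)]
    [SMulCommClass G (MvPowerSeries (Fin n) k) (AA p k n a)] (g : G)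
    (hgen : ∀ h : G, h ∈ Subgroup.zpowers g)
    (hg : ∀ i, g • uu p k n a i = uu p k n a i +
      algebraMap (MvPowerSeries (Fin n) k) (AA p k n a) (a i)) :
    ∃ φ : SkewMonoidAlgebra (AA p k n a) G →ₗ[MvPowerSeries (Fin n) k] MvPowerSeries (Fin n) k,
      (∀ x y : SkewMonoidAlgebra (AA p k n a) G, φ (x * y) = φ (y * x)) ∧
      Function.Injective (fun y : SkewMonoidAlgebra (AA p k n a) G =>
        fun x : SkewMonoidAlgebra (AA p k n a) G => φ (x * y)) ∧
      ∀ ψ : SkewMonoidAlgebra (AA p k n a) G →ₗ[MvPowerSeries (Fin n) k] MvPowerSeries (Fin n) k,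
        ∃ y : SkewMonoidAlgebra (AA p k n a) G, ∀ x, ψ x = φ (x * y) := by
  have hp1 : 1 < p := hp.out.one_lt
  refine main_generic (R := MvPowerSeries (Fin n) k) (A := AA p k n a) (G := G) p hp.out.pos
    (uu p k n a) (hspan_AA p k n a) (hindep_AA p k n a) ?_ a g hgen hg
  intro i
  refine ⟨a i ^ (p - 1), MvPowerSeries.X i, ?_, ?_, uu_rel p k n a i⟩
  · apply mem_maximalIdeal_of_constantCoeff
    rw [map_pow, ham i, zero_pow (by omega)]
  · apply mem_maximalIdeal_of_constantCoeff
    exact MvPowerSeries.constantCoeff_X i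

end Groth.Agent.Lib.Helper26.SkewSymF
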