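import Mathlib
import Groth.Agent.Lib.Helper26.ProjIntA
import Groth.Agent.Lib.Helper26.ProjIntB

namespace Groth.Agent.Lib.Helper26.SmIntA
universe u
open TensorProduct KaehlerDifferential Groth.Agent.Lib.Helper26

/-- the affine dimension theorem when the diagonal is cut out near the diagonal by `N` equations -/
theorem affine_dim' (k : Type u) [Field k] (S : Type u) [CommRing S] [Algebra k S]
    [Algebra.FiniteType k S] (N : ℕ) (x : Fin N → S) (g : S ⊗[k] S)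
    (hg1 : Algebra.TensorProduct.lmul' k g = 1)
    (hg : ∀ a : S, g * (a ⊗ₜ[k] (1 : S) - (1 : S) ⊗ₜ[k] a) ∈
      Ideal.span (Set.range fun i => x i ⊗ₜ[k] (1 : S) - (1 : S) ⊗ₜ[k] x i))
    (p q Q : Ideal S) [hp : p.IsPrime] [hq : q.IsPrime] (hQ : Q ∈ (p ⊔ q).minimalPrimes) :
    ringKrullDim (S ⧸ q) + ringKrullDim (S ⧸ p) ≤ ringKrullDim (S ⧸ Q) + (N : WithBot ℕ∞) := by
  haveI hQp : Q.IsPrime := hQ.1.1
  have hpQ : p ≤ Q := le_sup_left.trans hQ.1.2
  have hqQ : q ≤ Q := le_sup_right.trans hQ.1.2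
  haveI : Algebra.FiniteType k (S ⧸ p) :=
    Algebra.FiniteType.of_surjective (Ideal.Quotient.mkₐ k p) (Ideal.Quotient.mkₐ_surjective k p)
  haveI : Algebra.FiniteType k (S ⧸ q) :=
    Algebra.FiniteType.of_surjective (Ideal.Quotient.mkₐ k q) (Ideal.Quotient.mkₐ_surjective k q)
  haveI : Algebra.FiniteType k ((S ⧸ q) ⊗[k] (S ⧸ p)) :=
    Algebra.FiniteType.trans (inferInstance : Algebra.FiniteType k (S ⧸ q)) inferInstance
  let α : S ⧸ p →ₐ[k] S ⧸ Q := Ideal.Quotient.factorₐ k hpQ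
  let β : S ⧸ q →ₐ[k] S ⧸ Q := Ideal.Quotient.factorₐ k hqQ
  let ν : (S ⧸ q) ⊗[k] (S ⧸ p) →ₐ[k] S ⧸ Q := Algebra.TensorProduct.productMap β α
  have hν : ∀ (s t : S), ν (Ideal.Quotient.mk q s ⊗ₜ[k] Ideal.Quotient.mk p t) =
      Ideal.Quotient.mk Q (s * t) := by
    intro s t
    simp [ν, α, β]
  have hνsurj : Function.Surjective ν := by
    intro c
    obtain ⟨s, rfl⟩ := Ideal.Quotient.mk_surjective c
    exact ⟨Ideal.Quotient.mk q s ⊗ₜ[k] Ideal.Quotient.mk p 1, by rw [hν, mul_one]⟩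
  set 𝔎 : Ideal ((S ⧸ q) ⊗[k] (S ⧸ p)) := RingHom.ker ν with h𝔎
  haveI h𝔎p : 𝔎.IsPrime := RingHom.ker_isPrime ν
  have hdim𝔎 : ringKrullDim (((S ⧸ q) ⊗[k] (S ⧸ p)) ⧸ 𝔎) = ringKrullDim (S ⧸ Q) :=
    ringKrullDim_eq_of_ringEquiv (Ideal.quotientKerAlgEquivOfSurjective hνsurj).toRingEquiv
  obtain ⟨P', hP', hP'𝔎⟩ := Ideal.exists_minimalPrimes_le (bot_le : (⊥ : Ideal _) ≤ 𝔎)
  haveI hP'p : P'.IsPrime := hP'.1.1
  let Ψ : S ⊗[k] S →ₐ[k] (S ⧸ q) ⊗[k] (S ⧸ p) :=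
    Algebra.TensorProduct.map (Ideal.Quotient.mkₐ k q) (Ideal.Quotient.mkₐ k p)
  have hΨ : ∀ s t : S, Ψ (s ⊗ₜ[k] t) = Ideal.Quotient.mk q s ⊗ₜ[k] Ideal.Quotient.mk p t :=
    fun s t => rfl
  have hνΨ : ν.comp Ψ = (Ideal.Quotient.mkₐ k Q).comp (Algebra.TensorProduct.lmul' k) := by
    apply Algebra.TensorProduct.ext'
    intro s t
    rw [AlgHom.comp_apply, hΨ, hν, AlgHom.comp_apply, Algebra.TensorProduct.lmul'_apply_tmul]
    rfl
  have hνg : ν (Ψ g) = 1 := by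
    have := DFunLike.congr_fun hνΨ g
    rw [AlgHom.comp_apply, AlgHom.comp_apply, hg1, map_one] at this
    exact this
  let d : Fin N → (S ⧸ q) ⊗[k] (S ⧸ p) := fun i =>
    Ideal.Quotient.mk q (x i) ⊗ₜ[k] (1 : S ⧸ p) - (1 : S ⧸ q) ⊗ₜ[k] Ideal.Quotient.mk p (x i)
  have hd𝔎 : ∀ i, d i ∈ 𝔎 := by
    intro i
    rw [h𝔎, RingHom.mem_ker]
    have h1 := hν (x i) 1
    have h2 := hν 1 (x i)
    simp only [map_one] at h1 h2
    simp only [d, map_sub, h1, h2, mul_one, one_mul, sub_self]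
  have hΨd : ∀ a : S, Ψ g * (Ideal.Quotient.mk q a ⊗ₜ[k] (1 : S ⧸ p) -
      (1 : S ⧸ q) ⊗ₜ[k] Ideal.Quotient.mk p a) ∈ Ideal.span (Set.range d) := by
    intro a
    have h1 : Ψ (g * (a ⊗ₜ[k] (1 : S) - (1 : S) ⊗ₜ[k] a)) ∈
        (Ideal.span (Set.range fun i => x i ⊗ₜ[k] (1 : S) - (1 : S) ⊗ₜ[k] x i)).map Ψ :=
      Ideal.mem_map_of_mem _ (hg a)
    rw [Ideal.map_span] at h1
    have h2 : (Ψ '' Set.range fun i => x i ⊗ₜ[k] (1 : S) - (1 : S) ⊗ₜ[k] x i) = Set.range d := by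
      ext y
      constructor
      · rintro ⟨_, ⟨i, rfl⟩, rfl⟩
        refine ⟨i, ?_⟩
        simp only [d, map_sub, hΨ, map_one]
      · rintro ⟨i, rfl⟩
        refine ⟨_, ⟨i, rfl⟩, ?_⟩
        simp only [d, map_sub, hΨ, map_one]
    rw [h2] at h1
    simpa only [map_mul, map_sub, hΨ, map_one] using h1
  have hmin : 𝔎 ∈ (P' ⊔ Ideal.span (Set.range d)).minimalPrimes := by
    refine ⟨⟨h𝔎p, sup_le hP'𝔎 ?_⟩, ?_⟩
    · rw [Ideal.span_le]
      rintro _ ⟨i, rfl⟩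
      exact hd𝔎 i
    · rintro 𝔓 ⟨h𝔓p, hle⟩ h𝔓𝔎
      let lam₁ : S →ₐ[k] ((S ⧸ q) ⊗[k] (S ⧸ p)) ⧸ 𝔓 :=
        (Ideal.Quotient.mkₐ k 𝔓).comp
          ((Algebra.TensorProduct.includeRight (R := k) (A := S ⧸ q) (B := S ⧸ p)).comp
            (Ideal.Quotient.mkₐ k p))
      let lam₂ : S →ₐ[k] ((S ⧸ q) ⊗[k] (S ⧸ p)) ⧸ 𝔓 :=
        (Ideal.Quotient.mkₐ k 𝔓).comp
          ((Algebra.TensorProduct.includeLeft (R := k) (S := k) (A := S ⧸ q) (B := S ⧸ p)).comp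
            (Ideal.Quotient.mkₐ k q))
      have hl₁ : ∀ s, lam₁ s = Ideal.Quotient.mk 𝔓 ((1 : S ⧸ q) ⊗ₜ[k] Ideal.Quotient.mk p s) :=
        fun s => rfl
      have hl₂ : ∀ s, lam₂ s = Ideal.Quotient.mk 𝔓 (Ideal.Quotient.mk q s ⊗ₜ[k] (1 : S ⧸ p)) :=
        fun s => rfl
      have hgne : Ideal.Quotient.mk 𝔓 (Ψ g) ≠ 0 := by
        intro h0
        rw [Ideal.Quotient.eq_zero_iff_mem] at h0
        have := h𝔓𝔎 h0
        rw [h𝔎, RingHom.mem_ker, hνg] at this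
        exact one_ne_zero this
      have heq : lam₂ = lam₁ := by
        ext a
        have h0 : Ideal.Quotient.mk 𝔓 (Ψ g) * (lam₂ a - lam₁ a) = 0 := by
          rw [hl₁, hl₂, ← map_sub, ← map_mul, Ideal.Quotient.eq_zero_iff_mem]
          exact hle (le_sup_right (a := P') (hΨd a))
        rcases mul_eq_zero.mp h0 with h | h
        · exact absurd h hgne
        · exact sub_eq_zero.mp h
      have hl₂' : ∀ s, lam₁ s = Ideal.Quotient.mk 𝔓 (Ideal.Quotient.mk q s ⊗ₜ[k] (1 : S ⧸ p)) := by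
        intro s
        rw [← heq, hl₂]
      set 𝔮 : Ideal S := RingHom.ker lam₁ with h𝔮
      haveI : 𝔮.IsPrime := RingHom.ker_isPrime lam₁
      have hp𝔮 : p ≤ 𝔮 := by
        intro s hs
        rw [h𝔮, RingHom.mem_ker, hl₁, Ideal.Quotient.eq_zero_iff_mem.mpr hs, tmul_zero, map_zero]
      have hq𝔮 : q ≤ 𝔮 := by
        intro s hs
        rw [h𝔮, RingHom.mem_ker, hl₂', Ideal.Quotient.eq_zero_iff_mem.mpr hs, zero_tmul, map_zero]
      have h𝔮Q : 𝔮 ≤ Q := by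
        intro s hs
        rw [h𝔮, RingHom.mem_ker, hl₁, Ideal.Quotient.eq_zero_iff_mem] at hs
        have h1 : ν ((1 : S ⧸ q) ⊗ₜ[k] Ideal.Quotient.mk p s) = 0 := h𝔓𝔎 hs
        have h2 := hν 1 s
        simp only [map_one, one_mul] at h2
        rw [h2] at h1
        exact Ideal.Quotient.eq_zero_iff_mem.mp h1
      have hQ𝔮 : Q ≤ 𝔮 := hQ.2 ⟨inferInstance, sup_le hp𝔮 hq𝔮⟩ h𝔮Q
      let θ : S ⧸ Q →ₐ[k] ((S ⧸ q) ⊗[k] (S ⧸ p)) ⧸ 𝔓 :=
        Ideal.Quotient.liftₐ Q lam₁ (fun s hs => (RingHom.mem_ker).mp (hQ𝔮 hs))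
      have hθ : ∀ s, θ (Ideal.Quotient.mk Q s) = lam₁ s := fun s => rfl
      have hfac : Ideal.Quotient.mkₐ k 𝔓 = θ.comp ν := by
        apply Algebra.TensorProduct.ext'
        intro b a
        obtain ⟨s, rfl⟩ := Ideal.Quotient.mk_surjective b
        obtain ⟨t, rfl⟩ := Ideal.Quotient.mk_surjective a
        rw [AlgHom.comp_apply, hν, hθ, map_mul, hl₂' s, hl₁ t, ← map_mul,
          Algebra.TensorProduct.tmul_mul_tmul, mul_one, one_mul]
        rfl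
      intro e he
      rw [h𝔎, RingHom.mem_ker] at he
      have : Ideal.Quotient.mkₐ k 𝔓 e = 0 := by rw [hfac, AlgHom.comp_apply, he, map_zero]
      exact Ideal.Quotient.eq_zero_iff_mem.mp this
  have h1 := ProjIntA.dim_le_add k N P' d 𝔎 hmin
  have h2 := ProjIntB.dim_quot_minimalPrime k (S ⧸ p) (S ⧸ q) P' hP'
  rw [h2, hdim𝔎] at h1
  exact h1


theorem exists_g (k : Type u) [Field k] (A : Type u) [CommRing A] [Algebra k A]
    [Algebra.FiniteType k A] (N : ℕ) (x : Fin N → A)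
    (hx : Submodule.span A (Set.range fun i => KaehlerDifferential.D k A (x i)) = ⊤) :
    ∃ g : A ⊗[k] A, Algebra.TensorProduct.lmul' k g = 1 ∧
      ∀ a : A, g * (a ⊗ₜ[k] (1 : A) - (1 : A) ⊗ₜ[k] a) ∈
        Ideal.span (Set.range fun i => x i ⊗ₜ[k] (1 : A) - (1 : A) ⊗ₜ[k] x i) := by
  set I : Ideal (A ⊗[k] A) := KaehlerDifferential.ideal k A with hI
  set J : Ideal (A ⊗[k] A) :=
    Ideal.span (Set.range fun i => x i ⊗ₜ[k] (1 : A) - (1 : A) ⊗ₜ[k] x i) with hJ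
  have hJI : J ≤ I := by
    rw [hJ, Ideal.span_le]
    rintro _ ⟨i, rfl⟩
    have := KaehlerDifferential.one_smul_sub_smul_one_mem_ideal k (x i)
    have h2 : x i ⊗ₜ[k] (1 : A) - (1 : A) ⊗ₜ[k] x i = -((1 : A) ⊗ₜ[k] x i - x i ⊗ₜ[k] (1 : A)) := by
      ring
    show x i ⊗ₜ[k] (1 : A) - (1 : A) ⊗ₜ[k] x i ∈ I
    rw [h2]
    exact I.neg_mem this
  have hIfg : I.FG := KaehlerDifferential.ideal_fg k A
  -- every class in Ω is represented by an element of J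
  have hrep : ∀ ω : Ω[A⁄k], ∃ c : I, (c : A ⊗[k] A) ∈ J ∧ KaehlerDifferential.fromIdeal k A c = ω := by
    intro ω
    have hω : ω ∈ Submodule.span A (Set.range fun i => KaehlerDifferential.D k A (x i)) := by
      rw [hx]; trivial
    induction hω using Submodule.span_induction with
    | mem y hy =>
      obtain ⟨i, rfl⟩ := hy
      refine ⟨⟨(1 : A) ⊗ₜ[k] x i - x i ⊗ₜ[k] (1 : A),
        KaehlerDifferential.one_smul_sub_smul_one_mem_ideal k (x i)⟩, ?_, ?_⟩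
      · have h2 : (1 : A) ⊗ₜ[k] x i - x i ⊗ₜ[k] (1 : A) =
            -(x i ⊗ₜ[k] (1 : A) - (1 : A) ⊗ₜ[k] x i) := by ring
        change (1 : A) ⊗ₜ[k] x i - x i ⊗ₜ[k] (1 : A) ∈ J
        rw [h2]
        exact J.neg_mem (Ideal.subset_span ⟨i, rfl⟩)
      · exact (KaehlerDifferential.D_apply k A (x i)).symm
    | zero => exact ⟨0, J.zero_mem, map_zero _⟩
    | add y z _ _ hy hz =>
      obtain ⟨c, hc, rfl⟩ := hy
      obtain ⟨c', hc', rfl⟩ := hz
      exact ⟨c + c', J.add_mem hc hc', map_add _ _ _⟩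
    | smul a y _ hy =>
      obtain ⟨c, hc, rfl⟩ := hy
      refine ⟨(a ⊗ₜ[k] (1 : A)) • c, ?_, ?_⟩
      · change (a ⊗ₜ[k] (1 : A)) * (c : A ⊗[k] A) ∈ J
        exact J.mul_mem_left _ hc
      · rw [map_smul]
        have : a • KaehlerDifferential.fromIdeal k A c =
            (a • (1 : A ⊗[k] A)) • KaehlerDifferential.fromIdeal k A c := by
          rw [smul_assoc, one_smul]
        rw [this]
        congr 1
        rw [Algebra.TensorProduct.one_def, TensorProduct.smul_tmul', smul_eq_mul, mul_one]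
  have hle : I ≤ J ⊔ I • I := by
    intro b hb
    obtain ⟨c, hc, hcb⟩ := hrep (KaehlerDifferential.fromIdeal k A ⟨b, hb⟩)
    replace hcb : I.toCotangent c = I.toCotangent ⟨b, hb⟩ := hcb
    rw [Ideal.toCotangent_eq, pow_two] at hcb
    have : b = (c : A ⊗[k] A) + -((c : A ⊗[k] A) - b) := by ring
    rw [this]
    exact Submodule.add_mem_sup hc ((I • I).neg_mem hcb)
  obtain ⟨r, hr1, hr⟩ := Submodule.exists_sub_one_mem_and_smul_le_of_fg_of_le_sup
    (I := I) (N := J) (N' := I) (P := I) hIfg le_rfl hle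
  refine ⟨r, ?_, ?_⟩
  · have : Algebra.TensorProduct.lmul' k (r - 1) = 0 := hr1
    rw [map_sub, map_one, sub_eq_zero] at this
    exact this
  · intro a
    have ha : a ⊗ₜ[k] (1 : A) - (1 : A) ⊗ₜ[k] a ∈ I := by
      have := KaehlerDifferential.one_smul_sub_smul_one_mem_ideal k a
      have h2 : a ⊗ₜ[k] (1 : A) - (1 : A) ⊗ₜ[k] a = -((1 : A) ⊗ₜ[k] a - a ⊗ₜ[k] (1 : A)) := by
        ring
      rw [h2]
      exact I.neg_mem this
    exact hr (Submodule.smul_mem_pointwise_smul _ r I ha)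


theorem exists_coords (k : Type u) [Field k] (B : Type u) [CommRing B] [Algebra k B] [Nontrivial B]
    (n : ℕ) [h : Algebra.IsStandardSmoothOfRelativeDimension n k B] :
    ∃ x : Fin n → B,
      Submodule.span B (Set.range fun i => KaehlerDifferential.D k B (x i)) = ⊤ := by
  classical
  obtain ⟨ι, σ, hσ, hι, P, hP⟩ := h.out
  let b := P.basisKaehler
  haveI : Fintype ((Set.range P.map)ᶜ : Set ι) := Fintype.ofFinite _
  have hrank := Algebra.IsStandardSmoothOfRelativeDimension.rank_kaehlerDifferential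
    (R := k) (S := B) n
  have hcard : Fintype.card ((Set.range P.map)ᶜ : Set ι) = n := by
    have h1 := rank_eq_card_basis b
    rw [hrank] at h1
    exact_mod_cast h1.symm
  let e : Fin n ≃ ((Set.range P.map)ᶜ : Set ι) := (Fintype.equivFinOfCardEq hcard).symm
  refine ⟨fun i => P.val (e i), ?_⟩
  rw [eq_top_iff, ← b.span_eq]
  apply Submodule.span_mono
  rintro _ ⟨j, rfl⟩
  refine ⟨e.symm j, ?_⟩
  simp only [Equiv.apply_symm_apply]
  exact (P.basisKaehler_apply j).symm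


/-- the dimension inequality for intersections in a standard smooth algebra of relative dimension
`n` over a field -/
theorem alg_main (k : Type u) [Field k] (B : Type u) [CommRing B] [Algebra k B] (n : ℕ)
    [h : Algebra.IsStandardSmoothOfRelativeDimension n k B]
    (p q Q : Ideal B) [hp : p.IsPrime] [hq : q.IsPrime] (hQ : Q ∈ (p ⊔ q).minimalPrimes) :
    ringKrullDim (B ⧸ q) + ringKrullDim (B ⧸ p) ≤ ringKrullDim (B ⧸ Q) + (n : WithBot ℕ∞) := by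
  haveI : Nontrivial B := ⟨⟨0, 1, fun h01 => hp.ne_top (p.eq_top_iff_one.mpr (h01 ▸ p.zero_mem))⟩⟩
  haveI : Algebra.IsStandardSmooth k B := h.isStandardSmooth
  haveI : Algebra.FinitePresentation k B := inferInstance
  haveI : Algebra.FiniteType k B := inferInstance
  obtain ⟨x, hx⟩ := exists_coords k B n
  obtain ⟨g, hg1, hg⟩ := exists_g k B n x hx
  exact affine_dim' k B n x g hg1 hg p q Q hQ

end Groth.Agent.Lib.Helper26.SmIntA
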