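import Mathlib
import Groth.Agent.Lib.Helper26.SmIntA
import Groth.Agent.Lib.Helper26.SmIntB

namespace Groth.Agent.Lib.Helper26.SmIntC
universe u
open TopologicalSpace Topology AlgebraicGeometry CategoryTheory Groth.Agent.Lib.Helper26

theorem main_19416 (k : Type u) [Field k] (X : Scheme.{u})
    (f : X ⟶ Spec (CommRingCat.of k)) [Smooth f] [IsIntegral X]
    (n r s : ℕ) (hn : topologicalKrullDim X = n) (V W : Set X) (hVc : IsClosed V)
    (hVi : IsIrreducible V) (hWc : IsClosed W) (hWi : IsIrreducible W)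
    (hr : topologicalKrullDim ↥V = r) (hs : topologicalKrullDim ↥W = s) (Z : Set ↥(V ∩ W))
    (hZ : Z ∈ irreducibleComponents ↥(V ∩ W)) :
    ((r + s : ℕ) : WithBot ℕ∞) ≤ topologicalKrullDim ↥Z + n := by
  haveI : SmoothOfRelativeDimension n f :=
    Groth.Agent.Lib.Helper25.SmoothRelDimRank.smoothOfRelativeDimension_of_isIntegral f n hn
  haveI : LocallyOfFiniteType f := inferInstance
  obtain ⟨hZi, hZc, hZsub, hZmax, hZdim⟩ := AffIntA.component_image (V ∩ W) (hVc.inter hWc) Z hZ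
  obtain ⟨z, hz⟩ := hZi.nonempty
  obtain ⟨B, hB1, hB2, hB3, j, hj, hzj⟩ := SmIntB.exists_chart k X f n z
  have he : IsOpenEmbedding (j : Spec (CommRingCat.of B) → X) := j.isOpenEmbedding
  have hzV : z ∈ V := (hZsub hz).1
  have hzW : z ∈ W := (hZsub hz).2
  obtain ⟨h1, h2, h3, h4⟩ := SmIntB.preimage_component (j : Spec (CommRingCat.of B) → X) he V W _
    hVc hWc hZi hZc hZsub hZmax ⟨z, hz, hzj⟩
  have hVT : IsIrreducible ((j : Spec (CommRingCat.of B) → X) ⁻¹' V) :=
    hVi.preimage he ⟨z, hzV, hzj⟩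
  have hWT : IsIrreducible ((j : Spec (CommRingCat.of B) → X) ⁻¹' W) :=
    hWi.preimage he ⟨z, hzW, hzj⟩
  have key : topologicalKrullDim ↥((j : Spec (CommRingCat.of B) → X) ⁻¹' W) +
      topologicalKrullDim ↥((j : Spec (CommRingCat.of B) → X) ⁻¹' V) ≤
      topologicalKrullDim ↥((j : Spec (CommRingCat.of B) → X) ⁻¹' (Subtype.val '' Z)) +
        (n : WithBot ℕ∞) :=
    SmIntB.main_irr (T := ↥(Spec (CommRingCat.of B))) (R := B)
      (Homeomorph.refl (PrimeSpectrum B)) n
      (fun p q Q _ _ hQ => SmIntA.alg_main k B n p q Q hQ) _ _ _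
      (hVc.preimage he.continuous) hVT (hWc.preimage he.continuous) hWT h1 h2 h3 h4
  have hrange : Set.range (j : Spec (CommRingCat.of B) → X) = (j.opensRange : Set X) := rfl
  have dimeq : ∀ S : Set X, IsClosed S → IsIrreducible S → z ∈ S →
      topologicalKrullDim ↥((j : Spec (CommRingCat.of B) → X) ⁻¹' S) = topologicalKrullDim ↥S := by
    intro S hSc hSi hzS
    rw [SmIntB.dim_preimage_eq _ he.isEmbedding, hrange]
    exact SmIntB.dim_inter_open k X f S hSc hSi j.opensRange ⟨z, hzS, hzj⟩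
  rw [dimeq V hVc hVi hzV, dimeq W hWc hWi hzW, dimeq _ hZc hZi hz, ← hZdim, hr, hs] at key
  calc ((r + s : ℕ) : WithBot ℕ∞) = (s : WithBot ℕ∞) + (r : WithBot ℕ∞) := by
        push_cast; rw [add_comm]
    _ ≤ _ := key

end Groth.Agent.Lib.Helper26.SmIntC
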