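import Mathlib
import Groth.Agent.Lib.Helper12.MultFormula

set_option autoImplicit false
set_option linter.style.haveILetI false
set_option linter.unusedSectionVars false

namespace Groth.Agent.Lib.Helper26.Sop1

open Function
open scoped Pointwise
open Groth.Agent.Lib.Helper12.MultFormula Groth.Agent.Lib.Helper12.OneDim

universe u v

section Ell

variable {R : Type u} [CommRing R] (q : Ideal R) [q.IsPrime]

lemma ell_of_subsingleton (Q : Type v) [AddCommGroup Q] [Module R Q] [Subsingleton Q] :
    ell q Q = 0 := by
  rw [ell, Module.length_eq_zero_iff]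
  infer_instance

lemma ell_ker_add_range {X Y : Type v} [AddCommGroup X] [Module R X] [AddCommGroup Y]
    [Module R Y] (φ : X →ₗ[R] Y) :
    ell q X = ell q (LinearMap.ker φ) + ell q (LinearMap.range φ) :=
  ell_add q (LinearMap.ker φ).subtype φ.rangeRestrict
    (Submodule.injective_subtype _) φ.surjective_rangeRestrict
    (by
      rw [LinearMap.exact_iff, LinearMap.ker_rangeRestrict, Submodule.range_subtype])

lemma ell_le_of_injective {X Y : Type v} [AddCommGroup X] [Module R X] [AddCommGroup Y]
    [Module R Y] (φ : X →ₗ[R] Y) (hφ : Injective φ) : ell q X ≤ ell q Y := by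
  rw [ell_add q φ (LinearMap.range φ).mkQ hφ (Submodule.mkQ_surjective _)
    (LinearMap.exact_map_mkQ_range φ)]
  exact le_self_add

theorem ell_six {K₁ K₂ K₃ C₁ C₂ C₃ : Type v} [AddCommGroup K₁] [Module R K₁] [AddCommGroup K₂]
    [Module R K₂] [AddCommGroup K₃] [Module R K₃] [AddCommGroup C₁] [Module R C₁]
    [AddCommGroup C₂] [Module R C₂] [AddCommGroup C₃] [Module R C₃]
    (a : K₁ →ₗ[R] K₂) (b : K₂ →ₗ[R] K₃) (d : K₃ →ₗ[R] C₁) (e : C₁ →ₗ[R] C₂) (f : C₂ →ₗ[R] C₃)
    (ha : Injective a) (hab : Exact a b) (hbd : Exact b d) (hde : Exact d e) (hef : Exact e f)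
    (hf : Surjective f) :
    ell q K₁ + ell q K₃ + ell q C₂ = ell q K₂ + ell q C₁ + ell q C₃ ∧
      ell q K₂ ≤ ell q K₁ + ell q K₃ := by
  have h1 := ell_ker_add_range q b
  have h2 := ell_ker_add_range q d
  have h3 := ell_ker_add_range q e
  have h4 := ell_ker_add_range q f
  rw [LinearMap.exact_iff.mp hab] at h1
  rw [LinearMap.exact_iff.mp hbd] at h2
  rw [LinearMap.exact_iff.mp hde] at h3
  rw [LinearMap.exact_iff.mp hef] at h4
  have h6 : ell q (LinearMap.range f) = ell q C₃ := by
    rw [LinearMap.range_eq_top.mpr hf]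
    exact ell_congr q Submodule.topEquiv
  rw [h6] at h4
  have h5 : ell q (LinearMap.range a) = ell q K₁ :=
    (ell_congr q (LinearEquiv.ofInjective a ha)).symm
  rw [h5] at h1
  have h7 : ell q (LinearMap.range b) ≤ ell q K₃ :=
    ell_le_of_injective q (LinearMap.range b).subtype (Submodule.injective_subtype _)
  refine ⟨?_, ?_⟩
  · rw [h1, h2, h3, h4]
    ring
  · rw [h1]
    gcongr

end Ell

section Snake

variable {A : Type u} [CommRing A] (q : Ideal A) [q.IsPrime] (t : A)
variable {M' M M'' : Type v} [AddCommGroup M'] [Module A M'] [AddCommGroup M] [Module A M]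
  [AddCommGroup M''] [Module A M'']

/-- the `t`-torsion of a module -/
abbrev tors (N : Type v) [AddCommGroup N] [Module A N] : Submodule A N :=
  LinearMap.ker (t • (LinearMap.id : N →ₗ[A] N))

theorem ell_snake (i : M' →ₗ[A] M) (p : M →ₗ[A] M'') (hi : Injective i) (hp : Surjective p)
    (hex : Exact i p) :
    ell q (tors t M') + ell q (tors t M'') + ell q (QuotSMulTop t M) =
      ell q (tors t M) + ell q (QuotSMulTop t M') + ell q (QuotSMulTop t M'') ∧
    ell q (tors t M) ≤ ell q (tors t M') + ell q (tors t M'') := by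
  have h₁ : i.comp (t • (LinearMap.id : M' →ₗ[A] M')) = (t • (LinearMap.id : M →ₗ[A] M)).comp i := by
    ext x; simp
  have h₂ : p.comp (t • (LinearMap.id : M →ₗ[A] M)) = (t • (LinearMap.id : M'' →ₗ[A] M'')).comp p := by
    ext x; simp
  have hι₂ : Exact (LinearMap.ker (t • (LinearMap.id : M →ₗ[A] M))).subtype
      (t • (LinearMap.id : M →ₗ[A] M)) := LinearMap.exact_subtype_ker_map _
  have hι₃ : Exact (LinearMap.ker (t • (LinearMap.id : M'' →ₗ[A] M''))).subtype
      (t • (LinearMap.id : M'' →ₗ[A] M'')) := LinearMap.exact_subtype_ker_map _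
  refine ell_six q (kerMap t i) (kerMap t p)
    (SnakeLemma.δ' (t • (LinearMap.id : M' →ₗ[A] M')) (t • (LinearMap.id : M →ₗ[A] M))
      (t • (LinearMap.id : M'' →ₗ[A] M'')) i p hex i p hex h₁ h₂ _ hι₃ _ (exact_smul_mkQ t M') hp hi)
    (QuotSMulTop.map t i) (QuotSMulTop.map t p) ?_ ?_ ?_ ?_ ?_ ?_
  · intro x y hxy
    apply Subtype.ext
    apply hi
    have := congrArg Subtype.val hxy
    simpa using this
  · -- exactness at K₂
    intro x
    constructor
    · intro hx
      have hx' : p x = 0 := by
        have := congrArg Subtype.val hx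
        simpa using this
      obtain ⟨y, hy⟩ := (hex x).mp hx'
      have hty : t • y = 0 := by
        apply hi
        rw [map_smul, hy, map_zero]
        have := x.2
        rw [LinearMap.mem_ker, LinearMap.smul_apply, LinearMap.id_apply] at this
        exact this
      refine ⟨⟨y, ?_⟩, Subtype.ext hy⟩
      rw [LinearMap.mem_ker, LinearMap.smul_apply, LinearMap.id_apply]; exact hty
    · rintro ⟨y, rfl⟩
      apply Subtype.ext
      show p (i y) = 0
      exact hex.apply_apply_eq_zero _
  · exact SnakeLemma.exact_δ'_right _ _ _ _ _ hex _ _ hex h₁ h₂ _ hι₂ _ hι₃ _ (exact_smul_mkQ t M')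
      hp hi (kerMap t p) (by ext x; rfl) (Submodule.injective_subtype _)
  · exact SnakeLemma.exact_δ'_left _ _ _ _ _ hex _ _ hex h₁ h₂ _ hι₃ _ (exact_smul_mkQ t M')
      _ (exact_smul_mkQ t M) hp hi (QuotSMulTop.map t i) (by ext x; rfl)
      (Submodule.mkQ_surjective _)
  · exact QuotSMulTop.map_exact t hex hp
  · exact QuotSMulTop.map_surjective t hp

end Snake

section OneStep

variable {R : Type u} [CommRing R] [IsNoetherianRing R] [IsLocalRing R]

/-- codimension function -/
noncomputable abbrev cd (p : PrimeSpectrum R) : ℕ∞ := Order.coheight p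

lemma cd_lt {p q : PrimeSpectrum R} (h : p < q) : cd q + 1 ≤ cd p := Order.coheight_add_one_le h

lemma ell_quot_of_not_le (P p : PrimeSpectrum R) (h : ¬ P ≤ p) :
    ell p.asIdeal (R ⧸ P.asIdeal) = 0 := by
  apply ell_eq_zero
  rw [mem_support_quot_iff]
  exact h

lemma mem_support_of_equiv {N : Type v} [AddCommGroup N] [Module R N] (P : PrimeSpectrum R)
    (e : N ≃ₗ[R] R ⧸ P.asIdeal) (p : PrimeSpectrum R) :
    p ∈ Module.support R N ↔ P ≤ p := by
  rw [e.support_eq, mem_support_quot_iff]
  rfl

lemma one_le_ell_of_mem_support {N : Type v} [AddCommGroup N] [Module R N] (p : PrimeSpectrum R)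
    (h : p ∈ Module.support R N) : 1 ≤ ell p.asIdeal N := by
  rw [Order.one_le_iff_ne_zero]
  intro h0
  rw [ell, Module.length_eq_zero_iff] at h0
  rw [Module.mem_support_iff] at h
  exact not_subsingleton _ h0

variable (t : R) (T T' : Finset (PrimeSpectrum R))

/-- sum of local lengths over `T` -/
noncomputable def W (N : Type v) [AddCommGroup N] [Module R N] : ℕ∞ :=
  ∑ p ∈ T, ell p.asIdeal N

lemma W_add {N₁ N₂ N₃ : Type v} [AddCommGroup N₁] [Module R N₁] [AddCommGroup N₂] [Module R N₂]
    [AddCommGroup N₃] [Module R N₃] (f : N₁ →ₗ[R] N₂) (g : N₂ →ₗ[R] N₃) (hf : Injective f)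
    (hg : Surjective g) (hfg : Exact f g) : W T N₂ = W T N₁ + W T N₃ := by
  rw [W, W, W, ← Finset.sum_add_distrib]
  exact Finset.sum_congr rfl fun p _ => ell_add p.asIdeal f g hf hg hfg

lemma W_congr {N N' : Type v} [AddCommGroup N] [Module R N] [AddCommGroup N'] [Module R N']
    (e : N ≃ₗ[R] N') : W T N = W T N' :=
  Finset.sum_congr rfl fun p _ => ell_congr p.asIdeal e

lemma W_of_subsingleton (N : Type v) [AddCommGroup N] [Module R N] [Subsingleton N] :
    W T N = 0 :=
  Finset.sum_eq_zero fun p _ => ell_of_subsingleton p.asIdeal N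

theorem one_step (d : ℕ) (hT : ∀ p ∈ T, cd p = d + 1) (hT' : ∀ q ∈ T', cd q = d)
    (hlink : ∀ p ∈ T, t ∉ p.asIdeal → ∃ q ∈ T', p ≤ q ∧ t ∈ q.asIdeal)
    (N : Type v) [AddCommGroup N] [Module R N] [hN : Module.Finite R N]
    (h1 : ∀ p ∈ Module.support R N, cd p ≤ d + 1)
    (h2 : ∀ q ∈ Module.support R N, t ∈ q.asIdeal → cd q ≤ d) :
    W T' (tors t N) < ⊤ ∧ W T' (tors t N) + W T N ≤ W T' (QuotSMulTop t N) := by
  induction hN using IsNoetherianRing.induction_on_isQuotientEquivQuotientPrime R with
  | subsingleton N =>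
    rw [W_of_subsingleton, W_of_subsingleton, W_of_subsingleton]
    simp
  | quotient N P e =>
    have hPN : P ∈ Module.support R N := (mem_support_of_equiv P e P).mpr le_rfl
    by_cases htP : t ∈ P.asIdeal
    · -- `t` kills `N`
      have hcdP : cd P ≤ d := h2 P hPN htP
      have hkill : ∀ x : N, t • x = 0 := by
        intro x
        apply e.injective
        rw [map_smul, map_zero]
        obtain ⟨w, hw⟩ := Ideal.Quotient.mk_surjective (e x)
        rw [← hw, Algebra.smul_def, Ideal.Quotient.algebraMap_eq, ← map_mul,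
          Ideal.Quotient.eq_zero_iff_mem]
        exact Ideal.mul_mem_right _ _ htP
      have htop : tors t N = ⊤ := by
        rw [eq_top_iff]
        intro x _
        rw [LinearMap.mem_ker, LinearMap.smul_apply, LinearMap.id_apply]
        exact hkill x
      have hbot : t • (⊤ : Submodule R N) = ⊥ := by
        rw [eq_bot_iff]
        intro x hx
        obtain ⟨y, -, rfl⟩ := (Submodule.mem_smul_pointwise_iff_exists _ _ _).mp hx
        rw [Submodule.mem_bot]
        exact hkill y
      have eY : W T' (tors t N) = W T' N := by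
        rw [htop]
        exact W_congr T' Submodule.topEquiv
      have eX : W T' (QuotSMulTop t N) = W T' N :=
        W_congr T' (Submodule.quotEquivOfEqBot _ hbot)
      have hW : W T N = 0 := by
        apply Finset.sum_eq_zero
        intro p hp
        rw [ell_congr p.asIdeal e]
        apply ell_quot_of_not_le
        intro hle
        rcases hle.eq_or_lt with h | h
        · subst h
          rw [hT P hp] at hcdP
          exact absurd hcdP (by norm_cast; omega)
        · have := cd_lt h
          rw [hT p hp] at this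
          have h3 := this.trans hcdP
          exact absurd h3 (by norm_cast; omega)
      have hfin : W T' N < ⊤ := by
        rw [W, ENat.sum_lt_top]
        intro q hq
        rw [ell_congr q.asIdeal e]
        by_cases hle : P ≤ q
        · rcases hle.eq_or_lt with h | h
          · subst h
            rw [ell_quot_self]
            exact ENat.one_lt_top
          · have := cd_lt h
            rw [hT' q hq] at this
            have h3 := this.trans hcdP
            exact absurd h3 (by norm_cast; omega)
        · rw [ell_quot_of_not_le P q hle]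
          exact ENat.top_pos
      rw [eY, eX, hW, add_zero]
      exact ⟨hfin, le_rfl⟩
    · -- `t` is a nonzerodivisor on `N`
      have hcdP : cd P ≤ d + 1 := h1 P hPN
      have hsub : Subsingleton (tors t N) := by
        constructor
        have h0 : ∀ z : N, t • z = 0 → z = 0 := by
          intro z hz
          apply e.injective
          rw [map_zero]
          have hz1 : t • e z = 0 := by rw [← map_smul, hz, map_zero]
          obtain ⟨w, hw⟩ := Ideal.Quotient.mk_surjective (e z)
          rw [← hw, Algebra.smul_def, Ideal.Quotient.algebraMap_eq, ← map_mul,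
            Ideal.Quotient.eq_zero_iff_mem] at hz1
          rw [← hw, Ideal.Quotient.eq_zero_iff_mem]
          exact (P.2.mem_or_mem hz1).resolve_left htP
        rintro ⟨x, hx⟩ ⟨y, hy⟩
        rw [LinearMap.mem_ker, LinearMap.smul_apply, LinearMap.id_apply] at hx hy
        apply Subtype.ext
        show x = y
        rw [h0 x hx, h0 y hy]
      rw [W_of_subsingleton T' (tors t N), zero_add]
      refine ⟨ENat.top_pos, ?_⟩
      have hzero : ∀ p ∈ T, p ≠ P → ell p.asIdeal N = 0 := by
        intro p hp hne
        rw [ell_congr p.asIdeal e]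
        apply ell_quot_of_not_le
        intro hle
        have hlt : P < p := lt_of_le_of_ne hle (Ne.symm hne)
        have := cd_lt hlt
        rw [hT p hp] at this
        have h3 := this.trans hcdP
        exact absurd h3 (by norm_cast; omega)
      by_cases hPT : P ∈ T
      · have hW : W T N = 1 := by
          rw [W, Finset.sum_eq_single_of_mem P hPT (fun p hp hne => hzero p hp hne),
            ell_congr P.asIdeal e, ell_quot_self]
        obtain ⟨q, hq, hPq, htq⟩ := hlink P hPT htP
        have hqs : q ∈ Module.support R (QuotSMulTop t N) := by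
          rw [Module.support_quotSMulTop]
          refine ⟨(mem_support_of_equiv P e q).mpr hPq, ?_⟩
          rw [PrimeSpectrum.mem_zeroLocus, Set.singleton_subset_iff]
          exact htq
        rw [hW]
        refine (one_le_ell_of_mem_support q hqs).trans ?_
        have hsle : ∀ (s : Finset (PrimeSpectrum R)) (F : PrimeSpectrum R → ℕ∞) (a : PrimeSpectrum R),
            a ∈ s → F a ≤ ∑ x ∈ s, F x := fun s F a ha =>
          Finset.single_le_sum (f := F) (fun _ _ => zero_le) ha
        exact hsle T' (fun q => ell q.asIdeal (QuotSMulTop t N)) q hq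
      · have hW : W T N = 0 := by
          apply Finset.sum_eq_zero
          intro p hp
          exact hzero p hp (fun h => hPT (h ▸ hp))
        rw [hW]
        exact zero_le
  | exact N₁ N₂ N₃ f g hf hg hfg ih₁ ih₃ =>
    have hs1 := Module.support_subset_of_injective f hf
    have hs3 := Module.support_subset_of_surjective g hg
    obtain ⟨hY1, hI1⟩ := ih₁ (fun p hp => h1 p (hs1 hp)) (fun q hq => h2 q (hs1 hq))
    obtain ⟨hY3, hI3⟩ := ih₃ (fun p hp => h1 p (hs3 hp)) (fun q hq => h2 q (hs3 hq))
    have hsn : W T' (tors t N₁) + W T' (tors t N₃) + W T' (QuotSMulTop t N₂) =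
        W T' (tors t N₂) + W T' (QuotSMulTop t N₁) + W T' (QuotSMulTop t N₃) := by
      simp only [W, ← Finset.sum_add_distrib]
      exact Finset.sum_congr rfl fun q _ => (ell_snake q.asIdeal t f g hf hg hfg).1
    have hle : W T' (tors t N₂) ≤ W T' (tors t N₁) + W T' (tors t N₃) := by
      simp only [W, ← Finset.sum_add_distrib]
      exact Finset.sum_le_sum fun q _ => (ell_snake q.asIdeal t f g hf hg hfg).2
    have hW := W_add T f g hf hg hfg
    have hfin : W T' (tors t N₁) + W T' (tors t N₃) < ⊤ := ENat.add_lt_top.mpr ⟨hY1, hY3⟩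
    refine ⟨hle.trans_lt hfin, ?_⟩
    rw [← ENat.add_le_add_iff_left hfin.ne, hsn, hW]
    calc W T' (tors t N₁) + W T' (tors t N₃) + (W T' (tors t N₂) + (W T N₁ + W T N₃))
        = W T' (tors t N₂) + (W T' (tors t N₁) + W T N₁) + (W T' (tors t N₃) + W T N₃) := by ring
      _ ≤ W T' (tors t N₂) + W T' (QuotSMulTop t N₁) + W T' (QuotSMulTop t N₃) := by gcongr

end OneStep

end Groth.Agent.Lib.Helper26.Sop1
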