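import Mathlib
import Groth.Agent.Lib.Helper26.Sop1
import Groth.Agent.Lib.Helper26.KA2

set_option autoImplicit false
set_option linter.style.haveILetI false
set_option linter.unusedSectionVars false

namespace Groth.Agent.Lib.Helper26.Sop2

open Function
open scoped Pointwise
open Groth.Agent.Lib.Helper12.MultFormula Groth.Agent.Lib.Helper12.OneDim
open Groth.Agent.Lib.Helper26.Sop1

universe u v

section Dim

variable {R : Type u} [CommRing R] [IsNoetherianRing R] [IsLocalRing R]

lemma ringKrullDim_quotient_eq_cd (p : PrimeSpectrum R) :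
    ringKrullDim (R ⧸ p.asIdeal) = ((cd p : ℕ∞) : WithBot ℕ∞) := by
  rw [ringKrullDim_quotient, cd, Order.coheight_eq_krullDim_Ici]
  have : PrimeSpectrum.zeroLocus (p.asIdeal : Set R) = Set.Ici p := by
    ext q
    rw [PrimeSpectrum.mem_zeroLocus, Set.mem_Ici]
    rfl
  rw [this]

/-- finite length modules over a local ring are supported at the closed point -/
lemma support_of_isFiniteLength {N : Type v} [AddCommGroup N] [Module R N]
    (h : IsFiniteLength R N) : ∀ p ∈ Module.support R N, p = IsLocalRing.closedPoint R := by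
  induction h with
  | of_subsingleton =>
    intro p hp
    rw [Module.support_eq_empty] at hp
    exact absurd hp (Set.notMem_empty p)
  | @of_simple_quotient M _ _ N hs hN ih =>
    intro p hp
    rw [Module.support_of_exact (LinearMap.exact_subtype_mkQ N) (Submodule.injective_subtype _)
      (Submodule.mkQ_surjective _)] at hp
    rcases hp with hp | hp
    · exact ih p hp
    · obtain ⟨m₀, hm₀, ⟨e⟩⟩ := isSimpleModule_iff_quot_maximal.mp hs
      rw [e.support_eq, Module.mem_support_iff_of_finite, Ideal.annihilator_quotient] at hp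
      have h1 : m₀ = p.asIdeal := hm₀.eq_of_le p.2.ne_top hp
      apply PrimeSpectrum.ext
      rw [← h1]
      exact IsLocalRing.eq_maximalIdeal hm₀

lemma mk_mem_jacobson (I : Ideal R) {r : R} (hr : r ∈ IsLocalRing.maximalIdeal R) :
    Ideal.Quotient.mk I r ∈ Ring.jacobson (R ⧸ I) := by
  rw [Ring.jacobson_eq_sInf_isMaximal, Ideal.mem_sInf]
  intro M hM
  have hM : M.IsMaximal := hM
  have hc : (M.comap (Ideal.Quotient.mk I)).IsMaximal :=
    Ideal.comap_isMaximal_of_surjective _ Ideal.Quotient.mk_surjective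
  have := IsLocalRing.eq_maximalIdeal hc
  have hr' : r ∈ M.comap (Ideal.Quotient.mk I) := by rw [this]; exact hr
  exact hr'

/-- if `N/(g₁,…,g_k)N` has finite length, every prime in the support has `dim R/p ≤ k`. -/
theorem cd_le_of_finiteLength {N : Type v} [AddCommGroup N] [Module R N] [Module.Finite R N]
    (k : ℕ) (g : Fin k → R) (hg : ∀ i, g i ∈ IsLocalRing.maximalIdeal R)
    (hfin : IsFiniteLength R (N ⧸ (Ideal.span (Set.range g)) • (⊤ : Submodule R N)))
    (p : PrimeSpectrum R) (hp : p ∈ Module.support R N) : cd p ≤ k := by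
  classical
  let A := R ⧸ p.asIdeal
  let s : Finset A := Finset.univ.image (fun i => Ideal.Quotient.mk p.asIdeal (g i))
  have hs : (s : Set A) ⊆ Ring.jacobson A := by
    intro x hx
    simp only [s, Finset.coe_image, Finset.coe_univ, Set.image_univ, Set.mem_range] at hx
    obtain ⟨i, rfl⟩ := hx
    exact mk_mem_jacobson _ (hg i)
  have h1 := ringKrullDim_le_ringKrullDim_quotient_add_card s hs
  have hcard : s.card ≤ k := by
    refine Finset.card_image_le.trans ?_
    simp
  have h0 : ringKrullDim (A ⧸ Ideal.span (s : Set A)) ≤ 0 := by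
    rw [ringKrullDim_quotient]
    have : Subsingleton (PrimeSpectrum.zeroLocus (R := A) (Ideal.span (s : Set A))) := by
      constructor
      have key : ∀ Q : PrimeSpectrum A, Q ∈ PrimeSpectrum.zeroLocus (R := A) (Ideal.span (s : Set A)) →
          Q.asIdeal.comap (Ideal.Quotient.mk p.asIdeal) = IsLocalRing.maximalIdeal R := by
        intro Q hQ
        let q : PrimeSpectrum R := ⟨Q.asIdeal.comap (Ideal.Quotient.mk p.asIdeal), inferInstance⟩
        have hpq : p ≤ q := by
          intro x hx
          show Ideal.Quotient.mk p.asIdeal x ∈ Q.asIdeal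
          rw [Ideal.Quotient.eq_zero_iff_mem.mpr hx]
          exact Q.asIdeal.zero_mem
        have hq1 : q ∈ Module.support R N := Module.mem_support_mono hpq hp
        have hq2 : q ∈ PrimeSpectrum.zeroLocus (R := R) (Ideal.span (Set.range g)) := by
          rw [PrimeSpectrum.mem_zeroLocus, SetLike.coe_subset_coe, Ideal.span_le]
          rintro _ ⟨i, rfl⟩
          show Ideal.Quotient.mk p.asIdeal (g i) ∈ Q.asIdeal
          rw [PrimeSpectrum.mem_zeroLocus, SetLike.coe_subset_coe, Ideal.span_le] at hQ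
          apply hQ
          simp [s]
        have hq3 : q ∈ Module.support R (N ⧸ (Ideal.span (Set.range g)) • (⊤ : Submodule R N)) := by
          rw [Module.support_quotient]
          exact ⟨hq1, hq2⟩
        have := support_of_isFiniteLength hfin q hq3
        exact congrArg PrimeSpectrum.asIdeal this
      rintro ⟨Q₁, h₁⟩ ⟨Q₂, h₂⟩
      apply Subtype.ext
      apply PrimeSpectrum.ext
      have e1 := key Q₁ h₁
      have e2 := key Q₂ h₂
      have := e1.trans e2.symm
      exact Ideal.comap_injective_of_surjective _ Ideal.Quotient.mk_surjective this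
    exact Order.krullDim_nonpos_of_subsingleton
  have h2 : ringKrullDim A ≤ (k : WithBot ℕ∞) := by
    calc ringKrullDim A ≤ ringKrullDim (A ⧸ Ideal.span (s : Set A)) + s.card := h1
      _ ≤ 0 + (k : WithBot ℕ∞) := by
        gcongr
      _ = k := zero_add _
  rw [ringKrullDim_quotient_eq_cd] at h2
  exact_mod_cast h2

theorem exists_prime_cd (d : ℕ) (P : PrimeSpectrum R) (hP : cd P = d + 1) (t : R)
    (ht : t ∈ IsLocalRing.maximalIdeal R) (htP : t ∉ P.asIdeal) :
    ∃ q : PrimeSpectrum R, P ≤ q ∧ t ∈ q.asIdeal ∧ cd q = d := by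
  classical
  let A := R ⧸ P.asIdeal
  let x : A := Ideal.Quotient.mk P.asIdeal t
  have hs : (({x} : Finset A) : Set A) ⊆ Ring.jacobson A := by
    rw [Finset.coe_singleton, Set.singleton_subset_iff]
    exact mk_mem_jacobson _ ht
  have h1 := ringKrullDim_le_ringKrullDim_quotient_add_card ({x} : Finset A) hs
  rw [Finset.card_singleton, ringKrullDim_quotient_eq_cd, hP, Finset.coe_singleton] at h1
  have h2 : ((d : ℕ) : WithBot ℕ∞) ≤ ringKrullDim (A ⧸ Ideal.span {x}) := by
    generalize ringKrullDim (A ⧸ Ideal.span {x}) = y at h1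
    induction y with
    | bot => simp at h1
    | coe y =>
      norm_cast at h1 ⊢
      exact (ENat.add_le_add_iff_right (by simp)).mp h1
  rw [ringKrullDim_quotient] at h2
  obtain ⟨l, hl⟩ := Order.le_krullDim_iff.mp h2
  let F : ↥(PrimeSpectrum.zeroLocus (R := A) (Ideal.span {x})) → PrimeSpectrum R :=
    fun Q => ((Ideal.primeSpectrumQuotientOrderIsoZeroLocus P.asIdeal) Q.1).1
  have hF : StrictMono F := by
    intro Q₁ Q₂ h
    have h' : Q₁.1 < Q₂.1 := h
    exact (Ideal.primeSpectrumQuotientOrderIsoZeroLocus P.asIdeal).strictMono h'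
  let l' : LTSeries (PrimeSpectrum R) := l.map F hF
  have hlen : l'.length = d := hl
  have hcd1 : (d : ℕ∞) ≤ cd l'.head := by
    have := Order.length_le_coheight_head (p := l')
    rw [hlen] at this
    exact this
  have hhead : l'.head = F l.head := LTSeries.head_map _ _ _
  have hFa : ∀ Q, (F Q).asIdeal = Q.1.asIdeal.comap (Ideal.Quotient.mk P.asIdeal) := fun Q => rfl
  have hPq : P ≤ l'.head := by
    rw [hhead]
    intro y hy
    show y ∈ (F l.head).asIdeal
    rw [hFa, Ideal.mem_comap, Ideal.Quotient.eq_zero_iff_mem.mpr hy]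
    exact Ideal.zero_mem _
  have htq : t ∈ l'.head.asIdeal := by
    rw [hhead, hFa, Ideal.mem_comap]
    have := l.head.2
    rw [PrimeSpectrum.mem_zeroLocus, SetLike.coe_subset_coe, Ideal.span_le,
      Set.singleton_subset_iff] at this
    exact this
  refine ⟨l'.head, hPq, htq, le_antisymm ?_ hcd1⟩
  have hlt : P < l'.head := lt_of_le_of_ne hPq (fun h => htP (h ▸ htq))
  have := cd_lt hlt
  rw [hP] at this
  exact (ENat.add_le_add_iff_right (by simp)).mp this

end Dim

section Main

variable {R : Type u} [CommRing R] [IsNoetherianRing R] [IsLocalRing R]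

/-- `(N / tN) / J'(N / tN) ≃ N / ((t) + J')N` -/
noncomputable def quotQuotEquiv (N : Type v) [AddCommGroup N] [Module R N] (t : R) (J' : Ideal R) :
    ((QuotSMulTop t N) ⧸ J' • (⊤ : Submodule R (QuotSMulTop t N))) ≃ₗ[R]
      N ⧸ (Ideal.span {t} ⊔ J') • (⊤ : Submodule R N) := by
  have hle : t • (⊤ : Submodule R N) ≤ (Ideal.span {t} ⊔ J') • (⊤ : Submodule R N) := by
    intro x hx
    obtain ⟨y, -, rfl⟩ := (Submodule.mem_smul_pointwise_iff_exists _ _ _).mp hx
    exact Submodule.smul_mem_smul (Ideal.mem_sup_left (Ideal.mem_span_singleton_self t)) trivial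
  have hmap : ((Ideal.span {t} ⊔ J') • (⊤ : Submodule R N)).map (t • (⊤ : Submodule R N)).mkQ =
      J' • (⊤ : Submodule R (QuotSMulTop t N)) := by
    rw [Submodule.map_smul'', Submodule.map_top, Submodule.range_mkQ, Submodule.sup_smul]
    have : Ideal.span {t} • (⊤ : Submodule R (N ⧸ t • (⊤ : Submodule R N))) = ⊥ := by
      rw [Submodule.ideal_span_singleton_smul, eq_bot_iff]
      intro x hx
      obtain ⟨y, -, rfl⟩ := (Submodule.mem_smul_pointwise_iff_exists _ _ _).mp hx
      obtain ⟨n, rfl⟩ := Submodule.Quotient.mk_surjective _ y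
      rw [Submodule.mem_bot, ← Submodule.Quotient.mk_smul, Submodule.Quotient.mk_eq_zero]
      exact Submodule.smul_mem_pointwise_smul _ _ _ trivial
    rw [this, bot_sup_eq]
  exact (Submodule.quotEquivOfEq _ _ hmap.symm) ≪≫ₗ
    Submodule.quotientQuotientEquivQuotient _ _ hle

lemma span_range_eq {d : ℕ} (g : Fin (d + 1) → R) :
    Ideal.span (Set.range g) = Ideal.span {g 0} ⊔ Ideal.span (Set.range (Fin.tail g)) := by
  rw [← Ideal.span_union]
  congr 1
  ext x
  simp only [Set.mem_range, Set.singleton_union, Set.mem_insert_iff, Fin.tail]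
  constructor
  · rintro ⟨i, rfl⟩
    refine Fin.cases ?_ ?_ i
    · left; rfl
    · intro j; right; exact ⟨j, rfl⟩
  · rintro (rfl | ⟨j, rfl⟩)
    · exact ⟨0, rfl⟩
    · exact ⟨j.succ, rfl⟩

lemma ell_closedPoint_eq_length (N : Type u) [AddCommGroup N] [Module R N]
    (h : IsFiniteLength R N) :
    ell (IsLocalRing.maximalIdeal R) N = Module.length R N := by
  have hg := Groth.Agent.Lib.Helper26.KA2.good_of_isFiniteLength (A := R) N h
  rw [hg.2, Groth.Agent.Lib.Helper26.KA2.F]
  letI : Unique (MaximalSpectrum R) :=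
    ⟨⟨⟨IsLocalRing.maximalIdeal R, inferInstance⟩⟩,
      fun m => MaximalSpectrum.ext (IsLocalRing.eq_maximalIdeal m.isMaximal)⟩
  rw [finsum_unique]
  show _ = Module.length R (R ⧸ IsLocalRing.maximalIdeal R) * ell (IsLocalRing.maximalIdeal R) N
  have : Module.length R (R ⧸ IsLocalRing.maximalIdeal R) = 1 := by
    haveI := isSimpleModule_residue (B := R)
    exact Module.length_eq_one _ _
  rw [this, one_mul]

theorem main_ind (d : ℕ) : ∀ (N : Type u) [AddCommGroup N] [Module R N] [Module.Finite R N]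
    (g : Fin d → R) (_ : ∀ i, g i ∈ IsLocalRing.maximalIdeal R)
    (_ : IsFiniteLength R (N ⧸ (Ideal.span (Set.range g)) • (⊤ : Submodule R N)))
    (T : Finset (PrimeSpectrum R)) (_ : ∀ p ∈ T, cd p = d),
    W T N ≤ Module.length R (N ⧸ (Ideal.span (Set.range g)) • (⊤ : Submodule R N)) := by
  classical
  induction d with
  | zero =>
    intro N _ _ _ g hg hfin T hT
    have hbot : (Ideal.span (Set.range g)) • (⊤ : Submodule R N) = ⊥ := by
      rw [Set.range_eq_empty g, Ideal.span_empty, Submodule.bot_smul]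
    have e0 : (N ⧸ (Ideal.span (Set.range g)) • (⊤ : Submodule R N)) ≃ₗ[R] N :=
      Submodule.quotEquivOfEqBot _ hbot
    have hN : IsFiniteLength R N := e0.isFiniteLength hfin
    rw [e0.length_eq, ← ell_closedPoint_eq_length N hN]
    have hsub : T ⊆ {IsLocalRing.closedPoint R} := by
      intro p hp
      rw [Finset.mem_singleton]
      have h0 : cd p = 0 := by rw [hT p hp]; rfl
      rw [cd, Order.coheight_eq_zero] at h0
      have hle : p ≤ IsLocalRing.closedPoint R := IsLocalRing.le_maximalIdeal p.2.ne_top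
      exact le_antisymm hle (h0 hle)
    calc W T N ≤ W {IsLocalRing.closedPoint R} N :=
          Finset.sum_le_sum_of_subset hsub
      _ = ell (IsLocalRing.maximalIdeal R) N := by
          rw [W, Finset.sum_singleton]
          rfl
  | succ d ih =>
    intro N _ _ _ g hg hfin T hT
    set t := g 0 with ht
    set g' := Fin.tail g with hg'
    have hg'm : ∀ i, g' i ∈ IsLocalRing.maximalIdeal R := fun i => hg i.succ
    have e' : ((QuotSMulTop t N) ⧸ (Ideal.span (Set.range g')) •
        (⊤ : Submodule R (QuotSMulTop t N))) ≃ₗ[R]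
        (N ⧸ (Ideal.span (Set.range g)) • (⊤ : Submodule R N)) :=
      quotQuotEquiv N t (Ideal.span (Set.range g')) ≪≫ₗ
        Submodule.quotEquivOfEq _ _ (by rw [span_range_eq g])
    have hfin' : IsFiniteLength R ((QuotSMulTop t N) ⧸ (Ideal.span (Set.range g')) •
        (⊤ : Submodule R (QuotSMulTop t N))) := e'.symm.isFiniteLength hfin
    have h1 : ∀ p ∈ Module.support R N, cd p ≤ d + 1 := by
      intro p hp
      have := cd_le_of_finiteLength (d + 1) g hg hfin p hp
      exact_mod_cast this
    have h2 : ∀ q ∈ Module.support R N, t ∈ q.asIdeal → cd q ≤ d := by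
      intro q hq htq
      apply cd_le_of_finiteLength d g' hg'm hfin' q
      rw [Module.support_quotSMulTop]
      refine ⟨hq, ?_⟩
      rw [PrimeSpectrum.mem_zeroLocus, Set.singleton_subset_iff]
      exact htq
    have hex : ∀ p : PrimeSpectrum R, cd p = d + 1 ∧ t ∉ p.asIdeal →
        ∃ q : PrimeSpectrum R, p ≤ q ∧ t ∈ q.asIdeal ∧ cd q = d :=
      fun p h => exists_prime_cd d p h.1 t (hg 0) h.2
    let qf : PrimeSpectrum R → PrimeSpectrum R := fun p =>
      if h : cd p = d + 1 ∧ t ∉ p.asIdeal then (hex p h).choose else IsLocalRing.closedPoint R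
    have hqf : ∀ p, (h : cd p = d + 1 ∧ t ∉ p.asIdeal) →
        p ≤ qf p ∧ t ∈ (qf p).asIdeal ∧ cd (qf p) = d := by
      intro p h
      simp only [qf, dif_pos h]
      exact (hex p h).choose_spec
    let T' : Finset (PrimeSpectrum R) := (T.filter (fun p => t ∉ p.asIdeal)).image qf
    have hTd : ∀ p ∈ T, cd p = d + 1 := by
      intro p hp
      have := hT p hp
      exact_mod_cast this
    have hT' : ∀ q ∈ T', cd q = d := by
      intro q hq
      simp only [T', Finset.mem_image, Finset.mem_filter] at hq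
      obtain ⟨p, ⟨hp, htp⟩, rfl⟩ := hq
      exact (hqf p ⟨hTd p hp, htp⟩).2.2
    have hlink : ∀ p ∈ T, t ∉ p.asIdeal → ∃ q ∈ T', p ≤ q ∧ t ∈ q.asIdeal := by
      intro p hp htp
      refine ⟨qf p, ?_, (hqf p ⟨hTd p hp, htp⟩).1, (hqf p ⟨hTd p hp, htp⟩).2.1⟩
      simp only [T', Finset.mem_image, Finset.mem_filter]
      exact ⟨p, ⟨hp, htp⟩, rfl⟩
    obtain ⟨-, hstep⟩ := one_step t T T' d hTd hT' hlink N h1 h2
    have hih := ih (QuotSMulTop t N) g' hg'm hfin' T' hT'
    rw [e'.length_eq] at hih
    exact (le_add_self.trans hstep).trans hih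

theorem main_7117 (d : ℕ) (g : Fin d → R) (hg : ∀ i, g i ∈ IsLocalRing.maximalIdeal R) :
    (Set.ncard {p : Ideal R | p ∈ minimalPrimes R ∧ ringKrullDim (R ⧸ p) = d} : ℕ∞) ≤
      Module.length R (R ⧸ Ideal.span (Set.range g)) := by
  classical
  by_cases hfin : IsFiniteLength R (R ⧸ Ideal.span (Set.range g))
  swap
  · rw [← Module.length_ne_top_iff, not_not] at hfin
    rw [hfin]
    exact le_top
  set S : Set (Ideal R) := {p : Ideal R | p ∈ minimalPrimes R ∧ ringKrullDim (R ⧸ p) = d} with hS
  have hSfin : S.Finite :=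
    (Ideal.finite_minimalPrimes_of_isNoetherianRing R ⊥).subset (fun p hp => hp.1)
  let S' : Set (PrimeSpectrum R) := {p | p.asIdeal ∈ minimalPrimes R ∧ cd p = d}
  have himg : S = PrimeSpectrum.asIdeal '' S' := by
    ext p
    simp only [hS, S', Set.mem_ofPred_eq, Set.mem_image]
    constructor
    · rintro ⟨hp1, hp2⟩
      refine ⟨⟨p, hp1.1.1⟩, ⟨hp1, ?_⟩, rfl⟩
      have := ringKrullDim_quotient_eq_cd (⟨p, hp1.1.1⟩ : PrimeSpectrum R)
      rw [hp2] at this
      exact_mod_cast this.symm
    · rintro ⟨q, ⟨hq1, hq2⟩, rfl⟩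
      refine ⟨hq1, ?_⟩
      rw [ringKrullDim_quotient_eq_cd, hq2]
      rfl
  have hinj : Function.Injective (PrimeSpectrum.asIdeal (R := R)) :=
    fun p q h => PrimeSpectrum.ext h
  have hS'fin : S'.Finite := by
    apply Set.Finite.of_finite_image _ hinj.injOn
    rw [← himg]
    exact hSfin
  let T : Finset (PrimeSpectrum R) := hS'fin.toFinset
  have hcard : S.ncard = T.card := by
    rw [himg, Set.ncard_image_of_injective _ hinj, Set.ncard_eq_toFinset_card S' hS'fin]
  have hT : ∀ p ∈ T, cd p = d := by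
    intro p hp
    have : p ∈ S' := hS'fin.mem_toFinset.mp hp
    exact this.2
  have hI : (Ideal.span (Set.range g)) • (⊤ : Submodule R R) = Ideal.span (Set.range g) := by
    rw [smul_eq_mul, Ideal.mul_top]
  have e : (R ⧸ (Ideal.span (Set.range g)) • (⊤ : Submodule R R)) ≃ₗ[R]
      (R ⧸ Ideal.span (Set.range g)) := Submodule.quotEquivOfEq _ _ hI
  have key := main_ind d R g hg (e.symm.isFiniteLength hfin) T hT
  rw [e.length_eq] at key
  refine le_trans ?_ key
  rw [hcard, W]
  have hone : ∀ p ∈ T, (1 : ℕ∞) ≤ ell p.asIdeal R := by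
    intro p _
    apply one_le_ell_of_mem_support
    rw [Module.mem_support_iff_of_finite]
    have : Module.annihilator R R = ⊥ := Module.annihilator_eq_bot.mpr inferInstance
    rw [this]
    exact bot_le
  calc (T.card : ℕ∞) = ∑ p ∈ T, (1 : ℕ∞) := by simp
    _ ≤ ∑ p ∈ T, ell p.asIdeal R := Finset.sum_le_sum hone

end Main

end Groth.Agent.Lib.Helper26.Sop2
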