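import Mathlib
import Groth.Prelude.Def_CAlg
import Groth.Agent.Lib.Helper18.MCMFree
import Groth.Agent.Lib.Helper18.CM9
import Groth.Agent.Lib.Helper18.CompleteNakayama
import Groth.Agent.Lib.Helper9.AdicLimit
import Groth.Agent.Lib.Helper25.MatlisEnd
import Groth.Agent.Lib.Helper26.ASFamH

set_option autoImplicit false
set_option linter.style.haveILetI false
universe u

namespace Groth.Agent.Lib.Helper26.SopFree

open IsLocalRing Groth.Agent.Lib.Helper26.ASFamH

section Generic

variable {P A : Type u} [CommRing P] [IsRegularLocalRing P] [IsAdicComplete (maximalIdeal P) P]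
  [CommRing A] [IsRegularLocalRing A] [Algebra P A]

theorem map_le_maximalIdeal
    (hrad : ((maximalIdeal P).map (algebraMap P A)).radical = maximalIdeal A) :
    (maximalIdeal P).map (algebraMap P A) ≤ maximalIdeal A := by
  rw [← hrad]
  exact Ideal.le_radical

theorem isLocalHom_of_radical
    (hrad : ((maximalIdeal P).map (algebraMap P A)).radical = maximalIdeal A) :
    IsLocalHom (algebraMap P A) :=
  ((IsLocalRing.local_hom_TFAE (algebraMap P A)).out 0 2).mpr (map_le_maximalIdeal hrad)

theorem isFiniteLength_quot
    (hrad : ((maximalIdeal P).map (algebraMap P A)).radical = maximalIdeal A) :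
    IsFiniteLength A (A ⧸ (maximalIdeal P).map (algebraMap P A)) := by
  obtain ⟨N, hN⟩ := Ideal.exists_radical_pow_le_of_fg ((maximalIdeal P).map (algebraMap P A))
    (IsNoetherian.noetherian _)
  rw [hrad] at hN
  exact Groth.Agent.Lib.Helper25.isFiniteLength_quotient_of_pow_le hN

theorem finite_quot
    (hres : Function.Surjective ((residue A).comp (algebraMap P A)))
    (hrad : ((maximalIdeal P).map (algebraMap P A)).radical = maximalIdeal A) :
    Module.Finite P (A ⧸ (maximalIdeal P).map (algebraMap P A)) := by
  have h1 := isFiniteLength_quot (P := P) (A := A) hrad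
  have h2 : Module.length P (A ⧸ (maximalIdeal P).map (algebraMap P A)) ≠ ⊤ := by
    rw [← length_restrict_eq hres, Module.length_ne_top_iff]
    exact h1
  rw [Module.length_ne_top_iff] at h2
  obtain ⟨h3, _⟩ := isFiniteLength_iff_isNoetherian_isArtinian.mp h2
  infer_instance

theorem smul_top_eq (j : ℕ) :
    ((maximalIdeal P ^ j • ⊤ : Submodule P A) : Set A) =
      ((maximalIdeal P).map (algebraMap P A) ^ j : Ideal A) := by
  rw [Ideal.smul_top_eq_map, Ideal.map_pow]
  rfl

theorem isHausdorff_of_radical
    (hrad : ((maximalIdeal P).map (algebraMap P A)).radical = maximalIdeal A) :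
    IsHausdorff (maximalIdeal P) A := by
  refine ⟨fun y hy => ?_⟩
  have hH : IsHausdorff (maximalIdeal A) A := inferInstance
  apply hH.haus'
  intro j
  have h1 := hy j
  rw [SModEq.sub_mem, sub_zero] at h1 ⊢
  have h2 : y ∈ ((maximalIdeal P ^ j • ⊤ : Submodule P A) : Set A) := h1
  rw [smul_top_eq] at h2
  have h3 : y ∈ maximalIdeal A ^ j := Ideal.pow_right_mono (map_le_maximalIdeal hrad) j h2
  rw [smul_eq_mul, Ideal.mul_top]
  exact h3

theorem finite_of_sop
    (hres : Function.Surjective ((residue A).comp (algebraMap P A)))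
    (hrad : ((maximalIdeal P).map (algebraMap P A)).radical = maximalIdeal A) :
    Module.Finite P A := by
  classical
  haveI := finite_quot hres hrad
  obtain ⟨d, s, hs⟩ := Module.Finite.exists_fin (R := P)
    (M := A ⧸ (maximalIdeal P).map (algebraMap P A))
  have hlift : ∀ i, ∃ b : A, Ideal.Quotient.mk _ b = s i := fun i =>
    Ideal.Quotient.mk_surjective (s i)
  choose b hb using hlift
  let f : (Fin d → P) →ₗ[P] A := Fintype.linearCombination P b
  haveI : IsPrecomplete (maximalIdeal P) (Fin d → P) :=
    Groth.Agent.Lib.Helper9.isPrecomplete_pi (maximalIdeal P)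
  haveI : IsHausdorff (maximalIdeal P) A := isHausdorff_of_radical hrad
  have hsurj : Function.Surjective f := by
    apply Groth.Agent.Lib.Helper18.surjective_of_isPrecomplete_of_isHausdorff (maximalIdeal P) f
    rw [eq_top_iff]
    intro y _
    -- y mod J is in the span of the s i
    have hy : (Ideal.Quotient.mk ((maximalIdeal P).map (algebraMap P A)) y) ∈
        Submodule.span P (Set.range s) := by rw [hs]; trivial
    obtain ⟨c, hc⟩ := (Submodule.mem_span_range_iff_exists_fun P).mp hy
    have h1 : y - f c ∈ (maximalIdeal P).map (algebraMap P A) := by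
      rw [← Ideal.Quotient.eq_zero_iff_mem, map_sub, ← hc, sub_eq_zero]
      simp only [f, Fintype.linearCombination_apply, map_sum]
      refine Finset.sum_congr rfl fun i _ => ?_
      rw [← hb i, Algebra.smul_def, Algebra.smul_def, map_mul]
      rfl
    have h2 : y - f c ∈ (maximalIdeal P • ⊤ : Submodule P A) := by
      have := smul_top_eq (P := P) (A := A) 1
      rw [pow_one, pow_one] at this
      have h3 : y - f c ∈ ((maximalIdeal P • ⊤ : Submodule P A) : Set A) := by
        rw [this]; exact h1
      exact h3
    have h4 : y = f c + (y - f c) := by ring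
    rw [h4]
    exact Submodule.add_mem _ (Submodule.mem_sup_left ⟨c, rfl⟩) (Submodule.mem_sup_right h2)
  exact Module.Finite.of_surjective f hsurj

theorem free_of_sop
    (hres : Function.Surjective ((residue A).comp (algebraMap P A)))
    (hrad : ((maximalIdeal P).map (algebraMap P A)).radical = maximalIdeal A)
    (hdim : ringKrullDim P = ringKrullDim A) :
    Module.Finite P A ∧ Module.Free P A ∧
      (Module.finrank P A : ℕ∞) =
        Module.length A (A ⧸ (maximalIdeal P).map (algebraMap P A)) := by
  haveI hfin : Module.Finite P A := finite_of_sop hres hrad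
  haveI hloc : IsLocalHom (algebraMap P A) := isLocalHom_of_radical hrad
  have hdepth : LocCoh.depth P A = LocCoh.depth A A :=
    Groth.Agent.Lib.Helper18.CM.depth_eq_of_finite (A := P) (B := A) A
  have h1 : ringKrullDim A ≤ ((LocCoh.depth A A : ℕ∞) : WithBot ℕ∞) :=
    Groth.Agent.Lib.Helper18.CM.ringKrullDim_le_depth_of_free A A
  have h2 : ringKrullDim P ≤ ((LocCoh.depth P A : ℕ∞) : WithBot ℕ∞) := by
    rw [hdim, hdepth]; exact h1
  haveI hfree : Module.Free P A := Groth.Agent.Lib.Helper18.CM.free_of_le_depth P A h2
  refine ⟨hfin, hfree, ?_⟩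
  have h3 := length_quotient_map_eq (R := P) (A := A) (Module.finrank P A) rfl hres
    (maximalIdeal P)
  rw [h3]
  have h4 : Module.length P (P ⧸ maximalIdeal P) = 1 := by
    rw [Module.length_eq_one_iff, isSimpleModule_iff_isCoatom]
    exact Ideal.isMaximal_def.mp inferInstance
  rw [h4, mul_one]

end Generic

end Groth.Agent.Lib.Helper26.SopFree
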