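import Mathlib
import Groth.Agent.Lib.Helper1.ArtFunPS
import Groth.Agent.Lib.Helper1.ArtFunObsDimMain
import Groth.Agent.Lib.Helper23.CohenEq
import Groth.Agent.Lib.Helper26.SopFree

set_option autoImplicit false
set_option linter.style.haveILetI false
universe u v

namespace Groth.Agent.Lib.Helper26.SopFreeB

open IsLocalRing Groth.Agent.Lib.Helper26.SopFree

theorem main_15801
    (A : Type u) [CommRing A] [IsRegularLocalRing A]
    [IsAdicComplete (IsLocalRing.maximalIdeal A) A] (n : ℕ) (hn : ringKrullDim A = n)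
    (k : Type v) [Field k] [Algebra k A]
    (hk : Function.Surjective (IsLocalRing.residue A ∘ algebraMap k A))
    (x : Fin n → A) (hx : (Ideal.span (Set.range x)).radical = IsLocalRing.maximalIdeal A)
    (φ : MvPowerSeries (Fin n) k →ₐ[k] A) (hφ : ∀ i, φ (MvPowerSeries.X i) = x i) :
    ∃ (d : ℕ) (b : Fin d → A), (d : ℕ∞) = Module.length A (A ⧸ Ideal.span (Set.range x)) ∧
      Function.Bijective (fun r : Fin d → MvPowerSeries (Fin n) k => ∑ i, φ (r i) * b i) := by
  classical
  let κ := ResidueField A
  let ι : k →+* κ := (residue A).comp (algebraMap k A)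
  have hι : Function.Bijective ι := ⟨ι.injective, hk⟩
  let e : k ≃+* κ := RingEquiv.ofBijective ι hι
  let P' := MvPowerSeries (Fin n) κ
  let ψ : P' ≃+* MvPowerSeries (Fin n) k :=
    Groth.Agent.Lib.Helper23.CohenEq.mvPowerSeriesMapEquiv (Fin n) e.symm
  let g : P' →+* A := (φ : MvPowerSeries (Fin n) k →+* A).comp (ψ : P' →+* MvPowerSeries (Fin n) k)
  letI : Algebra P' A := g.toAlgebra
  have halg : ∀ r : P', algebraMap P' A r = φ (ψ r) := fun r => rfl
  haveI hfield : IsAdicComplete (maximalIdeal κ) κ := by
    rw [IsLocalRing.maximalIdeal_eq_bot]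
    infer_instance
  haveI hPc : IsAdicComplete (maximalIdeal P') P' :=
    Groth.Agent.Lib.Helper1.ArtFunLib.PS.isAdicComplete_mvPowerSeries
  haveI hPreg : IsRegularLocalRing P' :=
    Groth.Agent.Lib.Helper1.ArtFunLib.isRegularLocalRing_mvPowerSeries κ n
  have hψX : ∀ i, ψ (MvPowerSeries.X i) = MvPowerSeries.X i := by
    intro i
    show MvPowerSeries.map ((e.symm : κ ≃+* k) : κ →+* k) (MvPowerSeries.X i) = _
    exact MvPowerSeries.map_X _ i
  have hψC : ∀ c : κ, ψ (MvPowerSeries.C c) = MvPowerSeries.C (e.symm c) :=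
    fun c => Groth.Agent.Lib.Helper23.CohenEq.mvPowerSeriesMapEquiv_C (Fin n) e.symm c
  have hres : Function.Surjective ((residue A).comp (algebraMap P' A)) := by
    intro z
    refine ⟨MvPowerSeries.C z, ?_⟩
    rw [RingHom.comp_apply, halg, hψC]
    have h1 : (MvPowerSeries.C (e.symm z) : MvPowerSeries (Fin n) k) =
        algebraMap k (MvPowerSeries (Fin n) k) (e.symm z) := by
      rw [MvPowerSeries.algebraMap_apply]
      rfl
    rw [h1, AlgHom.commutes]
    exact e.apply_symm_apply z
  have hmap : (maximalIdeal P').map (algebraMap P' A) = Ideal.span (Set.range x) := by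
    rw [Groth.Agent.Lib.Helper1.ArtFunLib.maximalIdeal_mvPowerSeries_eq_span, Ideal.map_span,
      ← Set.range_comp]
    congr 2
    funext i
    rw [Function.comp_apply, halg, hψX, hφ]
  have hrad : ((maximalIdeal P').map (algebraMap P' A)).radical = maximalIdeal A := by
    rw [hmap, hx]
  have hdim : ringKrullDim P' = ringKrullDim A := by
    rw [hn, Groth.Agent.Lib.Helper1.ArtFunLib.ringKrullDim_mvPowerSeries]
  obtain ⟨hfin, hfree, hrank⟩ := free_of_sop (P := P') (A := A) hres hrad hdim
  let d := Module.finrank P' A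
  let B : Module.Basis (Fin d) P' A := Module.finBasis P' A
  refine ⟨d, fun i => B i, ?_, ?_⟩
  · rw [← hmap]
    exact hrank
  · have hF : (fun r : Fin d → MvPowerSeries (Fin n) k => ∑ i, φ (r i) * B i) =
        (fun c : Fin d → P' => B.equivFun.symm c) ∘ (fun r i => ψ.symm (r i)) := by
      funext r
      rw [Function.comp_apply, Module.Basis.equivFun_symm_apply]
      refine Finset.sum_congr rfl fun i _ => ?_
      rw [Algebra.smul_def, halg, RingEquiv.apply_symm_apply]
    rw [hF]
    refine Function.Bijective.comp B.equivFun.symm.bijective ?_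
    constructor
    · intro r r' h
      funext i
      exact ψ.symm.injective (congrFun h i)
    · intro c
      exact ⟨fun i => ψ (c i), by funext i; exact ψ.symm_apply_apply (c i)⟩

end Groth.Agent.Lib.Helper26.SopFreeB
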