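import Mathlib

/-!
# Hilbert function of the Stanley–Reisner ring of the order complex of a finite poset (helper26)
`main`; `mem_SR_iff` (monomial ideal membership), `finrank_eq_card`, `card_fiber` (compositions count).
-/

set_option autoImplicit false
set_option linter.unusedSectionVars false
universe u v

namespace Groth.Agent.Lib.Helper26.StanleyReisner

open MvPolynomial

variable (K : Type u) [Field K] (L : Type v) [DistribLattice L] [Fintype L]

/-- the Stanley–Reisner ideal -/
noncomputable def SR : Ideal (MvPolynomial L K) :=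
  Ideal.span {f : MvPolynomial L K | ∃ a b : L, ¬ a ≤ b ∧ ¬ b ≤ a ∧
    f = MvPolynomial.X a * MvPolynomial.X b}

/-- chain-supported exponents -/
def ChainSupp {L : Type v} [DistribLattice L] (e : L →₀ ℕ) : Prop :=
  IsChain (fun a b : L => a ≤ b) (↑e.support : Set L)

variable {K L}

lemma SR_eq : SR K L = Ideal.span ((fun s => monomial s (1 : K)) ''
    {s : L →₀ ℕ | ∃ a b : L, ¬ a ≤ b ∧ ¬ b ≤ a ∧ s = Finsupp.single a 1 + Finsupp.single b 1}) := by
  unfold SR
  congr 1
  ext f
  constructor
  · rintro ⟨a, b, hab, hba, rfl⟩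
    refine ⟨_, ⟨a, b, hab, hba, rfl⟩, ?_⟩
    simp only [X, monomial_mul, one_mul]
  · rintro ⟨s, ⟨a, b, hab, hba, rfl⟩, rfl⟩
    refine ⟨a, b, hab, hba, ?_⟩
    simp only [X, monomial_mul, one_mul]

lemma mem_SR_iff (p : MvPolynomial L K) :
    p ∈ SR K L ↔ ∀ e ∈ p.support, ¬ ChainSupp e := by
  rw [SR_eq, mem_ideal_span_monomial_image]
  constructor
  · intro h e he hch
    obtain ⟨s, ⟨a, b, hab, hba, rfl⟩, hle⟩ := h e he
    have hne : a ≠ b := fun h => hab (h ▸ le_rfl)
    have ha : a ∈ e.support := by
      rw [Finsupp.mem_support_iff]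
      have := hle a
      simp only [Finsupp.add_apply, Finsupp.single_eq_same,
        Finsupp.single_eq_of_ne hne] at this
      omega
    have hb : b ∈ e.support := by
      rw [Finsupp.mem_support_iff]
      have := hle b
      simp only [Finsupp.add_apply, Finsupp.single_eq_same,
        Finsupp.single_eq_of_ne (Ne.symm hne)] at this
      omega
    rcases hch ha hb hne with h1 | h1
    · exact hab h1
    · exact hba h1
  · intro h e he
    have h1 := h e he
    unfold ChainSupp IsChain Set.Pairwise at h1
    push Not at h1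
    obtain ⟨a, ha, b, hb, hne, hab, hba⟩ := h1
    refine ⟨_, ⟨a, b, hab, hba, rfl⟩, ?_⟩
    intro c
    have ha' : e a ≠ 0 := Finsupp.mem_support_iff.mp ha
    have hb' : e b ≠ 0 := Finsupp.mem_support_iff.mp hb
    by_cases hca : c = a
    · subst hca
      simp only [Finsupp.add_apply, Finsupp.single_eq_same, Finsupp.single_eq_of_ne hne]
      omega
    · by_cases hcb : c = b
      · subst hcb
        simp only [Finsupp.add_apply, Finsupp.single_eq_same,
          Finsupp.single_eq_of_ne (Ne.symm hne)]
        omega
      · simp [Finsupp.single_eq_of_ne hca, Finsupp.single_eq_of_ne hcb]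

open Classical in
variable (L) in
/-- the finite set of chain-supported exponents of degree m -/
noncomputable def Sm (m : ℕ) : Finset (L →₀ ℕ) :=
  (Finset.univ.finsuppAntidiag m).filter (fun e => ChainSupp e)

lemma mem_Sm (m : ℕ) (e : L →₀ ℕ) : e ∈ Sm L m ↔ e.degree = m ∧ ChainSupp e := by
  classical
  unfold Sm
  rw [Finset.mem_filter, Finset.mem_finsuppAntidiag, Finsupp.degree_eq_sum]
  simp

theorem finrank_eq_card (m : ℕ) :
    Module.finrank K ((homogeneousSubmodule L K m).map
      (Ideal.Quotient.mkₐ K (SR K L)).toLinearMap) = (Sm L m).card := by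
  classical
  set φ := (Ideal.Quotient.mkₐ K (SR K L)).toLinearMap with hφ
  let v : (Sm L m) → (MvPolynomial L K ⧸ SR K L) := fun e => φ (monomial e.1 1)
  have hli : LinearIndependent K v := by
    rw [Fintype.linearIndependent_iff]
    intro g hg i
    have h1 : φ (∑ j : (Sm L m), monomial j.1 (g j)) = 0 := by
      rw [map_sum, ← hg]
      refine Finset.sum_congr rfl fun j _ => ?_
      change φ (monomial j.1 (g j)) = g j • φ (monomial j.1 1)
      rw [← map_smul, smul_monomial, smul_eq_mul, mul_one]
    have h2 : (∑ j : (Sm L m), monomial j.1 (g j)) ∈ SR K L := by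
      have : (Ideal.Quotient.mk (SR K L)) (∑ j : (Sm L m), monomial j.1 (g j)) = 0 := h1
      exact Ideal.Quotient.eq_zero_iff_mem.mp this
    rw [mem_SR_iff] at h2
    by_contra hgi
    have h3 : coeff i.1 (∑ j : (Sm L m), monomial j.1 (g j)) = g i := by
      rw [coeff_sum, Finset.sum_eq_single i]
      · rw [coeff_monomial, if_pos rfl]
      · intro j _ hji
        rw [coeff_monomial, if_neg]
        exact fun h => hji (Subtype.ext h)
      · intro h; exact absurd (Finset.mem_univ i) h
    have h4 : i.1 ∈ (∑ j : (Sm L m), monomial j.1 (g j)).support := by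
      rw [mem_support_iff, h3]; exact hgi
    exact h2 i.1 h4 ((mem_Sm m i.1).mp i.2).2
  have hspan : Submodule.span K (Set.range v) =
      (homogeneousSubmodule L K m).map φ := by
    rw [homogeneousSubmodule_eq_finsupp_supported, AddMonoidAlgebra.supported_eq_span_single,
      Submodule.map_span]
    apply le_antisymm
    · apply Submodule.span_mono
      rintro _ ⟨e, rfl⟩
      refine ⟨monomial e.1 1, ⟨e.1, ((mem_Sm m e.1).mp e.2).1, rfl⟩, rfl⟩
    · rw [Submodule.span_le]
      rintro _ ⟨_, ⟨d, hd, rfl⟩, rfl⟩
      by_cases hch : ChainSupp d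
      · exact Submodule.subset_span ⟨⟨d, (mem_Sm m d).mpr ⟨hd, hch⟩⟩, rfl⟩
      · have hmem : (monomial d (1 : K)) ∈ SR K L := by
          rw [mem_SR_iff]
          intro e he
          rw [support_monomial, if_neg one_ne_zero, Finset.mem_singleton] at he
          rw [he]; exact hch
        have : φ (monomial d (1 : K)) = 0 := Ideal.Quotient.eq_zero_iff_mem.mpr hmem
        change φ (monomial d (1 : K)) ∈ _
        rw [this]
        exact zero_mem _
  rw [← hspan, finrank_span_eq_card hli, Fintype.card_coe]

section Count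

open Classical in
variable (L) in
/-- the indicator exponent of a finset -/
noncomputable def one (C : Finset L) : L →₀ ℕ :=
  Finsupp.equivFunOnFinite.symm (fun a => if a ∈ C then 1 else 0)

open Classical in
lemma one_apply (C : Finset L) (a : L) : one L C a = if a ∈ C then 1 else 0 := by
  unfold one
  rw [Finsupp.coe_equivFunOnFinite_symm]

lemma sum_one (C : Finset L) : ∑ a, one L C a = C.card := by
  classical
  simp_rw [one_apply]
  rw [Finset.sum_ite_mem, Finset.univ_inter, Finset.sum_const, smul_eq_mul, mul_one]

open Classical in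
lemma card_fiber (C : Finset L) (m : ℕ) (hm : 1 ≤ m) (hC : C.Nonempty) :
    ((Finset.univ.finsuppAntidiag m).filter (fun e : L →₀ ℕ => e.support = C)).card =
      (m - 1).choose (C.card - 1) := by
  have hc1 : 1 ≤ C.card := Finset.card_pos.mpr hC
  -- basic facts about members of the fibre
  have hfib : ∀ e : L →₀ ℕ, e ∈ (Finset.univ.finsuppAntidiag m).filter
      (fun e : L →₀ ℕ => e.support = C) → (∑ a, e a = m) ∧ (∀ a, a ∈ C ↔ e a ≠ 0) := by
    intro e he
    rw [Finset.mem_filter, Finset.mem_finsuppAntidiag] at he
    refine ⟨he.1.1, fun a => ?_⟩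
    rw [← he.2, Finsupp.mem_support_iff]
  have hge : ∀ e : L →₀ ℕ, (∑ a, e a = m) → (∀ a, a ∈ C ↔ e a ≠ 0) →
      ∑ a, (e - one L C) a + C.card = m := by
    intro e h1 h2
    rw [← sum_one C, ← Finset.sum_add_distrib, ← h1]
    refine Finset.sum_congr rfl fun a _ => ?_
    rw [Finsupp.tsub_apply, one_apply]
    by_cases ha : a ∈ C
    · have := (h2 a).mp ha
      rw [if_pos ha]; omega
    · have : e a = 0 := by
        by_contra h; exact ha ((h2 a).mpr h)
      rw [if_neg ha, this]
  by_cases hcm : C.card ≤ m
  · have hcount := Finset.card_finsuppAntidiag_nat_eq_choose (s := C) (m - C.card)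
    have e1 : C.card + (m - C.card) - 1 = m - 1 := by omega
    rw [e1] at hcount
    have e2 : (m - 1).choose (m - C.card) = (m - 1).choose (C.card - 1) := by
      apply Nat.choose_symm_of_eq_add
      omega
    rw [← e2, ← hcount]
    refine Finset.card_nbij' (fun e => e - one L C) (fun g => g + one L C) ?_ ?_ ?_ ?_
    · intro e he
      obtain ⟨h1, h2⟩ := hfib e he
      rw [Finset.mem_coe, Finset.mem_finsuppAntidiag]
      have hsupp : (e - one L C).support ⊆ C := by
        intro a ha
        rw [Finsupp.mem_support_iff, Finsupp.tsub_apply] at ha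
        rw [h2 a]
        omega
      refine ⟨?_, hsupp⟩
      have h3 := hge e h1 h2
      have h4 : ∑ a, (e - one L C) a = ∑ a ∈ C, (e - one L C) a := by
        symm
        apply Finset.sum_subset (Finset.subset_univ _)
        intro a _ ha
        by_contra hne
        exact ha (hsupp (Finsupp.mem_support_iff.mpr hne))
      rw [← h4]
      omega
    · intro g hg
      rw [Finset.mem_coe, Finset.mem_finsuppAntidiag] at hg
      rw [Finset.mem_coe, Finset.mem_filter, Finset.mem_finsuppAntidiag]
      have h4 : ∑ a, g a = ∑ a ∈ C, g a := by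
        symm
        apply Finset.sum_subset (Finset.subset_univ _)
        intro a _ ha
        by_contra hne
        exact ha (hg.2 (Finsupp.mem_support_iff.mpr hne))
      refine ⟨⟨?_, Finset.subset_univ _⟩, ?_⟩
      · have h5 : Finset.univ.sum ⇑(g + one L C) = ∑ a, (g a + one L C a) :=
          Finset.sum_congr rfl fun a _ => Finsupp.add_apply g (one L C) a
        rw [h5, Finset.sum_add_distrib, sum_one, h4, hg.1]
        omega
      · ext a
        rw [Finsupp.mem_support_iff, Finsupp.add_apply, one_apply]
        by_cases ha : a ∈ C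
        · simp [ha]
        · have : g a = 0 := by
            by_contra hne
            exact ha (hg.2 (Finsupp.mem_support_iff.mpr hne))
          simp [ha, this]
    · intro e he
      obtain ⟨h1, h2⟩ := hfib e he
      ext a
      simp only [Finsupp.add_apply, Finsupp.tsub_apply, one_apply]
      by_cases ha : a ∈ C
      · have := (h2 a).mp ha
        rw [if_pos ha]; omega
      · rw [if_neg ha]; omega
    · intro g _
      ext a
      simp only [Finsupp.add_apply, Finsupp.tsub_apply]
      omega
  · push Not at hcm
    rw [Nat.choose_eq_zero_of_lt (by omega), Finset.card_eq_zero, Finset.filter_eq_empty_iff]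
    intro e he hsupp
    have hmem : e ∈ (Finset.univ.finsuppAntidiag m).filter
        (fun e : L →₀ ℕ => e.support = C) := Finset.mem_filter.mpr ⟨he, hsupp⟩
    obtain ⟨h1, h2⟩ := hfib e hmem
    have := hge e h1 h2
    omega

open Classical in
variable (L) in
/-- nonempty chains -/
noncomputable def Chains : Finset (Finset L) :=
  Finset.univ.filter (fun C => C.Nonempty ∧ IsChain (fun a b : L => a ≤ b) (↑C : Set L))

lemma card_Sm (m : ℕ) (hm : 1 ≤ m) :
    (Sm L m).card = ∑ C ∈ Chains L, (m - 1).choose (C.card - 1) := by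
  classical
  have H : ∀ e ∈ Sm L m, e.support ∈ Chains L := by
    intro e he
    obtain ⟨hdeg, hch⟩ := (mem_Sm m e).mp he
    unfold Chains
    rw [Finset.mem_filter]
    refine ⟨Finset.mem_univ _, ?_, hch⟩
    rw [Finset.nonempty_iff_ne_empty, Ne, Finsupp.support_eq_empty]
    rintro rfl
    simp at hdeg
    omega
  rw [Finset.card_eq_sum_card_fiberwise H]
  refine Finset.sum_congr rfl fun C hC => ?_
  unfold Chains at hC
  rw [Finset.mem_filter] at hC
  rw [← card_fiber C m hm hC.2.1]
  congr 1
  ext e
  unfold Sm
  simp only [Finset.mem_filter]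
  constructor
  · rintro ⟨⟨h1, _⟩, h3⟩
    exact ⟨h1, h3⟩
  · rintro ⟨h1, h3⟩
    refine ⟨⟨h1, ?_⟩, h3⟩
    unfold ChainSupp
    rw [h3]
    exact hC.2.2

end Count

theorem main (K : Type u) [Field K] (L : Type v) [DistribLattice L]
    [Fintype L] (m : ℕ) (hm : 1 ≤ m) :
    Module.finrank K ((MvPolynomial.homogeneousSubmodule L K m).map
        (Ideal.Quotient.mkₐ K (Ideal.span {f : MvPolynomial L K | ∃ a b : L, ¬ a ≤ b ∧ ¬ b ≤ a ∧
          f = MvPolynomial.X a * MvPolynomial.X b})).toLinearMap) =
      ∑ᶠ C : {C : Finset L // C.Nonempty ∧ IsChain (fun a b : L => a ≤ b) (↑C : Set L)},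
        Nat.choose (m - 1) (C.1.card - 1) := by
  classical
  have h1 := finrank_eq_card (K := K) (L := L) m
  unfold SR at h1
  rw [h1, card_Sm m hm, finsum_eq_sum_of_fintype]
  unfold Chains
  rw [Finset.sum_subtype (p := fun C : Finset L => C.Nonempty ∧
    IsChain (fun a b : L => a ≤ b) (↑C : Set L)) _ (by simp)]

end Groth.Agent.Lib.Helper26.StanleyReisner
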