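import Mathlib

set_option autoImplicit false
set_option linter.style.haveILetI false
set_option linter.unusedSectionVars false
set_option linter.unusedVariables false

namespace Groth.Agent.Lib.Helper26.SubCx

open CategoryTheory Function

universe u

variable {R : Type u} [CommRing R]

/-- a family of submodules stable under the differential gives a subcomplex -/
theorem exists_subcomplex (F : CochainComplex (ModuleCat.{u} R) ℤ) (W : ∀ n, Submodule R (F.X n))
    (hW : ∀ n, ∀ x ∈ W n, (F.d n (n + 1)).hom x ∈ W (n + 1)) :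
    ∃ (G : CochainComplex (ModuleCat.{u} R) ℤ) (ι : G ⟶ F),
      (∀ n, Injective (ι.f n)) ∧ (∀ n, Set.range (ι.f n) = W n) ∧
      (∀ n, Nonempty (G.X n ≃ₗ[R] W n)) := by
  let G : CochainComplex (ModuleCat.{u} R) ℤ :=
    CochainComplex.of (fun n => ModuleCat.of R (W n))
      (fun n => ModuleCat.ofHom ((F.d n (n + 1)).hom.restrict (hW n)))
      (by
        intro n
        ext x
        have this : (F.d (n + 1) (n + 1 + 1)).hom ((F.d n (n + 1)).hom (x : F.X n)) = 0 := by
          rw [← LinearMap.comp_apply, ← ModuleCat.hom_comp, F.d_comp_d]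
          rfl
        simpa using this)
  let ι : G ⟶ F :=
    { f := fun n => ModuleCat.ofHom (W n).subtype
      comm' := by
        intro i j hij
        have hij' : i + 1 = j := hij
        subst hij'
        ext x
        simp [G, CochainComplex.of_d] }
  refine ⟨G, ι, fun n => ?_, fun n => ?_, fun n => ⟨LinearEquiv.refl R _⟩⟩
  · exact Subtype.val_injective
  · ext x
    constructor
    · rintro ⟨y, rfl⟩
      exact y.2
    · intro hx
      exact ⟨⟨x, hx⟩, rfl⟩

section reach

variable (F : CochainComplex (ModuleCat.{u} R) ℤ) [hfree : ∀ n : ℤ, Module.Free R (F.X n)]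
  {N : ℕ} (deg : Fin N → ℤ) (f : ∀ i : Fin N, F.X (deg i))

/-- index type of the chosen bases -/
abbrev Idx (n : ℤ) := Module.Free.ChooseBasisIndex R (F.X n)

/-- the chosen bases -/
noncomputable def bs (n : ℤ) : Module.Basis (Idx F n) R (F.X n) := Module.Free.chooseBasis R (F.X n)

/-- the basis vectors needed for the given elements -/
def base (n : ℤ) : Set (Idx F n) :=
  {x | ∃ i, ∃ h : deg i = n, x ∈ ((bs F n).repr (h ▸ f i)).support}

/-- the basis vectors reachable in at most `j` steps -/
def T : ℕ → ∀ n : ℤ, Set (Idx F n)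
  | 0, n => base F deg f n
  | j + 1, n => T j n ∪ {x | ∃ m, ∃ _ : m + 1 = n, ∃ y ∈ T j m,
      x ∈ ((bs F n).repr ((F.d m n).hom (bs F m y))).support}

/-- all reachable basis vectors -/
def Tinf (n : ℤ) : Set (Idx F n) := ⋃ j, T F deg f j n

theorem base_finite (n : ℤ) : (base F deg f n).Finite := by
  have : base F deg f n = ⋃ i : Fin N, {x | ∃ h : deg i = n, x ∈ ((bs F n).repr (h ▸ f i)).support} := by
    ext x
    simp [base]
  rw [this]
  apply Set.finite_iUnion
  intro i
  by_cases h : deg i = n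
  · apply Set.Finite.subset (((bs F n).repr (h ▸ f i)).support.finite_toSet)
    rintro x ⟨_, hx⟩
    exact hx
  · apply Set.Finite.subset Set.finite_empty
    rintro x ⟨h', _⟩
    exact absurd h' h

theorem T_empty (a : ℤ) (ha : ∀ i, a ≤ deg i) : ∀ (j : ℕ) (n : ℤ), n < a → T F deg f j n = ∅ := by
  intro j
  induction j with
  | zero =>
    intro n hn
    apply Set.eq_empty_of_forall_notMem
    rintro x ⟨i, h, _⟩
    have := ha i
    omega
  | succ j ih =>
    intro n hn
    apply Set.eq_empty_of_forall_notMem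
    rintro x (hx | ⟨m, h, y, hy, _⟩)
    · rw [ih n hn] at hx
      exact hx
    · rw [ih m (by omega)] at hy
      exact hy

theorem Tinf_empty (a : ℤ) (ha : ∀ i, a ≤ deg i) (n : ℤ) (hn : n < a) : Tinf F deg f n = ∅ := by
  unfold Tinf
  apply Set.eq_empty_of_forall_notMem
  intro x hx
  obtain ⟨j, hj⟩ := Set.mem_iUnion.mp hx
  rw [T_empty F deg f a ha j n hn] at hj
  exact hj

theorem Tinf_subset (n : ℤ) : Tinf F deg f n ⊆ base F deg f n ∪
    ⋃ y ∈ Tinf F deg f (n - 1),
      (((bs F n).repr ((F.d (n - 1) n).hom (bs F (n - 1) y))).support : Set (Idx F n)) := by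
  intro x hx
  obtain ⟨j, hj⟩ := Set.mem_iUnion.mp hx
  induction j with
  | zero => exact Or.inl hj
  | succ j ih =>
    rcases hj with hj | ⟨m, h, y, hy, hxy⟩
    · exact ih hj
    · right
      obtain rfl : m = n - 1 := by omega
      exact Set.mem_biUnion (Set.mem_iUnion.mpr ⟨j, hy⟩) hxy

theorem Tinf_finite (a : ℤ) (ha : ∀ i, a ≤ deg i) :
    ∀ (k : ℕ) (n : ℤ), n < a + k → (Tinf F deg f n).Finite := by
  intro k
  induction k with
  | zero =>
    intro n hn
    rw [Tinf_empty F deg f a ha n (by simpa using hn)]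
    exact Set.finite_empty
  | succ k ih =>
    intro n hn
    apply Set.Finite.subset _ (Tinf_subset F deg f n)
    apply Set.Finite.union (base_finite F deg f n)
    apply Set.Finite.biUnion (ih (n - 1) (by push_cast at hn; omega))
    intro y _
    exact Finset.finite_toSet _

theorem Tinf_closed (n : ℤ) (y : Idx F n) (hy : y ∈ Tinf F deg f n) :
    (((bs F (n + 1)).repr ((F.d n (n + 1)).hom (bs F n y))).support : Set (Idx F (n + 1))) ⊆
      Tinf F deg f (n + 1) := by
  intro x hx
  obtain ⟨j, hj⟩ := Set.mem_iUnion.mp hy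
  apply Set.mem_iUnion.mpr
  exact ⟨j + 1, Or.inr ⟨n, rfl, y, hj, hx⟩⟩

theorem base_subset_Tinf (n : ℤ) : base F deg f n ⊆ Tinf F deg f n := by
  intro x hx
  exact Set.mem_iUnion.mpr ⟨0, hx⟩

/-- the submodules -/
noncomputable def W (n : ℤ) : Submodule R (F.X n) :=
  Submodule.span R ((bs F n) '' Tinf F deg f n)

theorem W_stable (n : ℤ) (x : F.X n) (hx : x ∈ W F deg f n) :
    (F.d n (n + 1)).hom x ∈ W F deg f (n + 1) := by
  unfold W at hx ⊢
  induction hx using Submodule.span_induction with
  | mem x hx =>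
    obtain ⟨y, hy, rfl⟩ := hx
    rw [Module.Basis.mem_span_image]
    exact Tinf_closed F deg f n y hy
  | zero => rw [map_zero]; exact Submodule.zero_mem _
  | add x y _ _ hx hy => rw [map_add]; exact Submodule.add_mem _ hx hy
  | smul r x _ hx => rw [map_smul]; exact Submodule.smul_mem _ r hx

theorem f_mem_W (i : Fin N) : f i ∈ W F deg f (deg i) := by
  unfold W
  rw [Module.Basis.mem_span_image]
  intro x hx
  apply base_subset_Tinf
  exact ⟨i, rfl, hx⟩

theorem W_free (n : ℤ) : Module.Free R (W F deg f n) := by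
  have hli : LinearIndependent R (fun x : Tinf F deg f n => bs F n (x : Idx F n)) :=
    (bs F n).linearIndependent.comp _ Subtype.val_injective
  have hW : W F deg f n = Submodule.span R (Set.range (fun x : Tinf F deg f n => bs F n (x : Idx F n))) := by
    unfold W
    congr 1
    ext z
    constructor
    · rintro ⟨y, hy, rfl⟩
      exact ⟨⟨y, hy⟩, rfl⟩
    · rintro ⟨y, rfl⟩
      exact ⟨y, y.2, rfl⟩
  rw [hW]
  exact Module.Free.of_basis (Module.Basis.span hli)

theorem W_finite (a : ℤ) (ha : ∀ i, a ≤ deg i) (n : ℤ) : Module.Finite R (W F deg f n) := by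
  have hfin : (Tinf F deg f n).Finite := by
    apply Tinf_finite F deg f a ha (n - a + 1).toNat n
    omega
  unfold W
  exact Module.Finite.span_of_finite R (hfin.image _)

theorem W_eq_bot (a : ℤ) (ha : ∀ i, a ≤ deg i) (n : ℤ) (hn : n < a) : W F deg f n = ⊥ := by
  unfold W
  rw [Tinf_empty F deg f a ha n hn, Set.image_empty, Submodule.span_empty]

end reach

theorem main_7145 (R : Type u) [CommRing R]
    (F : CochainComplex (ModuleCat.{u} R) ℤ) (hfree : ∀ n : ℤ, Module.Free R (F.X n))
    (b : ℤ) (hb : ∀ n : ℤ, b < n → Limits.IsZero (F.X n))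
    (N : ℕ) (deg : Fin N → ℤ) (f : ∀ i : Fin N, F.X (deg i)) :
    ∃ (G : CochainComplex (ModuleCat.{u} R) ℤ) (ι : G ⟶ F),
      (∀ n : ℤ, Function.Injective (ι.f n)) ∧
      (∃ a c : ℤ, ∀ n : ℤ, (n < a ∨ c < n) → Limits.IsZero (G.X n)) ∧
      (∀ n : ℤ, Module.Finite R (G.X n) ∧ Module.Free R (G.X n)) ∧
      ∀ i : Fin N, f i ∈ Set.range (ι.f (deg i)) := by
  haveI := hfree
  obtain ⟨a, ha⟩ := (Set.finite_range deg).bddBelow
  have ha' : ∀ i, a ≤ deg i := fun i => ha (Set.mem_range_self i)
  obtain ⟨G, ι, hinj, hrange, hequiv⟩ := exists_subcomplex F (W F deg f) (W_stable F deg f)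
  refine ⟨G, ι, hinj, ⟨a, b, ?_⟩, ?_, ?_⟩
  · intro n hn
    obtain ⟨e⟩ := hequiv n
    haveI : Subsingleton (W F deg f n) := by
      rcases hn with hn | hn
      · rw [W_eq_bot F deg f a ha' n hn]
        infer_instance
      · haveI : Subsingleton (F.X n) := ModuleCat.subsingleton_of_isZero (hb n hn)
        infer_instance
    haveI : Subsingleton (G.X n) := e.toEquiv.subsingleton
    exact ModuleCat.isZero_of_subsingleton _
  · intro n
    obtain ⟨e⟩ := hequiv n
    haveI := W_finite F deg f a ha' n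
    haveI := W_free F deg f n
    exact ⟨Module.Finite.equiv e.symm, Module.Free.of_equiv e.symm⟩
  · intro i
    rw [hrange]
    exact f_mem_W F deg f i

end Groth.Agent.Lib.Helper26.SubCx
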