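import Mathlib

set_option autoImplicit false
open scoped TensorProduct

namespace Groth.Agent.Lib.Helper26.Sym2Split

variable {V : Type*} [AddCommGroup V] [Module (ZMod 2) V]

lemma zmod2_cases (c : ZMod 2) : c = 0 ∨ c = 1 := by
  revert c; decide

lemma add_self' (v : V) : v + v = 0 := by
  rw [← two_smul (ZMod 2) v]
  have : (2 : ZMod 2) = 0 := by decide
  rw [this, zero_smul]

lemma neg_eq' (v : V) : -v = v := by
  rw [neg_eq_iff_add_eq_zero, add_self']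

lemma sub_eq_add' (v w : V) : v - w = v + w := by
  rw [sub_eq_add_neg, neg_eq']

/-- evaluation of a tensor on a dual vector (the quadratic form `q_t(φ)`). -/
noncomputable def ev (φ : V →ₗ[ZMod 2] ZMod 2) : V ⊗[ZMod 2] V →ₗ[ZMod 2] ZMod 2 :=
  (TensorProduct.lid (ZMod 2) (ZMod 2)).toLinearMap ∘ₗ TensorProduct.map φ φ

@[simp] lemma ev_tmul (φ : V →ₗ[ZMod 2] ZMod 2) (x y : V) : ev φ (x ⊗ₜ[ZMod 2] y) = φ x * φ y := by
  simp [ev]

lemma ev_map (φ : V →ₗ[ZMod 2] ZMod 2) (g : V →ₗ[ZMod 2] V) (t : V ⊗[ZMod 2] V) :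
    ev φ (TensorProduct.map g g t) = ev (φ ∘ₗ g) t := by
  induction t using TensorProduct.induction_on with
  | zero => simp
  | tmul x y => simp
  | add x y hx hy => rw [map_add, map_add, map_add, hx, hy]

variable (V) in
/-- `N_a` -/
def Na : Submodule (ZMod 2) (V ⊗[ZMod 2] V) :=
  Submodule.span (ZMod 2) (Set.range fun v : V => v ⊗ₜ[ZMod 2] v)

variable (V) in
/-- `N_s` -/
def Ns : Submodule (ZMod 2) (V ⊗[ZMod 2] V) :=
  Submodule.span (ZMod 2) (Set.range fun p : V × V => p.1 ⊗ₜ[ZMod 2] p.2 + p.2 ⊗ₜ[ZMod 2] p.1)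

variable (V) in
/-- the complement `W`. -/
def W : Submodule (ZMod 2) (V ⊗[ZMod 2] V) where
  carrier := {t | ∀ φ ψ : V →ₗ[ZMod 2] ZMod 2, φ ≠ 0 → ψ ≠ 0 → ev φ t = ev ψ t}
  add_mem' := by
    intro a b ha hb φ ψ hφ hψ
    rw [map_add, map_add, ha φ ψ hφ hψ, hb φ ψ hφ hψ]
  zero_mem' := by
    intro φ ψ _ _
    rw [map_zero, map_zero]
  smul_mem' := by
    intro c a ha φ ψ hφ hψ
    rw [map_smul, map_smul, ha φ ψ hφ hψ]

lemma mem_W (t : V ⊗[ZMod 2] V) :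
    t ∈ W V ↔ ∀ φ ψ : V →ₗ[ZMod 2] ZMod 2, φ ≠ 0 → ψ ≠ 0 → ev φ t = ev ψ t := Iff.rfl

lemma Ns_le_Na : Ns V ≤ Na V := by
  rw [Ns, Submodule.span_le]
  rintro _ ⟨⟨x, y⟩, rfl⟩
  have h : x ⊗ₜ[ZMod 2] y + y ⊗ₜ[ZMod 2] x =
      (x + y) ⊗ₜ[ZMod 2] (x + y) - x ⊗ₜ[ZMod 2] x - y ⊗ₜ[ZMod 2] y := by
    rw [TensorProduct.add_tmul, TensorProduct.tmul_add, TensorProduct.tmul_add]
    abel
  show x ⊗ₜ[ZMod 2] y + y ⊗ₜ[ZMod 2] x ∈ Na V
  rw [h]
  exact Submodule.sub_mem _ (Submodule.sub_mem _ (Submodule.subset_span ⟨_, rfl⟩)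
    (Submodule.subset_span ⟨_, rfl⟩)) (Submodule.subset_span ⟨_, rfl⟩)

lemma Ns_le_W : Ns V ≤ W V := by
  rw [Ns, Submodule.span_le]
  rintro _ ⟨⟨x, y⟩, rfl⟩
  intro φ ψ _ _
  simp only [map_add, ev_tmul]
  rw [mul_comm (φ y) (φ x), mul_comm (ψ y) (ψ x), CharTwo.add_self_eq_zero, CharTwo.add_self_eq_zero]

lemma stable (g : V ≃ₗ[ZMod 2] V) (t : V ⊗[ZMod 2] V) (ht : t ∈ W V) :
    TensorProduct.map g.toLinearMap g.toLinearMap t ∈ W V := by
  intro φ ψ hφ hψ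
  rw [ev_map, ev_map]
  apply ht
  · intro h
    apply hφ
    ext v
    have := LinearMap.congr_fun h (g.symm v)
    simpa using this
  · intro h
    apply hψ
    ext v
    have := LinearMap.congr_fun h (g.symm v)
    simpa using this

lemma exists_sq_of_mem_Na (t : V ⊗[ZMod 2] V) (ht : t ∈ Na V) :
    ∃ v : V, t - v ⊗ₜ[ZMod 2] v ∈ Ns V := by
  induction ht using Submodule.span_induction with
  | mem x hx =>
    obtain ⟨v, rfl⟩ := hx
    exact ⟨v, by simp⟩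
  | zero => exact ⟨0, by simp⟩
  | add x y _ _ hx hy =>
    obtain ⟨v, hv⟩ := hx
    obtain ⟨w, hw⟩ := hy
    refine ⟨v + w, ?_⟩
    have h : x + y - (v + w) ⊗ₜ[ZMod 2] (v + w) =
        (x - v ⊗ₜ[ZMod 2] v) + (y - w ⊗ₜ[ZMod 2] w) - (v ⊗ₜ[ZMod 2] w + w ⊗ₜ[ZMod 2] v) := by
      rw [TensorProduct.add_tmul, TensorProduct.tmul_add, TensorProduct.tmul_add]
      abel
    rw [h]
    exact Submodule.sub_mem _ (Submodule.add_mem _ hv hw) (Submodule.subset_span ⟨(v, w), rfl⟩)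
  | smul c x _ hx =>
    rcases zmod2_cases c with rfl | rfl
    · exact ⟨0, by simp⟩
    · simpa using hx

section dim2

variable (b : Module.Basis (Fin 2) (ZMod 2) V)
include b

lemma repr_eq (v : V) : v = b.repr v 0 • b 0 + b.repr v 1 • b 1 := by
  conv_lhs => rw [← b.sum_repr v]
  rw [Fin.sum_univ_two]

lemma W_inf_Na_le : W V ⊓ Na V ≤ Ns V := by
  rintro t ⟨htW, htN⟩
  obtain ⟨v, hv⟩ := exists_sq_of_mem_Na t htN
  have hvW : v ⊗ₜ[ZMod 2] v ∈ W V := by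
    have : v ⊗ₜ[ZMod 2] v = t - (t - v ⊗ₜ[ZMod 2] v) := by abel
    rw [this]
    exact Submodule.sub_mem _ htW (Ns_le_W hv)
  suffices hv0 : v = 0 by
    rw [hv0] at hv
    simpa using hv
  by_contra hne
  -- coordinates of v
  set a := b.repr v 0 with ha
  set c := b.repr v 1 with hc
  have hvac : v = a • b 0 + c • b 1 := repr_eq b v
  have hac : ¬ (a = 0 ∧ c = 0) := by
    rintro ⟨h1, h2⟩
    apply hne
    rw [hvac, h1, h2]; simp
  -- φ := c φ0 + a φ1 vanishes on v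
  let φ : V →ₗ[ZMod 2] ZMod 2 := c • b.coord 0 + a • b.coord 1
  have hφv : φ v = 0 := by
    show (c • b.coord 0 + a • b.coord 1) v = 0
    simp only [LinearMap.add_apply, LinearMap.smul_apply, Module.Basis.coord_apply, smul_eq_mul]
    rw [← ha, ← hc, mul_comm c a]
    exact CharTwo.add_self_eq_zero _
  have hφ : φ ≠ 0 := by
    intro h
    apply hac
    have h0 := LinearMap.congr_fun h (b 0)
    have h1 := LinearMap.congr_fun h (b 1)
    simp [φ] at h0 h1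
    exact ⟨h1, h0⟩
  -- ψ with ψ v = 1
  obtain ⟨ψ, hψv⟩ : ∃ ψ : V →ₗ[ZMod 2] ZMod 2, ψ v = 1 := by
    rcases zmod2_cases a with h | h
    · rcases zmod2_cases c with h' | h'
      · exact absurd ⟨h, h'⟩ hac
      · exact ⟨b.coord 1, by rw [Module.Basis.coord_apply, ← hc, h']⟩
    · exact ⟨b.coord 0, by rw [Module.Basis.coord_apply, ← ha, h]⟩
  have hψ : ψ ≠ 0 := by
    intro h
    rw [h] at hψv
    simp at hψv
  have := hvW φ ψ hφ hψ
  rw [ev_tmul, ev_tmul, hφv, hψv] at this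
  simp at this

lemma w0_mem_W : b 0 ⊗ₜ[ZMod 2] b 0 + b 0 ⊗ₜ[ZMod 2] b 1 + b 1 ⊗ₜ[ZMod 2] b 1 ∈ W V := by
  have key : ∀ φ : V →ₗ[ZMod 2] ZMod 2, φ ≠ 0 →
      ev φ (b 0 ⊗ₜ[ZMod 2] b 0 + b 0 ⊗ₜ[ZMod 2] b 1 + b 1 ⊗ₜ[ZMod 2] b 1) = 1 := by
    intro φ hφ
    simp only [map_add, ev_tmul]
    have hne : ¬ (φ (b 0) = 0 ∧ φ (b 1) = 0) := by
      rintro ⟨h0, h1⟩
      apply hφ
      apply b.ext
      intro i
      fin_cases i
      · simpa using h0
      · simpa using h1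
    generalize φ (b 0) = x at hne ⊢
    generalize φ (b 1) = y at hne ⊢
    revert x y
    decide
  intro φ ψ hφ hψ
  rw [key φ hφ, key ψ hψ]

lemma top_le : (⊤ : Submodule (ZMod 2) (V ⊗[ZMod 2] V)) ≤ W V ⊔ Na V := by
  intro t _
  have hNa : ∀ v : V, v ⊗ₜ[ZMod 2] v ∈ W V ⊔ Na V := fun v =>
    Submodule.mem_sup_right (Submodule.subset_span ⟨v, rfl⟩)
  have h01 : b 0 ⊗ₜ[ZMod 2] b 1 ∈ W V ⊔ Na V := by
    have : b 0 ⊗ₜ[ZMod 2] b 1 =
        (b 0 ⊗ₜ[ZMod 2] b 0 + b 0 ⊗ₜ[ZMod 2] b 1 + b 1 ⊗ₜ[ZMod 2] b 1) -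
          b 0 ⊗ₜ[ZMod 2] b 0 - b 1 ⊗ₜ[ZMod 2] b 1 := by abel
    rw [this]
    exact Submodule.sub_mem _ (Submodule.sub_mem _ (Submodule.mem_sup_left (w0_mem_W b)) (hNa _))
      (hNa _)
  have h10 : b 1 ⊗ₜ[ZMod 2] b 0 ∈ W V ⊔ Na V := by
    have : b 1 ⊗ₜ[ZMod 2] b 0 = (b 0 ⊗ₜ[ZMod 2] b 1 + b 1 ⊗ₜ[ZMod 2] b 0) - b 0 ⊗ₜ[ZMod 2] b 1 := by
      abel
    rw [this]
    exact Submodule.sub_mem _
      (Submodule.mem_sup_right (Ns_le_Na (Submodule.subset_span ⟨(b 0, b 1), rfl⟩))) h01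
  induction t using TensorProduct.induction_on with
  | zero => exact Submodule.zero_mem _
  | add x y hx hy => exact Submodule.add_mem _ (hx trivial) (hy trivial)
  | tmul x y =>
    rw [repr_eq b x, repr_eq b y]
    simp only [TensorProduct.add_tmul, TensorProduct.tmul_add, TensorProduct.smul_tmul_smul]
    refine Submodule.add_mem _ (Submodule.add_mem _ ?_ ?_) (Submodule.add_mem _ ?_ ?_)
    · exact Submodule.smul_mem _ _ (hNa _)
    · exact Submodule.smul_mem _ _ h10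
    · exact Submodule.smul_mem _ _ h01
    · exact Submodule.smul_mem _ _ (hNa _)

end dim2

theorem main (G : Type*) [Group G] (hV : Module.finrank (ZMod 2) V = 2)
    (ρ : Representation (ZMod 2) G V) :
    ∃ W : Submodule (ZMod 2) (V ⊗[ZMod 2] V),
      (∀ g : G, ∀ w ∈ W, ρ.tprod ρ g w ∈ W) ∧
      W ⊓ Submodule.span (ZMod 2) (Set.range fun v : V => v ⊗ₜ[ZMod 2] v) =
        Submodule.span (ZMod 2) (Set.range fun p : V × V => p.1 ⊗ₜ[ZMod 2] p.2 + p.2 ⊗ₜ[ZMod 2] p.1) ∧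
      W ⊔ Submodule.span (ZMod 2) (Set.range fun v : V => v ⊗ₜ[ZMod 2] v) = ⊤ := by
  have : Module.Finite (ZMod 2) V := Module.finite_of_finrank_eq_succ hV
  let b : Module.Basis (Fin 2) (ZMod 2) V := Module.finBasisOfFinrankEq (ZMod 2) V hV
  refine ⟨W V, ?_, ?_, ?_⟩
  · intro g w hw
    rw [Representation.tprod_apply]
    let e : V ≃ₗ[ZMod 2] V :=
      { ρ g with
        invFun := ρ g⁻¹
        left_inv := fun v => by
          show (ρ g⁻¹) ((ρ g) v) = v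
          rw [← Module.End.mul_apply, ← map_mul, inv_mul_cancel, map_one, Module.End.one_apply]
        right_inv := fun v => by
          show (ρ g) ((ρ g⁻¹) v) = v
          rw [← Module.End.mul_apply, ← map_mul, mul_inv_cancel, map_one, Module.End.one_apply] }
    exact stable e w hw
  · apply le_antisymm
    · exact W_inf_Na_le b
    · exact le_inf Ns_le_W Ns_le_Na
  · exact top_le_iff.mp (top_le b)

end Groth.Agent.Lib.Helper26.Sym2Split
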