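import Mathlib
import Groth.Agent.Lib.Helper26.Sym2Split

set_option autoImplicit false
open scoped TensorProduct

namespace Groth.Agent.Lib.Helper26.Sym2Lift

open Groth.Agent.Lib.Helper26.Sym2Split

variable {V : Type*} [AddCommGroup V] [Module (ZMod 2) V]

/-- evaluation of a tensor on a pair of dual vectors. -/
noncomputable def ev2 (φ ψ : V →ₗ[ZMod 2] ZMod 2) : V ⊗[ZMod 2] V →ₗ[ZMod 2] ZMod 2 :=
  (TensorProduct.lid (ZMod 2) (ZMod 2)).toLinearMap ∘ₗ TensorProduct.map φ ψ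

@[simp] lemma ev2_tmul (φ ψ : V →ₗ[ZMod 2] ZMod 2) (x y : V) :
    ev2 φ ψ (x ⊗ₜ[ZMod 2] y) = φ x * ψ y := by
  simp [ev2]

lemma ev2_map (φ ψ : V →ₗ[ZMod 2] ZMod 2) (g : V →ₗ[ZMod 2] V) (t : V ⊗[ZMod 2] V) :
    ev2 φ ψ (TensorProduct.map g g t) = ev2 (φ ∘ₗ g) (ψ ∘ₗ g) t := by
  induction t using TensorProduct.induction_on with
  | zero => simp
  | tmul x y => simp
  | add x y hx hy => rw [map_add, map_add, map_add, hx, hy]

lemma ev2_symm_of_mem_Na (u : V ⊗[ZMod 2] V) (hu : u ∈ Na V) (φ ψ : V →ₗ[ZMod 2] ZMod 2) :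
    ev2 φ ψ u = ev2 ψ φ u := by
  induction hu using Submodule.span_induction with
  | mem x hx =>
    obtain ⟨v, rfl⟩ := hx
    simp [mul_comm]
  | zero => simp
  | add x y _ _ hx hy => rw [map_add, map_add, hx, hy]
  | smul c x _ hx => rw [map_smul, map_smul, hx]

section basis

variable (b : Module.Basis (Fin 3) (ZMod 2) V)

lemma expand (u : V ⊗[ZMod 2] V) :
    u = ∑ i, ∑ j, ev2 (b.coord i) (b.coord j) u • (b i ⊗ₜ[ZMod 2] b j) := by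
  induction u using TensorProduct.induction_on with
  | zero => simp
  | add x y hx hy =>
    conv_lhs => rw [hx, hy]
    simp only [map_add, add_smul, Finset.sum_add_distrib]
  | tmul x y =>
    conv_lhs => rw [← b.sum_repr x, ← b.sum_repr y]
    rw [TensorProduct.sum_tmul]
    refine Finset.sum_congr rfl fun i _ => ?_
    rw [TensorProduct.tmul_sum]
    refine Finset.sum_congr rfl fun j _ => ?_
    rw [TensorProduct.smul_tmul_smul, ev2_tmul]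
    rfl

lemma pair_mem_Ns (x y : V) : x ⊗ₜ[ZMod 2] y + y ⊗ₜ[ZMod 2] x ∈ Ns V :=
  Submodule.subset_span ⟨(x, y), rfl⟩

lemma sq_mem_Na (x : V) : x ⊗ₜ[ZMod 2] x ∈ Na V :=
  Submodule.subset_span ⟨x, rfl⟩

lemma mem_Na_of_symm (u : V ⊗[ZMod 2] V)
    (h : ∀ i j, ev2 (b.coord i) (b.coord j) u = ev2 (b.coord j) (b.coord i) u) : u ∈ Na V := by
  have hu := expand b u
  simp only [Fin.sum_univ_three] at hu
  rw [h 1 0, h 2 0, h 2 1] at hu
  have hu' : u = ev2 (b.coord 0) (b.coord 0) u • (b 0 ⊗ₜ[ZMod 2] b 0) +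
      ev2 (b.coord 1) (b.coord 1) u • (b 1 ⊗ₜ[ZMod 2] b 1) +
      ev2 (b.coord 2) (b.coord 2) u • (b 2 ⊗ₜ[ZMod 2] b 2) +
      ev2 (b.coord 0) (b.coord 1) u • (b 0 ⊗ₜ[ZMod 2] b 1 + b 1 ⊗ₜ[ZMod 2] b 0) +
      ev2 (b.coord 0) (b.coord 2) u • (b 0 ⊗ₜ[ZMod 2] b 2 + b 2 ⊗ₜ[ZMod 2] b 0) +
      ev2 (b.coord 1) (b.coord 2) u • (b 1 ⊗ₜ[ZMod 2] b 2 + b 2 ⊗ₜ[ZMod 2] b 1) := by
    conv_lhs => rw [hu]
    module
  rw [hu']
  refine Submodule.add_mem _ (Submodule.add_mem _ (Submodule.add_mem _ (Submodule.add_mem _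
    (Submodule.add_mem _ ?_ ?_) ?_) ?_) ?_) ?_
  · exact Submodule.smul_mem _ _ (sq_mem_Na _)
  · exact Submodule.smul_mem _ _ (sq_mem_Na _)
  · exact Submodule.smul_mem _ _ (sq_mem_Na _)
  · exact Submodule.smul_mem _ _ (Ns_le_Na (pair_mem_Ns _ _))
  · exact Submodule.smul_mem _ _ (Ns_le_Na (pair_mem_Ns _ _))
  · exact Submodule.smul_mem _ _ (Ns_le_Na (pair_mem_Ns _ _))

lemma mem_Ns_of_symm_diag (u : V ⊗[ZMod 2] V)
    (h : ∀ i j, ev2 (b.coord i) (b.coord j) u = ev2 (b.coord j) (b.coord i) u)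
    (hd : ∀ i, ev2 (b.coord i) (b.coord i) u = 0) : u ∈ Ns V := by
  have hu := expand b u
  simp only [Fin.sum_univ_three] at hu
  rw [h 1 0, h 2 0, h 2 1, hd 0, hd 1, hd 2] at hu
  have hu' : u =
      ev2 (b.coord 0) (b.coord 1) u • (b 0 ⊗ₜ[ZMod 2] b 1 + b 1 ⊗ₜ[ZMod 2] b 0) +
      ev2 (b.coord 0) (b.coord 2) u • (b 0 ⊗ₜ[ZMod 2] b 2 + b 2 ⊗ₜ[ZMod 2] b 0) +
      ev2 (b.coord 1) (b.coord 2) u • (b 1 ⊗ₜ[ZMod 2] b 2 + b 2 ⊗ₜ[ZMod 2] b 1) := by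
    conv_lhs => rw [hu]
    module
  rw [hu']
  refine Submodule.add_mem _ (Submodule.add_mem _ ?_ ?_) ?_
  · exact Submodule.smul_mem _ _ (pair_mem_Ns _ _)
  · exact Submodule.smul_mem _ _ (pair_mem_Ns _ _)
  · exact Submodule.smul_mem _ _ (pair_mem_Ns _ _)

/-- the explicit lift. -/
noncomputable def lift (g01 g02 g12 : ZMod 2) : V ⊗[ZMod 2] V :=
  g01 • (b 0 ⊗ₜ[ZMod 2] b 1) + g02 • (b 0 ⊗ₜ[ZMod 2] b 2) + g12 • (b 1 ⊗ₜ[ZMod 2] b 2) +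
  (g01 + g02 + g01 * g02) • (b 0 ⊗ₜ[ZMod 2] b 0) +
  (g01 + g12 + g01 * g12) • (b 1 ⊗ₜ[ZMod 2] b 1) +
  (g02 + g12 + g02 * g12) • (b 2 ⊗ₜ[ZMod 2] b 2)

lemma ev2_lift (g01 g02 g12 : ZMod 2) (φ ψ : V →ₗ[ZMod 2] ZMod 2) :
    ev2 φ ψ (lift b g01 g02 g12) =
      g01 * (φ (b 0) * ψ (b 1)) + g02 * (φ (b 0) * ψ (b 2)) + g12 * (φ (b 1) * ψ (b 2)) +
      (g01 + g02 + g01 * g02) * (φ (b 0) * ψ (b 0)) +
      (g01 + g12 + g01 * g12) * (φ (b 1) * ψ (b 1)) +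
      (g02 + g12 + g02 * g12) * (φ (b 2) * ψ (b 2)) := by
  simp only [lift, map_add, map_smul, ev2_tmul, smul_eq_mul]

lemma key1 : ∀ g01 g02 g12 p0 p1 p2 : ZMod 2,
    g01 * (p0 * p1) + g02 * (p0 * p2) + g12 * (p1 * p2) +
      (g01 + g02 + g01 * g02) * (p0 * p0) +
      (g01 + g12 + g01 * g12) * (p1 * p1) +
      (g02 + g12 + g02 * g12) * (p2 * p2) = 1 ↔
    (p1 * g01 + p2 * g02 ≠ 0 ∨ p0 * g01 + p2 * g12 ≠ 0 ∨ p0 * g02 + p1 * g12 ≠ 0) := by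
  decide

lemma key2 : ∀ g01 g02 g12 p0 p1 p2 s0 s1 s2 : ZMod 2,
    g01 * (p0 * s1 + s0 * p1) + g02 * (p0 * s2 + s0 * p2) + g12 * (p1 * s2 + s1 * p2) ≠ 0 →
    g01 * (p0 * p1) + g02 * (p0 * p2) + g12 * (p1 * p2) +
      (g01 + g02 + g01 * g02) * (p0 * p0) +
      (g01 + g12 + g01 * g12) * (p1 * p1) +
      (g02 + g12 + g02 * g12) * (p2 * p2) = 1 := by
  decide

lemma key3 : ∀ g01 g02 g12 p0 p1 p2 s0 s1 s2 : ZMod 2,
    (g01 * (p0 * s1) + g02 * (p0 * s2) + g12 * (p1 * s2) +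
      (g01 + g02 + g01 * g02) * (p0 * s0) +
      (g01 + g12 + g01 * g12) * (p1 * s1) +
      (g02 + g12 + g02 * g12) * (p2 * s2)) +
    (g01 * (s0 * p1) + g02 * (s0 * p2) + g12 * (s1 * p2) +
      (g01 + g02 + g01 * g02) * (s0 * p0) +
      (g01 + g12 + g01 * g12) * (s1 * p1) +
      (g02 + g12 + g02 * g12) * (s2 * p2)) =
    g01 * (p0 * s1 + s0 * p1) + g02 * (p0 * s2 + s0 * p2) + g12 * (p1 * s2 + s1 * p2) := by
  decide

lemma alt_lift (g01 g02 g12 : ZMod 2) (φ ψ : V →ₗ[ZMod 2] ZMod 2) :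
    ev2 φ ψ (lift b g01 g02 g12) + ev2 ψ φ (lift b g01 g02 g12) =
      g01 * (φ (b 0) * ψ (b 1) + ψ (b 0) * φ (b 1)) +
      g02 * (φ (b 0) * ψ (b 2) + ψ (b 0) * φ (b 2)) +
      g12 * (φ (b 1) * ψ (b 2) + ψ (b 1) * φ (b 2)) := by
  rw [ev2_lift, ev2_lift]
  exact key3 _ _ _ _ _ _ _ _ _

end basis

lemma zmod2_a : ∀ a b c d : ZMod 2, a - b = c - d → a + c = b + d := by decide
lemma zmod2_b : ∀ a b c d : ZMod 2, a + c = b + d → a - b = c - d := by decide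
lemma zmod2_c : ∀ a b : ZMod 2, (a = 1 ↔ b = 1) → a = b := by decide

theorem main (G : Type*) [Group G] (hV : Module.finrank (ZMod 2) V = 3)
    (ρ : Representation (ZMod 2) G V) (t : V ⊗[ZMod 2] V)
    (ht : ∀ g : G, ρ.tprod ρ g t - t ∈
      Submodule.span (ZMod 2) (Set.range fun v : V => v ⊗ₜ[ZMod 2] v)) :
    ∃ t' : V ⊗[ZMod 2] V,
      t' - t ∈ Submodule.span (ZMod 2) (Set.range fun v : V => v ⊗ₜ[ZMod 2] v) ∧
      ∀ g : G, ρ.tprod ρ g t' - t' ∈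
        Submodule.span (ZMod 2)
          (Set.range fun p : V × V => p.1 ⊗ₜ[ZMod 2] p.2 + p.2 ⊗ₜ[ZMod 2] p.1) := by
  have : Module.Finite (ZMod 2) V := Module.finite_of_finrank_eq_succ hV
  let b : Module.Basis (Fin 3) (ZMod 2) V := Module.finBasisOfFinrankEq (ZMod 2) V hV
  let B : (V →ₗ[ZMod 2] ZMod 2) → (V →ₗ[ZMod 2] ZMod 2) → ZMod 2 :=
    fun φ ψ => ev2 φ ψ t + ev2 ψ φ t
  have hBdef : ∀ φ ψ, B φ ψ = ev2 φ ψ t + ev2 ψ φ t := fun _ _ => rfl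
  set g01 := B (b.coord 0) (b.coord 1) with hg01
  set g02 := B (b.coord 0) (b.coord 2) with hg02
  set g12 := B (b.coord 1) (b.coord 2) with hg12
  set t' := lift b g01 g02 g12 with ht'
  have hcoord : ∀ i j : Fin 3, (b.coord i) (b j) = if j = i then 1 else 0 := by
    intro i j
    rw [Module.Basis.coord_apply, Module.Basis.repr_self, Finsupp.single_apply]
  have hsymm : ∀ i j, ev2 (b.coord i) (b.coord j) t' + ev2 (b.coord j) (b.coord i) t' =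
      B (b.coord i) (b.coord j) := by
    intro i j
    rw [ht', alt_lift]
    simp only [hcoord]
    fin_cases i <;> fin_cases j <;>
      simp [hBdef, hg01, hg02, hg12, CharTwo.add_self_eq_zero] <;> exact add_comm _ _
  have h1 : t' - t ∈ Na V := by
    apply mem_Na_of_symm b
    intro i j
    rw [map_sub, map_sub]
    apply zmod2_b
    rw [hsymm i j, hBdef]
  have hBt' : ∀ φ ψ, ev2 φ ψ t' + ev2 ψ φ t' = B φ ψ := by
    intro φ ψ
    have := ev2_symm_of_mem_Na _ h1 φ ψ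
    rw [map_sub, map_sub] at this
    rw [hBdef]
    exact zmod2_a _ _ _ _ this
  have hBinv : ∀ (g : G) φ ψ, B (φ ∘ₗ ρ g) (ψ ∘ₗ ρ g) = B φ ψ := by
    intro g φ ψ
    have := ev2_symm_of_mem_Na _ (ht g) φ ψ
    rw [map_sub, map_sub, Representation.tprod_apply, ev2_map, ev2_map] at this
    rw [hBdef, hBdef]
    exact zmod2_a _ _ _ _ this
  have hQ : ∀ φ : V →ₗ[ZMod 2] ZMod 2, ev2 φ φ t' = 1 ↔ ∃ ψ, B φ ψ ≠ 0 := by
    intro φ
    constructor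
    · intro h
      rw [ht', ev2_lift, key1] at h
      rcases h with h | h | h
      · refine ⟨b.coord 0, ?_⟩
        rw [← hBt', ht', alt_lift]
        simp only [hcoord]
        simpa [mul_comm] using h
      · refine ⟨b.coord 1, ?_⟩
        rw [← hBt', ht', alt_lift]
        simp only [hcoord]
        simpa [mul_comm] using h
      · refine ⟨b.coord 2, ?_⟩
        rw [← hBt', ht', alt_lift]
        simp only [hcoord]
        simpa [mul_comm] using h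
    · rintro ⟨ψ, hψ⟩
      rw [← hBt', ht', alt_lift] at hψ
      rw [ht', ev2_lift]
      exact key2 _ _ _ _ _ _ _ _ _ hψ
  have hginv : ∀ (g : G) (ψ : V →ₗ[ZMod 2] ZMod 2), (ψ ∘ₗ ρ g⁻¹) ∘ₗ ρ g = ψ := by
    intro g ψ
    ext v
    show ψ ((ρ g⁻¹) ((ρ g) v)) = ψ v
    rw [← Module.End.mul_apply, ← map_mul, inv_mul_cancel, map_one, Module.End.one_apply]
  have hQinv : ∀ (g : G) (φ : V →ₗ[ZMod 2] ZMod 2),
      ev2 (φ ∘ₗ ρ g) (φ ∘ₗ ρ g) t' = ev2 φ φ t' := by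
    intro g φ
    apply zmod2_c
    rw [hQ, hQ]
    constructor
    · rintro ⟨ψ, hψ⟩
      refine ⟨ψ ∘ₗ ρ g⁻¹, ?_⟩
      rw [← hBinv g, hginv]
      exact hψ
    · rintro ⟨ψ, hψ⟩
      refine ⟨ψ ∘ₗ ρ g, ?_⟩
      rw [hBinv g]
      exact hψ
  refine ⟨t', h1, ?_⟩
  intro g
  apply mem_Ns_of_symm_diag b
  · intro i j
    rw [map_sub, map_sub, Representation.tprod_apply, ev2_map, ev2_map]
    apply zmod2_b
    rw [hBt', hBt', hBinv]
  · intro i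
    rw [map_sub, Representation.tprod_apply, ev2_map, hQinv, sub_self]

end Groth.Agent.Lib.Helper26.Sym2Lift
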