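import Mathlib
import Groth.Agent.Lib.Helper26.Sym2Split
import Groth.Agent.Lib.Helper26.Sym2Lift

set_option autoImplicit false
open scoped TensorProduct

namespace Groth.Agent.Lib.Helper26.Sym2Perm

open Groth.Agent.Lib.Helper26.Sym2Split Groth.Agent.Lib.Helper26.Sym2Lift

variable {V : Type*} [AddCommGroup V] [Module (ZMod 2) V] {ι : Type*}
  (b : Module.Basis ι (ZMod 2) V)

/-- tensors with zero diagonal in the basis `b`. -/
def W : Submodule (ZMod 2) (V ⊗[ZMod 2] V) where
  carrier := {t | ∀ i, ev2 (b.coord i) (b.coord i) t = 0}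
  add_mem' := by
    intro x y hx hy i
    rw [map_add, hx i, hy i, add_zero]
  zero_mem' := by
    intro i
    rw [map_zero]
  smul_mem' := by
    intro c x hx i
    rw [map_smul, hx i, smul_zero]

lemma mem_W (t : V ⊗[ZMod 2] V) : t ∈ W b ↔ ∀ i, ev2 (b.coord i) (b.coord i) t = 0 := Iff.rfl

lemma Ns_le_W : Ns V ≤ W b := by
  rw [Ns, Submodule.span_le]
  rintro _ ⟨⟨x, y⟩, rfl⟩
  intro i
  simp only [map_add, ev2_tmul]
  rw [mul_comm ((b.coord i) y) ((b.coord i) x)]
  exact CharTwo.add_self_eq_zero _

lemma W_inf_Na_le : W b ⊓ Na V ≤ Ns V := by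
  rintro t ⟨htW, htN⟩
  obtain ⟨v, hv⟩ := exists_sq_of_mem_Na t htN
  have hvW : v ⊗ₜ[ZMod 2] v ∈ W b := by
    have : v ⊗ₜ[ZMod 2] v = t - (t - v ⊗ₜ[ZMod 2] v) := by abel
    rw [this]
    exact Submodule.sub_mem _ htW (Ns_le_W b hv)
  have hv0 : v = 0 := by
    apply b.ext_elem
    intro i
    have := hvW i
    rw [ev2_tmul, Module.Basis.coord_apply] at this
    rw [map_zero, Finsupp.zero_apply]
    exact mul_self_eq_zero.mp this
  rw [hv0] at hv
  simpa using hv

lemma top_le : (⊤ : Submodule (ZMod 2) (V ⊗[ZMod 2] V)) ≤ W b ⊔ Na V := by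
  classical
  intro t _
  have hbb : ∀ i j, b i ⊗ₜ[ZMod 2] b j ∈ W b ⊔ Na V := by
    intro i j
    by_cases hij : i = j
    · subst hij
      exact Submodule.mem_sup_right (Submodule.subset_span ⟨_, rfl⟩)
    · apply Submodule.mem_sup_left
      intro k
      rw [ev2_tmul, Module.Basis.coord_apply, Module.Basis.coord_apply, Module.Basis.repr_self,
        Module.Basis.repr_self, Finsupp.single_apply, Finsupp.single_apply]
      by_cases hik : i = k
      · rw [if_neg (fun h : j = k => hij (hik.trans h.symm)), mul_zero]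
      · rw [if_neg hik, zero_mul]
  have hxb : ∀ (x : V) (j : ι), x ⊗ₜ[ZMod 2] b j ∈ W b ⊔ Na V := by
    intro x j
    have hx : x ∈ Submodule.span (ZMod 2) (Set.range b) := b.mem_span x
    induction hx using Submodule.span_induction with
    | mem x hx =>
      obtain ⟨i, rfl⟩ := hx
      exact hbb i j
    | zero => rw [TensorProduct.zero_tmul]; exact Submodule.zero_mem _
    | add x y _ _ hx hy => rw [TensorProduct.add_tmul]; exact Submodule.add_mem _ hx hy
    | smul c x _ hx => rw [← TensorProduct.smul_tmul']; exact Submodule.smul_mem _ _ hx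
  have hxy : ∀ (x y : V), x ⊗ₜ[ZMod 2] y ∈ W b ⊔ Na V := by
    intro x y
    have hy : y ∈ Submodule.span (ZMod 2) (Set.range b) := b.mem_span y
    induction hy using Submodule.span_induction with
    | mem y hy =>
      obtain ⟨j, rfl⟩ := hy
      exact hxb x j
    | zero => rw [TensorProduct.tmul_zero]; exact Submodule.zero_mem _
    | add y z _ _ hy hz => rw [TensorProduct.tmul_add]; exact Submodule.add_mem _ hy hz
    | smul c y _ hy => rw [TensorProduct.tmul_smul]; exact Submodule.smul_mem _ _ hy
  induction t using TensorProduct.induction_on with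
  | zero => exact Submodule.zero_mem _
  | add x y hx hy => exact Submodule.add_mem _ (hx trivial) (hy trivial)
  | tmul x y => exact hxy x y

theorem main (G : Type*) [Group G] (ρ : Representation (ZMod 2) G V)
    (hb : ∀ g : G, ∀ i : ι, ∃ j : ι, ρ g (b i) = b j) :
    ∃ W : Submodule (ZMod 2) (V ⊗[ZMod 2] V),
      (∀ g : G, ∀ w ∈ W, ρ.tprod ρ g w ∈ W) ∧
      W ⊓ Submodule.span (ZMod 2) (Set.range fun v : V => v ⊗ₜ[ZMod 2] v) =
        Submodule.span (ZMod 2) (Set.range fun p : V × V => p.1 ⊗ₜ[ZMod 2] p.2 + p.2 ⊗ₜ[ZMod 2] p.1) ∧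
      W ⊔ Submodule.span (ZMod 2) (Set.range fun v : V => v ⊗ₜ[ZMod 2] v) = ⊤ := by
  classical
  refine ⟨W b, ?_, ?_, ?_⟩
  · intro g w hw i
    rw [Representation.tprod_apply, ev2_map]
    -- `b.coord i ∘ ρ g = b.coord j` where `ρ g⁻¹ (b i) = b j`
    obtain ⟨j, hj⟩ := hb g⁻¹ i
    have hgj : ρ g (b j) = b i := by
      rw [← hj, ← Module.End.mul_apply, ← map_mul, mul_inv_cancel, map_one, Module.End.one_apply]
    have hinj : Function.Injective (ρ g) := by
      intro x y hxy
      have := congrArg (ρ g⁻¹) hxy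
      rwa [← Module.End.mul_apply, ← Module.End.mul_apply, ← map_mul, inv_mul_cancel, map_one,
        Module.End.one_apply, Module.End.one_apply] at this
    have hcomp : (b.coord i) ∘ₗ ρ g = b.coord j := by
      apply b.ext
      intro k
      rw [LinearMap.comp_apply, Module.Basis.coord_apply, Module.Basis.coord_apply,
        Module.Basis.repr_self, Finsupp.single_apply]
      obtain ⟨l, hl⟩ := hb g k
      rw [hl, Module.Basis.repr_self, Finsupp.single_apply]
      by_cases hkj : k = j
      · subst hkj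
        have : b l = b i := by rw [← hl, hgj]
        have hli : l = i := b.injective this
        rw [if_pos hli, if_pos rfl]
      · rw [if_neg hkj, if_neg]
        intro hli
        apply hkj
        apply b.injective
        apply hinj
        rw [hl, hgj, hli]
    rw [hcomp]
    exact hw j
  · apply le_antisymm
    · exact W_inf_Na_le b
    · exact le_inf (Ns_le_W b) Ns_le_Na
  · exact top_le_iff.mp (top_le b)

end Groth.Agent.Lib.Helper26.Sym2Perm
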