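import Mathlib
import Groth.Agent.Lib.Helper26.EisHens
import Groth.Agent.Lib.Helper26.TameBC

set_option autoImplicit false
set_option linter.unusedVariables false
set_option linter.style.haveILetI false
set_option linter.unusedSectionVars false
set_option linter.unusedSimpArgs false

universe u

namespace Groth.Agent.Lib.Helper26.Tame16052

open IsLocalRing Polynomial Groth.Agent.Lib.Helper26

section Base

variable {A K : Type u} [CommRing A] [IsDomain A] [IsDiscreteValuationRing A] [Field K]
  [Algebra A K] [IsFractionRing A K]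

theorem irreducible_X_pow_sub_unif (π : A) (hπ : Irreducible π) (n : ℕ) (hn : 0 < n) :
    Irreducible (X ^ n - C (algebraMap A K π) : K[X]) := by
  have hmax : maximalIdeal A = Ideal.span {π} := hπ.maximalIdeal_eq
  have hπm : π ∈ maximalIdeal A := by rw [hmax]; exact Ideal.mem_span_singleton_self π
  set q : A[X] := X ^ n - C π with hq
  have hmon : q.Monic := monic_X_pow_sub_C _ hn.ne'
  have hdeg : q.natDegree = n := natDegree_X_pow_sub_C
  have heis : q.IsEisensteinAt (maximalIdeal A) := by
    refine hmon.isEisensteinAt_of_mem_of_notMem (Ideal.IsPrime.ne_top inferInstance) ?_ ?_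
    · intro i hi
      rw [hdeg] at hi
      rw [hq, coeff_sub, coeff_X_pow, if_neg hi.ne, zero_sub, coeff_C]
      split_ifs
      · exact neg_mem hπm
      · rw [neg_zero]; exact zero_mem _
    · rw [hq, coeff_sub, coeff_X_pow, if_neg hn.ne, zero_sub, coeff_C_zero, neg_mem_iff, hmax,
        Ideal.span_singleton_pow, Ideal.mem_span_singleton]
      rintro ⟨c, hc⟩
      have h1 : π * (π * c) = π * 1 := by rw [mul_one]; nth_rewrite 3 [hc]; ring
      have h2 := mul_left_cancel₀ hπ.ne_zero h1
      exact hπ.not_isUnit (IsUnit.of_mul_eq_one _ h2)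
  have hirr : Irreducible q :=
    heis.irreducible (IsLocalRing.maximalIdeal.isMaximal A).isPrime hmon.isPrimitive
      (by rw [hdeg]; exact hn)
  have := (Monic.irreducible_iff_irreducible_map_fraction_map (K := K) hmon).mp hirr
  rwa [hq, Polynomial.map_sub, Polynomial.map_pow, Polynomial.map_X, Polynomial.map_C] at this

theorem exists_root_unit_base [HenselianLocalRing A] [IsAlgClosed (ResidueField A)]
    (v : Aˣ) (e : ℕ) (he0 : 0 < e) (he : (e : ResidueField A) ≠ 0) : ∃ s : A, s ^ e = v := by
  obtain ⟨a₀, ha₀⟩ := IsAlgClosed.exists_pow_nat_eq (residue A (v : A)) he0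
  have hv0 : residue A (v : A) ≠ 0 := (v.isUnit.map (residue A)).ne_zero
  have ha₀0 : a₀ ≠ 0 := by
    intro h0
    rw [h0, zero_pow he0.ne'] at ha₀
    exact hv0 ha₀.symm
  obtain ⟨t, ht, _⟩ := Groth.Agent.S0498.result A (X ^ e - C (v : A)) a₀
    (by rw [eval₂_sub, eval₂_pow, eval₂_X, eval₂_C, ha₀, sub_self])
    (by
      rw [derivative_sub, derivative_C, sub_zero, derivative_X_pow, eval₂_mul, eval₂_pow, eval₂_X,
        eval₂_C, map_natCast]
      exact mul_ne_zero he (pow_ne_zero _ ha₀0))
  refine ⟨t, ?_⟩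
  rw [IsRoot.def, eval_sub, eval_pow, eval_X, eval_C, sub_eq_zero] at ht
  exact ht

end Base

section Main

theorem main_16052 (O : Type u) [CommRing O] [IsDomain O]
    [IsDiscreteValuationRing O] [HenselianLocalRing O] [CharZero O]
    [IsAlgClosed (IsLocalRing.ResidueField O)]
    (p : ℕ) [Fact p.Prime] [CharP (IsLocalRing.ResidueField O) p]
    (ϖ : O) (hϖ : Irreducible ϖ) (m : ℕ) (r b : Fin m → ℕ) (v : Fin m → Oˣ)
    (hr : ∀ i, 1 ≤ r i) (hb : ∀ i, 1 ≤ b i) (hrb : ∀ i, Nat.Coprime (r i) (b i))
    (hp : ∑ i, r i < p) :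
    Module.finrank (FractionRing O)
        (∏ i, (X ^ (r i) - C (algebraMap O (FractionRing O) ((v i : O) * ϖ ^ (b i))))).SplittingField =
      Finset.univ.lcm r := by
  set K := FractionRing O with hK
  set q : Fin m → K[X] := fun i => X ^ (r i) - C (algebraMap O K ((v i : O) * ϖ ^ (b i))) with hq
  set g : K[X] := ∏ i, q i with hg
  set N := Finset.univ.lcm r with hN
  have hqmon : ∀ i, (q i).Monic := fun i => monic_X_pow_sub_C _ (by have := hr i; omega)
  have hgmon : g.Monic := monic_prod_of_monic _ _ (fun i _ => hqmon i)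
  have hϖK : algebraMap O K ϖ ≠ 0 := by
    intro h0
    exact hϖ.ne_zero ((IsFractionRing.injective O K) (by rw [h0, map_zero]))
  have hrchar : ∀ i, ((r i : ℕ) : ResidueField O) ≠ 0 := by
    intro i
    rw [Ne, CharP.cast_eq_zero_iff (ResidueField O) p]
    intro hdvd
    have h1 : r i ≤ ∑ j, r j := Finset.single_le_sum (fun j _ => Nat.zero_le _) (Finset.mem_univ i)
    have := Nat.le_of_dvd (by have := hr i; omega) hdvd
    omega
  have hs : ∀ i, ∃ s : O, s ^ (r i) = (v i : O) :=
    fun i => exists_root_unit_base (v i) (r i) (by have := hr i; omega) (hrchar i)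
  choose s hs using hs
  have hζ : ∀ i, ∃ ζ : O, IsPrimitiveRoot ζ (r i) :=
    fun i => EisHens.exists_primitiveRoot (A := O) (r i) (by have := hr i; omega) (hrchar i)
  choose ζ hζ using hζ
  have hsK : ∀ i, algebraMap O K (s i) ≠ 0 := by
    intro i h0
    have h1 : s i = 0 := (IsFractionRing.injective O K) (by rw [h0, map_zero])
    have h2 := hs i
    rw [h1, zero_pow (by have := hr i; omega)] at h2
    exact (v i).ne_zero h2.symm
  -- lower bound
  have hdvd : ∀ i, r i ∣ Module.finrank K g.SplittingField := by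
    intro i
    have hri : 0 < r i := by have := hr i; omega
    have hsplit : ((q i).map (algebraMap K g.SplittingField)).Splits := by
      refine (SplittingField.splits g).of_dvd (map_monic_ne_zero hgmon) ?_
      exact Polynomial.map_dvd _ (Finset.dvd_prod_of_mem q (Finset.mem_univ i))
    have hdeg0 : ((q i).map (algebraMap K g.SplittingField)).degree ≠ 0 := by
      rw [degree_map, hq, degree_X_pow_sub_C hri]
      exact_mod_cast hri.ne'
    obtain ⟨γ, hγ⟩ := hsplit.exists_eval_eq_zero hdeg0
    rw [eval_map, hq, eval₂_sub, eval₂_pow, eval₂_X, eval₂_C, sub_eq_zero] at hγ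
    obtain ⟨x, y, hxy⟩ := TameBC.exists_bezout_nat (r i) (b i) hri (by have := hb i; omega) (hrb i)
    set Pe : g.SplittingField := algebraMap K g.SplittingField (algebraMap O K ϖ) with hPe
    set Se : g.SplittingField := algebraMap K g.SplittingField (algebraMap O K (s i)) with hSe
    have hPe0 : Pe ≠ 0 := by rwa [hPe, Ne, map_eq_zero]
    have hSe0 : Se ≠ 0 := by rw [hSe, Ne, map_eq_zero]; exact hsK i
    have hγ' : γ ^ (r i) = Se ^ (r i) * Pe ^ (b i) := by
      rw [hγ, hSe, hPe, ← map_pow, ← map_pow, ← map_pow, ← map_pow, ← map_mul, ← map_mul, hs i]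
    set ρ : g.SplittingField := γ ^ x / (Se ^ x * Pe ^ y) with hρ
    have hρr : ρ ^ (r i) = Pe := by
      rw [hρ, div_pow, ← pow_mul, mul_comm x (r i), pow_mul, hγ', mul_pow, mul_pow, ← pow_mul,
        ← pow_mul, ← pow_mul, ← pow_mul, mul_comm (b i) x, hxy, mul_comm (r i) x, pow_succ]
      field_simp
    have hmin : (X ^ (r i) - C (algebraMap O K ϖ) : K[X]) = minpoly K ρ := by
      refine minpoly.eq_of_irreducible_of_monic (irreducible_X_pow_sub_unif ϖ hϖ (r i) hri) ?_
        (monic_X_pow_sub_C _ hri.ne')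
      rw [map_sub, map_pow, aeval_X, aeval_C, hρr, sub_self]
    have hint : IsIntegral K ρ := IsIntegral.of_finite K ρ
    have h1 := IntermediateField.adjoin.finrank hint
    rw [← hmin, natDegree_X_pow_sub_C] at h1
    have h2 := Module.finrank_mul_finrank K (IntermediateField.adjoin K {ρ}) g.SplittingField
    rw [h1] at h2
    exact Dvd.intro _ h2
  have hNdvd : N ∣ Module.finrank K g.SplittingField := Finset.lcm_dvd (fun i _ => hdvd i)
  -- upper bound
  have hNpos : 0 < N := by
    rw [Nat.pos_iff_ne_zero, hN, Ne, Finset.lcm_eq_zero_iff]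
    rintro ⟨i, _, hi⟩
    have := hr i
    omega
  have hirrN := irreducible_X_pow_sub_unif (K := K) ϖ hϖ N hNpos
  haveI : Fact (Irreducible (X ^ N - C (algebraMap O K ϖ) : K[X])) := ⟨hirrN⟩
  let M := AdjoinRoot (X ^ N - C (algebraMap O K ϖ) : K[X])
  have hM0 : (X ^ N - C (algebraMap O K ϖ) : K[X]) ≠ 0 := hirrN.ne_zero
  haveI : FiniteDimensional K M := (AdjoinRoot.powerBasis hM0).finite
  have hfinM : Module.finrank K M = N := by
    rw [(AdjoinRoot.powerBasis hM0).finrank, AdjoinRoot.powerBasis_dim, natDegree_X_pow_sub_C]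
  set ρ : M := AdjoinRoot.root _ with hρ
  have hρN : ρ ^ N = algebraMap K M (algebraMap O K ϖ) := by
    have h := AdjoinRoot.eval₂_root (X ^ N - C (algebraMap O K ϖ) : K[X])
    rw [eval₂_sub, eval₂_pow, eval₂_X, eval₂_C, sub_eq_zero] at h
    exact h
  have hsplitM : (g.map (algebraMap K M)).Splits := by
    rw [hg, Polynomial.map_prod]
    refine Splits.prod (fun i _ => ?_)
    rw [hq, Polynomial.map_sub, Polynomial.map_pow, Polynomial.map_X, Polynomial.map_C]
    have hζM : IsPrimitiveRoot (algebraMap K M (algebraMap O K (ζ i))) (r i) :=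
      ((hζ i).map_of_injective (IsFractionRing.injective O K)).map_of_injective
        (algebraMap K M).injective
    refine X_pow_sub_C_splits_of_isPrimitiveRoot hζM
      (α := algebraMap K M (algebraMap O K (s i)) * ρ ^ ((N / r i) * b i)) ?_
    have hdiv : N / r i * r i = N := Nat.div_mul_cancel (Finset.dvd_lcm (Finset.mem_univ i))
    rw [mul_pow, ← pow_mul, mul_assoc, mul_comm (b i) (r i), ← mul_assoc, hdiv, pow_mul, hρN,
      ← map_pow, ← map_pow, ← map_pow, ← map_pow, ← map_mul, ← map_mul, hs i]
  let lift : g.SplittingField →ₐ[K] M := SplittingField.lift g hsplitM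
  have hle : Module.finrank K g.SplittingField ≤ N := by
    rw [← hfinM]
    exact LinearMap.finrank_le_finrank_of_injective (f := lift.toLinearMap) lift.toRingHom.injective
  have hpos : 0 < Module.finrank K g.SplittingField := Module.finrank_pos
  exact le_antisymm hle (Nat.le_of_dvd hpos hNdvd)

end Main

end Groth.Agent.Lib.Helper26.Tame16052
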