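import Mathlib
import Groth.Prelude.Def_EtRam
import Groth.Agent.Lib.Helper26.EisTame
import Groth.Agent.Lib.Helper26.EisHens

set_option autoImplicit false
set_option linter.unusedVariables false
set_option linter.style.haveILetI false
set_option linter.unusedSectionVars false
set_option linter.unusedSimpArgs false

universe u

namespace Groth.Agent.Lib.Helper26.Tame16053

open IsLocalRing Polynomial Groth.Agent.Lib.Helper26 Groth.Agent.Lib.Helper26.Monog
  Groth.Agent.Lib.Helper26.ValBasis Groth.Agent.Lib.Helper26.ASCaseAC

section T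

variable {A K L : Type u} [CommRing A] [IsDomain A] [IsDiscreteValuationRing A] [Field K]
  [Algebra A K] [IsFractionRing A K] [Field L] [Algebra K L] [FiniteDimensional K L]

/-- the key field-theoretic statement: `L = K(α)` with `α` an Eisenstein root of degree `e < p`
is cyclic Galois over `K`. -/
theorem cyclic_of_eisenstein [HenselianLocalRing A] [IsAlgClosed (ResidueField A)]
    (f : A[X]) (hmon : f.Monic) (hf : f.IsEisensteinAt (maximalIdeal A)) (hdeg : 0 < f.natDegree)
    (he : (f.natDegree : ResidueField A) ≠ 0)
    (α : L) (hα : eval₂ (gAL A K L) α f = 0) (hfin : Module.finrank K L = f.natDegree) :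
    IsGalois K L ∧ IsCyclic Gal(L/K) := by
  obtain ⟨π, hπ⟩ := IsDiscreteValuationRing.exists_irreducible A
  set e := f.natDegree with he_def
  have hϖV := fun V hV => EisTame.eisenstein_val (K := K) (L := L) π hπ f hmon hf hdeg α hα V hV
  obtain ⟨htot, hdesc⟩ := EisTame.unif_structure (K := K) (L := L) e hdeg π hπ α hϖV hfin
  obtain ⟨V, hV⟩ := htot.1
  have hπpos := val_pi_pos V hV π hπ
  have hαV : α ∈ V := mem_of_root α f hmon hα V hV
  have hfinV := EisHens.finite_of_structure e V hV α hαV (hdesc V hV)
  -- the unit `w = α^e / π`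
  have hgπ0 : gAL A K L π ≠ 0 := by
    intro h0
    rw [h0, map_zero] at hπpos
    exact lt_irrefl _ hπpos
  set w : L := α ^ e / gAL A K L π with hw
  have hwval : V.valuation w = 1 := by
    rw [hw, map_div₀, map_pow, hϖV V hV, div_self hπpos.ne']
  have hwV : w ∈ V := (V.valuation_le_one_iff _).mp hwval.le
  have hwu : IsUnit (⟨w, hwV⟩ : V) := (V.valuation_eq_one_iff _).mpr hwval
  obtain ⟨t, ht⟩ := EisHens.exists_root_unit V hV hfinV (htot.2.2 V hV) e hdeg he ⟨w, hwV⟩ hwu
  have htL : (t : L) ^ e = w := by
    have := congrArg (fun x : V => (x : L)) ht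
    simpa using this
  have ht0 : (t : L) ≠ 0 := by
    intro h0
    rw [h0, zero_pow hdeg.ne'] at htL
    rw [← htL, map_zero] at hwval
    exact zero_ne_one hwval
  set β : L := α / (t : L) with hβ
  have hβe : β ^ e = algebraMap K L (algebraMap A K π) := by
    rw [hβ, div_pow, htL, hw]
    have hαe0 : α ^ e ≠ 0 := by
      intro h0
      rw [h0, zero_div] at hw
      rw [hw, map_zero] at hwval
      exact zero_ne_one hwval
    field_simp
    rfl
  -- `K(β) = L`
  have hβV : V.valuation β ^ e = V.valuation (gAL A K L π) := by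
    rw [← map_pow, hβe]
    rfl
  have hli := linearIndependent_pow V hV π hπ e hdeg β hβV
  have hgen : IntermediateField.adjoin K {β} = ⊤ := by
    apply IntermediateField.eq_of_le_of_finrank_le le_top
    rw [IntermediateField.finrank_top', hfin]
    let βS : IntermediateField.adjoin K {β} := ⟨β, IntermediateField.mem_adjoin_simple_self K β⟩
    have hli' : LinearIndependent K (fun j : Fin e => βS ^ (j : ℕ)) := by
      apply LinearIndependent.of_comp (IntermediateField.adjoin K {β}).val.toLinearMap
      have : ((IntermediateField.adjoin K {β}).val.toLinearMap ∘ fun j : Fin e => βS ^ (j : ℕ)) =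
          fun j : Fin e => β ^ (j : ℕ) := by
        funext j
        simp [βS]
      rw [this]
      exact hli
    have := hli'.fintype_card_le_finrank
    simpa using this
  -- primitive roots of unity
  obtain ⟨ζ, hζ⟩ := EisHens.exists_primitiveRoot (A := A) e hdeg he
  have hζK : IsPrimitiveRoot (algebraMap A K ζ) e :=
    hζ.map_of_injective (IsFractionRing.injective A K)
  have hK : (primitiveRoots (Module.finrank K L) K).Nonempty := by
    rw [hfin]
    exact ⟨algebraMap A K ζ, (mem_primitiveRoots hdeg).mpr hζK⟩
  have htfae := isCyclic_tfae K L hK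
  have h02 := htfae.out 0 2
  apply h02.mpr
  refine ⟨β, ?_, hgen⟩
  rw [hfin, hβe]
  exact Set.mem_range_self _

end T

section Main

theorem main_16053 (O : Type u) [CommRing O] [IsDomain O]
    [IsDiscreteValuationRing O] [HenselianLocalRing O] [CharZero O]
    [IsAlgClosed (IsLocalRing.ResidueField O)]
    (p : ℕ) [Fact p.Prime] [CharP (IsLocalRing.ResidueField O) p]
    (f : O[X]) (hmon : f.Monic) (e : ℕ) (hdeg : f.natDegree = e) (he : 1 ≤ e) (hep : e < p)
    (hf : f.IsEisensteinAt (IsLocalRing.maximalIdeal O)) :
    Module.finrank (FractionRing O) (f.map (algebraMap O (FractionRing O))).SplittingField = e ∧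
      IsCyclic (f.map (algebraMap O (FractionRing O))).Gal := by
  set K := FractionRing O with hK
  set fK := f.map (algebraMap O K) with hfK
  have hdeg0 : 0 < f.natDegree := by omega
  have hirrO : Irreducible f :=
    hf.irreducible (IsLocalRing.maximalIdeal.isMaximal O).isPrime hmon.isPrimitive hdeg0
  have hirr : Irreducible fK :=
    (Monic.irreducible_iff_irreducible_map_fraction_map hmon).mp hirrO
  haveI : Fact (Irreducible fK) := ⟨hirr⟩
  have hfK0 : fK ≠ 0 := hirr.ne_zero
  have hfKmon : fK.Monic := hmon.map _
  have hfKdeg : fK.natDegree = f.natDegree := hmon.natDegree_map _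
  let L := AdjoinRoot fK
  haveI : FiniteDimensional K L := (AdjoinRoot.powerBasis hfK0).finite
  have hfin : Module.finrank K L = f.natDegree := by
    rw [(AdjoinRoot.powerBasis hfK0).finrank, AdjoinRoot.powerBasis_dim, hfKdeg]
  set α : L := AdjoinRoot.root fK with hα
  have hαroot : eval₂ (gAL O K L) α f = 0 := by
    have h := AdjoinRoot.eval₂_root fK
    rw [hfK, eval₂_map] at h
    exact h
  have hechar : (f.natDegree : ResidueField O) ≠ 0 := by
    rw [hdeg, Ne, CharP.cast_eq_zero_iff (ResidueField O) p]
    intro hdvd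
    exact absurd (Nat.le_of_dvd (by omega) hdvd) (not_le.mpr hep)
  obtain ⟨hgal, hcyc⟩ := cyclic_of_eisenstein (K := K) (L := L) f hmon hf hdeg0 hechar α hαroot hfin
  -- `L` is a splitting field of `fK`
  have hmin : fK = minpoly K α :=
    minpoly.eq_of_irreducible_of_monic hirr (by rw [aeval_def]; exact AdjoinRoot.eval₂_root fK)
      hfKmon
  haveI : fK.IsSplittingField K L := by
    refine ⟨?_, ?_⟩
    · have h := Normal.splits (inferInstance : Normal K L) α
      rw [← hmin] at h
      exact h
    · rw [eq_top_iff, ← AdjoinRoot.adjoinRoot_eq_top (f := fK)]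
      apply Algebra.adjoin_mono
      rw [Set.singleton_subset_iff, mem_rootSet]
      exact ⟨hfK0, by rw [aeval_def]; exact AdjoinRoot.eval₂_root fK⟩
  let ε : L ≃ₐ[K] fK.SplittingField := IsSplittingField.algEquiv L fK
  refine ⟨?_, ?_⟩
  · rw [← ε.toLinearEquiv.finrank_eq, hfin, hdeg]
  · exact isCyclic_of_surjective (AlgEquiv.autCongr ε).toMonoidHom (AlgEquiv.autCongr ε).surjective

end Main

end Groth.Agent.Lib.Helper26.Tame16053
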