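import Mathlib

open scoped TensorProduct

namespace Groth.Agent.Lib.Helper26.TensorPowSummand

variable {R : Type*} [CommRing R] {M : Type*} [AddCommGroup M] [Module R M]

/-- the product functional -/
noncomputable def prodFun (k : ℕ) (ψ : Fin k → Module.Dual R M) :
    (⨂[R] _ : Fin k, M) →ₗ[R] R :=
  PiTensorProduct.lift ((MultilinearMap.mkPiAlgebra R (Fin k) R).compLinearMap ψ)

lemma prodFun_tprod (k : ℕ) (ψ : Fin k → Module.Dual R M) (m : Fin k → M) :
    prodFun k ψ (PiTensorProduct.tprod R m) = ∏ i, ψ i (m i) := by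
  simp [prodFun]

lemma prodFun_range_eq_zero (k : ℕ) (F : Submodule R M) (ψ : Fin k → Module.Dual R M) (i0 : Fin k)
    (h0 : ∀ x ∈ F, ψ i0 x = 0) (z : ⨂[R] _ : Fin k, M)
    (hz : z ∈ LinearMap.range (PiTensorProduct.map (R := R) (fun _ : Fin k => F.subtype))) :
    prodFun k ψ z = 0 := by
  rw [PiTensorProduct.map_range_eq_span_tprod] at hz
  induction hz using Submodule.span_induction with
  | mem z hz =>
    obtain ⟨m, rfl⟩ := hz
    rw [prodFun_tprod]
    exact Finset.prod_eq_zero (Finset.mem_univ i0) (h0 _ (m i0).2)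
  | zero => simp
  | add x y _ _ hx hy => rw [map_add, hx, hy, add_zero]
  | smul a x _ hx => rw [map_smul, hx, smul_zero]


theorem le_of_range_le [Module.Projective R M] (F₁ F₂ C₁ C₂ : Submodule R M)
    (h₁ : IsCompl F₁ C₁) (h₂ : IsCompl F₂ C₂) (j : ℕ)
    (h : LinearMap.range (PiTensorProduct.map (R := R) (fun _ : Fin (j + 1) => F₁.subtype)) ≤
      LinearMap.range (PiTensorProduct.map (R := R) (fun _ : Fin (j + 1) => F₂.subtype))) :
    F₁ ≤ F₂ := by
  classical
  intro x hx
  set q : M →ₗ[R] M := C₂.subtype ∘ₗ C₂.projectionOnto F₂ h₂.symm with hq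
  have hq0 : ∀ y ∈ F₂, q y = 0 := by
    intro y hy
    simp only [hq, LinearMap.coe_comp, Function.comp_apply, Submodule.coe_subtype]
    rw [Submodule.projectionOnto_apply_of_mem_right h₂.symm hy]
    rfl
  have hqx : ∀ y, q y = 0 → y ∈ F₂ := by
    intro y hy
    simp only [hq, LinearMap.coe_comp, Function.comp_apply, Submodule.coe_subtype,
      ZeroMemClass.coe_eq_zero] at hy
    exact (Submodule.projectionOnto_apply_eq_zero_iff h₂.symm).mp hy
  apply hqx
  rw [← Module.forall_dual_apply_eq_zero_iff R]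
  intro ψ
  set ψ0 : Module.Dual R M := ψ ∘ₗ q with hψ0
  have hψ0F : ∀ y ∈ F₂, ψ0 y = 0 := by
    intro y hy
    simp [hψ0, hq0 y hy]
  change ψ0 x = 0
  -- the property
  let P : ℕ → Prop := fun i => ∀ x ∈ F₁, ∀ (y : Fin i → M) (ψ' : Fin i → Module.Dual R M),
    (∀ l, y l ∈ F₁) → ψ0 x * ∏ l, ψ' l (y l) = 0
  have hPj : P j := by
    intro x hx y ψ' hy
    have hmem : PiTensorProduct.tprod R (Fin.cons x y : Fin (j + 1) → M) ∈
        LinearMap.range (PiTensorProduct.map (R := R) (fun _ : Fin (j + 1) => F₁.subtype)) := by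
      refine ⟨PiTensorProduct.tprod R (Fin.cons (⟨x, hx⟩ : F₁) (fun l => (⟨y l, hy l⟩ : F₁))), ?_⟩
      rw [PiTensorProduct.map_tprod]
      congr 1
      funext i
      refine Fin.cases ?_ (fun l => ?_) i
      · simp
      · simp
    have := prodFun_range_eq_zero (j + 1) F₂ (Fin.cons ψ0 ψ') 0 (by simpa using hψ0F) _ (h hmem)
    rw [prodFun_tprod, Fin.prod_univ_succ] at this
    simpa using this
  obtain ⟨s, hs⟩ := (Module.projective_def' (R := R) (P := M)).mp inferInstance
  set p₁ : M →ₗ[R] M := F₁.subtype ∘ₗ F₁.projectionOnto C₁ h₁ with hp₁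
  have hp₁F : ∀ y, p₁ y ∈ F₁ := fun y => (F₁.projectionOnto C₁ h₁ y).2
  have hp₁x : ∀ y ∈ F₁, p₁ y = y := by
    intro y hy
    simp only [hp₁, LinearMap.coe_comp, Function.comp_apply, Submodule.coe_subtype]
    rw [Submodule.projectionOnto_apply_of_mem_left h₁ hy]
  have hstep : ∀ i, P (i + 1) → P i := by
    intro i hP x hx y ψ' hy
    have hx1 : x = ∑ e ∈ (s x).support, (s x e) • p₁ e := by
      conv_lhs => rw [← hp₁x x hx]
      have := LinearMap.congr_fun hs x
      simp only [LinearMap.coe_comp, Function.comp_apply, LinearMap.id_coe, id_eq] at this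
      conv_lhs => rw [← this]
      rw [Finsupp.linearCombination_apply, Finsupp.sum, map_sum]
      apply Finset.sum_congr rfl
      intro e _
      rw [map_smul, id]
    have hx2 : ψ0 x = ∑ e ∈ (s x).support, (s x e) * ψ0 (p₁ e) := by
      conv_lhs => rw [hx1]
      rw [map_sum]
      apply Finset.sum_congr rfl
      intro e _
      rw [map_smul, smul_eq_mul]
    rw [hx2, Finset.sum_mul]
    apply Finset.sum_eq_zero
    intro e _
    have := hP (p₁ e) (hp₁F e) (Fin.cons x y : Fin (i + 1) → M)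
      (Fin.cons ((Finsupp.lapply e) ∘ₗ s) ψ') (by
        intro l
        refine Fin.cases ?_ (fun l => ?_) l
        · simpa using hx
        · simpa using hy l)
    rw [Fin.prod_univ_succ] at this
    simp only [Fin.cons_zero, Fin.cons_succ, LinearMap.coe_comp, Function.comp_apply,
      Finsupp.lapply_apply] at this
    rw [← this]
    ring
  have hP0 : P 0 := Nat.decreasingInduction (motive := fun m _ => P m)
    (fun k _ hk => hstep k hk) hPj (Nat.zero_le j)
  have := hP0 x hx Fin.elim0 Fin.elim0 (fun l => l.elim0)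
  simpa using this

theorem main [Module.Projective R M] (F₁ F₂ : Submodule R M)
    (h₁ : ∃ C : Submodule R M, IsCompl F₁ C) (h₂ : ∃ C : Submodule R M, IsCompl F₂ C)
    (k : ℕ) (hk : 1 ≤ k) :
    LinearMap.range (PiTensorProduct.map (R := R) (fun _ : Fin k => F₁.subtype)) =
      LinearMap.range (PiTensorProduct.map (R := R) (fun _ : Fin k => F₂.subtype)) ↔ F₁ = F₂ := by
  obtain ⟨j, rfl⟩ : ∃ j, k = j + 1 := ⟨k - 1, by omega⟩
  obtain ⟨C₁, hC₁⟩ := h₁
  obtain ⟨C₂, hC₂⟩ := h₂
  constructor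
  · intro h
    exact le_antisymm (le_of_range_le F₁ F₂ C₁ C₂ hC₁ hC₂ j h.le)
      (le_of_range_le F₂ F₁ C₂ C₁ hC₂ hC₁ j h.ge)
  · rintro rfl
    rfl

end Groth.Agent.Lib.Helper26.TensorPowSummand
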