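import Mathlib
import Groth.Agent.Lib.Helper1.ArtFunPS

set_option autoImplicit false
universe u

namespace Groth.Agent.Lib.Helper26.ThickNodeA

open IsLocalRing MvPowerSeries

/-- `T[[x,y]]/(xy - t)` -/
abbrev Nd (T : Type u) [CommRing T] (t : T) : Type u :=
  MvPowerSeries (Fin 2) T ⧸ Ideal.span {(X 0 * X 1 - C t : MvPowerSeries (Fin 2) T)}

section L1

variable {T : Type u} [CommRing T] [IsLocalRing T] (t : T)

theorem mem_of_not_isUnit (w : Nd T t) (hw : ¬ IsUnit w) :
    w ∈ Ideal.span {(Ideal.Quotient.mk _ (X 0) : Nd T t), Ideal.Quotient.mk _ (X 1)} ⊔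
      (maximalIdeal T).map ((Ideal.Quotient.mk (Ideal.span
        {(X 0 * X 1 - C t : MvPowerSeries (Fin 2) T)})).comp
          (C : T →+* MvPowerSeries (Fin 2) T)) := by
  obtain ⟨F, rfl⟩ := Ideal.Quotient.mk_surjective w
  have hF : ¬ IsUnit F := fun h => hw (h.map _)
  rw [MvPowerSeries.isUnit_iff_constantCoeff] at hF
  have h1 := Groth.Agent.Lib.Helper1.ArtFunLib.PS.sub_C_constantCoeff_mem F
  have h2 : F = (F - C (constantCoeff F)) + C (constantCoeff F) := by ring
  rw [h2, map_add]
  refine Ideal.add_mem _ (Ideal.mem_sup_left ?_) (Ideal.mem_sup_right ?_)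
  · have hle : Ideal.span (Set.range (X : Fin 2 → MvPowerSeries (Fin 2) T)) ≤
        (Ideal.span {(Ideal.Quotient.mk _ (X 0) : Nd T t), Ideal.Quotient.mk _ (X 1)}).comap
          (Ideal.Quotient.mk _) := by
      rw [Ideal.span_le]
      rintro _ ⟨i, rfl⟩
      rw [SetLike.mem_coe, Ideal.mem_comap]
      fin_cases i
      · exact Ideal.subset_span (Set.mem_insert _ _)
      · exact Ideal.subset_span (Set.mem_insert_of_mem _ rfl)
    exact hle h1
  · exact Ideal.mem_map_of_mem ((Ideal.Quotient.mk (Ideal.span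
        {(X 0 * X 1 - C t : MvPowerSeries (Fin 2) T)})).comp
          (C : T →+* MvPowerSeries (Fin 2) T)) hF

/-- constant coefficient modulo `t` -/
noncomputable def ccHom : Nd T t →+* T ⧸ Ideal.span {t} :=
  Ideal.Quotient.lift _ ((Ideal.Quotient.mk (Ideal.span {t})).comp
    (constantCoeff : MvPowerSeries (Fin 2) T →+* T)) (by
    intro F hF
    obtain ⟨G, rfl⟩ := Ideal.mem_span_singleton'.mp hF
    have h1 : constantCoeff (X 0 * X 1 - C t : MvPowerSeries (Fin 2) T) = -t := by
      rw [map_sub, map_mul, constantCoeff_X, constantCoeff_C, zero_mul, zero_sub]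
    have h2 : Ideal.Quotient.mk (Ideal.span {t}) t = 0 :=
      Ideal.Quotient.eq_zero_iff_mem.mpr (Ideal.subset_span rfl)
    rw [RingHom.comp_apply, map_mul, h1, map_mul, map_neg, h2, neg_zero, mul_zero])

theorem not_isUnit_mk_X (ht : t ∈ maximalIdeal T) (i : Fin 2) :
    ¬ IsUnit (Ideal.Quotient.mk (Ideal.span {(X 0 * X 1 - C t : MvPowerSeries (Fin 2) T)}) (X i)) := by
  intro h
  have h1 := h.map (ccHom t)
  have h2 : ccHom t (Ideal.Quotient.mk _ (X i)) = 0 := by
    rw [ccHom, Ideal.Quotient.lift_mk, RingHom.comp_apply, constantCoeff_X, map_zero]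
  rw [h2, isUnit_zero_iff] at h1
  have h3 : (1 : T ⧸ Ideal.span {t}) = 0 := h1.symm
  rw [← map_one (Ideal.Quotient.mk (Ideal.span {t})), Ideal.Quotient.eq_zero_iff_mem,
    Ideal.mem_span_singleton] at h3
  have := isUnit_of_dvd_one h3
  exact ht this

end L1

section Q

variable {T S : Type u} [CommRing T] [CommRing S] (g : T →+* S) (t : T) (ht : g t = 0)

/-- the map `T[[x,y]]/(xy-t) → S[[x]]`, `y ↦ 0`, when `t ↦ 0` in `S` -/
noncomputable def Qhom : Nd T t →+* PowerSeries S :=
  Ideal.Quotient.lift _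
    ((killCompl (R := S) (Function.Embedding.punit (0 : Fin 2))).toRingHom.comp
      (MvPowerSeries.map g)) (by
    intro F hF
    obtain ⟨G, rfl⟩ := Ideal.mem_span_singleton'.mp hF
    rw [map_mul]
    have : (killCompl (R := S) (Function.Embedding.punit (0 : Fin 2))).toRingHom.comp
        (MvPowerSeries.map g) (X 0 * X 1 - C t) = 0 := by
      rw [RingHom.comp_apply, map_sub, map_mul, MvPowerSeries.map_X, MvPowerSeries.map_X,
        MvPowerSeries.map_C, ht, map_zero, sub_zero, map_mul]
      have : (killCompl (R := S) (Function.Embedding.punit (0 : Fin 2))).toRingHom (X 1) = 0 := by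
        apply killCompl_X_eq_zero
        rintro ⟨u, hu⟩
        exact absurd hu (by simp [Function.Embedding.punit])
      rw [this, mul_zero]
    rw [this, mul_zero])

theorem Qhom_mk (F : MvPowerSeries (Fin 2) T) :
    Qhom g t ht (Ideal.Quotient.mk _ F) =
      killCompl (R := S) (Function.Embedding.punit (0 : Fin 2)) (MvPowerSeries.map g F) := by
  rw [Qhom, Ideal.Quotient.lift_mk]
  rfl

theorem Qhom_X0 : Qhom g t ht (Ideal.Quotient.mk _ (X 0)) = PowerSeries.X := by
  rw [Qhom_mk, MvPowerSeries.map_X]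
  exact killCompl_X (e := Function.Embedding.punit (0 : Fin 2)) ()

theorem Qhom_X1 : Qhom g t ht (Ideal.Quotient.mk _ (X 1)) = 0 := by
  rw [Qhom_mk, MvPowerSeries.map_X]
  apply killCompl_X_eq_zero
  rintro ⟨u, hu⟩
  exact absurd hu (by simp [Function.Embedding.punit])

theorem Qhom_C (r : T) : Qhom g t ht (Ideal.Quotient.mk _ (C r)) = PowerSeries.C (g r) := by
  rw [Qhom_mk, MvPowerSeries.map_C, killCompl_C]
  rfl

end Q

end Groth.Agent.Lib.Helper26.ThickNodeA
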