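import Mathlib

set_option autoImplicit false
universe u

namespace Groth.Agent.Lib.Helper26.ThickNodeB

open IsLocalRing PowerSeries

variable {S : Type u} [CommRing S] [IsLocalRing S]

theorem eq_zero_of_mul_eq_C
    (hsep : ∀ s : S, (∀ k, s ∈ maximalIdeal S ^ k) → s = 0)
    (f₁ f₂ : PowerSeries S) (c : S) (h : f₁ * f₂ = C c)
    (h0 : coeff 0 f₁ ∈ maximalIdeal S) (h1 : IsUnit (coeff 1 f₁)) : f₂ = 0 := by
  have key : ∀ k n, coeff n f₂ ∈ maximalIdeal S ^ k := by
    intro k
    induction k with
    | zero => intro n; simp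
    | succ k ihk =>
      intro n
      induction n using Nat.strong_induction_on with
      | _ n ihn =>
        have hc : coeff (n + 1) (f₁ * f₂) = 0 := by
          rw [h, coeff_C, if_neg (by omega)]
        rw [coeff_mul] at hc
        have hmem : ((1, n) : ℕ × ℕ) ∈ Finset.HasAntidiagonal.antidiagonal (n + 1) := by
          rw [Finset.HasAntidiagonal.mem_antidiagonal]; omega
        rw [← Finset.add_sum_erase _ _ hmem] at hc
        have hrest : ∑ p ∈ (Finset.HasAntidiagonal.antidiagonal (n + 1)).erase (1, n),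
            coeff p.1 f₁ * coeff p.2 f₂ ∈ maximalIdeal S ^ (k + 1) := by
          apply Ideal.sum_mem
          rintro ⟨i, j⟩ hij
          rw [Finset.mem_erase, Finset.HasAntidiagonal.mem_antidiagonal] at hij
          obtain ⟨hne, hij⟩ := hij
          simp only at hij ⊢
          rcases Nat.eq_zero_or_pos i with hi | hi
          · subst hi
            rw [pow_succ']
            exact Ideal.mul_mem_mul h0 (ihk j)
          · have hi2 : 2 ≤ i := by
              by_contra hlt
              have hi1 : i = 1 := by omega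
              subst hi1
              apply hne
              have : j = n := by omega
              rw [this]
            exact Ideal.mul_mem_left _ _ (ihn j (by omega))
        have h2 : coeff 1 f₁ * coeff n f₂ ∈ maximalIdeal S ^ (k + 1) := by
          have : coeff 1 f₁ * coeff n f₂ = - ∑ p ∈ (Finset.HasAntidiagonal.antidiagonal (n + 1)).erase (1, n),
              coeff p.1 f₁ * coeff p.2 f₂ := by
            linear_combination hc
          rw [this]
          exact Ideal.neg_mem_iff _ |>.mpr hrest
        obtain ⟨u, hu⟩ := h1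
        have h3 : coeff n f₂ = (↑u⁻¹ : S) * (coeff 1 f₁ * coeff n f₂) := by
          rw [← hu, ← mul_assoc, Units.inv_mul, one_mul]
        rw [h3]
        exact Ideal.mul_mem_left _ _ h2
  ext n
  rw [map_zero]
  exact hsep _ (fun k => key k n)

omit [IsLocalRing S] in
theorem coeff_one_mul' (α f : PowerSeries S) :
    coeff 1 (α * f) = coeff 0 α * coeff 1 f + coeff 1 α * coeff 0 f := by
  rw [coeff_mul]
  simp [Finset.Nat.antidiagonal_succ]

theorem const_eq_zero
    (hsep : ∀ s : S, (∀ k, s ∈ maximalIdeal S ^ k) → s = 0)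
    (f₁ f₂ α₁ α₂ μ : PowerSeries S) (c : S) (h : f₁ * f₂ = C c)
    (h01 : coeff 0 f₁ ∈ maximalIdeal S) (h02 : coeff 0 f₂ ∈ maximalIdeal S)
    (hX : (X : PowerSeries S) = α₁ * f₁ + α₂ * f₂ + μ)
    (hμ : ∀ n, coeff n μ ∈ maximalIdeal S) : c = 0 := by
  have h1 : (1 : S) = coeff 0 α₁ * coeff 1 f₁ + coeff 1 α₁ * coeff 0 f₁ +
      (coeff 0 α₂ * coeff 1 f₂ + coeff 1 α₂ * coeff 0 f₂) + coeff 1 μ := by
    have := congrArg (coeff 1) hX
    rw [coeff_one_X, map_add, map_add, coeff_one_mul', coeff_one_mul'] at this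
    exact this
  have hC : ∀ g : PowerSeries S, g = 0 → f₁ * f₂ = 0 → c = 0 := by
    intro _ _ h0
    rw [h] at h0
    have := congrArg (coeff 0) h0
    rwa [coeff_zero_C, map_zero] at this
  by_cases hu1 : IsUnit (coeff 1 f₁)
  · have := eq_zero_of_mul_eq_C hsep f₁ f₂ c h h01 hu1
    exact hC _ this (by rw [this, mul_zero])
  · by_cases hu2 : IsUnit (coeff 1 f₂)
    · have := eq_zero_of_mul_eq_C hsep f₂ f₁ c (by rw [mul_comm, h]) h02 hu2
      exact hC _ this (by rw [this, zero_mul])
    · exfalso
      have hm1 : coeff 1 f₁ ∈ maximalIdeal S := hu1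
      have hm2 : coeff 1 f₂ ∈ maximalIdeal S := hu2
      have : (1 : S) ∈ maximalIdeal S := by
        rw [h1]
        exact Ideal.add_mem _ (Ideal.add_mem _
          (Ideal.add_mem _ (Ideal.mul_mem_left _ _ hm1) (Ideal.mul_mem_left _ _ h01))
          (Ideal.add_mem _ (Ideal.mul_mem_left _ _ hm2) (Ideal.mul_mem_left _ _ h02))) (hμ 1)
      exact (Ideal.ne_top_iff_one _).mp (maximalIdeal.isMaximal S).ne_top this

end Groth.Agent.Lib.Helper26.ThickNodeB
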