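import Mathlib
import Groth.Prelude.Def_DualGr
import Groth.Agent.Lib.Helper26.Node24D
import Groth.Agent.Lib.Helper26.ThickNodeA
import Groth.Agent.Lib.Helper26.ThickNodeB

set_option autoImplicit false
universe u

namespace Groth.Agent.Lib.Helper26.ThickNodeC

open IsLocalRing MvPowerSeries DualGr
open Groth.Agent.Lib.Helper26.ThickNodeA Groth.Agent.Lib.Helper26.ThickNodeB
  Groth.Agent.Lib.Helper26.Node24D

variable (R : Type u) [CommRing R] [IsLocalRing R] [IsNoetherianRing R]

theorem algebraMap_mem_max (r : R) (hr : r ∈ maximalIdeal R) :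
    algebraMap R (AdicCompletion (maximalIdeal R) R) r ∈
      maximalIdeal (AdicCompletion (maximalIdeal R) R) := by
  rw [AdicCompletion.maximalIdeal_eq_map]
  exact Ideal.mem_map_of_mem _ hr

theorem mem_span_of_equiv (a b : R) (ha : a ∈ maximalIdeal R) (hb : b ∈ maximalIdeal R)
    (θ : nodeRing R a ≃+* nodeRing R b)
    (hθ : ∀ r : R, θ (Ideal.Quotient.mk _ (C (algebraMap R (Curv2.cpl R) r))) =
      Ideal.Quotient.mk _ (C (algebraMap R (Curv2.cpl R) r))) :
    a ∈ Ideal.span {b} := by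
  have : IsNoetherianRing (AdicCompletion (maximalIdeal R) R) := isNoetherianRing_cpl
  set Rh := AdicCompletion (maximalIdeal R) R with hRh
  set ah : Rh := algebraMap R Rh a with hah
  set bh : Rh := algebraMap R Rh b with hbh
  have hahm : ah ∈ maximalIdeal Rh := algebraMap_mem_max R a ha
  have hbhm : bh ∈ maximalIdeal Rh := algebraMap_mem_max R b hb
  -- the quotient S
  have hne : Ideal.span {bh} ≠ ⊤ := by
    intro h
    rw [Ideal.span_singleton_eq_top] at h
    exact hbhm h
  have : Nontrivial (Rh ⧸ Ideal.span {bh}) := Ideal.Quotient.nontrivial_iff.mpr hne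
  set g : Rh →+* Rh ⧸ Ideal.span {bh} := Ideal.Quotient.mk _ with hg
  have hgs : Function.Surjective g := Ideal.Quotient.mk_surjective
  have : IsLocalRing (Rh ⧸ Ideal.span {bh}) := IsLocalRing.of_surjective' g hgs
  have : IsLocalHom g := IsLocalHom.of_surjective g hgs
  have hgb : g bh = 0 := Ideal.Quotient.eq_zero_iff_mem.mpr (Ideal.subset_span rfl)
  have hgm : ∀ ρ ∈ maximalIdeal Rh, g ρ ∈ maximalIdeal (Rh ⧸ Ideal.span {bh}) := by
    intro ρ hρ
    rw [mem_maximalIdeal, mem_nonunits_iff] at hρ ⊢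
    intro h
    exact hρ (isUnit_of_map_unit g ρ h)
  have hsep : ∀ s : Rh ⧸ Ideal.span {bh},
      (∀ k, s ∈ maximalIdeal (Rh ⧸ Ideal.span {bh}) ^ k) → s = 0 := by
    intro s hs
    have h1 := Ideal.iInf_pow_eq_bot_of_isLocalRing (maximalIdeal (Rh ⧸ Ideal.span {bh}))
      (maximalIdeal.isMaximal _).ne_top
    have h2 : s ∈ ⨅ i, maximalIdeal (Rh ⧸ Ideal.span {bh}) ^ i := by
      rw [Ideal.mem_iInf]; exact hs
    rw [h1] at h2
    exact h2
  -- the map to S[[x]]
  set Q := Qhom g bh hgb with hQ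
  set ψ : nodeRing R a →+* PowerSeries (Rh ⧸ Ideal.span {bh}) := Q.comp θ.toRingHom with hψ
  have hψC : ∀ r : R, ψ (Ideal.Quotient.mk _ (C (algebraMap R Rh r))) =
      PowerSeries.C (g (algebraMap R Rh r)) := by
    intro r
    rw [hψ, RingHom.comp_apply]
    have : θ.toRingHom (Ideal.Quotient.mk _ (C (algebraMap R Rh r))) =
        Ideal.Quotient.mk _ (C (algebraMap R Rh r)) := hθ r
    rw [this, hQ, Qhom_C]
  set f₁ := ψ (Ideal.Quotient.mk _ (X 0)) with hf₁
  set f₂ := ψ (Ideal.Quotient.mk _ (X 1)) with hf₂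
  have h12 : f₁ * f₂ = PowerSeries.C (g ah) := by
    rw [hf₁, hf₂, ← map_mul, ← map_mul, ← hψC a]
    congr 1
    rw [Ideal.Quotient.eq]
    exact Ideal.subset_span rfl
  -- the augmentation of N_b
  set ε : nodeRing R b →+* ResidueField (Rh ⧸ Ideal.span {bh}) :=
    (residue _).comp ((PowerSeries.constantCoeff).comp Q) with hε
  have hεker : Ideal.span {(Ideal.Quotient.mk _ (X 0) : nodeRing R b), Ideal.Quotient.mk _ (X 1)} ⊔
      (maximalIdeal Rh).map ((Ideal.Quotient.mk (Ideal.span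
        {(X 0 * X 1 - C bh : MvPowerSeries (Fin 2) Rh)})).comp
          (C : Rh →+* MvPowerSeries (Fin 2) Rh)) ≤ RingHom.ker ε := by
    apply sup_le
    · rw [Ideal.span_le]
      rintro _ (rfl | rfl)
      · rw [SetLike.mem_coe, RingHom.mem_ker, hε, RingHom.comp_apply, RingHom.comp_apply, hQ,
          Qhom_X0, PowerSeries.constantCoeff_X, map_zero]
      · rw [SetLike.mem_coe, RingHom.mem_ker, hε, RingHom.comp_apply, RingHom.comp_apply, hQ,
          Qhom_X1, map_zero, map_zero]
    · rw [Ideal.map_le_iff_le_comap]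
      intro ρ hρ
      rw [Ideal.mem_comap, RingHom.mem_ker, hε, RingHom.comp_apply, RingHom.comp_apply,
        RingHom.comp_apply, hQ, Qhom_C, PowerSeries.constantCoeff_C, residue_eq_zero_iff]
      exact hgm ρ hρ
  have hcoeff0 : ∀ w : nodeRing R a, ¬ IsUnit w →
      PowerSeries.coeff 0 (ψ w) ∈ maximalIdeal (Rh ⧸ Ideal.span {bh}) := by
    intro w hw
    have h1 : ¬ IsUnit (θ w) := by
      intro h
      apply hw
      have := h.map θ.symm.toRingHom
      simpa using this
    have h2 := hεker (mem_of_not_isUnit bh (θ w) h1)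
    rw [RingHom.mem_ker, hε, RingHom.comp_apply, RingHom.comp_apply, residue_eq_zero_iff] at h2
    rw [PowerSeries.coeff_zero_eq_constantCoeff_apply]
    exact h2
  have h01 := hcoeff0 _ (not_isUnit_mk_X ah hahm 0)
  have h02 := hcoeff0 _ (not_isUnit_mk_X ah hahm 1)
  -- the element w
  set w := θ.symm (Ideal.Quotient.mk _ (X 0)) with hw
  have hwnu : ¬ IsUnit w := by
    intro h
    have := h.map θ.toRingHom
    rw [hw] at this
    have h2 : θ.toRingHom (θ.symm (Ideal.Quotient.mk _ (X 0))) = Ideal.Quotient.mk _ (X 0) :=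
      θ.apply_symm_apply _
    rw [h2] at this
    exact not_isUnit_mk_X bh hbhm 0 this
  have hwmem := mem_of_not_isUnit ah w hwnu
  obtain ⟨z, hz, m, hm, hzm⟩ := Submodule.mem_sup.mp hwmem
  obtain ⟨A₁, A₂, hA⟩ := Ideal.mem_span_pair.mp hz
  have hψw : ψ w = PowerSeries.X := by
    rw [hψ, RingHom.comp_apply, hw]
    have h2 : θ.toRingHom (θ.symm (Ideal.Quotient.mk _ (X 0))) = Ideal.Quotient.mk _ (X 0) :=
      θ.apply_symm_apply _
    rw [h2, hQ, Qhom_X0]
  have hX : (PowerSeries.X : PowerSeries (Rh ⧸ Ideal.span {bh})) =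
      ψ A₁ * f₁ + ψ A₂ * f₂ + ψ m := by
    rw [← hψw, ← hzm, ← hA, map_add, map_add, map_mul, map_mul]
  -- coefficients of ψ m
  have hμ : ∀ n, PowerSeries.coeff n (ψ m) ∈ maximalIdeal (Rh ⧸ Ideal.span {bh}) := by
    have hle : (maximalIdeal Rh).map ((Ideal.Quotient.mk (Ideal.span
        {(X 0 * X 1 - C ah : MvPowerSeries (Fin 2) Rh)})).comp
          (C : Rh →+* MvPowerSeries (Fin 2) Rh)) ≤
        (RingHom.ker (PowerSeries.map (residue (Rh ⧸ Ideal.span {bh})))).comap ψ := by
      rw [AdicCompletion.maximalIdeal_eq_map, Ideal.map_map, Ideal.map_le_iff_le_comap]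
      intro r hr
      rw [Ideal.mem_comap, Ideal.mem_comap, RingHom.mem_ker]
      have : ψ ((((Ideal.Quotient.mk (Ideal.span
          {(X 0 * X 1 - C ah : MvPowerSeries (Fin 2) Rh)})).comp
            (C : Rh →+* MvPowerSeries (Fin 2) Rh)).comp (algebraMap R Rh)) r) =
          PowerSeries.C (g (algebraMap R Rh r)) := hψC r
      rw [this, PowerSeries.map_C, (residue_eq_zero_iff _).mpr (hgm _ (algebraMap_mem_max R r hr)),
        map_zero]
    intro n
    have h1 := hle hm
    rw [Ideal.mem_comap, RingHom.mem_ker] at h1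
    have h2 := congrArg (PowerSeries.coeff n) h1
    rw [PowerSeries.coeff_map, map_zero, residue_eq_zero_iff] at h2
    exact h2
  have hzero := const_eq_zero hsep f₁ f₂ (ψ A₁) (ψ A₂) (ψ m) (g ah) h12 h01 h02 hX hμ
  -- descent
  have h3 : ah ∈ Ideal.span {bh} := Ideal.Quotient.eq_zero_iff_mem.mp hzero
  have : Module.FaithfullyFlat R (AdicCompletion (maximalIdeal R) R) :=
    Module.FaithfullyFlat.of_flat_of_isLocalHom
  have h4 : Ideal.span {bh} = (Ideal.span {b}).map (algebraMap R Rh) := by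
    rw [Ideal.map_span, Set.image_singleton]
  rw [h4] at h3
  have h5 : a ∈ ((Ideal.span {b}).map (algebraMap R Rh)).comap (algebraMap R Rh) := h3
  rwa [Ideal.comap_map_eq_self_of_faithfullyFlat] at h5

theorem main_17737
    (R A : Type u) [CommRing R] [IsLocalRing R] [IsNoetherianRing R] [CommRing A] [IsLocalRing A]
    (φ : R →+* A) (a b : R) (ha : a ∈ maximalIdeal R) (hb : b ∈ maximalIdeal R)
    (h₁ : DualGr.IsThickNode φ a) (h₂ : DualGr.IsThickNode φ b) :
    Ideal.span {a} = Ideal.span {b} := by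
  obtain ⟨e₁, he₁⟩ := h₁
  obtain ⟨e₂, he₂⟩ := h₂
  apply le_antisymm
  · rw [Ideal.span_singleton_le_iff_mem]
    apply mem_span_of_equiv R a b ha hb (e₁.symm.trans e₂)
    intro r
    rw [RingEquiv.trans_apply, ← he₁ r, RingEquiv.symm_apply_apply, he₂ r]
  · rw [Ideal.span_singleton_le_iff_mem]
    apply mem_span_of_equiv R b a hb ha (e₂.symm.trans e₁)
    intro r
    rw [RingEquiv.trans_apply, ← he₂ r, RingEquiv.symm_apply_apply, he₁ r]

end Groth.Agent.Lib.Helper26.ThickNodeC
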