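import Mathlib
import Groth.Prelude.Def_CurvBase
import Groth.Agent.Lib.Helper29.QCohBasic
set_option autoImplicit false
set_option linter.style.haveILetI false
universe u
open AlgebraicGeometry CategoryTheory TopologicalSpace Opposite

namespace Groth.Agent.Lib.Helper26.TildeAss

/-- associated primes transfer along injective semilinear maps over a surjective ring map -/
lemma isAssociatedPrime_of_semilinear {A R M N : Type*} [CommRing A] [CommRing R]
    [AddCommGroup M] [AddCommGroup N] [Module A M] [Module R N] (σ : A →+* R)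
    (hσ : Function.Surjective σ) (e : M →+ N) (he_inj : Function.Injective e)
    (he : ∀ (a : A) (m : M), e (a • m) = σ a • e m) (I : Ideal A) (J : Ideal R)
    (hIJ : ∀ a, σ a ∈ J ↔ a ∈ I) (h : IsAssociatedPrime I M) : IsAssociatedPrime J N := by
  obtain ⟨hI, x, hIx⟩ := h
  refine ⟨?_, e x, ?_⟩
  · rw [Ideal.isPrime_iff]
    constructor
    · rw [Ideal.ne_top_iff_one, ← map_one σ, hIJ]
      exact (Ideal.ne_top_iff_one _).mp hI.ne_top
    · intro r s hrs
      obtain ⟨a, rfl⟩ := hσ r
      obtain ⟨b, rfl⟩ := hσ s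
      rw [← map_mul, hIJ] at hrs
      rw [hIJ, hIJ]
      exact hI.mem_or_mem hrs
  · ext r
    obtain ⟨a, rfl⟩ := hσ r
    rw [hIJ, hIx]
    simp only [Ideal.mem_radical_iff, Submodule.mem_colon_singleton, Submodule.mem_bot]
    constructor
    · rintro ⟨n, hn⟩
      exact ⟨n, by rw [← map_pow, ← he, hn, map_zero]⟩
    · rintro ⟨n, hn⟩
      refine ⟨n, he_inj ?_⟩
      rw [he, map_pow, hn, map_zero]

open Groth.Agent.Lib.Helper29.QCoh in
theorem main (A : CommRingCat.{u}) (M : ModuleCat.{u} A) (p : Spec A) :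
    (p.asIdeal ∈ associatedPrimes A M → Curv2.IsAssPoint (tilde M) p) ∧
    (p.asIdeal.FG → Curv2.IsAssPoint (tilde M) p → p.asIdeal ∈ associatedPrimes A M) := by
  have hU : IsAffineOpen (⊤ : (Spec A).Opens) := isAffineOpen_top _
  have hp : p ∈ (⊤ : (Spec A).Opens) := trivial
  set q : Ideal Γ(Spec A, ⊤) := (hU.primeIdealOf ⟨p, hp⟩).asIdeal with hq
  -- the ring iso
  let σ : A →+* Γ(Spec A, ⊤) := (Scheme.ΓSpecIso A).inv.hom
  have hσbij : Function.Bijective σ := ConcreteCategory.bijective_of_isIso (Scheme.ΓSpecIso A).inv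
  have hIJ : ∀ a : A, σ a ∈ q ↔ a ∈ p.asIdeal := by
    intro a
    have h1 := mem_basicOpen_iff_notMem_primeIdealOf hU p hp (σ a)
    have h2 : (Spec A).basicOpen (σ a) = PrimeSpectrum.basicOpen a := basicOpen_eq_of_affine a
    rw [h2] at h1
    have h3 : p ∈ PrimeSpectrum.basicOpen a ↔ a ∉ p.asIdeal := Iff.rfl
    exact (not_iff_not.mp (h3.symm.trans h1)).symm
  -- the module iso
  let e : M →ₗ[A] Γ(tilde M, ⊤) := (tilde.isoTop M).hom.hom
  have he_bij : Function.Bijective e :=
    ConcreteCategory.bijective_of_isIso (tilde.isoTop M).hom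
  have he : ∀ (a : A) (m : M), e (a • m) = σ a • e m := by
    intro a m
    rw [map_smul]
    rfl
  -- localization set-up
  letI mst := stalkModule (tilde M) ⊤ p hp
  letI alg : Algebra Γ(Spec A, ⊤) ((Spec A).presheaf.stalk p) :=
    TopCat.Presheaf.algebra_section_stalk (Spec A).presheaf ⟨p, hp⟩
  haveI hloc := hU.isLocalization_stalk ⟨p, hp⟩
  haveI : IsScalarTower Γ(Spec A, ⊤) ((Spec A).presheaf.stalk p) ((tilde M).presheaf.stalk p) :=
    IsScalarTower.of_algebraMap_smul (fun r m => rfl)
  haveI hlm := isLocalizedModule_germ (tilde M) hU p hp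
  have hunder : (IsLocalRing.maximalIdeal ((Spec A).presheaf.stalk p)).comap
      (algebraMap Γ(Spec A, ⊤) ((Spec A).presheaf.stalk p)) = q :=
    IsLocalization.AtPrime.under_maximalIdeal _ q
  constructor
  · intro hass
    have h1 : IsAssociatedPrime q Γ(tilde M, ⊤) :=
      isAssociatedPrime_of_semilinear σ hσbij.2 e.toAddMonoidHom he_bij.1 he p.asIdeal q hIJ hass
    have h2 := Module.associatedPrimes.mem_associatedPrimes_of_comap_mem_associatedPrimes_of_isLocalizedModule
      q.primeCompl (germₗ (tilde M) ⊤ p hp)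
      (IsLocalRing.maximalIdeal ((Spec A).presheaf.stalk p)) (by rw [hunder]; exact h1)
    exact h2
  · intro hfg hass
    have hqfg : q.FG := by
      have : q = p.asIdeal.map σ := by
        ext r
        obtain ⟨a, rfl⟩ := hσbij.2 r
        rw [hIJ]
        constructor
        · intro ha
          exact Ideal.mem_map_of_mem _ ha
        · intro ha
          rw [Ideal.mem_map_iff_of_surjective σ hσbij.2] at ha
          obtain ⟨b, hb, hba⟩ := ha
          rwa [← hσbij.1 hba]
      rw [this]
      exact hfg.map σ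
    have h2 := Module.associatedPrimes.comap_mem_associatedPrimes_of_mem_associatedPrimes_of_isLocalizedModule_of_fg
      q.primeCompl (germₗ (tilde M) ⊤ p hp)
      (IsLocalRing.maximalIdeal ((Spec A).presheaf.stalk p)) hass (by rw [hunder]; exact hqfg)
    rw [hunder] at h2
    -- transfer back
    let σe : A ≃+* Γ(Spec A, ⊤) := RingEquiv.ofBijective σ hσbij
    let ee : M ≃+ Γ(tilde M, ⊤) := AddEquiv.ofBijective e.toAddMonoidHom he_bij
    have h3 : IsAssociatedPrime p.asIdeal M :=
      isAssociatedPrime_of_semilinear σe.symm.toRingHom σe.symm.surjective ee.symm.toAddMonoidHom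
        ee.symm.injective (fun r n => by
          obtain ⟨a, rfl⟩ := hσbij.2 r
          obtain ⟨m, rfl⟩ := he_bij.2 n
          change ee.symm (σ a • e m) = σe.symm (σ a) • ee.symm (e m)
          rw [← he]
          have h4 : ee.symm (e (a • m)) = a • m := ee.symm_apply_apply _
          have h5 : ee.symm (e m) = m := ee.symm_apply_apply _
          have h6 : σe.symm (σ a) = a := σe.symm_apply_apply _
          rw [h4, h5, h6]) q p.asIdeal (fun r => by
          obtain ⟨a, rfl⟩ := hσbij.2 r
          have h6 : σe.symm (σ a) = a := σe.symm_apply_apply _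
          change σe.symm (σ a) ∈ p.asIdeal ↔ σ a ∈ q
          rw [h6, hIJ]) h2
    exact h3

end Groth.Agent.Lib.Helper26.TildeAss
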