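import Mathlib

set_option autoImplicit false
set_option linter.style.haveILetI false
set_option linter.unusedSectionVars false

namespace Groth.Agent.Lib.Helper26.TopExt

universe u

variable (R : Type u) [CommRing R] (n : ℕ) (a : Fin n → R)

/-- the cokernel -/
abbrev F := (Fin n → R) ⧸ Submodule.span R {a}

/-- the ideal of coordinates -/
abbrev I : Ideal R := Ideal.span (Set.range a)

/-- class of the basis vector -/
noncomputable def eb (j : Fin n) : F R n a := Submodule.Quotient.mk (Pi.single j 1)

lemma sum_eb : ∑ j, a j • eb R n a j = 0 := by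
  have : ∑ j, a j • eb R n a j = Submodule.Quotient.mk (∑ j, a j • (Pi.single j 1 : Fin n → R)) := by
    simp only [eb]
    rw [← Submodule.mkQ_apply, map_sum]
    simp only [map_smul, Submodule.mkQ_apply]
  rw [this, Submodule.Quotient.mk_eq_zero]
  have h2 : ∑ j, a j • (Pi.single j 1 : Fin n → R) = a := by
    ext k
    simp [Finset.sum_apply, Pi.single_apply]
  rw [h2]
  exact Submodule.mem_span_singleton_self a

/-- `a i` kills `e_{v 1} ∧ ... ∧ e_{v n}` for a permutation `v`. -/
lemma smul_ιMulti_perm (v : Fin n → Fin n) (hv : Function.Injective v) (i : Fin n) :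
    a i • exteriorPower.ιMulti R n (fun k => eb R n a (v k)) = 0 := by
  classical
  have hv' : Function.Bijective v := Finite.injective_iff_bijective.mp hv
  obtain ⟨k, hk⟩ := hv'.2 i
  set m : Fin n → F R n a := fun k => eb R n a (v k) with hm
  have h0 : exteriorPower.ιMulti R n (Function.update m k (∑ j, a j • eb R n a j)) = 0 := by
    rw [sum_eb]
    exact (exteriorPower.ιMulti R n).map_update_zero m k
  rw [(exteriorPower.ιMulti R n).map_update_sum] at h0
  rw [Finset.sum_eq_single i] at h0
  · rw [(exteriorPower.ιMulti R n).map_update_smul] at h0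
    have : Function.update m k (eb R n a i) = m := by
      rw [Function.update_eq_self_iff, hm]
      simp only [hk]
    rw [this] at h0
    exact h0
  · intro j _ hji
    rw [(exteriorPower.ιMulti R n).map_update_smul]
    obtain ⟨k', hk'⟩ := hv'.2 j
    have hkk : k' ≠ k := by
      rintro rfl
      exact hji (hk'.symm.trans hk)
    have : exteriorPower.ιMulti R n (Function.update m k (eb R n a j)) = 0 := by
      apply (exteriorPower.ιMulti R n).map_eq_zero_of_eq _ _ hkk
      rw [Function.update_of_ne hkk, Function.update_self, hm]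
      simp only [hk']
    rw [this, smul_zero]
  · intro h
    exact absurd (Finset.mem_univ i) h

lemma smul_ιMulti (i : Fin n) (y : Fin n → F R n a) :
    a i • exteriorPower.ιMulti R n y = 0 := by
  have hsurj : ∀ k, ∃ x : Fin n → R, Submodule.Quotient.mk x = y k := fun k =>
    Submodule.Quotient.mk_surjective _ (y k)
  choose x hx using hsurj
  let A : (Fin n → R) [⋀^Fin n]→ₗ[R] (⋀[R]^n (F R n a)) :=
    a i • (exteriorPower.ιMulti R n).compLinearMap (Submodule.mkQ (Submodule.span R {a}))
  have hA : A = 0 := by
    apply Module.Basis.ext_alternating (Pi.basisFun R (Fin n))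
    intro v hv
    simp only [A, AlternatingMap.smul_apply, AlternatingMap.compLinearMap_apply,
      AlternatingMap.zero_apply, Pi.basisFun_apply]
    exact smul_ιMulti_perm R n a v hv i
  have := congrArg (fun B => B x) hA
  simp only [A, AlternatingMap.smul_apply, AlternatingMap.compLinearMap_apply,
    AlternatingMap.zero_apply] at this
  have hy : (fun k => (Submodule.mkQ (Submodule.span R {a})) (x k)) = y := by
    funext k
    exact hx k
  rw [hy] at this
  exact this

lemma span_le_annihilator : I R n a ≤ (⋀[R]^n (F R n a)).annihilator := by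
  rw [I, Ideal.span_le]
  rintro _ ⟨i, rfl⟩
  rw [SetLike.mem_coe, Submodule.mem_annihilator]
  intro z hz
  have hspan := exteriorPower.ιMulti_span_fixedDegree R n (M := F R n a)
  rw [← hspan] at hz
  refine Submodule.span_induction ?_ ?_ ?_ ?_ hz
  · rintro _ ⟨y, rfl⟩
    have := smul_ιMulti R n a i y
    have h2 := congrArg (fun w : ⋀[R]^n (F R n a) => (w : ExteriorAlgebra R (F R n a))) this
    simpa using h2
  · exact smul_zero _
  · intro x y _ _ hx hy
    rw [smul_add, hx, hy, add_zero]
  · intro c x _ hx
    rw [smul_comm, hx, smul_zero]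

/-- reduction of coordinates modulo `I` -/
noncomputable def φ : F R n a →ₗ[R] (Fin n → R ⧸ I R n a) :=
  Submodule.liftQ _ ((Submodule.mkQ (I R n a)).compLeft (Fin n)) (by
    rw [Submodule.span_le, Set.singleton_subset_iff, SetLike.mem_coe, LinearMap.mem_ker]
    funext j
    simp only [LinearMap.compLeft_apply, Function.comp_apply, Submodule.mkQ_apply, Pi.zero_apply]
    rw [Submodule.Quotient.mk_eq_zero]
    exact Ideal.subset_span ⟨j, rfl⟩)

lemma φ_eb (j : Fin n) : φ R n a (eb R n a j) = Pi.single j 1 := by
  classical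
  funext k
  simp only [φ, eb, Submodule.liftQ_apply, LinearMap.compLeft_apply, Function.comp_apply,
    Submodule.mkQ_apply, Pi.single_apply]
  split_ifs with h
  · rfl
  · rfl

/-- determinant as an `R`-alternating map -/
noncomputable def D : (Fin n → R ⧸ I R n a) [⋀^Fin n]→ₗ[R] (R ⧸ I R n a) :=
  { (MultilinearMap.restrictScalars R
      (Matrix.detRowAlternating (R := R ⧸ I R n a) (n := Fin n)).toMultilinearMap) with
    map_eq_zero_of_eq' := fun v i j h hij =>
      (Matrix.detRowAlternating (R := R ⧸ I R n a) (n := Fin n)).map_eq_zero_of_eq v h hij }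

lemma D_apply (M : Fin n → Fin n → R ⧸ I R n a) : D R n a M = Matrix.det (M : Matrix _ _ _) := rfl

/-- the determinant functional on the top exterior power of `F` -/
noncomputable def Ψ : ⋀[R]^n (F R n a) →ₗ[R] (R ⧸ I R n a) :=
  exteriorPower.alternatingMapLinearEquiv ((D R n a).compLinearMap (φ R n a))

lemma Ψ_top : Ψ R n a (exteriorPower.ιMulti R n (eb R n a)) = 1 := by
  classical
  rw [Ψ, exteriorPower.alternatingMapLinearEquiv_apply_ιMulti]
  simp only [AlternatingMap.compLinearMap_apply]
  rw [D_apply]
  have : (fun i => φ R n a (eb R n a i)) = (1 : Matrix (Fin n) (Fin n) (R ⧸ I R n a)) := by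
    funext i j
    rw [φ_eb, Matrix.one_apply, Pi.single_apply]
    simp only [eq_comm]
  rw [this]
  exact Matrix.det_one

lemma annihilator_le_span : (⋀[R]^n (F R n a)).annihilator ≤ I R n a := by
  intro r hr
  rw [Submodule.mem_annihilator] at hr
  have h1 := hr _ (exteriorPower.ιMulti R n (eb R n a)).2
  have h2 : r • exteriorPower.ιMulti R n (eb R n a) = 0 := Subtype.ext h1
  have h3 := congrArg (Ψ R n a) h2
  rw [map_smul, Ψ_top, map_zero] at h3
  have h4 : (Submodule.Quotient.mk r : R ⧸ I R n a) = 0 := by
    rw [← h3]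
    show _ = r • (Submodule.Quotient.mk 1 : R ⧸ I R n a)
    rw [← Submodule.Quotient.mk_smul, smul_eq_mul, mul_one]
  exact (Submodule.Quotient.mk_eq_zero _).mp h4

theorem annihilator_eq : (⋀[R]^n (F R n a)).annihilator = I R n a :=
  le_antisymm (annihilator_le_span R n a) (span_le_annihilator R n a)

section Free

variable (m : ℕ) (b : Fin (m + 1) → R) (i : Fin (m + 1))

/-- `R^m → F`, inserting `0` at position `i` -/
noncomputable def g : (Fin m → R) →ₗ[R] F R (m + 1) b where
  toFun c := Submodule.Quotient.mk (i.insertNth (0 : R) c)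
  map_add' c d := by
    rw [← Submodule.Quotient.mk_add]
    congr 1
    funext k
    refine Fin.succAboveCases i ?_ (fun j => ?_) k
    · simp
    · simp
  map_smul' r c := by
    rw [← Submodule.Quotient.mk_smul]
    congr 1
    funext k
    refine Fin.succAboveCases i ?_ (fun j => ?_) k
    · simp
    · simp

/-- `F → R^m`, `x ↦ (b_i x_j - b_j x_i)_j` -/
noncomputable def h : F R (m + 1) b →ₗ[R] (Fin m → R) :=
  Submodule.liftQ _
    { toFun := fun x j => b i * x (i.succAbove j) - b (i.succAbove j) * x i
      map_add' := fun x y => by funext j; simp only [Pi.add_apply]; ring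
      map_smul' := fun r x => by
        funext j; simp only [Pi.smul_apply, smul_eq_mul, RingHom.id_apply]; ring }
    (by
      rw [Submodule.span_le, Set.singleton_subset_iff, SetLike.mem_coe, LinearMap.mem_ker]
      funext j
      simp only [LinearMap.coe_mk, AddHom.coe_mk, Pi.zero_apply]
      ring)

lemma h_mk (x : Fin (m + 1) → R) (j : Fin m) :
    h R m b i (Submodule.Quotient.mk x) j = b i * x (i.succAbove j) - b (i.succAbove j) * x i :=
  rfl

lemma h_g (c : Fin m → R) : h R m b i (g R m b i c) = b i • c := by
  funext j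
  show h R m b i (Submodule.Quotient.mk (i.insertNth (0 : R) c)) j = _
  rw [h_mk]
  simp

lemma g_h (y : F R (m + 1) b) : g R m b i (h R m b i y) = b i • y := by
  obtain ⟨x, rfl⟩ := Submodule.Quotient.mk_surjective _ y
  show Submodule.Quotient.mk (Fin.insertNth (α := fun _ => R) i (0 : R)
    (h R m b i (Submodule.Quotient.mk x))) = _
  rw [← Submodule.Quotient.mk_smul, Submodule.Quotient.eq, Submodule.mem_span_singleton]
  refine ⟨-(x i), ?_⟩
  funext k
  refine Fin.succAboveCases i ?_ (fun j => ?_) k
  · simp only [Pi.smul_apply, smul_eq_mul, Pi.sub_apply, Fin.insertNth_apply_same]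
    ring
  · simp only [Pi.smul_apply, smul_eq_mul, Pi.sub_apply, Fin.insertNth_apply_succAbove, h_mk]
    ring

lemma mk_eq_zero_iff' {S : Submonoid R} {M : Type*} [AddCommGroup M] [Module R M] (x : M) (s : S) :
    LocalizedModule.mk x s = 0 ↔ ∃ t : S, t • x = 0 := by
  rw [← LocalizedModule.zero_mk (1 : S), LocalizedModule.mk_eq]
  simp

variable (p : PrimeSpectrum R) (hp : b i ∉ p.asIdeal)

include hp in
lemma map_g_bijective :
    Function.Bijective (LocalizedModule.map p.asIdeal.primeCompl (g R m b i)) := by
  have hbS : b i ∈ p.asIdeal.primeCompl := hp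
  constructor
  · rw [injective_iff_map_eq_zero]
    intro z hz
    induction z using LocalizedModule.induction_on with
    | h c s =>
      rw [LocalizedModule.map_mk] at hz
      have h2 := congrArg (LocalizedModule.map p.asIdeal.primeCompl (h R m b i)) hz
      rw [LocalizedModule.map_mk, h_g, map_zero, mk_eq_zero_iff'] at h2
      obtain ⟨t, ht⟩ := h2
      rw [mk_eq_zero_iff']
      refine ⟨t * ⟨b i, hbS⟩, ?_⟩
      rw [← ht]
      simp only [Submonoid.smul_def, Submonoid.coe_mul, mul_smul]
  · intro z
    induction z using LocalizedModule.induction_on with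
    | h y s =>
      refine ⟨LocalizedModule.mk (h R m b i y) (s * ⟨b i, hbS⟩), ?_⟩
      rw [LocalizedModule.map_mk, g_h, LocalizedModule.mk_eq]
      refine ⟨1, ?_⟩
      simp only [one_smul, Submonoid.smul_def, Submonoid.coe_mul, mul_smul]

include hp in
theorem free_and_rank :
    p ∈ Module.freeLocus R (F R (m + 1) b) ∧ Module.rankAtStalk (F R (m + 1) b) p = m := by
  let E : LocalizedModule p.asIdeal.primeCompl (Fin m → R) ≃ₗ[Localization.AtPrime p.asIdeal]
      LocalizedModule p.asIdeal.primeCompl (F R (m + 1) b) :=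
    LinearEquiv.ofBijective (LocalizedModule.map p.asIdeal.primeCompl (g R m b i))
      (map_g_bijective R m b i p hp)
  have hfree : Module.Free (Localization.AtPrime p.asIdeal)
      (LocalizedModule p.asIdeal.primeCompl (Fin m → R)) :=
    Module.free_of_isLocalizedModule p.asIdeal.primeCompl
      (LocalizedModule.mkLinearMap p.asIdeal.primeCompl (Fin m → R))
  constructor
  · rw [Module.mem_freeLocus]
    exact Module.Free.of_equiv E
  · have h1 : Module.rankAtStalk (Fin m → R) p = m := by
      have : Nontrivial R := ⟨⟨0, 1, fun h01 => p.isPrime.ne_top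
        ((Ideal.eq_top_iff_one _).mpr (h01 ▸ p.asIdeal.zero_mem))⟩⟩
      rw [Module.rankAtStalk_eq_finrank_of_free]
      simp
    exact E.finrank_eq.symm.trans h1

end Free

theorem main_19573 (hn : 1 ≤ n) :
    (⋀[R]^n ((Fin n → R) ⧸ Submodule.span R {a})).annihilator = Ideal.span (Set.range a) ∧
    ∀ p : PrimeSpectrum R, ¬ Ideal.span (Set.range a) ≤ p.asIdeal →
      p ∈ Module.freeLocus R ((Fin n → R) ⧸ Submodule.span R {a}) ∧
      Module.rankAtStalk ((Fin n → R) ⧸ Submodule.span R {a}) p = n - 1 := by
  refine ⟨annihilator_eq R n a, fun p hp => ?_⟩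
  obtain ⟨m, rfl⟩ : ∃ m, n = m + 1 := ⟨n - 1, by omega⟩
  rw [Ideal.span_le, Set.not_subset] at hp
  obtain ⟨_, ⟨i, rfl⟩, hi⟩ := hp
  exact free_and_rank R m a i p hi

end Groth.Agent.Lib.Helper26.TopExt
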