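import Mathlib
import Groth.Agent.Lib.Helper26.FibrE

set_option autoImplicit false
universe u
open AlgebraicGeometry CategoryTheory CategoryTheory.Limits

namespace Groth.Agent.Lib.Helper26.TorUnitA

open AddMonoidAlgebra in
/-- coefficient of a product at the sum of the two `D`-maximal exponents -/
theorem coeff_mul_of_max {R G H : Type*} [CommRing R] [AddCommGroup G] [AddCommGroup H]
    [LinearOrder H] [IsOrderedAddMonoid H] (D : G →+ H) (hD : Function.Injective D)
    (f g : AddMonoidAlgebra R G) (a b : G)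
    (ha : ∀ x ∈ f.coeff.support, D x ≤ D a) (hb : ∀ x ∈ g.coeff.support, D x ≤ D b) :
    (f * g).coeff (a + b) = f.coeff a * g.coeff b := by
  classical
  rw [AddMonoidAlgebra.coeff_mul]
  rw [Finsupp.sum, Finset.sum_eq_single a]
  · rw [Finsupp.sum, Finset.sum_eq_single b]
    · simp
    · intro y hy hyb
      rw [if_neg]
      intro h
      exact hyb (add_left_cancel h)
    · intro hb'
      rw [Finsupp.notMem_support_iff.1 hb']
      simp
  · intro x hx hxa
    rw [Finsupp.sum]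
    apply Finset.sum_eq_zero
    intro y hy
    rw [if_neg]
    intro h
    have h1 : D x + D y = D a + D b := by rw [← map_add, ← map_add, h]
    have h2 : D x ≤ D a := ha x hx
    have h3 : D y ≤ D b := hb y hy
    have h4 : D x = D a := by
      rcases lt_or_eq_of_le h2 with hlt | heq
      · exfalso
        have := add_lt_add_of_lt_of_le hlt h3
        rw [h1] at this
        exact lt_irrefl _ this
      · exact heq
    exact hxa (hD h4)
  · intro ha'
    rw [Finsupp.notMem_support_iff.1 ha']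
    simp

theorem exists_single_of_mul_eq_one {R G H : Type*} [CommRing R] [IsDomain R] [AddCommGroup G]
    [AddCommGroup H] [LinearOrder H] [IsOrderedAddMonoid H] (D : G →+ H)
    (hD : Function.Injective D) (f g : AddMonoidAlgebra R G) (hfg : f * g = 1) :
    ∃ (e : G) (u : R), f = AddMonoidAlgebra.single e u ∧ IsUnit u := by
  classical
  have hf0 : f ≠ 0 := by
    rintro rfl
    rw [zero_mul] at hfg
    exact zero_ne_one hfg
  have hg0 : g ≠ 0 := by
    rintro rfl
    rw [mul_zero] at hfg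
    exact zero_ne_one hfg
  have hfs : f.coeff.support.Nonempty := by
    rw [Finsupp.support_nonempty_iff]
    intro h
    exact hf0 (AddMonoidAlgebra.coeff_injective (by simpa using h))
  have hgs : g.coeff.support.Nonempty := by
    rw [Finsupp.support_nonempty_iff]
    intro h
    exact hg0 (AddMonoidAlgebra.coeff_injective (by simpa using h))
  obtain ⟨a, ha, hamax⟩ := Finset.exists_max_image f.coeff.support D hfs
  obtain ⟨a', ha', hamin⟩ := Finset.exists_min_image f.coeff.support D hfs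
  obtain ⟨b, hb, hbmax⟩ := Finset.exists_max_image g.coeff.support D hgs
  obtain ⟨b', hb', hbmin⟩ := Finset.exists_min_image g.coeff.support D hgs
  have h1 := coeff_mul_of_max D hD f g a b hamax hbmax
  -- the min version via `-D`
  have h2 : (f * g).coeff (a' + b') = f.coeff a' * g.coeff b' := by
    refine coeff_mul_of_max (-D) ?_ f g a' b' ?_ ?_
    · intro x y hxy
      apply hD
      simpa using hxy
    · intro x hx
      simpa using hamin x hx
    · intro x hx
      simpa using hbmin x hx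
  rw [hfg] at h1 h2
  have hne1 : f.coeff a * g.coeff b ≠ 0 :=
    mul_ne_zero (Finsupp.mem_support_iff.1 ha) (Finsupp.mem_support_iff.1 hb)
  have hne2 : f.coeff a' * g.coeff b' ≠ 0 :=
    mul_ne_zero (Finsupp.mem_support_iff.1 ha') (Finsupp.mem_support_iff.1 hb')
  have hone : ∀ x : G, (1 : AddMonoidAlgebra R G).coeff x = if x = 0 then 1 else 0 := by
    intro x
    rw [AddMonoidAlgebra.one_def, AddMonoidAlgebra.coeff_single, Finsupp.single_apply]
    simp only [eq_comm]
  have hab : a + b = 0 := by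
    by_contra h
    rw [hone, if_neg h] at h1
    exact hne1 h1.symm
  have hab' : a' + b' = 0 := by
    by_contra h
    rw [hone, if_neg h] at h2
    exact hne2 h2.symm
  have hDa : D a = D a' := by
    have e1 : D a + D b = 0 := by rw [← map_add, hab, map_zero]
    have e2 : D a' + D b' = 0 := by rw [← map_add, hab', map_zero]
    have l1 : D a' ≤ D a := hamax a' ha'
    have l2 : D b' ≤ D b := hbmax b' hb'
    rcases lt_or_eq_of_le l1 with hlt | heq
    · exfalso
      have := add_lt_add_of_lt_of_le hlt l2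
      rw [e1, e2] at this
      exact lt_irrefl _ this
    · exact heq.symm
  have hsupp : ∀ x ∈ f.coeff.support, x = a := by
    intro x hx
    apply hD
    exact le_antisymm (hamax x hx) (hDa ▸ hamin x hx)
  refine ⟨a, f.coeff a, ?_, ?_⟩
  · apply AddMonoidAlgebra.coeff_injective
    rw [AddMonoidAlgebra.coeff_single]
    ext x
    rw [Finsupp.single_apply]
    split_ifs with hx
    · rw [hx]
    · by_contra hne
      exact hx (hsupp x (Finsupp.mem_support_iff.2 hne)).symm
  · rw [hone, if_pos hab] at h1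
    exact IsUnit.of_mul_eq_one _ h1.symm

end Groth.Agent.Lib.Helper26.TorUnitA
namespace Groth.Agent.Lib.Helper26.TorUnitB

abbrev Lam (n : ℕ) := ULift.{u} (AddMonoidAlgebra ℤ (Fin n → ℤ))
noncomputable abbrev Tor (n : ℕ) : Scheme.{u} := Spec (CommRingCat.of (Lam.{u} n))

variable (X : Scheme.{u}) (n : ℕ)

/-- the monomial `t^e` as a global function on `X × T` -/
noncomputable def tau (e : Fin n → ℤ) : Γ(X ⨯ Tor.{u} n, ⊤) :=
  (prod.snd : X ⨯ Tor.{u} n ⟶ Tor.{u} n).appTop
    ((Scheme.ΓSpecIso (CommRingCat.of (Lam.{u} n))).inv (ULift.up (AddMonoidAlgebra.single e 1)))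

theorem tau_add (e e' : Fin n → ℤ) : tau X n (e + e') = tau X n e * tau X n e' := by
  unfold tau
  rw [← map_mul, ← map_mul]
  congr 2
  apply ULift.ext
  change AddMonoidAlgebra.single (e + e') (1 : ℤ) =
    AddMonoidAlgebra.single e 1 * AddMonoidAlgebra.single e' 1
  rw [AddMonoidAlgebra.single_mul_single, mul_one]

theorem tau_zero : tau X n 0 = 1 := by
  unfold tau
  have : (ULift.up (AddMonoidAlgebra.single (0 : Fin n → ℤ) (1 : ℤ)) : Lam.{u} n) = 1 := rfl
  rw [this, map_one, map_one]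

theorem isPullback_prod :
    IsPullback (prod.fst : X ⨯ Tor.{u} n ⟶ X) (prod.snd : X ⨯ Tor.{u} n ⟶ Tor.{u} n)
      (specULiftZIsTerminal.from X) (specULiftZIsTerminal.from (Tor.{u} n)) :=
  IsPullback.of_is_product (limit.isLimit _) specULiftZIsTerminal

theorem isPushout_sections (W : X.Opens) (hW : IsAffineOpen W) :
    IsPushout ((specULiftZIsTerminal.from X).appLE ⊤ W (by simp))
      ((specULiftZIsTerminal.from (Tor.{u} n)).appLE ⊤ ⊤ (by simp))
      ((prod.fst : X ⨯ Tor.{u} n ⟶ X).appLE W ((prod.fst : X ⨯ Tor.{u} n ⟶ X) ⁻¹ᵁ W) le_rfl)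
      ((prod.snd : X ⨯ Tor.{u} n ⟶ Tor.{u} n).appLE ⊤ ((prod.fst : X ⨯ Tor.{u} n ⟶ X) ⁻¹ᵁ W)
        (by simp)) := by
  have H := isPullback_prod X n
  have h1 := isIso_pushoutSection_of_isAffineOpen H (US := ⊤) (UT := ⊤) (UX := W)
    (UY := (prod.fst : X ⨯ Tor.{u} n ⟶ X) ⁻¹ᵁ W) (by simp) (by simp) (by simp)
    (isAffineOpen_top _) (isAffineOpen_top _) hW
  exact (isIso_pushoutSection_iff H _ _ _).1 h1

end Groth.Agent.Lib.Helper26.TorUnitB

namespace Groth.Agent.Lib.Helper26.TorUnitB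

variable (X : Scheme.{u}) (n : ℕ)

/-- ring homs out of `Γ(Spec (ULift ℤ), ⊤)` are unique -/
theorem hom_ext_specZ {R : CommRingCat.{u}}
    (f g : Γ(Spec (CommRingCat.of (ULift.{u} ℤ)), ⊤) ⟶ R) : f = g := by
  rw [← cancel_epi (Scheme.ΓSpecIso (CommRingCat.of (ULift.{u} ℤ))).inv]
  ext x
  obtain ⟨m⟩ := x
  have h1 : ∀ φ : CommRingCat.of (ULift.{u} ℤ) ⟶ R, φ.hom (ULift.up m) = (m : R) := by
    intro φ
    have : (ULift.up m : ULift.{u} ℤ) = ((m : ℤ) : ULift.{u} ℤ) := by
      apply ULift.ext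
      simp
    rw [this, map_intCast]
  change ((Scheme.ΓSpecIso _).inv ≫ f).hom (ULift.up m) = ((Scheme.ΓSpecIso _).inv ≫ g).hom (ULift.up m)
  rw [h1, h1]

/-- restriction of `tau e` to `pr₁⁻¹ W` -/
noncomputable def tauW (W : X.Opens) (e : Fin n → ℤ) :
    Γ(X ⨯ Tor.{u} n, (prod.fst : X ⨯ Tor.{u} n ⟶ X) ⁻¹ᵁ W) :=
  ((prod.snd : X ⨯ Tor.{u} n ⟶ Tor.{u} n).appLE ⊤ ((prod.fst : X ⨯ Tor.{u} n ⟶ X) ⁻¹ᵁ W)
    (by simp)).hom
    ((Scheme.ΓSpecIso (CommRingCat.of (Lam.{u} n))).inv (ULift.up (AddMonoidAlgebra.single e 1)))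

theorem tauW_eq (W : X.Opens) (e : Fin n → ℤ) :
    tauW X n W e = ((X ⨯ Tor.{u} n).presheaf.map (homOfLE le_top).op).hom (tau X n e) := by
  unfold tauW tau
  rw [Scheme.Hom.appLE]
  rfl

theorem tauW_add (W : X.Opens) (e e' : Fin n → ℤ) :
    tauW X n W (e + e') = tauW X n W e * tauW X n W e' := by
  rw [tauW_eq, tauW_eq, tauW_eq, tau_add, map_mul]

theorem tauW_zero (W : X.Opens) : tauW X n W 0 = 1 := by
  rw [tauW_eq, tau_zero, map_one]

open AddMonoidAlgebra in
theorem exists_ringEquiv (W : X.Opens) (hW : IsAffineOpen W) :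
    ∃ Φ : AddMonoidAlgebra Γ(X, W) (Fin n → ℤ) ≃+*
        Γ(X ⨯ Tor.{u} n, (prod.fst : X ⨯ Tor.{u} n ⟶ X) ⁻¹ᵁ W),
      ∀ (e : Fin n → ℤ) (a : Γ(X, W)), Φ (AddMonoidAlgebra.single e a) =
        ((prod.fst : X ⨯ Tor.{u} n ⟶ X).app W).hom a * tauW X n W e := by
  have hPO := isPushout_sections X n W hW
  set A := Γ(X, W) with hA
  set B := Γ(X ⨯ Tor.{u} n, (prod.fst : X ⨯ Tor.{u} n ⟶ X) ⁻¹ᵁ W) with hB
  letI alg : Algebra A B := ((prod.fst : X ⨯ Tor.{u} n ⟶ X).app W).hom.toAlgebra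
  let μ : Multiplicative (Fin n → ℤ) →* B :=
    { toFun := fun e => tauW X n W e.toAdd
      map_one' := tauW_zero X n W
      map_mul' := fun e e' => tauW_add X n W e.toAdd e'.toAdd }
  let Φ : AddMonoidAlgebra A (Fin n → ℤ) →ₐ[A] B := AddMonoidAlgebra.lift A B (Fin n → ℤ) μ
  have hΦ : ∀ (e : Fin n → ℤ) (a : A), Φ (AddMonoidAlgebra.single e a) =
      ((prod.fst : X ⨯ Tor.{u} n ⟶ X).app W).hom a * tauW X n W e := by
    intro e a
    rw [AddMonoidAlgebra.lift_single, Algebra.smul_def]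
    rfl
  -- the inverse
  let α : A ⟶ CommRingCat.of (AddMonoidAlgebra A (Fin n → ℤ)) :=
    CommRingCat.ofHom AddMonoidAlgebra.singleZeroRingHom
  let β : Γ(Tor.{u} n, ⊤) ⟶ CommRingCat.of (AddMonoidAlgebra A (Fin n → ℤ)) :=
    (Scheme.ΓSpecIso (CommRingCat.of (Lam.{u} n))).hom ≫
      CommRingCat.ofHom ((AddMonoidAlgebra.mapRingHom (Fin n → ℤ) (Int.castRingHom A)).comp
        (ULift.ringEquiv : Lam.{u} n ≃+* _).toRingHom)
  let Ψ : B ⟶ CommRingCat.of (AddMonoidAlgebra A (Fin n → ℤ)) :=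
    hPO.desc α β (hom_ext_specZ _ _)
  have hΨ1 : ∀ a : A, Ψ.hom (((prod.fst : X ⨯ Tor.{u} n ⟶ X).app W).hom a) =
      AddMonoidAlgebra.single 0 a := by
    intro a
    have := congrArg (fun φ => φ.hom a) (hPO.inl_desc α β (hom_ext_specZ _ _))
    rw [Scheme.Hom.app_eq_appLE]
    exact this
  have hΨ2 : ∀ e : Fin n → ℤ, Ψ.hom (tauW X n W e) = AddMonoidAlgebra.single e 1 := by
    intro e
    have := congrArg (fun φ => φ.hom ((Scheme.ΓSpecIso (CommRingCat.of (Lam.{u} n))).inv
      (ULift.up (AddMonoidAlgebra.single e 1)))) (hPO.inr_desc α β (hom_ext_specZ _ _))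
    refine this.trans ?_
    change (AddMonoidAlgebra.mapRingHom (Fin n → ℤ) (Int.castRingHom A))
      (ULift.ringEquiv ((Scheme.ΓSpecIso (CommRingCat.of (Lam.{u} n))).hom
        ((Scheme.ΓSpecIso (CommRingCat.of (Lam.{u} n))).inv
          (ULift.up (AddMonoidAlgebra.single e 1))))) = _
    rw [← CommRingCat.comp_apply, Iso.inv_hom_id]
    change (AddMonoidAlgebra.mapRingHom (Fin n → ℤ) (Int.castRingHom A))
      (AddMonoidAlgebra.single e 1) = _
    rw [AddMonoidAlgebra.mapRingHom_single, map_one]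
  have h1 : Ψ.hom.comp Φ.toRingHom = RingHom.id _ := by
    apply AddMonoidAlgebra.ringHom_ext
    · intro a
      change Ψ.hom (Φ (AddMonoidAlgebra.single 0 a)) = AddMonoidAlgebra.single 0 a
      rw [hΦ, tauW_zero, mul_one, hΨ1]
    · intro e
      change Ψ.hom (Φ (AddMonoidAlgebra.single e 1)) = AddMonoidAlgebra.single e 1
      rw [hΦ, map_one, one_mul, hΨ2]
  have h2 : Ψ ≫ CommRingCat.ofHom Φ.toRingHom = 𝟙 B := by
    apply hPO.hom_ext
    · rw [← Category.assoc, hPO.inl_desc, Category.comp_id]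
      ext a
      change Φ (AddMonoidAlgebra.single 0 a) = _
      rw [hΦ, tauW_zero, mul_one, Scheme.Hom.app_eq_appLE]
    · rw [← Category.assoc, hPO.inr_desc, Category.comp_id]
      rw [← cancel_epi (Scheme.ΓSpecIso (CommRingCat.of (Lam.{u} n))).inv]
      ext x
      obtain ⟨x⟩ := x
      -- both sides are ring homs in `x : ℤ[G]`
      let φ₁ : AddMonoidAlgebra ℤ (Fin n → ℤ) →+* B :=
        (((Scheme.ΓSpecIso (CommRingCat.of (Lam.{u} n))).inv ≫ β ≫
          CommRingCat.ofHom Φ.toRingHom).hom).comp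
          (ULift.ringEquiv : Lam.{u} n ≃+* _).symm.toRingHom
      let φ₂ : AddMonoidAlgebra ℤ (Fin n → ℤ) →+* B :=
        (((Scheme.ΓSpecIso (CommRingCat.of (Lam.{u} n))).inv ≫
          (prod.snd : X ⨯ Tor.{u} n ⟶ Tor.{u} n).appLE ⊤
            ((prod.fst : X ⨯ Tor.{u} n ⟶ X) ⁻¹ᵁ W) (by simp)).hom).comp
          (ULift.ringEquiv : Lam.{u} n ≃+* _).symm.toRingHom
      have hφ : φ₁ = φ₂ := by
        apply AddMonoidAlgebra.ringHom_ext
        · intro m
          have e1 : (AddMonoidAlgebra.single (0 : Fin n → ℤ) m : AddMonoidAlgebra ℤ (Fin n → ℤ)) =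
              ((m : ℤ) : AddMonoidAlgebra ℤ (Fin n → ℤ)) := by
            rw [AddMonoidAlgebra.intCast_def, Int.cast_id]
          rw [e1, map_intCast, map_intCast]
        · intro e
          change Φ ((AddMonoidAlgebra.mapRingHom (Fin n → ℤ) (Int.castRingHom A))
            (ULift.ringEquiv ((Scheme.ΓSpecIso (CommRingCat.of (Lam.{u} n))).hom
              ((Scheme.ΓSpecIso (CommRingCat.of (Lam.{u} n))).inv
                (ULift.up (AddMonoidAlgebra.single e 1)))))) = tauW X n W e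
          rw [← CommRingCat.comp_apply, Iso.inv_hom_id]
          change Φ ((AddMonoidAlgebra.mapRingHom (Fin n → ℤ) (Int.castRingHom A))
            (AddMonoidAlgebra.single e 1)) = _
          rw [AddMonoidAlgebra.mapRingHom_single, map_one, hΦ, map_one, one_mul]
      exact congrArg (fun φ => φ x) hφ
  refine ⟨RingEquiv.ofRingHom Φ.toRingHom Ψ.hom ?_ h1, hΦ⟩
  ext b
  exact congrArg (fun φ => φ.hom b) h2

end Groth.Agent.Lib.Helper26.TorUnitB
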