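import Mathlib
import Groth.Agent.Lib.Helper26.TorUnit

set_option autoImplicit false
universe u
open AlgebraicGeometry CategoryTheory CategoryTheory.Limits
open Groth.Agent.Lib.Helper26 Groth.Agent.Lib.Helper26.TorUnitB

namespace Groth.Agent.Lib.Helper26.TorUnitC

variable (X : Scheme.{u}) (n : ℕ)

theorem exists_of_isUnit [IsIntegral X] (W : X.Opens) (hW : IsAffineOpen W) [Nonempty W]
    (w : Γ(X ⨯ Tor.{u} n, (prod.fst : X ⨯ Tor.{u} n ⟶ X) ⁻¹ᵁ W)) (hw : IsUnit w) :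
    ∃ (e : Fin n → ℤ) (a : Γ(X, W)), IsUnit a ∧
      w = ((prod.fst : X ⨯ Tor.{u} n ⟶ X).app W).hom a * tauW X n W e := by
  obtain ⟨Φ, hΦ⟩ := exists_ringEquiv X n W hW
  obtain ⟨w', hw'⟩ := hw.exists_right_inv
  have h1 : Φ.symm w * Φ.symm w' = 1 := by rw [← map_mul, hw', map_one]
  obtain ⟨e, a, hea, ha⟩ := TorUnitA.exists_single_of_mul_eq_one
    (toLexAddEquiv (Fin n → ℤ)).toAddMonoidHom (toLexAddEquiv (Fin n → ℤ)).injective _ _ h1
  refine ⟨e, a, ha, ?_⟩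
  rw [← hΦ, ← hea, RingEquiv.apply_symm_apply]

theorem eq_of_decomp_eq (W : X.Opens) (hW : IsAffineOpen W) (e e' : Fin n → ℤ)
    (a a' : Γ(X, W)) (ha : a ≠ 0)
    (h : ((prod.fst : X ⨯ Tor.{u} n ⟶ X).app W).hom a * tauW X n W e =
      ((prod.fst : X ⨯ Tor.{u} n ⟶ X).app W).hom a' * tauW X n W e') :
    e = e' ∧ a = a' := by
  classical
  obtain ⟨Φ, hΦ⟩ := exists_ringEquiv X n W hW
  rw [← hΦ, ← hΦ] at h
  have h1 := Φ.injective h
  have h2 := congrArg (fun f => f.coeff e) h1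
  simp only [AddMonoidAlgebra.coeff_single, Finsupp.single_apply] at h2
  rw [if_pos trivial] at h2
  by_cases hee : e' = e
  · rw [if_pos hee] at h2
    exact ⟨hee.symm, h2⟩
  · rw [if_neg hee] at h2
    exact absurd h2 ha

theorem res_decomp {W W' : X.Opens} (h : W' ≤ W) (a : Γ(X, W)) (e : Fin n → ℤ) :
    ((X ⨯ Tor.{u} n).presheaf.map
      (homOfLE ((prod.fst : X ⨯ Tor.{u} n ⟶ X).preimage_mono h)).op).hom
      (((prod.fst : X ⨯ Tor.{u} n ⟶ X).app W).hom a * tauW X n W e) =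
    ((prod.fst : X ⨯ Tor.{u} n ⟶ X).app W').hom ((X.presheaf.map (homOfLE h).op).hom a) *
      tauW X n W' e := by
  rw [map_mul]
  congr 1
  · have := (prod.fst : X ⨯ Tor.{u} n ⟶ X).naturality (homOfLE h).op
    have h2 := congrArg (fun φ => φ.hom a) this
    exact h2.symm
  · rw [tauW_eq, tauW_eq, ← CommRingCat.comp_apply, ← Functor.map_comp]
    rfl

theorem res_top (W : X.Opens) (a : Γ(X, ⊤)) (e : Fin n → ℤ) :
    ((X ⨯ Tor.{u} n).presheaf.map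
      (homOfLE (le_top : (prod.fst : X ⨯ Tor.{u} n ⟶ X) ⁻¹ᵁ W ≤ ⊤)).op).hom
      ((prod.fst : X ⨯ Tor.{u} n ⟶ X).appTop a * tau X n e) =
    ((prod.fst : X ⨯ Tor.{u} n ⟶ X).app W).hom
      ((X.presheaf.map (homOfLE (le_top : W ≤ ⊤)).op).hom a) * tauW X n W e := by
  rw [map_mul, ← tauW_eq]
  congr 1
  have := (prod.fst : X ⨯ Tor.{u} n ⟶ X).naturality (homOfLE (le_top : W ≤ ⊤)).op
  have h2 := congrArg (fun φ => φ.hom a) this
  exact h2.symm

theorem main_13798 [IsIntegral X] (v : Γ(X ⨯ Tor.{u} n, ⊤)) (hv : IsUnit v) :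
    ∃! p : (Γ(X, ⊤))ˣ × (Fin n → ℤ),
      v = (prod.fst : X ⨯ Tor.{u} n ⟶ X).appTop (p.1 : Γ(X, ⊤)) * tau X n p.2 := by
  classical
  -- restriction of v
  let rv : ∀ W : X.Opens, Γ(X ⨯ Tor.{u} n, (prod.fst : X ⨯ Tor.{u} n ⟶ X) ⁻¹ᵁ W) := fun W =>
    ((X ⨯ Tor.{u} n).presheaf.map
      (homOfLE (le_top : (prod.fst : X ⨯ Tor.{u} n ⟶ X) ⁻¹ᵁ W ≤ ⊤)).op).hom v
  have rv_res : ∀ {W W' : X.Opens} (h : W' ≤ W),
      ((X ⨯ Tor.{u} n).presheaf.map
        (homOfLE ((prod.fst : X ⨯ Tor.{u} n ⟶ X).preimage_mono h)).op).hom (rv W) = rv W' := by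
    intro W W' h
    change ((X ⨯ Tor.{u} n).presheaf.map _).hom (((X ⨯ Tor.{u} n).presheaf.map _).hom v) = _
    rw [← CommRingCat.comp_apply, ← Functor.map_comp]
    rfl
  have key : ∀ W : X.Opens, IsAffineOpen W → genericPoint X ∈ W →
      ∃ (e : Fin n → ℤ) (a : Γ(X, W)), IsUnit a ∧
        rv W = ((prod.fst : X ⨯ Tor.{u} n ⟶ X).app W).hom a * tauW X n W e := by
    intro W hW hηW
    haveI : Nonempty W := ⟨⟨genericPoint X, hηW⟩⟩
    exact exists_of_isUnit X n W hW (rv W) (hv.map _)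
  obtain ⟨_, ⟨W₀, hW₀, rfl⟩, hηW₀, -⟩ := X.isBasis_affineOpens.exists_subset_of_mem_open
    (Set.mem_univ (genericPoint X)) isOpen_univ
  obtain ⟨e₀, a₀, ha₀, hd₀⟩ := key W₀ hW₀ hηW₀
  obtain ⟨s, hs⟩ : ∃ s : X.functionField, s = (X.presheaf.germ W₀ _ hηW₀).hom a₀ := ⟨_, rfl⟩
  have compat : ∀ (W : X.Opens) (hW : IsAffineOpen W) (hηW : genericPoint X ∈ W)
      (e : Fin n → ℤ) (a : Γ(X, W)), IsUnit a →
      rv W = ((prod.fst : X ⨯ Tor.{u} n ⟶ X).app W).hom a * tauW X n W e →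
      e = e₀ ∧ (X.presheaf.germ W _ hηW).hom a = s := by
    intro W hW hηW e a ha hd
    obtain ⟨_, ⟨W', hW', rfl⟩, hηW', hW'le⟩ := X.isBasis_affineOpens.exists_subset_of_mem_open
      (show genericPoint X ∈ W ⊓ W₀ from ⟨hηW, hηW₀⟩) (W ⊓ W₀).2
    have hle1 : W' ≤ W := fun x hx => (hW'le hx).1
    have hle2 : W' ≤ W₀ := fun x hx => (hW'le hx).2
    haveI : Nonempty W' := ⟨⟨genericPoint X, hηW'⟩⟩
    have d1 := congrArg ((X ⨯ Tor.{u} n).presheaf.map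
      (homOfLE ((prod.fst : X ⨯ Tor.{u} n ⟶ X).preimage_mono hle1)).op).hom hd
    rw [rv_res hle1, res_decomp X n hle1] at d1
    have d2 := congrArg ((X ⨯ Tor.{u} n).presheaf.map
      (homOfLE ((prod.fst : X ⨯ Tor.{u} n ⟶ X).preimage_mono hle2)).op).hom hd₀
    rw [rv_res hle2, res_decomp X n hle2] at d2
    have hne : (X.presheaf.map (homOfLE hle1).op).hom a ≠ 0 := (ha.map _).ne_zero
    obtain ⟨he, hae⟩ := eq_of_decomp_eq X n W' hW' _ _ _ _ hne (d1.symm.trans d2)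
    refine ⟨he, ?_⟩
    have g1 := TopCat.Presheaf.germ_res_apply X.presheaf (homOfLE hle1) (genericPoint X) hηW' a
    have g2 := TopCat.Presheaf.germ_res_apply X.presheaf (homOfLE hle2) (genericPoint X) hηW' a₀
    rw [hs]
    exact g1.symm.trans ((congrArg _ hae).trans g2)
  -- the global unit
  have hloc : ∀ W : X.Opens, IsAffineOpen W → W ≤ ⊤ → ∀ hW : genericPoint X ∈ W,
      ∃ b : Γ(X, W), (X.presheaf.germ W _ hW).hom b = s := by
    intro W hW _ hηW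
    obtain ⟨e, a, ha, hd⟩ := key W hW hηW
    exact ⟨a, (compat W hW hηW e a ha hd).2⟩
  obtain ⟨u, hu⟩ := FibrE.exists_section_of_local (⊤ : X.Opens) trivial s hloc
  have hloc' : ∀ W : X.Opens, IsAffineOpen W → W ≤ ⊤ → ∀ hW : genericPoint X ∈ W,
      ∃ b : Γ(X, W), (X.presheaf.germ W _ hW).hom b = s⁻¹ := by
    intro W hW _ hηW
    obtain ⟨e, a, ha, hd⟩ := key W hW hηW
    obtain ⟨b, hb⟩ := ha.exists_right_inv
    refine ⟨b, ?_⟩
    have h1 := (compat W hW hηW e a ha hd).2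
    have h2 : (X.presheaf.germ W _ hηW).hom a * (X.presheaf.germ W _ hηW).hom b = 1 := by
      rw [← map_mul, hb, map_one]
    rw [h1] at h2
    exact eq_inv_of_mul_eq_one_right h2
  obtain ⟨u', hu'⟩ := FibrE.exists_section_of_local (⊤ : X.Opens) trivial s⁻¹ hloc'
  have hs0 : s ≠ 0 := by
    rw [hs]
    exact (ha₀.map _).ne_zero
  have huu' : u * u' = 1 := by
    apply germ_injective_of_isIntegral X (genericPoint X) (show genericPoint X ∈ (⊤ : X.Opens) from trivial)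
    change (X.presheaf.germ ⊤ _ _).hom (u * u') = (X.presheaf.germ ⊤ _ _).hom 1
    rw [map_mul, map_one, hu, hu', mul_inv_cancel₀ hs0]
  let U : (Γ(X, ⊤))ˣ := ⟨u, u', huu', by rw [mul_comm]; exact huu'⟩
  have hv_eq : v = (prod.fst : X ⨯ Tor.{u} n ⟶ X).appTop u * tau X n e₀ := by
    let ι := {W : X.affineOpens // genericPoint X ∈ (W : X.Opens)}
    refine TopCat.Sheaf.eq_of_locally_eq' (X ⨯ Tor.{u} n).sheaf
      (fun i : ι => (prod.fst : X ⨯ Tor.{u} n ⟶ X) ⁻¹ᵁ (i.1 : X.Opens)) ⊤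
      (fun i => homOfLE le_top) ?_ v _ ?_
    · intro y _
      obtain ⟨_, ⟨V, hV, rfl⟩, hyV, -⟩ := X.isBasis_affineOpens.exists_subset_of_mem_open
        (Set.mem_univ ((prod.fst : X ⨯ Tor.{u} n ⟶ X).base y)) isOpen_univ
      have hηV : genericPoint X ∈ V :=
        ((genericPoint_spec X).mem_open_set_iff V.isOpen).mpr ⟨_, trivial, hyV⟩
      exact TopologicalSpace.Opens.mem_iSup.mpr ⟨⟨⟨V, hV⟩, hηV⟩, hyV⟩
    · intro i
      obtain ⟨e, a, ha, hd⟩ := key i.1.1 i.1.2 i.2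
      obtain ⟨he, hae⟩ := compat i.1.1 i.1.2 i.2 e a ha hd
      have h1 := res_top X n i.1.1 u e₀
      have h3 : a = (X.presheaf.map (homOfLE (le_top : (i.1 : X.Opens) ≤ ⊤)).op).hom u := by
        apply germ_injective_of_isIntegral X (genericPoint X) i.2
        have g1 := TopCat.Presheaf.germ_res_apply X.presheaf
          (homOfLE (le_top : (i.1 : X.Opens) ≤ ⊤)) (genericPoint X) i.2 u
        exact hae.trans (hu.symm.trans g1.symm)
      rw [he, h3] at hd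
      exact hd.trans h1.symm
  refine ⟨(U, e₀), hv_eq, ?_⟩
  rintro ⟨U', e'⟩ hU'
  have h1 := res_top X n W₀ (U' : Γ(X, ⊤)) e'
  have h2 : rv W₀ = _ := (congrArg _ hU').trans h1
  have : Nonempty W₀ := ⟨⟨genericPoint X, hηW₀⟩⟩
  have hne : (X.presheaf.map (homOfLE (le_top : W₀ ≤ ⊤)).op).hom (U' : Γ(X, ⊤)) ≠ 0 :=
    (U'.isUnit.map _).ne_zero
  obtain ⟨he, hae⟩ := eq_of_decomp_eq X n W₀ hW₀ _ _ _ _ hne (h2.symm.trans hd₀)
  apply Prod.ext
  · apply Units.ext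
    apply germ_injective_of_isIntegral X (genericPoint X) (show genericPoint X ∈ (⊤ : X.Opens) from trivial)
    have g1 := TopCat.Presheaf.germ_res_apply X.presheaf (homOfLE (le_top : W₀ ≤ ⊤))
      (genericPoint X) hηW₀ (U' : Γ(X, ⊤))
    exact g1.symm.trans ((congrArg _ hae).trans (hs.symm.trans hu.symm))
  · exact he

end Groth.Agent.Lib.Helper26.TorUnitC
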