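import Mathlib
import Groth.Agent.Lib.Helper26.NormLength

set_option autoImplicit false
set_option linter.style.haveILetI false
set_option linter.unusedSectionVars false

namespace Groth.Agent.Lib.Helper26.TorsFreeGen

open Function Submodule
open scoped Pointwise
open Groth.Agent.Lib.Helper26.RelLength Groth.Agent.Lib.Helper26.LatticeBasic
open Groth.Agent.Lib.Helper26.OrdZ Groth.Agent.Lib.Helper26.LatticeDet

universe u

section Avoid

variable {O : Type*} [CommRing O] [IsLocalRing O] [Infinite (IsLocalRing.ResidueField O)]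
  {P : Type*} [AddCommGroup P] [Module O P]

/-- Over a local ring with infinite residue field, a module is not a finite union of proper
submodules. -/
theorem exists_avoid {ι : Type*} (s : Finset ι) (U : ι → Submodule O P)
    (hne : ∀ i ∈ s, U i ≠ ⊤) : ∃ x : P, ∀ i ∈ s, x ∉ U i := by
  classical
  induction s using Finset.induction_on with
  | empty => exact ⟨0, by simp⟩
  | insert j s hj ih =>
    obtain ⟨x, hx⟩ := ih (fun i hi => hne i (Finset.mem_insert_of_mem hi))
    by_cases hxj : x ∉ U j
    · refine ⟨x, fun i hi => ?_⟩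
      rcases Finset.mem_insert.mp hi with rfl | hi
      · exact hxj
      · exact hx i hi
    rw [not_not] at hxj
    obtain ⟨z, hz⟩ : ∃ z : P, z ∉ U j := by
      by_contra hcon
      push Not at hcon
      exact hne j (Finset.mem_insert_self _ _) (eq_top_iff.mpr fun z _ => hcon z)
    -- unit scalars preserve non-membership
    have hunit : ∀ (c : O) (V : Submodule O P) (w : P), IsUnit c → c • w ∈ V → w ∈ V := by
      intro c V w hc hcw
      obtain ⟨c', hc'⟩ := hc.exists_left_inv
      have : w = c' • (c • w) := by rw [smul_smul, hc', one_smul]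
      rw [this]; exact V.smul_mem _ hcw
    let Bi : ι → Set (IsLocalRing.ResidueField O) :=
      fun i => {cb | ∃ c : O, IsLocalRing.residue O c = cb ∧ x + c • z ∈ U i}
    have hBi : ∀ i ∈ s, (Bi i).Subsingleton := by
      intro i hi a ⟨c, hca, hc⟩ b ⟨c', hcb, hc'⟩
      by_contra hab
      have hu : IsUnit (c - c') := by
        rw [← IsLocalRing.residue_ne_zero_iff_isUnit, map_sub, hca, hcb]
        exact sub_ne_zero.mpr hab
      have h1 : (c - c') • z ∈ U i := by
        have : (c - c') • z = (x + c • z) - (x + c' • z) := by rw [sub_smul]; abel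
        rw [this]; exact (U i).sub_mem hc hc'
      have hzi : z ∈ U i := hunit _ _ _ hu h1
      apply hx i hi
      have : x = (x + c • z) - c • z := by abel
      rw [this]; exact (U i).sub_mem hc ((U i).smul_mem _ hzi)
    have hfin : (({0} : Set (IsLocalRing.ResidueField O)) ∪ ⋃ i ∈ s, Bi i).Finite := by
      refine (Set.finite_singleton _).union ?_
      exact Set.Finite.biUnion s.finite_toSet (fun i hi => (hBi i hi).finite)
    obtain ⟨cb, hcb⟩ := hfin.exists_notMem
    obtain ⟨c, rfl⟩ := IsLocalRing.residue_surjective cb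
    have hc0 : IsLocalRing.residue O c ≠ 0 := fun h => hcb (Or.inl h)
    have hcu : IsUnit c := (IsLocalRing.residue_ne_zero_iff_isUnit c).mp hc0
    refine ⟨x + c • z, fun i hi => ?_⟩
    rcases Finset.mem_insert.mp hi with rfl | hi
    · intro hmem
      apply hz
      apply hunit c _ _ hcu
      have : c • z = (x + c • z) - x := by abel
      rw [this]; exact (U i).sub_mem hmem hxj
    · intro hmem
      apply hcb
      refine Or.inr ?_
      simp only [Set.mem_iUnion]
      exact ⟨i, hi, c, rfl, hmem⟩

end Avoid


section Reduction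

variable {O : Type*} [CommRing O] [IsDomain O] [IsLocalRing O]
  [Infinite (IsLocalRing.ResidueField O)]
  {B : Type*} [CommRing B] [Algebra O B] [FaithfulSMul O B]
  [Algebra.IsIntegral O B] [IsDedekindDomain B]

/-- maximal ideals of an integral extension of a local ring contain the maximal ideal -/
lemma algebraMap_mem_of_isMaximal (N : Ideal B) [hN : N.IsMaximal] {a : O}
    (ha : a ∈ IsLocalRing.maximalIdeal O) : algebraMap O B a ∈ N := by
  have hmax : (N.comap (algebraMap O B)).IsMaximal :=
    Ideal.isMaximal_comap_of_isIntegral_of_isMaximal N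
  have := IsLocalRing.eq_maximalIdeal hmax
  have h2 : a ∈ N.comap (algebraMap O B) := by rw [this]; exact ha
  exact h2

theorem finite_maximals (hO : IsLocalRing.maximalIdeal O ≠ ⊥) :
    {N : Ideal B | N.IsMaximal}.Finite := by
  obtain ⟨x0, hx0m, hx0⟩ := Submodule.exists_mem_ne_zero_of_ne_bot hO
  have hx0B : algebraMap O B x0 ≠ 0 := by
    rwa [Ne, FaithfulSMul.algebraMap_eq_zero_iff]
  refine (Ideal.finite_minimalPrimes_of_isNoetherianRing B
    (Ideal.span {algebraMap O B x0})).subset ?_
  intro N (hN : N.IsMaximal)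
  haveI := hN
  have hxN : algebraMap O B x0 ∈ N := algebraMap_mem_of_isMaximal N hx0m
  refine ⟨⟨hN.isPrime, (Ideal.span_singleton_le_iff_mem _).mpr hxN⟩, ?_⟩
  rintro P ⟨hP, hxP⟩ hPN
  have hP0 : P ≠ ⊥ := by
    rintro rfl
    exact hx0B (by simpa using hxP (Ideal.mem_span_singleton_self _))
  have hPmax : P.IsMaximal := Ring.DimensionLEOne.maximalOfPrime hP0 hP
  exact (hPmax.eq_of_le hN.ne_top hPN).ge

theorem exists_reduction (hO : IsLocalRing.maximalIdeal O ≠ ⊥) :
    ∃ x ∈ IsLocalRing.maximalIdeal O, x ≠ 0 ∧
      Ideal.map (algebraMap O B) (IsLocalRing.maximalIdeal O) =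
        Ideal.span {algebraMap O B x} := by
  classical
  have hfin := finite_maximals (O := O) (B := B) hO
  haveI : IsPrincipalIdealRing B := IsPrincipalIdealRing.of_finite_maximals hfin
  set m := IsLocalRing.maximalIdeal O with hm
  set I : Ideal B := Ideal.map (algebraMap O B) m with hI
  obtain ⟨y, hy⟩ : ∃ y, I = Ideal.span {y} := (IsPrincipalIdealRing.principal I).principal
  have hy0 : y ≠ 0 := by
    rintro rfl
    obtain ⟨x0, hx0m, hx0⟩ := Submodule.exists_mem_ne_zero_of_ne_bot hO
    have : algebraMap O B x0 ∈ I := Ideal.mem_map_of_mem _ hx0m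
    rw [hy] at this
    have h0 : algebraMap O B x0 = 0 := by simpa using this
    rw [FaithfulSMul.algebraMap_eq_zero_iff] at h0
    exact hx0 h0
  -- the bad submodules
  let j : ↥m →ₗ[O] B := (Algebra.linearMap O B).comp m.subtype
  let U : Ideal B → Submodule O ↥m := fun N => Submodule.comap j ((N * I).restrictScalars O)
  have hU : ∀ N ∈ hfin.toFinset, U N ≠ ⊤ := by
    intro N hN htop
    have hNmax : N.IsMaximal := by simpa using hN
    have hle : I ≤ N * I := by
      rw [hI, Ideal.map_le_iff_le_comap]
      intro a ha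
      have : (⟨a, ha⟩ : ↥m) ∈ U N := by rw [htop]; trivial
      exact this
    have hyN : y ∈ N * Ideal.span {y} := by
      rw [← hy]; exact hle (by rw [hy]; exact Ideal.mem_span_singleton_self y)
    rw [Ideal.mem_mul_span_singleton] at hyN
    obtain ⟨n, hn, hny⟩ := hyN
    have : n = 1 := by
      have h1 : (n - 1) * y = 0 := by rw [sub_mul, hny, one_mul, sub_self]
      rcases mul_eq_zero.mp h1 with h | h
      · exact sub_eq_zero.mp h
      · exact absurd h hy0
    rw [this] at hn
    exact hNmax.ne_top ((Ideal.eq_top_iff_one _).mpr hn)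
  obtain ⟨x, hx⟩ := exists_avoid hfin.toFinset U hU
  have hxI : algebraMap O B x ∈ I := Ideal.mem_map_of_mem _ x.2
  rw [hy, Ideal.mem_span_singleton'] at hxI
  obtain ⟨u, hu⟩ := hxI
  have huu : IsUnit u := by
    by_contra hnu
    obtain ⟨N, hNmax, huN⟩ := exists_max_ideal_of_mem_nonunits hnu
    have hNf : N ∈ hfin.toFinset := by simpa using hNmax
    apply hx N hNf
    change algebraMap O B x ∈ N * I
    rw [← hu, hy]
    exact Ideal.mul_mem_mul huN (Ideal.mem_span_singleton_self y)
  refine ⟨x, x.2, ?_, ?_⟩
  · intro h0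
    have : u * y = 0 := by rw [hu, h0, map_zero]
    rcases mul_eq_zero.mp this with h | h
    · exact huu.ne_zero h
    · exact hy0 h
  · rw [hy, ← hu]
    rw [Ideal.span_singleton_mul_left_unit huu]

end Reduction


section Main

variable (O : Type u) [CommRing O] [IsDomain O] [IsNoetherianRing O] [IsLocalRing O]
  (K : Type u) [Field K] [Algebra O K] [IsFractionRing O K]

lemma ordFrac_pow' [Ring.KrullDimLE 1 O] {y : K} (hy : y ≠ 0) (n : ℕ) :
    CycAlg.ordFrac O K (y ^ n) = n * CycAlg.ordFrac O K y := by
  induction n with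
  | zero => simp [ordFrac_one]
  | succ n ih =>
    rw [pow_succ, ordFrac_mul (pow_ne_zero n hy) hy, ih]
    push_cast; ring

/-- `length (M / xM) = rank(M) * length (O / xO)` for a f.g. torsion-free module over a
one-dimensional Noetherian domain. -/
theorem length_quot_smul_eq [Ring.KrullDimLE 1 O]
    (M : Type u) [AddCommGroup M] [Module O M] [Module.Finite O M] [NoZeroSMulDivisors O M]
    (x : O) (hx : x ≠ 0) :
    Module.length O (M ⧸ (x • (⊤ : Submodule O M))) =
      (Module.finrank K (TensorProduct O K M) : ℕ∞) * Module.length O (O ⧸ Ideal.span {x}) := by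
  classical
  let V := TensorProduct O K M
  let j : M →ₗ[O] V := TensorProduct.mk O K M 1
  have hj : Injective j := by
    rw [injective_iff_map_eq_zero]
    intro a ha
    obtain ⟨c, hc⟩ := (IsLocalizedModule.eq_zero_iff (nonZeroDivisors O) j).mp ha
    rcases smul_eq_zero.mp hc with h | h
    · exact absurd h (nonZeroDivisors.coe_ne_zero c)
    · exact h
  haveI : Module.Finite K V := Module.Finite.base_change O K M
  haveI hlat : IsLattice K (LinearMap.range j) :=
    { fg := by
        rw [LinearMap.range_eq_map]
        exact (Module.Finite.fg_top).map _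
      span_eq_top := by
        rw [eq_top_iff]
        intro v hv
        clear hv
        induction v using TensorProduct.induction_on with
        | zero => exact Submodule.zero_mem _
        | tmul c a =>
          have : c ⊗ₜ[O] a = c • j a := by
            change c ⊗ₜ[O] a = c • ((1 : K) ⊗ₜ[O] a)
            rw [TensorProduct.smul_tmul', smul_eq_mul, mul_one]
          rw [this]
          exact Submodule.smul_mem _ _ (Submodule.subset_span ⟨a, rfl⟩)
        | add v w hv hw => exact Submodule.add_mem _ hv hw }
  have hxK : algebraMap O K x ≠ 0 := by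
    rwa [Ne, FaithfulSMul.algebraMap_eq_zero_iff]
  let φ : V ≃ₗ[K] V := LinearEquiv.smulOfNeZero K V (algebraMap O K x) hxK
  have hdet : LinearMap.det φ.toLinearMap = (algebraMap O K x) ^ Module.finrank K V := by
    have : φ.toLinearMap = (algebraMap O K x) • LinearMap.id := by
      apply LinearMap.ext
      intro v
      rfl
    rw [this, LinearMap.det_smul, LinearMap.det_id, mul_one]
  have key := idx_map_eq_ordFrac_det (A := O) (K := K) (LinearMap.range j) φ
  rw [hdet, ordFrac_pow' O K hxK, ordFrac_algebraMap hx] at key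
  have hmap : (LinearMap.range j).map (φ.toLinearMap.restrictScalars O) =
      (x • (⊤ : Submodule O M)).map j := by
    ext v
    simp only [Submodule.mem_map, LinearMap.mem_range]
    constructor
    · rintro ⟨_, ⟨a, rfl⟩, rfl⟩
      refine ⟨x • a, Submodule.smul_mem_pointwise_smul _ _ _ trivial, ?_⟩
      rw [map_smul]
      exact (algebraMap_smul K x (j a)).symm
    · rintro ⟨a, ha, rfl⟩
      obtain ⟨a', -, rfl⟩ := (Submodule.mem_smul_pointwise_iff_exists _ _ _).mp ha
      refine ⟨j a', ⟨a', rfl⟩, ?_⟩
      rw [map_smul]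
      exact algebraMap_smul K x (j a')
  have hle : (x • (⊤ : Submodule O M)).map j ≤ LinearMap.range j := by
    rw [LinearMap.range_eq_map]
    exact Submodule.map_mono le_top
  haveI : IsLattice K ((x • (⊤ : Submodule O M)).map j) := by
    rw [← hmap]
    exact isLattice_map φ.toLinearMap φ.surjective _
  have hfin := rl_lt_top (K := K) ((x • (⊤ : Submodule O M)).map j) (LinearMap.range j)
  have hlen : rl ((x • (⊤ : Submodule O M)).map j) (LinearMap.range j) =
      Module.length O (M ⧸ (x • (⊤ : Submodule O M))) :=
    (length_quotient_eq_rl j hj _).symm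
  rw [hmap, idx_of_le hle hfin, hlen] at key
  rw [hlen] at hfin
  have hordfin : Ring.ord O x ≠ ⊤ := Ring.ord_ne_top (mem_nonZeroDivisors_of_ne_zero hx)
  have h1 : Module.length O (M ⧸ (x • (⊤ : Submodule O M))) =
      ((Module.length O (M ⧸ (x • (⊤ : Submodule O M)))).toNat : ℕ∞) :=
    (ENat.natCast_toNat hfin.ne).symm
  have h2 : Module.length O (O ⧸ Ideal.span {x}) = ((Ring.ord O x).toNat : ℕ∞) :=
    (ENat.natCast_toNat hordfin).symm
  rw [h1, h2]
  have : ((Module.length O (M ⧸ (x • (⊤ : Submodule O M)))).toNat : ℤ) =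
      ((Module.finrank K V * (Ring.ord O x).toNat : ℕ) : ℤ) := by
    rw [key]; push_cast; rfl
  have h3 := Int.ofNat_inj.mp this
  rw [h3]; push_cast; rfl


theorem main_15011 (hdim : ringKrullDim O = 1) [Infinite (IsLocalRing.ResidueField O)]
    (hfin : Module.Finite O ↥(integralClosure O K))
    (M : Type u) [AddCommGroup M] [Module O M] [Module.Finite O M] [NoZeroSMulDivisors O M]
    (n : ℕ) (hn : Module.finrank K (TensorProduct O K M) = n) :
    ((⊤ : Submodule O M).spanFinrank : ℕ∞) ≤
      (n : ℕ∞) * Module.length O (↥(integralClosure O K) ⧸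
        (IsLocalRing.maximalIdeal O) • (⊤ : Submodule O ↥(integralClosure O K))) := by
  classical
  haveI hK1 : Ring.KrullDimLE 1 O := by
    rw [Ring.krullDimLE_iff, hdim]; rfl
  haveI hD1 : Ring.DimensionLEOne O :=
    ⟨fun {p} hp0 hp => (Ring.krullDimLE_one_iff_of_isPrime_bot.mp hK1) p hp0 hp⟩
  set B := ↥(integralClosure O K) with hB
  haveI : IsFractionRing B K := integralClosure.isFractionRing_of_finite_extension K K
  haveI : IsNoetherianRing B := by
    haveI : Algebra.FiniteType O B := inferInstance
    exact Algebra.FiniteType.isNoetherianRing O B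
  haveI : IsDedekindDomain B := by
    rw [isDedekindDomain_iff (A := B) K]
    refine ⟨inferInstance, inferInstance, inferInstance, ?_⟩
    intro y hy
    have hy' : IsIntegral O y := isIntegral_trans y hy
    exact ⟨⟨y, hy'⟩, rfl⟩
  have hO : IsLocalRing.maximalIdeal O ≠ ⊥ := by
    intro h
    have : IsField O := IsLocalRing.isField_iff_maximalIdeal_eq.mpr h
    have h0 := ringKrullDim_eq_zero_of_isField this
    rw [hdim] at h0
    exact one_ne_zero h0
  obtain ⟨x, hxm, hx0, hxI⟩ := exists_reduction (O := O) (B := B) hO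
  -- length of B / mB
  have hlenB : Module.length O (B ⧸ (IsLocalRing.maximalIdeal O) • (⊤ : Submodule O B)) =
      Module.length O (O ⧸ Ideal.span {x}) := by
    have e1 : (IsLocalRing.maximalIdeal O) • (⊤ : Submodule O B) =
        (Ideal.span {algebraMap O B x}).restrictScalars O := by
      rw [Ideal.smul_top_eq_map, hxI]
    have e2 : Module.length O (B ⧸ (IsLocalRing.maximalIdeal O) • (⊤ : Submodule O B)) =
        Module.length O (B ⧸ Ideal.span {algebraMap O B x}) := by
      rw [← (Submodule.Quotient.restrictScalarsEquiv O (Ideal.span {algebraMap O B x})).length_eq]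
      exact (Submodule.quotEquivOfEq _ _ e1).length_eq
    have hxB : algebraMap O B x ≠ 0 := by
      rwa [Ne, FaithfulSMul.algebraMap_eq_zero_iff]
    obtain ⟨hlt, heq⟩ := NormLength.main_14503 (A := O) (B := B) (K := K) (L := K)
      (algebraMap O B x) hxB
    rw [Algebra.norm_self, MonoidHom.id_apply, ← IsScalarTower.algebraMap_apply,
      ordFrac_algebraMap hx0] at heq
    have hordfin : Ring.ord O x ≠ ⊤ := Ring.ord_ne_top (mem_nonZeroDivisors_of_ne_zero hx0)
    rw [e2, ← ENat.natCast_toNat hlt.ne, Int.ofNat_inj.mp heq, ENat.natCast_toNat hordfin]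
    rfl
  -- generators
  have hgen : ((⊤ : Submodule O M).spanFinrank : ℕ∞) ≤
      Module.length O (M ⧸ (x • (⊤ : Submodule O M))) := by
    set m := IsLocalRing.maximalIdeal O with hm
    have h1 := IsLocalRing.spanFinrank_eq_finrank_quotient (⊤ : Submodule O M)
      Module.Finite.fg_top
    letI : Field (O ⧸ m) := Ideal.Quotient.field _
    set W := (↥(⊤ : Submodule O M) ⧸ m • (⊤ : Submodule O ↥(⊤ : Submodule O M))) with hW
    haveI : Module.Finite (O ⧸ m) W := Module.Finite.of_restrictScalars_finite O _ _
    have h2 : ((Module.finrank (O ⧸ m) W : ℕ) : ℕ∞) = Module.length (O ⧸ m) W :=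
      (Module.length_eq_finrank _ _).symm
    have h3 : Module.length O W = Module.length (O ⧸ m) W :=
      Module.length_eq_of_surjective Ideal.Quotient.mk_surjective
    rw [h1, h2, ← h3]
    let g : M →ₗ[O] W :=
      (Submodule.mkQ _).comp (Submodule.topEquiv (R := O) (M := M)).symm.toLinearMap
    have hg : Surjective g :=
      (Submodule.mkQ_surjective _).comp (Submodule.topEquiv (R := O) (M := M)).symm.surjective
    have hker : x • (⊤ : Submodule O M) ≤ LinearMap.ker g := by
      intro a ha
      obtain ⟨a', -, rfl⟩ := (Submodule.mem_smul_pointwise_iff_exists _ _ _).mp ha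
      rw [LinearMap.mem_ker, map_smul]
      change x • Submodule.Quotient.mk _ = 0
      rw [← Submodule.Quotient.mk_smul, Submodule.Quotient.mk_eq_zero]
      exact Submodule.smul_mem_smul hxm trivial
    let g' : (M ⧸ (x • (⊤ : Submodule O M))) →ₗ[O] W := Submodule.liftQ _ g hker
    have hg' : Surjective g' := by
      intro w
      obtain ⟨a, rfl⟩ := hg w
      exact ⟨Submodule.Quotient.mk a, rfl⟩
    exact Module.length_le_of_surjective g' hg'
  rw [hlenB, ← hn, ← length_quot_smul_eq O K M x hx0]
  exact hgen

end Main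

end Groth.Agent.Lib.Helper26.TorsFreeGen
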