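import Groth.Agent.Lib.Helper29.PullSect
import Groth.Agent.Lib.Helper29.QCohIdealMod

set_option autoImplicit false
set_option linter.style.haveILetI false
universe u
open CategoryTheory AlgebraicGeometry Opposite TopologicalSpace
open Groth.Agent.Lib.Helper29.QCoh
open Scheme.Modules

namespace Groth.Agent.Lib.Helper26.UnitInvertible

variable {X Y : Scheme.{u}}

theorem app_bijective_of_unitToPush (f : X ⟶ Y) [IsIso (ClSub.unitToPush f)] (W : Y.Opens) :
    Function.Bijective (f.app W).hom := by
  have h := app_bijective_of_isIso (ClSub.unitToPush f) W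
  exact h

theorem unit_app_bijective_of_isTriv (f : X ⟶ Y) [IsIso (ClSub.unitToPush f)] (L : Y.Modules)
    {W : Y.Opens} {e : Γ(L, W)} (hT : IsTriv L W e) :
    Function.Bijective (((pullbackPushforwardAdjunction f).unit.app L).app W) := by
  have hp : IsTriv ((pullback f).obj L) (f ⁻¹ᵁ W) (pullSect f L W e) := hT.pullSect f
  have h1 := hT.bijective
  have h2 := hp.bijective
  have h3 := app_bijective_of_unitToPush f W
  have hfun : (fun m => pullSect f L W m) ∘ (fun r : Γ(Y, W) => r • e) =
      (fun r : Γ(X, f ⁻¹ᵁ W) => r • pullSect f L W e) ∘ (f.app W).hom := by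
    funext a
    simp only [Function.comp_apply]
    exact pullSect_smul f L W a e
  have h4 : Function.Bijective ((fun m => pullSect f L W m) ∘ (fun r : Γ(Y, W) => r • e)) := by
    rw [hfun]
    exact h2.comp h3
  have h5 : Function.Bijective (fun m => pullSect f L W m) :=
    (Function.Bijective.of_comp_iff _ h1).mp h4
  exact h5

theorem main (f : X ⟶ Y) [IsIso (ClSub.unitToPush f)] (L : Y.Modules)
    (hL : PicF.IsInvertible L) : IsIso ((pullbackPushforwardAdjunction f).unit.app L) := by
  rw [isIso_iff_app_bijective]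
  intro W
  refine bijective_of_forall_basis (M := L)
    (N := (pushforward f).obj ((pullback f).obj L)) (U := ⊤)
    (fun W' => ∃ e : Γ(L, W'), IsTriv L W' e) ?_
    (fun W' _ => (appₗ ((pullbackPushforwardAdjunction f).unit.app L) W').toAddMonoidHom)
    ?_ ?_ W le_top
  · intro W' _ x hx
    obtain ⟨V, e, hxV, he⟩ := exists_isTriv hL x
    exact ⟨W' ⊓ V, inf_le_left, ⟨hx, hxV⟩, res L inf_le_right e, he.restrict inf_le_right⟩
  · intro W₁ W₂ _ h' m
    exact app_res ((pullbackPushforwardAdjunction f).unit.app L) h' m
  · rintro W' _ ⟨e, he⟩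
    exact unit_app_bijective_of_isTriv f L he

end Groth.Agent.Lib.Helper26.UnitInvertible
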