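import Mathlib
import Groth.Agent.Lib.Helper20.UnramifiedNear
import Groth.Agent.Lib.Helper26.SecIso
import Groth.Agent.Lib.Helper26.UnrField
import Groth.Agent.Lib.Helper26.GrpLocE
import Groth.Agent.Lib.Helper26.DimFun

set_option autoImplicit false
set_option backward.isDefEq.respectTransparency.types false
universe u v
open AlgebraicGeometry CategoryTheory CategoryTheory.Limits MonoidalCategory
  CartesianMonoidalCategory MonObj GrpObj Topology

namespace Groth.Agent.Lib.Helper26.UnitOpen

open Groth.Agent.Lib.Helper20 Groth.Agent.Lib.Helper26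

theorem holdsNear_fu_of_fibre_fu {X S : Scheme.{u}} (π : X ⟶ S) (s : S) (W : X.Opens)
    [LocallyOfFiniteType (W.ι ≫ π)] (x : W) (hx : π.base x.1 = s)
    [FormallyUnramified (π.fiberToSpecResidueField s)] :
    HoldsNear @FormallyUnramified (W.ι ≫ π) x := by
  let g := S.fromSpecResidueField s
  have hx' : x ∈ Set.range ((W.ι ≫ π).fiberι s).base := by
    rw [Scheme.Hom.range_fiberι]
    exact hx
  obtain ⟨x', hx'⟩ := hx'
  have hpb : IsPullback (pullback.fst W.ι (pullback.fst π g))
      (pullback.snd W.ι (pullback.fst π g) ≫ pullback.snd π g) (W.ι ≫ π) g :=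
    (IsPullback.of_hasPullback W.ι (pullback.fst π g)).paste_vert (IsPullback.of_hasPullback π g)
  haveI : FormallyUnramified (pullback.snd π g) :=
    ‹FormallyUnramified (π.fiberToSpecResidueField s)›
  have hFU : FormallyUnramified (pullback.snd (W.ι ≫ π) g) := by
    rw [← hpb.isoPullback_inv_snd]
    have ha : FormallyUnramified (pullback.snd W.ι (pullback.fst π g)) := inferInstance
    have hb : FormallyUnramified (pullback.snd W.ι (pullback.fst π g) ≫ pullback.snd π g) :=
      MorphismProperty.comp_mem _ _ _ ha inferInstance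
    have hc : FormallyUnramified hpb.isoPullback.inv := inferInstance
    exact MorphismProperty.comp_mem _ _ _ hc hb
  have h1 : HoldsNear @FormallyUnramified (pullback.snd (W.ι ≫ π) g) x' :=
    ⟨_, 𝟙 _, inferInstance, ⟨x', rfl⟩, by rw [Category.id_comp]; exact hFU⟩
  have h2 := (holdsNear_formallyUnramified_pullback_iff (W.ι ≫ π) g x').1 h1
  have h3 : pullback.fst (W.ι ≫ π) g x' = x := hx'
  rw [h3] at h2
  exact h2

/-- a section of a morphism which is locally of finite type near the section and with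
unramified fibre is an open immersion near the point -/
theorem exists_isOpenImmersion_section {X S : Scheme.{u}} (π : X ⟶ S) (ε : S ⟶ X)
    (hε : ε ≫ π = 𝟙 S) (s : S) (W : X.Opens) (hsW : ε.base s ∈ W)
    [LocallyOfFiniteType (W.ι ≫ π)] [FormallyUnramified (π.fiberToSpecResidueField s)] :
    ∃ U₁ : S.Opens, s ∈ U₁ ∧ IsOpenImmersion (U₁.ι ≫ ε) := by
  have hπε : ∀ t : S, π.base (ε.base t) = t := by
    intro t
    have h1 : π.base (ε.base t) = (ε ≫ π).base t := rfl
    rw [h1, hε]
    rfl
  obtain ⟨W₀, w₀, hw₀, hmem, hq⟩ := holdsNear_fu_of_fibre_fu π s W ⟨ε.base s, hsW⟩ (hπε s)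
  obtain ⟨y₀, hy₀⟩ := hmem
  let w : W₀ ⟶ X := w₀ ≫ W.ι
  haveI : FormallyUnramified (w ≫ π) := by
    change FormallyUnramified ((w₀ ≫ W.ι) ≫ π)
    rw [Category.assoc]
    exact hq
  haveI : LocallyOfFiniteType (w ≫ π) := by
    change LocallyOfFiniteType ((w₀ ≫ W.ι) ≫ π)
    rw [Category.assoc]
    infer_instance
  have hwy : w.base y₀ = ε.base s := by
    change W.ι.base (w₀.base y₀) = ε.base s
    rw [hy₀]
    rfl
  let U₁ : S.Opens := ε ⁻¹ᵁ w.opensRange
  have hsU₁ : s ∈ U₁ := ⟨y₀, hwy⟩
  have hr : Set.range (U₁.ι ≫ ε).base ⊆ Set.range w.base := by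
    rintro _ ⟨u, rfl⟩
    exact u.2
  let j' : U₁.toScheme ⟶ W₀ := IsOpenImmersion.lift w (U₁.ι ≫ ε) hr
  have hj' : j' ≫ w = U₁.ι ≫ ε := IsOpenImmersion.lift_fac _ _ _
  haveI : IsOpenImmersion (j' ≫ w ≫ π) := by
    rw [← Category.assoc, hj', Category.assoc, hε, Category.comp_id]
    infer_instance
  haveI : IsOpenImmersion j' := SecIso.isOpenImmersion_of_comp_of_fu j' (w ≫ π)
  refine ⟨U₁, hsU₁, ?_⟩
  rw [← hj']
  infer_instance

theorem isOpenImmersion_section_of_forall {X S : Scheme.{u}} (π : X ⟶ S) (ε : S ⟶ X)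
    (hε : ε ≫ π = 𝟙 S) (W : X.Opens) (hW : ∀ s : S, ε.base s ∈ W)
    [LocallyOfFiniteType (W.ι ≫ π)]
    (hfu : ∀ s : S, FormallyUnramified (π.fiberToSpecResidueField s)) :
    IsOpenImmersion ε := by
  have hinj : Function.Injective ε.base := by
    intro a b hab
    have h1 : ∀ t : S, π.base (ε.base t) = t := by
      intro t
      have h1 : π.base (ε.base t) = (ε ≫ π).base t := rfl
      rw [h1, hε]
      rfl
    rw [← h1 a, ← h1 b, hab]
  refine IsOpenImmersion.of_forall_source_exists ε hinj ?_
  intro s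
  haveI := hfu s
  obtain ⟨U₁, hsU₁, hU₁⟩ := exists_isOpenImmersion_section π ε hε s W (hW s)
  refine ⟨U₁, U₁.ι, inferInstance, ?_, hU₁⟩
  rw [Scheme.Opens.opensRange_ι]
  exact hsU₁

variable {S : Scheme.{u}} (G : Over S) [GrpObj G]

theorem isOpenImmersion_diagonal_of_unit [IsOpenImmersion η[G].left] :
    IsOpenImmersion (pullback.diagonal G.hom) := by
  have hsq : IsPullback (lift (𝟙 G) (𝟙 G)).left (toUnit G).left
      (lift (fst G G ≫ ι[G]) (snd G G) ≫ μ[G]).left η[G].left :=
    (Groth.Agent.Lib.Helper18.GrpShear.isPullback_diag G).map (Over.forget S)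
  have hdiag : (lift (𝟙 G) (𝟙 G)).left = Limits.pullback.diagonal G.hom := by
    apply Limits.pullback.hom_ext
    · rw [Over.lift_left, Limits.pullback.lift_fst, Limits.pullback.diagonal_fst]
      rfl
    · rw [Over.lift_left, Limits.pullback.lift_snd, Limits.pullback.diagonal_snd]
      rfl
  rw [← hdiag]
  exact MorphismProperty.of_isPullback (P := @IsOpenImmersion) hsq.flip inferInstance

theorem main_5318 :
    (IsOpenImmersion η[G].left ↔
      ((∃ W : G.left.Opens, (∀ p : ↥(𝟙_ (Over S)).left, η[G].left.base p ∈ W) ∧ LocallyOfFinitePresentation (W.ι ≫ G.hom)) ∧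
        ∀ s : S, FormallyUnramified (G.hom.fiberToSpecResidueField s) ∧ LocallyOfFinitePresentation (G.hom.fiberToSpecResidueField s))) ∧
    (LocallyOfFinitePresentation G.hom → (IsOpenImmersion η[G].left ↔ FormallyUnramified G.hom)) := by
  have hε : DimFun.unitSec G ≫ G.hom = 𝟙 S := by
    have := Over.w η[G]
    rw [Over.tensorUnit_hom] at this
    exact this
  constructor
  · constructor
    · intro h
      haveI : IsOpenImmersion (DimFun.unitSec G) := h
      refine ⟨⟨(DimFun.unitSec G).opensRange, fun p => ⟨p, rfl⟩, ?_⟩, ?_⟩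
      · have h1 : (DimFun.unitSec G).isoOpensRange.hom ≫
            ((DimFun.unitSec G).opensRange.ι ≫ G.hom) = 𝟙 S := by
          rw [← Category.assoc, Scheme.Hom.isoOpensRange_hom_ι, hε]
        rw [← MorphismProperty.cancel_left_of_respectsIso (P := @LocallyOfFinitePresentation)
          (DimFun.unitSec G).isoOpensRange.hom, h1]
        infer_instance
      · intro s
        haveI hd : IsOpenImmersion (pullback.diagonal G.hom) := isOpenImmersion_diagonal_of_unit G
        haveI hd' : IsOpenImmersion (pullback.diagonal (G.hom.fiberToSpecResidueField s)) :=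
          MorphismProperty.pullback_snd (P := .diagonal @IsOpenImmersion) _ _ hd
        exact ⟨inferInstance, UnrField.lfp_of_diagonal_field (S.residueField s) _⟩
    · rintro ⟨⟨W, hW, hWfp⟩, hfib⟩
      change IsOpenImmersion (DimFun.unitSec G)
      exact isOpenImmersion_section_of_forall G.hom (DimFun.unitSec G) hε W hW
        (fun s => (hfib s).1)
  · intro hfp
    constructor
    · intro h
      exact GrpLocE.fu_of_isOpenImmersion_unit S G
    · intro h
      exact GrpLocE.isOpenImmersion_unit_of_fu S G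

end Groth.Agent.Lib.Helper26.UnitOpen
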