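import Mathlib

set_option autoImplicit false
set_option backward.isDefEq.respectTransparency.types false
universe u v w

namespace Groth.Agent.Lib.Helper26.UnitProdA

open Polynomial

/-- if a product of `g - c`, `c` ranging over a finite set of constants, vanishes in a ring with
only trivial idempotents, then `g` is one of the constants -/
theorem eq_const_of_prod_eq_zero {R : Type u} {K : Type v} [CommRing R] [Nontrivial R] [Field K]
    (c : K →+* R) (hidem : ∀ e : R, IsIdempotentElem e → e = 0 ∨ e = 1) (g : R) :
    ∀ V : Finset K, ∏ a ∈ V, (g - c a) = 0 → ∃ a ∈ V, g = c a := by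
  classical
  intro V
  induction V using Finset.induction_on with
  | empty =>
    intro h
    rw [Finset.prod_empty] at h
    exact absurd h one_ne_zero
  | insert a V ha ih =>
    intro h
    rw [Finset.prod_insert ha] at h
    set A : R := g - c a with hA
    set B : R := ∏ b ∈ V, (g - c b) with hB
    have hcop : IsCoprime (X - C a : K[X]) (∏ b ∈ V, (X - C b)) := by
      apply IsCoprime.prod_right
      intro b hb
      apply Polynomial.isCoprime_X_sub_C_of_isUnit_sub
      have : a - b ≠ 0 := sub_ne_zero.mpr (fun hab => ha (hab ▸ hb))
      exact this.isUnit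
    obtain ⟨p, q, hpq⟩ := hcop
    let ev : K[X] →+* R := Polynomial.eval₂RingHom c g
    have hevA : ev (X - C a) = A := by simp [ev, hA]
    have hevB : ev (∏ b ∈ V, (X - C b)) = B := by simp [ev, hB]
    have h1 : ev p * A + ev q * B = 1 := by
      have := congrArg ev hpq
      rw [map_add, map_mul, map_mul, hevA, hevB, map_one] at this
      exact this
    have hid : IsIdempotentElem (ev p * A) := by
      change ev p * A * (ev p * A) = ev p * A
      have h2 : ev p * A = 1 - ev q * B := by rw [← h1]; ring
      calc ev p * A * (ev p * A) = ev p * A * (1 - ev q * B) := by rw [← h2]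
        _ = ev p * A - ev p * ev q * (A * B) := by ring
        _ = ev p * A := by rw [h, mul_zero, sub_zero]
    rcases hidem _ hid with h0 | h0
    · have h3 : ev q * B = 1 := by rw [h0, zero_add] at h1; exact h1
      have h4 : A = 0 := by
        calc A = A * (ev q * B) := by rw [h3, mul_one]
          _ = ev q * (A * B) := by ring
          _ = 0 := by rw [h, mul_zero]
      exact ⟨a, Finset.mem_insert_self a V, sub_eq_zero.mp h4⟩
    · have h4 : B = 0 := by
        calc B = B * (ev p * A) := by rw [h0, mul_one]
          _ = ev p * (A * B) := by ring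
          _ = 0 := by rw [h, mul_zero]
      obtain ⟨b, hb, hgb⟩ := ih h4
      exact ⟨b, Finset.mem_insert_of_mem hb, hgb⟩

/-- a function with finitely many values on a jointly injective family of points of a ring with
only trivial idempotents is constant -/
theorem const_of_finite_values {R : Type u} {K : Type v} {I : Type w} [CommRing R] [Field K]
    (c : K →+* R) (ev : I → R →+* K)
    (hev : ∀ i a, ev i (c a) = a) (hinj : ∀ r : R, (∀ i, ev i r = 0) → r = 0)
    (hidem : ∀ e : R, IsIdempotentElem e → e = 0 ∨ e = 1)
    (g : R) {J : Type*} [Finite J] (piece : I → J)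
    (hpiece : ∀ i i', piece i = piece i' → ev i g = ev i' g) :
    ∀ i i', ev i g = ev i' g := by
  classical
  intro i₀ i₁
  haveI : Nontrivial R := by
    refine ⟨⟨0, 1, fun h => ?_⟩⟩
    have := congrArg (ev i₀) h
    rw [map_zero, map_one] at this
    exact zero_ne_one this
  haveI : Fintype J := Fintype.ofFinite J
  let f' : J → K := fun j => if h : ∃ i, piece i = j then ev h.choose g else 0
  have hf' : ∀ i, ev i g = f' (piece i) := by
    intro i
    have h : ∃ i', piece i' = piece i := ⟨i, rfl⟩
    change _ = dite _ _ _
    rw [dif_pos h]
    exact hpiece _ _ h.choose_spec.symm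
  let V : Finset K := Finset.univ.image f'
  have hV : ∀ i, ev i g ∈ V := fun i => by
    rw [hf' i]; exact Finset.mem_image_of_mem _ (Finset.mem_univ _)
  have hprod : ∏ a ∈ V, (g - c a) = 0 := by
    apply hinj
    intro i
    rw [map_prod]
    apply Finset.prod_eq_zero (hV i)
    rw [map_sub, hev, sub_self]
  obtain ⟨a, -, hga⟩ := eq_const_of_prod_eq_zero c hidem g V hprod
  rw [hga, hev, hev]

end Groth.Agent.Lib.Helper26.UnitProdA
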