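import Mathlib
import Groth.Agent.Lib.Helper10.KPts2
import Groth.Agent.Lib.Helper26.Pi0Sch
import Groth.Agent.Lib.Helper26.UnitProdA

set_option autoImplicit false
set_option backward.isDefEq.respectTransparency.types false
set_option maxHeartbeats 1000000
set_option linter.unusedSectionVars false
set_option linter.style.haveILetI false
universe u

open CategoryTheory CategoryTheory.Limits AlgebraicGeometry

namespace Groth.Agent.Lib.Helper26.UnitProdB

variable {K : Type u} [Field K]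

/-- evaluation of global functions at a `K`-valued point -/
noncomputable def evK {Z : Scheme.{u}} (ξ : Spec (CommRingCat.of K) ⟶ Z) : Γ(Z, ⊤) →+* K :=
  ((Scheme.ΓSpecIso (CommRingCat.of K)).hom.hom).comp ξ.appTop.hom

theorem evK_comp {Z Z' : Scheme.{u}} (ξ : Spec (CommRingCat.of K) ⟶ Z) (h : Z ⟶ Z') (r : Γ(Z', ⊤)) :
    evK (ξ ≫ h) r = evK ξ (h.appTop r) := by
  change (Scheme.ΓSpecIso (CommRingCat.of K)).hom ((ξ ≫ h).appTop r) = _
  rw [Scheme.Hom.comp_appTop]
  rfl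

theorem evK_SpecMap {A : Type u} [CommRing A] (f : A →+* K) (r : Γ(Spec (CommRingCat.of A), ⊤)) :
    evK (Spec.map (CommRingCat.ofHom f)) r = f ((Scheme.ΓSpecIso (CommRingCat.of A)).hom r) := by
  have h := Scheme.ΓSpecIso_naturality (CommRingCat.ofHom f)
  exact congrArg (fun m => (CommRingCat.Hom.hom m) r) h

theorem SpecMap_algebraMap_self :
    Spec.map (CommRingCat.ofHom (algebraMap K K)) = 𝟙 (Spec (CommRingCat.of K)) := by
  change Spec.map (𝟙 (CommRingCat.of K)) = _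
  exact Spec.map_id _

theorem evK_ne_zero_of_mem_basicOpen {Z : Scheme.{u}} (ξ : Spec (CommRingCat.of K) ⟶ Z)
    (r : Γ(Z, ⊤)) (p : ↥(Spec (CommRingCat.of K))) (h : ξ p ∈ Z.basicOpen r) : evK ξ r ≠ 0 := by
  intro h0
  have h1 : ξ.appTop r = 0 := by
    have e1 : (Scheme.ΓSpecIso (CommRingCat.of K)).inv ((Scheme.ΓSpecIso (CommRingCat.of K)).hom (ξ.appTop r)) = ξ.appTop r :=
      congrArg (fun m => (CommRingCat.Hom.hom m) (ξ.appTop r)) (Scheme.ΓSpecIso (CommRingCat.of K)).hom_inv_id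
    rw [← e1]
    change (Scheme.ΓSpecIso (CommRingCat.of K)).inv (evK ξ r) = 0
    rw [h0, map_zero]
  have h2 : p ∈ ξ ⁻¹ᵁ Z.basicOpen r := h
  rw [Scheme.preimage_basicOpen] at h2
  change p ∈ (Spec (CommRingCat.of K)).basicOpen (ξ.appTop r) at h2
  rw [h1, Scheme.basicOpen_zero] at h2
  exact h2

/-- `K`-points of a `K`-scheme -/
def Pt {X : Scheme.{u}} (s : X ⟶ Spec (CommRingCat.of K)) : Type u :=
  {x : Spec (CommRingCat.of K) ⟶ X // x ≫ s = 𝟙 _}

/-- two points lie in a common integral affine piece -/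
def SamePiece {X : Scheme.{u}} (s : X ⟶ Spec (CommRingCat.of K)) (x x' : Pt s) : Prop :=
  ∃ (A : Type u) (_ : CommRing A) (_ : Algebra K A) (_ : IsDomain A) (_ : Algebra.FiniteType K A)
    (a : Spec (CommRingCat.of A) ⟶ X) (_ : a ≫ s = Spec.map (CommRingCat.ofHom (algebraMap K A)))
    (x0 x0' : A →ₐ[K] K), x.1 = Spec.map (CommRingCat.ofHom x0.toRingHom) ≫ a ∧
      x'.1 = Spec.map (CommRingCat.ofHom x0'.toRingHom) ≫ a

theorem SamePiece.map {W X : Scheme.{u}} (j : W ⟶ X) (s : X ⟶ Spec (CommRingCat.of K))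
    (x x' : Pt (j ≫ s)) (h : SamePiece (j ≫ s) x x') :
    SamePiece s ⟨x.1 ≫ j, by rw [Category.assoc]; exact x.2⟩
      ⟨x'.1 ≫ j, by rw [Category.assoc]; exact x'.2⟩ := by
  obtain ⟨A, i1, i2, i3, i4, a, ha, x0, x0', h1, h2⟩ := h
  refine ⟨A, i1, i2, i3, i4, a ≫ j, ?_, x0, x0', ?_, ?_⟩
  · rw [Category.assoc]; exact ha
  · change x.1 ≫ j = _
    rw [h1, Category.assoc]
  · change x'.1 ≫ j = _
    rw [h2, Category.assoc]

/-- the structure map of coefficients -/
noncomputable def coeff {W : Scheme.{u}} (t : W ⟶ Spec (CommRingCat.of K)) : K →+* Γ(W, ⊤) :=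
  ((Scheme.ΓSpecIso (CommRingCat.of K)).inv ≫ t.appTop).hom

theorem evK_coeff {W : Scheme.{u}} (t : W ⟶ Spec (CommRingCat.of K)) (x : Pt t) (c : K) :
    evK x.1 (coeff t c) = c := by
  have h1 : evK x.1 (coeff t c) =
      ((Scheme.ΓSpecIso (CommRingCat.of K)).inv ≫ (x.1 ≫ t).appTop ≫
        (Scheme.ΓSpecIso (CommRingCat.of K)).hom) c := by
    rw [Scheme.Hom.comp_appTop]; rfl
  rw [h1, x.2]
  simp

theorem affine_eq {W : Scheme.{u}} [IsAffine W] (t : W ⟶ Spec (CommRingCat.of K)) :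
    W.isoSpec.inv ≫ t = Spec.map (CommRingCat.ofHom (coeff t)) := by
  rw [Iso.inv_comp_eq]
  exact (Groth.Agent.Lib.Helper26.Pi0Sch.toSpec_eq t).symm

theorem pt_affine_eq {W : Scheme.{u}} [IsAffine W] (x : Spec (CommRingCat.of K) ⟶ W) :
    x = Spec.map (CommRingCat.ofHom (evK x)) ≫ W.isoSpec.inv := by
  rw [Iso.eq_comp_inv]
  change x ≫ W.toSpecΓ = _
  rw [Scheme.toSpecΓ_naturality, ← SpecMap_ΓSpecIso_hom, ← Spec.map_comp]
  rfl

theorem finiteType_coeff {W : Scheme.{u}} [IsAffine W] (t : W ⟶ Spec (CommRingCat.of K))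
    [LocallyOfFiniteType t] : RingHom.FiniteType (coeff t) := by
  have h1 : RingHom.FiniteType t.appTop.hom :=
    (HasRingHomProperty.iff_of_isAffine (P := @LocallyOfFiniteType)).mp ‹_›
  have h2 : Function.Surjective (Scheme.ΓSpecIso (CommRingCat.of K)).inv.hom :=
    (ConcreteCategory.bijective_of_isIso (Scheme.ΓSpecIso (CommRingCat.of K)).inv).2
  exact RingHom.FiniteType.comp h1 (RingHom.FiniteType.of_surjective _ h2)

theorem exists_pieces_affine {W : Scheme.{u}} [IsAffine W] (t : W ⟶ Spec (CommRingCat.of K))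
    [LocallyOfFiniteType t] :
    ∃ (J : Type u) (_ : Finite J) (piece : Pt t → J),
      ∀ x x', piece x = piece x' → SamePiece t x x' := by
  letI : Algebra K Γ(W, ⊤) := (coeff t).toAlgebra
  have hft : Algebra.FiniteType K Γ(W, ⊤) := finiteType_coeff t
  haveI : IsNoetherianRing Γ(W, ⊤) := Algebra.FiniteType.isNoetherianRing K Γ(W, ⊤)
  let J := {p : Ideal Γ(W, ⊤) // p ∈ minimalPrimes Γ(W, ⊤)}
  have hJ : Finite J := (minimalPrimes.finite_of_isNoetherianRing Γ(W, ⊤)).to_subtype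
  have key : ∀ x : Pt t, ∃ p : J, p.1 ≤ RingHom.ker (evK x.1) := by
    intro x
    haveI : (RingHom.ker (evK x.1)).IsPrime := RingHom.ker_isPrime _
    obtain ⟨p, hp, hle⟩ := Ideal.exists_minimalPrimes_le (bot_le : ⊥ ≤ RingHom.ker (evK x.1))
    exact ⟨⟨p, hp⟩, hle⟩
  refine ⟨J, hJ, fun x => (key x).choose, ?_⟩
  intro x x' hxx'
  have h1 := (key x).choose_spec
  have h2 := (key x').choose_spec
  change (key x).choose = (key x').choose at hxx'
  rw [← hxx'] at h2
  generalize (key x).choose = p at h1 h2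
  haveI : p.1.IsPrime := p.2.1.1
  let a : Spec (CommRingCat.of (Γ(W, ⊤) ⧸ p.1)) ⟶ W :=
    Spec.map (CommRingCat.ofHom (Ideal.Quotient.mk p.1)) ≫ W.isoSpec.inv
  have hft' : Algebra.FiniteType K (Γ(W, ⊤) ⧸ p.1) :=
    Algebra.FiniteType.of_surjective (Ideal.Quotient.mkₐ K p.1) (Ideal.Quotient.mkₐ_surjective K p.1)
  -- the algebra homs
  let ex : Γ(W, ⊤) →ₐ[K] K := { evK x.1 with commutes' := fun c => evK_coeff t x c }
  let ex' : Γ(W, ⊤) →ₐ[K] K := { evK x'.1 with commutes' := fun c => evK_coeff t x' c }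
  have hex : ∀ r ∈ p.1, ex r = 0 := fun r hr => h1 hr
  have hex' : ∀ r ∈ p.1, ex' r = 0 := fun r hr => h2 hr
  refine ⟨Γ(W, ⊤) ⧸ p.1, inferInstance, inferInstance, inferInstance, hft', a, ?_,
    Ideal.Quotient.liftₐ p.1 ex hex, Ideal.Quotient.liftₐ p.1 ex' hex', ?_, ?_⟩
  · change (Spec.map _ ≫ W.isoSpec.inv) ≫ t = _
    rw [Category.assoc, affine_eq, ← Spec.map_comp]
    rfl
  · change x.1 = Spec.map _ ≫ Spec.map _ ≫ W.isoSpec.inv
    rw [← Spec.map_comp_assoc]
    exact pt_affine_eq x.1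
  · change x'.1 = Spec.map _ ≫ Spec.map _ ≫ W.isoSpec.inv
    rw [← Spec.map_comp_assoc]
    exact pt_affine_eq x'.1

theorem exists_pieces {X : Scheme.{u}} (s : X ⟶ Spec (CommRingCat.of K))
    [LocallyOfFiniteType s] [CompactSpace X] :
    ∃ (J : Type u) (_ : Finite J) (piece : Pt s → J),
      ∀ x x', piece x = piece x' → SamePiece s x x' := by
  classical
  let 𝒰 := X.affineCover.finiteSubcover
  have hA : ∀ i : 𝒰.I₀, ∃ (J : Type u) (_ : Finite J) (piece : Pt (𝒰.f i ≫ s) → J),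
      ∀ x x', piece x = piece x' → SamePiece (𝒰.f i ≫ s) x x' := fun i =>
    exists_pieces_affine (𝒰.f i ≫ s)
  choose Ji hJi piecei hpiecei using hA
  let pt0 : ↥(Spec (CommRingCat.of K)) := IsLocalRing.closedPoint K
  have hlift : ∀ x : Pt s, ∃ (i : 𝒰.I₀) (x1 : Pt (𝒰.f i ≫ s)), x1.1 ≫ 𝒰.f i = x.1 := by
    intro x
    obtain ⟨i, w, hw⟩ := 𝒰.exists_eq (x.1 pt0)
    have hrange : Set.range x.1 ⊆ Set.range (𝒰.f i) := by
      rintro _ ⟨q, rfl⟩
      have : q = pt0 := Subsingleton.elim (α := PrimeSpectrum K) _ _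
      rw [this]
      exact ⟨w, hw⟩
    refine ⟨i, ⟨IsOpenImmersion.lift (𝒰.f i) x.1 hrange, ?_⟩, IsOpenImmersion.lift_fac _ _ _⟩
    rw [← Category.assoc, IsOpenImmersion.lift_fac]
    exact x.2
  choose idx lft hlft using hlift
  haveI : Finite (Σ i : 𝒰.I₀, Ji i) := by
    haveI := hJi
    infer_instance
  refine ⟨Σ i : 𝒰.I₀, Ji i, inferInstance, fun x => ⟨idx x, piecei (idx x) (lft x)⟩, ?_⟩
  intro x x' hxx'
  have gen : ∀ (i i' : 𝒰.I₀) (h : i = i') (x1 : Pt (𝒰.f i ≫ s)) (x1' : Pt (𝒰.f i' ≫ s)),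
      HEq (piecei i x1) (piecei i' x1') →
      SamePiece s ⟨x1.1 ≫ 𝒰.f i, by rw [Category.assoc]; exact x1.2⟩
        ⟨x1'.1 ≫ 𝒰.f i', by rw [Category.assoc]; exact x1'.2⟩ := by
    intro i i' h x1 x1' hh
    subst h
    exact SamePiece.map (𝒰.f i) s x1 x1' (hpiecei i x1 x1' (eq_of_heq hh))
  have h1 : idx x = idx x' := congrArg Sigma.fst hxx'
  have h2 : HEq (piecei (idx x) (lft x)) (piecei (idx x') (lft x')) := (Sigma.ext_iff.mp hxx').2
  have h3 := gen _ _ h1 (lft x) (lft x') h2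
  have e1 : (⟨(lft x).1 ≫ 𝒰.f (idx x), by rw [Category.assoc]; exact (lft x).2⟩ : Pt s) = x :=
    Subtype.ext (hlft x)
  have e2 : (⟨(lft x').1 ≫ 𝒰.f (idx x'), by rw [Category.assoc]; exact (lft x').2⟩ : Pt s) = x' :=
    Subtype.ext (hlft x')
  rw [e1, e2] at h3
  exact h3

variable {k : Type u} [Field k] [Algebra k K] [IsAlgClosed K]

/-- a function on a reduced scheme locally of finite type over `k` vanishing at all `K`-points
is zero -/
theorem eq_zero_of_evK {Z : Scheme.{u}} (h : Z ⟶ Spec (CommRingCat.of k)) [LocallyOfFiniteType h]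
    [IsReduced Z] (r : Γ(Z, ⊤))
    (hr : ∀ ξ : Spec (CommRingCat.of K) ⟶ Z,
      ξ ≫ h = Spec.map (CommRingCat.ofHom (algebraMap k K)) → evK ξ r = 0) : r = 0 := by
  by_contra hne
  have hne' : (Z.basicOpen r : Set Z).Nonempty := by
    rw [Set.nonempty_iff_ne_empty]
    intro he
    apply hne
    rw [← AlgebraicGeometry.basicOpen_eq_bot_iff]
    exact TopologicalSpace.Opens.ext he
  have : LocallyOfFiniteType (Over.mk h).hom := ‹_›
  obtain ⟨y, hy⟩ := Groth.Agent.Lib.Helper10.KPts.exists_kpoint_mem_of_isOpen (K := K)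
    (Y := Over.mk h) (Z.basicOpen r : Set Z) (Z.basicOpen r).2 hne'
  exact evK_ne_zero_of_mem_basicOpen y.left r _ hy (hr y.left (Over.w y))


/-- a global function which is constant on the `K`-points of every integral affine piece of a
reduced connected scheme of finite type over an algebraically closed field is constant on
`K`-points -/
theorem const_of_samePiece {X : Scheme.{u}} (s : X ⟶ Spec (CommRingCat.of K))
    [LocallyOfFiniteType s] [CompactSpace X] [IsReduced X] [PreconnectedSpace X]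
    (G : Γ(X, ⊤)) (hG : ∀ x x' : Pt s, SamePiece s x x' → evK x.1 G = evK x'.1 G) :
    ∀ x x' : Pt s, evK x.1 G = evK x'.1 G := by
  obtain ⟨J, hJ, piece, hpiece⟩ := exists_pieces s
  haveI := hJ
  refine Groth.Agent.Lib.Helper26.UnitProdA.const_of_finite_values (coeff s)
    (fun x : Pt s => evK x.1) (fun x c => evK_coeff s x c) ?_
    (Groth.Agent.Lib.Helper26.Pi0Sch.idem_of_connected X) G piece
    (fun x x' h => hG x x' (hpiece x x' h))
  intro r hr
  refine eq_zero_of_evK (k := K) (K := K) s r (fun ξ hξ => hr ⟨ξ, hξ.trans SpecMap_algebraMap_self⟩)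

end Groth.Agent.Lib.Helper26.UnitProdB
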