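import Mathlib
import Groth.Agent.Lib.Helper26.UnitProdB
import Groth.Agent.Lib.Helper7.Rosen3

set_option autoImplicit false
set_option backward.isDefEq.respectTransparency.types false
set_option maxHeartbeats 1000000
set_option linter.unusedSectionVars false
set_option linter.style.haveILetI false
universe u

open CategoryTheory CategoryTheory.Limits AlgebraicGeometry
open scoped TensorProduct

namespace Groth.Agent.Lib.Helper26.UnitProdC

open Groth.Agent.Lib.Helper26.UnitProdB

variable {K : Type u} [Field K]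
variable {X Y P : Scheme.{u}} {sX : X ⟶ Spec (CommRingCat.of K)} {sY : Y ⟶ Spec (CommRingCat.of K)}
  {q1 : P ⟶ X} {q2 : P ⟶ Y} (hP : IsPullback q1 q2 sX sY)

/-- the point of the product defined by a pair of points -/
noncomputable def pair (x : Pt sX) (y : Pt sY) : Spec (CommRingCat.of K) ⟶ P :=
  hP.lift x.1 y.1 (by rw [x.2, y.2])

lemma pair_fst (x : Pt sX) (y : Pt sY) : pair hP x y ≫ q1 = x.1 := hP.lift_fst _ _ _
lemma pair_snd (x : Pt sX) (y : Pt sY) : pair hP x y ≫ q2 = y.1 := hP.lift_snd _ _ _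

/-- the slice `X → P` at a point of `Y` -/
noncomputable def secL (y : Pt sY) : X ⟶ P :=
  hP.lift (𝟙 X) (sX ≫ y.1) (by rw [Category.id_comp, Category.assoc, y.2, Category.comp_id])

/-- the slice `Y → P` at a point of `X` -/
noncomputable def secR (x : Pt sX) : Y ⟶ P :=
  hP.lift (sY ≫ x.1) (𝟙 Y) (by rw [Category.id_comp, Category.assoc, x.2, Category.comp_id])

lemma comp_secL (x : Pt sX) (y : Pt sY) : x.1 ≫ secL hP y = pair hP x y := by
  apply hP.hom_ext
  · rw [Category.assoc, secL, hP.lift_fst, Category.comp_id, pair_fst]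
  · rw [Category.assoc, secL, hP.lift_snd, ← Category.assoc, x.2, Category.id_comp, pair_snd]

lemma comp_secR (x : Pt sX) (y : Pt sY) : y.1 ≫ secR hP x = pair hP x y := by
  apply hP.hom_ext
  · rw [Category.assoc, secR, hP.lift_fst, ← Category.assoc, y.2, Category.id_comp, pair_fst]
  · rw [Category.assoc, secR, hP.lift_snd, Category.comp_id, pair_snd]

theorem cross_of_samePiece [IsAlgClosed K] (φ : Γ(P, ⊤)) (hφ : IsUnit φ) (x x' : Pt sX) (y y' : Pt sY)
    (hx : SamePiece sX x x') (hy : SamePiece sY y y') :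
    evK (pair hP x y) φ * evK (pair hP x' y') φ = evK (pair hP x y') φ * evK (pair hP x' y) φ := by
  obtain ⟨A, iA1, iA2, iA3, iA4, a, ha, x0, x0', hx1, hx2⟩ := hx
  obtain ⟨B, iB1, iB2, iB3, iB4, b, hb, y0, y0', hy1, hy2⟩ := hy
  let iL : A →ₐ[K] A ⊗[K] B := Algebra.TensorProduct.includeLeft
  let iR : B →ₐ[K] A ⊗[K] B := Algebra.TensorProduct.includeRight
  have hcompat : (Spec.map (CommRingCat.ofHom iL.toRingHom) ≫ a) ≫ sX =
      (Spec.map (CommRingCat.ofHom iR.toRingHom) ≫ b) ≫ sY := by
    rw [Category.assoc, ha, Category.assoc, hb, ← Spec.map_comp, ← Spec.map_comp]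
    congr 1
    ext c
    change iL (algebraMap K A c) = iR (algebraMap K B c)
    rw [AlgHom.commutes, AlgHom.commutes]
  let c : Spec (CommRingCat.of (A ⊗[K] B)) ⟶ P := hP.lift _ _ hcompat
  have hc1 : c ≫ q1 = Spec.map (CommRingCat.ofHom iL.toRingHom) ≫ a := hP.lift_fst _ _ _
  have hc2 : c ≫ q2 = Spec.map (CommRingCat.ofHom iR.toRingHom) ≫ b := hP.lift_snd _ _ _
  set θ : A ⊗[K] B := (Scheme.ΓSpecIso (CommRingCat.of (A ⊗[K] B))).hom (c.appTop φ) with hθ
  have hθu : IsUnit θ := by
    have := hφ.map (c.appTop.hom)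
    exact this.map (Scheme.ΓSpecIso (CommRingCat.of (A ⊗[K] B))).hom.hom
  obtain ⟨r, s, hrs⟩ := Groth.Agent.Lib.Helper7.Rosen.exists_eq_tmul θ hθu
  have key : ∀ (x0 : A →ₐ[K] K) (y0 : B →ₐ[K] K) (x : Pt sX) (y : Pt sY),
      x.1 = Spec.map (CommRingCat.ofHom x0.toRingHom) ≫ a →
      y.1 = Spec.map (CommRingCat.ofHom y0.toRingHom) ≫ b →
      evK (pair hP x y) φ = x0 r * y0 s := by
    intro x0 y0 x y hx hy
    have hp : pair hP x y =
        Spec.map (CommRingCat.ofHom (Algebra.TensorProduct.productMap x0 y0).toRingHom) ≫ c := by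
      apply hP.hom_ext
      · rw [pair_fst, Category.assoc, hc1, ← Spec.map_comp_assoc, hx]
        congr 2
        ext t
        change x0 t = Algebra.TensorProduct.productMap x0 y0 (t ⊗ₜ 1)
        rw [Algebra.TensorProduct.productMap_apply_tmul, map_one, mul_one]
      · rw [pair_snd, Category.assoc, hc2, ← Spec.map_comp_assoc, hy]
        congr 2
        ext t
        change y0 t = Algebra.TensorProduct.productMap x0 y0 (1 ⊗ₜ t)
        rw [Algebra.TensorProduct.productMap_apply_tmul, map_one, one_mul]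
    rw [hp, evK_comp, evK_SpecMap]
    change Algebra.TensorProduct.productMap x0 y0 θ = _
    rw [hrs, Algebra.TensorProduct.productMap_apply_tmul]
  rw [key x0 y0 x y hx1 hy1, key x0' y0' x' y' hx2 hy2, key x0 y0' x y' hx1 hy2,
    key x0' y0 x' y hx2 hy1]
  ring

lemma alg1 {F : Type*} [Field F] (a b c d b' d' : F) (hb : b * b' = 1) (hd : d * d' = 1)
    (h : a * d = b * c) : a * b' = c * d' := by
  linear_combination (b' * d') * h - a * b' * hd + c * d' * hb

lemma alg2 {F : Type*} [Field F] (a b c d b' d' : F) (hb : b * b' = 1) (hd : d * d' = 1)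
    (h : a * b' = c * d') : a * d = b * c := by
  linear_combination (b * d) * h - a * d * hb + b * c * hd

/-- values of a unit on a product of reduced connected schemes of finite type over an
algebraically closed field satisfy the cross identity -/
theorem cross [IsAlgClosed K]
    [LocallyOfFiniteType sX] [CompactSpace X] [IsReduced X] [PreconnectedSpace X]
    [LocallyOfFiniteType sY] [CompactSpace Y] [IsReduced Y] [PreconnectedSpace Y]
    (φ ψ : Γ(P, ⊤)) (hφψ : φ * ψ = 1) (x x' : Pt sX) (y y' : Pt sY) :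
    evK (pair hP x y) φ * evK (pair hP x' y') φ = evK (pair hP x y') φ * evK (pair hP x' y) φ := by
  have hu : IsUnit φ := IsUnit.of_mul_eq_one _ hφψ
  have hvw : ∀ (x : Pt sX) (y : Pt sY), evK (pair hP x y) φ * evK (pair hP x y) ψ = 1 := by
    intro x y
    rw [← map_mul, hφψ, map_one]
  -- Step I
  have stepI : ∀ y y' : Pt sY, SamePiece sY y y' → ∀ x x' : Pt sX,
      evK (pair hP x y) φ * evK (pair hP x' y') φ = evK (pair hP x y') φ * evK (pair hP x' y) φ := by
    intro y y' hy x x'
    let G : Γ(X, ⊤) := (secL hP y).appTop φ * (secL hP y').appTop ψ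
    have hGx : ∀ x : Pt sX, evK x.1 G = evK (pair hP x y) φ * evK (pair hP x y') ψ := by
      intro x
      change evK x.1 ((secL hP y).appTop φ * (secL hP y').appTop ψ) = _
      rw [map_mul, ← evK_comp, ← evK_comp, comp_secL, comp_secL]
    have hG : ∀ x x' : Pt sX, SamePiece sX x x' → evK x.1 G = evK x'.1 G := by
      intro x x' hx
      rw [hGx, hGx]
      exact alg1 _ _ _ _ _ _ (hvw x y') (hvw x' y') (cross_of_samePiece hP φ hu x x' y y' hx hy)
    have h1 := const_of_samePiece sX G hG x x'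
    rw [hGx, hGx] at h1
    exact alg2 _ _ _ _ _ _ (hvw x y') (hvw x' y') h1
  -- Step II
  let G' : Γ(Y, ⊤) := (secR hP x).appTop φ * (secR hP x').appTop ψ
  have hGy : ∀ y : Pt sY, evK y.1 G' = evK (pair hP x y) φ * evK (pair hP x' y) ψ := by
    intro y
    change evK y.1 ((secR hP x).appTop φ * (secR hP x').appTop ψ) = _
    rw [map_mul, ← evK_comp, ← evK_comp, comp_secR, comp_secR]
  have hG' : ∀ y y' : Pt sY, SamePiece sY y y' → evK y.1 G' = evK y'.1 G' := by
    intro y y' hy
    rw [hGy, hGy]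
    have h := stepI y y' hy x x'
    -- a = v x y, b = v x' y (so b' = w x' y), c = v x y', d = v x' y'
    refine alg1 _ _ _ _ _ _ (hvw x' y) (hvw x' y') ?_
    rw [h, mul_comm]
  have h2 := const_of_samePiece sY G' hG' y y'
  rw [hGy, hGy] at h2
  have h3 := alg2 _ _ _ _ _ _ (hvw x' y) (hvw x' y') h2
  rw [h3, mul_comm]

end Groth.Agent.Lib.Helper26.UnitProdC
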