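import Mathlib
import Groth.Agent.Lib.Helper26.UnitProdC

set_option autoImplicit false
set_option backward.isDefEq.respectTransparency.types false
set_option maxHeartbeats 1000000
set_option linter.unusedSectionVars false
set_option linter.style.haveILetI false
universe u

open CategoryTheory CategoryTheory.Limits AlgebraicGeometry

namespace Groth.Agent.Lib.Helper26.UnitProdD

open Groth.Agent.Lib.Helper26.UnitProdB Groth.Agent.Lib.Helper26.UnitProdC

theorem main {k : Type u} [Field k] (K : Type u) [Field K] [Algebra k K] [IsAlgClosed K]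
    {X Y P : Scheme.{u}} (fX : X ⟶ Spec (CommRingCat.of k)) (fY : Y ⟶ Spec (CommRingCat.of k))
    (p1 : P ⟶ X) (p2 : P ⟶ Y) (hP : IsPullback p1 p2 fX fY)
    [LocallyOfFiniteType fX] [QuasiCompact fX] [GeometricallyReduced fX] [GeometricallyConnected fX]
    [LocallyOfFiniteType fY] [QuasiCompact fY] [GeometricallyReduced fY] [GeometricallyConnected fY]
    (eX : Spec (CommRingCat.of k) ⟶ X) (heX : eX ≫ fX = 𝟙 _)
    (eY : Spec (CommRingCat.of k) ⟶ Y) (heY : eY ≫ fY = 𝟙 _)
    (iX : X ⟶ P) (hiX1 : iX ≫ p1 = 𝟙 X) (hiX2 : iX ≫ p2 = fX ≫ eY)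
    (iY : Y ⟶ P) (hiY1 : iY ≫ p1 = fY ≫ eX) (hiY2 : iY ≫ p2 = 𝟙 Y)
    (φ ψ : Γ(P, ⊤)) (hφψ : φ * ψ = 1) (hX : iX.appTop φ = 1) (hY : iY.appTop φ = 1) : φ = 1 := by
  let σ : Spec (CommRingCat.of K) ⟶ Spec (CommRingCat.of k) :=
    Spec.map (CommRingCat.ofHom (algebraMap k K))
  -- base changes
  let sX : pullback fX σ ⟶ Spec (CommRingCat.of K) := pullback.snd fX σ
  let πX : pullback fX σ ⟶ X := pullback.fst fX σ
  let sY : pullback fY σ ⟶ Spec (CommRingCat.of K) := pullback.snd fY σ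
  let πY : pullback fY σ ⟶ Y := pullback.fst fY σ
  have cX : πX ≫ fX = sX ≫ σ := pullback.condition
  have cY : πY ≫ fY = sY ≫ σ := pullback.condition
  haveI : LocallyOfFiniteType sX := inferInstanceAs (LocallyOfFiniteType (pullback.snd fX σ))
  haveI : LocallyOfFiniteType sY := inferInstanceAs (LocallyOfFiniteType (pullback.snd fY σ))
  haveI : QuasiCompact sX := inferInstanceAs (QuasiCompact (pullback.snd fX σ))
  haveI : QuasiCompact sY := inferInstanceAs (QuasiCompact (pullback.snd fY σ))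
  haveI : CompactSpace ↥(pullback fX σ) := QuasiCompact.compactSpace_of_compactSpace sX
  haveI : CompactSpace ↥(pullback fY σ) := QuasiCompact.compactSpace_of_compactSpace sY
  haveI : IsReduced (pullback fX σ) :=
    GeometricallyReduced.geometrically_isReduced _ _ _ (IsPullback.of_hasPullback fX σ)
  haveI : IsReduced (pullback fY σ) :=
    GeometricallyReduced.geometrically_isReduced _ _ _ (IsPullback.of_hasPullback fY σ)
  haveI : ConnectedSpace ↥(pullback fX σ) :=
    GeometricallyConnected.geometrically_connectedSpace _ _ _ (IsPullback.of_hasPullback fX σ)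
  haveI : ConnectedSpace ↥(pullback fY σ) :=
    GeometricallyConnected.geometrically_connectedSpace _ _ _ (IsPullback.of_hasPullback fY σ)
  -- product over K
  let q1 : pullback sX sY ⟶ pullback fX σ := pullback.fst sX sY
  let q2 : pullback sX sY ⟶ pullback fY σ := pullback.snd sX sY
  have hP' : IsPullback q1 q2 sX sY := IsPullback.of_hasPullback sX sY
  have hm : (q1 ≫ πX) ≫ fX = (q2 ≫ πY) ≫ fY := by
    rw [Category.assoc, cX, Category.assoc, cY, ← Category.assoc, ← Category.assoc, hP'.w]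
  let m : pullback sX sY ⟶ P := hP.lift (q1 ≫ πX) (q2 ≫ πY) hm
  have hm1 : m ≫ p1 = q1 ≫ πX := hP.lift_fst _ _ _
  have hm2 : m ≫ p2 = q2 ≫ πY := hP.lift_snd _ _ _
  -- points
  let mkX : ∀ (ξ : Spec (CommRingCat.of K) ⟶ X), ξ ≫ fX = σ → Pt sX := fun ξ h =>
    ⟨pullback.lift ξ (𝟙 _) (by rw [h, Category.id_comp]), pullback.lift_snd _ _ _⟩
  let mkY : ∀ (ξ : Spec (CommRingCat.of K) ⟶ Y), ξ ≫ fY = σ → Pt sY := fun ξ h =>
    ⟨pullback.lift ξ (𝟙 _) (by rw [h, Category.id_comp]), pullback.lift_snd _ _ _⟩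
  have hmkX : ∀ ξ h, (mkX ξ h).1 ≫ πX = ξ := fun ξ h => pullback.lift_fst _ _ _
  have hmkY : ∀ ξ h, (mkY ξ h).1 ≫ πY = ξ := fun ξ h => pullback.lift_fst _ _ _
  have heX' : (σ ≫ eX) ≫ fX = σ := by rw [Category.assoc, heX, Category.comp_id]
  have heY' : (σ ≫ eY) ≫ fY = σ := by rw [Category.assoc, heY, Category.comp_id]
  let eX' : Pt sX := mkX (σ ≫ eX) heX'
  let eY' : Pt sY := mkY (σ ≫ eY) heY'
  have hpm1 : ∀ (x : Pt sX) (y : Pt sY), (pair hP' x y ≫ m) ≫ p1 = x.1 ≫ πX := by
    intro x y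
    rw [Category.assoc, hm1, ← Category.assoc, pair_fst]
  have hpm2 : ∀ (x : Pt sX) (y : Pt sY), (pair hP' x y ≫ m) ≫ p2 = y.1 ≫ πY := by
    intro x y
    rw [Category.assoc, hm2, ← Category.assoc, pair_snd]
  have hval : ∀ (x : Pt sX) (y : Pt sY), evK (pair hP' x y) (m.appTop φ) = evK (pair hP' x y ≫ m) φ :=
    fun x y => (evK_comp _ _ _).symm
  -- Claim A
  have claimA : ∀ x : Pt sX, evK (pair hP' x eY') (m.appTop φ) = 1 := by
    intro x
    have h1 : pair hP' x eY' ≫ m = (x.1 ≫ πX) ≫ iX := by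
      apply hP.hom_ext
      · rw [hpm1, Category.assoc, hiX1, Category.comp_id]
      · rw [hpm2, Category.assoc, hiX2, hmkY _ heY']
        rw [← Category.assoc, Category.assoc x.1, cX, ← Category.assoc x.1, x.2, Category.id_comp]
    rw [hval, h1, evK_comp, hX, map_one]
  have claimB : ∀ y : Pt sY, evK (pair hP' eX' y) (m.appTop φ) = 1 := by
    intro y
    have h1 : pair hP' eX' y ≫ m = (y.1 ≫ πY) ≫ iY := by
      apply hP.hom_ext
      · rw [hpm1, Category.assoc, hiY1, hmkX _ heX']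
        rw [← Category.assoc, Category.assoc y.1, cY, ← Category.assoc y.1, y.2, Category.id_comp]
      · rw [hpm2, Category.assoc, hiY2, Category.comp_id]
    rw [hval, h1, evK_comp, hY, map_one]
  have hφψ' : m.appTop φ * m.appTop ψ = 1 := by rw [← map_mul, hφψ, map_one]
  have all1 : ∀ (x : Pt sX) (y : Pt sY), evK (pair hP' x y) (m.appTop φ) = 1 := by
    intro x y
    have h := cross hP' (m.appTop φ) (m.appTop ψ) hφψ' x eX' y eY'
    rw [claimA x, claimB y, claimA eX', mul_one, mul_one] at h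
    exact h
  -- final
  haveI : LocallyOfFiniteType p1 :=
    MorphismProperty.of_isPullback (P := @LocallyOfFiniteType) hP.flip inferInstance
  haveI : LocallyOfFiniteType (p1 ≫ fX) := inferInstance
  haveI : IsLocallyNoetherian Y := LocallyOfFiniteType.isLocallyNoetherian fY
  haveI : Flat fY := inferInstance
  haveI : Flat fX := inferInstance
  haveI : IsReduced Y := GeometricallyReduced.isReduced_of_flat_of_isLocallyNoetherian fY
  haveI : IsReduced (pullback fX fY) := inferInstance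
  haveI : IsReduced P := isReduced_of_isOpenImmersion hP.isoPullback.hom
  rw [← sub_eq_zero]
  apply eq_zero_of_evK (k := k) (K := K) (p1 ≫ fX) (φ - 1)
  intro ξ hξ
  have hξ1 : (ξ ≫ p1) ≫ fX = σ := by rw [Category.assoc]; exact hξ
  have hξ2 : (ξ ≫ p2) ≫ fY = σ := by rw [Category.assoc, ← hP.w]; exact hξ
  have h1 : ξ = pair hP' (mkX _ hξ1) (mkY _ hξ2) ≫ m := by
    apply hP.hom_ext
    · rw [hpm1, hmkX _ hξ1]
    · rw [hpm2, hmkY _ hξ2]
  rw [map_sub, map_one, sub_eq_zero, h1, ← hval]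
  exact all1 _ _

end Groth.Agent.Lib.Helper26.UnitProdD
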