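import Mathlib
import Groth.Agent.Lib.Helper25.PullbackStalk2
import Groth.Agent.Lib.Helper20.UnramifiedOverField
set_option backward.isDefEq.respectTransparency.types false
set_option autoImplicit false

open CategoryTheory CategoryTheory.Limits AlgebraicGeometry

namespace Groth.Agent.Lib.Helper26.UnrGeom
universe u

theorem isReduced_of_unramified_field (K : Type u) [Field K] {P : Scheme.{u}}
    (g : P ⟶ Spec (CommRingCat.of K)) [FormallyUnramified g] [LocallyOfFiniteType g] :
    IsReduced P := by
  have : ∀ i, IsReduced (P.affineOpenCover.openCover.X i) := by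
    intro i
    change IsReduced (Spec (P.affineOpenCover.X i))
    obtain ⟨ψ, hψ⟩ : ∃ ψ : CommRingCat.of K ⟶ P.affineOpenCover.X i,
        Spec.map ψ = P.affineOpenCover.f i ≫ g := ⟨_, Spec.map_preimage _⟩
    have h1 : FormallyUnramified (Spec.map ψ) := by
      rw [hψ]
      exact MorphismProperty.comp_mem _ _ _ inferInstance ‹_›
    have h2 : LocallyOfFiniteType (Spec.map ψ) := by rw [hψ]; infer_instance
    rw [HasRingHomProperty.Spec_iff (P := @FormallyUnramified)] at h1
    rw [HasRingHomProperty.Spec_iff (P := @LocallyOfFiniteType)] at h2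
    algebraize [ψ.hom]
    have : Algebra.EssFiniteType K (P.affineOpenCover.X i) := inferInstance
    have : _root_.IsReduced (P.affineOpenCover.X i) :=
      Algebra.FormallyUnramified.isReduced_of_field K _
    infer_instance
  exact IsReduced.of_openCover _ P.affineOpenCover.openCover

theorem forward {X S : Scheme.{u}} (f : X ⟶ S) [LocallyOfFiniteType f] [FormallyUnramified f]
    (K : Type u) [Field K] (s : Spec (CommRingCat.of K) ⟶ S) :
    IsReduced (pullback f s) ∧ DiscreteTopology ↥(pullback f s) :=
  have : FormallyUnramified (pullback.snd f s) :=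
    MorphismProperty.pullback_snd (P := @FormallyUnramified) _ _ ‹_›
  ⟨isReduced_of_unramified_field K (pullback.snd f s),
    Groth.Agent.Lib.Helper20.discreteTopology_of_unramified K (pullback.snd f s)⟩

theorem bijective_of_reduced_point {K B : Type u} [Field K] [IsAlgClosed K] [CommRing B]
    (ψ : K →+* B) (hψ : ψ.FiniteType) [_root_.IsReduced B] [Subsingleton (PrimeSpectrum B)]
    [Nontrivial B] : Function.Bijective ψ := by
  obtain ⟨m, hm⟩ := Ideal.exists_maximal B
  have hmbot : m = ⊥ := by
    rw [eq_bot_iff]
    intro x hx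
    have hnil : x ∈ nilradical B := by
      rw [nilradical_eq_sInf, Ideal.mem_sInf]
      intro q hq
      have hq' : q.IsPrime := hq
      have : (⟨q, hq'⟩ : PrimeSpectrum B) = ⟨m, hm.isPrime⟩ := Subsingleton.elim _ _
      have : q = m := congrArg PrimeSpectrum.asIdeal this
      rw [this]; exact hx
    have : IsNilpotent x := hnil
    rw [Ideal.mem_bot]
    exact this.eq_zero
  have hfield : IsField B := by
    rw [Ring.isField_iff_maximal_bot, ← hmbot]
    exact hm
  letI := hfield.toField
  have hfin : ψ.Finite := RingHom.finite_iff_finiteType_of_isJacobsonRing.2 hψ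
  exact IsAlgClosed.ringHom_bijective_of_isIntegral ψ hfin.to_isIntegral

open Groth.Agent.Lib.Helper20 in
theorem formallyUnramified_of_reduced_discrete (K : Type u) [Field K] [IsAlgClosed K]
    {P : Scheme.{u}} (g : P ⟶ Spec (CommRingCat.of K)) [LocallyOfFiniteType g] [IsReduced P]
    [DiscreteTopology P] : FormallyUnramified g := by
  refine HasRingHomProperty.of_iSup_eq_top (P := @FormallyUnramified)
    (fun u : P => (⟨pointOpen u, isAffineOpen_pointOpen u⟩ : P.affineOpens)) ?_ ?_
  · rw [eq_top_iff]
    intro x _
    exact TopologicalSpace.Opens.mem_iSup.2 ⟨x, rfl⟩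
  · intro u
    have hU := isAffineOpen_pointOpen u
    have hft : (g.appLE ⊤ (pointOpen u) le_top).hom.FiniteType :=
      g.finiteType_appLE (isAffineOpen_top _) hU le_top
    have hft2 : ((Scheme.ΓSpecIso (CommRingCat.of K)).inv ≫
        g.appLE ⊤ (pointOpen u) le_top).hom.FiniteType := by
      rw [CommRingCat.hom_comp]
      exact hft.comp (RingHom.FiniteType.of_surjective _
        (ConcreteCategory.bijective_of_isIso (Scheme.ΓSpecIso (CommRingCat.of K)).inv).2)
    let e : (pointOpen u) ≃ₜ PrimeSpectrum Γ(P, pointOpen u) := hU.isoSpec.hom.homeomorph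
    have hsub : Subsingleton (PrimeSpectrum Γ(P, pointOpen u)) := by
      have : Subsingleton (pointOpen u) := (Set.subsingleton_singleton (a := u)).coe_sort
      exact e.symm.injective.subsingleton
    have hne : Nonempty (PrimeSpectrum Γ(P, pointOpen u)) := ⟨e ⟨u, rfl⟩⟩
    have hnt : Nontrivial Γ(P, pointOpen u) := PrimeSpectrum.nonempty_iff_nontrivial.mp hne
    have hbij := bijective_of_reduced_point (K := K) (B := Γ(P, pointOpen u)) _ hft2
    apply RingHom.FormallyUnramified.of_surjective
    intro b
    obtain ⟨c, hc⟩ := hbij.2 b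
    exact ⟨(Scheme.ΓSpecIso (CommRingCat.of K)).inv.hom c, hc⟩

theorem backward {X S : Scheme.{u}} (f : X ⟶ S) [LocallyOfFiniteType f]
    (H : ∀ (K : Type u) [Field K] [IsAlgClosed K] (s : Spec (CommRingCat.of K) ⟶ S),
        IsReduced (pullback f s) ∧ DiscreteTopology ↥(pullback f s)) : FormallyUnramified f := by
  apply HasRingHomProperty.of_stalkMap RingHom.FormallyUnramified.ofLocalizationPrime
  intro x
  obtain ⟨a, ha⟩ : ∃ a : Spec (CommRingCat.of (AlgebraicClosure (X.residueField x))) ⟶ X,
      a (IsLocalRing.closedPoint _) = x := by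
    refine ⟨Spec.map (CommRingCat.ofHom (algebraMap (X.residueField x)
      (AlgebraicClosure (X.residueField x)))) ≫ X.fromSpecResidueField x, ?_⟩
    rw [Scheme.Hom.comp_apply]
    exact Scheme.fromSpecResidueField_apply _ _
  obtain ⟨hred, hdisc⟩ := H (AlgebraicClosure (X.residueField x)) (a ≫ f)
  have hsnd : FormallyUnramified (pullback.snd f (a ≫ f)) :=
    formallyUnramified_of_reduced_discrete _ _
  have hu : pullback.fst f (a ≫ f) ((pullback.lift a (𝟙 _) (by simp) :
      Spec (CommRingCat.of (AlgebraicClosure (X.residueField x))) ⟶ pullback f (a ≫ f))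
      (IsLocalRing.closedPoint _)) = x := by
    rw [← Scheme.Hom.comp_apply, pullback.lift_fst, ha]
  have h1 := (Groth.Agent.Lib.Helper25.PullbackStalk2.formallyUnramified_stalkMap_iff_of_isPullback
    (IsPullback.of_hasPullback f (a ≫ f)) _).1 (FormallyUnramified.stalkMap (pullback.snd f (a ≫ f))
      ((pullback.lift a (𝟙 _) (by simp) :
      Spec (CommRingCat.of (AlgebraicClosure (X.residueField x))) ⟶ pullback f (a ≫ f))
      (IsLocalRing.closedPoint _)))
  exact hu ▸ h1

theorem main_14352 {X S : Scheme.{u}} (f : X ⟶ S) [LocallyOfFinitePresentation f] :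
    FormallyUnramified f ↔
      ∀ (K : Type u) [Field K] [IsAlgClosed K] (s : Spec (CommRingCat.of K) ⟶ S),
        IsReduced (pullback f s) ∧ DiscreteTopology ↥(pullback f s) :=
  ⟨fun h K _ _ s => forward f K s, backward f⟩

end Groth.Agent.Lib.Helper26.UnrGeom
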