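import Mathlib

set_option autoImplicit false

namespace Groth.Agent.Lib.Helper26.ValDimA

open Polynomial

variable {K : Type*} [Field K]

theorem val_one_mono {B B' : ValuationSubring K} (h : B ≤ B') {u : K}
    (hu : B.valuation u = 1) : B'.valuation u = 1 := by
  have hu0 : u ≠ 0 := by
    rintro rfl
    simp at hu
  have h1 : B'.valuation u ≤ 1 :=
    (B'.valuation_le_one_iff u).2 (h ((B.valuation_le_one_iff u).1 hu.le))
  have h2 : B'.valuation u⁻¹ ≤ 1 := by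
    refine (B'.valuation_le_one_iff _).2 (h ((B.valuation_le_one_iff _).1 ?_))
    rw [map_inv₀, hu, inv_one]
  rw [map_inv₀] at h2
  have h3 : 0 < B'.valuation u := by
    rw [pos_iff_ne_zero, Valuation.ne_zero_iff]
    exact hu0
  exact le_antisymm h1 ((inv_le_one₀ h3).1 h2)

theorem val_lt_one_anti {B B' : ValuationSubring K} (h : B ≤ B') {t : K}
    (ht : B'.valuation t < 1) : B.valuation t < 1 := by
  by_contra hcon
  rw [not_lt] at hcon
  have ht0 : t ≠ 0 := by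
    rintro rfl
    simp at hcon
  have h3 : 0 < B.valuation t := by
    rw [pos_iff_ne_zero, Valuation.ne_zero_iff]
    exact ht0
  have h1 : B.valuation t⁻¹ ≤ 1 := by
    rw [map_inv₀]
    exact (inv_le_one₀ h3).2 hcon
  have h2 : B'.valuation t⁻¹ ≤ 1 :=
    (B'.valuation_le_one_iff _).2 (h ((B.valuation_le_one_iff _).1 h1))
  rw [map_inv₀] at h2
  have h4 : 0 < B'.valuation t := by
    rw [pos_iff_ne_zero, Valuation.ne_zero_iff]
    exact ht0
  exact absurd ((inv_le_one₀ h4).1 h2) (not_le.2 ht)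

theorem tricho (B' : ValuationSubring K) (ℓ : K) (hℓ : ℓ = 1 ∨ B'.valuation ℓ < 1) (δ : ℤ) :
    ℓ ^ δ = 1 ∨ B'.valuation (ℓ ^ δ) < 1 ∨ B'.valuation (ℓ ^ (-δ)) < 1 := by
  rcases hℓ with rfl | hℓ
  · left
    exact one_zpow δ
  · rcases lt_trichotomy δ 0 with h | h | h
    · right; right
      obtain ⟨m, hm⟩ : ∃ m : ℕ, -δ = (m + 1 : ℕ) := ⟨(-δ - 1).toNat, by omega⟩
      rw [hm, zpow_natCast, map_pow]
      exact pow_lt_one₀ zero_le hℓ (Nat.succ_ne_zero m)
    · left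
      rw [h, zpow_zero]
    · right; left
      obtain ⟨m, hm⟩ : ∃ m : ℕ, δ = (m + 1 : ℕ) := ⟨(δ - 1).toNat, by omega⟩
      rw [hm, zpow_natCast, map_pow]
      exact pow_lt_one₀ zero_le hℓ (Nat.succ_ne_zero m)

theorem step {R : Type*} [CommRing R] [Algebra R K]
    (B B' : ValuationSubring K) (hBB' : B ≤ B') (ℓ x : K) (hℓ0 : ℓ ≠ 0)
    (hℓ : ℓ = 1 ∨ B'.valuation ℓ < 1)
    (hxB : B.valuation x < 1) (hxB' : B'.valuation x = 1)
    (hR : ∀ r : R, r ≠ 0 → ∃ e : ℤ, B.valuation (algebraMap R K r * ℓ ^ (-e)) = 1)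
    (P : R[X]) : P ≠ 0 →
    ∃ (e : ℤ) (i : ℕ) (u t : K), B.valuation u = 1 ∧ B'.valuation t < 1 ∧
      aeval x P = ℓ ^ e * x ^ i * (u + t) ∧ (P.coeff 0 = 0 → 1 ≤ i) := by
  have hx0 : x ≠ 0 := by
    rintro rfl
    simp at hxB'
  induction P using Polynomial.recOnHorner with
  | M0 => intro h; exact absurd rfl h
  | MC p a hcoeff ha IH =>
    intro _
    obtain ⟨e₀, he₀⟩ := hR a ha
    set u₀ : K := algebraMap R K a * ℓ ^ (-e₀) with hu₀
    have ha_eq : algebraMap R K a = ℓ ^ e₀ * u₀ := by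
      rw [hu₀, zpow_neg]
      field_simp
    have hside : (p + C a).coeff 0 = 0 → 1 ≤ 0 := by
      intro h
      rw [coeff_add, hcoeff, coeff_C_zero, zero_add] at h
      exact absurd h ha
    by_cases hp : p = 0
    · refine ⟨e₀, 0, u₀, 0, he₀, by simp, ?_, hside⟩
      rw [hp, zero_add, aeval_C, ha_eq]
      ring
    · obtain ⟨e₁, i, u₁, t₁, hu₁, ht₁, heq, hi⟩ := IH hp
      have hi' : 1 ≤ i := hi hcoeff
      have hsum : aeval x (p + C a) = ℓ ^ e₁ * x ^ i * (u₁ + t₁) + ℓ ^ e₀ * u₀ := by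
        rw [map_add, aeval_C, heq, ha_eq]
      have hu₁' : B'.valuation u₁ = 1 := val_one_mono hBB' hu₁
      have hu₀' : B'.valuation u₀ = 1 := val_one_mono hBB' he₀
      have hxi : B.valuation (x ^ i) < 1 := by
        rw [map_pow]
        exact pow_lt_one₀ zero_le hxB (by omega)
      have hxi' : B'.valuation (x ^ i) = 1 := by
        rw [map_pow, hxB', one_pow]
      have hsum1 : B'.valuation (u₁ + t₁) = 1 := by
        rw [Valuation.map_add_eq_of_lt_left _ (by rw [hu₁']; exact ht₁), hu₁']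
      have hδ : ℓ ^ e₁ = ℓ ^ e₀ * ℓ ^ (e₁ - e₀) := by
        rw [← zpow_add₀ hℓ0]
        congr 1
        ring
      rcases tricho B' ℓ hℓ (e₁ - e₀) with h | h | h
      · refine ⟨e₀, 0, x ^ i * u₁ + u₀, x ^ i * t₁, ?_, ?_, ?_, hside⟩
        · have : B.valuation (x ^ i * u₁) < B.valuation u₀ := by
            rw [map_mul, hu₁, mul_one, he₀]
            exact hxi
          rw [Valuation.map_add_eq_of_lt_right _ this, he₀]
        · rw [map_mul, hxi', one_mul]
          exact ht₁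
        · rw [hsum, hδ, h]
          ring
      · refine ⟨e₀, 0, u₀, ℓ ^ (e₁ - e₀) * x ^ i * (u₁ + t₁), he₀, ?_, ?_, hside⟩
        · rw [map_mul, map_mul, hxi', hsum1, mul_one, mul_one]
          exact h
        · rw [hsum, hδ]
          ring
      · refine ⟨e₁, i, u₁, t₁ + ℓ ^ (-(e₁ - e₀)) * u₀ * (x ^ i)⁻¹, hu₁, ?_, ?_, fun _ => hi'⟩
        · refine Valuation.map_add_lt _ ht₁ ?_
          rw [map_mul, map_mul, map_inv₀, hxi', hu₀', inv_one, mul_one, mul_one]
          exact h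
        · rw [hsum]
          have h1 : ℓ ^ e₀ = ℓ ^ e₁ * ℓ ^ (-(e₁ - e₀)) := by
            rw [← zpow_add₀ hℓ0]
            congr 1
            ring
          have hxi0 : x ^ i ≠ 0 := pow_ne_zero _ hx0
          rw [h1]
          field_simp
          ring
  | MX p hp IH =>
    intro _
    obtain ⟨e₁, i, u₁, t₁, hu₁, ht₁, heq, hi⟩ := IH hp
    refine ⟨e₁, i + 1, u₁, t₁, hu₁, ht₁, ?_, fun _ => by omega⟩
    rw [map_mul, aeval_X, heq]
    ring

theorem step_ne_zero {R : Type*} [CommRing R] [Algebra R K]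
    (B B' : ValuationSubring K) (hBB' : B ≤ B') (ℓ x : K) (hℓ0 : ℓ ≠ 0)
    (hℓ : ℓ = 1 ∨ B'.valuation ℓ < 1)
    (hxB : B.valuation x < 1) (hxB' : B'.valuation x = 1)
    (hR : ∀ r : R, r ≠ 0 → ∃ e : ℤ, B.valuation (algebraMap R K r * ℓ ^ (-e)) = 1)
    (P : R[X]) (hP : P ≠ 0) :
    ∃ e : ℤ, B'.valuation (aeval x P * ℓ ^ (-e)) = 1 := by
  obtain ⟨e, i, u, t, hu, ht, heq, -⟩ := step B B' hBB' ℓ x hℓ0 hℓ hxB hxB' hR P hP
  refine ⟨e, ?_⟩
  have hu' : B'.valuation u = 1 := val_one_mono hBB' hu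
  have hsum1 : B'.valuation (u + t) = 1 := by
    rw [Valuation.map_add_eq_of_lt_left _ (by rw [hu']; exact ht), hu']
  have : aeval x P * ℓ ^ (-e) = x ^ i * (u + t) := by
    rw [heq, zpow_neg]
    have : ℓ ^ e ≠ 0 := zpow_ne_zero _ hℓ0
    field_simp
  rw [this, map_mul, map_pow, hxB', one_pow, one_mul, hsum1]

end Groth.Agent.Lib.Helper26.ValDimA
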