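import Mathlib
import Groth.Agent.Lib.Helper26.ValDimA

set_option autoImplicit false

namespace Groth.Agent.Lib.Helper26.ValDimB

open Polynomial Groth.Agent.Lib.Helper26.ValDimA

variable {K : Type*} [Field K]

/-- every nonzero element of `S` is `ℓ^e` times a `B`-unit. -/
def Inv (S : Set K) (B : ValuationSubring K) (ℓ : K) : Prop :=
  ∀ s ∈ S, s ≠ 0 → ∃ e : ℤ, B.valuation (s * ℓ ^ (-e)) = 1

theorem exists_sep {B B' : ValuationSubring K} (h : B < B') :
    ∃ x : K, B.valuation x < 1 ∧ B'.valuation x = 1 := by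
  obtain ⟨y, hy', hy⟩ := SetLike.exists_of_lt h
  have hy0 : y ≠ 0 := by
    rintro rfl
    exact hy (zero_mem _)
  have hyinv : y⁻¹ ∈ B := (B.mem_or_inv_mem y).resolve_left hy
  have h1 : ¬ B.valuation y ≤ 1 := fun hh => hy ((B.valuation_le_one_iff y).1 hh)
  rw [not_le] at h1
  have hpos : 0 < B.valuation y := lt_trans zero_lt_one h1
  refine ⟨y⁻¹, ?_, ?_⟩
  · rw [map_inv₀]
    exact (inv_lt_one₀ hpos).2 h1
  · have h2 : B'.valuation y ≤ 1 := (B'.valuation_le_one_iff y).2 hy'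
    have h3 : B'.valuation y⁻¹ ≤ 1 := (B'.valuation_le_one_iff _).2 (h.le hyinv)
    have hpos' : 0 < B'.valuation y := by
      rw [pos_iff_ne_zero, Valuation.ne_zero_iff]
      exact hy0
    rw [map_inv₀] at h3 ⊢
    have : B'.valuation y = 1 := le_antisymm h2 ((inv_le_one₀ hpos').1 h3)
    rw [this, inv_one]

theorem claim (k : Type*) [Field k] [Algebra k K] (ℓ : K) (hℓ0 : ℓ ≠ 0)
    (f : ℕ → ValuationSubring K) :
    ∀ (n : ℕ), (∀ i < n, f i < f (i + 1)) → (ℓ = 1 ∨ (f n).valuation ℓ < 1) →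
    ∀ (t₀ : Finset K), AlgebraicIndepOn k id (↑t₀ : Set K) →
      Inv (↑(Algebra.adjoin k (↑t₀ : Set K))) (f 0) ℓ →
      ∃ t : Finset K, t.card = t₀.card + n ∧ AlgebraicIndepOn k id (↑t : Set K) ∧
        Inv (↑(Algebra.adjoin k (↑t : Set K))) (f n) ℓ := by
  classical
  intro n
  induction n with
  | zero =>
    intro _ _ t₀ h1 h2
    exact ⟨t₀, by simp, h1, h2⟩
  | succ n IH =>
    intro hf hℓ t₀ h1 h2
    have hlt : f n < f (n + 1) := hf n (Nat.lt_succ_self n)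
    have hℓ' : ℓ = 1 ∨ (f n).valuation ℓ < 1 := by
      rcases hℓ with h | h
      · exact Or.inl h
      · exact Or.inr (val_lt_one_anti hlt.le h)
    obtain ⟨t, hcard, hind, hinv⟩ := IH (fun i hi => hf i (Nat.lt_succ_of_lt hi)) hℓ' t₀ h1 h2
    obtain ⟨x, hxB, hxB'⟩ := exists_sep hlt
    have hR : ∀ r : ↥(Algebra.adjoin k (↑t : Set K)), r ≠ 0 →
        ∃ e : ℤ, (f n).valuation (algebraMap ↥(Algebra.adjoin k (↑t : Set K)) K r * ℓ ^ (-e)) = 1 := by
      intro r hr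
      exact hinv r.1 r.2 (fun h => hr (Subtype.ext h))
    have htr : Transcendental ↥(Algebra.adjoin k (↑t : Set K)) x := by
      rw [transcendental_iff]
      intro P hP
      by_contra hP0
      obtain ⟨e, he⟩ := step_ne_zero (f n) (f (n + 1)) hlt.le ℓ x hℓ0 hℓ hxB hxB' hR P hP0
      rw [hP, zero_mul, map_zero] at he
      exact zero_ne_one he
    have hxt : x ∉ t := by
      intro hx
      apply htr
      exact isAlgebraic_algebraMap
        (⟨x, Algebra.subset_adjoin (Finset.mem_coe.2 hx)⟩ : Algebra.adjoin k (↑t : Set K))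
    refine ⟨insert x t, ?_, ?_, ?_⟩
    · rw [Finset.card_insert_of_notMem hxt, hcard]
      ring
    · rw [Finset.coe_insert]
      refine AlgebraicIndepOn.insert (x := id) hind ?_
      rw [Set.image_id]
      exact htr
    · intro y hy hy0
      rw [Finset.coe_insert, Set.insert_eq, Set.union_comm, SetLike.mem_coe,
        Algebra.adjoin_union_eq_adjoin_adjoin, Subalgebra.mem_restrictScalars,
        Algebra.adjoin_singleton_eq_range_aeval, AlgHom.mem_range] at hy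
      obtain ⟨P, rfl⟩ := hy
      have hP0 : P ≠ 0 := by
        rintro rfl
        exact hy0 (map_zero _)
      exact step_ne_zero (f n) (f (n + 1)) hlt.le ℓ x hℓ0 hℓ hxB hxB' hR P hP0

theorem mono_of_steps (f : ℕ → ValuationSubring K) (n : ℕ) (hf : ∀ i < n, f i < f (i + 1)) :
    ∀ i j, i ≤ j → j ≤ n → f i ≤ f j := by
  intro i j hij
  induction j, hij using Nat.le_induction with
  | base => intro _; exact le_rfl
  | succ j hij IH =>
    intro hj
    exact (IH (by omega)).trans (hf j (by omega)).le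

theorem nat_decomp (B : ValuationSubring K) (ℓ₀ : ℕ) (hℓ₀ : (ℓ₀ : K) ≠ 0)
    (hlt : B.valuation (ℓ₀ : K) < 1)
    (hmin : ∀ m < ℓ₀, (m : K) ≠ 0 → B.valuation (m : K) = 1) :
    ∀ m : ℕ, (m : K) ≠ 0 → ∃ e : ℕ, B.valuation ((m : K) * (ℓ₀ : K) ^ (-(e : ℤ))) = 1 := by
  have h0 : ℓ₀ ≠ 0 := by
    rintro rfl
    simp at hℓ₀
  have h1 : ℓ₀ ≠ 1 := by
    rintro rfl
    simp at hlt
  have hnat : ∀ q : ℕ, B.valuation (q : K) ≤ 1 := fun q =>
    (B.valuation_le_one_iff _).2 (natCast_mem B q)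
  intro m
  induction m using Nat.strong_induction_on with
  | _ m IH =>
    intro hm
    have hm0 : m ≠ 0 := by
      rintro rfl
      simp at hm
    have hdm : (m : K) = (ℓ₀ : K) * ((m / ℓ₀ : ℕ) : K) + ((m % ℓ₀ : ℕ) : K) := by
      rw [← Nat.cast_mul, ← Nat.cast_add, Nat.div_add_mod]
    by_cases hr : ((m % ℓ₀ : ℕ) : K) = 0
    · rw [hr, add_zero] at hdm
      have hq : ((m / ℓ₀ : ℕ) : K) ≠ 0 := by
        intro h
        rw [h, mul_zero] at hdm
        exact hm hdm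
      have hlt' : m / ℓ₀ < m := Nat.div_lt_self (Nat.pos_of_ne_zero hm0) (by omega)
      obtain ⟨e, he⟩ := IH _ hlt' hq
      refine ⟨e + 1, ?_⟩
      have : (m : K) * (ℓ₀ : K) ^ (-((e + 1 : ℕ) : ℤ)) =
          ((m / ℓ₀ : ℕ) : K) * (ℓ₀ : K) ^ (-(e : ℤ)) := by
        rw [hdm]
        have : (-((e + 1 : ℕ) : ℤ)) = -(e : ℤ) + (-1) := by push_cast; ring
        rw [this, zpow_add₀ hℓ₀, zpow_neg_one]
        field_simp
      rw [this]
      exact he
    · refine ⟨0, ?_⟩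
      have hrv : B.valuation ((m % ℓ₀ : ℕ) : K) = 1 :=
        hmin _ (Nat.mod_lt _ (Nat.pos_of_ne_zero h0)) hr
      have hlt2 : B.valuation ((ℓ₀ : K) * ((m / ℓ₀ : ℕ) : K)) < B.valuation ((m % ℓ₀ : ℕ) : K) := by
        rw [hrv, map_mul]
        calc B.valuation (ℓ₀ : K) * B.valuation ((m / ℓ₀ : ℕ) : K)
            ≤ B.valuation (ℓ₀ : K) * 1 := by gcongr; exact hnat _
          _ < 1 := by rw [mul_one]; exact hlt
      rw [Nat.cast_zero, neg_zero, zpow_zero, mul_one, hdm,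
        Valuation.map_add_eq_of_lt_right _ hlt2, hrv]

theorem inv_bot_of_nat (k : Type*) [Field k] [Algebra k K]
    (hk : ∀ a : k, ∃ m n : ℤ, (n : K) ≠ 0 ∧ algebraMap k K a = (m : K) / (n : K))
    (B : ValuationSubring K) (ℓ : K) (hℓ0 : ℓ ≠ 0)
    (H : ∀ m : ℕ, (m : K) ≠ 0 → ∃ e : ℕ, B.valuation ((m : K) * ℓ ^ (-(e : ℤ))) = 1) :
    Inv (↑(Algebra.adjoin k (↑(∅ : Finset K) : Set K))) B ℓ := by
  have HZ : ∀ z : ℤ, (z : K) ≠ 0 → ∃ e : ℕ, B.valuation ((z : K) * ℓ ^ (-(e : ℤ))) = 1 := by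
    intro z hz
    rcases Int.natAbs_eq z with h | h
    · have hc : (z : K) = (z.natAbs : K) := by
        conv_lhs => rw [h]
        simp
      rw [hc] at hz ⊢
      exact H _ hz
    · have hc : (z : K) = -(z.natAbs : K) := by
        conv_lhs => rw [h]
        simp
      rw [hc] at hz ⊢
      obtain ⟨e, he⟩ := H z.natAbs (by simpa using hz)
      refine ⟨e, ?_⟩
      rw [neg_mul, Valuation.map_neg]
      exact he
  intro s hs hs0
  rw [Finset.coe_empty, Algebra.adjoin_empty, SetLike.mem_coe, Algebra.mem_bot] at hs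
  obtain ⟨a, rfl⟩ := hs
  obtain ⟨m, n, hn, hmn⟩ := hk a
  have hm : (m : K) ≠ 0 := by
    intro h
    rw [hmn, h, zero_div] at hs0
    exact hs0 rfl
  obtain ⟨e₁, he₁⟩ := HZ m hm
  obtain ⟨e₂, he₂⟩ := HZ n hn
  refine ⟨(e₁ : ℤ) - e₂, ?_⟩
  have : algebraMap k K a * ℓ ^ (-((e₁ : ℤ) - e₂)) =
      ((m : K) * ℓ ^ (-(e₁ : ℤ))) / ((n : K) * ℓ ^ (-(e₂ : ℤ))) := by
    rw [hmn, neg_sub, zpow_sub₀ hℓ0, zpow_neg, zpow_neg]
    have h1 : ℓ ^ (e₁ : ℤ) ≠ 0 := zpow_ne_zero _ hℓ0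
    have h2 : ℓ ^ (e₂ : ℤ) ≠ 0 := zpow_ne_zero _ hℓ0
    field_simp
  rw [this, map_div₀, he₁, he₂, div_one]

theorem chain_bound (k : Type*) [Field k] [Algebra k K]
    (hk : ∀ a : k, ∃ m n : ℤ, (n : K) ≠ 0 ∧ algebraMap k K a = (m : K) / (n : K))
    (n : ℕ) (f : ℕ → ValuationSubring K) (hf : ∀ i < n, f i < f (i + 1)) :
    ∃ t : Finset K, n ≤ t.card + 1 ∧ AlgebraicIndepOn k id (↑t : Set K) := by
  classical
  have hempty : AlgebraicIndepOn k id (↑(∅ : Finset K) : Set K) := by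
    rw [Finset.coe_empty]
    exact algebraicIndependent_empty_type
  by_cases hA : ∀ m : ℕ, (m : K) ≠ 0 → (f 0).valuation (m : K) = 1
  · have hinv := inv_bot_of_nat k hk (f 0) 1 one_ne_zero (fun m hm => ⟨0, by simpa using hA m hm⟩)
    obtain ⟨t, hcard, hind, -⟩ := claim k 1 one_ne_zero f n hf (Or.inl rfl) ∅ hempty hinv
    exact ⟨t, by rw [hcard]; simp, hind⟩
  · push Not at hA
    have hex : ∃ m : ℕ, (m : K) ≠ 0 ∧ (f 0).valuation (m : K) ≠ 1 := hA
    set ℓ₀ := Nat.find hex with hℓ₀def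
    obtain ⟨hℓ₀, hℓ₀v⟩ := Nat.find_spec hex
    have hmin : ∀ m < ℓ₀, (m : K) ≠ 0 → (f 0).valuation (m : K) = 1 := by
      intro m hm hm0
      by_contra hcon
      exact Nat.find_min hex hm ⟨hm0, hcon⟩
    have hlt : (f 0).valuation (ℓ₀ : K) < 1 :=
      lt_of_le_of_ne ((ValuationSubring.valuation_le_one_iff _ _).2 (natCast_mem _ ℓ₀)) hℓ₀v
    have hinv := inv_bot_of_nat k hk (f 0) (ℓ₀ : K) hℓ₀ (nat_decomp (f 0) ℓ₀ hℓ₀ hlt hmin)
    have hmono := mono_of_steps f n hf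
    set j₁ := Nat.findGreatest (fun j => (f j).valuation (ℓ₀ : K) < 1) n with hj₁def
    have hj₁le : j₁ ≤ n := Nat.findGreatest_le n
    have hj₁ : (f j₁).valuation (ℓ₀ : K) < 1 :=
      Nat.findGreatest_spec (P := fun j => (f j).valuation (ℓ₀ : K) < 1) (Nat.zero_le n) hlt
    obtain ⟨t₁, hcard₁, hind₁, hinv₁⟩ := claim k (ℓ₀ : K) hℓ₀ f j₁
      (fun i hi => hf i (by omega)) (Or.inr hj₁) ∅ hempty hinv
    by_cases hjn : j₁ = n
    · exact ⟨t₁, by rw [hcard₁]; simp [hjn], hind₁⟩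
    · have hj₁n : j₁ < n := lt_of_le_of_ne hj₁le hjn
      have hnot : ¬ (f (j₁ + 1)).valuation (ℓ₀ : K) < 1 :=
        Nat.findGreatest_is_greatest (P := fun j => (f j).valuation (ℓ₀ : K) < 1)
          (Nat.lt_succ_self j₁) hj₁n
      have hone : (f (j₁ + 1)).valuation (ℓ₀ : K) = 1 := by
        rw [not_lt] at hnot
        exact le_antisymm
          ((ValuationSubring.valuation_le_one_iff _ _).2 (natCast_mem _ ℓ₀)) hnot
      set f' : ℕ → ValuationSubring K := fun i => f (i + (j₁ + 1)) with hf'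
      have hinv' : Inv (↑(Algebra.adjoin k (↑t₁ : Set K))) (f' 0) 1 := by
        intro s hs hs0
        obtain ⟨e, he⟩ := hinv₁ s hs hs0
        refine ⟨0, ?_⟩
        have h1 : (f (j₁ + 1)).valuation (s * (ℓ₀ : K) ^ (-e)) = 1 :=
          val_one_mono (hmono j₁ (j₁ + 1) (Nat.le_succ _) hj₁n) he
        rw [map_mul, map_zpow₀, hone, one_zpow, mul_one] at h1
        have hf0 : f' 0 = f (j₁ + 1) := by
          show f (0 + (j₁ + 1)) = f (j₁ + 1)
          rw [zero_add]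
        rw [hf0, neg_zero, zpow_zero, mul_one]
        exact h1
      obtain ⟨t, hcard, hind, -⟩ := claim k 1 one_ne_zero f' (n - (j₁ + 1))
        (fun i hi => by
          show f (i + (j₁ + 1)) < f (i + 1 + (j₁ + 1))
          have : i + 1 + (j₁ + 1) = i + (j₁ + 1) + 1 := by ring
          rw [this]
          exact hf _ (by omega)) (Or.inl rfl) t₁ hind₁ hinv'
      refine ⟨t, ?_, hind⟩
      rw [hcard, hcard₁]
      simp only [Finset.card_empty]
      omega

end Groth.Agent.Lib.Helper26.ValDimB
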