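import Mathlib
import Groth.Agent.Lib.Helper26.ValDimB

set_option autoImplicit false

namespace Groth.Agent.Lib.Helper26.ValDimC

open Polynomial Groth.Agent.Lib.Helper26.ValDimA Groth.Agent.Lib.Helper26.ValDimB

universe u v

/-- `k` maps into the prime field of `K`. -/
def PrimeLike (k : Type*) (K : Type*) [Field k] [Field K] [Algebra k K] : Prop :=
  ∀ a : k, ∃ m n : ℤ, (n : K) ≠ 0 ∧ algebraMap k K a = (m : K) / (n : K)

theorem ofPrime_strictAnti {K : Type*} [Field K] (A : ValuationSubring K)
    {P Q : PrimeSpectrum A} (h : P < Q) : A.ofPrime Q.asIdeal < A.ofPrime P.asIdeal := by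
  have h1 := (A.primeSpectrumOrderEquiv).lt_iff_lt (x := OrderDual.toDual Q)
    (y := OrderDual.toDual P)
  have h2 : A.primeSpectrumOrderEquiv (OrderDual.toDual Q) <
      A.primeSpectrumOrderEquiv (OrderDual.toDual P) := h1.2 (OrderDual.toDual_lt_toDual.2 h)
  exact h2

theorem core1 (k : Type*) {K : Type v} [Field k] [Field K] [Algebra k K] (hk : PrimeLike k K)
    (A : ValuationSubring K) (d : ℕ) (hd : Algebra.trdeg k K ≤ (d : Cardinal.{v})) :
    ringKrullDim A ≤ ((d + 1 : ℕ) : WithBot ℕ∞) := by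
  rw [ringKrullDim, Order.krullDim]
  refine iSup_le fun p => ?_
  set n := p.length with hn
  let g : PrimeSpectrum A → ValuationSubring K := fun P => A.ofPrime P.asIdeal
  let f : ℕ → ValuationSubring K := fun i =>
    if h : i ≤ n then g (p ⟨n - i, by omega⟩) else ⊤
  have hf : ∀ i < n, f i < f (i + 1) := by
    intro i hi
    have h1 : f i = g (p ⟨n - i, by omega⟩) := dif_pos (by omega)
    have h2 : f (i + 1) = g (p ⟨n - (i + 1), by omega⟩) := dif_pos (by omega)
    rw [h1, h2]
    apply ofPrime_strictAnti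
    apply p.strictMono
    rw [Fin.lt_def]
    show n - (i + 1) < n - i
    omega
  obtain ⟨t, ht, hind⟩ := chain_bound k hk n f hf
  have hc := hind.cardinalMk_le_trdeg
  simp only [Finset.coe_sort_coe, Cardinal.mk_coe_finset] at hc
  have hc' : t.card ≤ d := by
    have := hc.trans hd
    exact_mod_cast this
  have : n ≤ d + 1 := by omega
  exact_mod_cast this

theorem bot_primeLike (K : Type*) [Field K] : PrimeLike (⊥ : Subfield K) K := by
  suffices H : ∀ x : K, x ∈ Subfield.closure (∅ : Set K) →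
      ∃ m n : ℤ, (n : K) ≠ 0 ∧ x = (m : K) / (n : K) by
    intro a
    have ha : (a : K) ∈ Subfield.closure (∅ : Set K) := by
      rw [Subfield.closure_empty]
      exact a.2
    exact H a ha
  intro x ha
  induction ha using Subfield.closure_induction with
  | mem x hx => exact absurd hx (Set.notMem_empty x)
  | one => exact ⟨1, 1, by simp, by simp⟩
  | add x y _ _ hx hy =>
    obtain ⟨m, n, hn, rfl⟩ := hx
    obtain ⟨m', n', hn', rfl⟩ := hy
    refine ⟨m * n' + m' * n, n * n', ?_, ?_⟩
    · push_cast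
      exact mul_ne_zero hn hn'
    · push_cast
      field_simp
  | neg x _ hx =>
    obtain ⟨m, n, hn, rfl⟩ := hx
    exact ⟨-m, n, hn, by push_cast; ring⟩
  | inv x _ hx =>
    obtain ⟨m, n, hn, rfl⟩ := hx
    by_cases hm : (m : K) = 0
    · exact ⟨0, 1, by simp, by simp [hm]⟩
    · exact ⟨n, m, hm, by rw [inv_div]⟩
  | mul x y _ _ hx hy =>
    obtain ⟨m, n, hn, rfl⟩ := hx
    obtain ⟨m', n', hn', rfl⟩ := hy
    refine ⟨m * m', n * n', ?_, ?_⟩
    · push_cast
      exact mul_ne_zero hn hn'
    · push_cast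
      field_simp

theorem core_abs (k : Type*) (V : Type*) {K' : Type v} [Field k] [CommRing V] [IsDomain V]
    [ValuationRing V] [Field K'] [Algebra k K'] (hk : PrimeLike k K')
    (φ : V →+* K') (hφ : Function.Injective φ)
    (hsurj : ∀ z : K', ∃ a b : V, φ b ≠ 0 ∧ z = φ a / φ b)
    (d : ℕ) (hd : Algebra.trdeg k K' ≤ (d : Cardinal.{v})) :
    ringKrullDim V ≤ ((d + 1 : ℕ) : WithBot ℕ∞) := by
  let A' : ValuationSubring K' :=
    { φ.range with
      mem_or_inv_mem' := by
        intro z
        obtain ⟨a, b, hb, rfl⟩ := hsurj z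
        obtain ⟨c, hc | hc⟩ := ValuationRing.cond a b
        · by_cases ha : φ a = 0
          · left
            exact ⟨0, by rw [ha, zero_div, map_zero]⟩
          · right
            refine ⟨c, ?_⟩
            rw [inv_div, ← hc, map_mul]
            field_simp
        · left
          refine ⟨c, ?_⟩
          rw [← hc, map_mul]
          field_simp }
  let e : V ≃+* A' := RingEquiv.ofBijective (φ.codRestrict A' (fun v => ⟨v, rfl⟩))
    ⟨fun x y h => hφ (congrArg Subtype.val h), fun ⟨y, x, hx⟩ => ⟨x, Subtype.ext hx⟩⟩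
  rw [ringKrullDim_eq_of_ringEquiv e]
  exact core1 k hk A' d hd

theorem main_14892 (K : Type u) [Field K] (A : ValuationSubring K) (d : ℕ)
    (hd : Algebra.trdeg (⊥ : Subfield K) K = d) :
    ringKrullDim A ≤ ((d + 1 : ℕ) : WithBot ℕ∞) :=
  core1 (⊥ : Subfield K) (bot_primeLike K) A d hd.le

end Groth.Agent.Lib.Helper26.ValDimC
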