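import Mathlib
import Groth.Agent.Lib.Helper26.ValDimC

set_option autoImplicit false

namespace Groth.Agent.Lib.Helper26.ValDimD

open Polynomial Groth.Agent.Lib.Helper26.ValDimC

universe u v

theorem finite_primeSpectrum_of_dim (V : Type*) [CommRing V] [IsDomain V] [ValuationRing V]
    (N : ℕ) (h : ringKrullDim V ≤ ((N : ℕ) : WithBot ℕ∞)) : Finite (PrimeSpectrum V) := by
  have hht : ∀ P : PrimeSpectrum V, Order.height P ≤ (N : ℕ∞) := by
    intro P
    have h1 := (Order.height_le_krullDim P).trans h
    exact_mod_cast h1
  have hfin : ∀ P : PrimeSpectrum V, Order.height P < ⊤ := fun P =>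
    lt_of_le_of_lt (hht P) (ENat.natCast_lt_top N)
  have hinj : Function.Injective (fun P : PrimeSpectrum V => Order.height P) := by
    intro P Q hPQ
    by_contra hne
    have htot : P.asIdeal ≤ Q.asIdeal ∨ Q.asIdeal ≤ P.asIdeal :=
      (ValuationRing.le_total_ideal (A := V)).total P.asIdeal Q.asIdeal
    rcases htot with h1 | h1
    · have hlt : P < Q := lt_of_le_of_ne h1 hne
      exact absurd hPQ (Order.height_strictMono hlt (hfin P)).ne
    · have hlt : Q < P := lt_of_le_of_ne h1 (Ne.symm hne)
      exact absurd hPQ.symm (Order.height_strictMono hlt (hfin Q)).ne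
  have hinj' : Function.Injective
      (fun P : PrimeSpectrum V => (⟨(Order.height P).toNat, by
        have := hht P
        have h2 : ((Order.height P).toNat : ℕ∞) ≤ N := by
          rw [ENat.natCast_toNat (hfin P).ne]
          exact this
        have : (Order.height P).toNat ≤ N := by exact_mod_cast h2
        omega⟩ : Fin (N + 1))) := by
    intro P Q hPQ
    apply hinj
    have h3 : (Order.height P).toNat = (Order.height Q).toNat := congrArg Fin.val hPQ
    show Order.height P = Order.height Q
    rw [← ENat.natCast_toNat (hfin P).ne, ← ENat.natCast_toNat (hfin Q).ne, h3]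
  exact Finite.of_injective _ hinj'

theorem main_14893 (R : Type u) [CommRing R] [IsDomain R] [ValuationRing R] :
    ∃ (ι : Type u) (_ : Preorder ι) (_ : IsDirected ι (fun a b ↦ a ≤ b)) (_ : Nonempty ι)
      (F : ι → Subring R), Monotone F ∧ (⨆ i, F i) = ⊤ ∧
        ∀ i, ValuationRing (F i) ∧ Finite (PrimeSpectrum (F i)) := by
  classical
  let K := FractionRing R
  let k₀ : Subfield K := ⊥
  let E : Finset R → IntermediateField k₀ K := fun s =>
    IntermediateField.adjoin k₀ ((algebraMap R K) '' (↑s : Set R))
  let F : Finset R → Subring R := fun s => (E s).toSubfield.toSubring.comap (algebraMap R K)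
  have hFmem : ∀ s (r : R), r ∈ F s ↔ algebraMap R K r ∈ E s := fun s r => Iff.rfl
  refine ⟨Finset R, inferInstance, inferInstance, inferInstance, F, ?_, ?_, ?_⟩
  · intro s s' hss' r hr
    rw [hFmem] at hr ⊢
    exact IntermediateField.adjoin.mono k₀ _ _ (Set.image_mono (Finset.coe_subset.2 hss')) hr
  · rw [eq_top_iff]
    intro r _
    have : r ∈ F {r} := by
      rw [hFmem]
      apply IntermediateField.subset_adjoin
      exact ⟨r, by simp, rfl⟩
    exact (le_iSup F {r}) this
  · intro s
    have hval : ValuationRing (F s) :=
      { cond' := by
          intro a b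
          obtain ⟨c, hc | hc⟩ := ValuationRing.cond (a : R) (b : R)
          · by_cases ha : (a : R) = 0
            · refine ⟨1, Or.inr ?_⟩
              apply Subtype.ext
              have hb : (b : R) = 0 := by rw [← hc, ha, zero_mul]
              simp [ha, hb]
            · have hcm : c ∈ F s := by
                rw [hFmem]
                have : algebraMap R K c = algebraMap R K b / algebraMap R K a := by
                  rw [← hc, map_mul]
                  have : algebraMap R K a ≠ 0 := by
                    rw [Ne, map_eq_zero_iff _ (IsFractionRing.injective R K)]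
                    exact ha
                  rw [mul_div_cancel_left₀ _ this]
                rw [this]
                exact div_mem b.2 a.2
              exact ⟨⟨c, hcm⟩, Or.inl (Subtype.ext hc)⟩
          · by_cases hb : (b : R) = 0
            · refine ⟨1, Or.inl ?_⟩
              apply Subtype.ext
              have ha : (a : R) = 0 := by rw [← hc, hb, zero_mul]
              simp [ha, hb]
            · have hcm : c ∈ F s := by
                rw [hFmem]
                have : algebraMap R K c = algebraMap R K a / algebraMap R K b := by
                  rw [← hc, map_mul]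
                  have : algebraMap R K b ≠ 0 := by
                    rw [Ne, map_eq_zero_iff _ (IsFractionRing.injective R K)]
                    exact hb
                  rw [mul_div_cancel_left₀ _ this]
                rw [this]
                exact div_mem a.2 b.2
              exact ⟨⟨c, hcm⟩, Or.inr (Subtype.ext hc)⟩ }
    refine ⟨hval, ?_⟩
    -- finite transcendence degree
    have hfg : (E s).FG := IntermediateField.fg_adjoin_of_finite
      ((Finset.finite_toSet s).image _)
    have : Algebra.EssFiniteType k₀ ↥(E s) := IntermediateField.essFiniteType_iff.2 hfg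
    have htr : Algebra.trdeg k₀ ↥(E s) < Cardinal.aleph0 := trdeg_lt_aleph0 k₀ ↥(E s)
    obtain ⟨d, hd⟩ := Cardinal.lt_aleph0.1 htr
    have hk : PrimeLike k₀ ↥(E s) := by
      intro a
      obtain ⟨m, n, hn, hmn⟩ := bot_primeLike K a
      refine ⟨m, n, ?_, ?_⟩
      · intro h
        apply hn
        have := congrArg (Subtype.val) h
        simpa using this
      · apply Subtype.ext
        have h1 : ((algebraMap k₀ ↥(E s) a : ↥(E s)) : K) = algebraMap k₀ K a := rfl
        rw [h1, hmn]
        simp
    let φ : F s →+* ↥(E s) :=
      ((algebraMap R K).comp (F s).subtype).codRestrict (E s) (fun v => v.2)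
    have hφ : Function.Injective φ := by
      intro x y hxy
      have := congrArg Subtype.val hxy
      exact Subtype.ext (IsFractionRing.injective R K this)
    have hsurj : ∀ z : ↥(E s), ∃ a b : F s, φ b ≠ 0 ∧ z = φ a / φ b := by
      intro z
      rcases ValuationRing.isInteger_or_isInteger R (z : K) with ⟨r, hr⟩ | ⟨r, hr⟩
      · have hrm : r ∈ F s := by
          rw [hFmem, hr]
          exact z.2
        refine ⟨⟨r, hrm⟩, 1, by rw [map_one]; exact one_ne_zero, ?_⟩
        rw [map_one, div_one]
        exact Subtype.ext hr.symm
      · by_cases hz : z = 0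
        · exact ⟨0, 1, by rw [map_one]; exact one_ne_zero, by rw [hz, map_zero, zero_div]⟩
        · have hrm : r ∈ F s := by
            rw [hFmem, hr]
            exact inv_mem z.2
          have hφr : φ ⟨r, hrm⟩ = z⁻¹ := Subtype.ext hr
          refine ⟨1, ⟨r, hrm⟩, ?_, ?_⟩
          · rw [hφr]
            exact inv_ne_zero hz
          · rw [hφr, map_one, one_div, inv_inv]
    have hdim := core_abs k₀ (F s) hk φ hφ hsurj d hd.le
    exact finite_primeSpectrum_of_dim (F s) (d + 1) hdim

end Groth.Agent.Lib.Helper26.ValDimD
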