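import Mathlib
import Groth.Agent.Lib.Helper26.ValDimD
import Groth.Agent.S14729

set_option autoImplicit false

namespace Groth.Agent.Lib.Helper26.ValDimE

open Polynomial Groth.Agent.Lib.Helper26.ValDimC Groth.Agent.Lib.Helper26.ValDimD

universe u v

theorem primeLike_intermediate {K : Type*} [Field K]
    (E : IntermediateField (⊥ : Subfield K) K) : PrimeLike (⊥ : Subfield K) ↥E := by
  intro a
  obtain ⟨m, n, hn, hmn⟩ := bot_primeLike K a
  refine ⟨m, n, ?_, ?_⟩
  · intro h
    apply hn
    have := congrArg (Subtype.val) h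
    simpa using this
  · apply Subtype.ext
    have h1 : ((algebraMap (⊥ : Subfield K) ↥E a : ↥E) : K) = algebraMap (⊥ : Subfield K) K a := rfl
    rw [h1, hmn]
    simp

theorem trdeg_adjoin_finite {K : Type v} [Field K] (S : Set K) (hS : S.Finite) :
    ∃ d : ℕ, Algebra.trdeg (⊥ : Subfield K) ↥(IntermediateField.adjoin (⊥ : Subfield K) S) =
      (d : Cardinal.{v}) := by
  have hfg : (IntermediateField.adjoin (⊥ : Subfield K) S).FG :=
    IntermediateField.fg_adjoin_of_finite hS
  have : Algebra.EssFiniteType (⊥ : Subfield K) ↥(IntermediateField.adjoin (⊥ : Subfield K) S) :=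
    IntermediateField.essFiniteType_iff.2 hfg
  have htr := trdeg_lt_aleph0 (⊥ : Subfield K) ↥(IntermediateField.adjoin (⊥ : Subfield K) S)
  exact Cardinal.lt_aleph0.1 htr

theorem main_14730 (R : Type u) [CommRing R] [IsDomain R]
    (hR : ∀ (p : Ideal R) [p.IsPrime], ValuationRing (Localization.AtPrime p))
    (hfin : Finite (MaximalSpectrum R)) (s : Finset R) :
    ∃ R' : Subring R, (↑s : Set R) ⊆ R' ∧
      (∀ (p : Ideal R') [p.IsPrime], ValuationRing (Localization.AtPrime p)) ∧
      Finite (MaximalSpectrum R') ∧ ringKrullDim R' < ⊤ := by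
  classical
  let L := FractionRing R
  let k₀ : Subfield L := ⊥
  let E : IntermediateField k₀ L :=
    IntermediateField.adjoin k₀ ((algebraMap R L) '' (↑s : Set R))
  let Ksub : Subfield L := E.toSubfield
  obtain ⟨hpr, hmax, hfrac⟩ := Groth.Agent.S14729.result R L hR hfin Ksub
  let R'' : Subring L := (algebraMap R L).range ⊓ Ksub.toSubring
  let R' : Subring R := R''.comap (algebraMap R L)
  have hR'mem : ∀ r : R, r ∈ R' ↔ algebraMap R L r ∈ E := by
    intro r
    constructor
    · intro h
      exact (Subring.mem_inf.1 h).2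
    · intro h
      exact Subring.mem_inf.2 ⟨⟨r, rfl⟩, h⟩
  let e0 : R' →+* R'' := ((algebraMap R L).comp R'.subtype).codRestrict R'' (fun v => v.2)
  have he0 : Function.Bijective e0 := by
    constructor
    · intro x y hxy
      have := congrArg Subtype.val hxy
      exact Subtype.ext (IsFractionRing.injective R L this)
    · rintro ⟨y, hy⟩
      obtain ⟨r, hr⟩ := (Subring.mem_inf.1 hy).1
      have hrm : r ∈ R' := by
        show algebraMap R L r ∈ R''
        rw [hr]
        exact hy
      exact ⟨⟨r, hrm⟩, Subtype.ext hr⟩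
  let e : R' ≃+* R'' := RingEquiv.ofBijective e0 he0
  refine ⟨R', ?_, ?_, ?_, ?_⟩
  · intro r hr
    rw [SetLike.mem_coe, hR'mem]
    apply IntermediateField.subset_adjoin
    exact ⟨r, hr, rfl⟩
  · intro p hp
    let f : R'' →+* R' := (e.symm : R'' →+* R')
    have hf : Function.Surjective f := e.symm.surjective
    have hsurj := RingHom.surjective_localRingHom_of_surjective f hf p
    have := hpr (p.comap f)
    exact Function.Surjective.valuationRing _ hsurj
  · have : Finite (MaximalSpectrum R'') := hmax
    let g : MaximalSpectrum R' → MaximalSpectrum R'' := fun m =>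
      ⟨Ideal.comap (e.symm : R'' →+* R') m.asIdeal,
        Ideal.comap_isMaximal_of_surjective _ e.symm.surjective⟩
    have hg : Function.Injective g := by
      intro m m' h
      have h1 : Ideal.comap (e.symm : R'' →+* R') m.asIdeal =
          Ideal.comap (e.symm : R'' →+* R') m'.asIdeal := congrArg MaximalSpectrum.asIdeal h
      have := Ideal.comap_injective_of_surjective (e.symm : R'' →+* R') e.symm.surjective h1
      exact MaximalSpectrum.ext this
    exact Finite.of_injective g hg
  · rw [ringKrullDim_eq_of_ringEquiv e]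
    obtain ⟨d, hd⟩ := trdeg_adjoin_finite ((algebraMap R L) '' (↑s : Set R))
      ((Finset.finite_toSet s).image _)
    have hk : PrimeLike k₀ ↥E := primeLike_intermediate E
    suffices h : ringKrullDim R'' ≤ ((d + 1 : ℕ) : WithBot ℕ∞) from
      lt_of_le_of_lt h (by
        rw [← WithBot.coe_top, ← WithBot.coe_natCast, WithBot.coe_lt_coe]
        exact ENat.natCast_lt_top (d + 1))
    rw [ringKrullDim, Order.krullDim]
    refine iSup_le fun p => ?_
    let P : Ideal R'' := p.last.asIdeal
    have hPprime : P.IsPrime := p.last.2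
    let V := Localization.AtPrime P
    have hV : ValuationRing V := hpr P
    have h1 : (p.length : WithBot ℕ∞) ≤ ringKrullDim V := by
      rw [IsLocalization.AtPrime.ringKrullDim_eq_height P V,
        PrimeSpectrum.height_eq_orderHeight p.last]
      have := Order.length_le_height_last (p := p)
      exact_mod_cast this
    refine h1.trans ?_
    let ψ : R'' →+* ↥E := R''.subtype.codRestrict E (fun x => (Subring.mem_inf.1 x.2).2)
    have hψinj : Function.Injective ψ := by
      intro x y hxy
      have h2 : (x : L) = (y : L) := congrArg (fun t : ↥E => (t : L)) hxy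
      exact Subtype.ext h2
    have hg : ∀ y : P.primeCompl, IsUnit (ψ y) := by
      intro y
      rw [isUnit_iff_ne_zero]
      intro h
      have hy0 : (y : R'') = 0 := hψinj (by rw [h, map_zero])
      exact y.2 (by rw [hy0]; exact P.zero_mem)
    let φ : V →+* ↥E := IsLocalization.lift (M := P.primeCompl) (S := V) hg
    have hφ : Function.Injective φ := by
      rw [IsLocalization.lift_injective_iff]
      intro x y
      rw [(IsLocalization.injective V P.primeCompl_le_nonZeroDivisors).eq_iff, hψinj.eq_iff]
    have hsurj : ∀ z : ↥E, ∃ a b : V, φ b ≠ 0 ∧ z = φ a / φ b := by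
      intro z
      obtain ⟨a, b, ha, hb, hb0, hz⟩ := hfrac (z : L) z.2
      have hφa : φ (algebraMap R'' V ⟨a, ha⟩) = ψ ⟨a, ha⟩ := IsLocalization.lift_eq hg _
      have hφb : φ (algebraMap R'' V ⟨b, hb⟩) = ψ ⟨b, hb⟩ := IsLocalization.lift_eq hg _
      refine ⟨algebraMap R'' V ⟨a, ha⟩, algebraMap R'' V ⟨b, hb⟩, ?_, ?_⟩
      · rw [hφb]
        intro h
        apply hb0
        exact congrArg Subtype.val h
      · rw [hφa, hφb]
        apply Subtype.ext
        rw [hz]
        rfl
    exact core_abs k₀ V hk φ hφ hsurj d hd.le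

end Groth.Agent.Lib.Helper26.ValDimE
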