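import Mathlib
import Groth.Agent.Lib.Helper26.BigExp
import Groth.Agent.Lib.Helper21.CDeg4
import Groth.Agent.Lib.Helper29.TensorIso
import Groth.Agent.Lib.Helper29.IntegInv
import Groth.Agent.S0002

set_option autoImplicit false
universe u
open CategoryTheory CategoryTheory.Limits AlgebraicGeometry
open scoped ENNReal

namespace Groth.Agent.Lib.Helper26.VolGeom
open Groth.Agent.Lib.Helper29.QCoh Groth.Agent.Lib.Helper21.CDeg Groth.Agent.Lib.Helper26.BigExp

variable (k : Type u) [Field k] {X : Scheme.{u}} [X.Over (Spec (CommRingCat.of k))]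
  [IsProper (X ↘ Spec (CommRingCat.of k))]

theorem finrank_le_of_mono {P Q : X.Modules} (hQ : PicF.IsInvertible Q) (φ : P ⟶ Q) (hmono : Mono φ) :
    Module.finrank k (Coh.HH X P 0) ≤ Module.finrank k (Coh.HH X Q 0) := by
  have : Module.Finite k (Coh.HH X Q 0) :=
    Groth.Agent.S0002.result k X _
      ⟨isQuasicoherent_of_isInvertible hQ, isFiniteType_of_isInvertible hQ⟩ 0
  have hinj : Function.Injective (Canon.HHlin k φ 0) := by
    have happ := (mono_iff_app_injective φ).mp hmono ⊤
    intro x y hxy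
    apply (hh0 _).injective
    apply happ
    rw [← hh0_map k φ, ← hh0_map k φ, hxy]
  exact LinearMap.finrank_le_finrank_of_injective hinj

theorem finrank_iso {P Q : X.Modules} (hP : PicF.IsInvertible P) (hQ : PicF.IsInvertible Q)
    (e : P ≅ Q) : Module.finrank k (Coh.HH X P 0) = Module.finrank k (Coh.HH X Q 0) :=
  le_antisymm (finrank_le_of_mono k hQ e.hom inferInstance) (finrank_le_of_mono k hP e.inv inferInstance)

theorem finrank_mono [IsIntegral X] {L : X.Modules} (hL : PicF.IsInvertible L) {n r m : ℕ}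
    (h : n + r = m) (hs : HasSec L r) :
    Module.finrank k (Coh.HH X (CohB1.tensorPow L n) 0) ≤
      Module.finrank k (Coh.HH X (CohB1.tensorPow L m) 0) := by
  subst h
  obtain ⟨t, ht⟩ := hs
  have hLn : PicF.IsInvertible (CohB1.tensorPow L n) := isInvertible_tensorPow hL n
  have hLr : PicF.IsInvertible (CohB1.tensorPow L r) := isInvertible_tensorPow hL r
  have hLnr : PicF.IsInvertible (CohB1.tensorPow L (n + r)) := isInvertible_tensorPow hL _
  let φ : CohB1.tensorPow L n ⟶ CohB1.tensorPow L (n + r) :=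
    tmulRightHom (CohB1.tensorPow L n) t ≫ (tensorPowAdd L n r).hom
  have hφ : φ ≠ 0 := by
    intro h0
    apply tmulRightHom_ne_zero hLn hLr t ht
    rw [← cancel_mono (tensorPowAdd L n r).hom, zero_comp]
    exact h0
  exact finrank_le_of_mono k hLnr φ (mono_of_ne_zero hLn hLnr φ hφ)

theorem finrank_eq_zero_of_not_hasSec {L : X.Modules} (n : ℕ) (h : ¬ HasSec L n) :
    Module.finrank k (Coh.HH X (CohB1.tensorPow L n) 0) = 0 := by
  by_cases hsub : Subsingleton (Coh.HH X (CohB1.tensorPow L n) 0)
  · exact Module.finrank_zero_of_subsingleton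
  · exfalso
    rw [not_subsingleton_iff_nontrivial] at hsub
    obtain ⟨x, hx⟩ := exists_ne (0 : Coh.HH X (CohB1.tensorPow L n) 0)
    apply h
    refine ⟨homOfSection _ (hh0 _ x), fun h0 => hx ?_⟩
    have h1 := homOfSection_app_one (CohB1.tensorPow L n) (hh0 _ x)
    rw [h0] at h1
    apply (hh0 _).injective
    rw [map_zero, ← h1]
    rfl

end Groth.Agent.Lib.Helper26.VolGeom
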