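import Mathlib

/-!
# Homogeneity of the volume: numerical and analytic lemmas

`numeric`: a sub-semigroup `E` of `ℕ` containing a positive element contains, for every `a ≥ 1` and every `n ∈ E`,
a bounded correction `a * q n - n` (Mathlib `Nat.exists_mem_closure_of_ge`).  `analytic`, `analytic_le`: the two
inequalities of `limsup v(am)/m^d = a^d limsup v(n)/n^d` in `ℝ≥0∞` from `v n ≤ v (a * q n)`.
-/

set_option autoImplicit false
open Filter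
open scoped ENNReal Topology

namespace Groth.Agent.Lib.Helper26.VolScale

theorem numeric (E : Set ℕ) (hadd : ∀ x y, x ∈ E → y ∈ E → x + y ∈ E) (r0 : ℕ) (hr0 : r0 ∈ E)
    (hr0pos : 0 < r0) (a : ℕ) (ha : 0 < a) :
    ∃ (C : ℕ) (q : ℕ → ℕ), (∀ n, 0 < q n) ∧ (∀ n, n / a ≤ q n) ∧ (∀ n, a * q n ≤ n + C) ∧
      (∀ n, n ≤ a * q n) ∧ ∀ n, n ∈ E → a * q n - n ∈ E := by
  classical
  set e := Nat.setGcd E with he
  have he0 : e ≠ 0 := by
    intro h0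
    have := Nat.setGcd_eq_zero_iff.mp h0 hr0
    simp at this
    omega
  have hepos : 0 < e := Nat.pos_of_ne_zero he0
  obtain ⟨N0, hN0⟩ := Nat.exists_mem_closure_of_ge E
  have hcl : ∀ m, m ∈ AddSubmonoid.closure E → m = 0 ∨ m ∈ E := by
    intro m hm
    induction hm using AddSubmonoid.closure_induction with
    | mem x hx => exact Or.inr hx
    | zero => exact Or.inl rfl
    | add x y _ _ hx hy =>
      rcases hx with rfl | hx
      · simpa using hy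
      · rcases hy with rfl | hy
        · right; simpa using hx
        · exact Or.inr (hadd x y hx hy)
  have haepos : 0 < a * e := Nat.mul_pos ha hepos
  refine ⟨N0 + 1 + a * e, fun n => e * ((n + N0 + 1) / (a * e) + 1), ?_, ?_, ?_, ?_, ?_⟩
  · intro n
    exact Nat.mul_pos hepos (Nat.succ_pos _)
  · intro n
    have h1 := Nat.div_add_mod (n + N0 + 1) (a * e)
    have h2 := Nat.mod_lt (n + N0 + 1) haepos
    have h3 : a * (e * ((n + N0 + 1) / (a * e) + 1)) = a * e * ((n + N0 + 1) / (a * e)) + a * e := by ring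
    apply Nat.div_le_of_le_mul
    rw [h3]; omega
  · intro n
    have h1 := Nat.div_add_mod (n + N0 + 1) (a * e)
    have h3 : a * (e * ((n + N0 + 1) / (a * e) + 1)) = a * e * ((n + N0 + 1) / (a * e)) + a * e := by ring
    rw [h3]; omega
  · intro n
    have h1 := Nat.div_add_mod (n + N0 + 1) (a * e)
    have h2 := Nat.mod_lt (n + N0 + 1) haepos
    have h3 : a * (e * ((n + N0 + 1) / (a * e) + 1)) = a * e * ((n + N0 + 1) / (a * e)) + a * e := by ring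
    rw [h3]; omega
  · intro n hn
    have h1 := Nat.div_add_mod (n + N0 + 1) (a * e)
    have h2 := Nat.mod_lt (n + N0 + 1) haepos
    have h3 : a * (e * ((n + N0 + 1) / (a * e) + 1)) = a * e * ((n + N0 + 1) / (a * e)) + a * e := by ring
    have hge : N0 + 1 ≤ a * (e * ((n + N0 + 1) / (a * e) + 1)) - n := by rw [h3]; omega
    have hdvd : e ∣ a * (e * ((n + N0 + 1) / (a * e) + 1)) - n := by
      apply Nat.dvd_sub
      · exact Dvd.dvd.mul_left (Dvd.intro _ rfl) a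
      · exact Nat.setGcd_dvd_of_mem hn
    rcases hcl _ (hN0 _ (by omega) hdvd) with h | h
    · omega
    · exact h

theorem tendsto_ratio (C d : ℕ) :
    Tendsto (fun n : ℕ => (((n : ℝ≥0∞) + (C : ℝ≥0∞)) / (n : ℝ≥0∞)) ^ d) atTop (𝓝 1) := by
  have h1 : Tendsto (fun n : ℕ => (C : ℝ≥0∞) * (n : ℝ≥0∞)⁻¹) atTop (𝓝 ((C : ℝ≥0∞) * 0)) :=
    ENNReal.Tendsto.const_mul ENNReal.tendsto_inv_nat_nhds_zero (Or.inr (ENNReal.natCast_ne_top C))
  rw [mul_zero] at h1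
  have h2 : Tendsto (fun n : ℕ => (1 : ℝ≥0∞) + (C : ℝ≥0∞) * (n : ℝ≥0∞)⁻¹) atTop (𝓝 (1 + 0)) :=
    h1.const_add 1
  rw [add_zero] at h2
  have h3 : Tendsto (fun n : ℕ => ((1 : ℝ≥0∞) + (C : ℝ≥0∞) * (n : ℝ≥0∞)⁻¹) ^ d) atTop (𝓝 (1 ^ d)) :=
    ENNReal.Tendsto.pow h2
  rw [one_pow] at h3
  refine h3.congr' ?_
  filter_upwards [eventually_ge_atTop 1] with n hn
  have hn0 : (n : ℝ≥0∞) ≠ 0 := by
    rw [Ne, Nat.cast_eq_zero]; omega
  rw [ENNReal.add_div, ENNReal.div_self hn0 (ENNReal.natCast_ne_top n), div_eq_mul_inv]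

theorem analytic (v : ℕ → ℕ) (a d C : ℕ) (ha : 0 < a) (q : ℕ → ℕ) (hq0 : ∀ n, 0 < q n)
    (hqa : ∀ n, n / a ≤ q n) (hqC : ∀ n, a * q n ≤ n + C) (hv : ∀ n, v n ≤ v (a * q n)) :
    (a : ℝ≥0∞) ^ d * limsup (fun n : ℕ => (v n : ℝ≥0∞) / (n : ℝ≥0∞) ^ d) atTop ≤
      limsup (fun m : ℕ => (v (a * m) : ℝ≥0∞) / (m : ℝ≥0∞) ^ d) atTop := by
  set G : ℕ → ℝ≥0∞ := fun m : ℕ => (v (a * m) : ℝ≥0∞) / (m : ℝ≥0∞) ^ d with hG
  set r : ℕ → ℝ≥0∞ := fun n : ℕ => (((n : ℝ≥0∞) + (C : ℝ≥0∞)) / (n : ℝ≥0∞)) ^ d with hr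
  have hrlim : limsup r atTop = 1 := (tendsto_ratio C d).limsup_eq
  have step1 : ∀ n : ℕ, 1 ≤ n →
      (a : ℝ≥0∞) ^ d * ((v n : ℝ≥0∞) / (n : ℝ≥0∞) ^ d) ≤ G (q n) * r n := by
    intro n hn
    have hq0' : ((q n : ℝ≥0∞)) ^ d ≠ 0 := by
      apply pow_ne_zero
      rw [Ne, Nat.cast_eq_zero]; have := hq0 n; omega
    have hqtop : ((q n : ℝ≥0∞)) ^ d ≠ ⊤ := ENNReal.pow_ne_top (ENNReal.natCast_ne_top _)
    have hnat : a ^ d * v n * (q n) ^ d ≤ v (a * q n) * (n + C) ^ d := by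
      have h1 : (a * q n) ^ d ≤ (n + C) ^ d := Nat.pow_le_pow_left (hqC n) d
      calc a ^ d * v n * (q n) ^ d = v n * (a * q n) ^ d := by ring
        _ ≤ v (a * q n) * (n + C) ^ d := Nat.mul_le_mul (hv n) h1
    have hle : (a : ℝ≥0∞) ^ d * (v n : ℝ≥0∞) ≤
        (v (a * q n) : ℝ≥0∞) * ((n : ℝ≥0∞) + (C : ℝ≥0∞)) ^ d / (q n : ℝ≥0∞) ^ d := by
      rw [ENNReal.le_div_iff_mul_le (Or.inl hq0') (Or.inl hqtop)]
      exact_mod_cast hnat
    calc (a : ℝ≥0∞) ^ d * ((v n : ℝ≥0∞) / (n : ℝ≥0∞) ^ d)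
        = ((a : ℝ≥0∞) ^ d * (v n : ℝ≥0∞)) / (n : ℝ≥0∞) ^ d := by rw [mul_div_assoc]
      _ ≤ ((v (a * q n) : ℝ≥0∞) * ((n : ℝ≥0∞) + (C : ℝ≥0∞)) ^ d / (q n : ℝ≥0∞) ^ d) /
            (n : ℝ≥0∞) ^ d := ENNReal.div_le_div_right hle _
      _ = G (q n) * r n := by
          simp only [hG, hr, div_eq_mul_inv, mul_pow, ENNReal.inv_pow]
          ring
  have hqtend : Tendsto q atTop atTop :=
    tendsto_atTop_mono hqa (Nat.tendsto_div_const_atTop (Nat.pos_iff_ne_zero.mp ha))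
  calc (a : ℝ≥0∞) ^ d * limsup (fun n : ℕ => (v n : ℝ≥0∞) / (n : ℝ≥0∞) ^ d) atTop
      = limsup (fun n : ℕ => (a : ℝ≥0∞) ^ d * ((v n : ℝ≥0∞) / (n : ℝ≥0∞) ^ d)) atTop :=
        (ENNReal.limsup_const_mul_of_ne_top (ENNReal.pow_ne_top (ENNReal.natCast_ne_top a))).symm
    _ ≤ limsup ((G ∘ q) * r) atTop := by
        exact Filter.limsup_le_limsup ((eventually_ge_atTop 1).mono fun n hn => step1 n hn)
    _ ≤ limsup (G ∘ q) atTop * limsup r atTop :=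
        ENNReal.limsup_mul_le' (Or.inr (by rw [hrlim]; exact ENNReal.one_ne_top))
          (Or.inr (by rw [hrlim]; exact one_ne_zero))
    _ = limsup (G ∘ q) atTop := by rw [hrlim, mul_one]
    _ ≤ limsup G atTop := by
        rw [Filter.limsup_comp]
        exact Filter.limsup_le_limsup_of_le hqtend


theorem analytic_le (v : ℕ → ℕ) (a d : ℕ) (ha : 0 < a) :
    limsup (fun m : ℕ => (v (a * m) : ℝ≥0∞) / (m : ℝ≥0∞) ^ d) atTop ≤
      (a : ℝ≥0∞) ^ d * limsup (fun n : ℕ => (v n : ℝ≥0∞) / (n : ℝ≥0∞) ^ d) atTop := by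
  set F : ℕ → ℝ≥0∞ := fun n : ℕ => (v n : ℝ≥0∞) / (n : ℝ≥0∞) ^ d with hF
  have ha0 : (a : ℝ≥0∞) ^ d ≠ 0 := by
    apply pow_ne_zero
    rw [Ne, Nat.cast_eq_zero]; omega
  have hatop : (a : ℝ≥0∞) ^ d ≠ ⊤ := ENNReal.pow_ne_top (ENNReal.natCast_ne_top a)
  have hpt : (fun m : ℕ => (v (a * m) : ℝ≥0∞) / (m : ℝ≥0∞) ^ d) =
      fun m : ℕ => (a : ℝ≥0∞) ^ d * (F ∘ (fun m : ℕ => a * m)) m := by
    funext m
    simp only [hF, Function.comp]
    rw [← mul_div_assoc, Nat.cast_mul, mul_pow, ENNReal.mul_div_mul_left _ _ ha0 hatop]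
  have htend : Tendsto (fun m : ℕ => a * m) atTop atTop :=
    tendsto_atTop_mono (fun m => Nat.le_mul_of_pos_left m ha) tendsto_id
  rw [hpt, ENNReal.limsup_const_mul_of_ne_top hatop]
  gcongr
  rw [Filter.limsup_comp]
  exact Filter.limsup_le_limsup_of_le htend

theorem limsup_eq_zero_of_eventually (v : ℕ → ℕ) (d : ℕ) (h : ∀ n, 1 ≤ n → v n = 0) :
    limsup (fun n : ℕ => (v n : ℝ≥0∞) / (n : ℝ≥0∞) ^ d) atTop = 0 := by
  have : (fun n : ℕ => (v n : ℝ≥0∞) / (n : ℝ≥0∞) ^ d) =ᶠ[atTop] fun _ => (0 : ℝ≥0∞) := by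
    filter_upwards [eventually_ge_atTop 1] with n hn
    rw [h n hn, Nat.cast_zero, ENNReal.zero_div]
  rw [Filter.limsup_congr this, Filter.limsup_const]

end Groth.Agent.Lib.Helper26.VolScale
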