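import Mathlib

set_option autoImplicit false
set_option linter.unusedVariables false
set_option linter.unusedSectionVars false
set_option linter.style.haveILetI false
universe u v w
open Polynomial IsLocalRing

namespace Groth.Agent.Lib.Helper26.W793

section Approx

variable {A : Type u} [CommRing A] [IsLocalRing A] {k : Type v} [Field k] [Algebra k A]
  (hk : Function.Surjective (IsLocalRing.residue A ∘ algebraMap k A))
  (gens : Set A) (hgens : maximalIdeal A = Ideal.span gens)

include hk hgens

theorem approx_step (N : ℕ) : ∀ x ∈ maximalIdeal A ^ N,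
    ∃ b ∈ Algebra.adjoin k gens, x - b ∈ maximalIdeal A ^ (N + 1) := by
  induction N with
  | zero =>
    intro x _
    obtain ⟨c, hc⟩ := hk (residue A x)
    refine ⟨algebraMap k A c, Subalgebra.algebraMap_mem _ c, ?_⟩
    rw [zero_add, pow_one, ← residue_eq_zero_iff, map_sub, sub_eq_zero]
    exact hc.symm
  | succ N ih =>
    -- additivity of the property
    have hadd : ∀ x₁ x₂ : A,
        (∃ b ∈ Algebra.adjoin k gens, x₁ - b ∈ maximalIdeal A ^ (N + 1 + 1)) →
        (∃ b ∈ Algebra.adjoin k gens, x₂ - b ∈ maximalIdeal A ^ (N + 1 + 1)) →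
        ∃ b ∈ Algebra.adjoin k gens, (x₁ + x₂) - b ∈ maximalIdeal A ^ (N + 1 + 1) := by
      rintro x₁ x₂ ⟨b₁, hb₁, h₁⟩ ⟨b₂, hb₂, h₂⟩
      refine ⟨b₁ + b₂, add_mem hb₁ hb₂, ?_⟩
      have : x₁ + x₂ - (b₁ + b₂) = (x₁ - b₁) + (x₂ - b₂) := by ring
      rw [this]
      exact add_mem h₁ h₂
    have hlem : ∀ y ∈ Ideal.span gens, ∀ z ∈ maximalIdeal A ^ N,
        ∃ b ∈ Algebra.adjoin k gens, y * z - b ∈ maximalIdeal A ^ (N + 1 + 1) := by
      intro y hy
      induction hy using Submodule.span_induction with
      | mem g₀ hg₀ =>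
        intro z hz
        obtain ⟨bz, hbz, hz'⟩ := ih z hz
        refine ⟨g₀ * bz, mul_mem (Algebra.subset_adjoin hg₀) hbz, ?_⟩
        have : g₀ * z - g₀ * bz = g₀ * (z - bz) := by ring
        rw [this, pow_succ' _ (N + 1)]
        refine Ideal.mul_mem_mul ?_ hz'
        rw [hgens]
        exact Ideal.subset_span hg₀
      | zero =>
        intro z _
        exact ⟨0, zero_mem _, by rw [zero_mul, sub_zero]; exact zero_mem _⟩
      | add y₁ y₂ _ _ h₁ h₂ =>
        intro z hz
        rw [add_mul]
        exact hadd _ _ (h₁ z hz) (h₂ z hz)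
      | smul a y₁ _ h₁ =>
        intro z hz
        have : a • y₁ * z = y₁ * (a * z) := by rw [smul_eq_mul]; ring
        rw [this]
        exact h₁ (a * z) (Ideal.mul_mem_left _ _ hz)
    intro x hx
    rw [pow_succ', hgens] at hx
    rw [← hgens] at hx
    have hx' : x ∈ Ideal.span gens * maximalIdeal A ^ N := by rw [← hgens]; exact hx
    refine Submodule.mul_induction_on hx' ?_ ?_
    · intro y hy z hz
      exact hlem y hy z hz
    · intro x₁ x₂ h₁ h₂
      exact hadd _ _ h₁ h₂

theorem approx (N : ℕ) : ∀ a : A, ∃ b ∈ Algebra.adjoin k gens, a - b ∈ maximalIdeal A ^ N := by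
  induction N with
  | zero =>
    intro a
    exact ⟨0, zero_mem _, by rw [pow_zero, Ideal.one_eq_top]; trivial⟩
  | succ N ih =>
    intro a
    obtain ⟨b, hb, hab⟩ := ih a
    obtain ⟨b', hb', hab'⟩ := approx_step hk gens hgens N (a - b) hab
    refine ⟨b + b', add_mem hb hb', ?_⟩
    have : a - (b + b') = a - b - b' := by ring
    rw [this]
    exact hab'

end Approx

end Groth.Agent.Lib.Helper26.W793

namespace Groth.Agent.Lib.Helper26.W793

section Core

variable {A : Type u} [CommRing A] [IsLocalRing A] [IsNoetherianRing A]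

theorem mem_of_forall_mem_sup_pow (J : Ideal A) (x : A)
    (hx : ∀ N, x ∈ J ⊔ maximalIdeal A ^ N) : x ∈ J := by
  have hbot := Ideal.iInf_pow_smul_eq_bot_of_isLocalRing (R := A) (M := A ⧸ J) (maximalIdeal A)
    (Ideal.IsPrime.ne_top')
  have hmem : (Ideal.Quotient.mk J x) ∈ (⊥ : Submodule A (A ⧸ J)) := by
    rw [← hbot, Submodule.mem_iInf]
    intro N
    obtain ⟨j, hj, y, hy, rfl⟩ := Submodule.mem_sup.mp (hx N)
    rw [map_add, Ideal.Quotient.eq_zero_iff_mem.mpr hj, zero_add]
    have : Ideal.Quotient.mk J y = y • (1 : A ⧸ J) := by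
      rw [Algebra.smul_def, mul_one]; rfl
    rw [this]
    exact Submodule.smul_mem_smul hy Submodule.mem_top
  rw [Submodule.mem_bot] at hmem
  exact Ideal.Quotient.eq_zero_iff_mem.mp hmem

end Core

end Groth.Agent.Lib.Helper26.W793

namespace Groth.Agent.Lib.Helper26.W793

section Main

theorem main_15793
    (p : ℕ) [hp : Fact p.Prime] (A : Type u) [CommRing A] [IsRegularLocalRing A] [CharP A p]
    [IsAdicComplete (IsLocalRing.maximalIdeal A) A] (hdim : 2 ≤ ringKrullDim A)
    (k : Type v) [Field k] [Algebra k A]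
    (hk : Function.Surjective (IsLocalRing.residue A ∘ algebraMap k A))
    (G : Type w) [Group G] [Finite G] [MulSemiringAction G A] (hcard : Nat.card G = p)
    (hGk : ∀ (σ : G) (c : k), σ • algebraMap k A c = algebraMap k A c)
    (hram : ∀ P : Ideal A, P.IsPrime → P ≠ IsLocalRing.maximalIdeal A → P.inertia G = ⊥)
    (v : A) (hv : v ∈ IsLocalRing.maximalIdeal A) (hv2 : v ∉ IsLocalRing.maximalIdeal A ^ 2) :
    ∃ σ : G, σ • v ≠ v := by
  classical
  by_contra hall
  push Not at hall
  haveI : Nontrivial G := Finite.one_lt_card_iff_nontrivial.mp (by rw [hcard]; exact hp.out.one_lt)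
  obtain ⟨σ, hσ⟩ := exists_ne (1 : G)
  -- σ preserves the maximal ideal and its powers
  have hσm : ∀ x ∈ maximalIdeal A, σ • x ∈ maximalIdeal A := by
    intro x hx
    rw [mem_maximalIdeal, mem_nonunits_iff] at hx ⊢
    intro hu
    apply hx
    have := hu.map (MulSemiringAction.toRingHom G A σ⁻¹)
    rwa [MulSemiringAction.toRingHom_apply, inv_smul_smul] at this
  have hσpow : ∀ N, ∀ x ∈ maximalIdeal A ^ N, σ • x ∈ maximalIdeal A ^ N := by
    intro N x hx
    have h1 : Ideal.map (MulSemiringAction.toRingHom G A σ) (maximalIdeal A) ≤ maximalIdeal A := by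
      rw [Ideal.map_le_iff_le_comap]
      intro y hy
      exact hσm y hy
    have h2 : Ideal.map (MulSemiringAction.toRingHom G A σ) (maximalIdeal A ^ N) ≤
        maximalIdeal A ^ N := by
      rw [Ideal.map_pow]
      exact Ideal.pow_right_mono h1 N
    exact h2 (Ideal.mem_map_of_mem _ hx)
  -- the cotangent space
  set vbar : CotangentSpace A := (maximalIdeal A).toCotangent ⟨v, hv⟩ with hvbar
  have hvbar0 : vbar ≠ 0 := by
    rw [hvbar, Ne, Ideal.toCotangent_eq_zero]
    exact hv2
  have hn : (Module.finrank (ResidueField A) (CotangentSpace A) : WithBot ℕ∞) = ringKrullDim A :=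
    (IsRegularLocalRing.iff_finrank_cotangentSpace A).mp inferInstance
  obtain ⟨W', hW'⟩ := Submodule.exists_isCompl (Submodule.span (ResidueField A) {vbar})
  have hdimW := Submodule.finrank_add_eq_of_isCompl hW'
  rw [finrank_span_singleton hvbar0] at hdimW
  set d := Module.finrank (ResidueField A) W' with hd
  let b := Module.finBasis (ResidueField A) W'
  choose u hu using fun i => Ideal.toCotangent_surjective _ ((b i : W') : CotangentSpace A)
  set gensM : Set (maximalIdeal A) := insert ⟨v, hv⟩ (Set.range u) with hgensM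
  have hspan : Submodule.span (ResidueField A) ((maximalIdeal A).toCotangent '' gensM) = ⊤ := by
    rw [hgensM, Set.image_insert_eq, Submodule.span_insert, ← Set.range_comp]
    have h1 : ((maximalIdeal A).toCotangent ∘ u) = fun i => ((b i : W') : CotangentSpace A) := by
      funext i; exact hu i
    rw [h1]
    have h2 : Submodule.span (ResidueField A) (Set.range fun i => ((b i : W') : CotangentSpace A)) =
        W' := by
      have : (fun i => ((b i : W') : CotangentSpace A)) = W'.subtype ∘ b := rfl
      rw [this, Set.range_comp, ← Submodule.map_span, b.span_eq, Submodule.map_subtype_top]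
    rw [h2]
    exact hW'.sup_eq_top
  have hspanA : Submodule.span A gensM = ⊤ := CotangentSpace.span_image_eq_top_iff.mp hspan
  set gens : Set A := insert v (Set.range fun i => (u i : A)) with hgens
  have hmax : maximalIdeal A = Ideal.span gens := by
    have h1 := congrArg (Submodule.map (maximalIdeal A).subtype) hspanA
    rw [Submodule.map_span, Submodule.map_top, Submodule.range_subtype] at h1
    rw [← h1, hgensM, Set.image_insert_eq, ← Set.range_comp]
    rfl
  -- the ideal J₀
  set s : Finset A := Finset.univ.image (fun i : Fin d => σ • (u i : A) - u i) with hs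
  set J₀ : Ideal A := Ideal.span (s : Set A) with hJ₀
  have hsJ : ∀ i, σ • (u i : A) - u i ∈ J₀ := fun i =>
    Ideal.subset_span (Finset.mem_coe.mpr (Finset.mem_image.mpr ⟨i, Finset.mem_univ _, rfl⟩))
  have hB : ∀ x ∈ Algebra.adjoin k gens, σ • x - x ∈ J₀ := by
    intro x hx
    induction hx using Algebra.adjoin_induction with
    | mem y hy =>
      rw [hgens, Set.mem_insert_iff] at hy
      rcases hy with rfl | ⟨i, rfl⟩
      · rw [hall σ, sub_self]; exact zero_mem _
      · exact hsJ i
    | algebraMap c => rw [hGk, sub_self]; exact zero_mem _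
    | add y z _ _ hy hz =>
      have : σ • (y + z) - (y + z) = (σ • y - y) + (σ • z - z) := by rw [smul_add]; ring
      rw [this]; exact add_mem hy hz
    | mul y z _ _ hy hz =>
      have : σ • (y * z) - y * z = (σ • y) * (σ • z - z) + (σ • y - y) * z := by
        rw [smul_mul']; ring
      rw [this]
      exact add_mem (Ideal.mul_mem_left _ _ hz) (Ideal.mul_mem_right _ _ hy)
  have hall' : ∀ a : A, σ • a - a ∈ J₀ := by
    intro a
    refine mem_of_forall_mem_sup_pow J₀ _ (fun N => ?_)
    obtain ⟨b', hb', hab⟩ := approx hk gens hmax N a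
    have : σ • a - a = (σ • b' - b') + (σ • (a - b') - (a - b')) := by rw [smul_sub]; ring
    rw [this]
    exact Submodule.add_mem_sup (hB b' hb') (sub_mem (hσpow N _ hab) hab)
  have hJle : J₀ ≤ maximalIdeal A := by
    rw [hJ₀, Ideal.span_le]
    intro x hx
    rw [Finset.mem_coe, hs, Finset.mem_image] at hx
    obtain ⟨i, -, rfl⟩ := hx
    exact sub_mem (hσm _ (u i).2) (u i).2
  obtain ⟨P, hPmin, hPle⟩ := Ideal.exists_minimalPrimes_le hJle
  have hPprime : P.IsPrime := hPmin.1.1
  have hht : P.height ≤ s.card := Ideal.height_le_card_of_mem_minimalPrimes_span_finset hPmin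
  have hcardle : s.card ≤ d := by
    rw [hs]
    exact Finset.card_image_le.trans (by rw [Finset.card_univ, Fintype.card_fin])
  have hPne : P ≠ maximalIdeal A := by
    intro hPm
    have h1 : ((maximalIdeal A).height : WithBot ℕ∞) = ringKrullDim A :=
      IsLocalRing.maximalIdeal_height_eq_ringKrullDim
    rw [← hn] at h1
    have h2 : (maximalIdeal A).height = (Module.finrank (ResidueField A) (CotangentSpace A) : ℕ∞) := by
      exact_mod_cast h1
    rw [hPm, h2] at hht
    have h3 : (Module.finrank (ResidueField A) (CotangentSpace A) : ℕ∞) ≤ (d : ℕ∞) :=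
      hht.trans (by exact_mod_cast hcardle)
    have h4 : Module.finrank (ResidueField A) (CotangentSpace A) ≤ d := by exact_mod_cast h3
    omega
  have hinert := hram P hPprime hPne
  have hmem : σ ∈ P.inertia G := by
    intro a
    exact hPmin.1.2 (hall' a)
  rw [hinert, Subgroup.mem_bot] at hmem
  exact hσ hmem

end Main

end Groth.Agent.Lib.Helper26.W793
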