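import Mathlib

set_option autoImplicit false

namespace Groth.Agent.Lib.Helper26

open TensorProduct

/-- A flat surjective ring hom has idempotent kernel. -/
theorem ker_isIdempotentElem_of_flat_of_surjective {R S : Type*} [CommRing R] [CommRing S]
    (f : R →+* S) (hf : f.Flat) (hs : Function.Surjective f) :
    IsIdempotentElem (RingHom.ker f) := by
  algebraize [f]
  have : Module.Flat R (R ⧸ RingHom.ker f) := by
    have e : (R ⧸ RingHom.ker (algebraMap R S)) ≃ₐ[R] S :=
      Ideal.quotientKerAlgEquivOfSurjective (f := Algebra.ofId R S) hs
    exact Module.Flat.of_linearEquiv e.toLinearEquiv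
  exact Ideal.isIdempotentElem_of_pure (RingHom.ker f)

/-- Weakly étale algebras are formally unramified. -/
theorem formallyUnramified_of_weaklyEtale (R S : Type*) [CommRing R] [CommRing S] [Algebra R S]
    [Algebra.WeaklyEtale R S] : Algebra.FormallyUnramified R S := by
  constructor
  have h := Algebra.WeaklyEtale.flat_lmul' R S
  have hs : Function.Surjective (Algebra.TensorProduct.lmul' R (S := S)).toRingHom :=
    fun x => ⟨x ⊗ₜ 1, by simp⟩
  have := ker_isIdempotentElem_of_flat_of_surjective
    (Algebra.TensorProduct.lmul' R (S := S)).toRingHom h hs
  exact (Ideal.cotangent_subsingleton_iff _).mpr this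

/-- If `R → S → T` with `T` flat over `R` and faithfully flat over `S`, then `S` is flat over `R`. -/
theorem flat_of_flat_of_faithfullyFlat (R S T : Type*) [CommRing R] [CommRing S] [CommRing T]
    [Algebra R S] [Algebra S T] [Algebra R T] [IsScalarTower R S T]
    [Module.Flat R T] [Module.FaithfullyFlat S T] : Module.Flat R S := by
  rw [Module.Flat.iff_lTensor_injective']
  intro I
  have h1 : Function.Injective (LinearMap.lTensor T I.subtype) :=
    Module.Flat.lTensor_preserves_injective_linearMap _ I.injective_subtype
  have key : ∀ x : T ⊗[S] (S ⊗[R] I),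
      AlgebraTensorModule.cancelBaseChange R S S T R
        (LinearMap.lTensor T (LinearMap.baseChange S I.subtype) x) =
      LinearMap.lTensor T I.subtype (AlgebraTensorModule.cancelBaseChange R S S T I x) := by
    intro x
    induction x using TensorProduct.induction_on with
    | zero => simp
    | add x y hx hy => simp only [map_add, hx, hy]
    | tmul t y =>
      induction y using TensorProduct.induction_on with
      | zero => simp
      | add x y hx hy => simp only [map_add, tmul_add, hx, hy]
      | tmul s i => simp
  have h2 : Function.Injective (LinearMap.lTensor T (LinearMap.baseChange S I.subtype)) := by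
    intro x y hxy
    have := congrArg (AlgebraTensorModule.cancelBaseChange R S S T R) hxy
    rw [key, key] at this
    exact (AlgebraTensorModule.cancelBaseChange R S S T I).injective (h1 this)
  exact (Module.FaithfullyFlat.lTensor_injective_iff_injective S T
    (LinearMap.baseChange S I.subtype)).mp h2

/-- Descent of the flatness of the multiplication map to a subalgebra `S'` over which `S` is
faithfully flat. -/
theorem flat_lmul'_of_faithfullyFlat (R S' S : Type*) [CommRing R] [CommRing S'] [CommRing S]
    [Algebra R S'] [Algebra R S] [Algebra S' S] [IsScalarTower R S' S]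
    [Module.FaithfullyFlat S' S] [Module.Flat R S'] [Module.Flat R S]
    (h : (Algebra.TensorProduct.lmul' R (S := S)).Flat) :
    (Algebra.TensorProduct.lmul' R (S := S')).Flat := by
  let ι : S' →ₐ[R] S := IsScalarTower.toAlgHom R S' S
  have hι : ι.Flat := by
    change (algebraMap S' S).Flat
    rw [RingHom.flat_algebraMap_iff]
    infer_instance
  have h1 : (Algebra.TensorProduct.map ι ι).Flat := RingHom.Flat.tensorProductMap hι hι
  have h2 : ((Algebra.TensorProduct.lmul' R (S := S)).toRingHom.comp
      (Algebra.TensorProduct.map ι ι).toRingHom).Flat := RingHom.Flat.comp h1 h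
  have h3 : (Algebra.TensorProduct.lmul' R (S := S)).toRingHom.comp
      (Algebra.TensorProduct.map ι ι).toRingHom =
      (algebraMap S' S).comp (Algebra.TensorProduct.lmul' R (S := S')).toRingHom := by
    have : (Algebra.TensorProduct.lmul' R (S := S)).comp (Algebra.TensorProduct.map ι ι) =
        ι.comp (Algebra.TensorProduct.lmul' R (S := S')) := by
      ext <;> simp
    exact congrArg AlgHom.toRingHom this
  rw [h3] at h2
  algebraize [(Algebra.TensorProduct.lmul' R (S := S')).toRingHom,
    (algebraMap S' S).comp (Algebra.TensorProduct.lmul' R (S := S')).toRingHom]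
  exact flat_of_flat_of_faithfullyFlat (S' ⊗[R] S') S' S


end Groth.Agent.Lib.Helper26
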