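import Mathlib
set_option linter.style.haveILetI false
set_option linter.unusedSectionVars false
open PowerSeries IsLocalRing
open scoped Polynomial

namespace Groth.Agent.Lib.Helper26.WeierstrassFree
universe u
variable {A : Type u} [CommRing A] [IsLocalRing A] [IsAdicComplete (maximalIdeal A) A]

/-- iterated Weierstrass quotients -/
noncomputable def G (f g : A⟦X⟧) (k : ℕ) : A⟦X⟧ := (fun h => h /ʷ f)^[k] g

lemma G_zero (f g : A⟦X⟧) : G f g 0 = g := rfl
lemma G_succ (f g : A⟦X⟧) (k : ℕ) : G f g (k + 1) = G f (g /ʷ f) k := by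
  simp only [G, Function.iterate_succ_apply]

/-- coefficient series -/
noncomputable def cf (f g : A⟦X⟧) (i : ℕ) : A⟦X⟧ :=
  PowerSeries.mk fun k => (G f g k %ʷ f).coeff i

lemma cf_shift (f g : A⟦X⟧) (i : ℕ) :
    cf f g i = C ((g %ʷ f).coeff i) + X * cf f (g /ʷ f) i := by
  ext (_ | k)
  · simp [cf, G_zero]
  · simp only [cf, coeff_mk, map_add, coeff_C, k.succ_ne_zero, if_false, zero_add,
      coeff_succ_X_mul, G_succ]

lemma coe_eq_sum (r : A[X]) (n : ℕ) (hr : r.degree < n) :
    (r : A⟦X⟧) = ∑ i : Fin n, C (r.coeff i) * X ^ (i : ℕ) := by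
  ext d
  rw [Polynomial.coeff_coe, map_sum]
  simp only [coeff_C_mul_X_pow]
  by_cases hd : d < n
  · rw [Finset.sum_eq_single ⟨d, hd⟩]
    · simp
    · intro b _ hb
      rw [if_neg]
      intro h; apply hb; exact Fin.ext h.symm
    · intro h; exact absurd (Finset.mem_univ _) h
  · rw [Finset.sum_eq_zero]
    · apply Polynomial.coeff_eq_zero_of_degree_lt
      exact lt_of_lt_of_le hr (by exact_mod_cast not_lt.mp hd)
    · intro i _
      rw [if_neg]
      intro h; exact hd (h ▸ i.2)

/-- the defect -/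
noncomputable def D (f g : A⟦X⟧) (n : ℕ) : A⟦X⟧ :=
  g - ∑ i : Fin n, subst f (cf f g i) * X ^ (i : ℕ)

lemma D_step (f g : A⟦X⟧) (hf0 : HasSubst f) (hf : f.map (residue A) ≠ 0) :
    D f g (f.map (residue A)).order.toNat = f * D f (g /ʷ f) (f.map (residue A)).order.toNat := by
  set n := (f.map (residue A)).order.toNat with hn
  have h1 : ∀ i : Fin n, subst f (cf f g i) * X ^ (i : ℕ) =
      C ((g %ʷ f).coeff i) * X ^ (i : ℕ) + f * (subst f (cf f (g /ʷ f) i) * X ^ (i : ℕ)) := by
    intro i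
    rw [cf_shift f g i, subst_add hf0, subst_mul hf0, subst_X hf0]
    have : subst f (C ((g %ʷ f).coeff i) : A⟦X⟧) = C ((g %ʷ f).coeff i) := subst_C _
    rw [this]
    ring
  have h2 : ((g %ʷ f : A[X]) : A⟦X⟧) = ∑ i : Fin n, C ((g %ʷ f).coeff i) * X ^ (i : ℕ) :=
    coe_eq_sum _ n (degree_weierstrassMod_lt g f)
  have h3 := eq_mul_weierstrassDiv_add_weierstrassMod g hf
  rw [D, D, Finset.sum_congr rfl fun i _ => h1 i, Finset.sum_add_distrib, ← h2, ← Finset.mul_sum]
  nth_rw 1 [h3]
  ring

lemma D_iter (f g : A⟦X⟧) (hf0 : HasSubst f) (hf : f.map (residue A) ≠ 0) (K : ℕ) :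
    D f g (f.map (residue A)).order.toNat =
      f ^ K * D f (G f g K) (f.map (residue A)).order.toNat := by
  induction K generalizing g with
  | zero => simp [G_zero]
  | succ K ih =>
    rw [D_step f g hf0 hf, ih (g /ʷ f), G_succ, pow_succ']
    ring

lemma D_eq_zero (f g : A⟦X⟧) (hf0 : constantCoeff f = 0) (hf : f.map (residue A) ≠ 0) :
    D f g (f.map (residue A)).order.toNat = 0 := by
  have hs : HasSubst f := HasSubst.of_constantCoeff_zero' hf0
  obtain ⟨f', hf'⟩ := X_dvd_iff.mpr hf0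
  ext d
  rw [map_zero]
  have h1 := D_iter f g hs hf (d + 1)
  have h2 : (X : A⟦X⟧) ^ (d + 1) ∣ D f g (f.map (residue A)).order.toNat := by
    rw [h1, hf', mul_pow, mul_assoc]
    exact dvd_mul_right _ _
  exact X_pow_dvd_iff.mp h2 d (Nat.lt_succ_self d)

theorem exists_decomp (f g : A⟦X⟧) (hf0 : constantCoeff f = 0) (hf : f.map (residue A) ≠ 0) :
    ∃ c : Fin (f.map (residue A)).order.toNat → A⟦X⟧,
      g = ∑ i, subst f (c i) * X ^ (i : ℕ) :=
  ⟨fun i => cf f g i, sub_eq_zero.mp (D_eq_zero f g hf0 hf)⟩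

lemma uniq_aux (f : A⟦X⟧) (hf0 : constantCoeff f = 0) (hf : f.map (residue A) ≠ 0) (K : ℕ) :
    ∀ d : Fin (f.map (residue A)).order.toNat → A⟦X⟧,
      ∑ i, subst f (d i) * X ^ (i : ℕ) = 0 → ∀ i, ∀ k < K, coeff k (d i) = 0 := by
  classical
  have hs : HasSubst f := HasSubst.of_constantCoeff_zero' hf0
  set n := (f.map (residue A)).order.toNat with hn
  induction K with
  | zero => intro d _ i k hk; exact absurd hk (Nat.not_lt_zero k)
  | succ K ih =>
    intro d hd
    let d' : Fin n → A⟦X⟧ := fun i => PowerSeries.mk fun p => coeff (p + 1) (d i)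
    let a : Fin n → A := fun i => constantCoeff (d i)
    have h1 : ∀ i : Fin n, subst f (d i) * X ^ (i : ℕ) =
        f * (subst f (d' i) * X ^ (i : ℕ)) + C (a i) * X ^ (i : ℕ) := by
      intro i
      conv_lhs => rw [eq_X_mul_shift_add_const (d i)]
      rw [subst_add hs, subst_mul hs, subst_X hs]
      have : subst f (C (constantCoeff (d i)) : A⟦X⟧) = C (constantCoeff (d i)) := subst_C _
      rw [this]
      ring
    let r : A[X] := Polynomial.ofFn n a
    have hrdeg : r.degree < n := Polynomial.ofFn_degree_lt a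
    have hr : (r : A⟦X⟧) = ∑ i : Fin n, C (a i) * X ^ (i : ℕ) := by
      rw [coe_eq_sum r n hrdeg]
      refine Finset.sum_congr rfl fun i _ => ?_
      rw [Polynomial.ofFn_coeff_eq_val_of_lt a i.2]
    have hdiv : IsWeierstrassDivision 0 f (∑ i : Fin n, subst f (d' i) * X ^ (i : ℕ)) r := by
      refine ⟨hrdeg, ?_⟩
      rw [hr, Finset.mul_sum, ← Finset.sum_add_distrib, ← hd]
      exact Finset.sum_congr rfl fun i _ => h1 i
    obtain ⟨hq, hr0⟩ := hdiv.eq_zero hf
    have ha : ∀ i, a i = 0 := by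
      intro i
      have := Polynomial.ofFn_coeff_eq_val_of_lt a i.2
      rw [← this]
      change r.coeff i = 0
      rw [hr0, Polynomial.coeff_zero]
    intro i k hk
    rcases k with _ | k
    · rw [coeff_zero_eq_constantCoeff_apply]; exact ha i
    · have := ih d' hq i k (by omega)
      simpa [d'] using this

theorem unique_decomp (f : A⟦X⟧) (hf0 : constantCoeff f = 0) (hf : f.map (residue A) ≠ 0)
    (c c' : Fin (f.map (residue A)).order.toNat → A⟦X⟧)
    (h : ∑ i, subst f (c i) * X ^ (i : ℕ) = ∑ i, subst f (c' i) * X ^ (i : ℕ)) : c = c' := by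
  have hs : HasSubst f := HasSubst.of_constantCoeff_zero' hf0
  funext i
  ext k
  have h1 : ∑ i, subst f (c i - c' i) * X ^ (i : ℕ) = 0 := by
    simp only [subst_sub hs, sub_mul, Finset.sum_sub_distrib, h, sub_self]
  have := uniq_aux f hf0 hf (k + 1) (fun i => c i - c' i) h1 i k (Nat.lt_succ_self k)
  rw [map_sub, sub_eq_zero] at this
  exact this

theorem free_of_map_ne_zero (f : A⟦X⟧) (hf0 : constantCoeff f = 0) (hf : f.map (residue A) ≠ 0)
    (g : A⟦X⟧) :
    ∃! c : Fin (f.map (residue A)).order.toNat → A⟦X⟧,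
      g = ∑ i, subst f (c i) * X ^ (i : ℕ) := by
  obtain ⟨c, hc⟩ := exists_decomp f g hf0 hf
  refine ⟨c, hc, fun c' hc' => ?_⟩
  exact unique_decomp f hf0 hf c' c (hc'.symm.trans hc)


section NotSpan
omit [IsAdicComplete (maximalIdeal A) A]

lemma linearIndependent_X_pow (k : Type*) [Field k] (n : ℕ) :
    LinearIndependent k (fun j : Fin n => (X : k⟦X⟧) ^ (j : ℕ)) := by
  rw [Fintype.linearIndependent_iff]
  intro g hg i
  have := congrArg (coeff (i : ℕ)) hg
  rw [map_sum, map_zero] at this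
  simp only [coeff_smul, coeff_X_pow, smul_eq_mul, mul_ite, mul_one, mul_zero] at this
  rw [Finset.sum_eq_single i] at this
  · simpa using this
  · intro j _ hj
    rw [if_neg]
    intro h; exact hj (Fin.ext h.symm)
  · intro h; exact absurd (Finset.mem_univ _) h

theorem not_span_of_map_eq_zero (f : A⟦X⟧) (hs : HasSubst f) (hf : f.map (residue A) = 0)
    (n : ℕ) (b : Fin n → A⟦X⟧)
    (h : ∀ g : A⟦X⟧, ∃ c : Fin n → A⟦X⟧, g = ∑ i, subst f (c i) * b i) : False := by
  let k := ResidueField A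
  let ρ : A⟦X⟧ →+* k⟦X⟧ := PowerSeries.map (residue A)
  have hρ : Function.Surjective ρ := PowerSeries.map_surjective _ (residue_surjective)
  have hsub : ∀ c : A⟦X⟧, ρ (subst f c) = C (constantCoeff (ρ c)) := by
    intro c
    have h1 := PowerSeries.map_subst hs (h := residue A) c
    have hf' : MvPowerSeries.map (residue A) f = 0 := hf
    rw [hf'] at h1
    have h2 := subst_zero_eq_C_constantCoeff (R := k) (S := k) (τ := Unit)
      (f := (PowerSeries.map (residue A)) c)
    rw [h2] at h1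
    change MvPowerSeries.map (residue A) (subst f c) = _
    rw [h1]
    simp
    rfl
  let L : (Fin n → k) →ₗ[k] k⟦X⟧ :=
    { toFun := fun α => ∑ i, α i • ρ (b i)
      map_add' := fun α β => by simp [add_smul, Finset.sum_add_distrib]
      map_smul' := fun t α => by simp [mul_smul, Finset.smul_sum] }
  have hL : Function.Surjective L := by
    intro y
    obtain ⟨g, rfl⟩ := hρ y
    obtain ⟨c, hc⟩ := h g
    refine ⟨fun i => constantCoeff (ρ (c i)), ?_⟩
    change ∑ i, constantCoeff (ρ (c i)) • ρ (b i) = ρ g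
    rw [hc, map_sum]
    refine Finset.sum_congr rfl fun i _ => ?_
    rw [map_mul, hsub, smul_eq_C_mul]
  choose v hv using fun j : Fin (n + 1) => hL ((X : k⟦X⟧) ^ (j : ℕ))
  have hli : LinearIndependent k v := by
    apply LinearIndependent.of_comp L
    have : L ∘ v = fun j : Fin (n + 1) => (X : k⟦X⟧) ^ (j : ℕ) := funext hv
    rw [this]
    exact linearIndependent_X_pow k (n + 1)
  have := hli.fintype_card_le_finrank
  rw [Fintype.card_fin, Module.finrank_fin_fun] at this
  omega


end NotSpan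

end Groth.Agent.Lib.Helper26.WeierstrassFree
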