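import Mathlib
import Groth.Prelude.Def_W4c2invhilbsl2

/-!
# Monomial analysis of weighted homogeneous polynomials
-/

set_option autoImplicit false
universe u
open MvPolynomial

namespace Groth.Agent.Lib.Helper26.WeightedMonomials

variable {k : Type*} [CommRing k] {σ : Type*} {M : Type*} [AddCommGroup M] (w : σ → M)

/-- induction over the monomials of a weighted homogeneous polynomial -/
theorem wh_induction {P : MvPolynomial σ k → Prop} (ν : M) (h0 : P 0)
    (hadd : ∀ f g, P f → P g → P (f + g))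
    (hmon : ∀ (d : σ →₀ ℕ) (c : k), Finsupp.weight w d = ν → P (monomial d c))
    (f : MvPolynomial σ k) (hf : f ∈ weightedHomogeneousSubmodule k w ν) : P f := by
  rw [← f.support_sum_monomial_coeff]
  apply Finset.sum_induction _ P hadd h0
  intro d hd
  exact hmon d _ (hf (mem_support_iff.1 hd))

theorem eq_sub_add_single [DecidableEq σ] (d : σ →₀ ℕ) (i : σ) (n : ℕ) (h : n ≤ d i) :
    d = (d - Finsupp.single i n) + Finsupp.single i n := by
  ext j
  by_cases hj : j = i
  · subst hj
    simp only [Finsupp.coe_add, Finsupp.coe_tsub, Pi.add_apply, Pi.sub_apply,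
      Finsupp.single_eq_same]
    omega
  · simp [Finsupp.single_eq_of_ne hj]

theorem monomial_eq_mul_X_pow [DecidableEq σ] (d : σ →₀ ℕ) (c : k) (i : σ) (n : ℕ) (h : n ≤ d i) :
    monomial d c = monomial (d - Finsupp.single i n) c * X i ^ n := by
  rw [X_pow_eq_monomial, monomial_mul, mul_one, ← eq_sub_add_single d i n h]

theorem weight_sub_single [DecidableEq σ] (d : σ →₀ ℕ) (i : σ) (n : ℕ) (h : n ≤ d i) :
    Finsupp.weight w (d - Finsupp.single i n) = Finsupp.weight w d - n • w i := by
  conv_rhs => rw [eq_sub_add_single d i n h]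
  rw [map_add, Finsupp.weight_single, add_sub_cancel_right]

/-- factor `X i ^ n` out of a monomial of weight `ν` -/
theorem exists_factor [DecidableEq σ] (d : σ →₀ ℕ) (c : k) (ν : M) (hν : Finsupp.weight w d = ν)
    (i : σ) (n : ℕ) (h : n ≤ d i) :
    ∃ g : MvPolynomial σ k, g ∈ weightedHomogeneousSubmodule k w (ν - n • w i) ∧
      monomial d c = g * X i ^ n := by
  refine ⟨monomial (d - Finsupp.single i n) c, ?_, monomial_eq_mul_X_pow d c i n h⟩
  exact isWeightedHomogeneous_monomial w _ c (by rw [weight_sub_single w d i n h, hν])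

theorem exists_factor_one [DecidableEq σ] (d : σ →₀ ℕ) (c : k) (ν : M)
    (hν : Finsupp.weight w d = ν) (i : σ) (h : 1 ≤ d i) :
    ∃ g : MvPolynomial σ k, g ∈ weightedHomogeneousSubmodule k w (ν - w i) ∧
      monomial d c = g * X i := by
  obtain ⟨g, hg, e⟩ := exists_factor w d c ν hν i 1 h
  rw [one_smul] at hg
  rw [pow_one] at e
  exact ⟨g, hg, e⟩

/-- factor `X i * X j` out of a monomial (for `i ≠ j`) -/
theorem exists_factor_two [DecidableEq σ] (d : σ →₀ ℕ) (c : k) (ν : M)
    (hν : Finsupp.weight w d = ν) (i j : σ) (hij : i ≠ j) (hi : 1 ≤ d i) (hj : 1 ≤ d j) :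
    ∃ g : MvPolynomial σ k, g ∈ weightedHomogeneousSubmodule k w (ν - w i - w j) ∧
      monomial d c = g * (X i * X j) := by
  have h1 := weight_sub_single w d i 1 hi
  rw [one_smul, hν] at h1
  have hj' : 1 ≤ (d - Finsupp.single i 1 : σ →₀ ℕ) j := by
    rw [Finsupp.tsub_apply, Finsupp.single_eq_of_ne hij.symm, Nat.sub_zero]
    exact hj
  obtain ⟨g, hg, e⟩ := exists_factor_one w (d - Finsupp.single i 1) c _ h1 j hj'
  refine ⟨g, hg, ?_⟩
  rw [monomial_eq_mul_X_pow d c i 1 hi, e, pow_one]
  ring

end Groth.Agent.Lib.Helper26.WeightedMonomials
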