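import Mathlib
import Groth.Prelude.Def_W4c2invhilbsl2
import Groth.Agent.Lib.Helper26.WeightedMonomials

set_option autoImplicit false
set_option linter.style.haveILetI false
set_option linter.unusedSectionVars false

open MvPolynomial W4c2invhilbsl2

namespace Groth.Agent.Lib.Helper26.WM2

variable {k : Type*} [Field k] (p q m : ℕ) (s : k)

local notation "Q" => MvPolynomial (Fin 5) k ⧸ idealI k p q m s

/-- the class of `X i` -/
noncomputable def x (i : Fin 5) : MvPolynomial (Fin 5) k ⧸ idealI k p q m s :=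
  Ideal.Quotient.mk _ (X i)

theorem rel1 : x p q m s 0 ^ (q - p) = x p q m s 1 * x p q m s 4 := by
  unfold x
  rw [← map_pow, ← map_mul, ← sub_eq_zero, ← map_sub, Ideal.Quotient.eq_zero_iff_mem]
  exact Ideal.subset_span (by simp)

theorem rel2 : x p q m s 2 = 0 := by
  unfold x
  rw [Ideal.Quotient.eq_zero_iff_mem]
  exact Ideal.subset_span (by simp)

theorem rel3 : x p q m s 3 = 0 := by
  unfold x
  rw [Ideal.Quotient.eq_zero_iff_mem]
  exact Ideal.subset_span (by simp)

theorem rel4 : x p q m s 0 ^ (m * p) * x p q m s 1 ^ m =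
    algebraMap k (MvPolynomial (Fin 5) k ⧸ idealI k p q m s) s := by
  unfold x
  rw [← map_pow, ← map_pow, ← map_mul, eq_comm, ← sub_eq_zero]
  have : algebraMap k (MvPolynomial (Fin 5) k ⧸ idealI k p q m s) s =
      Ideal.Quotient.mk _ (C s) := rfl
  rw [this, ← map_sub, Ideal.Quotient.eq_zero_iff_mem]
  exact Ideal.subset_span (by simp)

/-- the monomial `x0^a x1^b x4^c` in the quotient -/
noncomputable def Mo (a b c : ℕ) : MvPolynomial (Fin 5) k ⧸ idealI k p q m s :=
  x p q m s 0 ^ a * x p q m s 1 ^ b * x p q m s 4 ^ c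

theorem lemA (a b c j : ℕ) : Mo p q m s (a + (q - p) * j) b c = Mo p q m s a (b + j) (c + j) := by
  unfold Mo
  rw [pow_add, pow_mul, rel1, mul_pow, pow_add, pow_add]
  ring

theorem lemB (a b c t : ℕ) :
    Mo p q m s (a + m * p * t) (b + m * t) c = s ^ t • Mo p q m s a b c := by
  unfold Mo
  rw [pow_add, pow_add, pow_mul, pow_mul (x p q m s 1)]
  have : x p q m s 0 ^ a * (x p q m s 0 ^ (m * p)) ^ t * (x p q m s 1 ^ b * (x p q m s 1 ^ m) ^ t) *
      x p q m s 4 ^ c = (x p q m s 0 ^ (m * p) * x p q m s 1 ^ m) ^ t *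
        (x p q m s 0 ^ a * x p q m s 1 ^ b * x p q m s 4 ^ c) := by ring
  rw [this, rel4, ← map_pow, ← Algebra.smul_def]

/-- comparison of two monomials of the same weight -/
theorem lemC (hpq : p < q) (a b c a' b' c' t : ℕ)
    (h1 : (a : ℤ) - p * b + q * c = a' - p * b' + q * c')
    (h2 : (b' : ℤ) - c' = b - c + m * t) :
    Mo p q m s a' b' c' = s ^ t • Mo p q m s a b c := by
  rcases le_total (b + m * t) b' with hle | hle
  · obtain ⟨j, hj⟩ := Nat.exists_eq_add_of_le hle
    have hc : c' = c + j := by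
      have : (b' : ℤ) = b + m * t + j := by exact_mod_cast hj
      omega
    have ha : a + m * p * t = a' + (q - p) * j := by
      have hqp : ((q - p : ℕ) : ℤ) = q - p := Nat.cast_sub hpq.le
      have : (a : ℤ) + m * p * t = a' + (q - p) * j := by
        have hb' : (b' : ℤ) = b + m * t + j := by exact_mod_cast hj
        have hc' : (c' : ℤ) = c + j := by exact_mod_cast hc
        rw [hb', hc'] at h1
        linear_combination h1
      have h3 : ((a + m * p * t : ℕ) : ℤ) = ((a' + (q - p) * j : ℕ) : ℤ) := by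
        push_cast
        rw [hqp]
        exact this
      exact_mod_cast h3
    rw [hj, hc, ← lemA, ← ha, lemB]
  · obtain ⟨j, hj⟩ := Nat.exists_eq_add_of_le hle
    have hc : c = c' + j := by
      have : (b : ℤ) + m * t = b' + j := by exact_mod_cast hj
      omega
    have ha : a' = a + m * p * t + (q - p) * j := by
      have hqp : ((q - p : ℕ) : ℤ) = q - p := Nat.cast_sub hpq.le
      have : (a' : ℤ) = a + m * p * t + (q - p) * j := by
        have hb' : (b : ℤ) + m * t = b' + j := by exact_mod_cast hj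
        have hc' : (c : ℤ) = c' + j := by exact_mod_cast hc
        have hb'' : (b' : ℤ) = b + m * t - j := by linarith
        rw [hb'', hc'] at h1
        linear_combination -h1
      have h3 : ((a' : ℕ) : ℤ) = ((a + m * p * t + (q - p) * j : ℕ) : ℤ) := by
        push_cast
        rw [hqp]
        exact this
      exact_mod_cast h3
    rw [ha, lemA, ← hj, ← hc, lemB]

theorem weight_eq (d : Fin 5 →₀ ℕ) :
    Finsupp.weight (wt5 p q m) d =
      ((d 0 : ℤ) - p * (d 1 + d 2) + q * (d 3 + d 4),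
        ((d 3 : ZMod m) + d 4) - (d 1 + d 2)) := by
  rw [Finsupp.weight_apply, Finsupp.sum_fintype _ _ (fun i => by simp), Fin.sum_univ_five]
  simp only [wt5]
  ext
  · simp
    ring
  · simp
    ring

theorem mk_monomial (d : Fin 5 →₀ ℕ) (c : k) :
    Ideal.Quotient.mk (idealI k p q m s) (monomial d c) =
      c • (x p q m s 0 ^ d 0 * x p q m s 1 ^ d 1 * x p q m s 2 ^ d 2 * x p q m s 3 ^ d 3 *
        x p q m s 4 ^ d 4) := by
  rw [monomial_eq, Finsupp.prod_fintype _ _ (fun i => by simp), Fin.prod_univ_five, map_mul]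
  simp only [map_mul, map_pow]
  exact (Algebra.smul_def (A := MvPolynomial (Fin 5) k ⧸ idealI k p q m s) c _).symm

theorem mk_monomial_zero (d : Fin 5 →₀ ℕ) (c : k) (h : d 2 ≠ 0 ∨ d 3 ≠ 0) :
    Ideal.Quotient.mk (idealI k p q m s) (monomial d c) = 0 := by
  rw [mk_monomial]
  rcases h with h | h
  · rw [rel2, zero_pow h]; simp
  · rw [rel3, zero_pow h]; simp

theorem mk_monomial_Mo (d : Fin 5 →₀ ℕ) (c : k) (h2 : d 2 = 0) (h3 : d 3 = 0) :
    Ideal.Quotient.mk (idealI k p q m s) (monomial d c) = c • Mo p q m s (d 0) (d 1) (d 4) := by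
  rw [mk_monomial, h2, h3, pow_zero, pow_zero, mul_one, mul_one]
  rfl

/-- two monomials of the same weight are comparable in the quotient -/
theorem comparable (hpq : p < q) (d d' : Fin 5 →₀ ℕ)
    (h2 : d 2 = 0) (h3 : d 3 = 0) (h2' : d' 2 = 0) (h3' : d' 3 = 0)
    (hw : Finsupp.weight (wt5 p q m) d = Finsupp.weight (wt5 p q m) d') :
    ∃ t : ℕ, Mo p q m s (d' 0) (d' 1) (d' 4) = s ^ t • Mo p q m s (d 0) (d 1) (d 4) ∨
      Mo p q m s (d 0) (d 1) (d 4) = s ^ t • Mo p q m s (d' 0) (d' 1) (d' 4) := by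
  rw [weight_eq, weight_eq, h2, h3, h2', h3'] at hw
  have hw1 := congrArg Prod.fst hw
  have hw2 := congrArg Prod.snd hw
  simp only [Nat.cast_zero, add_zero, zero_add] at hw1 hw2
  have hdvd : (m : ℤ) ∣ ((d' 1 : ℤ) - d' 4) - (d 1 - d 4) := by
    rw [← ZMod.intCast_zmod_eq_zero_iff_dvd]
    push_cast
    linear_combination hw2
  obtain ⟨z, hz⟩ := hdvd
  rcases le_total 0 z with hz0 | hz0
  · refine ⟨z.toNat, Or.inl ?_⟩
    apply lemC p q m s hpq
    · exact hw1
    · rw [Int.toNat_of_nonneg hz0]; linarith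
  · refine ⟨(-z).toNat, Or.inr ?_⟩
    apply lemC p q m s hpq
    · exact hw1.symm
    · rw [Int.toNat_of_nonneg (by linarith)]; linarith

theorem exists_span (hpq : p < q) (ν : ℤ × ZMod m) :
    ∃ v₀, piece k (wt5 p q m) (idealI k p q m s) ν ≤ Submodule.span k {v₀} := by
  classical
  -- choose the generator
  by_cases hex : ∃ d : Fin 5 →₀ ℕ, Finsupp.weight (wt5 p q m) d = ν ∧ d 2 = 0 ∧ d 3 = 0 ∧
      Mo p q m s (d 0) (d 1) (d 4) ≠ 0
  · obtain ⟨d₀, hw₀, h2₀, h3₀, hne⟩ := hex
    refine ⟨Mo p q m s (d₀ 0) (d₀ 1) (d₀ 4), ?_⟩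
    rintro _ ⟨f, hf, rfl⟩
    refine WeightedMonomials.wh_induction (wt5 p q m)
      (P := fun f => (Ideal.Quotient.mkₐ k (idealI k p q m s)).toLinearMap f ∈
        Submodule.span k {Mo p q m s (d₀ 0) (d₀ 1) (d₀ 4)}) ν ?_ ?_ ?_ f hf
    · simp
    · intro f g hf hg
      rw [map_add]
      exact Submodule.add_mem _ hf hg
    · intro d c hd
      change Ideal.Quotient.mk _ (monomial d c) ∈ _
      by_cases h23 : d 2 ≠ 0 ∨ d 3 ≠ 0
      · rw [mk_monomial_zero p q m s d c h23]
        exact Submodule.zero_mem _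
      · push Not at h23
        rw [mk_monomial_Mo p q m s d c h23.1 h23.2]
        apply Submodule.smul_mem
        obtain ⟨t, ht | ht⟩ := comparable p q m s hpq d₀ d h2₀ h3₀ h23.1 h23.2 (hw₀.trans hd.symm)
        · rw [ht]
          exact Submodule.smul_mem _ _ (Submodule.mem_span_singleton_self _)
        · have hst : s ^ t ≠ 0 := by
            intro h0
            rw [h0, zero_smul] at ht
            exact hne ht
          have : Mo p q m s (d 0) (d 1) (d 4) = (s ^ t)⁻¹ • Mo p q m s (d₀ 0) (d₀ 1) (d₀ 4) := by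
            rw [ht, smul_smul, inv_mul_cancel₀ hst, one_smul]
          rw [this]
          exact Submodule.smul_mem _ _ (Submodule.mem_span_singleton_self _)
  · push Not at hex
    refine ⟨0, ?_⟩
    rintro _ ⟨f, hf, rfl⟩
    refine WeightedMonomials.wh_induction (wt5 p q m)
      (P := fun f => (Ideal.Quotient.mkₐ k (idealI k p q m s)).toLinearMap f ∈
        Submodule.span k {(0 : MvPolynomial (Fin 5) k ⧸ idealI k p q m s)}) ν ?_ ?_ ?_ f hf
    · simp
    · intro f g hf hg
      rw [map_add]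
      exact Submodule.add_mem _ hf hg
    · intro d c hd
      change Ideal.Quotient.mk _ (monomial d c) ∈ _
      by_cases h23 : d 2 ≠ 0 ∨ d 3 ≠ 0
      · rw [mk_monomial_zero p q m s d c h23]
        exact Submodule.zero_mem _
      · push Not at h23
        rw [mk_monomial_Mo p q m s d c h23.1 h23.2, hex d hd h23.1 h23.2, smul_zero]
        exact Submodule.zero_mem _

theorem rank_piece_le_one (hpq : p < q) (ν : ℤ × ZMod m) :
    Module.rank k (piece k (wt5 p q m) (idealI k p q m s) ν) ≤ 1 :=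
  (rank_submodule_le_one_iff' _).2 (exists_span p q m s hpq ν)

end Groth.Agent.Lib.Helper26.WM2
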