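import Mathlib
import Groth.Prelude.Def_W4c2invhilbsl2
import Groth.Agent.Lib.Helper26.WeightedMonomials2

set_option autoImplicit false
set_option linter.style.haveILetI false
set_option linter.unusedSectionVars false

open MvPolynomial W4c2invhilbsl2

namespace Groth.Agent.Lib.Helper26.WM3

section Generic

variable {k : Type*} [Field k] {σ : Type*} {M : Type*} [AddCommGroup M] (w : σ → M)
  (I : Ideal (MvPolynomial σ k))

/-- if the classes of any two monomials of weight `ν` are proportional, the weight piece has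
dimension at most one -/
theorem rank_piece_le_one_of_comparable (ν : M)
    (hcomp : ∀ d d' : σ →₀ ℕ, Finsupp.weight w d = ν → Finsupp.weight w d' = ν →
      ∃ c : k, Ideal.Quotient.mk I (monomial d' 1) = c • Ideal.Quotient.mk I (monomial d 1) ∨
        Ideal.Quotient.mk I (monomial d 1) = c • Ideal.Quotient.mk I (monomial d' 1)) :
    Module.rank k (piece k w I ν) ≤ 1 := by
  classical
  rw [rank_submodule_le_one_iff']
  have hmon : ∀ (d : σ →₀ ℕ) (c : k), Ideal.Quotient.mk I (monomial d c) =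
      c • Ideal.Quotient.mk I (monomial d 1) := by
    intro d c
    have : monomial d c = c • (monomial d (1 : k)) := by
      rw [smul_monomial, smul_eq_mul, mul_one]
    rw [this]
    rfl
  by_cases hex : ∃ d : σ →₀ ℕ, Finsupp.weight w d = ν ∧ Ideal.Quotient.mk I (monomial d 1) ≠ 0
  · obtain ⟨d₀, hw₀, hne⟩ := hex
    refine ⟨Ideal.Quotient.mk I (monomial d₀ 1), ?_⟩
    rintro _ ⟨f, hf, rfl⟩
    refine WeightedMonomials.wh_induction w
      (P := fun f => (Ideal.Quotient.mkₐ k I).toLinearMap f ∈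
        Submodule.span k {Ideal.Quotient.mk I (monomial d₀ 1)}) ν ?_ ?_ ?_ f hf
    · simp
    · intro f g hf hg
      rw [map_add]
      exact Submodule.add_mem _ hf hg
    · intro d c hd
      change Ideal.Quotient.mk I (monomial d c) ∈ _
      rw [hmon d c]
      apply Submodule.smul_mem
      obtain ⟨t, ht | ht⟩ := hcomp d₀ d hw₀ hd
      · rw [ht]
        exact Submodule.smul_mem _ _ (Submodule.mem_span_singleton_self _)
      · have hst : t ≠ 0 := by
          intro h0
          rw [h0, zero_smul] at ht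
          exact hne ht
        have : Ideal.Quotient.mk I (monomial d 1) =
            t⁻¹ • Ideal.Quotient.mk I (monomial d₀ 1) := by
          rw [ht, smul_smul, inv_mul_cancel₀ hst, one_smul]
        rw [this]
        exact Submodule.smul_mem _ _ (Submodule.mem_span_singleton_self _)
  · push Not at hex
    refine ⟨0, ?_⟩
    rintro _ ⟨f, hf, rfl⟩
    refine WeightedMonomials.wh_induction w
      (P := fun f => (Ideal.Quotient.mkₐ k I).toLinearMap f ∈
        Submodule.span k {(0 : MvPolynomial σ k ⧸ I)}) ν ?_ ?_ ?_ f hf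
    · simp
    · intro f g hf hg
      rw [map_add]
      exact Submodule.add_mem _ hf hg
    · intro d c hd
      change Ideal.Quotient.mk I (monomial d c) ∈ _
      rw [hmon d c, hex d hd, smul_zero]
      exact Submodule.zero_mem _

end Generic

section J

variable {k : Type*} [Field k] (p q m : ℕ) (s : k)

/-- the class of `X i` -/
noncomputable def y (i : Fin 5) : MvPolynomial (Fin 5) k ⧸ idealJ k p q m s :=
  Ideal.Quotient.mk _ (X i)

theorem relJ0 : y p q m s 0 ^ Nat.gcd m (q - p) = 0 := by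
  unfold y
  rw [← map_pow, Ideal.Quotient.eq_zero_iff_mem]
  exact Ideal.subset_span (by simp)

theorem relJ2 : y p q m s 2 = 0 := by
  unfold y
  rw [Ideal.Quotient.eq_zero_iff_mem]
  exact Ideal.subset_span (by simp)

theorem relJ4 : y p q m s 4 = 0 := by
  unfold y
  rw [Ideal.Quotient.eq_zero_iff_mem]
  exact Ideal.subset_span (by simp)

theorem relJs : y p q m s 1 ^ (m / Nat.gcd m (q - p) * q) * y p q m s 3 ^ (m / Nat.gcd m (q - p) * p) =
    algebraMap k (MvPolynomial (Fin 5) k ⧸ idealJ k p q m s) s := by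
  unfold y
  rw [← map_pow, ← map_pow, ← map_mul, eq_comm, ← sub_eq_zero]
  have : algebraMap k (MvPolynomial (Fin 5) k ⧸ idealJ k p q m s) s =
      Ideal.Quotient.mk _ (C s) := rfl
  rw [this, ← map_sub, Ideal.Quotient.eq_zero_iff_mem]
  exact Ideal.subset_span (by simp)

/-- the monomial `x0^i x1^b x3^c` in the quotient -/
noncomputable def No (i b c : ℕ) : MvPolynomial (Fin 5) k ⧸ idealJ k p q m s :=
  y p q m s 0 ^ i * y p q m s 1 ^ b * y p q m s 3 ^ c

theorem No_zero (i b c : ℕ) (hi : Nat.gcd m (q - p) ≤ i) : No p q m s i b c = 0 := by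
  unfold No
  obtain ⟨j, rfl⟩ := Nat.exists_eq_add_of_le hi
  rw [pow_add, relJ0, zero_mul, zero_mul, zero_mul]

theorem lemB' (i b c t : ℕ) :
    No p q m s i (b + t * (m / Nat.gcd m (q - p) * q)) (c + t * (m / Nat.gcd m (q - p) * p)) =
      s ^ t • No p q m s i b c := by
  unfold No
  rw [pow_add, pow_add, mul_comm t, mul_comm t, pow_mul, pow_mul (y p q m s 3)]
  have : y p q m s 0 ^ i * (y p q m s 1 ^ b * (y p q m s 1 ^ (m / Nat.gcd m (q - p) * q)) ^ t) *
      (y p q m s 3 ^ c * (y p q m s 3 ^ (m / Nat.gcd m (q - p) * p)) ^ t) =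
      (y p q m s 1 ^ (m / Nat.gcd m (q - p) * q) * y p q m s 3 ^ (m / Nat.gcd m (q - p) * p)) ^ t *
        (y p q m s 0 ^ i * y p q m s 1 ^ b * y p q m s 3 ^ c) := by ring
  rw [this, relJs, ← map_pow, ← Algebra.smul_def]

theorem mk_monomialJ (d : Fin 5 →₀ ℕ) (c : k) :
    Ideal.Quotient.mk (idealJ k p q m s) (monomial d c) =
      c • (y p q m s 0 ^ d 0 * y p q m s 1 ^ d 1 * y p q m s 2 ^ d 2 * y p q m s 3 ^ d 3 *
        y p q m s 4 ^ d 4) := by
  rw [monomial_eq, Finsupp.prod_fintype _ _ (fun i => by simp), Fin.prod_univ_five, map_mul]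
  simp only [map_mul, map_pow]
  exact (Algebra.smul_def (A := MvPolynomial (Fin 5) k ⧸ idealJ k p q m s) c _).symm

theorem mk_monomialJ_zero (d : Fin 5 →₀ ℕ) (h : d 2 ≠ 0 ∨ d 4 ≠ 0 ∨ Nat.gcd m (q - p) ≤ d 0) :
    Ideal.Quotient.mk (idealJ k p q m s) (monomial d 1) = 0 := by
  rw [mk_monomialJ]
  rcases h with h | h | h
  · rw [relJ2, zero_pow h]; simp
  · rw [relJ4, zero_pow h]; simp
  · obtain ⟨j, hj⟩ := Nat.exists_eq_add_of_le h
    rw [hj, pow_add, relJ0]; simp

theorem mk_monomialJ_No (d : Fin 5 →₀ ℕ) (h2 : d 2 = 0) (h4 : d 4 = 0) :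
    Ideal.Quotient.mk (idealJ k p q m s) (monomial d 1) = No p q m s (d 0) (d 1) (d 3) := by
  rw [mk_monomialJ, h2, h4, pow_zero, pow_zero, mul_one, mul_one, one_smul]
  rfl

theorem lemC' (hpq : p < q) (hcop : Nat.Coprime p q) (hm : 0 < m)
    (i b c i' b' c' : ℕ) (hi : i < Nat.gcd m (q - p)) (hi' : i' < Nat.gcd m (q - p))
    (h1 : (i : ℤ) - p * b + q * c = i' - p * b' + q * c')
    (h2 : (m : ℤ) ∣ ((c' : ℤ) - b') - (c - b)) :
    ∃ t : ℕ, No p q m s i' b' c' = s ^ t • No p q m s i b c ∨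
      No p q m s i b c = s ^ t • No p q m s i' b' c' := by
  set G := Nat.gcd m (q - p) with hG
  set a := m / G with ha
  set r := (q - p) / G with hr
  have hGm : m = G * a := (Nat.mul_div_cancel' (Nat.gcd_dvd_left _ _)).symm
  have hGr : q - p = G * r := (Nat.mul_div_cancel' (Nat.gcd_dvd_right _ _)).symm
  have hGpos : 0 < G := Nat.gcd_pos_of_pos_left _ hm
  have hrpos : 0 < r := by
    rcases Nat.eq_zero_or_pos r with h0 | h0
    · rw [h0, mul_zero] at hGr; omega
    · exact h0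
  have hcop_ar : Nat.Coprime a r := Nat.coprime_div_gcd_div_gcd hGpos
  have hcop_rq : Nat.Coprime r q := by
    have h3 : Nat.Coprime (q - p) q := (Nat.coprime_self_sub_left hpq.le).2 hcop
    exact Nat.Coprime.coprime_dvd_left ⟨G, by rw [hGr, mul_comm]⟩ h3
  have hqpZ : (q : ℤ) - p = G * r := by
    have : ((q - p : ℕ) : ℤ) = ((G * r : ℕ) : ℤ) := by rw [hGr]
    rw [Nat.cast_sub hpq.le] at this
    exact_mod_cast this
  have hmZ : (m : ℤ) = G * a := by exact_mod_cast hGm
  obtain ⟨u, hu⟩ := h2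
  have e1 : (i : ℤ) - i' = G * (r * ((b' : ℤ) - b) + q * a * u) := by
    have : (i : ℤ) - i' = ((q : ℤ) - p) * ((b' : ℤ) - b) + q * (m * u) := by
      rw [← hu]
      linear_combination h1
    rw [this, hqpZ, hmZ]
    ring
  have hii : (i : ℤ) - i' = 0 := by
    apply Int.eq_zero_of_abs_lt_dvd (m := (G : ℤ)) ⟨_, e1⟩
    rw [abs_lt]
    constructor <;> omega
  have e2 : (r : ℤ) * ((b' : ℤ) - b) + q * a * u = 0 := by
    rw [hii] at e1
    have hG0 : (G : ℤ) ≠ 0 := by exact_mod_cast hGpos.ne'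
    exact (mul_eq_zero.1 e1.symm).resolve_left hG0
  have hcopZ : IsCoprime (r : ℤ) ((q : ℤ) * a) := by
    have : Nat.Coprime r (q * a) := Nat.Coprime.mul_right hcop_rq hcop_ar.symm
    exact_mod_cast Nat.isCoprime_iff_coprime.2 this
  have hdvd : (r : ℤ) ∣ (q : ℤ) * a * u := ⟨-((b' : ℤ) - b), by linear_combination e2⟩
  obtain ⟨v, hv⟩ := hcopZ.dvd_of_dvd_mul_left hdvd
  have hr0 : (r : ℤ) ≠ 0 := by exact_mod_cast hrpos.ne'
  have eb : (b' : ℤ) - b = -(q * a * v) := by
    have : (r : ℤ) * (((b' : ℤ) - b) + q * a * v) = 0 := by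
      rw [hv] at e2
      linear_combination e2
    have := (mul_eq_zero.1 this).resolve_left hr0
    linarith
  have ec : (c' : ℤ) - c = -(a * p * v) := by
    have h3 : (c' : ℤ) - c = ((b' : ℤ) - b) + m * u := by linarith
    rw [h3, eb, hv, hmZ]
    have : (G : ℤ) * r = q - p := hqpZ.symm
    linear_combination (a * v : ℤ) * this
  have hieq : i' = i := by omega
  rcases le_total v 0 with hv0 | hv0
  · refine ⟨(-v).toNat, Or.inl ?_⟩
    have hw : ((-v).toNat : ℤ) = -v := Int.toNat_of_nonneg (by linarith)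
    have hb' : b' = b + (-v).toNat * (a * q) := by
      have : (b' : ℤ) = b + ((-v).toNat : ℤ) * (a * q) := by rw [hw]; linarith
      exact_mod_cast this
    have hc' : c' = c + (-v).toNat * (a * p) := by
      have : (c' : ℤ) = c + ((-v).toNat : ℤ) * (a * p) := by rw [hw]; linarith
      exact_mod_cast this
    rw [hieq, hb', hc']
    exact lemB' p q m s i b c _
  · refine ⟨v.toNat, Or.inr ?_⟩
    have hw : (v.toNat : ℤ) = v := Int.toNat_of_nonneg hv0
    have hb' : b = b' + v.toNat * (a * q) := by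
      have : (b : ℤ) = b' + (v.toNat : ℤ) * (a * q) := by rw [hw]; linarith
      exact_mod_cast this
    have hc' : c = c' + v.toNat * (a * p) := by
      have : (c : ℤ) = c' + (v.toNat : ℤ) * (a * p) := by rw [hw]; linarith
      exact_mod_cast this
    rw [hieq, hb', hc']
    exact lemB' p q m s i b' c' _

theorem comparableJ (hpq : p < q) (hcop : Nat.Coprime p q) (hm : 0 < m) (ν : ℤ × ZMod m)
    (d d' : Fin 5 →₀ ℕ) (hd : Finsupp.weight (wt5 p q m) d = ν)
    (hd' : Finsupp.weight (wt5 p q m) d' = ν) :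
    ∃ c : k, Ideal.Quotient.mk (idealJ k p q m s) (monomial d' 1) =
        c • Ideal.Quotient.mk (idealJ k p q m s) (monomial d 1) ∨
      Ideal.Quotient.mk (idealJ k p q m s) (monomial d 1) =
        c • Ideal.Quotient.mk (idealJ k p q m s) (monomial d' 1) := by
  by_cases hz : d 2 ≠ 0 ∨ d 4 ≠ 0 ∨ Nat.gcd m (q - p) ≤ d 0
  · exact ⟨0, Or.inr (by rw [mk_monomialJ_zero p q m s d hz, zero_smul])⟩
  by_cases hz' : d' 2 ≠ 0 ∨ d' 4 ≠ 0 ∨ Nat.gcd m (q - p) ≤ d' 0
  · exact ⟨0, Or.inl (by rw [mk_monomialJ_zero p q m s d' hz', zero_smul])⟩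
  push Not at hz hz'
  obtain ⟨h2, h4, h0⟩ := hz
  obtain ⟨h2', h4', h0'⟩ := hz'
  rw [mk_monomialJ_No p q m s d h2 h4, mk_monomialJ_No p q m s d' h2' h4']
  have hw := hd.trans hd'.symm
  rw [WM2.weight_eq, WM2.weight_eq, h2, h4, h2', h4'] at hw
  have hw1 := congrArg Prod.fst hw
  have hw2 := congrArg Prod.snd hw
  simp only [Nat.cast_zero, add_zero, zero_add] at hw1 hw2
  have hdvd : (m : ℤ) ∣ ((d' 3 : ℤ) - d' 1) - (d 3 - d 1) := by
    rw [← ZMod.intCast_zmod_eq_zero_iff_dvd]
    push_cast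
    linear_combination -hw2
  obtain ⟨t, ht⟩ := lemC' p q m s hpq hcop hm (d 0) (d 1) (d 3) (d' 0) (d' 1) (d' 3) h0 h0'
    hw1 hdvd
  exact ⟨s ^ t, ht⟩

theorem rank_pieceJ_le_one (hpq : p < q) (hcop : Nat.Coprime p q) (hm : 0 < m)
    (ν : ℤ × ZMod m) :
    Module.rank k (piece k (wt5 p q m) (idealJ k p q m s) ν) ≤ 1 :=
  rank_piece_le_one_of_comparable _ _ ν (comparableJ p q m s hpq hcop hm ν)

end J

end Groth.Agent.Lib.Helper26.WM3
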