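import Groth.Prelude.Def_Dieu
import Mathlib

/-!
# Faithfully flat descent exact sequence for Witt vector scalar extensions
-/

set_option autoImplicit false
set_option linter.unusedSectionVars false
universe u v
open TensorProduct

namespace Groth.Agent.Lib.Helper26.WittDescent

open Dieu

section General

variable {A : Type u} {B : Type u} {C : Type u} [CommRing A] [CommRing B] [CommRing C]
variable (g : A →+* B) (h₁ h₂ : B →+* C) (e : h₁.comp g = h₂.comp g)
variable (M : Type v) [AddCommGroup M] [Module A M]

/-- identity `BC g M → Res g ⊗ M` -/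
def toT : BC g M →+ Res g ⊗[A] M where
  toFun z := z
  map_zero' := rfl
  map_add' _ _ := rfl

/-- identity `Res g ⊗ M → BC g M` -/
def ofT : Res g ⊗[A] M →+ BC g M where
  toFun z := z
  map_zero' := rfl
  map_add' _ _ := rfl

@[simp] theorem ofT_toT (z : BC g M) : ofT g M (toT g M z) = z := rfl
@[simp] theorem toT_ofT (z : Res g ⊗[A] M) : toT g M (ofT g M z) = z := rfl
theorem toT_tmul (b : B) (x : M) : toT g M (BC.tmul g b x) = (Res.mk g b) ⊗ₜ[A] x := rfl

/-- `j : A → Res g`, `a ↦ g a`, as an `A`-linear map. -/
def jmap : A →ₗ[A] Res g where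
  toFun a := Res.mk g (g a)
  map_add' a b := by apply Res.ext; simp
  map_smul' a b := by apply Res.ext; simp

@[simp] theorem jmap_val (a : A) : (jmap g a).val = g a := rfl

/-- `d = h₁ - h₂ : Res g → Res (h₂ ∘ g)` as an `A`-linear map. -/
def dmap : Res g →ₗ[A] Res (h₂.comp g) where
  toFun t := Res.mk (h₂.comp g) (h₁ t.val - h₂ t.val)
  map_add' s t := by apply Res.ext; simp; ring
  map_smul' a t := by
    apply Res.ext
    have h : h₁ (g a) = h₂ (g a) := RingHom.congr_fun e a
    simp only [Res.val_smul, Res.val_mk, map_mul, RingHom.id_apply, RingHom.comp_apply, h]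
    ring

@[simp] theorem dmap_val (t : Res g) : (dmap g h₁ h₂ e t).val = h₁ t.val - h₂ t.val := rfl

theorem ι_eq (x : M) :
    toT g M (BC.ι g M x) = (jmap g).rTensor M ((TensorProduct.lid A M).symm x) := by
  rw [TensorProduct.lid_symm_apply, LinearMap.rTensor_tmul]
  change (Res.mk g 1) ⊗ₜ[A] x = (Res.mk g (g 1)) ⊗ₜ[A] x
  rw [map_one]

theorem ι_injective [Module.Flat A M] (hg : Function.Injective g) :
    Function.Injective (BC.ι g M) := by
  have hj : Function.Injective (jmap g) := fun a b hab => hg (congrArg Res.val hab)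
  have h1 := Module.Flat.rTensor_preserves_injective_linearMap (M := M) (jmap g) hj
  intro x y hxy
  have h2 := congrArg (toT g M) hxy
  rw [ι_eq, ι_eq] at h2
  exact (TensorProduct.lid A M).symm.injective (h1 h2)

theorem push_sub (z : BC g M) :
    BC.castHom e (BC.push g h₁ z) - BC.push g h₂ z =
      ofT (h₂.comp g) M ((dmap g h₁ h₂ e).rTensor M (toT g M z)) := by
  induction z using BC.induction_on g with
  | zero => simp
  | tmul b x =>
    rw [BC.push_tmul, BC.push_tmul, BC.castHom_tmul, toT_tmul, LinearMap.rTensor_tmul]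
    change ofT (h₂.comp g) M ((Res.mk (h₂.comp g) (h₁ b)) ⊗ₜ[A] x) -
      ofT (h₂.comp g) M ((Res.mk (h₂.comp g) (h₂ b)) ⊗ₜ[A] x) = _
    rw [← map_sub, ← TensorProduct.sub_tmul]
    rfl
  | add z₁ z₂ h1 h2 =>
    simp only [map_add]
    rw [← h1, ← h2]
    abel

theorem mem_range_iff [Module.Flat A M] (hex : Function.Exact (jmap g) (dmap g h₁ h₂ e))
    (z : BC g M) :
    BC.castHom e (BC.push g h₁ z) = BC.push g h₂ z ↔ z ∈ Set.range (BC.ι g M) := by
  rw [← sub_eq_zero, push_sub]
  have hexM := Module.Flat.rTensor_exact M hex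
  have h0 : ofT (h₂.comp g) M ((dmap g h₁ h₂ e).rTensor M (toT g M z)) = 0 ↔
      (dmap g h₁ h₂ e).rTensor M (toT g M z) = 0 := Iff.rfl
  rw [h0, hexM (toT g M z)]
  constructor
  · rintro ⟨w, hw⟩
    refine ⟨TensorProduct.lid A M w, ?_⟩
    have := ι_eq g M (TensorProduct.lid A M w)
    rw [LinearEquiv.symm_apply_apply, hw] at this
    exact this
  · rintro ⟨x, rfl⟩
    exact ⟨_, (ι_eq g M x).symm⟩

end General

section Witt

variable (p : ℕ) [Fact p.Prime] (S R : Type u) [CommRing S] [CommRing R] [Algebra S R]
  [Module.FaithfullyFlat S R]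

theorem witt_exact
    (e : (WittVector.map (Algebra.TensorProduct.includeLeftRingHom : R →+* TensorProduct S R R) :
        WittVector p R →+* WittVector p (TensorProduct S R R)).comp
          (WittVector.map (algebraMap S R) : WittVector p S →+* WittVector p R) =
      (WittVector.map ((Algebra.TensorProduct.includeRight : R →ₐ[S] TensorProduct S R R) :
        R →+* TensorProduct S R R) : WittVector p R →+* WittVector p (TensorProduct S R R)).comp
          (WittVector.map (algebraMap S R) : WittVector p S →+* WittVector p R)) :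
    Function.Exact (jmap (WittVector.map (algebraMap S R) : WittVector p S →+* WittVector p R))
      (dmap _ _ _ e) := by
  have heff := Algebra.IsEffective.of_faithfullyFlat S R
  intro t
  constructor
  · intro ht
    have ht' : ∀ n, (Algebra.TensorProduct.includeLeftRingHom : R →+* TensorProduct S R R)
        (t.val.coeff n) =
        ((Algebra.TensorProduct.includeRight : R →ₐ[S] TensorProduct S R R) : R →+* _)
          (t.val.coeff n) := by
      intro n
      have h1 := congrArg Res.val ht
      rw [dmap_val, Res.val_zero, sub_eq_zero] at h1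
      have h2 := congrArg (fun w => WittVector.coeff w n) h1
      simpa using h2
    have hmem : ∀ n, ∃ s : S, algebraMap S R s = t.val.coeff n := by
      intro n
      have h3 : Algebra.TensorProduct.includeLeftSubRight S R (t.val.coeff n) = 0 := by
        rw [Algebra.TensorProduct.includeLeftSubRight_apply, sub_eq_zero]
        exact ht' n
      obtain ⟨s, hs⟩ := (heff _).mp h3
      exact ⟨s, hs⟩
    choose s hs using hmem
    refine ⟨WittVector.mk p s, ?_⟩
    apply Res.ext
    rw [jmap_val]
    ext n
    rw [WittVector.map_coeff, WittVector.coeff_mk, hs]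
  · rintro ⟨w, rfl⟩
    apply Res.ext
    rw [dmap_val, jmap_val, Res.val_zero, sub_eq_zero]
    exact RingHom.congr_fun e w

theorem witt_map_injective :
    Function.Injective (WittVector.map (algebraMap S R) : WittVector p S →+* WittVector p R) :=
  WittVector.map_injective _ (FaithfulSMul.algebraMap_injective S R)

end Witt

end Groth.Agent.Lib.Helper26.WittDescent
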