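import Mathlib
import Groth.Agent.S14192

set_option autoImplicit false
open Polynomial

namespace Groth.Agent.Lib.Helper26.ZetaLaurent

/-- the embedding of integer polynomials into rational functions -/
noncomputable def ι : ℤ[X] →+* RatFunc ℚ :=
  (algebraMap ℚ[X] (RatFunc ℚ)).comp (Polynomial.mapRingHom (Int.castRingHom ℚ))

lemma ι_apply (P : ℤ[X]) :
    ι P = algebraMap ℚ[X] (RatFunc ℚ) (P.map (Int.castRingHom ℚ)) := rfl

lemma ι_injective : Function.Injective ι := by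
  unfold ι
  rw [RingHom.coe_comp]
  refine Function.Injective.comp (RatFunc.algebraMap_injective ℚ) ?_
  exact Polynomial.map_injective _ (RingHom.injective_int _)

lemma ι_X : ι X = RatFunc.X := by
  rw [ι_apply, Polynomial.map_X, RatFunc.algebraMap_X]

/-- denominators -/
noncomputable def Dz (a m c : ℕ) : ℤ[X] := X ^ a * (X ^ m - 1) ^ c

def HasForm (F : RatFunc ℚ) (a m c : ℕ) : Prop := ∃ N : ℤ[X], F * ι (Dz a m c) = ι N

lemma Dz_dvd {a m c a' m' c' : ℕ} (ha : a ≤ a') (hm : m ∣ m') (hc : c ≤ c') :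
    Dz a m c ∣ Dz a' m' c' := by
  unfold Dz
  refine mul_dvd_mul (pow_dvd_pow _ ha) ?_
  obtain ⟨k, rfl⟩ := hm
  have h1 : (X : ℤ[X]) ^ m - 1 ∣ X ^ (m * k) - 1 := by
    have := sub_dvd_pow_sub_pow ((X : ℤ[X]) ^ m) 1 k
    rwa [one_pow, ← pow_mul] at this
  exact (pow_dvd_pow_of_dvd h1 c).trans (pow_dvd_pow _ hc)

lemma HasForm.mono {F : RatFunc ℚ} {a m c a' m' c' : ℕ} (h : HasForm F a m c) (ha : a ≤ a')
    (hm : m ∣ m') (hc : c ≤ c') : HasForm F a' m' c' := by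
  obtain ⟨N, hN⟩ := h
  obtain ⟨V, hV⟩ := Dz_dvd ha hm hc
  exact ⟨N * V, by rw [hV, map_mul, ← mul_assoc, hN, map_mul]⟩

lemma Dz_sq (a m c : ℕ) : Dz a m c * Dz a m c = Dz (a + a) m (c + c) := by
  unfold Dz; ring

lemma closure_hasForm (F : RatFunc ℚ)
    (hF : F ∈ Subring.closure
      (({RatFunc.X, (RatFunc.X : RatFunc ℚ)⁻¹} : Set (RatFunc ℚ)) ∪
        Set.range fun n : ℕ => ((RatFunc.X : RatFunc ℚ) ^ (n + 1) - 1)⁻¹)) :
    ∃ a m c : ℕ, 0 < m ∧ HasForm F a m c := by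
  induction hF using Subring.closure_induction with
  | mem x hx =>
    rcases hx with (rfl | rfl) | ⟨n, rfl⟩
    · exact ⟨0, 1, 0, one_pos, X, by simp [Dz, ι_X]⟩
    · refine ⟨1, 1, 0, one_pos, 1, ?_⟩
      simp only [Dz, pow_one, pow_zero, mul_one, ι_X, map_one]
      exact inv_mul_cancel₀ RatFunc.X_ne_zero
    · refine ⟨0, n + 1, 1, Nat.succ_pos _, 1, ?_⟩
      simp only [Dz, pow_zero, one_mul, pow_one, map_sub, map_pow, ι_X, map_one]
      refine inv_mul_cancel₀ ?_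
      have h1 : ι (X ^ (n + 1) - 1) ≠ 0 := by
        rw [Ne, map_eq_zero_iff _ ι_injective]
        exact (monic_X_pow_sub_C (1 : ℤ) (Nat.succ_ne_zero n)).ne_zero
      simpa [ι_X] using h1
  | zero => exact ⟨0, 1, 0, one_pos, 0, by simp⟩
  | one => exact ⟨0, 1, 0, one_pos, 1, by simp [Dz]⟩
  | add x y _ _ hx hy =>
    obtain ⟨a₁, m₁, c₁, hm₁, h₁⟩ := hx
    obtain ⟨a₂, m₂, c₂, hm₂, h₂⟩ := hy
    obtain ⟨N₁, hN₁⟩ := h₁.mono (a' := a₁ + a₂) (m' := m₁ * m₂) (c' := c₁ + c₂)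
      (Nat.le_add_right _ _) (Dvd.intro _ rfl) (Nat.le_add_right _ _)
    obtain ⟨N₂, hN₂⟩ := h₂.mono (a' := a₁ + a₂) (m' := m₁ * m₂) (c' := c₁ + c₂)
      (Nat.le_add_left _ _) (Dvd.intro_left _ rfl) (Nat.le_add_left _ _)
    exact ⟨_, _, _, Nat.mul_pos hm₁ hm₂, N₁ + N₂, by rw [add_mul, hN₁, hN₂, map_add]⟩
  | neg x _ hx =>
    obtain ⟨a, m, c, hm, N, hN⟩ := hx
    exact ⟨a, m, c, hm, -N, by rw [neg_mul, hN, map_neg]⟩
  | mul x y _ _ hx hy =>
    obtain ⟨a₁, m₁, c₁, hm₁, h₁⟩ := hx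
    obtain ⟨a₂, m₂, c₂, hm₂, h₂⟩ := hy
    obtain ⟨N₁, hN₁⟩ := h₁.mono (a' := a₁ + a₂) (m' := m₁ * m₂) (c' := c₁ + c₂)
      (Nat.le_add_right _ _) (Dvd.intro _ rfl) (Nat.le_add_right _ _)
    obtain ⟨N₂, hN₂⟩ := h₂.mono (a' := a₁ + a₂) (m' := m₁ * m₂) (c' := c₁ + c₂)
      (Nat.le_add_left _ _) (Dvd.intro_left _ rfl) (Nat.le_add_left _ _)
    refine ⟨(a₁ + a₂) + (a₁ + a₂), m₁ * m₂, (c₁ + c₂) + (c₁ + c₂), Nat.mul_pos hm₁ hm₂, N₁ * N₂, ?_⟩
    rw [← Dz_sq, map_mul, map_mul, ← hN₁, ← hN₂]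
    ring


noncomputable def Dq (a m c : ℕ) : ℚ[X] := X ^ a * (X ^ m - 1) ^ c

lemma Dz_map (a m c : ℕ) : (Dz a m c).map (Int.castRingHom ℚ) = Dq a m c := by
  simp [Dz, Dq]

lemma Dq_eval_ne_zero {a m c : ℕ} {x : ℚ} (hx : x ≠ 0) (hxm : x ^ m ≠ 1) :
    (Dq a m c).eval x ≠ 0 := by
  simp [Dq, hx, sub_ne_zero.mpr hxm]

lemma eval_eq {F : RatFunc ℚ} {a m c : ℕ} {N : ℤ[X]} (hN : F * ι (Dz a m c) = ι N) {x : ℚ}
    (hx : x ≠ 0) (hxm : x ^ m ≠ 1) :
    F.eval (RingHom.id ℚ) x * (Dq a m c).eval x = (N.map (Int.castRingHom ℚ)).eval x := by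
  rw [ι_apply, ι_apply, Dz_map] at hN
  have hDx := Dq_eval_ne_zero (a := a) (c := c) hx hxm
  have hD0 : Dq a m c ≠ 0 := by
    intro h; rw [h] at hDx; simp at hDx
  have hD0' : algebraMap ℚ[X] (RatFunc ℚ) (Dq a m c) ≠ 0 := by
    rw [Ne, map_eq_zero_iff _ (RatFunc.algebraMap_injective ℚ)]; exact hD0
  have h1 : F.denom ∣ Dq a m c :=
    (RatFunc.denom_dvd hD0).mpr ⟨N.map (Int.castRingHom ℚ), by rw [eq_div_iff hD0', hN]⟩
  have h2 : Polynomial.eval₂ (RingHom.id ℚ) x F.denom ≠ 0 := by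
    obtain ⟨V, hV⟩ := h1
    intro h
    apply hDx
    rw [hV, eval_mul, ← Polynomial.eval₂_id, h, zero_mul]
  have h3 : Polynomial.eval₂ (RingHom.id ℚ) x
      (algebraMap ℚ[X] (RatFunc ℚ) (Dq a m c)).denom ≠ 0 := by
    rw [RatFunc.denom_algebraMap]; simp
  have h4 := RatFunc.eval_mul (RingHom.id ℚ) x h2 h3
  rw [hN, RatFunc.eval_algebraMap, RatFunc.eval_algebraMap] at h4
  simpa using h4.symm


section Recurrence
open PowerSeries Groth.Agent.S14192.ExpAux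

lemma recurrence (a : ℕ → ℚ) (P Q : ℚ[X]) (hQ : Q ≠ 0)
    (h : (PowerSeries.exp ℚ).subst
        (PowerSeries.mk fun v : ℕ => if v = 0 then (0 : ℚ) else a v / (v : ℚ))
      * (Q : PowerSeries ℚ) = (P : PowerSeries ℚ)) :
    ∃ (W : ℚ[X]) (N₀ : ℕ), W ≠ 0 ∧ ∀ N, N₀ ≤ N →
      ∑ k ∈ Finset.range (W.natDegree + 1), W.coeff k * a (N + 1 - k) = 0 := by
  set L : PowerSeries ℚ := PowerSeries.mk fun v : ℕ => if v = 0 then (0 : ℚ) else a v / (v : ℚ)
    with hL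
  have hL0 : PowerSeries.constantCoeff L = 0 := by simp [hL]
  have hdL : d⁄dX ℚ L = PowerSeries.mk fun v : ℕ => a (v + 1) := by
    ext n
    rw [PowerSeries.coeff_derivative, hL, PowerSeries.coeff_mk, PowerSeries.coeff_mk,
      if_neg (Nat.succ_ne_zero n)]
    have : ((n + 1 : ℕ) : ℚ) ≠ 0 := by positivity
    push_cast at this ⊢
    field_simp
  change E L * (Q : PowerSeries ℚ) = (P : PowerSeries ℚ) at h
  have hdZ := derivative_E hL0
  have hZ0 : E L ≠ 0 := by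
    intro h0
    have := constantCoeff_E hL0
    rw [h0] at this
    simp at this
  have hP0 : P ≠ 0 := by
    rintro rfl
    rw [Polynomial.coe_zero] at h
    rcases mul_eq_zero.mp h with h1 | h1
    · exact hZ0 h1
    · exact hQ (by exact_mod_cast h1)
  have h1 := congrArg (d⁄dX ℚ) h
  rw [Derivation.leibniz, hdZ, PowerSeries.derivative_coe, PowerSeries.derivative_coe,
    smul_eq_mul, smul_eq_mul] at h1
  -- multiply by Q
  have h2 : d⁄dX ℚ L * ((P * Q : ℚ[X]) : PowerSeries ℚ) =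
      ((Polynomial.derivative P * Q - P * Polynomial.derivative Q : ℚ[X]) : PowerSeries ℚ) := by
    rw [Polynomial.coe_sub, Polynomial.coe_mul, Polynomial.coe_mul, Polynomial.coe_mul, ← h1, ← h]
    ring
  set W := P * Q with hW
  set T := Polynomial.derivative P * Q - P * Polynomial.derivative Q with hT
  refine ⟨W, max (T.natDegree + 1) W.natDegree, mul_ne_zero hP0 hQ, fun N hN => ?_⟩
  have h3 := congrArg (PowerSeries.coeff N) h2
  rw [mul_comm, PowerSeries.coeff_mul, Polynomial.coeff_coe,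
    Polynomial.coeff_eq_zero_of_natDegree_lt (by omega),
    Finset.Nat.sum_antidiagonal_eq_sum_range_succ_mk] at h3
  rw [← h3]
  apply Finset.sum_subset_zero_on_sdiff
  · intro k hk
    simp only [Finset.mem_range] at hk ⊢
    omega
  · intro k hk
    simp only [Finset.mem_sdiff, Finset.mem_range, not_lt] at hk
    rw [Polynomial.coeff_coe, Polynomial.coeff_eq_zero_of_natDegree_lt (by omega), zero_mul]
  · intro k hk
    simp only [Finset.mem_range] at hk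
    rw [Polynomial.coeff_coe, hdL, PowerSeries.coeff_mk]
    congr 2
    omega

end Recurrence


section Core

lemma coprime_aux (s s' : ℚ) (m : ℕ) (h : s ^ m ≠ s' ^ m) :
    IsCoprime ((C s * X : ℚ[X]) ^ m - 1) ((C s' * X) ^ m - 1) := by
  have hδ : s ^ m - s' ^ m ≠ 0 := sub_ne_zero.mpr h
  have key : C (s' ^ m) * ((C s * X : ℚ[X]) ^ m - 1) - C (s ^ m) * ((C s' * X) ^ m - 1) =
      C (s ^ m - s' ^ m) := by
    simp only [mul_pow, ← C_pow, map_sub]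
    ring
  refine ⟨C (s ^ m - s' ^ m)⁻¹ * C (s' ^ m), -(C (s ^ m - s' ^ m)⁻¹ * C (s ^ m)), ?_⟩
  calc _ = C (s ^ m - s' ^ m)⁻¹ *
      (C (s' ^ m) * ((C s * X : ℚ[X]) ^ m - 1) - C (s ^ m) * ((C s' * X) ^ m - 1)) := by ring
    _ = 1 := by rw [key, ← C_mul, inv_mul_cancel₀ hδ, C_1]

lemma coprime_X (s s' : ℚ) (hs' : s' ≠ 0) (m : ℕ) (hm : 0 < m) :
    IsCoprime ((C s * X : ℚ[X]) ^ m - 1) (C s' * X) := by
  obtain ⟨m', rfl⟩ : ∃ m', m = m' + 1 := ⟨m - 1, by omega⟩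
  refine ⟨-1, C (s ^ (m' + 1)) * X ^ m' * C s'⁻¹, ?_⟩
  have : (C s'⁻¹ : ℚ[X]) * C s' = 1 := by rw [← C_mul, inv_mul_cancel₀ hs', C_1]
  calc _ = (C s'⁻¹ * C s' - 1) * (C (s ^ (m' + 1)) * X ^ (m' + 1)) + 1 := by
        simp only [mul_pow, ← C_pow]; ring
    _ = 1 := by rw [this, sub_self, zero_mul, zero_add]

lemma Dq_comp (a m c : ℕ) (s : ℚ) :
    (Dq a m c).comp (C s * X) = (C s * X) ^ a * ((C s * X) ^ m - 1) ^ c := by
  simp [Dq]

lemma coprime_D (s s' : ℚ) (hs' : s' ≠ 0) (a m c : ℕ) (hm : 0 < m) (h : s ^ m ≠ s' ^ m) :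
    IsCoprime (((C s * X : ℚ[X]) ^ m - 1) ^ c) ((Dq a m c).comp (C s' * X)) := by
  rw [Dq_comp]
  exact IsCoprime.pow_left (IsCoprime.mul_right (IsCoprime.pow_right (coprime_X s s' hs' m hm))
    (IsCoprime.pow_right (coprime_aux s s' m h)))

lemma core (r : ℚ) (hr0 : 0 < r) (hr1 : r ≠ 1) (a m c : ℕ) (hm : 0 < m) (Nq W : ℚ[X])
    (hW : W ≠ 0)
    (hΨ : ∑ k ∈ Finset.range (W.natDegree + 1), C (W.coeff k) * Nq.comp (C (r ^ k) * X) *
      ∏ l ∈ (Finset.range (W.natDegree + 1)).erase k, (Dq a m c).comp (C (r ^ l) * X) = 0) :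
    ((X : ℚ[X]) ^ m - 1) ^ c ∣ Nq := by
  set d := W.natDegree with hd
  have hdmem : d ∈ Finset.range (d + 1) := Finset.self_mem_range_succ d
  have hwd : W.coeff d ≠ 0 := by
    rw [hd, Polynomial.coeff_natDegree]; exact leadingCoeff_ne_zero.mpr hW
  rw [← Finset.add_sum_erase _ _ hdmem] at hΨ
  have hrest : (Dq a m c).comp (C (r ^ d) * X) ∣
      ∑ k ∈ (Finset.range (d + 1)).erase d, C (W.coeff k) * Nq.comp (C (r ^ k) * X) *
      ∏ l ∈ (Finset.range (d + 1)).erase k, (Dq a m c).comp (C (r ^ l) * X) := by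
    refine Finset.dvd_sum fun k hk => ?_
    refine Dvd.dvd.mul_left ?_ _
    refine Finset.dvd_prod_of_mem (fun l => (Dq a m c).comp (C (r ^ l) * X)) ?_
    rw [Finset.mem_erase] at hk ⊢
    exact ⟨hk.1.symm, hdmem⟩
  have h1 := (dvd_add_left hrest).mp (by rw [hΨ]; exact dvd_zero _)
  have h2 : ((C (r ^ d) * X : ℚ[X]) ^ m - 1) ^ c ∣ (Dq a m c).comp (C (r ^ d) * X) := by
    rw [Dq_comp]; exact Dvd.intro_left _ rfl
  have h3 := h2.trans h1
  have hcop : IsCoprime (((C (r ^ d) * X : ℚ[X]) ^ m - 1) ^ c)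
      (∏ l ∈ (Finset.range (d + 1)).erase d, (Dq a m c).comp (C (r ^ l) * X)) := by
    refine IsCoprime.prod_right fun l hl => ?_
    rw [Finset.mem_erase] at hl
    refine coprime_D _ _ (pow_ne_zero _ hr0.ne') a m c hm ?_
    rw [← pow_mul, ← pow_mul]
    intro h
    have := pow_right_injective₀ hr0 hr1 h
    exact hl.1 (Nat.eq_of_mul_eq_mul_right hm this).symm
  have h4 := hcop.dvd_of_dvd_mul_right h3
  have h5 : ((C (r ^ d) * X : ℚ[X]) ^ m - 1) ^ c ∣ Nq.comp (C (r ^ d) * X) :=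
    (IsUnit.dvd_mul_left (Polynomial.isUnit_C.mpr (IsUnit.mk0 _ hwd))).mp h4
  obtain ⟨V, hV⟩ := h5
  have hrd : r ^ d ≠ 0 := pow_ne_zero _ hr0.ne'
  have hg : (C (r ^ d) * X : ℚ[X]).comp (C (r ^ d)⁻¹ * X) = X := by
    rw [mul_comp, C_comp, X_comp, ← mul_assoc, ← C_mul, mul_inv_cancel₀ hrd, C_1, one_mul]
  have h6 := congrArg (fun p : ℚ[X] => p.comp (C (r ^ d)⁻¹ * X)) hV
  simp only [mul_comp, comp_assoc, hg, comp_X, pow_comp, sub_comp, one_comp] at h6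
  exact ⟨_, h6⟩

end Core


theorem main (q : ℤ) (hq : 1 < q) (F : RatFunc ℚ)
    (hF : F ∈ Subring.closure
      (({RatFunc.X, (RatFunc.X : RatFunc ℚ)⁻¹} : Set (RatFunc ℚ)) ∪
        Set.range fun n : ℕ => ((RatFunc.X : RatFunc ℚ) ^ (n + 1) - 1)⁻¹))
    (hrat : ∃ P Q : Polynomial ℚ, Q ≠ 0 ∧
      (PowerSeries.exp ℚ).subst
          (PowerSeries.mk fun v : ℕ => if v = 0 then (0 : ℚ)
            else F.eval (RingHom.id ℚ) ((q : ℚ) ^ v) / (v : ℚ))
        * (Q : PowerSeries ℚ) = (P : PowerSeries ℚ)) :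
    ∃ (P : Polynomial ℤ) (a : ℕ),
      F * RatFunc.X ^ a = algebraMap (Polynomial ℚ) (RatFunc ℚ) (P.map (Int.castRingHom ℚ)) := by
  obtain ⟨a, m, c, hm, N, hN⟩ := closure_hasForm F hF
  obtain ⟨P, Q, hQ, h⟩ := hrat
  set av : ℕ → ℚ := fun v => F.eval (RingHom.id ℚ) ((q : ℚ) ^ v) with hav
  obtain ⟨W, N₀, hW, hrec⟩ := recurrence av P Q hQ h
  have hq' : (1 : ℚ) < q := by exact_mod_cast hq
  have hq0 : (0 : ℚ) < q := lt_trans zero_lt_one hq'
  set r : ℚ := (q : ℚ)⁻¹ with hr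
  have hr0 : 0 < r := inv_pos.mpr hq0
  have hr1 : r ≠ 1 := (inv_lt_one_of_one_lt₀ hq').ne
  set Nq := N.map (Int.castRingHom ℚ) with hNq
  set d := W.natDegree with hd
  -- evaluation facts
  have hev : ∀ v : ℕ, 1 ≤ v → (Dq a m c).eval ((q : ℚ) ^ v) ≠ 0 ∧
      av v * (Dq a m c).eval ((q : ℚ) ^ v) = Nq.eval ((q : ℚ) ^ v) := by
    intro v hv
    have hx : (q : ℚ) ^ v ≠ 0 := pow_ne_zero _ hq0.ne'
    have hxm : ((q : ℚ) ^ v) ^ m ≠ 1 := by
      rw [← pow_mul]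
      exact (one_lt_pow₀ hq' (Nat.mul_ne_zero (by omega) hm.ne')).ne'
    exact ⟨Dq_eval_ne_zero hx hxm, eval_eq hN hx hxm⟩
  have hΨ : ∑ k ∈ Finset.range (d + 1), C (W.coeff k) * Nq.comp (C (r ^ k) * X) *
      ∏ l ∈ (Finset.range (d + 1)).erase k, (Dq a m c).comp (C (r ^ l) * X) = 0 := by
    apply Polynomial.eq_zero_of_infinite_isRoot
    apply Set.infinite_of_injective_forall_mem (f := fun i : ℕ => (q : ℚ) ^ (N₀ + d + i + 1))
    · intro i j hij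
      have := pow_right_injective₀ hq0 hq'.ne' hij
      omega
    · intro i
      set M := N₀ + d + i with hM
      have hx : ∀ k ∈ Finset.range (d + 1), r ^ k * (q : ℚ) ^ (M + 1) = (q : ℚ) ^ (M + 1 - k) := by
        intro k hk
        rw [Finset.mem_range] at hk
        have : M + 1 = (M + 1 - k) + k := by omega
        conv_lhs => rw [this, pow_add, hr, inv_pow]
        field_simp
      change Polynomial.eval _ _ = 0
      rw [eval_finsetSum]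
      simp only [eval_mul, eval_C, eval_comp, eval_prod, eval_X]
      have hterm : ∀ k ∈ Finset.range (d + 1),
          W.coeff k * Nq.eval (r ^ k * (q : ℚ) ^ (M + 1)) *
            ∏ l ∈ (Finset.range (d + 1)).erase k, (Dq a m c).eval (r ^ l * (q : ℚ) ^ (M + 1)) =
          (W.coeff k * av (M + 1 - k)) *
            ∏ l ∈ Finset.range (d + 1), (Dq a m c).eval (r ^ l * (q : ℚ) ^ (M + 1)) := by
        intro k hk
        rw [← Finset.mul_prod_erase _ _ hk, hx k hk]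
        have hk' := Finset.mem_range.mp hk
        rw [← (hev (M + 1 - k) (by omega)).2]
        ring
      rw [Finset.sum_congr rfl hterm, ← Finset.sum_mul, hrec M (by omega), zero_mul]
  have hdvd := core r hr0 hr1 a m c hm Nq W hW hΨ
  -- integrality
  have hmonic : ((X : ℤ[X]) ^ m - 1).Monic := monic_X_pow_sub_C (1 : ℤ) hm.ne'
  have hE : (((X : ℤ[X]) ^ m - 1) ^ c).map (Int.castRingHom ℚ) = ((X : ℚ[X]) ^ m - 1) ^ c := by
    simp
  rw [← hE, hNq, Polynomial.map_dvd_map _ (RingHom.injective_int _) (hmonic.pow c)] at hdvd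
  obtain ⟨N', hN'⟩ := hdvd
  refine ⟨N', a, ?_⟩
  have hE0 : ι (((X : ℤ[X]) ^ m - 1) ^ c) ≠ 0 := by
    rw [Ne, map_eq_zero_iff _ ι_injective]
    exact (hmonic.pow c).ne_zero
  rw [← ι_apply]
  apply mul_right_cancel₀ hE0
  rw [← map_mul, mul_comm N', ← hN', ← hN, Dz, map_mul, map_pow, map_pow, ι_X, mul_assoc]

end Groth.Agent.Lib.Helper26.ZetaLaurent
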