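import Mathlib

set_option autoImplicit false
universe u

open CategoryTheory AlgebraicGeometry TopologicalSpace

namespace Groth.Agent.Lib.Helper26.ZmtBirA

theorem bijective_app_restrict_top {X Y : Scheme.{u}} (f : X ⟶ Y) (V : Y.Opens)
    (hb : Function.Bijective (f.app V)) :
    Function.Bijective ((f ∣_ V).app ⊤) := by
  have e := morphismRestrict_app f V ⊤
  have hVV : V.ι ''ᵁ ⊤ = V := by simp
  have h1 : Function.Bijective (f.app (V.ι ''ᵁ ⊤)) := by
    rw [hVV]; exact hb
  have h2 : Function.Bijective (X.presheaf.map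
      (eqToHom (image_morphismRestrict_preimage f V ⊤)).op) :=
    ConcreteCategory.bijective_of_isIso _
  have key : ∀ a, ((f ∣_ V).app ⊤).hom a =
      (X.presheaf.map (eqToHom (image_morphismRestrict_preimage f V ⊤)).op).hom
        ((f.app (V.ι ''ᵁ ⊤)).hom a) := by
    intro a
    rw [e]
    rfl
  have h3 := h2.comp h1
  refine ⟨fun a b hab => h3.1 ?_, fun c => ?_⟩
  · exact ((key a).symm.trans hab).trans (key b)
  · obtain ⟨a, ha⟩ := h3.2 c
    exact ⟨a, (key a).trans ha⟩

theorem isIso_of_isAffineHom_of_bijective_affine {X Y : Scheme.{u}} (h : X ⟶ Y) [IsAffineHom h]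
    (hb : ∀ U : Y.Opens, IsAffineOpen U → Function.Bijective (h.app U)) : IsIso h := by
  have key : (MorphismProperty.isomorphisms Scheme) h := by
    rw [HasAffineProperty.eq_targetAffineLocally (P := MorphismProperty.isomorphisms Scheme)]
    intro U
    refine ⟨?_, ?_⟩
    · exact IsAffineHom.isAffine_preimage (f := h) U.1 U.2
    · have h1 := bijective_app_restrict_top h U.1 (hb U.1 U.2)
      exact (ConcreteCategory.isIso_iff_bijective _).mpr h1
  exact key

end Groth.Agent.Lib.Helper26.ZmtBirA
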