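import Mathlib
import Groth.Agent.Lib.Helper29.NormalNorm
import Groth.Agent.Lib.Helper26.ZmtBirA

set_option autoImplicit false
universe u

open CategoryTheory AlgebraicGeometry TopologicalSpace

namespace Groth.Agent.Lib.Helper26.ZmtBirB

open Groth.Agent.Lib.Helper26
open Groth.Agent.Lib.Helper29.QCoh.NormalNorm

theorem isIso_fromNormalization {X Y : Scheme.{u}} [IsIntegral X] [IsIntegral Y] (f : X ⟶ Y)
    [QuasiCompact f] [QuasiSeparated f]
    (hgen : f.base (genericPoint X) = genericPoint Y)
    (hsurj : Function.Surjective (fieldMap f hgen))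
    (hY : ∀ y : Y, IsIntegrallyClosed (Y.presheaf.stalk y)) : IsIso f.fromNormalization := by
  apply ZmtBirA.isIso_of_isAffineHom_of_bijective_affine
  intro V hV
  by_cases hne : (V : Set Y).Nonempty
  · haveI : Nonempty V := hne.to_subtype
    have hη : genericPoint Y ∈ V :=
      ((genericPoint_spec Y).mem_open_set_iff V.isOpen).mpr (by simpa using hne)
    letI := (f.app V).hom.toAlgebra
    have hkey : Function.Bijective
        (algebraMap Γ(Y, V) (integralClosure Γ(Y, V) Γ(X, f ⁻¹ᵁ V))) := by
      have hinj : Function.Injective (f.app V).hom := by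
        intro a a' h
        apply toK_injective V hη
        apply (fieldMap f hgen).injective
        rw [fieldMap_toK, fieldMap_toK, h]
      constructor
      · intro a a' h
        apply hinj
        exact congrArg Subtype.val h
      · rintro ⟨b, hb⟩
        obtain ⟨a', ha'⟩ := hsurj (toL f hgen V hη b)
        haveI := functionField_isFractionRing_of_isAffineOpen Y V hV
        haveI : IsIntegrallyClosed Γ(Y, V) := isIntegrallyClosed_of_isAffineOpen hY hV
        have hint : IsIntegral Γ(Y, V) a' := by
          obtain ⟨p, hp, hpb⟩ := hb
          refine ⟨p, hp, ?_⟩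
          apply (fieldMap f hgen).injective
          rw [map_zero, Polynomial.hom_eval₂, ha']
          have h1 : (fieldMap f hgen).comp (algebraMap Γ(Y, V) Y.functionField) =
              (toL f hgen V hη).comp (algebraMap Γ(Y, V) Γ(X, f ⁻¹ᵁ V)) := by
            ext a
            exact fieldMap_toK f hgen V hη a
          rw [h1, ← Polynomial.hom_eval₂, hpb, map_zero]
        obtain ⟨a, ha⟩ := IsIntegrallyClosed.isIntegral_iff.mp hint
        refine ⟨a, Subtype.ext ?_⟩
        apply toL_injective f hgen V hη
        show toL f hgen V hη ((f.app V).hom a) = toL f hgen V hη b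
        rw [← fieldMap_toK, ← ha']
        congr 1
    rw [f.fromNormalization_app hV]
    have h2 : Function.Bijective (f.normalizationObjIso hV).inv.hom :=
      ConcreteCategory.bijective_of_isIso _
    exact h2.comp hkey
  · have hV0 : V = ⊥ := by
      ext y
      simp only [Opens.coe_bot, Set.mem_empty_iff_false, iff_false]
      intro hy
      exact hne ⟨y, hy⟩
    subst hV0
    haveI : Subsingleton Γ(f.normalization, f.fromNormalization ⁻¹ᵁ ⊥) := by
      rw [show f.fromNormalization ⁻¹ᵁ ⊥ = ⊥ from rfl]
      infer_instance
    constructor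
    · intro a b _
      exact Subsingleton.elim _ _
    · intro c
      exact ⟨0, Subsingleton.elim _ _⟩

end Groth.Agent.Lib.Helper26.ZmtBirB
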