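import Mathlib
import Groth.Agent.Lib.Helper26.ZmtBirC
import Groth.Agent.Lib.Helper26.RatExtB

set_option autoImplicit false
universe u

open CategoryTheory AlgebraicGeometry TopologicalSpace

namespace Groth.Agent.Lib.Helper26.ZmtBirD

open Groth.Agent.Lib.Helper26
open Groth.Agent.Lib.Helper29.QCoh.NormalNorm
open Groth.Agent.Lib.Helper18.SchDim Groth.Agent.Lib.Helper14.AS

theorem trdeg_genericPoint {X Y : Scheme.{u}} [IsIntegral X] [IsIntegral Y]
    (f : X ⟶ Y)
    (hgen : f.base (genericPoint X) = genericPoint Y)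
    (hsurj : Function.Surjective (fieldMap f hgen)) :
    @Algebra.trdeg (Y.residueField (f (genericPoint X))) (X.residueField (genericPoint X)) _ _
      (f.residueFieldMap (genericPoint X)).hom.toAlgebra = 0 := by
  letI := (f.residueFieldMap (genericPoint X)).hom.toAlgebra
  have hs : Function.Surjective (f.residueFieldMap (genericPoint X)).hom := by
    intro z
    obtain ⟨s, rfl⟩ := IsLocalRing.residue_surjective z
    obtain ⟨a, rfl⟩ := hsurj s
    refine ⟨(Y.residue (f (genericPoint X))).hom
      ((Y.presheaf.stalkSpecializes (specializes_of_eq hgen)).hom a), ?_⟩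
    have := congrArg (fun φ => φ.hom ((Y.presheaf.stalkSpecializes (specializes_of_eq hgen)).hom a))
      (Scheme.residue_residueFieldMap f (genericPoint X))
    simp only [CommRingCat.comp_apply] at this
    exact this
  haveI : Algebra.IsAlgebraic (Y.residueField (f (genericPoint X)))
      (X.residueField (genericPoint X)) := by
    constructor
    intro z
    obtain ⟨w, rfl⟩ := hs z
    exact isAlgebraic_algebraMap w
  exact _root_.trdeg_eq_zero

theorem trdeg_zero_of_curves {X Y : Scheme.{u}} [IsIntegral X] [IsIntegral Y]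
    [IsLocallyNoetherian Y]
    (f : X ⟶ Y) [LocallyOfFiniteType f]
    (hdimY : topologicalKrullDim Y ≤ 1)
    (hgen : f.base (genericPoint X) = genericPoint Y)
    (hsurj : Function.Surjective (fieldMap f hgen)) (x : X) :
    @Algebra.trdeg (Y.residueField (f x)) (X.residueField x) _ _
      (f.residueFieldMap x).hom.toAlgebra = 0 := by
  have h0 := trdeg_genericPoint f hgen hsurj
  by_cases hx : x = genericPoint X
  · rw [hx]; exact h0
  obtain ⟨n, hn⟩ := exists_nat_trdeg_residueField f x
  have hE : ∀ ξ : X, closure {ξ} ∈ irreducibleComponents ↥X → ξ ⤳ x →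
      @Algebra.trdeg (Y.residueField (f ξ)) (X.residueField ξ) _ _
        (f.residueFieldMap ξ).hom.toAlgebra ≤ ((0 : ℕ) : Cardinal) := by
    intro ξ hξ _
    have h1 : closure ({ξ} : Set X) = Set.univ := by
      rw [irreducibleComponents_eq_singleton] at hξ
      exact hξ
    have h2 : ξ = genericPoint X := ((genericPoint_spec X).eq h1).symm
    rw [h2, h0]
    simp
  have h1 := stalk_dim_inequality f x n 0 hn hE
  have h2 : ringKrullDim (Y.presheaf.stalk (f x)) ≤ 1 := by
    refine le_trans ?_ hdimY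
    rw [topologicalKrullDim_eq_iSup_stalk Y]
    exact le_iSup (fun y => ringKrullDim (Y.presheaf.stalk y)) (f x)
  have h3 : (1 : WithBot ℕ∞) ≤ ringKrullDim (X.presheaf.stalk x) := by
    rw [ringKrullDim_stalk_eq_coheight]
    have : Order.coheight x ≠ 0 := by
      intro h6
      rw [Order.coheight_eq_zero] at h6
      have hηx : genericPoint X ⤳ x := (genericPoint_spec X).specializes (Set.mem_univ x)
      have h7 : x ⤳ genericPoint X := h6 hηx
      exact hx (h7.antisymm hηx).eq
    have h8 : (1 : ℕ∞) ≤ Order.coheight x := Order.one_le_iff_ne_zero.mpr this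
    exact_mod_cast h8
  rw [hn]
  have h4 : (1 : WithBot ℕ∞) + (n : WithBot ℕ∞) ≤ 1 := by
    calc (1 : WithBot ℕ∞) + (n : WithBot ℕ∞) ≤ ringKrullDim (X.presheaf.stalk x) + n :=
          add_le_add h3 le_rfl
      _ ≤ ringKrullDim (Y.presheaf.stalk (f x)) + (0 : ℕ) := h1
      _ ≤ 1 := by simpa using h2
  have h5 : ((1 + n : ℕ) : WithBot ℕ∞) ≤ ((1 : ℕ) : WithBot ℕ∞) := by
    push_cast
    exact h4
  have h6 : 1 + n ≤ 1 := by exact_mod_cast h5
  have : n = 0 := by omega
  simp [this]

theorem main_14519 (k : Type u) [Field k] [IsAlgClosed k]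
    (X Y : Scheme.{u}) [X.Over (Spec (CommRingCat.of k))] [Y.Over (Spec (CommRingCat.of k))]
    [IsIntegral X] [IsSeparated (X ↘ (Spec (CommRingCat.of k)))] [LocallyOfFiniteType (X ↘ (Spec (CommRingCat.of k)))] [QuasiCompact (X ↘ (Spec (CommRingCat.of k)))] [Smooth (X ↘ (Spec (CommRingCat.of k)))] (hdimX : topologicalKrullDim X = 1)
    [IsIntegral Y] [IsSeparated (Y ↘ (Spec (CommRingCat.of k)))] [LocallyOfFiniteType (Y ↘ (Spec (CommRingCat.of k)))] [QuasiCompact (Y ↘ (Spec (CommRingCat.of k)))] [Smooth (Y ↘ (Spec (CommRingCat.of k)))] (hdimY : topologicalKrullDim Y = 1)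
    (f : X ⟶ Y) (hf : f ≫ (Y ↘ (Spec (CommRingCat.of k))) = (X ↘ (Spec (CommRingCat.of k))))
    (e : f (genericPoint X) = genericPoint Y)
    (hbir : Function.Bijective (Y.presheaf.stalkSpecializes (specializes_of_eq e) ≫ f.stalkMap (genericPoint X)).hom) :
    IsOpenImmersion f := by
  haveI : IsLocallyNoetherian Y :=
    LocallyOfFiniteType.isLocallyNoetherian (Y ↘ (Spec (CommRingCat.of k)))
  haveI : LocallyOfFiniteType (f ≫ (Y ↘ (Spec (CommRingCat.of k)))) := by rw [hf]; infer_instance
  haveI : LocallyOfFiniteType f := locallyOfFiniteType_of_comp f (Y ↘ (Spec (CommRingCat.of k)))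
  haveI : IsSeparated (f ≫ (Y ↘ (Spec (CommRingCat.of k)))) := by rw [hf]; infer_instance
  haveI : IsSeparated f := IsSeparated.of_comp f (Y ↘ (Spec (CommRingCat.of k)))
  haveI : QuasiCompact (f ≫ (Y ↘ (Spec (CommRingCat.of k)))) := by rw [hf]; infer_instance
  haveI : QuasiCompact f := QuasiCompact.of_comp f (Y ↘ (Spec (CommRingCat.of k)))
  have hsurj : Function.Surjective (fieldMap f e) := hbir.2
  haveI : LocallyQuasiFinite f := by
    apply LocallyQuasiFinite.of_finite_preimage_singleton
    intro y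
    exact ZmtBirC.finite_fibre_of_trdeg_zero f y
      (fun x _ => trdeg_zero_of_curves f hdimY.le e hsurj x)
  have hY : ∀ y : Y, IsIntegrallyClosed (Y.presheaf.stalk y) := fun y =>
    (RatExtB.stalk_normal (R := k) (Y ↘ (Spec (CommRingCat.of k))) y).2
  exact ZmtBirC.isOpenImmersion_of_birational f e hsurj hY

end Groth.Agent.Lib.Helper26.ZmtBirD
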